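import Groth.Statements.S14841
import Mathlib
import Groth.Agent.Lib.helper1.CoeffSpace

set_option autoImplicit false
universe u v w
open HopfRep

namespace Groth.Agent.S14841

open TensorProduct in
/-- Over a field K, let C be a coalgebra and E a simple right C-comodule, and let D be the coefficient
space of E, the least subspace D' of C such that the coaction of E lands in E ⊗ D'. Then D is a
simple subcoalgebra of C: it is nonzero, its comultiplication lands in the image of D ⊗ D, and any
subcoalgebra of C contained in D is 0 or D. Here a subcoalgebra of C is a subspace B whose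
comultiplication lands in the image of B ⊗ B, and a simple subcoalgebra is a nonzero subcoalgebra D
whose only subcoalgebras contained in D are 0 and D. (Stated for right comodules; the published
statement is for left comodules, with D' ⊗ E in place of E ⊗ D'.) -/
theorem result {K : Type u} {C : Type v} [Field K]
    [AddCommGroup C] [Module K C] [Coalgebra K C]
    {E : Type w} [AddCommGroup E] [Module K E] [HopfRep.Comod K C E]
    (hE : HopfRep.IsSimpleComod K C E) (D : Submodule K C)
    (hD : IsLeast {D' : Submodule K C |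
      ∀ e : E, HopfRep.Comod.coact (k := K) (A := C) e ∈ LinearMap.range (LinearMap.lTensor E D'.subtype)} D) :
    D ≠ ⊥ ∧ (∀ b ∈ D, CoalgebraStruct.comul (R := K) b ∈ LinearMap.range (TensorProduct.map D.subtype D.subtype)) ∧
      ∀ B : Submodule K C, B ≤ D → (∀ b ∈ B, CoalgebraStruct.comul (R := K) b ∈ LinearMap.range (TensorProduct.map B.subtype B.subtype)) → B = ⊥ ∨ B = D := by
  classical
  have h1 : D = Helper1.CoeffSpace.cf K C E := Helper1.CoeffSpace.eq_cf_of_isLeast D hD
  subst h1
  haveI : Nontrivial E := hE.1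
  refine ⟨Helper1.CoeffSpace.cf_ne_bot, fun b hb => Helper1.CoeffSpace.comul_mem_cf b hb, ?_⟩
  intro B hBD hB
  by_cases hB0 : B = ⊥
  · left; exact hB0
  right
  apply le_antisymm hBD
  apply hD.2
  show ∀ e : E, HopfRep.Comod.coact (k := K) (A := C) e ∈
    LinearMap.range (LinearMap.lTensor E B.subtype)
  have hBsub : HopfRep.IsSubcomod (k := K) (A := C) B := by
    intro b hb
    obtain ⟨z, hz⟩ := hB b hb
    refine ⟨B.subtype.lTensor B z, ?_⟩
    have h2 := LinearMap.congr_fun (LinearMap.rTensor_comp_lTensor _ B.subtype B.subtype) z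
    simp only [LinearMap.comp_apply] at h2
    rw [h2]
    exact hz
  obtain ⟨b, hbB, hb0⟩ : ∃ b ∈ B, b ≠ 0 := by
    by_contra hcon
    push Not at hcon
    exact hB0 ((Submodule.eq_bot_iff B).mpr hcon)
  obtain ⟨N, hNfin, hbN, hNsub⟩ :=
    Groth.Agent.Lib.helper4.h4_exists_finite_subcomod (k := K) (C := C) (V := C) b
  have hNB : HopfRep.IsSubcomod (k := K) (A := C) (N ⊓ B) := H9Comod.isSubcomod_inf hNsub hBsub
  haveI : FiniteDimensional K ↥N := hNfin
  obtain ⟨S, hSmem, hSmin⟩ := WellFounded.has_min
    (measure (fun S : Submodule K C => Module.finrank K S)).wf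
    {S : Submodule K C | HopfRep.IsSubcomod (k := K) (A := C) S ∧ S ≤ N ⊓ B ∧ S ≠ ⊥}
    ⟨N ⊓ B, hNB, le_rfl, fun h => hb0 (by
      have h3 : b ∈ N ⊓ B := ⟨hbN, hbB⟩
      rw [h] at h3
      exact (Submodule.mem_bot K).mp h3)⟩
  obtain ⟨hSsub, hSle, hSbot⟩ := hSmem
  haveI hSfin : FiniteDimensional K S :=
    Submodule.finiteDimensional_of_le (hSle.trans inf_le_left)
  letI cS : HopfRep.Comod K C ↥S := ComodSub.Comod.restr inferInstance S hSsub
  have hι : Hoch.IsComodHom C S.subtype := ComodSub.isComodHom_subtype _ S hSsub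
  have hSsimple : HopfRep.IsSimpleComod K C ↥S := by
    refine ⟨(Submodule.nontrivial_iff_ne_bot).mpr hSbot, ?_⟩
    intro W hW
    have hWm : HopfRep.IsSubcomod (k := K) (A := C) (W.map S.subtype) :=
      H9Comod.isSubcomod_map hι hW
    have hWle : W.map S.subtype ≤ S := by
      rintro _ ⟨x, _, rfl⟩; exact x.2
    by_cases hW0 : W.map S.subtype = ⊥
    · left
      refine (Submodule.eq_bot_iff W).mpr (fun x hx => Subtype.ext ?_)
      have h3 : (x : C) ∈ W.map S.subtype := ⟨x, hx, rfl⟩
      rw [hW0] at h3
      exact (Submodule.mem_bot K).mp h3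
    · right
      have h2 := hSmin (W.map S.subtype) ⟨hWm, hWle.trans hSle, hW0⟩
      have h3 : Module.finrank K S ≤ Module.finrank K (W.map S.subtype) := not_lt.mp h2
      have h4 : W.map S.subtype = S := Submodule.eq_of_le_of_finrank_le hWle h3
      rw [eq_top_iff]
      intro x _
      have h5 : (x : C) ∈ W.map S.subtype := by rw [h4]; exact x.2
      obtain ⟨y, hy, hyx⟩ := h5
      have h6 : y = x := Subtype.ext hyx
      rw [← h6]; exact hy
  have hu0 : S.subtype ≠ 0 := by
    intro h
    apply hSbot
    rw [Submodule.eq_bot_iff]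
    intro x hx
    have h3 := LinearMap.congr_fun h ⟨x, hx⟩
    simpa using h3
  have hle : LinearMap.range S.subtype ≤
      ⨆ f : E →ₗ[K] K, LinearMap.range (Helper1.CoeffSpace.mc (C := C) f) := by
    rw [Submodule.range_subtype]
    exact (hSle.trans inf_le_right).trans hBD
  obtain ⟨f, e₀, he₀⟩ := H9Comod.exists_iso_of_range_le_iSup_range hSsimple hι hu0
    (fun _ : E →ₗ[K] K => E) (fun _ => hE) (fun f => Helper1.CoeffSpace.mc (C := C) f)
    (fun f => Helper1.CoeffSpace.isComodHom_mc f) hle
  intro e'
  obtain ⟨s, rfl⟩ := e₀.surjective e'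
  have h5 : HopfRep.Comod.coact (k := K) (A := C) (e₀ s) =
      (e₀ : ↥S →ₗ[K] E).rTensor C (HopfRep.Comod.coact (k := K) (A := C) s) :=
    H9Comod.isComodHom_apply he₀ s
  have h6 : HopfRep.Comod.coact (k := K) (A := C) s ∈
      LinearMap.range (LinearMap.lTensor ↥S B.subtype) := by
    have hex := lTensor_exact ↥S (LinearMap.exact_subtype_mkQ B) (Submodule.mkQ_surjective B)
    rw [LinearMap.mem_range]
    refine (hex _).1 ?_
    have hinj : Function.Injective (S.subtype.rTensor (C ⧸ B)) :=
      Module.Flat.rTensor_preserves_injective_linearMap S.subtype (Submodule.injective_subtype S)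
    apply hinj
    rw [map_zero, ← Helper1.CoeffSpace.lTensor_rTensor_comm']
    have h7 : HopfRep.Comod.coact (k := K) (A := C) (S.subtype s) =
        S.subtype.rTensor C (HopfRep.Comod.coact (k := K) (A := C) s) :=
      H9Comod.isComodHom_apply hι s
    rw [← h7]
    obtain ⟨z, hz⟩ := hB (s : C) ((hSle.trans inf_le_right) s.2)
    have h8 : HopfRep.Comod.coact (k := K) (A := C) (S.subtype s) =
        TensorProduct.map B.subtype B.subtype z := hz.symm
    rw [h8, LinearMap.lTensor_map]
    have h9 : B.mkQ ∘ₗ B.subtype = 0 := by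
      ext x; simp
    rw [h9, TensorProduct.map_zero_right, LinearMap.zero_apply]
  obtain ⟨z, hz⟩ := h6
  refine ⟨(e₀ : ↥S →ₗ[K] E).rTensor ↥B z, ?_⟩
  rw [h5, ← hz, Helper1.CoeffSpace.lTensor_rTensor_comm']

end Groth.Agent.S14841
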