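import Groth.Statements.S14842
import Mathlib
import Groth.Agent.Lib.helper1.CoeffSpace2

set_option autoImplicit false
universe u v
open HopfRep

namespace Groth.Agent.S14842

open TensorProduct in
/-- Over a field K, every simple subcoalgebra D of a coalgebra C is the coefficient space of a simple
comodule. Precisely: there is a subspace E of C contained in D which is a simple subcomodule of the
regular right comodule C (E is nonzero, stable under the coaction, and its only subcomodules are 0
and E) and such that D is the least subspace D' of C with comul(E) inside the image of E ⊗ D'. Here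
a subcoalgebra of C is a subspace B whose comultiplication lands in the image of B ⊗ B, and a simple
subcoalgebra is a nonzero subcoalgebra D whose only subcoalgebras contained in D are 0 and D.
(Stated for right comodules; the published statement is for left comodules.) -/
theorem result {K : Type u} {C : Type v} [Field K]
    [AddCommGroup C] [Module K C] [Coalgebra K C]
    (D : Submodule K C) (hD0 : D ≠ ⊥) (hD : (∀ b ∈ D, CoalgebraStruct.comul (R := K) b ∈ LinearMap.range (TensorProduct.map D.subtype D.subtype)))
    (hDs : ∀ B : Submodule K C, B ≤ D → (∀ b ∈ B, CoalgebraStruct.comul (R := K) b ∈ LinearMap.range (TensorProduct.map B.subtype B.subtype)) → B = ⊥ ∨ B = D) :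
    ∃ E : Submodule K C, E ≤ D ∧ E ≠ ⊥ ∧ HopfRep.IsSubcomod (k := K) (A := C) E ∧
      (∀ E' : Submodule K C, E' ≤ E → HopfRep.IsSubcomod (k := K) (A := C) E' → E' = ⊥ ∨ E' = E) ∧
      IsLeast {D' : Submodule K C |
        ∀ e ∈ E, CoalgebraStruct.comul (R := K) e ∈ LinearMap.range (TensorProduct.map E.subtype D'.subtype)} D := by
  classical
  have hDsub : HopfRep.IsSubcomod (k := K) (A := C) D := by
    intro b hb
    obtain ⟨z, hz⟩ := hD b hb
    refine ⟨D.subtype.lTensor D z, ?_⟩
    have h2 := LinearMap.congr_fun (LinearMap.rTensor_comp_lTensor _ D.subtype D.subtype) z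
    simp only [LinearMap.comp_apply] at h2
    rw [h2]
    exact hz
  obtain ⟨b, hbD, hb0⟩ : ∃ b ∈ D, b ≠ 0 := by
    by_contra hcon
    push Not at hcon
    exact hD0 ((Submodule.eq_bot_iff D).mpr hcon)
  obtain ⟨N, hNfin, hbN, hNsub⟩ :=
    Groth.Agent.Lib.helper4.h4_exists_finite_subcomod (k := K) (C := C) (V := C) b
  have hND : HopfRep.IsSubcomod (k := K) (A := C) (N ⊓ D) := H9Comod.isSubcomod_inf hNsub hDsub
  haveI : FiniteDimensional K ↥N := hNfin
  obtain ⟨S, hSmem, hSmin⟩ := WellFounded.has_min
    (measure (fun S : Submodule K C => Module.finrank K S)).wf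
    {S : Submodule K C | HopfRep.IsSubcomod (k := K) (A := C) S ∧ S ≤ N ⊓ D ∧ S ≠ ⊥}
    ⟨N ⊓ D, hND, le_rfl, fun h => hb0 (by
      have h3 : b ∈ N ⊓ D := ⟨hbN, hbD⟩
      rw [h] at h3
      exact (Submodule.mem_bot K).mp h3)⟩
  obtain ⟨hSsub, hSle, hSbot⟩ := hSmem
  haveI hSfin : FiniteDimensional K S :=
    Submodule.finiteDimensional_of_le (hSle.trans inf_le_left)
  have hSD : S ≤ D := hSle.trans inf_le_right
  letI cS : HopfRep.Comod K C ↥S := ComodSub.Comod.restr inferInstance S hSsub
  have hι : Hoch.IsComodHom C S.subtype := ComodSub.isComodHom_subtype _ S hSsub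
  haveI : Nontrivial ↥S := (Submodule.nontrivial_iff_ne_bot).mpr hSbot
  have hinjS : Function.Injective (S.subtype.rTensor C) :=
    Module.Flat.rTensor_preserves_injective_linearMap S.subtype (Submodule.injective_subtype S)
  -- coaction of the restricted comodule lands in S ⊗ D
  have ha' : ∀ x : ↥S, HopfRep.Comod.coact (k := K) (A := C) x ∈
      LinearMap.range (LinearMap.lTensor ↥S D.subtype) := by
    intro x
    apply Helper1.CoeffSpace.mem_range_lTensor_of_rTensor_injective S.subtype
      (Submodule.injective_subtype S) D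
    rw [← H9Comod.isComodHom_apply hι x]
    obtain ⟨z, hz⟩ := hD (x : C) (hSD x.2)
    refine ⟨D.subtype.rTensor D z, ?_⟩
    have h2 := LinearMap.congr_fun (LinearMap.lTensor_comp_rTensor _ D.subtype D.subtype) z
    simp only [LinearMap.comp_apply] at h2
    rw [h2]
    exact hz
  have hcfD : Helper1.CoeffSpace.cf K C ↥S = D :=
    (hDs _ (Helper1.CoeffSpace.cf_le D ha')
      (fun b hb => Helper1.CoeffSpace.comul_mem_cf b hb)).resolve_left
      Helper1.CoeffSpace.cf_ne_bot
  refine ⟨S, hSD, hSbot, hSsub, ?_, ?_, ?_⟩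
  · intro E' hE'S hE'
    by_cases hE'0 : E' = ⊥
    · left; exact hE'0
    · right
      have h2 := hSmin E' ⟨hE', hE'S.trans hSle, hE'0⟩
      have h3 : Module.finrank K S ≤ Module.finrank K E' := not_lt.mp h2
      exact Submodule.eq_of_le_of_finrank_le hE'S h3
  · intro e he
    obtain ⟨z, hz⟩ := ha' ⟨e, he⟩
    refine ⟨z, ?_⟩
    have h7 : HopfRep.Comod.coact (k := K) (A := C) (S.subtype ⟨e, he⟩) =
        S.subtype.rTensor C (HopfRep.Comod.coact (k := K) (A := C) (⟨e, he⟩ : ↥S)) :=
      H9Comod.isComodHom_apply hι ⟨e, he⟩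
    have h2 := LinearMap.congr_fun (LinearMap.rTensor_comp_lTensor _ S.subtype D.subtype) z
    simp only [LinearMap.comp_apply] at h2
    rw [← h2, hz]
    exact h7.symm
  · intro D' hD'
    rw [← hcfD]
    apply Helper1.CoeffSpace.cf_le
    intro x
    obtain ⟨z, hz⟩ := hD' (x : C) x.2
    refine ⟨z, ?_⟩
    apply hinjS
    have h7 : HopfRep.Comod.coact (k := K) (A := C) (S.subtype x) =
        S.subtype.rTensor C (HopfRep.Comod.coact (k := K) (A := C) x) :=
      H9Comod.isComodHom_apply hι x
    rw [← h7]
    have h2 := LinearMap.congr_fun (LinearMap.rTensor_comp_lTensor _ S.subtype D'.subtype) z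
    simp only [LinearMap.comp_apply] at h2
    rw [h2]
    exact hz

end Groth.Agent.S14842
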