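import Groth.Statements.S0556
import Mathlib
import Groth.Agent.Lib.helper1.KrullAkizuki

set_option autoImplicit false
universe u
open CAlg

namespace Groth.Agent.S0556

open scoped Pointwise


/-- Any domain `A` sandwiched between a one-dimensional Noetherian domain `R` and a field `L` of finite
degree over the fraction field of `R` is itself Noetherian. -/
theorem result (R : Type u) [CommRing R]
    [IsDomain R] [IsNoetherianRing R] (hdim : ringKrullDim R = 1) (K L : Type u) [Field K] [Field L]
    [Algebra R K] [IsFractionRing R K] [Algebra K L] [FiniteDimensional K L] [Algebra R L]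
    [IsScalarTower R K L] (A : Type u) [CommRing A] [Algebra R A] [Algebra A L]
    [IsScalarTower R A L] (hA : Function.Injective (algebraMap A L)) :
    IsNoetherianRing A := by
  classical
  haveI : IsDomain A := Function.Injective.isDomain (algebraMap A L) hA
  have hdim' : ringKrullDim R ≤ 1 := le_of_eq hdim
  let b := Module.finBasis K L
  let ι : A →ₗ[R] (Fin (Module.finrank K L) → K) :=
    ((b.equivFun).restrictScalars R).toLinearMap ∘ₗ (IsScalarTower.toAlgHom R A L).toLinearMap
  have hι : Function.Injective ι := by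
    intro a a' h
    have h1 : b.equivFun (algebraMap A L a) = b.equivFun (algebraMap A L a') := h
    exact hA (b.equivFun.injective h1)
  haveI : Algebra.IsAlgebraic K L := Algebra.IsAlgebraic.of_finite K L
  haveI : Algebra.IsAlgebraic R L :=
    (IsFractionRing.comap_isAlgebraic_iff (A := R) (K := K) (C := L)).mpr inferInstance
  rw [isNoetherianRing_iff_ideal_fg]
  intro 𝔞
  by_cases h0 : 𝔞 = ⊥
  · rw [h0]; exact Submodule.fg_bot
  obtain ⟨y, hy𝔞, hy0⟩ := Submodule.exists_mem_ne_zero_of_ne_bot h0
  have hyalg : IsAlgebraic R y :=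
    (isAlgebraic_algebraMap_iff hA).mp (Algebra.IsAlgebraic.isAlgebraic (algebraMap A L y))
  have hcomap : 𝔞.comap (algebraMap R A) ≠ ⊥ :=
    Ideal.comap_ne_bot_of_algebraic_mem hy0 hy𝔞 hyalg
  obtain ⟨x, hx𝔞, hx0⟩ := Submodule.exists_mem_ne_zero_of_ne_bot hcomap
  rw [Ideal.mem_comap] at hx𝔞
  let M : Submodule R (Fin (Module.finrank K L) → K) := LinearMap.range ι
  let e : A ≃ₗ[R] M := LinearEquiv.ofInjective ι hι
  have hlen : Module.length R (QuotSMulTop x A) ≠ ⊤ := by
    rw [(QuotSMulTop.congr x e).length_eq]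
    have h1 := Helper1.KA.length_quot_le K (Module.finrank K L) M x hx0
    have h2 := Helper1.KA.length_quot_ne_top hdim' x hx0
    refine ne_top_of_le_ne_top ?_ h1
    obtain ⟨n0, hn0⟩ := ENat.ne_top_iff_exists.mp h2
    rw [← hn0, nsmul_eq_mul, ← Nat.cast_mul]; exact ENat.natCast_ne_top _
  have hfl : IsFiniteLength R (QuotSMulTop x A) := Module.length_ne_top_iff.mp hlen
  haveI hNoeth : IsNoetherian R (QuotSMulTop x A) :=
    (isFiniteLength_iff_isNoetherian_isArtinian.mp hfl).1
  let N : Submodule R (QuotSMulTop x A) :=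
    (𝔞.restrictScalars R).map (Submodule.mkQ (x • (⊤ : Submodule R A)))
  obtain ⟨t, ht⟩ := (IsNoetherian.noetherian N : N.FG)
  have hpre : ∀ q ∈ t, ∃ a : A, a ∈ 𝔞 ∧ (Submodule.Quotient.mk a : QuotSMulTop x A) = q := by
    intro q hq
    have hqN : q ∈ N := by rw [← ht]; exact Submodule.subset_span hq
    obtain ⟨a, ha, rfl⟩ := hqN
    exact ⟨a, ha, rfl⟩
  choose! g hg𝔞 hgq using hpre
  refine ⟨insert (algebraMap R A x) (t.image g), ?_⟩
  apply le_antisymm
  · rw [Ideal.span_le]
    intro z hz
    rw [Finset.coe_insert, Finset.coe_image] at hz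
    rcases hz with rfl | ⟨q, hq, rfl⟩
    · exact hx𝔞
    · exact hg𝔞 q hq
  · intro z hz
    have hzN : (Submodule.Quotient.mk z : QuotSMulTop x A) ∈ N := ⟨z, hz, rfl⟩
    rw [← ht] at hzN
    obtain ⟨c, -, hc⟩ := Submodule.mem_span_finset.mp hzN
    have hsum : (Submodule.mkQ (x • (⊤ : Submodule R A))) (∑ q ∈ t, c q • g q) =
        Submodule.mkQ (x • (⊤ : Submodule R A)) z := by
      rw [map_sum]
      rw [show Submodule.mkQ (x • (⊤ : Submodule R A)) z =
        (Submodule.Quotient.mk z : QuotSMulTop x A) from rfl, ← hc]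
      refine Finset.sum_congr rfl fun q hq => ?_
      rw [map_smul]
      show c q • (Submodule.Quotient.mk (g q) : QuotSMulTop x A) = c q • q
      rw [hgq q hq]
    have hdiff : (∑ q ∈ t, c q • g q) - z ∈ x • (⊤ : Submodule R A) :=
      (Submodule.Quotient.eq (x • (⊤ : Submodule R A))).mp hsum
    obtain ⟨a, -, ha⟩ := (Submodule.mem_smul_pointwise_iff_exists _ _ _).mp hdiff
    have hz_eq : z = (∑ q ∈ t, c q • g q) - x • a := by rw [ha]; abel
    rw [hz_eq]
    refine sub_mem (Ideal.sum_mem _ fun q hq => ?_) ?_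
    · rw [Algebra.smul_def]
      exact Ideal.mul_mem_left _ _ (Ideal.subset_span (by
        rw [Finset.coe_insert, Finset.coe_image]
        exact Or.inr ⟨q, hq, rfl⟩))
    · rw [Algebra.smul_def]
      exact Ideal.mul_mem_right _ _ (Ideal.subset_span (by
        rw [Finset.coe_insert]; exact Or.inl rfl))

end Groth.Agent.S0556
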