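import Groth.Statements.S0501
import Groth.Agent.Lib.helper1.Hensel

set_option autoImplicit false
universe u
open Hensel

namespace Groth.Agent.S0501

/-- Let `S` be a henselian local ring over a ring `R`, let `A` be an étale `R`-algebra with a prime `q`,
and let `τ` be a ring map from the residue field of `q` to the residue field of `S` compatible with
the two structure maps from `R`. Then there is exactly one `R`-algebra map from `A` to `S` pulling
the maximal ideal back to `q` and inducing `τ`. -/
theorem result (R : Type u) [CommRing R]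
    (S : Type u) [CommRing S] [HenselianLocalRing S] [Algebra R S]
    (A : Type u) [CommRing A] [Algebra R A] [Algebra.Etale R A] (q : Ideal A) [q.IsPrime]
    (τ : q.ResidueField →+* IsLocalRing.ResidueField S)
    (hτ : τ.comp (algebraMap R q.ResidueField) = (IsLocalRing.residue S).comp (algebraMap R S)) :
    ∃! f : A →ₐ[R] S, Ideal.comap f.toRingHom (IsLocalRing.maximalIdeal S) = q ∧
      ∀ a : A, IsLocalRing.residue S (f a) = τ (algebraMap A q.ResidueField a) := by
  classical
  open Polynomial IsLocalRing in
  haveI : Algebra.IsEtaleAt R q := inferInstance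
  obtain ⟨g, hgq, hstd⟩ := Algebra.IsEtaleAt.exists_isStandardEtale (R := R) q
  let P : StandardEtalePresentation R (Localization.Away g) :=
    hstd.nonempty_standardEtalePresentation.some
  have hτinj : Function.Injective τ := τ.injective
  let θ : A →ₐ[R] ResidueField S :=
    { τ.comp (algebraMap A q.ResidueField) with
      commutes' := fun r => by
        have := congrArg (fun φ => φ r) hτ
        simp only [RingHom.comp_apply] at this
        change τ (algebraMap A q.ResidueField (algebraMap R A r)) = _
        rw [← IsScalarTower.algebraMap_apply R A q.ResidueField, this]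
        rfl }
  have hθ : ∀ a, θ a = τ (algebraMap A q.ResidueField a) := fun a => rfl
  have hθg : IsUnit (θ g) := by
    rw [isUnit_iff_ne_zero, hθ, Ne, map_eq_zero_iff τ hτinj, Ideal.algebraMap_residueField_eq_zero]
    exact hgq
  let θ' : Localization.Away g →ₐ[R] ResidueField S := IsLocalization.Away.liftAlgHom g hθg
  have hθ' : ∀ a, θ' (algebraMap A (Localization.Away g) a) = θ a :=
    fun a => IsLocalization.Away.lift_eq g hθg a
  set xb := θ' P.x with hxb
  have hmapb : P.HasMap xb := P.hasMap.map θ'
  set F := P.f.map (algebraMap R S) with hF_def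
  have hF : F.Monic := P.monic_f.map _
  have h1 : aeval xb F = 0 := by rw [hF_def, aeval_map_algebraMap]; exact hmapb.1
  have h2 : aeval xb (derivative F) ≠ 0 := by
    rw [hF_def, derivative_map, aeval_map_algebraMap]
    exact hmapb.isUnit_derivative_f.ne_zero
  have hH : HenselianLocalRing S := inferInstance
  have hT := ((HenselianLocalRing.TFAE S).out 0 1).mp hH
  obtain ⟨x, hx, hxres⟩ := hT F hF xb h1 h2
  let resₐ : S →ₐ[R] ResidueField S := IsScalarTower.toAlgHom R S _
  have hres : ∀ s, resₐ s = residue S s := fun s => rfl
  -- general facts about roots of F with residue xb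
  have hHas : ∀ y : S, F.IsRoot y → residue S y = xb → P.HasMap y := by
    intro y hy hyres
    refine ⟨?_, ?_⟩
    · rw [aeval_def, eval₂_eq_eval_map]; exact hy
    · apply isUnit_of_map_unit (residue S)
      have : residue S (aeval y P.g) = aeval xb P.g := by
        rw [← hyres]; exact (aeval_algHom_apply resₐ y P.g).symm
      rw [this]; exact hmapb.2
  have hder : ∀ y : S, residue S y = xb → IsUnit (F.derivative.eval y) := by
    intro y hyres
    apply isUnit_of_map_unit (residue S)
    have : residue S (F.derivative.eval y) = aeval xb (derivative F) := by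
      rw [← hyres, aeval_def, ResidueField.algebraMap_eq, eval₂_at_apply]
    rw [this]; exact isUnit_iff_ne_zero.mpr h2
  have hxHas : P.HasMap x := hHas x hx hxres
  let ψ : P.Ring →ₐ[R] S := P.lift x hxHas
  let ft : Localization.Away g →ₐ[R] S := ψ.comp P.equivRing.toAlgHom
  let f : A →ₐ[R] S := ft.comp (IsScalarTower.toAlgHom R A (Localization.Away g))
  have e1 : resₐ.comp ψ = θ'.comp P.equivRing.symm.toAlgHom := by
    apply StandardEtalePair.hom_ext
    change resₐ (ψ P.X) = θ' (P.equivRing.symm P.X)
    rw [StandardEtalePair.lift_X, P.equivRing_symm_X, hres, hxres]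
  have key : ∀ y, residue S (ft y) = θ' y := by
    intro y
    have := congrArg (fun φ => φ (P.equivRing y)) e1
    simp only [AlgHom.comp_apply] at this
    change resₐ (ψ (P.equivRing y)) = _
    rw [this]
    change θ' (P.equivRing.symm (P.equivRing y)) = _
    rw [AlgEquiv.symm_apply_apply]
  have hfprop : ∀ a : A, residue S (f a) = τ (algebraMap A q.ResidueField a) := by
    intro a
    change residue S (ft (algebraMap A _ a)) = _
    rw [key, hθ', hθ]
  have hcomap : ∀ (f' : A →ₐ[R] S), (∀ a : A, residue S (f' a) = τ (algebraMap A q.ResidueField a)) →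
      Ideal.comap f'.toRingHom (maximalIdeal S) = q := by
    intro f' hf'
    ext a
    rw [Ideal.mem_comap, ← residue_eq_zero_iff]
    change residue S (f' a) = 0 ↔ _
    rw [hf', map_eq_zero_iff τ hτinj, Ideal.algebraMap_residueField_eq_zero]
  refine ⟨f, ⟨hcomap f hfprop, hfprop⟩, ?_⟩
  rintro f₂ ⟨-, hf₂⟩
  -- uniqueness
  have hf₂g : IsUnit (f₂ g) := by
    apply isUnit_of_map_unit (residue S)
    rw [hf₂, ← hθ]; exact hθg
  let ft₂ : Localization.Away g →ₐ[R] S := IsLocalization.Away.liftAlgHom g hf₂g
  have hft₂ : ∀ a, ft₂ (algebraMap A (Localization.Away g) a) = f₂ a :=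
    fun a => IsLocalization.Away.lift_eq g hf₂g a
  have key₂ : ∀ y, residue S (ft₂ y) = θ' y := by
    have : (resₐ.comp ft₂).toRingHom = θ'.toRingHom := by
      apply IsLocalization.ringHom_ext (Submonoid.powers g)
      ext a
      change residue S (ft₂ (algebraMap A _ a)) = θ' (algebraMap A _ a)
      rw [hft₂, hf₂, hθ', hθ]
    intro y
    exact congrArg (fun φ => φ y) this
  set x₂ := ft₂ P.x with hx₂
  have hx₂Has : P.HasMap x₂ := P.hasMap.map ft₂
  have hx₂root : F.IsRoot x₂ := by
    have := hx₂Has.1
    rwa [aeval_def, eval₂_eq_eval_map] at this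
  have hx₂res : residue S x₂ = xb := key₂ P.x
  have hxx : x₂ = x := by
    have hmem : x₂ - x ∈ maximalIdeal S := by
      rw [← residue_eq_zero_iff, map_sub, hx₂res, hxres, sub_self]
    have := Helper1.root_sub_mem (I := (⊥ : Ideal S)) (K := maximalIdeal S)
      (IsLocalRing.maximalIdeal_le_jacobson _) F hx₂root hmem (hder x hxres)
      (by rw [Ideal.mem_bot]; exact hx)
    rw [Ideal.mem_bot] at this
    exact sub_eq_zero.mp this
  have hftt : ft₂ = ft := by
    have e2 : ft₂.comp P.equivRing.symm.toAlgHom = ψ := by
      apply StandardEtalePair.hom_ext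
      change ft₂ (P.equivRing.symm P.X) = ψ P.X
      rw [P.equivRing_symm_X, StandardEtalePair.lift_X, ← hx₂, hxx]
    apply AlgHom.ext
    intro y
    have := congrArg (fun φ => φ (P.equivRing y)) e2
    simp only [AlgHom.comp_apply] at this
    change ft₂ (P.equivRing.symm (P.equivRing y)) = _ at this
    rw [AlgEquiv.symm_apply_apply] at this
    exact this
  ext a
  change f₂ a = ft (algebraMap A _ a)
  rw [← hftt, hft₂]

end Groth.Agent.S0501
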