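import Groth.Statements.S0503
import Mathlib
import Groth.Agent.Lib.helper1.HenselSplit

set_option autoImplicit false
universe u
open Hensel

namespace Groth.Agent.S0503

/-- A finite-type quasi-finite algebra `S` over a henselian local ring `R` contains an idempotent `e`
such that `S/(1-e)` is finitely generated as an `R`-module and the maximal ideal of `R` generates
the unit ideal of `S/(e)`; in other words `S` is a product of a module-finite algebra and an algebra
whose fibre over the closed point is empty. -/
theorem result (R : Type u) [CommRing R] [HenselianLocalRing R]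
    (S : Type u) [CommRing S] [Algebra R S] [Algebra.FiniteType R S] [Algebra.QuasiFinite R S] :
    ∃ e : S, IsIdempotentElem e ∧ Module.Finite R (S ⧸ Ideal.span ({1 - e} : Set S)) ∧
      Ideal.map (algebraMap R (S ⧸ Ideal.span ({e} : Set S))) (IsLocalRing.maximalIdeal R) = ⊤ := by
  classical
  open IsLocalRing in
  have hfinite : ((maximalIdeal R).primesOver S).Finite :=
    Algebra.QuasiFinite.finite_primesOver (maximalIdeal R)
  obtain ⟨ε, hε, hεQ, hfin⟩ := Helper1.exists_idem_finite_of_finset (R := R) hfinite.toFinset
    (by
      intro q hq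
      rw [Set.Finite.mem_toFinset] at hq
      haveI : q.IsPrime := hq.1
      haveI : q.LiesOver (maximalIdeal R) := hq.2
      exact Helper1.exists_idem_finite_of_quasiFiniteAt R S q)
  refine ⟨ε, hε, hfin, ?_⟩
  by_contra hne
  obtain ⟨N, hN, hle⟩ := Ideal.exists_le_maximal _ hne
  haveI : N.IsPrime := hN.isPrime
  set N' : Ideal S := N.comap (Ideal.Quotient.mk (Ideal.span {ε})) with hN'
  haveI : N'.IsPrime := Ideal.comap_isPrime _ _
  have hεN' : ε ∈ N' := by
    rw [hN', Ideal.mem_comap]
    have : Ideal.Quotient.mk (Ideal.span {ε}) ε = 0 :=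
      Ideal.Quotient.eq_zero_iff_mem.mpr (Ideal.mem_span_singleton_self _)
    rw [this]
    exact N.zero_mem
  have hunder : maximalIdeal R = N'.under R := by
    have hle' : maximalIdeal R ≤ N'.under R := by
      intro r hr
      rw [Ideal.under, Ideal.mem_comap, hN', Ideal.mem_comap]
      exact hle (Ideal.mem_map_of_mem _ hr)
    have hne' : N'.under R ≠ ⊤ := by
      intro htop
      have h1 : (1 : R) ∈ N'.under R := by rw [htop]; trivial
      rw [Ideal.under, Ideal.mem_comap, map_one] at h1
      exact (inferInstance : N'.IsPrime).ne_top ((Ideal.eq_top_iff_one _).mpr h1)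
    exact (maximalIdeal.isMaximal R).eq_of_le hne' hle'
  have hmem : N' ∈ hfinite.toFinset := by
    rw [Set.Finite.mem_toFinset]
    exact ⟨inferInstance, ⟨hunder⟩⟩
  exact hεQ N' hmem hεN'

end Groth.Agent.S0503
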