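import Groth.Statements.S0521
import Mathlib
import Groth.Agent.Lib.helper1.HenselIdem

set_option autoImplicit false
universe u
open Hensel

namespace Groth.Agent.S0521

/-- `A` is Henselian at `I` exactly when, for every `A`-algebra `B` finitely generated as an `A`-module,
reduction modulo `IB` is a bijection from the idempotents of `B` to the idempotents of `B/IB`. -/
theorem result (A : Type u) [CommRing A] (I : Ideal A) :
    HenselianRing A I ↔ ∀ (B : Type u) [CommRing B] [Algebra A B], Module.Finite A B →
      Set.BijOn (Ideal.Quotient.mk (Ideal.map (algebraMap A B) I))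
        {e : B | IsIdempotentElem e} {e | IsIdempotentElem e} := by
  constructor
  · intro h B _ _ hfin
    have hint : Algebra.IsIntegral A B := Algebra.IsIntegral.of_finite A B
    refine ⟨fun e he => he.map (Ideal.Quotient.mk _), ?_, ?_⟩
    · intro e he e' he' heq
      exact Helper1.idempotent_eq_of_sub_mem_jacobson he he'
        (Helper1.map_le_jacobson_of_isIntegral I h.jac B (Ideal.Quotient.eq.mp heq))
    · intro eb heb
      obtain ⟨b, rfl⟩ := Ideal.Quotient.mk_surjective eb
      have hb : b * b - b ∈ Ideal.map (algebraMap A B) I := by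
        rw [← Ideal.Quotient.eq, map_mul]
        exact heb
      obtain ⟨e, he, hee⟩ := Helper1.exists_idempotent_lift_of_gabber I
        (Helper1.gabberCond_of_henselianRing I) b hb
      exact ⟨e, he, Ideal.Quotient.eq.mpr hee⟩
  · intro h
    have hjac : I ≤ Ideal.jacobson ⊥ := by
      intro x hx
      rw [Ideal.mem_jacobson_bot]
      intro y
      have hB := h (A ⧸ Ideal.span {x * y + 1}) inferInstance
      have h1 : (1 : A ⧸ Ideal.span {x * y + 1}) ∈
          Ideal.map (algebraMap A (A ⧸ Ideal.span {x * y + 1})) I := by
        have h2 : (1 : A ⧸ Ideal.span {x * y + 1}) =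
            algebraMap A (A ⧸ Ideal.span {x * y + 1}) x *
              (- algebraMap A (A ⧸ Ideal.span {x * y + 1}) y) := by
          have h3 : algebraMap A (A ⧸ Ideal.span {x * y + 1}) (x * y + 1) = 0 := by
            rw [Ideal.Quotient.algebraMap_eq, Ideal.Quotient.eq_zero_iff_mem]
            exact Ideal.mem_span_singleton_self _
          rw [map_add, map_mul, map_one] at h3
          linear_combination h3
        rw [h2]
        exact Ideal.mul_mem_right _ _ (Ideal.mem_map_of_mem _ hx)
      have h4 : (1 : A ⧸ Ideal.span {x * y + 1}) = 0 :=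
        hB.injOn (IsIdempotentElem.one) (IsIdempotentElem.zero)
          (by rw [Ideal.Quotient.eq, sub_zero]; exact h1)
      have h5 : Ideal.span {x * y + 1} = (⊤ : Ideal A) := by
        rw [← Ideal.Quotient.subsingleton_iff]
        exact subsingleton_of_zero_eq_one h4.symm
      exact Ideal.span_singleton_eq_top.mp h5
    refine Helper1.henselianRing_of_idempotent_lift I hjac ?_
    intro f hf b hb
    have hB := h (AdjoinRoot f) hf.finite_adjoinRoot
    have hbi : IsIdempotentElem (Ideal.Quotient.mk (Ideal.map (algebraMap A (AdjoinRoot f)) I) b) := by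
      change _ * _ = _
      rw [← map_mul, Ideal.Quotient.eq]
      exact hb
    obtain ⟨e, he, hee⟩ := hB.surjOn hbi
    exact ⟨e, he, Ideal.Quotient.eq.mp hee⟩

end Groth.Agent.S0521
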