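import Groth.Statements.S0522
import Mathlib
import Groth.Agent.Lib.helper1.HenselIdem2
import Groth.Agent.S0521

set_option autoImplicit false
universe u
open Hensel

namespace Groth.Agent.S0522

/-- `A` is Henselian at `I` exactly when, for every integral `A`-algebra `B`, reduction modulo `IB` is a
bijection from the idempotents of `B` to the idempotents of `B/IB`. -/
theorem result (A : Type u) [CommRing A] (I : Ideal A) :
    HenselianRing A I ↔ ∀ (B : Type u) [CommRing B] [Algebra A B], Algebra.IsIntegral A B →
      Set.BijOn (Ideal.Quotient.mk (Ideal.map (algebraMap A B) I))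
        {e : B | IsIdempotentElem e} {e | IsIdempotentElem e} := by
  constructor
  · intro h B _ _ hint
    refine ⟨fun e he => he.map (Ideal.Quotient.mk _), ?_, ?_⟩
    · intro e he e' he' heq
      exact Helper1.idempotent_eq_of_sub_mem_jacobson he he'
        (Helper1.map_le_jacobson_of_isIntegral I h.jac B (Ideal.Quotient.eq.mp heq))
    · intro eb heb
      obtain ⟨b, rfl⟩ := Ideal.Quotient.mk_surjective eb
      have hb : b * b - b ∈ Ideal.map (algebraMap A B) I := by
        rw [← Ideal.Quotient.eq, map_mul]
        exact heb
      obtain ⟨e, he, hee⟩ := Helper1.exists_idempotent_lift_of_gabber_of_isIntegral I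
        (Helper1.gabberCond_of_henselianRing I) b hb
      exact ⟨e, he, Ideal.Quotient.eq.mpr hee⟩
  · intro h
    refine (Groth.Agent.S0521.result A I).mpr ?_
    intro B _ _ hfin
    exact h B (Algebra.IsIntegral.of_finite A B)

end Groth.Agent.S0522
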