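import Groth.Statements.S0508
import Groth.Agent.Lib.helper1.HensLocal

set_option autoImplicit false
universe u
open Hensel

namespace Groth.Agent.S0508

/-- The henselization of a local ring induces an isomorphism on residue fields. -/
theorem result (R : Type u) [CommRing R] [IsLocalRing R] (S : Type u) [CommRing S] [IsLocalRing S]
    [Algebra R S] [IsLocalHom (algebraMap R S)] [Hensel.IsHenselization R S] :
    Function.Bijective (IsLocalRing.ResidueField.map (algebraMap R S)) := by
  have hS := Helper1.isPairHenselization_of_isHenselization R S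
  obtain ⟨-, hs, -⟩ := Helper1.pairHenselization_flat_and_quotient S hS 1
  rw [pow_one] at hs
  have hmax := Helper1.maximalIdeal_eq_map_of R S hs
  refine ⟨RingHom.injective _, fun y => ?_⟩
  obtain ⟨b, rfl⟩ := IsLocalRing.residue_surjective y
  obtain ⟨a, ha⟩ := hs b
  refine ⟨IsLocalRing.residue R a, ?_⟩
  rw [IsLocalRing.ResidueField.map_residue]
  symm
  rw [← sub_eq_zero, ← map_sub, IsLocalRing.residue_eq_zero_iff, ← hmax]
  exact ha

end Groth.Agent.S0508
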