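import Groth.Statements.S0300


set_option autoImplicit false
universe u v
open InjHull

namespace Groth.Agent.S0300

/-- Over a Noetherian ring, injectivity of modules is preserved under arbitrary direct sums. -/
theorem result (R : Type u) [CommRing R] [IsNoetherianRing R] {ι : Type u} (E : ι → Type u) [∀ i, AddCommGroup (E i)] [∀ i, Module R (E i)] (hE : ∀ i, Module.Injective R (E i)) : Module.Injective R (DirectSum ι E) := by
  classical
  apply Module.Baer.injective
  intro I g
  obtain ⟨t, ht⟩ := (Module.Finite.fg_top : (⊤ : Submodule R I).FG)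
  let S : Finset ι := t.biUnion (fun a => DFinsupp.support (g a))
  have hS : ∀ i, i ∉ S → (DirectSum.component R ι E i) ∘ₗ g = 0 := by
    intro i hi
    apply LinearMap.ext_on ht
    intro a ha
    rw [LinearMap.comp_apply, LinearMap.zero_apply, ← DirectSum.apply_eq_component]
    by_contra hne
    apply hi
    rw [Finset.mem_biUnion]
    exact ⟨a, Finset.mem_coe.mp ha, DFinsupp.mem_support_iff.mpr hne⟩
  choose h hh using fun i => Module.Baer.of_injective (hE i) I ((DirectSum.component R ι E i) ∘ₗ g)
  refine ⟨∑ i ∈ S, (DirectSum.lof R ι E i) ∘ₗ (h i), fun x mem => ?_⟩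
  apply DirectSum.ext_component R
  intro j
  rw [LinearMap.sum_apply, map_sum]
  by_cases hj : j ∈ S
  · rw [Finset.sum_eq_single j]
    · rw [LinearMap.comp_apply, DirectSum.component.lof_self, hh j x mem, LinearMap.comp_apply]
    · intro i _ hij
      rw [LinearMap.comp_apply, DirectSum.lof_eq_of, ← DirectSum.apply_eq_component,
        DirectSum.of_eq_of_ne _ _ _ (Ne.symm hij)]
    · intro hj'; exact absurd hj hj'
  · rw [Finset.sum_eq_zero]
    · have h2 := LinearMap.congr_fun (hS j hj) ⟨x, mem⟩
      rw [LinearMap.comp_apply, LinearMap.zero_apply] at h2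
      exact h2.symm
    · intro i hi
      have hij : i ≠ j := fun e => hj (e ▸ hi)
      rw [LinearMap.comp_apply, DirectSum.lof_eq_of, ← DirectSum.apply_eq_component,
        DirectSum.of_eq_of_ne _ _ _ (Ne.symm hij)]

end Groth.Agent.S0300
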