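import Groth.Statements.S0301


set_option autoImplicit false
universe u v
open InjHull

namespace Groth.Agent.S0301

/-- Over a Noetherian ring, the submodule of an injective module consisting of the elements killed by
some power of a given ideal is again injective. -/
theorem result (R : Type u) [CommRing R] [IsNoetherianRing R] (I : Type u) [AddCommGroup I] [Module R I] (hI : Module.Injective R I) (J : Ideal R) : Module.Injective R ↥(⨆ n : ℕ, Submodule.torsionBySet R I ((J ^ n : Ideal R) : Set R)) := by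
  classical
  set T : Submodule R I := ⨆ n : ℕ, Submodule.torsionBySet R I ((J ^ n : Ideal R) : Set R) with hT
  have hmono : Monotone (fun n : ℕ => Submodule.torsionBySet R I ((J ^ n : Ideal R) : Set R)) := by
    intro m n hmn x hx
    rw [Submodule.mem_torsionBySet_iff] at hx ⊢
    intro a
    exact hx ⟨a.1, Ideal.pow_le_pow_right hmn a.2⟩
  have hmemT : ∀ x : I, x ∈ T ↔ ∃ n, x ∈ Submodule.torsionBySet R I ((J ^ n : Ideal R) : Set R) :=
    fun x => Submodule.mem_iSup_of_directed _ hmono.directed_le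
  apply Module.Baer.injective
  intro 𝔞 g
  choose nn hnn using fun y : 𝔞 => (hmemT (g y : I)).mp (g y).2
  obtain ⟨t, ht⟩ := (Module.Finite.fg_top : (⊤ : Submodule R 𝔞).FG)
  obtain ⟨n, hn⟩ : ∃ n, ∀ y : 𝔞, (g y : I) ∈ Submodule.torsionBySet R I ((J ^ n : Ideal R) : Set R) := by
    refine ⟨t.sup nn, ?_⟩
    have hle : Submodule.span R (t : Set 𝔞) ≤ Submodule.comap (T.subtype ∘ₗ g)
        (Submodule.torsionBySet R I ((J ^ (t.sup nn) : Ideal R) : Set R)) := by
      rw [Submodule.span_le]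
      intro a ha
      exact hmono (Finset.le_sup (Finset.mem_coe.mp ha)) (hnn a)
    intro y
    exact hle (by rw [ht]; trivial)
  obtain ⟨k, hk⟩ := Ideal.exists_pow_inf_eq_pow_smul J (𝔞 : Submodule R R)
  have hkey : ∀ (x : R) (hx : x ∈ 𝔞), x ∈ J ^ (n + k) → g ⟨x, hx⟩ = 0 := by
    intro x hx hxJ
    have h1 : x ∈ J ^ (n + k) • (⊤ : Submodule R R) ⊓ 𝔞 := by
      rw [Submodule.mem_inf]
      refine ⟨?_, hx⟩
      have : x • (1 : R) ∈ J ^ (n + k) • (⊤ : Submodule R R) :=
        Submodule.smul_mem_smul hxJ Submodule.mem_top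
      have e1 : x • (1 : R) = x := by rw [smul_eq_mul, mul_one]
      rw [e1] at this
      exact this
    rw [hk (n + k) (Nat.le_add_left k n), Nat.add_sub_cancel] at h1
    have h2 : ∃ hx' : x ∈ 𝔞, g ⟨x, hx'⟩ = 0 := by
      refine Submodule.smul_induction_on (p := fun x => ∃ hx' : x ∈ 𝔞, g ⟨x, hx'⟩ = 0) h1 ?_ ?_
      · intro r hr y hy
        have hy' : y ∈ 𝔞 := (Submodule.mem_inf.mp hy).2
        refine ⟨𝔞.smul_mem r hy', ?_⟩
        have e : (⟨r • y, 𝔞.smul_mem r hy'⟩ : 𝔞) = r • ⟨y, hy'⟩ := rfl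
        rw [e, map_smul]
        apply Subtype.ext
        rw [Submodule.coe_smul, Submodule.coe_zero]
        exact ((Submodule.mem_torsionBySet_iff _ _).mp (hn ⟨y, hy'⟩)) ⟨r, hr⟩
      · rintro a b ⟨ha, ha'⟩ ⟨hb, hb'⟩
        refine ⟨𝔞.add_mem ha hb, ?_⟩
        have e : (⟨a + b, 𝔞.add_mem ha hb⟩ : 𝔞) = ⟨a, ha⟩ + ⟨b, hb⟩ := rfl
        rw [e, map_add, ha', hb', add_zero]
    obtain ⟨_, h3⟩ := h2
    exact h3
  set m := n + k with hm
  let φ := (Submodule.mkQ (J ^ m : Ideal R)) ∘ₗ (Submodule.subtype 𝔞)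
  have hker : LinearMap.ker φ ≤ LinearMap.ker g := by
    intro y hy
    rw [LinearMap.mem_ker] at hy ⊢
    have hy2 : (Submodule.Quotient.mk (y : R) : R ⧸ (J ^ m : Ideal R)) = 0 := hy
    rw [Submodule.Quotient.mk_eq_zero] at hy2
    exact hkey y.1 y.2 hy2
  let gbar := (LinearMap.ker φ).liftQ g hker
  let φbar := (LinearMap.ker φ).liftQ φ le_rfl
  have hφbar : Function.Injective φbar := by
    rw [← LinearMap.ker_eq_bot]
    exact Submodule.ker_liftQ_eq_bot _ _ _ le_rfl
  obtain ⟨ψ, hψ⟩ := Module.Injective.extension_property R I _ _ φbar hφbar (T.subtype ∘ₗ gbar)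
  have hψT : ∀ z, ψ z ∈ T := by
    intro z
    rw [hmemT]
    refine ⟨m, ?_⟩
    rw [Submodule.mem_torsionBySet_iff]
    intro a
    obtain ⟨r, rfl⟩ := Submodule.Quotient.mk_surjective _ z
    rw [← map_smul, ← Submodule.Quotient.mk_smul]
    have h0 : (Submodule.Quotient.mk ((a : R) • r) : R ⧸ (J ^ m : Ideal R)) = 0 := by
      rw [Submodule.Quotient.mk_eq_zero]
      exact Ideal.mul_mem_right _ _ a.2
    rw [h0, map_zero]
  refine ⟨LinearMap.codRestrict T (ψ ∘ₗ Submodule.mkQ (J ^ m : Ideal R)) (fun x => hψT _), fun x mem => ?_⟩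
  apply Subtype.ext
  rw [LinearMap.codRestrict_apply]
  have h1 := LinearMap.congr_fun hψ (Submodule.Quotient.mk ⟨x, mem⟩)
  exact h1

end Groth.Agent.S0301
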