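import Groth.Statements.S0311
import Groth.Agent.Lib.helper1.InjHullMain
import Groth.Agent.S0301

set_option autoImplicit false
universe u v
open Matlis

namespace Groth.Agent.S0311

/-- Over a Noetherian local ring, every element of an injective hull E of the residue field is killed by
some power of the maximal ideal (E is the union of the E[m^n]). (The source also identifies E[m^n]
with an injective hull of the residue field over R/m^n; not stated here.) -/
theorem result (R : Type u) [CommRing R] [IsLocalRing R] [IsNoetherianRing R] (E : Type u) [AddCommGroup E] [Module R E] (f : IsLocalRing.ResidueField R →ₗ[R] E) (hf : InjHull.IsInjectiveHull f) : LocCoh.IsPowerTorsion (IsLocalRing.maximalIdeal R) E := by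
  haveI := hf.isInjective
  obtain ⟨hfi, hfe⟩ := (Helper1.isEssentialInj_iff f).mp hf.toIsEssentialInj
  set 𝔪 := IsLocalRing.maximalIdeal R with h𝔪
  set T : Submodule R E := ⨆ n : ℕ, Submodule.torsionBySet R E ((𝔪 ^ n : Ideal R) : Set R) with hT
  have hTinj : Module.Injective R T := Groth.Agent.S0301.result R E hf.isInjective 𝔪
  have hmono : Monotone (fun n : ℕ => Submodule.torsionBySet R E ((𝔪 ^ n : Ideal R) : Set R)) := by
    intro m n hmn x hx
    rw [Submodule.mem_torsionBySet_iff] at hx ⊢
    intro a
    exact hx ⟨a.1, Ideal.pow_le_pow_right hmn a.2⟩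
  have hrange : LinearMap.range f ≤ T := by
    rintro _ ⟨c, rfl⟩
    apply Submodule.mem_iSup_of_mem 1
    rw [Submodule.mem_torsionBySet_iff]
    intro a
    have ha : (a : R) ∈ 𝔪 := (pow_one 𝔪).le a.2
    rw [← map_smul]
    have h0 : (a : R) • c = 0 := by
      rw [Algebra.smul_def, IsLocalRing.ResidueField.algebraMap_eq,
        (IsLocalRing.residue_eq_zero_iff _).mpr ha, zero_mul]
    rw [h0, map_zero]
  have htop : (⊤ : Submodule R E) = T := by
    refine (Helper1.injective_iff_no_essential_extension E T).mp hTinj ⊤ le_top ?_
    intro N _ hN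
    have h1 := (Helper1.isEss_iff f).mp hfe N hN
    intro hbot
    apply h1
    rw [eq_bot_iff, ← hbot]
    exact inf_le_inf_left N hrange
  intro y
  have hy : y ∈ T := by rw [← htop]; exact Submodule.mem_top
  obtain ⟨n, hn⟩ := (Submodule.mem_iSup_of_directed _ hmono.directed_le).mp hy
  refine ⟨n, fun a ha => ?_⟩
  exact (Submodule.mem_torsionBySet_iff _ _).mp hn ⟨a, ha⟩

end Groth.Agent.S0311
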