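import Groth.Statements.S2057
import Mathlib

set_option autoImplicit false
universe u
open CAlg

namespace Groth.Agent.S2057

open TensorProduct


/-- An injective linear map `f : M₁ → M₂` is universally injective if and only if: whenever elements
`x_i` of `M₁` satisfy `f(x_i) = Σ_j a_{ij} y_j` for some `y_j ∈ M₂` and scalars `a_{ij}`, there are
`z_j ∈ M₁` with `x_i = Σ_j a_{ij} z_j`. -/
theorem result {R M₁ M₂ : Type u} [CommRing R] [AddCommGroup M₁]
    [Module R M₁] [AddCommGroup M₂] [Module R M₂] (f : M₁ →ₗ[R] M₂) (hf : Function.Injective f) :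
    CAlgX.UniversallyInjective R f ↔
      ∀ (n m : ℕ) (x : Fin n → M₁) (y : Fin m → M₂) (a : Fin n → Fin m → R),
        (∀ i, f (x i) = ∑ j, a i j • y j) → ∃ z : Fin m → M₁, ∀ i, x i = ∑ j, a i j • z j := by
  classical
  constructor
  · -- universally injective ⇒ equational criterion
    intro hUI n m x y a hxy
    obtain ⟨N, hN⟩ : ∃ N : Submodule R (Fin n → R),
        N = Submodule.span R (Set.range fun j : Fin m => fun i : Fin n => a i j) := ⟨_, rfl⟩
    have hinj := hUI ((Fin n → R) ⧸ N)
    have hsum : ∀ b : Fin n → R, ∑ i, b i • (Pi.single i (1 : R) : Fin n → R) = b := by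
      intro b
      funext i'
      simp [Finset.sum_apply, Pi.single_apply]
    have hcol : ∀ j, ∑ i, a i j • N.mkQ (Pi.single i (1 : R)) = 0 := by
      intro j
      calc ∑ i, a i j • N.mkQ (Pi.single i (1 : R))
          = N.mkQ (∑ i, a i j • (Pi.single i (1 : R) : Fin n → R)) := by
            rw [map_sum]
            exact Finset.sum_congr rfl fun i _ => (map_smul _ _ _).symm
        _ = N.mkQ (fun i => a i j) := by rw [hsum (fun i => a i j)]
        _ = 0 := (Submodule.Quotient.mk_eq_zero N).mpr (by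
            rw [hN]; exact Submodule.subset_span ⟨j, rfl⟩)
    have hξ : f.rTensor ((Fin n → R) ⧸ N) (∑ i, x i ⊗ₜ[R] N.mkQ (Pi.single i (1 : R))) = 0 := by
      rw [map_sum]
      simp only [LinearMap.rTensor_tmul, hxy, TensorProduct.sum_tmul, TensorProduct.smul_tmul]
      rw [Finset.sum_comm]
      simp only [← TensorProduct.tmul_sum, hcol, TensorProduct.tmul_zero, Finset.sum_const_zero]
    have h0 : ∑ i, x i ⊗ₜ[R] N.mkQ (Pi.single i (1 : R)) = 0 :=
      hinj (hξ.trans (map_zero _).symm)
    have hswap : ∑ i, N.mkQ (Pi.single i (1 : R)) ⊗ₜ[R] x i = 0 := by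
      have h := congrArg (TensorProduct.comm R M₁ ((Fin n → R) ⧸ N)) h0
      rw [map_sum, map_zero] at h
      simpa only [TensorProduct.comm_tmul] using h
    have hspan : Submodule.span R (Set.range fun i => N.mkQ (Pi.single i (1 : R))) = ⊤ := by
      rw [eq_top_iff]
      rintro q -
      obtain ⟨b, rfl⟩ := N.mkQ_surjective q
      rw [← hsum b, map_sum]
      refine Submodule.sum_mem _ fun i _ => ?_
      rw [map_smul]
      exact Submodule.smul_mem _ _ (Submodule.subset_span ⟨i, rfl⟩)
    obtain ⟨k, b, w, hw, hb⟩ :=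
      TensorProduct.vanishesTrivially_of_sum_tmul_eq_zero R hspan hswap
    have hmemN : ∀ l, ∃ d : Fin m → R,
        ∑ j, d j • (fun i : Fin n => a i j) = fun i => b i l := by
      intro l
      have h1 : N.mkQ (fun i => b i l) = 0 := by
        rw [← hsum (fun i => b i l), map_sum, ← hb l]
        exact Finset.sum_congr rfl fun i _ => map_smul _ _ _
      have h2 : (fun i => b i l) ∈ N := (Submodule.Quotient.mk_eq_zero N).mp h1
      rw [hN] at h2
      exact (Submodule.mem_span_range_iff_exists_fun R).mp h2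
    choose d hd using hmemN
    refine ⟨fun j => ∑ l, d l j • w l, fun i => ?_⟩
    rw [hw i]
    simp only [Finset.smul_sum, smul_smul]
    rw [Finset.sum_comm]
    refine Finset.sum_congr rfl fun l _ => ?_
    rw [← Finset.sum_smul]
    congr 1
    have h3 := congrFun (hd l) i
    simp only [Finset.sum_apply, Pi.smul_apply, smul_eq_mul] at h3
    rw [← h3]
    exact Finset.sum_congr rfl fun j _ => mul_comm _ _
  · -- equational criterion ⇒ universally injective
    intro hEC Q _ _
    rw [injective_iff_map_eq_zero]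
    intro ξ hξ
    obtain ⟨n, x, q, rfl⟩ := TensorProduct.exists_sum_tmul_eq ξ
    have h1 : ∑ i, f (x i) ⊗ₜ[R] q i = 0 := by
      rw [map_sum] at hξ
      simpa only [LinearMap.rTensor_tmul] using hξ
    obtain ⟨P, hP⟩ : ∃ P : Submodule R Q, P = Submodule.span R (Set.range q) := ⟨_, rfl⟩
    have hqP : ∀ i, q i ∈ P := fun i => by rw [hP]; exact Submodule.subset_span ⟨i, rfl⟩
    have hPfg : P.FG := by rw [hP]; exact Submodule.fg_span (Set.finite_range q)
    have h2 : LinearMap.rTensor M₂ P.subtype (∑ i, (⟨q i, hqP i⟩ : ↥P) ⊗ₜ[R] f (x i)) = 0 := by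
      rw [map_sum]
      simp only [LinearMap.rTensor_tmul, Submodule.subtype_apply]
      have h := congrArg (TensorProduct.comm R M₂ Q) h1
      rw [map_sum, map_zero] at h
      simpa only [TensorProduct.comm_tmul] using h
    obtain ⟨Q₁, hPQ, hQ₁fg, h3⟩ := TensorProduct.eq_zero_of_fg_of_subtype_eq_zero hPfg h2
    rw [map_sum] at h3
    simp only [LinearMap.rTensor_tmul] at h3
    have hfin : Module.Finite R ↥Q₁ := Module.Finite.iff_fg.mpr hQ₁fg
    obtain ⟨s, g, hg⟩ := Module.Finite.exists_fin (R := R) (M := ↥Q₁)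
    obtain ⟨m', hm'⟩ : ∃ m' : Fin n ⊕ Fin s → ↥Q₁,
        m' = Sum.elim (fun i => Submodule.inclusion hPQ ⟨q i, hqP i⟩) g := ⟨_, rfl⟩
    obtain ⟨X', hX'⟩ : ∃ X' : Fin n ⊕ Fin s → M₁, X' = Sum.elim x (fun _ => 0) := ⟨_, rfl⟩
    have hspan : Submodule.span R (Set.range m') = ⊤ := by
      rw [eq_top_iff, ← hg]
      apply Submodule.span_mono
      rintro _ ⟨l, rfl⟩
      exact ⟨Sum.inr l, by rw [hm']; rfl⟩
    have hsum0 : ∑ i, m' i ⊗ₜ[R] f (X' i) = 0 := by
      rw [Fintype.sum_sum_type]
      simp only [hm', hX', Sum.elim_inl, Sum.elim_inr, map_zero, TensorProduct.tmul_zero,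
        Finset.sum_const_zero, add_zero]
      exact h3
    obtain ⟨k, a, y, hy, ha⟩ :=
      TensorProduct.vanishesTrivially_of_sum_tmul_eq_zero R hspan hsum0
    obtain ⟨z, hz⟩ := hEC (n + s) k (fun i => X' (finSumFinEquiv.symm i)) y
      (fun i j => a (finSumFinEquiv.symm i) j) (fun i => hy _)
    have hz' : ∀ i, X' i = ∑ j, a i j • z j := by
      intro i
      have h := hz (finSumFinEquiv i)
      simpa only [Equiv.symm_apply_apply] using h
    have hq' : ∑ i, x i ⊗ₜ[R] q i = ∑ i, X' i ⊗ₜ[R] ((m' i : ↥Q₁) : Q) := by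
      rw [Fintype.sum_sum_type]
      simp only [hm', hX', Sum.elim_inl, Sum.elim_inr, TensorProduct.zero_tmul,
        Finset.sum_const_zero, add_zero, Submodule.coe_inclusion]
    have hrel : ∀ j, ∑ i, a i j • ((m' i : ↥Q₁) : Q) = 0 := by
      intro j
      have h := congrArg Q₁.subtype (ha j)
      rw [map_sum, map_zero] at h
      simpa only [map_smul, Submodule.subtype_apply] using h
    rw [hq']
    simp only [hz', TensorProduct.sum_tmul, TensorProduct.smul_tmul]
    rw [Finset.sum_comm]
    simp only [← TensorProduct.tmul_sum, hrel, TensorProduct.tmul_zero, Finset.sum_const_zero]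

end Groth.Agent.S2057
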