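import Groth.Statements.S2466
import Groth.Agent.Lib.helper2.PBasis

set_option autoImplicit false
universe u
open EGA41

namespace Groth.Agent.S2466

/-- Let p be a prime, B an A-algebra of characteristic p and (x_α) a p-basis of B over A. Then the
family of differentials (d_{B/A} x_α) is a basis of the B-module Ω_{B/A}. -/
theorem result (p : ℕ) [Fact p.Prime] {A B : Type u} [CommRing A] [CommRing B] [Algebra A B] [CharP B p]
    {ι : Type u} (x : ι → B) (hx : EGA41.IsPBasis p A x) :
    ∃ b : Module.Basis ι B (Ω[B⁄A]), ∀ i, b i = KaehlerDifferential.D A B (x i) := by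
  classical
  obtain ⟨hli, hsp⟩ := hx
  have hp : p.Prime := Fact.out
  -- (1) the differentials span
  have hspan : Submodule.span B (Set.range fun i => KaehlerDifferential.D A B (x i)) = ⊤ := by
    let N := Submodule.span B (Set.range fun i => KaehlerDifferential.D A B (x i))
    let T : Subalgebra A B :=
      { carrier := {b | KaehlerDifferential.D A B b ∈ N}
        mul_mem' := fun {a b} ha hb => by
          show KaehlerDifferential.D A B (a * b) ∈ N
          rw [Derivation.leibniz]
          exact N.add_mem (N.smul_mem _ hb) (N.smul_mem _ ha)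
        one_mem' := by
          show KaehlerDifferential.D A B 1 ∈ N
          rw [Derivation.map_one_eq_zero]
          exact N.zero_mem
        add_mem' := fun {a b} ha hb => by
          show KaehlerDifferential.D A B (a + b) ∈ N
          rw [map_add]
          exact N.add_mem ha hb
        zero_mem' := by
          show KaehlerDifferential.D A B 0 ∈ N
          rw [map_zero]
          exact N.zero_mem
        algebraMap_mem' := fun r => by
          show KaehlerDifferential.D A B (algebraMap A B r) ∈ N
          rw [Derivation.map_algebraMap]
          exact N.zero_mem }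
    have hT : T = ⊤ := h2_pgen_top p x hsp T (fun b => by
        show KaehlerDifferential.D A B (b ^ p) ∈ N
        rw [Derivation.leibniz_pow, ← Nat.cast_smul_eq_nsmul B, CharP.cast_eq_zero, zero_smul]
        exact N.zero_mem) (fun i => Submodule.subset_span ⟨i, rfl⟩)
    rw [eq_top_iff, ← KaehlerDifferential.span_range_derivation A B, Submodule.span_le]
    rintro _ ⟨b, rfl⟩
    have hb : b ∈ T := by rw [hT]; trivial
    exact hb
  -- (2) the derivation dual to `x`
  let c : ι → EGA41.pPowerSubalgebra p A B := fun i => ⟨x i ^ p, h2_ppow_mem p (x i)⟩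
  obtain ⟨v, hv1, hv2, hv3⟩ := h2_pbasis_tsze (C := EGA41.pPowerSubalgebra p A B) p x c
    (fun i => rfl) hli hsp (M := ι →₀ B)
    ((TrivSqZeroExt.inlHom B (ι →₀ B)).comp (algebraMap _ B)) (fun r => rfl) (fun i => rfl)
    (fun i => Finsupp.single i 1)
  let D₀ : B →ₗ[A] (ι →₀ B) :=
    { toFun := fun b => (v b).snd
      map_add' := fun a b => by rw [map_add, TrivSqZeroExt.snd_add]
      map_smul' := fun r b => by
        show (v (r • b)).snd = r • (v b).snd
        have h1 : algebraMap A B r =
            algebraMap (EGA41.pPowerSubalgebra p A B) B (algebraMap A _ r) := rfl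
        rw [Algebra.smul_def, map_mul, h1, hv2, TrivSqZeroExt.snd_mul]
        simp }
  let D' : Derivation A B (ι →₀ B) := Derivation.mk' D₀ (fun a b => by
      show (v (a * b)).snd = a • (v b).snd + b • (v a).snd
      rw [map_mul, TrivSqZeroExt.snd_mul, hv1, hv1, op_smul_eq_smul])
  have hD' : ∀ i, D' (x i) = Finsupp.single i 1 := fun i => by
    show (v (x i)).snd = _
    rw [hv3]
    simp
  have hlin : LinearIndependent B (fun i => KaehlerDifferential.D A B (x i)) := by
    refine LinearIndependent.of_comp D'.liftKaehlerDifferential ?_
    have h1 : (D'.liftKaehlerDifferential ∘ fun i => KaehlerDifferential.D A B (x i)) =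
        fun i => Finsupp.single i (1 : B) := by
      funext i
      show D'.liftKaehlerDifferential (KaehlerDifferential.D A B (x i)) = _
      rw [Derivation.liftKaehlerDifferential_comp_D, hD']
    rw [h1]
    exact (Finsupp.basisSingleOne (R := B) (ι := ι)).linearIndependent
  refine ⟨Module.Basis.mk hlin (le_of_eq hspan.symm), fun i => ?_⟩
  rw [Module.Basis.mk_apply]

end Groth.Agent.S2466
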