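import Groth.Statements.S2468
import Groth.Agent.Lib.helper2.PField2
import Groth.Agent.S2466

set_option autoImplicit false
universe u
open EGA41

namespace Groth.Agent.S2468

/-- Let k ⊆ K be fields of characteristic p > 0 and (x_α) a family of elements of K. Then (x_α) is
p-free over k if and only if the d_{K/k} x_α are linearly independent over K; it is a system of
p-generators of K over k if and only if the d x_α span Ω_{K/k}; and it is a p-basis if and only if
the d x_α form a basis of Ω_{K/k} (stated as the existence of a K-basis of Ω_{K/k} indexed by the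
same index set whose members are the d x_α). (With the empty family the second equivalence
specializes to: Ω_{K/k} = 0 iff K = k(K^p).) -/
theorem result (p : ℕ) [Fact p.Prime] {k K : Type u} [Field k] [Field K] [Algebra k K] [CharP K p]
    {ι : Type u} (x : ι → K) :
    (EGA41.IsPIndependent p k x ↔ LinearIndependent K (fun i => KaehlerDifferential.D k K (x i))) ∧
    (EGA41.IsPGenerating p k x ↔ Submodule.span K (Set.range fun i => KaehlerDifferential.D k K (x i)) = ⊤) ∧
    (EGA41.IsPBasis p k x ↔ ∃ b : Module.Basis ι K (Ω[K⁄k]), ∀ i, b i = KaehlerDifferential.D k K (x i)) := by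
  classical
  have hp : p.Prime := Fact.out
  have hCf := h2_ppow_isField p (k := k) (K := K)
  have hpowC : ∀ b : K, b ^ p ∈ Set.range (algebraMap (EGA41.pPowerSubalgebra p k K) K) :=
    fun b => ⟨⟨b ^ p, h2_ppow_mem p b⟩, rfl⟩
  have hCinj : Function.Injective (algebraMap (EGA41.pPowerSubalgebra p k K) K) :=
    Subtype.val_injective
  have hempty : h2PInd p (EGA41.pPowerSubalgebra p k K) (∅ : Set K) :=
    h2_pind_empty p hp.pos hCinj
  have hbasis : ∀ B : Set K, h2PInd p (EGA41.pPowerSubalgebra p k K) B →
      Set.univ ⊆ (Algebra.adjoin (EGA41.pPowerSubalgebra p k K) B : Set K) →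
      LinearIndependent K (fun β : B => KaehlerDifferential.D k K (β : K)) := by
    intro B hB hgen
    obtain ⟨b, hb⟩ := Groth.Agent.S2466.result p (Subtype.val : B → K)
      (h2_pbasis_of_pind_gen p B hB hgen)
    have h1 : (fun β : B => KaehlerDifferential.D k K (β : K)) = ⇑b :=
      funext (fun β => (hb β).symm)
    rw [h1]
    exact b.linearIndependent
  have h1a : EGA41.IsPIndependent p k x →
      LinearIndependent K (fun i => KaehlerDifferential.D k K (x i)) := by
    intro hx
    have hxinj : Function.Injective x := by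
      intro i j hij
      by_contra hne
      have hred : ∀ i' : ι, ∀ i'' : ι, (Finsupp.single i' 1 : ι →₀ ℕ) i'' < p := by
        intro i' i''
        rw [Finsupp.single_apply]
        split_ifs
        · exact hp.one_lt
        · exact hp.pos
      have h1 := hx.injective (a₁ := ⟨Finsupp.single i 1, hred i⟩)
        (a₂ := ⟨Finsupp.single j 1, hred j⟩) (by
          show EGA41.pMonomial x (Finsupp.single i 1) = EGA41.pMonomial x (Finsupp.single j 1)
          unfold EGA41.pMonomial
          rw [Finsupp.prod_single_index (h := fun i n => x i ^ n) (pow_zero _),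
            Finsupp.prod_single_index (h := fun i n => x i ^ n) (pow_zero _), hij])
      have h2 : (Finsupp.single i 1 : ι →₀ ℕ) = Finsupp.single j 1 := congrArg Subtype.val h1
      exact hne (Finsupp.single_left_injective one_ne_zero h2)
    have hT : h2PInd p (EGA41.pPowerSubalgebra p k K) (Set.range x) :=
      (h2_pind_iff_range p hp.pos x hxinj).mp hx
    obtain ⟨B, hLB, -, hB, hgen⟩ := h2_pind_exists_max p hCf hpowC Set.univ (Set.range x)
      (Set.subset_univ _) hT
    have hli := hbasis B hB hgen
    exact hli.comp (fun i => (⟨x i, hLB ⟨i, rfl⟩⟩ : B))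
      (fun i j hij => hxinj (congrArg Subtype.val hij))
  have h1b : LinearIndependent K (fun i => KaehlerDifferential.D k K (x i)) →
      EGA41.IsPIndependent p k x := by
    intro hli
    have hxinj : Function.Injective x := fun i j hij => hli.injective (by
      show KaehlerDifferential.D k K (x i) = KaehlerDifferential.D k K (x j)
      rw [hij])
    obtain ⟨B, -, hBS, hB, hgen⟩ := h2_pind_exists_max p hCf hpowC (Set.range x) ∅
      (Set.empty_subset _) hempty
    have hBeq : Set.range x ⊆ B := by
      rintro _ ⟨i, rfl⟩
      by_contra hni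
      have h1 := h2_adjoin_kaehler_mem p (A := k) B (x i) (hgen ⟨i, rfl⟩)
      have h2 : (KaehlerDifferential.D k K) '' B ⊆
          (fun j => KaehlerDifferential.D k K (x j)) '' {j | j ≠ i} := by
        rintro _ ⟨β, hβ, rfl⟩
        obtain ⟨j, rfl⟩ := hBS hβ
        exact ⟨j, fun hji => hni (by rw [← hji]; exact hβ), rfl⟩
      exact hli.notMem_span_image (s := {j | j ≠ i}) (x := i) (by simp)
        (Submodule.span_mono h2 h1)
    have hBT : B = Set.range x := Set.Subset.antisymm hBS hBeq
    rw [hBT] at hB
    exact (h2_pind_iff_range p hp.pos x hxinj).mpr hB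
  have h2b : Submodule.span K (Set.range fun i => KaehlerDifferential.D k K (x i)) = ⊤ →
      EGA41.IsPGenerating p k x := by
    intro hsp
    obtain ⟨B, -, hBS, hB, hgen⟩ := h2_pind_exists_max p hCf hpowC (Set.range x) ∅
      (Set.empty_subset _) hempty
    obtain ⟨B', hBB', -, hB', hgen'⟩ := h2_pind_exists_max p hCf hpowC Set.univ B
      (Set.subset_univ _) hB
    have hli := hbasis B' hB' hgen'
    have hsub : B' ⊆ B := by
      intro β' hβ'
      by_contra hnβ
      have h1 : KaehlerDifferential.D k K β' ∈
          Submodule.span K ((KaehlerDifferential.D k K) '' B) := by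
        have h0 : KaehlerDifferential.D k K β' ∈
            Submodule.span K (Set.range fun i => KaehlerDifferential.D k K (x i)) := by
          rw [hsp]; trivial
        refine (Submodule.span_le.mpr ?_) h0
        rintro _ ⟨i, rfl⟩
        exact h2_adjoin_kaehler_mem p (A := k) B (x i) (hgen ⟨i, rfl⟩)
      have h2 : (KaehlerDifferential.D k K) '' B ⊆
          (fun β : B' => KaehlerDifferential.D k K (β : K)) '' {β | (β : K) ∈ B} := by
        rintro _ ⟨β, hβ, rfl⟩
        exact ⟨⟨β, hBB' hβ⟩, hβ, rfl⟩
      exact hli.notMem_span_image (s := {β : B' | (β : K) ∈ B}) (x := ⟨β', hβ'⟩) hnβ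
        (Submodule.span_mono h2 h1)
    rw [← h2_pgen_iff_adjoin, eq_top_iff]
    intro y _
    have hy : y ∈ Algebra.adjoin (EGA41.pPowerSubalgebra p k K) B' := hgen' (Set.mem_univ y)
    exact Algebra.adjoin_mono (hsub.trans hBS) hy
  refine ⟨⟨h1a, h1b⟩, ⟨h2_pgen_kaehler_span p x, h2b⟩,
    ⟨fun hx => Groth.Agent.S2466.result p x hx, ?_⟩⟩
  rintro ⟨b, hb⟩
  have hfun : (fun i => KaehlerDifferential.D k K (x i)) = ⇑b := funext (fun i => (hb i).symm)
  refine ⟨h1b ?_, h2b ?_⟩
  · rw [hfun]
    exact b.linearIndependent
  · rw [hfun]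
    exact b.span_eq

end Groth.Agent.S2468
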