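import Groth.Statements.S7402
import Mathlib
import Groth.Agent.Lib.helper4.UHR4


set_option autoImplicit false
universe u
open CategoryTheory AlgebraicGeometry
open Polynomial
open Mor

namespace Groth.Agent.S7402

open Groth.Agent.Lib.helper4

/-- Let `A` be a ring and `x, y ∈ A` with `x^3 = y^2`. Then `A → B = A[t]/(t^2 - x, t^3 - y)` induces a
universal homeomorphism on spectra and isomorphisms on residue fields. -/
theorem result (A : Type u) [CommRing A] (x y : A) (h : x ^ 3 = y ^ 2) :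
    FlatMor.IsUnivHomeo (Spec.map (CommRingCat.ofHom (algebraMap A
      (A[X] ⧸ Ideal.span ({X ^ 2 - C x, X ^ 3 - C y} : Set A[X]))))) ∧
    ∀ q : Spec (CommRingCat.of (A[X] ⧸ Ideal.span ({X ^ 2 - C x, X ^ 3 - C y} : Set A[X]))),
      Function.Surjective ((Spec.map (CommRingCat.ofHom (algebraMap A
        (A[X] ⧸ Ideal.span ({X ^ 2 - C x, X ^ 3 - C y} : Set A[X]))))).residueFieldMap q) := by
  rw [uhr_iff, uhr_resSurj_iff]
  set I : Ideal A[X] := Ideal.span ({X ^ 2 - C x, X ^ 3 - C y} : Set A[X]) with hI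
  have ht2 : (Ideal.Quotient.mk I X) ^ 2 = algebraMap A (A[X] ⧸ I) x := by
    have h0 : Ideal.Quotient.mk I (X ^ 2 - C x) = 0 :=
      Ideal.Quotient.eq_zero_iff_mem.mpr (Ideal.subset_span (by simp))
    rw [map_sub, map_pow, sub_eq_zero] at h0
    exact h0
  have ht3 : (Ideal.Quotient.mk I X) ^ 3 = algebraMap A (A[X] ⧸ I) y := by
    have h0 : Ideal.Quotient.mk I (X ^ 3 - C y) = 0 :=
      Ideal.Quotient.eq_zero_iff_mem.mpr (Ideal.subset_span (by simp))
    rw [map_sub, map_pow, sub_eq_zero] at h0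
    exact h0
  have hgen : ∀ T : Subalgebra A (A[X] ⧸ I), (∀ b, b ^ 2 ∈ T → b ^ 3 ∈ T → b ∈ T) →
      ∀ b, b ∈ T := by
    intro T hT
    apply uhr_pq_gen I T
    apply hT
    · rw [ht2]; exact T.algebraMap_mem x
    · rw [ht3]; exact T.algebraMap_mem y
  have hint : (algebraMap A (A[X] ⧸ I)).IsIntegral := by
    intro b
    exact hgen (integralClosure A (A[X] ⧸ I))
      (fun b hb _ => IsIntegral.of_pow (n := 2) two_pos hb) b
  refine ⟨⟨hint, ?_, ?_⟩, ?_⟩
  · apply uhr_surj_of_lifts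
    intro p
    haveI := p.isPrime
    obtain ⟨ψ, hψ⟩ : ∃ ψ : A →+* p.asIdeal.ResidueField,
      ψ = algebraMap A p.asIdeal.ResidueField := ⟨_, rfl⟩
    have hxy : ψ x ^ 3 = ψ y ^ 2 := by rw [← map_pow, ← map_pow, h]
    have hex : ∃ τ : p.asIdeal.ResidueField, τ ^ 2 = ψ x ∧ τ ^ 3 = ψ y := by
      by_cases hx : ψ x = 0
      · refine ⟨0, ?_, ?_⟩
        · rw [hx]; ring
        · have h1 : ψ y ^ 2 = 0 := by rw [← hxy, hx]; ring
          have hy : ψ y = 0 := (pow_eq_zero_iff (two_ne_zero)).mp h1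
          rw [hy]; ring
      · refine ⟨ψ y / ψ x, ?_, ?_⟩
        · rw [div_pow, div_eq_iff (pow_ne_zero 2 hx)]
          linear_combination (-1 : p.asIdeal.ResidueField) * hxy
        · rw [div_pow, div_eq_iff (pow_ne_zero 3 hx)]
          linear_combination (-ψ y) * hxy
    obtain ⟨τ, hτ2, hτ3⟩ := hex
    obtain ⟨σ, hσ⟩ := uhr_pq_lift ψ τ ({X ^ 2 - C x, X ^ 3 - C y} : Set A[X]) (by
      intro f hf
      simp only [Set.mem_insert_iff, Set.mem_singleton_iff] at hf
      rcases hf with rfl | rfl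
      · simp [hτ2]
      · simp [hτ3])
    refine ⟨p.asIdeal.ResidueField, inferInstance, ψ, σ, ?_, hσ⟩
    rw [hψ]
    exact Ideal.ker_algebraMap_residueField (I := p.asIdeal)
  · intro K _ σ₁ σ₂ hσ
    apply RingHom.ext
    intro b
    exact hgen (uhr_eqSub σ₁ σ₂ hσ) (fun b h2 h3 => uhr_eqSub_closed σ₁ σ₂ hσ b h2 h3) b
  · intro y b
    rw [← uhr_mem_resSub]
    exact hgen (uhr_resSub y) (fun b h2 h3 => uhr_resSub_closed y b h2 h3) b

end Groth.Agent.S7402
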