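import Groth.Statements.S7403
import Mathlib
import Groth.Agent.Lib.helper4.UHR4


set_option autoImplicit false
universe u
open CategoryTheory AlgebraicGeometry
open Polynomial
open Mor

namespace Groth.Agent.S7403

open Groth.Agent.Lib.helper4

/-- Let `A` be a ring, `p` a prime number and `x, y ∈ A` with `p^p x = y^p`. Then `A → B = A[t]/(t^p -
x, p t - y)` induces a universal homeomorphism on spectra. -/
theorem result (A : Type u) [CommRing A] (p : ℕ) (hp : p.Prime) (x y : A)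
    (h : (p : A) ^ p * x = y ^ p) :
    FlatMor.IsUnivHomeo (Spec.map (CommRingCat.ofHom (algebraMap A
      (A[X] ⧸ Ideal.span ({X ^ p - C x, C (p : A) * X - C y} : Set A[X]))))) := by
  rw [uhr_iff]
  set I : Ideal A[X] := Ideal.span ({X ^ p - C x, C (p : A) * X - C y} : Set A[X]) with hI
  have ht1 : (p : A[X] ⧸ I) * (Ideal.Quotient.mk I X) = algebraMap A (A[X] ⧸ I) y := by
    have h0 : Ideal.Quotient.mk I (C (p : A) * X - C y) = 0 :=
      Ideal.Quotient.eq_zero_iff_mem.mpr (Ideal.subset_span (by simp))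
    rw [map_sub, map_mul, Polynomial.C_eq_natCast, map_natCast, sub_eq_zero] at h0
    exact h0
  have ht2 : (Ideal.Quotient.mk I X) ^ p = algebraMap A (A[X] ⧸ I) x := by
    have h0 : Ideal.Quotient.mk I (X ^ p - C x) = 0 :=
      Ideal.Quotient.eq_zero_iff_mem.mpr (Ideal.subset_span (by simp))
    rw [map_sub, map_pow, sub_eq_zero] at h0
    exact h0
  have hgen : ∀ T : Subalgebra A (A[X] ⧸ I),
      (∀ b, (p : A[X] ⧸ I) * b ∈ T → b ^ p ∈ T → b ∈ T) → ∀ b, b ∈ T := by
    intro T hT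
    apply uhr_pq_gen I T
    apply hT
    · rw [ht1]; exact T.algebraMap_mem y
    · rw [ht2]; exact T.algebraMap_mem x
  have hint : (algebraMap A (A[X] ⧸ I)).IsIntegral := by
    intro b
    exact hgen (integralClosure A (A[X] ⧸ I))
      (fun b _ hb => IsIntegral.of_pow (n := p) hp.pos hb) b
  refine ⟨hint, ?_, ?_⟩
  · apply uhr_surj_of_lifts
    intro 𝔭
    haveI := 𝔭.isPrime
    obtain ⟨ψ, hψ⟩ : ∃ ψ : A →+* AlgebraicClosure 𝔭.asIdeal.ResidueField,
      ψ = (algebraMap 𝔭.asIdeal.ResidueField (AlgebraicClosure 𝔭.asIdeal.ResidueField)).comp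
        (algebraMap A 𝔭.asIdeal.ResidueField) := ⟨_, rfl⟩
    have hxy : ((p : ℕ) : AlgebraicClosure 𝔭.asIdeal.ResidueField) ^ p * ψ x = ψ y ^ p := by
      have h1 := congrArg ψ h
      rw [map_mul, map_pow, map_pow, map_natCast] at h1
      exact h1
    have hex : ∃ τ : AlgebraicClosure 𝔭.asIdeal.ResidueField, τ ^ p = ψ x ∧
        ((p : ℕ) : AlgebraicClosure 𝔭.asIdeal.ResidueField) * τ = ψ y := by
      by_cases hp0 : ((p : ℕ) : AlgebraicClosure 𝔭.asIdeal.ResidueField) = 0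
      · obtain ⟨τ, hτ⟩ := IsAlgClosed.exists_pow_nat_eq (ψ x) hp.pos
        refine ⟨τ, hτ, ?_⟩
        have h1 : ψ y ^ p = 0 := by rw [← hxy, hp0, zero_pow hp.ne_zero, zero_mul]
        rw [hp0, zero_mul, (pow_eq_zero_iff hp.ne_zero).mp h1]
      · refine ⟨ψ y / p, ?_, ?_⟩
        · rw [div_pow, div_eq_iff (pow_ne_zero p hp0), ← hxy]; ring
        · rw [mul_div_cancel₀ _ hp0]
    obtain ⟨τ, hτ2, hτ3⟩ := hex
    obtain ⟨σ, hσ⟩ := uhr_pq_lift ψ τ ({X ^ p - C x, C (p : A) * X - C y} : Set A[X]) (by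
      intro f hf
      simp only [Set.mem_insert_iff, Set.mem_singleton_iff] at hf
      rcases hf with rfl | rfl
      · simp [hτ2]
      · simp [hτ3])
    refine ⟨AlgebraicClosure 𝔭.asIdeal.ResidueField, inferInstance, ψ, σ, ?_, hσ⟩
    rw [hψ]
    ext a
    rw [RingHom.mem_ker, RingHom.comp_apply, map_eq_zero, Ideal.algebraMap_residueField_eq_zero]
  · intro K _ σ₁ σ₂ hσ
    apply RingHom.ext
    intro b
    exact hgen (uhr_eqSub σ₁ σ₂ hσ)
      (fun b h1 h2 => uhr_eqSub_closed_p σ₁ σ₂ hσ p hp b h1 h2) b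

end Groth.Agent.S7403
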