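import Groth.Statements.S7542
import Mathlib


set_option autoImplicit false
universe u
open ConstrTop

namespace Groth.Agent.S7542

/-- Let X be a topological space such that the quasi-compact opens form a basis for the topology, and
let T ⊆ X be retrocompact in X. Then for any constructible subset E ⊆ X, the intersection E ∩ T is
constructible in T (with the induced topology). -/
theorem result {X : Type u} [TopologicalSpace X] [PrespectralSpace X]
    (T : Set X) (hT : IsRetrocompact T) (E : Set X) (hE : Topology.IsConstructible E) :
    Topology.IsConstructible ((Subtype.val : T → X) ⁻¹' E) := by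
  refine hE.preimage continuous_subtype_val ?_
  intro U hUo hUr K hKc hKo
  obtain ⟨V, hVo, rfl⟩ := isOpen_induced_iff.mp hKo
  have hKX : IsCompact (Subtype.val '' ((Subtype.val : T → X) ⁻¹' V)) :=
    hKc.image continuous_subtype_val
  have hsub : Subtype.val '' ((Subtype.val : T → X) ⁻¹' V) ⊆ V := by
    rintro _ ⟨y, hy, rfl⟩; exact hy
  obtain ⟨V', hV'c, hV'o, h1, h2⟩ :=
    PrespectralSpace.exists_isCompact_and_isOpen_between hKX hVo hsub
  have hK : ((Subtype.val : T → X) ⁻¹' V) = (Subtype.val : T → X) ⁻¹' V' := by
    apply subset_antisymm
    · intro y hy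
      exact h1 ⟨y, hy, rfl⟩
    · exact Set.preimage_mono h2
  rw [hK, ← Set.preimage_inter, Subtype.isCompact_iff, Subtype.image_preimage_coe]
  exact hT (hUr hV'c hV'o) (hUo.inter hV'o)

end Groth.Agent.S7542
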