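import Groth.Statements.S7470
import Mathlib


set_option autoImplicit false
universe w u
open HTop

namespace Groth.Agent.S7470

open CategoryTheory CategoryTheory.Limits AlgebraicGeometry in
/-- Let E be a standard V covering of an affine scheme T and, for every member T_j of E, let F_j be a
standard V covering of T_j. Then the composite family of all T_ji -> T is a standard V covering. -/
theorem result {T : Scheme.{u}} (E : PreZeroHypercover.{w} T) (hE : HTop.IsStandardV E) (F : ∀ j, PreZeroHypercover.{w} (E.X j)) (hF : ∀ j, HTop.IsStandardV (F j)) : HTop.IsStandardV (E.bind F) := by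
  obtain ⟨hT, hfin, haff, hlift⟩ := hE
  refine ⟨hT, ?_, ?_, ?_⟩
  · haveI := hfin
    haveI : ∀ j, Finite (F j).I₀ := fun j => (hF j).finite_index
    change Finite (Σ i : E.I₀, (F i).I₀)
    infer_instance
  · rintro ⟨i, j⟩
    exact (hF i).isAffine_obj j
  · intro V _ _ g
    obtain ⟨W, hWd, hWv, φ, hφ, i, h, hh⟩ := hlift V g
    obtain ⟨W', hW'd, hW'v, ψ, hψ, j, h', hh'⟩ := (hF i).lift W h
    refine ⟨W', hW'd, hW'v, φ ≫ ψ, ?_, ⟨i, j⟩, h', ?_⟩
    · refine ⟨?_, ?_⟩
      · rw [CommRingCat.hom_comp]
        exact hψ.1.comp hφ.1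
      · rw [CommRingCat.hom_comp]
        haveI := hφ.2
        haveI := hψ.2
        exact RingHom.isLocalHom_comp _ _
    · change h' ≫ (F i).f j ≫ E.f i = Spec.map (φ ≫ ψ) ≫ g
      rw [← Category.assoc, hh', Category.assoc, hh, Spec.map_comp, Category.assoc]

end Groth.Agent.S7470
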