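import Groth.Statements.S7467
import Mathlib
import Groth.Agent.Lib.helper4.ValLift2


set_option autoImplicit false
universe w u
open HTop

namespace Groth.Agent.S7467

open Groth.Agent.Lib.helper4

open CategoryTheory CategoryTheory.Limits AlgebraicGeometry in
/-- A standard fpqc covering, that is a finite family of flat morphisms T_j -> T of affine schemes whose
images jointly cover the affine scheme T, is a standard V covering (every morphism from the spectrum
of a valuation ring to T lifts to some T_j after an extension of valuation rings). -/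
theorem result {T : Scheme.{u}} [IsAffine T] (E : PreZeroHypercover.{w} T) (hfin : Finite E.I₀) (haff : ∀ j, IsAffine (E.X j)) (hflat : ∀ j, Flat (E.f j)) (hsurj : ∀ t : T, ∃ (j : E.I₀) (x : E.X j), E.f j x = t) : HTop.IsStandardV E := by
  refine ⟨inferInstance, hfin, haff, ?_⟩
  intro V _ _ γ
  obtain ⟨j, x, hx⟩ := hsurj (γ (IsLocalRing.closedPoint V))
  have := hflat j
  obtain ⟨w, hw1, hw2⟩ := Scheme.Pullback.exists_preimage_pullback (f := γ) (g := E.f j)
    (IsLocalRing.closedPoint V) x hx.symm
  have hgen : GeneralizingMap (pullback.fst γ (E.f j)) := Flat.generalizingMap _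
  have hspec : h4_genPt V ⤳ pullback.fst γ (E.f j) w := by
    rw [hw1]; exact h4_genPt_specializes V _
  obtain ⟨w', hww, hw'⟩ := hgen hspec
  obtain ⟨W, hWd, hWv, φ, hφ, g₀, hg₀⟩ := h4_exists_extVal_lift (E.f j) V γ w' w hww hw' hw1
  exact ⟨W, hWd, hWv, φ, hφ, j, g₀, hg₀⟩

end Groth.Agent.S7467
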