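import Groth.Statements.S7473
import Mathlib
import Groth.Agent.Lib.helper4.ValLift2
import Groth.Agent.S7467


set_option autoImplicit false
universe u
open HTop

namespace Groth.Agent.S7473

open Groth.Agent.Lib.helper4

open CategoryTheory CategoryTheory.Limits AlgebraicGeometry in
/-- An fpqc covering of a scheme T is a V covering. (Here an fpqc covering is a family in Mathlib's fpqc
precoverage: flat, jointly surjective, and every affine open of T is the union of the images of
finitely many quasi-compact opens of the members. The further clauses for fppf, syntomic, smooth,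
étale and Zariski coverings follow because those coverings are fpqc coverings; the clause for ph
coverings is the standard ph statement applied over each affine open.) -/
theorem result {T : Scheme.{u}} : ∀ 𝒰 : Scheme.Cover Scheme.fpqcPrecoverage T, HTop.IsVCover 𝒰.toPreZeroHypercover := by
  intro 𝒰 U
  have hmem : 𝒰.toPreZeroHypercover.presieve₀ ∈ Scheme.propQCPrecoverage @Flat T := 𝒰.mem₀
  have hqc : QuasiCompactCover 𝒰.toPreZeroHypercover := by
    rw [← Scheme.presieve₀_mem_qcPrecoverage_iff]
    exact hmem.1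
  have hflat : ∀ i, Flat (𝒰.f i) := fun i =>
    Scheme.Cover.map_prop (P := @Flat) ⟨𝒰.toPreZeroHypercover, hmem.2⟩ i
  obtain ⟨n, a, V, hV, hEq⟩ := QuasiCompactCover.exists_isAffineOpen_of_isCompact
    𝒰.toPreZeroHypercover (U := (U : T.Opens)) U.2.isCompact
  have hle : ∀ i, V i ≤ (𝒰.f (a i)) ⁻¹ᵁ (U : T.Opens) := by
    intro i x hx
    have : 𝒰.f (a i) x ∈ ((U : T.Opens) : Set T) := by
      rw [← hEq]
      exact Set.mem_iUnion.mpr ⟨i, ⟨x, hx, rfl⟩⟩
    exact this
  let F : PreZeroHypercover.{0} ((U : T.Opens) : Scheme.{u}) :=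
    ⟨Fin n, fun i => ((V i : (𝒰.X (a i)).Opens) : Scheme.{u}),
      fun i => (𝒰.f (a i)).resLE (U : T.Opens) (V i) (hle i)⟩
  have : IsAffine ((U : T.Opens) : Scheme.{u}) := U.2
  refine ⟨F, ?_, ?_⟩
  · refine Groth.Agent.S7467.result F (inferInstance : Finite (Fin n)) (fun i => hV i) (fun i => ?_) ?_
    · have := hflat (a i)
      change Flat ((𝒰.f (a i)).resLE (U : T.Opens) (V i) (hle i))
      infer_instance
    · intro t
      have ht : ((U : T.Opens).ι t : T) ∈ ((U : T.Opens) : Set T) := t.2
      rw [← hEq] at ht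
      obtain ⟨i, x, hx, hxt⟩ := Set.mem_iUnion.mp ht
      refine ⟨i, ⟨x, hx⟩, ?_⟩
      apply (U : T.Opens).ι.isOpenEmbedding.injective
      have := h4_comp_apply_eq' ((𝒰.f (a i)).resLE (U : T.Opens) (V i) (hle i)) (U : T.Opens).ι
        (V i).ι (𝒰.f (a i)) (Scheme.Hom.resLE_comp_ι _ _) ⟨x, hx⟩
      exact this.trans hxt
  · intro i
    exact ⟨a i, (V i).ι, (Scheme.Hom.resLE_comp_ι _ _).symm⟩

end Groth.Agent.S7473
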