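import Groth.Statements.S9560
import Mathlib

set_option autoImplicit false
universe u
open EtLocal

namespace Groth.Agent.S9560

/-- Suppose A is a Noetherian ring and B is a finite-type A-algebra, and consider a prime q of B lying
over the prime p of A, where B_q carries its A_p-algebra structure. Then B is étale at q over A (the
local ring B_q is formally étale over A) if and only if the local homomorphism A_p → B_q is étale,
which means three things: B_q is A_p-flat, the ideal p B_q equals the maximal ideal of B_q, and the
residue field of q is a finite separable extension of the residue field of p (that B_q is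
essentially of finite type over A_p holds automatically). -/
theorem result (A B : Type u) [CommRing A] [CommRing B]
    [Algebra A B] [IsNoetherianRing A] [Algebra.FiniteType A B]
    (p : Ideal A) [p.IsPrime] (q : Ideal B) [q.IsPrime] [q.LiesOver p]
    [Algebra (Localization.AtPrime p) (Localization.AtPrime q)]
    [Localization.AtPrime.IsLiesOverAlgebra p q] :
    Algebra.IsEtaleAt A q ↔
      Module.Flat (Localization.AtPrime p) (Localization.AtPrime q) ∧
        p.map (algebraMap A (Localization.AtPrime q)) = IsLocalRing.maximalIdeal (Localization.AtPrime q) ∧
        Module.Finite p.ResidueField q.ResidueField ∧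
        Algebra.IsSeparable p.ResidueField q.ResidueField := by
  classical
  haveI hfp : Algebra.FinitePresentation A B :=
    Algebra.FinitePresentation.of_finiteType.mp inferInstance
  haveI : Algebra.EssFiniteType (Localization.AtPrime p) (Localization.AtPrime q) :=
    .of_comp A _ _
  haveI hloc : IsLocalHom (algebraMap (Localization.AtPrime p) (Localization.AtPrime q)) := by
    rw [Localization.AtPrime.IsLiesOverAlgebra.algebraMap_eq (p := p) (P := q)]
    exact Localization.isLocalHom_localRingHom _ _ _ Ideal.LiesOver.over
  constructor
  · intro het
    haveI : Algebra.FormallyEtale A (Localization.AtPrime q) := het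
    have hunr : Algebra.IsUnramifiedAt A q :=
      (inferInstance : Algebra.FormallyUnramified A (Localization.AtPrime q))
    have h1 := (Algebra.isUnramifiedAt_iff_map_eq A p q).mp hunr
    refine ⟨?_, h1.2, inferInstance, h1.1⟩
    obtain ⟨g, hg, hEt⟩ := Algebra.exists_etale_of_isEtaleAt (R := A) q
    haveI : Module.Flat A (Localization.Away g) := inferInstance
    have hgu : IsUnit (algebraMap B (Localization.AtPrime q) g) :=
      IsLocalization.map_units (Localization.AtPrime q) (⟨g, hg⟩ : q.primeCompl)
    letI algg : Algebra (Localization.Away g) (Localization.AtPrime q) :=
      (IsLocalization.Away.lift g hgu).toAlgebra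
    haveI : IsScalarTower B (Localization.Away g) (Localization.AtPrime q) :=
      IsScalarTower.of_algebraMap_eq' (by
        rw [RingHom.algebraMap_toAlgebra]
        exact (IsLocalization.Away.lift_comp g hgu).symm)
    haveI : IsScalarTower A (Localization.Away g) (Localization.AtPrime q) :=
      IsScalarTower.of_algebraMap_eq' (by
        rw [IsScalarTower.algebraMap_eq A B (Localization.Away g), ← RingHom.comp_assoc,
          ← IsScalarTower.algebraMap_eq B (Localization.Away g) (Localization.AtPrime q),
          ← IsScalarTower.algebraMap_eq])
    haveI : IsLocalization (Algebra.algebraMapSubmonoid (Localization.Away g) q.primeCompl)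
        (Localization.AtPrime q) :=
      IsLocalization.isLocalization_of_submonoid_le (Localization.Away g) (Localization.AtPrime q)
        (Submonoid.powers g) q.primeCompl (by
          rintro _ ⟨n, rfl⟩
          exact fun h => hg ((inferInstance : q.IsPrime).mem_of_pow_mem n h))
    haveI : Module.Flat (Localization.Away g) (Localization.AtPrime q) :=
      IsLocalization.flat (Localization.AtPrime q)
        (Algebra.algebraMapSubmonoid (Localization.Away g) q.primeCompl)
    haveI : Module.Flat A (Localization.AtPrime q) :=
      Module.Flat.trans A (Localization.Away g) (Localization.AtPrime q)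
    rw [Module.flat_iff_of_isLocalization (Localization.AtPrime p) p.primeCompl]
    infer_instance
  · rintro ⟨hflat, hmap, hfin, hsep⟩
    haveI := hflat
    haveI := hsep
    have hunr : Algebra.IsUnramifiedAt A q :=
      (Algebra.isUnramifiedAt_iff_map_eq A p q).mpr ⟨hsep, hmap⟩
    haveI : Algebra.FormallyUnramified A (Localization.AtPrime q) := hunr
    haveI hunr' : Algebra.FormallyUnramified (Localization.AtPrime p) (Localization.AtPrime q) :=
      .of_restrictScalars A _ _
    let Sp := Localization (Algebra.algebraMapSubmonoid B p.primeCompl)
    let f : Sp →ₐ[B] Localization.AtPrime q :=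
      IsLocalization.liftAlgHom (M := Algebra.algebraMapSubmonoid B p.primeCompl)
        (f := Algebra.ofId _ _) (by
      rintro ⟨_, x, hx, rfl⟩
      simpa using! IsLocalization.map_units (M := q.primeCompl) (Localization.AtPrime q)
        ⟨algebraMap _ _ x, by simp_all [q.over_def p]⟩)
    algebraize [f.toRingHom]
    have : IsScalarTower A Sp (Localization.AtPrime q) := .to₁₃₄ _ B _ _
    have : IsScalarTower (Localization.AtPrime p) Sp (Localization.AtPrime q) :=
      .of_algebraMap_eq' <| by
        apply IsLocalization.ringHom_ext p.primeCompl
        simp only [RingHom.comp_assoc, ← IsScalarTower.algebraMap_eq]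
    have : IsLocalization (Algebra.algebraMapSubmonoid Sp q.primeCompl) (Localization.AtPrime q) :=
      .isLocalization_of_submonoid_le _ _ (Algebra.algebraMapSubmonoid B p.primeCompl) _
      (by rintro _ ⟨x, hx, rfl⟩; simp_all [q.over_def p])
    have : Algebra.FinitePresentation (Localization.AtPrime p) Sp := by
      have : Algebra.IsPushout A (Localization.AtPrime p) B Sp :=
        .symm <| Algebra.isPushout_of_isLocalization p.primeCompl _ _ _
      exact .equiv (Algebra.IsPushout.equiv A (Localization.AtPrime p) B Sp)
    haveI : Algebra.FormallySmooth (IsLocalRing.ResidueField (Localization.AtPrime p))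
        (TensorProduct (Localization.AtPrime p) (IsLocalRing.ResidueField (Localization.AtPrime p))
          (Localization.AtPrime q)) := by
      haveI : Algebra.FormallyEtale (IsLocalRing.ResidueField (Localization.AtPrime p))
          (TensorProduct (Localization.AtPrime p)
            (IsLocalRing.ResidueField (Localization.AtPrime p)) (Localization.AtPrime q)) :=
        Algebra.FormallyEtale.of_formallyUnramified_of_field _ _
      infer_instance
    have hsm := Algebra.FormallySmooth.of_formallySmooth_residueField_tensor
      (R := Localization.AtPrime p) (S := Localization.AtPrime q) (P := Sp)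
      (Algebra.algebraMapSubmonoid _ q.primeCompl)
    haveI : Algebra.FormallyEtale (Localization.AtPrime p) (Localization.AtPrime q) :=
      Algebra.FormallyEtale.iff_formallyUnramified_and_formallySmooth.mpr ⟨hunr', hsm⟩
    exact Algebra.FormallyEtale.comp A (Localization.AtPrime p) (Localization.AtPrime q)

end Groth.Agent.S9560
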