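import Groth.Statements.S9613
import Mathlib

set_option autoImplicit false
universe u
open CAlg

namespace Groth.Agent.S9613

/-- Let R → K be an injective ring map into a field K which makes K an R-algebra of finite type. Then
for some nonzero f ∈ R the localization R_f is a field over which K is finite; here R_f is realised
as the R-subalgebra of K that is a localization of R away from f. -/
theorem result {R K : Type u} [CommRing R] [Field K] [Algebra R K] (hinj : Function.Injective (algebraMap R K)) [Algebra.FiniteType R K] :
    ∃ f : R, f ≠ 0 ∧ ∃ Rf : Subalgebra R K, IsLocalization.Away f Rf ∧ IsField Rf ∧ Module.Finite Rf K := by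
  classical
  haveI : IsDomain R := Function.Injective.isDomain (algebraMap R K) hinj
  haveI : FaithfulSMul R K := (faithfulSMul_iff_algebraMap_injective R K).2 hinj
  letI : Algebra (FractionRing R) K := FractionRing.liftAlgebra R K
  haveI : IsScalarTower R (FractionRing R) K := FractionRing.isScalarTower_liftAlgebra R K
  haveI : Algebra.FiniteType (FractionRing R) K :=
    Algebra.FiniteType.of_restrictScalars_finiteType R (FractionRing R) K
  haveI : Module.Finite (FractionRing R) K :=
    finite_of_finite_type_of_isJacobsonRing (FractionRing R) K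
  have halg : ∀ z : K, IsAlgebraic R z := fun z =>
    (IsFractionRing.isAlgebraic_iff R (FractionRing R) K).2
      (Algebra.IsIntegral.isIntegral (R := FractionRing R) z).isAlgebraic
  obtain ⟨s, hs⟩ := (‹Algebra.FiniteType R K›).out
  have hc : ∀ z : K, ∃ y : R, y ≠ 0 ∧ IsIntegral R (y • z) :=
    fun z => (halg z).exists_integral_multiple
  choose c hc0 hcint using hc
  have hf0 : (∏ z ∈ s, c z) ≠ 0 := Finset.prod_ne_zero_iff.2 fun z _ => hc0 z
  have hfK : IsUnit (algebraMap R K (∏ z ∈ s, c z)) :=
    IsUnit.mk0 _ (by rw [Ne, map_eq_zero_iff _ hinj]; exact hf0)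
  have hunits : ∀ y : Submonoid.powers (∏ z ∈ s, c z), IsUnit (algebraMap R K y) := by
    rintro ⟨_, n, rfl⟩; rw [map_pow]; exact hfK.pow n
  let φ : Localization.Away (∏ z ∈ s, c z) →ₐ[R] K :=
    IsLocalization.liftAlgHom (M := Submonoid.powers (∏ z ∈ s, c z)) (f := Algebra.ofId R K) hunits
  have hφinj : Function.Injective φ := by
    have hle : Submonoid.powers (∏ z ∈ s, c z) ≤ nonZeroDivisors R :=
      powers_le_nonZeroDivisors_of_noZeroDivisors hf0
    show Function.Injective (IsLocalization.lift (M := Submonoid.powers (∏ z ∈ s, c z))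
      (g := algebraMap R K) hunits)
    rw [IsLocalization.lift_injective_iff]
    intro x y
    rw [(IsLocalization.injective (Localization.Away (∏ z ∈ s, c z)) hle).eq_iff, hinj.eq_iff]
  haveI hloc : IsLocalization.Away (∏ z ∈ s, c z) φ.range :=
    IsLocalization.isLocalization_of_algEquiv (Submonoid.powers (∏ z ∈ s, c z))
      (AlgEquiv.ofInjective φ hφinj)
  have hfRf : IsUnit (algebraMap R φ.range (∏ z ∈ s, c z)) :=
    IsLocalization.map_units (M := Submonoid.powers (∏ z ∈ s, c z)) φ.range
      ⟨∏ z ∈ s, c z, 1, pow_one _⟩
  have hzint : ∀ z ∈ s, IsIntegral φ.range z := by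
    intro z hz
    have hdvd : algebraMap R φ.range (c z) ∣ algebraMap R φ.range (∏ z ∈ s, c z) :=
      map_dvd _ (Finset.dvd_prod_of_mem c hz)
    have hu : IsUnit (algebraMap R φ.range (c z)) := isUnit_of_dvd_unit hdvd hfRf
    have h1 : IsIntegral φ.range (c z • z) := (hcint z).tower_top
    have h2 : z = ((hu.unit⁻¹ : (φ.range)ˣ) : φ.range) • (c z • z) := by
      rw [← algebraMap_smul φ.range (c z) z, smul_smul, IsUnit.val_inv_mul, one_smul]
    rw [h2]
    exact h1.smul _
  haveI hint : Algebra.IsIntegral φ.range K := by
    constructor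
    intro z
    have hle : Algebra.adjoin R (s : Set K) ≤
        (integralClosure φ.range K).restrictScalars R := by
      apply Algebra.adjoin_le
      intro z hz
      exact hzint z hz
    have hz : z ∈ Algebra.adjoin R (s : Set K) := by rw [hs]; exact Algebra.mem_top
    exact hle hz
  refine ⟨∏ z ∈ s, c z, hf0, φ.range, hloc, ?_, ?_⟩
  · exact isField_of_isIntegral_of_isField (R := φ.range) (S := K) Subtype.val_injective
      (Field.toIsField K)
  · haveI : Algebra.FiniteType φ.range K :=
      Algebra.FiniteType.of_restrictScalars_finiteType R φ.range K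
    exact Algebra.IsIntegral.finite

end Groth.Agent.S9613
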