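import Groth.Statements.S9398
import Mathlib
import Groth.Agent.Lib.helper5.Japanese

set_option autoImplicit false
universe u
open CAlg

namespace Groth.Agent.S9398

/-- An algebra essentially of finite type over a universally Japanese ring is universally Japanese. -/
theorem result (R : Type u) [CommRing R]
    (hR : CAlg.IsUniversallyJapanese R) (T : Type u) [CommRing T] [Algebra R T]
    [Algebra.EssFiniteType R T] : CAlg.IsUniversallyJapanese T := by
  intro S' _ _ _ hft
  letI : Algebra R S' := ((algebraMap T S').comp (algebraMap R T)).toAlgebra
  haveI : IsScalarTower R T S' := IsScalarTower.of_algebraMap_eq fun _ => rfl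
  haveI : Algebra.FiniteType T S' := hft
  haveI : Algebra.EssFiniteType R S' := Algebra.EssFiniteType.comp R T S'
  have h0 : CAlg.IsN2 (Algebra.EssFiniteType.subalgebra R S') := hR _ inferInstance
  exact CAlg.h5_isN2_of_isLocalization _ (Algebra.EssFiniteType.submonoid R S') S' h0

end Groth.Agent.S9398
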