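import Groth.Statements.S9399
import Mathlib
import Groth.Agent.Lib.helper5.Japanese3

set_option autoImplicit false
universe u
open CAlg

namespace Groth.Agent.S9399

/-- Being universally Japanese can be checked on a finite cover of Spec R by principal opens. -/
theorem result (R : Type u) [CommRing R]
    {ι : Type u} [Finite ι] (f : ι → R) (hf : Ideal.span (Set.range f) = ⊤)
    (h : ∀ i, CAlg.IsUniversallyJapanese (Localization.Away (f i))) :
    CAlg.IsUniversallyJapanese R := by
  intro S' _ _ _ hft
  haveI : Algebra.FiniteType R S' := hft
  classical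
  let ι' := {i : ι // algebraMap R S' (f i) ≠ 0}
  let g : ι' → S' := fun i => algebraMap R S' (f i.1)
  have hg : Ideal.span (Set.range g) = ⊤ := by
    have h1 : Ideal.span (Set.range fun i => algebraMap R S' (f i)) = ⊤ := by
      have := congrArg (Ideal.map (algebraMap R S')) hf
      rw [Ideal.map_span, Ideal.map_top, ← Set.range_comp] at this
      exact this
    rw [eq_top_iff, ← h1]
    refine Ideal.span_le.2 ?_
    rintro _ ⟨i, rfl⟩
    by_cases hi : algebraMap R S' (f i) = 0
    · show algebraMap R S' (f i) ∈ _
      rw [hi]
      exact Ideal.zero_mem _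
    · exact Ideal.subset_span ⟨⟨i, hi⟩, rfl⟩
  haveI : ∀ i : ι', IsDomain (Localization.Away (g i)) := fun i =>
    IsLocalization.isDomain_localization (powers_le_nonZeroDivisors_of_noZeroDivisors i.2)
  refine CAlg.h5_isN2_of_cover S' g hg (fun i => Localization.Away (g i)) (fun i => ?_)
  have hu : IsUnit ((algebraMap R (Localization.Away (g i))) (f i.1)) := by
    rw [IsScalarTower.algebraMap_apply R S' (Localization.Away (g i))]
    exact IsLocalization.Away.algebraMap_isUnit (g i)
  letI : Algebra (Localization.Away (f i.1)) (Localization.Away (g i)) :=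
    (IsLocalization.Away.lift (f i.1) hu).toAlgebra
  haveI : IsScalarTower R (Localization.Away (f i.1)) (Localization.Away (g i)) :=
    IsScalarTower.of_algebraMap_eq fun r => (IsLocalization.Away.lift_eq (f i.1) hu r).symm
  haveI : Algebra.FiniteType R (Localization.Away (g i)) := inferInstance
  exact h i.1 _ (Algebra.FiniteType.of_restrictScalars_finiteType R (Localization.Away (f i.1))
    (Localization.Away (g i)))

end Groth.Agent.S9399
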