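import Groth.Statements.S9400
import Mathlib
import Groth.Agent.Lib.helper5.Japanese3

set_option autoImplicit false
universe u
open CAlg

namespace Groth.Agent.S9400

/-- Being a Nagata ring can be checked on a finite cover of Spec R by principal opens. -/
theorem result (R : Type u) [CommRing R]
    {ι : Type u} [Finite ι] (f : ι → R) (hf : Ideal.span (Set.range f) = ⊤)
    (h : ∀ i, CAlg.IsNagata (Localization.Away (f i))) : CAlg.IsNagata R := by
  classical
  haveI : Fintype ι := Fintype.ofFinite ι
  refine ⟨?_, ?_⟩
  · refine AlgebraicGeometry.isNoetherianRing_of_away (Finset.univ.image f) ?_ ?_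
    · rw [Finset.coe_image, Finset.coe_univ, Set.image_univ]
      exact hf
    · rintro ⟨s, hs⟩
      obtain ⟨i, -, rfl⟩ := Finset.mem_image.1 hs
      exact (h i).1
  · intro p _
    let ι' := {i : ι // f i ∉ p}
    let g : ι' → R ⧸ p := fun i => Ideal.Quotient.mk p (f i.1)
    have hg : Ideal.span (Set.range g) = ⊤ := by
      have h1 : Ideal.span (Set.range fun i => Ideal.Quotient.mk p (f i)) = ⊤ := by
        have := congrArg (Ideal.map (Ideal.Quotient.mk p)) hf
        rw [Ideal.map_span, Ideal.map_top, ← Set.range_comp] at this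
        exact this
      rw [eq_top_iff, ← h1]
      refine Ideal.span_le.2 ?_
      rintro _ ⟨i, rfl⟩
      by_cases hi : f i ∈ p
      · show Ideal.Quotient.mk p (f i) ∈ _
        rw [Ideal.Quotient.eq_zero_iff_mem.2 hi]
        exact Ideal.zero_mem _
      · exact Ideal.subset_span ⟨⟨i, hi⟩, rfl⟩
    have hdisj : ∀ i : ι', Disjoint ((Submonoid.powers (f i.1) : Submonoid R) : Set R)
        (p : Set R) := by
      intro i
      rw [Set.disjoint_left]
      rintro _ ⟨n, rfl⟩ hn
      exact i.2 (Ideal.IsPrime.mem_of_pow_mem ‹p.IsPrime› n hn)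
    haveI hprime : ∀ i : ι', (p.map (algebraMap R (Localization.Away (f i.1)))).IsPrime :=
      fun i => IsLocalization.isPrime_of_isPrime_disjoint (Submonoid.powers (f i.1)) _ p
        inferInstance (hdisj i)
    haveI : ∀ i : ι', IsLocalization.Away (g i)
        ((Localization.Away (f i.1)) ⧸ p.map (algebraMap R (Localization.Away (f i.1)))) := by
      intro i
      have h1 : IsLocalization (Algebra.algebraMapSubmonoid (R ⧸ p) (Submonoid.powers (f i.1)))
          ((Localization.Away (f i.1)) ⧸ p.map (algebraMap R (Localization.Away (f i.1)))) :=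
        inferInstance
      have h2 : Algebra.algebraMapSubmonoid (R ⧸ p) (Submonoid.powers (f i.1)) =
          Submonoid.powers (g i) := Submonoid.map_powers _ _
      rw [h2] at h1
      exact h1
    exact CAlg.h5_isN2_of_cover (R ⧸ p) g hg
      (fun i => (Localization.Away (f i.1)) ⧸ p.map (algebraMap R (Localization.Away (f i.1))))
      (fun i => (h i.1).2 _)

end Groth.Agent.S9400
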