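import Groth.Statements.S9677
import Mathlib
import Groth.Agent.Lib.helper5.FibreClosed
import Groth.Agent.Lib.helper5.FactorStalk

set_option autoImplicit false
universe u
open CategoryTheory CategoryTheory.Limits AlgebraicGeometry
open Mor

namespace Groth.Agent.S9677

lemma h5_generic_eq {T : Type*} [TopologicalSpace T] [T0Space T] {y y' : T}
    (hy : closure {y} ∈ irreducibleComponents T) (h : y' ⤳ y) : y' = y := by
  have h1 : closure {y} ⊆ closure {y'} :=
    (isClosed_closure).closure_subset_iff.mpr
      (Set.singleton_subset_iff.mpr (specializes_iff_mem_closure.mp h))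
  have h2 : closure {y'} ⊆ closure {y} := hy.2 (isIrreducible_singleton.closure) h1
  exact (inseparable_iff_closure_eq.mpr (subset_antisymm h2 h1)).eq

lemma h5_algebraic_of_isIso_stalkMap {X Y : Scheme.{u}} (f : X ⟶ Y) (x : X)
    [IsIso (f.stalkMap x)] :
    @Algebra.IsAlgebraic (Y.residueField (f x)) (X.residueField x) _ _
      (f.residueFieldMap x).hom.toAlgebra := by
  letI := (f.residueFieldMap x).hom.toAlgebra
  have hsurj : Function.Surjective (algebraMap (Y.residueField (f x)) (X.residueField x)) := by
    intro z
    obtain ⟨a, rfl⟩ := X.residue_surjective x z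
    obtain ⟨b, rfl⟩ := (ConcreteCategory.bijective_of_isIso (f.stalkMap x)).2 a
    refine ⟨Y.residue (f x) b, ?_⟩
    exact congr($(Scheme.residue_residueFieldMap f x) b)
  haveI : Algebra.IsIntegral (Y.residueField (f x)) (X.residueField x) :=
    Algebra.isIntegral_of_surjective hsurj
  exact Algebra.IsIntegral.isAlgebraic

/-- Suppose X and Y have finitely many irreducible components and f : X ⟶ Y is birational, i.e. f
restricts to a bijection between the generic points of the irreducible components of X and those of
Y and induces an isomorphism of local rings at every generic point of an irreducible component of X.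
Then for any generic point y of a component of Y, pulling f back along the canonical map Spec
O_{Y,y} ⟶ Y gives an isomorphism onto Spec O_{Y,y}. -/
theorem result {X Y : Scheme.{u}} (f : X ⟶ Y)
    (hXfin : (irreducibleComponents ↥X).Finite) (hYfin : (irreducibleComponents ↥Y).Finite)
    (hbij : Set.BijOn (fun x : X => f.base x) {x : X | closure {x} ∈ irreducibleComponents ↥X}
      {y : Y | closure {y} ∈ irreducibleComponents ↥Y})
    (hiso : ∀ x : X, closure {x} ∈ irreducibleComponents ↥X → IsIso (f.stalkMap x))
    (y : Y) (hy : closure {y} ∈ irreducibleComponents ↥Y) :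
    IsIso (pullback.snd f (Y.fromSpecStalk y)) := by
  obtain ⟨x, hx, rfl⟩ := hbij.surjOn hy
  change IsIso (pullback.snd f (Y.fromSpecStalk (f x)))
  change closure {f x} ∈ irreducibleComponents ↥Y at hy
  haveI := hiso x hx
  have halg := h5_algebraic_of_isIso_stalkMap f x
  have hpts : ∀ t : ↥(pullback f (Y.fromSpecStalk (f x))),
      pullback.fst f (Y.fromSpecStalk (f x)) t = x := by
    intro t
    set x' := pullback.fst f (Y.fromSpecStalk (f x)) t with hx'
    have h1 : f x' ⤳ f x := by
      have h0 : f x' = Y.fromSpecStalk (f x) (pullback.snd f (Y.fromSpecStalk (f x)) t) := by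
        rw [hx', ← Scheme.Hom.comp_apply, ← Scheme.Hom.comp_apply, pullback.condition]
      rw [h0]
      have h00 : Y.fromSpecStalk (f x) (pullback.snd f (Y.fromSpecStalk (f x)) t) ∈
          Set.range (Y.fromSpecStalk (f x)) := Set.mem_range_self _
      rw [Scheme.range_fromSpecStalk] at h00
      exact h00
    have h2 : f x' = f x := h5_generic_eq hy h1
    have hZ := irreducibleComponent_mem_irreducibleComponents x'
    obtain ⟨ξ, hξ⟩ := QuasiSober.sober hZ.1 (isClosed_of_mem_irreducibleComponents _ hZ)
    have hξcl : closure {ξ} = irreducibleComponent x' := hξ.def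
    have hξgen : closure {ξ} ∈ irreducibleComponents X := hξcl ▸ hZ
    have hξx' : ξ ⤳ x' := specializes_iff_mem_closure.mpr (hξcl ▸ mem_irreducibleComponent)
    have h3 : f ξ ⤳ f x' := hξx'.map f.continuous
    have h4 : f ξ = f x := h5_generic_eq hy (h2 ▸ h3)
    have h5 : ξ = x := hbij.injOn hξgen hx h4
    rw [h5] at hξx'
    exact H5FibreClosed.eq_of_algebraic f hξx' h2.symm halg
  obtain ⟨u, hu⟩ := H5Factor.exists_factor_fromSpecStalk
    (pullback.fst f (Y.fromSpecStalk (f x))) x (fun t => by rw [hpts t])
  have hu2 : u ≫ Spec.map (f.stalkMap x) = pullback.snd f (Y.fromSpecStalk (f x)) := by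
    rw [← cancel_mono (Y.fromSpecStalk (f x)), Category.assoc,
      Scheme.SpecMap_stalkMap_fromSpecStalk, ← Category.assoc, hu, pullback.condition]
  let σ : Spec (Y.presheaf.stalk (f x)) ⟶ pullback f (Y.fromSpecStalk (f x)) :=
    pullback.lift (Spec.map (inv (f.stalkMap x)) ≫ X.fromSpecStalk x) (𝟙 _)
      (by rw [Category.assoc, ← Scheme.SpecMap_stalkMap_fromSpecStalk, ← Spec.map_comp_assoc,
        IsIso.hom_inv_id, Spec.map_id, Category.id_comp])
  refine ⟨⟨σ, ?_, pullback.lift_snd _ _ _⟩⟩
  apply pullback.hom_ext
  · rw [Category.assoc, pullback.lift_fst, Category.id_comp, ← hu2, Category.assoc,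
      ← Spec.map_comp_assoc, IsIso.inv_hom_id, Spec.map_id, Category.id_comp, hu]
  · rw [Category.assoc, pullback.lift_snd, Category.comp_id, Category.id_comp]

end Groth.Agent.S9677
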