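import Groth.Statements.S9678
import Mathlib
import Groth.Agent.Lib.helper5.SpreadOutFP
import Groth.Agent.Lib.helper5.SpreadOutFP3

set_option autoImplicit false
universe u
open CategoryTheory CategoryTheory.Limits AlgebraicGeometry
open Mor TopologicalSpace

namespace Groth.Agent.S9678

section Top
variable {T : Type*} [TopologicalSpace T]

/-- union of the other irreducible components -/
def others (Z : Set T) : Set T := ⋃₀ (irreducibleComponents T \ {Z})

lemma isClosed_others (hfin : (irreducibleComponents T).Finite) (Z : Set T) :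
    IsClosed (others Z) := by
  rw [others, Set.sUnion_eq_biUnion]
  apply Set.Finite.isClosed_biUnion (hfin.subset Set.diff_subset)
  intro W hW
  exact isClosed_of_mem_irreducibleComponents W hW.1

lemma compl_others_subset {Z : Set T} : (others Z)ᶜ ⊆ Z := by
  intro z hz
  by_contra h
  apply hz
  refine ⟨irreducibleComponent z, ⟨irreducibleComponent_mem_irreducibleComponents z, ?_⟩,
    mem_irreducibleComponent⟩
  intro h1
  rw [Set.mem_singleton_iff] at h1
  exact h (h1 ▸ mem_irreducibleComponent)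

lemma generic_notMem_others {y : T} (hy : closure {y} ∈ irreducibleComponents T) :
    y ∉ others (closure {y}) := by
  rintro ⟨W, ⟨hW, hne⟩, hyW⟩
  apply hne
  have hcl : closure {y} ⊆ W :=
    (isClosed_of_mem_irreducibleComponents W hW).closure_subset_iff.mpr
      (Set.singleton_subset_iff.mpr hyW)
  have := hy.2 hW.1 hcl
  exact (subset_antisymm this hcl)

lemma disjoint_compl_others {Z Z' : Set T} (hZ : Z ∈ irreducibleComponents T) (hne : Z ≠ Z') :
    Disjoint (others Z)ᶜ (others Z')ᶜ := by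
  rw [Set.disjoint_left]
  intro z hz hz'
  exact hz' ⟨Z, ⟨hZ, hne⟩, compl_others_subset hz⟩

lemma dense_of_generic_mem [QuasiSober T] (U : Set T)
    (h : ∀ y, closure {y} ∈ irreducibleComponents T → y ∈ U) : Dense U := by
  intro z
  have hZ := irreducibleComponent_mem_irreducibleComponents z
  obtain ⟨y, hy⟩ := QuasiSober.sober hZ.1 (isClosed_of_mem_irreducibleComponents _ hZ)
  have h1 : closure {y} = irreducibleComponent z := hy.def
  have hyU : y ∈ U := h y (h1 ▸ hZ)
  have h2 : closure {y} ⊆ closure U := closure_mono (Set.singleton_subset_iff.mpr hyU)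
  exact h2 (by rw [h1]; exact mem_irreducibleComponent)

end Top

lemma germInjective_of_generic {Y : Scheme.{u}} [IsReduced Y]
    (hfin : (irreducibleComponents Y).Finite) {y : Y}
    (hy : closure {y} ∈ irreducibleComponents Y) : Y.IsGermInjectiveAt y := by
  let N : Y.Opens := ⟨(others (closure {y}))ᶜ, (isClosed_others hfin _).isOpen_compl⟩
  have hyN : y ∈ N := generic_notMem_others hy
  have hirr : IsIrreducible (N : Set Y) :=
    ⟨⟨y, hyN⟩, (hy.1.isPreirreducible).open_subset N.2 compl_others_subset⟩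
  haveI : IrreducibleSpace N := Subtype.irreducibleSpace hirr
  haveI : IrreducibleSpace N.toScheme := ‹_›
  haveI : IsIntegral N.toScheme := isIntegral_of_irreducibleSpace_of_isReduced _
  have h1 : N.toScheme.IsGermInjectiveAt ⟨y, hyN⟩ := inferInstance
  exact (isGermInjectiveAt_iff_of_isOpenImmersion (f := N.ι) (x := ⟨y, hyN⟩)).mpr h1

section Local
variable {X Y : Scheme.{u}}

lemma exists_g_lfp (f : X ⟶ Y) [LocallyOfFinitePresentation f] (x : X) [IsIso (f.stalkMap x)] :
    ∃ (V₀ : Y.Opens) (hy : f x ∈ V₀) (g : V₀.toScheme ⟶ X),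
      V₀.fromSpecStalkOfMem (f x) hy ≫ g = Spec.map (inv (f.stalkMap x)) ≫ X.fromSpecStalk x ∧
      g ≫ f = V₀.ι := by
  have h : (Spec.map (inv (f.stalkMap x)) ≫ X.fromSpecStalk x) ≫ f =
      Y.fromSpecStalk (f x) ≫ 𝟙 Y := by
    rw [Category.assoc, ← Scheme.SpecMap_stalkMap_fromSpecStalk, ← Spec.map_comp_assoc,
      IsIso.hom_inv_id, Spec.map_id, Category.id_comp, Category.comp_id]
  obtain ⟨V₀, hy, g, h1, h2⟩ := H5Spread.spread_out_of_lfp' (𝟙 Y) f _ h
  exact ⟨V₀, hy, g, h1.symm, by rw [h2, Category.comp_id]⟩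

lemma exists_g_gi (f : X ⟶ Y) [LocallyOfFiniteType f] (x : X) [IsIso (f.stalkMap x)]
    [Y.IsGermInjectiveAt (f x)] :
    ∃ (V₀ : Y.Opens) (hy : f x ∈ V₀) (g : V₀.toScheme ⟶ X),
      V₀.fromSpecStalkOfMem (f x) hy ≫ g = Spec.map (inv (f.stalkMap x)) ≫ X.fromSpecStalk x ∧
      g ≫ f = V₀.ι := by
  have h : (Spec.map (inv (f.stalkMap x)) ≫ X.fromSpecStalk x) ≫ f =
      Y.fromSpecStalk (f x) ≫ 𝟙 Y := by
    rw [Category.assoc, ← Scheme.SpecMap_stalkMap_fromSpecStalk, ← Spec.map_comp_assoc,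
      IsIso.hom_inv_id, Spec.map_id, Category.id_comp, Category.comp_id]
  obtain ⟨V₀, hy, g, h1, h2⟩ := spread_out_of_isGermInjective' (𝟙 Y) f _ h
  exact ⟨V₀, hy, g, h1.symm, by rw [h2, Category.comp_id]⟩

lemma local_iso (f : X ⟶ Y) [LocallyOfFiniteType f] (x : X) [IsIso (f.stalkMap x)]
    (N : Y.Opens) (hN : f x ∈ N)
    (hg : ∃ (V₀ : Y.Opens) (hy : f x ∈ V₀) (g : V₀.toScheme ⟶ X),
      V₀.fromSpecStalkOfMem (f x) hy ≫ g = Spec.map (inv (f.stalkMap x)) ≫ X.fromSpecStalk x ∧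
      g ≫ f = V₀.ι) :
    ∃ (U : X.Opens) (V : Y.Opens) (_ : x ∈ U) (_ : f x ∈ V) (ι : U.toScheme ≅ V.toScheme),
      ι.hom ≫ V.ι = U.ι ≫ f ∧ V ≤ N := by
  obtain ⟨V₀, hy, g, hg1, hg2⟩ := hg
  let V₁ : Y.Opens := V₀ ⊓ N
  have hyV₁ : f x ∈ V₁ := ⟨hy, hN⟩
  have hle : V₁ ≤ V₀ := inf_le_left
  obtain ⟨U, V, hxU, hyV, ι, h1, -, h3⟩ := H5Spread.exists_iso_opens' (S := Y) f (𝟙 Y)
    (⊤ : X.Opens) (Set.mem_univ x) V₁ hyV₁
    ((⊤ : X.Opens).ι ≫ f) (Y.homOfLE hle ≫ g) (by rw [Category.comp_id])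
    (by rw [Category.assoc, hg2, Scheme.homOfLE_ι, Category.comp_id])
    (asIso (f.stalkMap x))
    (by rw [asIso_hom, Scheme.SpecMap_stalkMap_fromSpecStalk, ← Category.assoc,
      Scheme.Opens.fromSpecStalkOfMem_ι])
    (by rw [asIso_inv, ← Category.assoc, H5Spread.fromSpecStalkOfMem_homOfLE, hg1])
  exact ⟨U, V, hxU, hyV, ι, by rw [← h1, Category.comp_id], h3.trans inf_le_right⟩

end Local

section Assemble
variable {X Y : Scheme.{u}}

lemma isIso_stalkMap_of_isOpenImmersion_comp (f : X ⟶ Y) (U : X.Opens)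
    [IsOpenImmersion (U.ι ≫ f)] (x : X) (hx : x ∈ U) : IsIso (f.stalkMap x) := by
  have h := Scheme.Hom.stalkMap_comp U.ι f ⟨x, hx⟩
  have h0 : IsIso ((U.ι ≫ f).stalkMap ⟨x, hx⟩) := inferInstance
  rw [h] at h0
  exact @IsIso.of_isIso_comp_right _ _ _ _ _ (f.stalkMap (U.ι ⟨x, hx⟩)) (U.ι.stalkMap ⟨x, hx⟩) _ h0

lemma nhds_le_map_of_open_restrict {A B : Type*} [TopologicalSpace A] [TopologicalSpace B]
    (f : A → B) (U : Set A) (hU : IsOpen U) (h : IsOpenMap (fun u : U => f u)) (a : A)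
    (ha : a ∈ U) : nhds (f a) ≤ Filter.map f (nhds a) := by
  have h1 := h.nhds_le ⟨a, ha⟩
  have h2 : Filter.map (Subtype.val : U → A) (nhds ⟨a, ha⟩) = nhds a :=
    map_nhds_subtype_coe_eq_nhds ha (hU.mem_nhds ha)
  rw [← h2, Filter.map_map]
  exact h1

lemma assemble (f : X ⟶ Y) {I : Type*} (U : I → X.Opens) (V : I → Y.Opens)
    (ι : ∀ i, (U i).toScheme ≅ (V i).toScheme)
    (hι : ∀ i, (ι i).hom ≫ (V i).ι = (U i).ι ≫ f)
    (hdisj : ∀ i j, i ≠ j → Disjoint (V i : Set Y) (V j)) :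
    ∃ (hUV : (⨆ i, U i) ≤ f ⁻¹ᵁ (⨆ i, V i)),
      IsIso (f.resLE (⨆ i, V i) (⨆ i, U i) hUV) := by
  have hOI : ∀ i, IsOpenImmersion ((U i).ι ≫ f) := fun i => by rw [← hι i]; infer_instance
  have hpt : ∀ i (u : (U i).toScheme), f u.1 = ((ι i).hom u).1 := by
    intro i u
    have h1 := congr($(hι i) u)
    rw [Scheme.Hom.comp_apply, Scheme.Hom.comp_apply] at h1
    exact h1.symm
  have hUV' : ∀ i, U i ≤ f ⁻¹ᵁ V i := by
    intro i x hx
    change f x ∈ V i
    rw [hpt i ⟨x, hx⟩]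
    exact ((ι i).hom ⟨x, hx⟩).2
  have hUV : (⨆ i, U i) ≤ f ⁻¹ᵁ (⨆ i, V i) := by
    intro x hx
    obtain ⟨i, hi⟩ := Opens.mem_iSup.mp hx
    exact Opens.mem_iSup.mpr ⟨i, hUV' i hi⟩
  refine ⟨hUV, ?_⟩
  rw [isIso_iff_isOpenImmersion_and_surjective]
  constructor
  · have hst : ∀ x ∈ (⨆ i, U i), IsIso (f.stalkMap x) := by
      intro x hx
      obtain ⟨i, hi⟩ := Opens.mem_iSup.mp hx
      exact isIso_stalkMap_of_isOpenImmersion_comp f (U i) x hi
    haveI hst' : ∀ u : (⨆ i, U i).toScheme, IsIso (((⨆ i, U i).ι ≫ f).stalkMap u) := by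
      intro u
      rw [Scheme.Hom.stalkMap_comp]
      have h1 : IsIso (f.stalkMap ((⨆ i, U i).ι u)) := hst u.1 u.2
      exact @IsIso.comp_isIso _ _ _ _ _ _ _ h1 inferInstance
    have hpt' : ∀ u : (⨆ i, U i).toScheme, ((⨆ i, U i).ι ≫ f) u = f u.1 := by
      intro u
      rw [Scheme.Hom.comp_apply]
      rfl
    haveI : IsOpenImmersion ((⨆ i, U i).ι ≫ f) := by
      apply IsOpenImmersion.of_isIso_stalkMap
      apply Topology.IsOpenEmbedding.of_continuous_injective_isOpenMap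
      · exact Scheme.Hom.continuous _
      · intro u u' h
        rw [hpt', hpt'] at h
        obtain ⟨i, hi⟩ := Opens.mem_iSup.mp u.2
        obtain ⟨j, hj⟩ := Opens.mem_iSup.mp u'.2
        have hij : i = j := by
          by_contra hne
          have h1 : f u.1 ∈ V i := hUV' i hi
          have h2 : f u.1 ∈ V j := h ▸ hUV' j hj
          exact Set.disjoint_left.mp (hdisj i j hne) h1 h2
        subst hij
        have h3 : ((U i).ι ≫ f) ⟨u.1, hi⟩ = ((U i).ι ≫ f) ⟨u'.1, hj⟩ := by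
          rw [Scheme.Hom.comp_apply, Scheme.Hom.comp_apply]
          exact h
        have h4 := ((U i).ι ≫ f).isOpenEmbedding.injective h3
        have h5 : u.1 = u'.1 := Subtype.mk.inj h4
        exact Subtype.ext h5
      · apply IsOpenMap.of_nhds_le
        intro u
        obtain ⟨i, hi⟩ := Opens.mem_iSup.mp u.2
        have h1 : nhds (f u.1) ≤ Filter.map f (nhds u.1) := by
          apply nhds_le_map_of_open_restrict f (U i : Set X) (U i).2 _ u.1 hi
          exact ((U i).ι ≫ f).isOpenEmbedding.isOpenMap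
        have h2 : Filter.map (Subtype.val : ((⨆ i, U i : X.Opens) : Set X) → X) (nhds u) =
            nhds u.1 :=
          map_nhds_subtype_coe_eq_nhds u.2 ((⨆ i, U i).2.mem_nhds u.2)
        have hfun : (⇑((⨆ i, U i).ι ≫ f) : _ → _) =
            (fun x => f x) ∘ (Subtype.val : ((⨆ i, U i : X.Opens) : Set X) → X) := funext hpt'
        rw [hpt', hfun]
        refine h1.trans (le_of_eq ?_)
        rw [← h2, Filter.map_map]
        rfl
    have hcomp : f.resLE _ _ hUV ≫ (⨆ i, V i).ι = (⨆ i, U i).ι ≫ f := Scheme.Hom.resLE_comp_ι _ _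
    haveI : IsOpenImmersion (f.resLE _ _ hUV ≫ (⨆ i, V i).ι) := by rw [hcomp]; infer_instance
    exact IsOpenImmersion.of_comp (f.resLE _ _ hUV) (⨆ i, V i).ι
  · refine ⟨fun v => ?_⟩
    obtain ⟨i, hi⟩ := Opens.mem_iSup.mp v.2
    let u : (U i).toScheme := (ι i).inv ⟨v.1, hi⟩
    have hu : f u.1 = v.1 := by
      rw [hpt i u]
      have h1 : (ι i).hom u = ⟨v.1, hi⟩ := by
        change (ι i).hom ((ι i).inv ⟨v.1, hi⟩) = _
        rw [← Scheme.Hom.comp_apply, Iso.inv_hom_id]
        rfl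
      rw [h1]
    have huU : u.1 ∈ (⨆ i, U i) := Opens.mem_iSup.mpr ⟨i, u.2⟩
    refine ⟨⟨u.1, huU⟩, ?_⟩
    apply Subtype.ext
    have h1 := congr($(Scheme.Hom.resLE_comp_ι f hUV) ⟨u.1, huU⟩)
    rw [Scheme.Hom.comp_apply, Scheme.Hom.comp_apply] at h1
    exact h1.trans hu

end Assemble

/-- Suppose X and Y have finitely many irreducible components and f : X ⟶ Y is birational, i.e. f
restricts to a bijection between the generic points of the irreducible components of X and those of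
Y and induces an isomorphism of local rings at every generic point of an irreducible component of X.
Suppose moreover that Y is reduced and f is locally of finite type, or alternatively that f is
locally finitely presented. Then there are dense opens U ⊆ X and V ⊆ Y with f(U) ⊆ V such that the
restriction U ⟶ V of f is an isomorphism. -/
theorem result {X Y : Scheme.{u}} (f : X ⟶ Y)
    (hXfin : (irreducibleComponents ↥X).Finite) (hYfin : (irreducibleComponents ↥Y).Finite)
    (hbij : Set.BijOn (fun x : X => f.base x) {x : X | closure {x} ∈ irreducibleComponents ↥X}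
      {y : Y | closure {y} ∈ irreducibleComponents ↥Y})
    (hiso : ∀ x : X, closure {x} ∈ irreducibleComponents ↥X → IsIso (f.stalkMap x))
    (hf : (LocallyOfFiniteType f ∧ IsReduced Y) ∨ LocallyOfFinitePresentation f) :
    ∃ (U : X.Opens) (V : Y.Opens) (hUV : U ≤ f ⁻¹ᵁ V), Dense (U : Set ↥X) ∧ Dense (V : Set ↥Y) ∧
      IsIso (f.resLE V U hUV) := by
  classical
  haveI hlft : LocallyOfFiniteType f := by
    rcases hf with ⟨h, -⟩ | h
    · exact h
    · infer_instance
  let I := {x : X | closure {x} ∈ irreducibleComponents ↥X}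
  let N : I → Y.Opens := fun x =>
    ⟨(others (closure {f x.1}))ᶜ, (isClosed_others hYfin _).isOpen_compl⟩
  have hfI : ∀ x : I, closure {f x.1} ∈ irreducibleComponents Y := fun x => hbij.mapsTo x.2
  have hN : ∀ x : I, f x.1 ∈ N x := fun x => generic_notMem_others (hfI x)
  have hg : ∀ x : I, ∃ (V₀ : Y.Opens) (hy : f x.1 ∈ V₀) (g : V₀.toScheme ⟶ X),
      V₀.fromSpecStalkOfMem (f x.1) hy ≫ g =
        Spec.map (@inv _ _ _ _ (f.stalkMap x.1) (hiso x.1 x.2)) ≫ X.fromSpecStalk x.1 ∧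
      g ≫ f = V₀.ι := by
    intro x
    haveI := hiso x.1 x.2
    rcases hf with ⟨h, hred⟩ | h
    · haveI : Y.IsGermInjectiveAt (f x.1) := germInjective_of_generic hYfin (hfI x)
      exact exists_g_gi f x.1
    · exact exists_g_lfp f x.1
  have key : ∀ x : I, ∃ (U : X.Opens) (V : Y.Opens) (_ : x.1 ∈ U) (_ : f x.1 ∈ V)
      (ι : U.toScheme ≅ V.toScheme), ι.hom ≫ V.ι = U.ι ≫ f ∧ V ≤ N x := by
    intro x
    haveI := hiso x.1 x.2
    exact local_iso f x.1 (N x) (hN x) (hg x)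
  choose U V hxU hyV ι hι hVN using key
  have hdisj : ∀ i j : I, i ≠ j → Disjoint (V i : Set Y) (V j) := by
    intro i j hne
    have h1 : closure {f i.1} ≠ closure {f j.1} := by
      intro h
      apply hne
      have h2 : f i.1 = f j.1 := (inseparable_iff_closure_eq.mpr h).eq
      exact Subtype.ext (hbij.injOn i.2 j.2 h2)
    exact (disjoint_compl_others (hfI i) h1).mono (hVN i) (hVN j)
  obtain ⟨hUV, hIso⟩ := assemble f U V ι hι hdisj
  refine ⟨⨆ i, U i, ⨆ i, V i, hUV, ?_, ?_, hIso⟩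
  · apply dense_of_generic_mem
    intro x hx
    exact Opens.mem_iSup.mpr ⟨⟨x, hx⟩, hxU ⟨x, hx⟩⟩
  · apply dense_of_generic_mem
    intro y hy
    obtain ⟨x, hx, rfl⟩ := hbij.surjOn hy
    exact Opens.mem_iSup.mpr ⟨⟨x, hx⟩, hyV ⟨x, hx⟩⟩

end Groth.Agent.S9678
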