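import Groth.Statements.S12751
import Groth.Agent.Lib.helper6.ArtFibreSep
import Groth.Agent.Lib.helper6.LocalSurj

set_option autoImplicit false
universe u v
open CategoryTheory
open scoped TensorProduct
open ArtFun ArtFun.Art

namespace Groth.Agent.S12751

/-- A morphism f : B → A in the category of Artinian local Λ-algebras with residue field k is surjective
if and only if Ω_{B/Λ} ⊗_B k → Ω_{A/Λ} ⊗_A k is surjective; by right exactness of the sequence
Ω_{B/Λ} ⊗_B A → Ω_{A/Λ} → Ω_{A/B} → 0 this surjectivity is the vanishing of Ω_{A/B} ⊗_A k, which is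
how it is written here (A a B-algebra through f, k an A-module through the augmentation). -/
theorem result {Λ : Type u} {k : Type u} [CommRing Λ] [Field k] [Algebra Λ k]
    [IsNoetherianRing Λ] [Module.Finite Λ k]
    {A B : ArtFun.Art Λ k} (f : B ⟶ A) :
    letI : Algebra B A := f.toAlgHom.toRingHom.toAlgebra
    letI : Algebra A k := A.res.toRingHom.toAlgebra
    Function.Surjective f ↔ Subsingleton (k ⊗[A] Ω[A⁄B]) := by
  letI iBA : Algebra B A := f.toAlgHom.toRingHom.toAlgebra
  letI iAk : Algebra A k := A.res.toRingHom.toAlgebra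
  show Function.Surjective f ↔ Subsingleton (k ⊗[A] Ω[A⁄B])
  constructor
  · intro hs
    haveI : Subsingleton Ω[A⁄B] := KaehlerDifferential.subsingleton_of_surjective B A hs
    refine ⟨fun x y => ?_⟩
    have h0 : ∀ z : k ⊗[A] Ω[A⁄B], z = 0 := by
      intro z
      induction z using TensorProduct.induction_on with
      | zero => rfl
      | tmul c w => rw [Subsingleton.elim w 0, TensorProduct.tmul_zero]
      | add z₁ z₂ h₁ h₂ => rw [h₁, h₂, add_zero]
    rw [h0 x, h0 y]
  · intro hsub
    by_contra hns
    haveI : IsScalarTower Λ A k := IsScalarTower.of_algebraMap_eq (fun l => (A.res.commutes l).symm)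
    obtain ⟨N, hN⟩ := H6Art.exists_pow_maximalIdeal_eq_bot B
    haveI : IsAdicComplete (IsLocalRing.maximalIdeal B) B :=
      H6Art.isAdicComplete_of_pow_eq_bot _ _ hN
    obtain ⟨D, ⟨x, hx⟩, hD⟩ := H6Loc.exists_derivation_of_not_surjective (Λ := Λ) (k := k)
      (R := B) (S := A) B.res B.res_surjective (fun a => Art.mem_maximalIdeal_iff B a)
      A.res_surjective f.toAlgHom (fun r => Art.res_app f r) hns
    letI iBk : Module B k := Module.compHom k (algebraMap B A)
    haveI : IsScalarTower B A k := ⟨fun b a c => by
      change A.res (f b * a) * c = A.res (f b) * (A.res a * c)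
      rw [map_mul, mul_assoc]⟩
    let D' : Derivation B A k :=
      { toFun := D
        map_add' := D.map_add
        map_smul' := fun b a => by
          change D (f b * a) = A.res (f b) * D a
          rw [D.leibniz, hD b, smul_zero, add_zero]
          rfl
        map_one_eq_zero' := D.map_one_eq_zero
        leibniz' := D.leibniz }
    have h0 : (1 : k) ⊗ₜ[A] KaehlerDifferential.D B A x = 0 := Subsingleton.elim _ _
    have h1 := congrArg (LinearMap.mul' A k ∘ₗ LinearMap.lTensor k D'.liftKaehlerDifferential) h0
    rw [map_zero, LinearMap.comp_apply, LinearMap.lTensor_tmul, LinearMap.mul'_apply,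
      Derivation.liftKaehlerDifferential_comp_D, one_mul] at h1
    exact hx h1


end Groth.Agent.S12751
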