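import Groth.Statements.S0193
import Mathlib
import Groth.Agent.Lib.helper6.EndStruct
import Groth.Agent.S13268

set_option autoImplicit false
universe u v w
open scoped TensorProduct
open Curves

namespace Groth.Agent.S0193

/-- If matrix algebras of positive size over two finite central skew fields are isomorphic as
k-algebras, the skew fields are isomorphic. -/
theorem result (k : Type u) [Field k]
    (D : Type v) [DivisionRing D] [Algebra k D] [Algebra.IsCentral k D] [FiniteDimensional k D]
    (D' : Type w) [DivisionRing D'] [Algebra k D'] [Algebra.IsCentral k D'] [FiniteDimensional k D']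
    (n m : ℕ) (hn : n ≠ 0) (hm : m ≠ 0)
    (e : Matrix (Fin n) (Fin n) D ≃ₐ[k] Matrix (Fin m) (Fin m) D') :
    Nonempty (D ≃ₐ[k] D') := by
  classical
  haveI : NeZero n := ⟨hn⟩
  haveI : NeZero m := ⟨hm⟩
  letI : Module (Matrix (Fin n) (Fin n) D) (Fin m → D') :=
    Module.compHom _ (e : Matrix (Fin n) (Fin n) D →+* Matrix (Fin m) (Fin m) D')
  have hsmul : ∀ (X : Matrix (Fin n) (Fin n) D) (v : Fin m → D'), X • v = Matrix.mulVec (e X) v :=
    fun X v => rfl
  haveI hs1 : IsSimpleModule (Matrix (Fin n) (Fin n) D) (Fin n → D) := H6SN2.simple_vec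
  haveI hs2 : IsSimpleModule (Matrix (Fin n) (Fin n) D) (Fin m → D') := by
    rw [isSimpleModule_iff_toSpanSingleton_surjective]
    refine ⟨inferInstance, fun v hv w => ?_⟩
    obtain ⟨X', hX'⟩ := ((isSimpleModule_iff_toSpanSingleton_surjective
      (R := Matrix (Fin m) (Fin m) D') (M := Fin m → D')).mp H6SN2.simple_vec).2 v hv w
    refine ⟨e.symm X', ?_⟩
    rw [LinearMap.toSpanSingleton_apply] at hX' ⊢
    rw [hsmul, e.apply_symm_apply]
    exact hX'
  haveI : IsArtinianRing (Matrix (Fin n) (Fin n) D) := IsArtinianRing.of_finite k _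
  obtain ⟨θ⟩ : Nonempty ((Fin n → D) ≃ₗ[Matrix (Fin n) (Fin n) D] (Fin m → D')) :=
    H6SN2.simple_modules_iso
  have hk1 : ∀ (c : k) (v : Fin n → D),
      (algebraMap k (Matrix (Fin n) (Fin n) D) c) • v = c • v := by
    intro c v
    rw [Algebra.algebraMap_eq_smul_one, smul_assoc, one_smul]
  have hk2 : ∀ (c : k) (v : Fin m → D'),
      (algebraMap k (Matrix (Fin n) (Fin n) D) c) • v = c • v := by
    intro c v
    rw [hsmul, e.commutes, Algebra.algebraMap_eq_smul_one, Matrix.smul_mulVec, Matrix.one_mulVec]
  let θk : (Fin n → D) ≃ₗ[k] (Fin m → D') :=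
    { θ.toAddEquiv with
      map_smul' := fun c v => by
        show θ (c • v) = c • θ v
        rw [← hk1, θ.map_smul, hk2] }
  have hfr : n * Module.finrank k D = m * Module.finrank k D' := by
    have h := LinearEquiv.finrank_eq θk
    rw [Module.finrank_pi_fintype, Module.finrank_pi_fintype] at h
    simpa using h
  have hmat : n * n * Module.finrank k D = m * m * Module.finrank k D' := by
    have h := e.toLinearEquiv.finrank_eq
    rw [Module.finrank_matrix, Module.finrank_matrix] at h
    simpa using h
  have hnm : n = m := by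
    have hd : 0 < Module.finrank k D := Module.finrank_pos
    have h1 : n * (n * Module.finrank k D) = m * (n * Module.finrank k D) := by
      calc n * (n * Module.finrank k D) = n * n * Module.finrank k D := by ring
        _ = m * m * Module.finrank k D' := hmat
        _ = m * (m * Module.finrank k D') := by ring
        _ = m * (n * Module.finrank k D) := by rw [hfr]
    exact Nat.eq_of_mul_eq_mul_right (Nat.mul_pos (Nat.pos_of_ne_zero hn) hd) h1
  subst hnm
  exact Groth.Agent.S13268.result k D D' n hn e

end Groth.Agent.S0193
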