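import Groth.Statements.S0194
import Mathlib
import Groth.Agent.Lib.helper6.EndStruct

set_option autoImplicit false
universe u v w
open scoped TensorProduct
open Curves

namespace Groth.Agent.S0194

/-- A central simple subalgebra B of a finite central simple algebra A, together with its centralizer C,
decomposes A as B ⊗ C. -/
theorem result (k : Type u) [Field k] (A : Type v) [Ring A] [Algebra k A]
    [Algebra.IsCentral k A] [IsSimpleRing A] [FiniteDimensional k A]
    (B : Subalgebra k A) [IsSimpleRing B] [Algebra.IsCentral k B] :
    Function.Bijective (Algebra.TensorProduct.lift B.val (Subalgebra.centralizer k (B : Set A)).val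
      (fun x y => y.2 x.1 x.2)) := by
  haveI := H6SN2.centralizer_simple B
  haveI : IsSimpleRing (Subalgebra.centralizer k (B : Set A) ⊗[k] B) :=
    H6CSA2.simple_tensor' (K := k) (L := Subalgebra.centralizer k (B : Set A)) (A := B)
  haveI : IsSimpleRing (B ⊗[k] Subalgebra.centralizer k (B : Set A)) :=
    IsSimpleRing.of_ringEquiv
      (Algebra.TensorProduct.comm k (Subalgebra.centralizer k (B : Set A)) B).toRingEquiv
      inferInstance
  have hinj : Function.Injective (Algebra.TensorProduct.lift B.val
      (Subalgebra.centralizer k (B : Set A)).val (fun x y => y.2 x.1 x.2)) :=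
    RingHom.injective (Algebra.TensorProduct.lift B.val
      (Subalgebra.centralizer k (B : Set A)).val (fun x y => y.2 x.1 x.2)).toRingHom
  have hfr : Module.finrank k (B ⊗[k] Subalgebra.centralizer k (B : Set A))
      = Module.finrank k A := by
    rw [Module.finrank_tensorProduct]
    exact (H6SN2.centralizer_finrank B).symm
  exact ⟨hinj, (LinearMap.injective_iff_surjective_of_finrank_eq_finrank hfr).mp
    (show Function.Injective (Algebra.TensorProduct.lift B.val
      (Subalgebra.centralizer k (B : Set A)).val (fun x y => y.2 x.1 x.2)).toLinearMap from hinj)⟩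

end Groth.Agent.S0194
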