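import Groth.Statements.S0196
import Mathlib
import Groth.Agent.Lib.helper6.EndStruct

set_option autoImplicit false
universe u v w
open scoped TensorProduct
open Curves

namespace Groth.Agent.S0196

/-- In a finite central skew field D over k, a maximal commutative k-subalgebra L satisfies dim D = (dim
L)^2. -/
theorem result (k : Type u) [Field k]
    (D : Type v) [DivisionRing D] [Algebra k D] [Algebra.IsCentral k D] [FiniteDimensional k D]
    (L : Subalgebra k D) (hcomm : ∀ x ∈ L, ∀ y ∈ L, x * y = y * x)
    (hmax : ∀ L' : Subalgebra k D, (∀ x ∈ L', ∀ y ∈ L', x * y = y * x) → L ≤ L' → L' = L) :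
    Module.finrank k D = Module.finrank k L ^ 2 := by
  classical
  haveI : IsSimpleRing L := by
    refine IsSimpleRing.of_eq_bot_or_eq_top fun I => ?_
    by_cases hI : I = ⊥
    · exact Or.inl hI
    right
    obtain ⟨x, hxI, hx0⟩ : ∃ x ∈ I, x ≠ 0 := by
      by_contra hcon
      push Not at hcon
      apply hI
      rw [eq_bot_iff, TwoSidedIdeal.le_iff]
      intro z hz
      exact (TwoSidedIdeal.mem_bot _).mpr (hcon z hz)
    have hinj : Function.Injective (LinearMap.mulLeft k x) :=
      fun a b h => mul_left_cancel₀ hx0 h
    obtain ⟨y, hy⟩ := (LinearMap.injective_iff_surjective.mp hinj) 1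
    rw [← TwoSidedIdeal.one_mem_iff]
    have hxy : x * y = 1 := hy
    rw [← hxy]
    exact I.mul_mem_right _ _ hxI
  have hcent : Subalgebra.centralizer k (L : Set D) = L := by
    apply le_antisymm
    · intro x hx
      have hS : ∀ a ∈ insert x (L : Set D), ∀ b ∈ insert x (L : Set D), a * b = b * a := by
        intro a ha b hb
        rcases ha with rfl | ha <;> rcases hb with rfl | hb
        · rfl
        · exact ((Subalgebra.mem_centralizer_iff k).mp hx b hb).symm
        · exact (Subalgebra.mem_centralizer_iff k).mp hx a ha
        · exact hcomm a ha b hb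
      have hadj := Algebra.adjoin_le_centralizer_centralizer k (insert x (L : Set D))
      have hcomm' : ∀ a ∈ Algebra.adjoin k (insert x (L : Set D)),
          ∀ b ∈ Algebra.adjoin k (insert x (L : Set D)), a * b = b * a :=
        fun a ha b hb => Set.centralizer_centralizer_comm_of_comm hS a (hadj ha) b (hadj hb)
      have hle : L ≤ Algebra.adjoin k (insert x (L : Set D)) :=
        fun a ha => Algebra.subset_adjoin (Set.mem_insert_of_mem _ ha)
      have := hmax (Algebra.adjoin k (insert x (L : Set D))) hcomm' hle
      rw [← this]
      exact Algebra.subset_adjoin (Set.mem_insert _ _)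
    · intro x hx
      rw [Subalgebra.mem_centralizer_iff]
      intro g hg
      exact hcomm g hg x hx
  have h := H6SN2.centralizer_finrank L
  have h2 : Module.finrank k (Subalgebra.centralizer k (L : Set D)) = Module.finrank k L := by
    rw [hcent]
  rw [h, h2, sq]

end Groth.Agent.S0196
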