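import Groth.Statements.S0200
import Mathlib
import Groth.Agent.Lib.helper6.CSASplit
import Groth.Agent.S11683

set_option autoImplicit false
universe u v w
open scoped TensorProduct
open Curves

namespace Groth.Agent.S0200

/-- A k-algebra is finite central simple exactly when its base change to the separable closure of k is a
matrix algebra of positive size. -/
theorem result (k : Type u) [Field k] (A : Type v) [Ring A] [Algebra k A] :
    (Algebra.IsCentral k A ∧ IsSimpleRing A ∧ FiniteDimensional k A) ↔
      Curves.Splits k A (SeparableClosure k) := by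
  constructor
  · rintro ⟨hc, hs, hf⟩
    haveI := hc
    haveI := hs
    haveI := hf
    haveI : IsSimpleRing (SeparableClosure k ⊗[k] A) := H6CSA.simple_tensor
    haveI : Algebra.IsCentral (SeparableClosure k) (SeparableClosure k ⊗[k] A) :=
      H6CSA.central_tensor
    obtain ⟨n, ⟨e⟩⟩ := Groth.Agent.S11683.result (SeparableClosure k) (SeparableClosure k ⊗[k] A)
    refine ⟨n, ?_, ⟨e⟩⟩
    rintro rfl
    have : Subsingleton (SeparableClosure k ⊗[k] A) := e.toEquiv.subsingleton
    exact not_subsingleton _ this
  · rintro ⟨n, hn, ⟨e⟩⟩
    haveI : NeZero n := ⟨hn⟩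
    haveI : Algebra.IsCentral (SeparableClosure k) (SeparableClosure k ⊗[k] A) :=
      H6CSA.central_of_algEquiv e.symm
    haveI : IsSimpleRing (SeparableClosure k ⊗[k] A) :=
      IsSimpleRing.of_ringEquiv e.symm.toRingEquiv inferInstance
    haveI : Module.Finite (SeparableClosure k) (SeparableClosure k ⊗[k] A) :=
      Module.Finite.equiv e.symm.toLinearEquiv
    exact ⟨H6CSA.central_of_tensor (K := k) (L := SeparableClosure k),
      H6CSA.simple_of_tensor (K := k) (L := SeparableClosure k),
      H6CSA.finite_of_tensor (K := k) (L := SeparableClosure k)⟩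

end Groth.Agent.S0200
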