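import Groth.Statements.S0201
import Mathlib
import Groth.Agent.Lib.helper6.SplitDescent
import Groth.Agent.S0200

set_option autoImplicit false
universe u v w
open scoped TensorProduct
open Curves

namespace Groth.Agent.S0201

/-- Every finite central simple algebra over k is split by a finite Galois extension of k. -/
theorem result (k : Type u) [Field k] (A : Type v) [Ring A] [Algebra k A]
    [Algebra.IsCentral k A] [IsSimpleRing A] [FiniteDimensional k A] :
    ∃ (k' : Type u) (_ : Field k') (_ : Algebra k k'), FiniteDimensional k k' ∧
      IsGalois k k' ∧ Curves.Splits k A k' := by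
  classical
  obtain ⟨n, hn, ⟨e⟩⟩ := (Groth.Agent.S0200.result k A).mp ⟨inferInstance, inferInstance, inferInstance⟩
  obtain ⟨T, hT⟩ := H6CSA3.descent_split e hn
  haveI : FiniteDimensional k (IntermediateField.adjoin k (T : Set (SeparableClosure k))) :=
    IntermediateField.finiteDimensional_adjoin (fun x _ => Algebra.IsIntegral.isIntegral x)
  let F₂ : IntermediateField k (SeparableClosure k) :=
    IntermediateField.normalClosure k (IntermediateField.adjoin k (T : Set (SeparableClosure k)))
      (SeparableClosure k)
  haveI : FiniteDimensional k F₂ := inferInstance
  haveI : Normal k F₂ := inferInstance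
  haveI : Algebra.IsSeparable k F₂ :=
    Algebra.isSeparable_tower_bot_of_isSeparable k _ (SeparableClosure k)
  haveI : IsGalois k F₂ := {}
  exact ⟨F₂, inferInstance, inferInstance, inferInstance, inferInstance, n, hn,
    hT _ (fun c hc => IntermediateField.le_normalClosure _
      (IntermediateField.subset_adjoin k _ hc))⟩

end Groth.Agent.S0201
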