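import Groth.Statements.S12728
import Groth.Agent.Lib.helper6.ArtSmooth
import Groth.Agent.Lib.helper6.ArtVersal

set_option autoImplicit false
universe u v
open CategoryTheory
open ArtFun

namespace Groth.Agent.S12728

/-- For functors, let F be a functor on Artinian local Λ-algebras with residue field k with F(k) a
point, satisfying (S1) and (S2), and ξ a family of F over a complete local Noetherian R with residue
field k. Then ξ is versal if and only if (1) the map h_R(k[ε]) → F(k[ε]) on tangent spaces is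
surjective, and (2) whenever μ : B → A is a small extension, φ : R → A, and y ∈ F(B) lies over ξ(φ),
the map φ lifts to some R → B. -/
theorem result {Λ : Type u} {k : Type u} [CommRing Λ] [Field k] [Algebra Λ k]
    [IsNoetherianRing Λ] [Module.Finite Λ k]
    {F : ArtFun.Art Λ k ⥤ Type v} (h0 : ArtFun.H0 F) (h1 : ArtFun.S1 F) (h2 : ArtFun.Heps F)
    (R : ArtFun.CRing Λ k) (ξ : ArtFun.Family R.carrier R.res F) :
    ArtFun.IsVersal ξ ↔
      (Function.Surjective (ArtFun.TangentSpace.ofFamily ξ) ∧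
        ∀ ⦃B A : ArtFun.Art Λ k⦄ (μ : B ⟶ A), ArtFun.Art.IsSmallExt μ →
          ∀ (φ : ArtFun.HomSet R.carrier R.res A) (y : F.obj B), F.map μ y = ξ.app A φ →
            ∃ ψ : ArtFun.HomSet R.carrier R.res B, ArtFun.HomSet.map μ ψ = φ) := by
  constructor
  · intro hξ
    refine ⟨?_, ?_⟩
    · intro v
      obtain ⟨ψ, -, hψ⟩ := hξ (ArtFun.Art.toBase (ArtFun.Art.dual Λ k))
        (ArtFun.Art.dual Λ k).res_surjective (H6Art.homSetBase R.carrier R.res) v (h0.2.elim _ _)
      exact ⟨ψ, hψ⟩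
    · intro B A μ hμ φ y hy
      obtain ⟨ψ, hψ, -⟩ := hξ μ hμ.1 φ y hy
      exact ⟨ψ, hψ⟩
  · rintro ⟨hd, hlift⟩
    apply H6Art.isVersal_of_smallExt
    intro B A μ hμ φ y hy
    obtain ⟨ψ₀, hψ₀⟩ := hlift μ hμ φ y hy
    obtain ⟨w, hw1, hw2⟩ := H6Art.GNat.exists_lift_of_tangent_surjective
      (H6Art.GNat.ofFamily ξ)
      ⟨fun a b => by rw [H6Art.homSet_base_eq a, H6Art.homSet_base_eq b]⟩
      (fun P B p' p'' h => by
        rintro ⟨⟨g', g''⟩, hg⟩
        obtain ⟨s, hs1, hs2⟩ := H6Art.IsFibreProd.exists_homSet_lift h g' g'' hg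
        exact ⟨s, Subtype.ext (Prod.ext hs1 hs2)⟩)
      h1
      (fun _ _ p' p'' h => (h2 p' p'' h).1)
      hd μ hμ ψ₀ y (by
        change F.map μ (ξ.app B ψ₀) = F.map μ y
        rw [← ξ.natural, hψ₀, hy])
    exact ⟨w, hw1.trans hψ₀, hw2⟩

end Groth.Agent.S12728
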