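import Groth.Statements.S14929
-- import your own Groth.Agent.* helpers here
import Mathlib
import Groth.Agent.Lib.helper7.UH
import Groth.Agent.Lib.helper7.EtaPt3

set_option autoImplicit false
universe u
open CategoryTheory CategoryTheory.Limits AlgebraicGeometry
open Variety

namespace Groth.Agent.S14929

open Groth.Agent.Lib.helper7

/-- Let p be a prime and X a scheme of characteristic p (p is zero in the structure sheaf). Then the
absolute Frobenius F_X : X → X, the identity on the underlying space with g ↦ g^p on sections, is a
universal homeomorphism (every base change of it is a homeomorphism), is integral, and induces a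
purely inseparable extension of residue fields κ(x) → κ(x) at every point x of X. -/
theorem result (p : ℕ) [Fact p.Prime]
    (X : Scheme.{u}) [FrobSch.IsCharP X p] :
    FlatMor.IsUnivHomeo (FrobSch.frob X p) ∧ IsIntegralHom (FrobSch.frob X p) ∧
      ∀ x : X, ((FrobSch.frob X p).residueFieldMap x).hom.IsPurelyInseparable := by
  have hint : IsIntegralHom (FrobSch.frob X p) := by
    haveI : IsAffineHom (FrobSch.frob X p) := ⟨fun U hU => hU⟩
    refine ⟨fun U hU s => ?_⟩
    exact ep_isIntegralElem_of_pow _ s p (Fact.out : p.Prime).ne_zero s rfl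
  have hres : ∀ x : X, ((FrobSch.frob X p).residueFieldMap x).hom.IsPurelyInseparable := by
    intro x
    have hpow : ∀ y : X.residueField x, ∃ w : X.residueField ((FrobSch.frob X p) x),
        ((FrobSch.frob X p).residueFieldMap x).hom w = y ^ p := by
      intro y
      obtain ⟨t, rfl⟩ := X.residue_surjective x y
      obtain ⟨U, hxU, s, rfl⟩ := X.presheaf.exists_germ_eq (x := x) t
      refine ⟨X.residue ((FrobSch.frob X p) x) (X.presheaf.germ U ((FrobSch.frob X p) x) hxU s), ?_⟩
      have h1 := ConcreteCategory.congr_hom
        (Scheme.residue_residueFieldMap (FrobSch.frob X p) x)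
        (X.presheaf.germ U ((FrobSch.frob X p) x) hxU s)
      have h2 : ((FrobSch.frob X p).residueFieldMap x).hom
          (X.residue ((FrobSch.frob X p) x) (X.presheaf.germ U ((FrobSch.frob X p) x) hxU s)) =
          X.residue x ((FrobSch.frob X p).stalkMap x
            (X.presheaf.germ U ((FrobSch.frob X p) x) hxU s)) := h1
      rw [h2, Scheme.Hom.germ_stalkMap_apply]
      have h3 : (FrobSch.frob X p).app U s = s ^ p := rfl
      rw [h3]
      have h5 : (X.residue x).hom ((X.presheaf.germ U x hxU).hom (s ^ p)) =
          ((X.residue x).hom ((X.presheaf.germ U x hxU).hom s)) ^ p := by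
        rw [map_pow, map_pow]
      exact h5
    have hp0 : ((p : ℕ) : X.residueField ((FrobSch.frob X p) x)) = 0 := by
      have h1 : ((p : ℕ) : Γ(X, ⊤)) = 0 := FrobSch.IsCharP.natCast_eq_zero
      have h2 : (X.residue ((FrobSch.frob X p) x)).hom
          ((X.presheaf.germ ⊤ ((FrobSch.frob X p) x) trivial).hom ((p : ℕ) : Γ(X, ⊤))) = 0 := by
        rw [h1, map_zero, map_zero]
      rw [map_natCast, map_natCast] at h2
      exact h2
    haveI : CharP (X.residueField ((FrobSch.frob X p) x)) p :=
      (CharP.charP_iff_prime_eq_zero (Fact.out : p.Prime)).mpr hp0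
    haveI : ExpChar (X.residueField ((FrobSch.frob X p) x)) p := ExpChar.prime Fact.out
    letI := ((FrobSch.frob X p).residueFieldMap x).hom.toAlgebra
    have h4 : IsPurelyInseparable (X.residueField ((FrobSch.frob X p) x)) (X.residueField x) := by
      rw [isPurelyInseparable_iff_pow_mem _ p]
      intro y
      obtain ⟨w, hw⟩ := hpow y
      exact ⟨1, w, by rw [pow_one]; exact hw⟩
    exact h4
  refine ⟨?_, hint, hres⟩
  rw [uh_isUnivHomeo_iff]
  refine ⟨?_, ⟨fun x => ⟨x, rfl⟩⟩, inferInstance⟩
  have h6 := (tfae_universallyInjective (FrobSch.frob X p)).out 0 2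
  exact h6.mpr ⟨fun a b h => h, hres⟩

end Groth.Agent.S14929
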