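import Groth.Statements.S14930
-- import your own Groth.Agent.* helpers here
import Mathlib
import Groth.Agent.Lib.helper7.UH
import Groth.Agent.S14929

set_option autoImplicit false
universe u
open CategoryTheory CategoryTheory.Limits AlgebraicGeometry
open Variety

namespace Groth.Agent.S14930

open Groth.Agent.Lib.helper7

/-- Let p be a prime, S a scheme of characteristic p (p is zero in the structure sheaf) and f : X → S a
morphism of schemes. Then the relative Frobenius F_{X/S} : X → X^(p), where X^(p) = X ×_{S,F_S} S is
the base change of X along the absolute Frobenius of S and F_{X/S} is the morphism over S whose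
composite with the projection X^(p) → X is the absolute Frobenius of X, is a universal homeomorphism
(every base change of it is a homeomorphism), is integral, and induces a purely inseparable
extension of residue fields at every point of X. -/
theorem result (p : ℕ) [Fact p.Prime]
    {X S : Scheme.{u}} [FrobSch.IsCharP S p] (f : X ⟶ S) :
    FlatMor.IsUnivHomeo (FrobSch.relFrob f p) ∧ IsIntegralHom (FrobSch.relFrob f p) ∧
      ∀ x : X, ((FrobSch.relFrob f p).residueFieldMap x).hom.IsPurelyInseparable := by
  haveI : FrobSch.IsCharP X p := FrobSch.IsCharP.of_hom f p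
  obtain ⟨hS1, hS2, -⟩ := Groth.Agent.S14929.result p S
  obtain ⟨hX1, hX2, -⟩ := Groth.Agent.S14929.result p X
  haveI := hS2
  haveI := hX2
  have hfstinj : Function.Injective (pullback.fst f (FrobSch.frob S p)) :=
    (hS1 (pullback.snd f (FrobSch.frob S p)) f (pullback.fst f (FrobSch.frob S p))
      (IsPullback.of_hasPullback f (FrobSch.frob S p))).injective
  have hcomp : FrobSch.relFrob f p ≫ pullback.fst f (FrobSch.frob S p) = FrobSch.frob X p :=
    FrobSch.relFrob_fst f p
  have hint : IsIntegralHom (FrobSch.relFrob f p) := by
    haveI : IsIntegralHom (FrobSch.relFrob f p ≫ pullback.fst f (FrobSch.frob S p)) := by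
      rw [hcomp]; infer_instance
    exact IsIntegralHom.of_comp (FrobSch.relFrob f p) (pullback.fst f (FrobSch.frob S p))
  have hUI : UniversallyInjective (FrobSch.relFrob f p) := by
    have hXUI : UniversallyInjective (FrobSch.frob X p) := ((uh_isUnivHomeo_iff _).mp hX1).1
    have h1 := ((tfae_universallyInjective (FrobSch.frob X p)).out 0 1).mp hXUI
    have h2 := (tfae_universallyInjective (FrobSch.relFrob f p)).out 0 1
    rw [h2]
    intro K _ g₁ g₂ hg
    apply h1 K
    show g₁ ≫ FrobSch.frob X p = g₂ ≫ FrobSch.frob X p
    rw [← hcomp, ← Category.assoc, ← Category.assoc]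
    exact congrArg (· ≫ pullback.fst f (FrobSch.frob S p)) hg
  have hsurj : Surjective (FrobSch.relFrob f p) := by
    refine ⟨fun z => ⟨(pullback.fst f (FrobSch.frob S p)) z, ?_⟩⟩
    apply hfstinj
    have h3 : (FrobSch.relFrob f p ≫ pullback.fst f (FrobSch.frob S p))
        ((pullback.fst f (FrobSch.frob S p)) z) =
        (FrobSch.frob X p) ((pullback.fst f (FrobSch.frob S p)) z) := by rw [hcomp]
    exact h3
  refine ⟨?_, hint, ?_⟩
  · rw [uh_isUnivHomeo_iff]
    exact ⟨hUI, hsurj, inferInstance⟩
  · have h4 := ((tfae_universallyInjective (FrobSch.relFrob f p)).out 0 2).mp hUI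
    exact h4.2

end Groth.Agent.S14930
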