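import Groth.Statements.S17006
import Groth.Agent.Lib.helper8.OrthCenterLib

set_option autoImplicit false
universe u
open scoped TensorProduct
open QuadGrp

namespace Groth.Agent.S17006

theorem exists_ne_ne {n : ℕ} (hn : 3 ≤ n) (j k : Fin n) : ∃ i : Fin n, i ≠ j ∧ i ≠ k := by
  classical
  have h : ({j, k} : Finset (Fin n)).card < (Finset.univ : Finset (Fin n)).card := by
    rw [Finset.card_univ, Fintype.card_fin]
    exact lt_of_le_of_lt Finset.card_le_two (by omega)
  obtain ⟨i, _, hi⟩ := Finset.exists_mem_notMem_of_card_lt_card h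
  simp only [Finset.mem_insert, Finset.mem_singleton, not_or] at hi
  exact ⟨i, hi.1, hi.2⟩

section Aux

variable {R : Type u} [CommRing R] {n : ℕ}

theorem scalar_of_comm (hn : 3 ≤ n) (Q : QuadraticForm R (Fin n → R)) (hQ : QuadGrp.IsRegular Q)
    (g : (Fin n → R) ≃ₗ[R] (Fin n → R)) (hgO : g ∈ QuadGrp.O Q)
    (hdag : ∀ u v x : Fin n → R, g (H8OC.Y Q u v x) = H8OC.Y Q u v (g x)) :
    ∃ c : R, c * c = 1 ∧ ∀ v, g v = c • v := by
  classical
  obtain ⟨e, he⟩ : ∃ e : Fin n → (Fin n → R), e = fun j => Pi.single j 1 := ⟨_, rfl⟩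
  have he_same : ∀ j, e j j = 1 := by intro j; rw [he]; simp
  have he_ne : ∀ j k, k ≠ j → e j k = 0 := by intro j k hkj; rw [he]; simp [hkj]
  choose xd hxd using fun i => hQ.2 (LinearMap.proj i : (Fin n → R) →ₗ[R] R)
  have hB : ∀ i y, QuadraticMap.polar Q (xd i) y = y i := by
    intro i y
    have := LinearMap.congr_fun (hxd i) y
    simpa using this
  have key : ∀ i j : Fin n, i ≠ j → g (e j) =
      QuadraticMap.polar Q (e i) (g (xd i)) • e j -
        QuadraticMap.polar Q (e j) (g (xd i)) • e i := by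
    intro i j hij
    have h1 := hdag (e i) (e j) (xd i)
    rw [H8OC.Y_apply, H8OC.Y_apply] at h1
    have h2 : QuadraticMap.polar Q (e i) (xd i) = 1 := by
      rw [QuadraticMap.polar_comm, hB, he_same]
    have h3 : QuadraticMap.polar Q (e j) (xd i) = 0 := by
      rw [QuadraticMap.polar_comm, hB, he_ne j i hij]
    rw [h2, h3, one_smul, zero_smul, sub_zero] at h1
    exact h1
  have hoff : ∀ j k : Fin n, k ≠ j → g (e j) k = 0 := by
    intro j k hkj
    obtain ⟨i, hij, hik⟩ := exists_ne_ne hn j k
    have := congrFun (key i j hij) k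
    rw [this]
    simp only [Pi.sub_apply, Pi.smul_apply, smul_eq_mul]
    rw [he_ne j k hkj, he_ne i k (Ne.symm hik), mul_zero, mul_zero, sub_zero]
  have hdiag : ∀ i j : Fin n, i ≠ j → g (e j) j = QuadraticMap.polar Q (e i) (g (xd i)) := by
    intro i j hij
    have := congrFun (key i j hij) j
    rw [this]
    simp only [Pi.sub_apply, Pi.smul_apply, smul_eq_mul]
    rw [he_same, he_ne i j (Ne.symm hij), mul_one, mul_zero, sub_zero]
  have hn0 : 0 < n := by omega
  obtain ⟨c, hc⟩ : ∃ c : R, c = g (e ⟨0, hn0⟩) ⟨0, hn0⟩ := ⟨_, rfl⟩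
  have hlam : ∀ j : Fin n, g (e j) j = c := by
    intro j
    by_cases hj : j = ⟨0, hn0⟩
    · rw [hc, hj]
    · obtain ⟨i, hij, hi0⟩ := exists_ne_ne hn j ⟨0, hn0⟩
      rw [hc, hdiag i j hij, hdiag i ⟨0, hn0⟩ hi0]
  have hge : ∀ j : Fin n, g (e j) = c • e j := by
    intro j
    funext k
    by_cases hkj : k = j
    · rw [hkj, hlam, Pi.smul_apply, he_same, smul_eq_mul, mul_one]
    · rw [hoff j k hkj, Pi.smul_apply, he_ne j k hkj, smul_zero]
  have hgv : ∀ v, g v = c • v := by
    have : g.toLinearMap = c • LinearMap.id := by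
      apply LinearMap.pi_ext
      intro i x
      have hx : (Pi.single i x : Fin n → R) = x • e i := by
        rw [he]; funext k; simp [Pi.single_apply]
      rw [hx]
      simp only [LinearEquiv.coe_coe, map_smul, hge, LinearMap.smul_apply, LinearMap.id_apply]
    intro v
    have := LinearMap.congr_fun this v
    simpa using this
  refine ⟨c, ?_, hgv⟩
  have hQc : ∀ v, (c * c) * Q v = Q v := by
    intro v
    have := hgO v
    rw [hgv, QuadraticMap.map_smul, smul_eq_mul] at this
    exact this
  have hpol : ∀ x y, (c * c) * QuadraticMap.polar Q x y = QuadraticMap.polar Q x y := by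
    intro x y
    simp only [QuadraticMap.polar, mul_sub, hQc]
  have := hpol (xd ⟨0, hn0⟩) (e ⟨0, hn0⟩)
  rw [hB, he_same, mul_one] at this
  exact this

theorem QA_tmul (Q : QuadraticForm R (Fin n → R)) (A : Type u) [CommRing A] [Algebra R A]
    (x : Fin n → R) :
    QuadGrp.baseChangeForm A Q ((1 : A) ⊗ₜ[R] x) = algebraMap R A (Q x) := by
  show (TensorProduct.AlgebraTensorModule.rid R A A)
    (QuadGrp.baseChange A Q ((1 : A) ⊗ₜ[R] x)) = _
  rw [QuadGrp.baseChange_tmul, TensorProduct.AlgebraTensorModule.rid_tmul, mul_one,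
    Algebra.algebraMap_eq_smul_one]

theorem polarA_tmul (Q : QuadraticForm R (Fin n → R)) (A : Type u) [CommRing A] [Algebra R A]
    (x y : Fin n → R) :
    QuadraticMap.polar (QuadGrp.baseChangeForm A Q) ((1 : A) ⊗ₜ[R] x) ((1 : A) ⊗ₜ[R] y) =
      algebraMap R A (QuadraticMap.polar Q x y) := by
  simp only [QuadraticMap.polar, ← TensorProduct.tmul_add, QA_tmul, map_sub]

theorem YA_tmul (Q : QuadraticForm R (Fin n → R)) (A : Type u) [CommRing A] [Algebra R A]
    (u v x : Fin n → R) :
    H8OC.Y (QuadGrp.baseChangeForm A Q) ((1 : A) ⊗ₜ[R] u) ((1 : A) ⊗ₜ[R] v) ((1 : A) ⊗ₜ[R] x) =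
      (1 : A) ⊗ₜ[R] (H8OC.Y Q u v x) := by
  rw [H8OC.Y_apply, H8OC.Y_apply, polarA_tmul, polarA_tmul, algebraMap_smul, algebraMap_smul,
    ← TensorProduct.tmul_smul, ← TensorProduct.tmul_smul, ← TensorProduct.tmul_sub]

noncomputable def theta (M : Type u) [AddCommGroup M] [Module R M] :
    (DualNumber R) ⊗[R] M →ₗ[R] M :=
  TensorProduct.lift ((LinearMap.lsmul R M).comp (TrivSqZeroExt.sndHom R R))

theorem theta_eps_smul (M : Type u) [AddCommGroup M] [Module R M] (z : M) :
    theta M ((DualNumber.eps : DualNumber R) • ((1 : DualNumber R) ⊗ₜ[R] z)) = z := by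
  rw [TensorProduct.smul_tmul', smul_eq_mul, mul_one]
  simp [theta]

theorem dag_of_comm [Nontrivial R] (Q : QuadraticForm R (Fin n → R))
    (g : (Fin n → R) ≃ₗ[R] (Fin n → R))
    (hcomm : ∀ h ∈ QuadGrp.sorth Q (DualNumber R),
      g.baseChange R (DualNumber R) (Fin n → R) (Fin n → R) * h =
        h * g.baseChange R (DualNumber R) (Fin n → R) (Fin n → R))
    (heven : Even n) :
    ∀ u v x : Fin n → R, g (H8OC.Y Q u v x) = H8OC.Y Q u v (g x) := by
  intro u v x
  have hε : (DualNumber.eps : DualNumber R) * DualNumber.eps = 0 := DualNumber.eps_mul_eps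
  have hmem : H8OC.hEquiv (QuadGrp.baseChangeForm (DualNumber R) Q) DualNumber.eps hε
      ((1 : DualNumber R) ⊗ₜ[R] u) ((1 : DualNumber R) ⊗ₜ[R] v) ∈
        QuadGrp.sorth Q (DualNumber R) := by
    unfold QuadGrp.sorth QuadGrp.SO
    rw [if_pos]
    · exact H8OC.hEquiv_mem_SOeven _ _ hε _ _
    · rw [Module.finrank_baseChange, Module.finrank_fin_fun]; exact heven
  have h1 := hcomm _ hmem
  have h2 := LinearEquiv.congr_fun h1 ((1 : DualNumber R) ⊗ₜ[R] x)
  simp only [LinearEquiv.mul_apply, H8OC.hEquiv_apply, LinearEquiv.baseChange_tmul, YA_tmul,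
    map_add, map_smul] at h2
  have h3 := add_left_cancel h2
  have h4 := congrArg (theta (Fin n → R)) h3
  rwa [theta_eps_smul, theta_eps_smul] at h4

end Aux

/-- Let Q be a quadratic form on R^{2m}, m ≥ 2, over a commutative ring R, whose polar form is a perfect
pairing. An isometry g of Q satisfying the Dickson condition commutes, after base change to every
R-algebra A, with every isometry of Q_A satisfying the Dickson condition if and only if g is
multiplication by a scalar whose square is one. (Points-level form of: for even rank at least 4 the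
functorial centre of the special orthogonal group is the central μ₂ and coincides with that of the
naive one.) -/
theorem result (R : Type u) [CommRing R] (m : ℕ) (hm : 2 ≤ m)
    (Q : QuadraticForm R (Fin (2 * m) → R)) (hQ : QuadGrp.IsRegular Q)
    (g : (Fin (2 * m) → R) ≃ₗ[R] (Fin (2 * m) → R)) (hg : g ∈ QuadGrp.SO Q) :
    (∀ (A : Type u) [CommRing A] [Algebra R A], ∀ h ∈ QuadGrp.sorth Q A,
        g.baseChange R A (Fin (2 * m) → R) (Fin (2 * m) → R) * h = h * g.baseChange R A (Fin (2 * m) → R) (Fin (2 * m) → R)) ↔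
      ∃ c : R, c * c = 1 ∧ ∀ v, g v = c • v := by
  constructor
  · intro hcomm
    rcases subsingleton_or_nontrivial R with hR | hR
    · exact ⟨1, one_mul 1, fun v => Subsingleton.elim _ _⟩
    · have heven : Even (2 * m) := even_two_mul m
      have hgO : g ∈ QuadGrp.O Q := by
        have h := hg
        unfold QuadGrp.SO at h
        rw [if_pos (by rw [Module.finrank_fin_fun]; exact heven)] at h
        obtain ⟨hgO, _⟩ := h
        exact hgO
      have hdag := dag_of_comm Q g (hcomm (DualNumber R)) heven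
      exact scalar_of_comm (by omega) Q hQ g hgO hdag
  · rintro ⟨c, hc, hgv⟩ A _ _ h _
    have hgA : ∀ y : A ⊗[R] (Fin (2 * m) → R),
        g.baseChange R A (Fin (2 * m) → R) (Fin (2 * m) → R) y = c • y := by
      intro y
      induction y using TensorProduct.induction_on with
      | zero => simp
      | tmul a x => rw [LinearEquiv.baseChange_tmul, hgv, TensorProduct.tmul_smul]
      | add y z hy hz => rw [map_add, hy, hz, smul_add]
    apply LinearEquiv.ext
    intro y
    rw [LinearEquiv.mul_apply, LinearEquiv.mul_apply, hgA, hgA]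
    exact (LinearMap.map_smul_of_tower h.toLinearMap c y).symm

end Groth.Agent.S17006
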