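import Groth.Statements.S17141
import Mathlib
import Groth.Agent.Lib.helper8.IsocMore
-- import your own Groth.Agent.* helpers here

set_option autoImplicit false
universe u v
open Isoc

namespace Groth.Agent.S17141

/-- Let k be a perfect field of characteristic p, a ∈ ℤ, W = W(k) with fraction field L, and (N, F) a
σ^a-F-isocrystal over k (N finite-dimensional over L, F a bijective σ^a-semilinear endomorphism),
with N ≠ 0, and let M be any W-lattice in N. Then for every n ≥ 1 the order ord_M(F^n) (the largest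
r with F^n(M) ⊆ p^r M) is defined, say o(n), and the limit of o(n)/n as n → ∞ exists in ℝ. -/
theorem result (p : ℕ) [Fact p.Prime] (k : Type u) [Field k] [CharP k p] [PerfectRing k p] (a : ℤ)
    (N : Type v) [AddCommGroup N] [Module (WittVector p k) N] [Module (FractionRing (WittVector p k)) N]
    [IsScalarTower (WittVector p k) (FractionRing (WittVector p k)) N]
    [Nontrivial N] (F : N →ₛₗ[Isoc.frob p k a] N) (hF : Isoc.IsIsoc F)
    (M : Submodule (WittVector p k) N) (hM : M.IsLattice (FractionRing (WittVector p k))) :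
    ∃ o : ℕ → ℤ, (∀ n : ℕ, 1 ≤ n → Isoc.IsOrd M F n (o n)) ∧
      ∃ lam : ℝ, Filter.Tendsto (fun n : ℕ => (o n : ℝ) / n) Filter.atTop (nhds lam) := by
  have hτ := H8Isoc.good_frob (p := p) (k := k) a
  have hne : M ≠ ⊥ := by
    rintro rfl
    have h := hM.span_eq_top
    rw [Submodule.bot_coe, Submodule.span_zero_singleton] at h
    exact bot_ne_top h
  have hall : ∀ j : ℕ, ∃ r, Isoc.IsOrd M F j r := fun j =>
    H8Isoc.exists_isOrd hτ F hF.bijective hM hne j
  choose o ho using hall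
  have hsup : ∀ m n : ℕ, o m + o n ≤ o (m + n) := fun m n =>
    H8Isoc.isOrd_superadd hτ (ho m) (ho n) (ho (m + n))
  obtain ⟨c, hc⟩ := H8Isoc.exists_pPow_le hM.fg
    (H8Isoc.latImg_isLattice hτ F hF.bijective 1 hM).span_eq_top
  have hlow : ∀ n : ℕ, Isoc.pPow ((c : ℤ) * n) M ≤ Isoc.latImg F n M := by
    intro n
    induction n with
    | zero => simp [H8Isoc.pPow_zero, H8Isoc.latImg_zero]
    | succ n ih =>
      have e2 : (c : ℤ) * ((n + 1 : ℕ) : ℤ) = c + c * n := by push_cast; ring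
      rw [e2, H8Isoc.latImg_add hτ F n 1, H8Isoc.pPow_add]
      calc Isoc.pPow (c : ℤ) (Isoc.pPow ((c : ℤ) * n) M)
          ≤ Isoc.pPow (c : ℤ) (Isoc.latImg F n M) := H8Isoc.pPow_mono ih
        _ = Isoc.latImg F n (Isoc.pPow (c : ℤ) M) := (H8Isoc.latImg_pPow F n _ M).symm
        _ ≤ Isoc.latImg F n (Isoc.latImg F 1 M) := H8Isoc.latImg_mono F n hc
  have hupp : ∀ n : ℕ, o n ≤ (c : ℤ) * n := by
    intro n
    obtain ⟨h1, _⟩ := ho n
    exact H8Isoc.le_of_pPow_le_pPow hM.fg hne ((hlow n).trans h1)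
  have hu : Subadditive (fun n : ℕ => -(o n : ℝ)) := by
    intro m n
    have := hsup m n
    have h' : ((o m + o n : ℤ) : ℝ) ≤ ((o (m + n) : ℤ) : ℝ) := by exact_mod_cast this
    push_cast at h'
    show -(o (m + n) : ℝ) ≤ -(o m : ℝ) + -(o n : ℝ)
    linarith
  have hbdd : BddBelow (Set.range fun n : ℕ => (-(o n : ℝ)) / n) := by
    refine ⟨-(c : ℝ), ?_⟩
    rintro _ ⟨n, rfl⟩
    rcases Nat.eq_zero_or_pos n with hn | hn
    · subst hn
      simp
    · have hn' : (0 : ℝ) < n := by exact_mod_cast hn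
      show -(c : ℝ) ≤ (-(o n : ℝ)) / n
      rw [le_div_iff₀ hn']
      have := hupp n
      have h' : ((o n : ℤ) : ℝ) ≤ (((c : ℤ) * n : ℤ) : ℝ) := by exact_mod_cast this
      push_cast at h'
      linarith
  refine ⟨o, fun n _ => ho n, -hu.lim, ?_⟩
  refine (hu.tendsto_lim hbdd).neg.congr (fun n => ?_)
  rw [neg_div, neg_neg]

end Groth.Agent.S17141
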