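import Groth.Statements.S17142
import Mathlib
import Groth.Agent.Lib.helper8.IsocChain
-- import your own Groth.Agent.* helpers here

set_option autoImplicit false
universe u v
open Isoc

namespace Groth.Agent.S17142

/-- Let k be a perfect field of characteristic p, a ∈ ℤ, W = W(k) with fraction field L, and (N, F) a
σ^a-F-isocrystal over k (N finite-dimensional over L, F a bijective σ^a-semilinear endomorphism).
Let M₁, M₂ be W-lattices in N and let o₁(n) = ord_{M₁}(F^n), o₂(n) = ord_{M₂}(F^n) for n ≥ 1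
(largest r with F^n(M_i) ⊆ p^r M_i). If o₁(n)/n → lam₁ and o₂(n)/n → lam₂ then lam₁ = lam₂; so the
limit defining the first Newton slope is independent of the chosen lattice. -/
theorem result (p : ℕ) [Fact p.Prime] (k : Type u) [Field k] [CharP k p] [PerfectRing k p] (a : ℤ)
    (N : Type v) [AddCommGroup N] [Module (WittVector p k) N] [Module (FractionRing (WittVector p k)) N]
    [IsScalarTower (WittVector p k) (FractionRing (WittVector p k)) N]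
    (F : N →ₛₗ[Isoc.frob p k a] N) (hF : Isoc.IsIsoc F)
    (M₁ M₂ : Submodule (WittVector p k) N) (hM₁ : M₁.IsLattice (FractionRing (WittVector p k))) (hM₂ : M₂.IsLattice (FractionRing (WittVector p k)))
    (o₁ o₂ : ℕ → ℤ) (ho₁ : ∀ n : ℕ, 1 ≤ n → Isoc.IsOrd M₁ F n (o₁ n))
    (ho₂ : ∀ n : ℕ, 1 ≤ n → Isoc.IsOrd M₂ F n (o₂ n)) (lam₁ lam₂ : ℝ)
    (h₁ : Filter.Tendsto (fun n : ℕ => (o₁ n : ℝ) / n) Filter.atTop (nhds lam₁))
    (h₂ : Filter.Tendsto (fun n : ℕ => (o₂ n : ℝ) / n) Filter.atTop (nhds lam₂)) :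
    lam₁ = lam₂ := by
  obtain ⟨c₁, hc₁⟩ := H8Isoc.exists_pPow_le hM₁.fg hM₂.span_eq_top
  obtain ⟨c₂, hc₂⟩ := H8Isoc.exists_pPow_le hM₂.fg hM₁.span_eq_top
  have key : ∀ (M M' : Submodule (WittVector p k) N) (c c' : ℕ) (o o' : ℕ → ℤ),
      Isoc.pPow (c : ℤ) M ≤ M' → Isoc.pPow (c' : ℤ) M' ≤ M →
      (∀ n : ℕ, 1 ≤ n → Isoc.IsOrd M F n (o n)) → (∀ n : ℕ, 1 ≤ n → Isoc.IsOrd M' F n (o' n)) →
      ∀ n : ℕ, 1 ≤ n → o n - c - c' ≤ o' n := by
    intro M M' c c' o o' hc hc' ho ho' n hn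
    have h1 : M' ≤ Isoc.pPow (-(c' : ℤ)) M := by
      rw [H8Isoc.le_pPow_iff, neg_neg]; exact hc'
    have h2 : M ≤ Isoc.pPow (-(c : ℤ)) M' := by
      rw [H8Isoc.le_pPow_iff, neg_neg]; exact hc
    obtain ⟨hA, _⟩ := ho n hn
    have h3 : Isoc.latImg F n M' ≤ Isoc.pPow (-(c' : ℤ) + o n + -(c : ℤ)) M' := by
      calc Isoc.latImg F n M' ≤ Isoc.latImg F n (Isoc.pPow (-(c' : ℤ)) M) :=
            H8Isoc.latImg_mono F n h1
        _ = Isoc.pPow (-(c' : ℤ)) (Isoc.latImg F n M) := H8Isoc.latImg_pPow F n _ M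
        _ ≤ Isoc.pPow (-(c' : ℤ)) (Isoc.pPow (o n) M) := H8Isoc.pPow_mono hA
        _ = Isoc.pPow (-(c' : ℤ) + o n) M := (H8Isoc.pPow_add _ _ M).symm
        _ ≤ Isoc.pPow (-(c' : ℤ) + o n) (Isoc.pPow (-(c : ℤ)) M') := H8Isoc.pPow_mono h2
        _ = Isoc.pPow (-(c' : ℤ) + o n + -(c : ℤ)) M' := (H8Isoc.pPow_add _ _ M').symm
    have := H8Isoc.IsOrd.le_of_le (ho' n hn) h3
    omega
  have k1 := key M₁ M₂ c₁ c₂ o₁ o₂ hc₁ hc₂ ho₁ ho₂
  have k2 := key M₂ M₁ c₂ c₁ o₂ o₁ hc₂ hc₁ ho₂ ho₁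
  have hsub := h₁.sub h₂
  have hzero : Filter.Tendsto (fun n : ℕ => (o₁ n : ℝ) / n - (o₂ n : ℝ) / n) Filter.atTop
      (nhds 0) := by
    apply squeeze_zero_norm' (a := fun n : ℕ => ((c₁ : ℝ) + c₂) / n)
    · filter_upwards [Filter.eventually_ge_atTop 1] with n hn
      have hn' : (0 : ℝ) < n := by exact_mod_cast hn
      rw [Real.norm_eq_abs, ← sub_div, abs_div, abs_of_pos hn']
      have a1 := k1 n hn
      have a2 := k2 n hn
      have hab : |(o₁ n : ℝ) - (o₂ n : ℝ)| ≤ (c₁ : ℝ) + c₂ := by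
        rw [abs_le]
        constructor
        · have : ((o₂ n - c₂ - c₁ : ℤ) : ℝ) ≤ ((o₁ n : ℤ) : ℝ) := by exact_mod_cast a2
          push_cast at this; linarith
        · have : ((o₁ n - c₁ - c₂ : ℤ) : ℝ) ≤ ((o₂ n : ℤ) : ℝ) := by exact_mod_cast a1
          push_cast at this; linarith
      gcongr
    · exact tendsto_const_div_atTop_nhds_zero_nat _
  have := tendsto_nhds_unique hsub hzero
  linarith

end Groth.Agent.S17142
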