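import Groth.Statements.S17145
import Mathlib
import Groth.Agent.Lib.helper8.IsocMore
-- import your own Groth.Agent.* helpers here

set_option autoImplicit false
universe u v
open Isoc

namespace Groth.Agent.S17145

/-- Let k be a perfect field of characteristic p, a ∈ ℤ, W = W(k) with fraction field L, and (N, F) a
σ^a-F-isocrystal over k (N finite-dimensional over L, F a bijective σ^a-semilinear endomorphism)
with first Newton slope λ₁(N, F) = lam. If r ∈ ℤ and s > 0 satisfy r/s ≤ lam, then there exists a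
W-lattice M in N with F^s(M) ⊆ p^r · M. (The hypothesis is the non-strict inequality λ₁ ≥ r/s, which
is how the lemma is applied later in the section.) -/
theorem result (p : ℕ) [Fact p.Prime] (k : Type u) [Field k] [CharP k p] [PerfectRing k p] (a : ℤ)
    (N : Type v) [AddCommGroup N] [Module (WittVector p k) N] [Module (FractionRing (WittVector p k)) N]
    [IsScalarTower (WittVector p k) (FractionRing (WittVector p k)) N]
    (F : N →ₛₗ[Isoc.frob p k a] N) (hF : Isoc.IsIsoc F) (lam : ℝ) (hlam : Isoc.IsFirstSlope F lam)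
    (r : ℤ) (s : ℕ) (hs : 0 < s) (hrs : (r : ℝ) / s ≤ lam) :
    ∃ M : Submodule (WittVector p k) N, M.IsLattice (FractionRing (WittVector p k)) ∧ Isoc.latImg F s M ≤ Isoc.pPow r M := by
  obtain ⟨M, hM, o, ho, hlim⟩ := hlam
  haveI := hF.finite
  have hτ := H8Isoc.good_frob (p := p) (k := k) a
  have hτs := hτ.pow s
  set h := Module.finrank (FractionRing (WittVector p k)) N with hh
  have hp0 : ((p : ℕ) : FractionRing (WittVector p k)) ≠ 0 := H8Isoc.pL_ne_zero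
  let G : N →ₛₗ[(Isoc.frob p k a) ^ s] N :=
    ((p : FractionRing (WittVector p k)) ^ (-r)) • Isoc.iter F s
  have hGbij : Function.Bijective G := by
    have : ⇑G = (fun y : N => ((p : FractionRing (WittVector p k)) ^ (-r)) • y) ∘ (⇑F)^[s] := by
      ext x; rfl
    rw [this]
    exact (MulAction.bijective₀ (zpow_ne_zero _ hp0)).comp (hF.bijective.iterate s)
  let H : N →ₛₗ[((Isoc.frob p k a) ^ s) ^ (h + 1)] N :=
    ((p : FractionRing (WittVector p k)) ^ (1 : ℤ)) • Isoc.iter G (h + 1)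
  have hHbij : Function.Bijective H := by
    have : ⇑H = (fun y : N => ((p : FractionRing (WittVector p k)) ^ (1 : ℤ)) • y) ∘
        (⇑G)^[h + 1] := by
      ext x; rfl
    rw [this]
    exact (MulAction.bijective₀ (zpow_ne_zero _ hp0)).comp (hGbij.iterate (h + 1))
  have hsR : (0 : ℝ) < (s : ℝ) := by exact_mod_cast hs
  have hhR : (0 : ℝ) < (h : ℝ) + 1 := by positivity
  have hε : (0 : ℝ) < 1 / ((s : ℝ) * ((h : ℝ) + 1)) := div_pos one_pos (mul_pos hsR hhR)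
  obtain ⟨N₀, hN₀⟩ := Metric.tendsto_atTop.mp hlim _ hε
  set j := N₀ + 1 with hj
  set n := s * ((h + 1) * j) with hn
  have hn1 : 1 ≤ n := Nat.mul_pos hs (Nat.mul_pos (Nat.succ_pos h) (Nat.succ_pos N₀))
  have hnN : N₀ ≤ n := by
    calc N₀ ≤ j := Nat.le_succ _
      _ = 1 * (1 * j) := by ring
      _ ≤ s * ((h + 1) * j) := Nat.mul_le_mul hs (Nat.mul_le_mul (Nat.succ_pos h) le_rfl)
  have hd := hN₀ n hnN
  rw [Real.dist_eq, abs_lt] at hd
  have hnR : (0 : ℝ) < (n : ℝ) := by exact_mod_cast hn1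
  have h1 : (lam - 1 / ((s : ℝ) * ((h : ℝ) + 1))) * n < o n := by
    have h2 : lam - 1 / ((s : ℝ) * ((h : ℝ) + 1)) < (o n : ℝ) / n := by linarith [hd.1]
    rwa [lt_div_iff₀ hnR] at h2
  have h3 : ((r : ℝ) / s - 1 / ((s : ℝ) * ((h : ℝ) + 1))) * n = r * ((h : ℝ) + 1) * j - j := by
    rw [hn]; push_cast; field_simp
  have h4 : (r : ℝ) * ((h : ℝ) + 1) * j - j < o n := by
    rw [← h3]
    refine lt_of_le_of_lt ?_ h1
    apply mul_le_mul_of_nonneg_right _ hnR.le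
    linarith
  have h5 : (0 : ℤ) ≤ (1 : ℤ) * (j : ℤ) + (-r * (((h + 1) * j : ℕ) : ℤ) + o n) := by
    have : (0 : ℝ) ≤ (((1 : ℤ) * (j : ℤ) + (-r * (((h + 1) * j : ℕ) : ℤ) + o n) : ℤ) : ℝ) := by
      push_cast; nlinarith [h4]
    exact_mod_cast this
  have hHM : Isoc.latImg H j M ≤ M := by
    obtain ⟨hA, _⟩ := ho n hn1
    have e1 : Isoc.latImg H j M = Isoc.pPow ((1 : ℤ) * (j : ℤ))
        (Isoc.latImg G ((h + 1) * j) M) := H8Isoc.latImg_twist G 1 (h + 1) j M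
    have e2 : Isoc.latImg G ((h + 1) * j) M = Isoc.pPow (-r * (((h + 1) * j : ℕ) : ℤ))
        (Isoc.latImg F (s * ((h + 1) * j)) M) := H8Isoc.latImg_twist F (-r) s ((h + 1) * j) M
    rw [e1, e2]
    calc Isoc.pPow ((1 : ℤ) * (j : ℤ)) (Isoc.pPow (-r * (((h + 1) * j : ℕ) : ℤ))
            (Isoc.latImg F (s * ((h + 1) * j)) M))
        ≤ Isoc.pPow ((1 : ℤ) * (j : ℤ)) (Isoc.pPow (-r * (((h + 1) * j : ℕ) : ℤ))
            (Isoc.pPow (o n) M)) := H8Isoc.pPow_mono (H8Isoc.pPow_mono hA)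
      _ = Isoc.pPow ((1 : ℤ) * (j : ℤ) + (-r * (((h + 1) * j : ℕ) : ℤ) + o n)) M := by
          rw [H8Isoc.pPow_add, H8Isoc.pPow_add]
      _ ≤ Isoc.pPow 0 M := H8Isoc.pPow_le_of_le h5 M
      _ = M := H8Isoc.pPow_zero M
  obtain ⟨M₁, hM₁, hst₁⟩ := H8Isoc.exists_stable_of_latImg_le (hτs.pow (h + 1)) H hHbij hM N₀ hHM
  have hG1 : Isoc.latImg G (h + 1) M₁ ≤ Isoc.pPow (-1) M₁ := by
    have e1 : Isoc.latImg H 1 M₁ = Isoc.pPow ((1 : ℤ) * ((1 : ℕ) : ℤ))
        (Isoc.latImg G ((h + 1) * 1) M₁) := H8Isoc.latImg_twist G 1 (h + 1) 1 M₁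
    rw [e1, Nat.mul_one, Nat.cast_one, mul_one] at hst₁
    rw [H8Isoc.le_pPow_iff, neg_neg]
    exact hst₁
  obtain ⟨M₂, hM₂, hst₂⟩ := H8Isoc.exists_stable_of_latImg_succ_le hτs G hGbij hh.symm hM₁ hG1
  refine ⟨M₂, hM₂, ?_⟩
  have e1 : Isoc.latImg G 1 M₂ = Isoc.pPow (-r * ((1 : ℕ) : ℤ)) (Isoc.latImg F (s * 1) M₂) :=
    H8Isoc.latImg_twist F (-r) s 1 M₂
  rw [e1, Nat.mul_one, Nat.cast_one, mul_one] at hst₂
  rw [H8Isoc.le_pPow_iff]
  exact hst₂

end Groth.Agent.S17145
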