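import Groth.Statements.S17146
import Mathlib
import Groth.Agent.Lib.helper8.IsocDet2
import Groth.Agent.S17145
import Groth.Agent.S17141
import Groth.Agent.S17142
-- import your own Groth.Agent.* helpers here

set_option autoImplicit false
universe u v
open Isoc

namespace Groth.Agent.S17146

/-- Let k be a perfect field of characteristic p, a ∈ ℤ, W = W(k) with fraction field L, and (N, F) a
σ^a-F-isocrystal over k (N finite-dimensional over L, F a bijective σ^a-semilinear endomorphism) of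
height h, with b an L-basis of N indexed by Fin h, d the p-adic order of the determinant coefficient
of F in b, and first Newton slope λ₁(N, F) = lam. Then there exist r ∈ ℤ, s ∈ ℕ with 0 < s ≤ h and a
W-lattice M in N such that lam = r/s and ord_M(F^s) = r, i.e. F^s(M) ⊆ p^r · M and F^s(M) ⊄ p^(r+1)
· M; moreover r · h ≤ s · d, so that λ₁ is a rational number ≤ d/h with denominator at most h. (The
published statement asserts r ≤ d instead of r · h ≤ s · d; since F may have denominators, d can be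
negative and then r ≤ d can fail: for N = N_{-2/3} ⊕ N_{-1/2}, the sum of the standard isocrystals
of slopes −2/3 and −1/2, one has h = 5, d = −3, λ₁ = −2/3, which forces s = 3 and r = −2 > d. What
the published argument gives is r/s = λ₁ ≤ d/h, stated here.) -/
theorem result (p : ℕ) [Fact p.Prime] (k : Type u) [Field k] [CharP k p] [PerfectRing k p] (a : ℤ)
    (N : Type v) [AddCommGroup N] [Module (WittVector p k) N] [Module (FractionRing (WittVector p k)) N]
    [IsScalarTower (WittVector p k) (FractionRing (WittVector p k)) N]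
    (F : N →ₛₗ[Isoc.frob p k a] N) (hF : Isoc.IsIsoc F)
    (h : ℕ) (b : Module.Basis (Fin h) (FractionRing (WittVector p k)) N)
    (d : ℤ) (hd : Isoc.IsOrdP (Isoc.detCoeff b F) d)
    (lam : ℝ) (hlam : Isoc.IsFirstSlope F lam) :
    ∃ (r : ℤ) (s : ℕ) (M : Submodule (WittVector p k) N), 0 < s ∧ s ≤ h ∧ lam = (r : ℝ) / s ∧
      M.IsLattice (FractionRing (WittVector p k)) ∧ Isoc.IsOrd M F s r ∧ r * h ≤ s * d := by
  haveI := hF.finite
  have hτ := H8Isoc.good_frob (p := p) (k := k) a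
  obtain ⟨M0, hM0, o0, ho0, hlim0⟩ := id hlam
  have hfin : Module.finrank (FractionRing (WittVector p k)) N = h := by
    rw [Module.finrank_eq_card_basis b, Fintype.card_fin]
  have hM0ne : M0 ≠ ⊥ := H8Isoc.ne_bot_of_isOrd (ho0 1 le_rfl)
  haveI : Nontrivial N := by
    obtain ⟨x, _, hx⟩ := Submodule.exists_mem_ne_zero_of_ne_bot hM0ne
    exact ⟨⟨x, 0, hx⟩⟩
  have hh : 0 < h := by
    rcases Nat.eq_zero_or_pos h with h0 | h0
    · exfalso
      subst h0
      haveI : Subsingleton N := b.repr.injective.subsingleton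
      exact not_subsingleton N ‹_›
    · exact h0
  obtain ⟨s, hs, hsh, hround⟩ := Real.exists_nat_abs_mul_sub_round_le lam hh
  obtain ⟨r, hr⟩ : ∃ r : ℤ, r = round ((s : ℝ) * lam) := ⟨_, rfl⟩
  rw [← hr] at hround
  have hsR : (0 : ℝ) < (s : ℝ) := by exact_mod_cast hs
  have hhR0 : (0 : ℝ) < (h : ℝ) := by exact_mod_cast hh
  have hhR : (0 : ℝ) < (h : ℝ) + 1 := by positivity
  have hA : (((r * ((h : ℤ) + 1) - 1 : ℤ)) : ℝ) / (((s * (h + 1) : ℕ)) : ℝ) ≤ lam := by
    push_cast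
    rw [div_le_iff₀ (mul_pos hsR hhR)]
    have h1 := (abs_le.mp hround).1
    have h2 := mul_le_mul_of_nonneg_right h1 hhR.le
    have h3 : (1 : ℝ) / ((h : ℝ) + 1) * ((h : ℝ) + 1) = 1 := by field_simp
    rw [neg_mul, h3] at h2
    nlinarith [h2]
  obtain ⟨M₁, hM₁, hle₁⟩ := Groth.Agent.S17145.result p k a N F hF lam hlam
    (r * ((h : ℤ) + 1) - 1) (s * (h + 1)) (Nat.mul_pos hs (Nat.succ_pos h)) hA
  have hτs := hτ.pow s
  have hp0 : ((p : ℕ) : FractionRing (WittVector p k)) ≠ 0 := H8Isoc.pL_ne_zero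
  let G : N →ₛₗ[(Isoc.frob p k a) ^ s] N :=
    ((p : FractionRing (WittVector p k)) ^ (-r)) • Isoc.iter F s
  have hGbij : Function.Bijective G := by
    have : ⇑G = (fun y : N => ((p : FractionRing (WittVector p k)) ^ (-r)) • y) ∘ (⇑F)^[s] := by
      ext x; rfl
    rw [this]
    exact (MulAction.bijective₀ (zpow_ne_zero _ hp0)).comp (hF.bijective.iterate s)
  have hGtw : ∀ (j : ℕ) (X : Submodule (WittVector p k) N),
      Isoc.latImg G j X = Isoc.pPow (-r * (j : ℤ)) (Isoc.latImg F (s * j) X) := fun j X =>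
    H8Isoc.latImg_twist F (-r) s j X
  have hG1 : Isoc.latImg G (h + 1) M₁ ≤ Isoc.pPow (-1) M₁ := by
    rw [hGtw]
    refine (H8Isoc.pPow_mono hle₁).trans ?_
    rw [← H8Isoc.pPow_add]
    have e : -r * ((h + 1 : ℕ) : ℤ) + (r * ((h : ℤ) + 1) - 1) = -1 := by push_cast; ring
    rw [e]
  obtain ⟨M₂, hM₂, hst₂⟩ := H8Isoc.exists_stable_of_latImg_succ_le hτs G hGbij hfin hM₁ hG1
  -- orders w.r.t. M₂
  obtain ⟨o₂, ho₂, lam₂, hlim₂⟩ := Groth.Agent.S17141.result p k a N F hF M₂ hM₂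
  have hlam₂ : lam = lam₂ := Groth.Agent.S17142.result p k a N F hF M0 M₂ hM0 hM₂ o0 o₂ ho0 ho₂
    lam lam₂ hlim0 hlim₂
  have hM₂ne : M₂ ≠ ⊥ := H8Isoc.ne_bot_of_isOrd (ho₂ 1 le_rfl)
  have h1M : Isoc.pPow 1 M₂ ≤ M₂ := by
    have := H8Isoc.pPow_le_of_le (show (0 : ℤ) ≤ 1 by norm_num) M₂
    rwa [H8Isoc.pPow_zero] at this
  have hanti : ∀ j, Isoc.latImg G (j + 1) M₂ ≤ Isoc.latImg G j M₂ := by
    intro j
    rw [H8Isoc.latImg_add hτs G j 1]
    exact H8Isoc.latImg_mono G j hst₂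
  have hGanti : Antitone fun j => Isoc.latImg G j M₂ := antitone_nat_of_succ_le hanti
  have hGj : ∀ j, Isoc.latImg G j M₂ ≤ M₂ := by
    intro j
    have := hGanti (Nat.zero_le j)
    simpa [H8Isoc.latImg_zero] using this
  -- Claim B
  have hB : ¬ Isoc.latImg G h M₂ ≤ Isoc.pPow 1 M₂ := by
    intro hB
    rw [hGtw, neg_mul, ← H8Isoc.le_pPow_iff, ← H8Isoc.pPow_add] at hB
    have hmul : ∀ n : ℕ, Isoc.latImg F (s * h * n) M₂ ≤ Isoc.pPow ((r * (h : ℤ) + 1) * n) M₂ :=
      fun n => H8Isoc.latImg_le_pPow_mul hτ F hB n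
    have hshpos : 0 < s * h := Nat.mul_pos hs hh
    have hge : ∀ n : ℕ, 1 ≤ n → (r * (h : ℤ) + 1) * n ≤ o₂ (s * h * n) := fun n hn =>
      H8Isoc.IsOrd.le_of_le (ho₂ (s * h * n) (Nat.mul_pos hshpos hn)) (hmul n)
    have hmulT : Filter.Tendsto (fun n : ℕ => s * h * n) Filter.atTop Filter.atTop :=
      Filter.tendsto_atTop_mono (fun n => le_mul_of_one_le_left (Nat.zero_le n) hshpos)
        Filter.tendsto_id
    have hcomp : Filter.Tendsto (fun n : ℕ => (o₂ (s * h * n) : ℝ) / ((s * h * n : ℕ) : ℝ))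
        Filter.atTop (nhds lam₂) := hlim₂.comp hmulT
    have hbound : ((r : ℝ) * h + 1) / ((s : ℝ) * h) ≤ lam₂ := by
      refine ge_of_tendsto hcomp ?_
      filter_upwards [Filter.eventually_ge_atTop 1] with n hn
      have hn' : (0 : ℝ) < n := by exact_mod_cast hn
      have h5 : (((r * (h : ℤ) + 1) * n : ℤ) : ℝ) ≤ ((o₂ (s * h * n) : ℤ) : ℝ) := by
        exact_mod_cast hge n hn
      push_cast at h5 ⊢
      rw [div_le_div_iff₀ (mul_pos hsR hhR0) (mul_pos (mul_pos hsR hhR0) hn')]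
      nlinarith [h5, mul_pos hsR hhR0]
    rw [← hlam₂, div_le_iff₀ (mul_pos hsR hhR0)] at hbound
    have h6 := (abs_le.mp hround).2
    rw [le_div_iff₀ hhR] at h6
    have hA0 : (s : ℝ) * lam - r ≤ 0 := by nlinarith
    have h7 : ((s : ℝ) * lam - r) * h ≤ 0 := mul_nonpos_of_nonpos_of_nonneg hA0 hhR0.le
    nlinarith
  -- the chain
  obtain ⟨I, hIdef⟩ : ∃ I : ℕ → Submodule (WittVector p k) N,
      ∀ j, I j = Isoc.latImg G j M₂ ⊔ Isoc.pPow 1 M₂ := ⟨_, fun _ => rfl⟩
  have hIanti : Antitone I := by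
    apply antitone_nat_of_succ_le
    intro j
    rw [hIdef, hIdef]
    exact sup_le_sup_right (hanti j) _
  have hIstep : ∀ j, I (j + 1) = Isoc.latImg G 1 (I j) ⊔ Isoc.pPow 1 M₂ := by
    intro j
    rw [hIdef, hIdef, H8Isoc.latImg_sup, ← H8Isoc.latImg_add hτs, H8Isoc.latImg_pPow, sup_assoc,
      Nat.add_comm 1 j]
    congr 1
    exact (sup_eq_right.mpr (H8Isoc.pPow_mono hst₂)).symm
  have hIstab : ∀ j, I j = I (j + 1) → ∀ m, I (j + m) = I j := by
    intro j hj m
    induction m with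
    | zero => rfl
    | succ m ih => rw [← Nat.add_assoc, hIstep, ih, ← hIstep, ← hj]
  have hchain := H8Isoc.exists_eq_succ_of_chain hfin (Λ' := Isoc.pPow 1 M₂)
    (fun i => I (h + 1 - i))
    (fun a b hab => hIanti (Nat.sub_le_sub_left hab (h + 1)))
    (by
      show Isoc.pPow 1 M₂ ≤ I (h + 1 - 0)
      rw [hIdef]; exact le_sup_right)
    (by
      show I (h + 1 - (h + 1)) ≤ Isoc.pPow (-1) (Isoc.pPow 1 M₂)
      rw [Nat.sub_self, hIdef, H8Isoc.latImg_zero, ← H8Isoc.pPow_add, neg_add_cancel,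
        H8Isoc.pPow_zero]
      exact sup_le le_rfl h1M)
  obtain ⟨i, hi, hieq⟩ := hchain
  have e1 : h + 1 - i = (h - i) + 1 := by omega
  have e2 : h + 1 - (i + 1) = h - i := by omega
  simp only [e1, e2] at hieq
  have hIh : ∀ n, h ≤ n → I n = I h := by
    intro n hn
    have a1 := hIstab (h - i) hieq.symm (n - (h - i))
    have a2 := hIstab (h - i) hieq.symm i
    have e3 : h - i + (n - (h - i)) = n := by omega
    have e4 : h - i + i = h := by omega
    rw [e3] at a1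
    rw [e4] at a2
    rw [a1, a2]
  -- Claim D
  have hD : ∀ n, ¬ Isoc.latImg G n M₂ ≤ Isoc.pPow 1 M₂ := by
    intro n hn
    apply hB
    have h8 : Isoc.latImg G (max n h) M₂ ≤ Isoc.pPow 1 M₂ := (hGanti (le_max_left n h)).trans hn
    have h9 : I (max n h) = Isoc.pPow 1 M₂ := by
      rw [hIdef]; exact sup_eq_right.mpr h8
    rw [hIh _ (le_max_right n h), hIdef] at h9
    rw [← h9]
    exact le_sup_left
  -- Claim E
  have hE : ∀ n : ℕ, Isoc.IsOrd M₂ F (s * n) (r * n) := by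
    intro n
    have e5 : Isoc.latImg F (s * n) M₂ = Isoc.pPow (r * (n : ℤ)) (Isoc.latImg G n M₂) := by
      rw [hGtw, ← H8Isoc.pPow_add]
      have e : r * (n : ℤ) + -r * (n : ℤ) = 0 := by ring
      rw [e, H8Isoc.pPow_zero]
    unfold Isoc.IsOrd
    rw [e5]
    constructor
    · exact H8Isoc.pPow_mono (hGj n)
    · rw [H8Isoc.pPow_add, H8Isoc.pPow_le_pPow_iff]
      exact hD n
  have hE1 : Isoc.IsOrd M₂ F s r := by
    have := hE 1
    simpa using this
  -- the slope
  have hslope : lam = (r : ℝ) / s := by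
    rw [hlam₂]
    have hmulT : Filter.Tendsto (fun n : ℕ => s * n) Filter.atTop Filter.atTop :=
      Filter.tendsto_atTop_mono (fun n => le_mul_of_one_le_left (Nat.zero_le n) hs)
        Filter.tendsto_id
    have hcomp : Filter.Tendsto (fun n : ℕ => (o₂ (s * n) : ℝ) / ((s * n : ℕ) : ℝ))
        Filter.atTop (nhds lam₂) := hlim₂.comp hmulT
    refine tendsto_nhds_unique hcomp ?_
    refine (tendsto_const_nhds (x := (r : ℝ) / s)).congr' ?_
    filter_upwards [Filter.eventually_ge_atTop 1] with n hn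
    have hn' : (0 : ℝ) < n := by exact_mod_cast hn
    have h10 : o₂ (s * n) = r * n :=
      H8Isoc.IsOrd.unique (ho₂ (s * n) (Nat.mul_pos hs hn)) (hE n)
    rw [h10]
    push_cast
    field_simp
  obtain ⟨hE1a, _⟩ := id hE1
  exact ⟨r, s, M₂, hs, hsh, hslope, hM₂, hE1, H8Isoc.mul_le_of_latImg_le hτ F b hd hM₂ hE1a⟩

end Groth.Agent.S17146
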