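import Groth.Statements.S17151
import Mathlib
import Groth.Agent.Lib.helper8.IsocMap
-- import your own Groth.Agent.* helpers here

set_option autoImplicit false
universe u v
open Isoc

namespace Groth.Agent.S17151

/-- Let k be a perfect field of characteristic p, a ∈ ℤ, W = W(k) with fraction field L, and (N, F) a
σ^a-F-isocrystal over k (N finite-dimensional over L, F a bijective σ^a-semilinear endomorphism),
and let μ ∈ ℚ. The slope-μ part N_μ of N — the sum of all F-stable L-subspaces P such that (P, F|P)
is isoclinic of slope μ — is F-stable and is itself isoclinic of slope μ; so it is the largest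
F-stable subspace on which F is isoclinic of slope μ. -/
theorem result (p : ℕ) [Fact p.Prime] (k : Type u) [Field k] [CharP k p] [PerfectRing k p] (a : ℤ)
    (N : Type v) [AddCommGroup N] [Module (WittVector p k) N] [Module (FractionRing (WittVector p k)) N]
    [IsScalarTower (WittVector p k) (FractionRing (WittVector p k)) N]
    (F : N →ₛₗ[Isoc.frob p k a] N) (hF : Isoc.IsIsoc F) (μ : ℚ) :
    ∃ hP : ∀ x ∈ Isoc.slopePart F μ, F x ∈ Isoc.slopePart F μ,
      Isoc.IsIsoclinic (F.restrict hP) μ := by
  haveI := hF.finite
  have hτ := H8Isoc.good_frob (p := p) (k := k) a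
  have hmain : ∀ S : Set (Submodule (FractionRing (WittVector p k)) N),
      (∀ P ∈ S, ∃ hP : ∀ x ∈ P, F x ∈ P, Isoc.IsIsoclinic (F.restrict hP) μ) →
      ∃ hP : ∀ x ∈ sSup S, F x ∈ sSup S, Isoc.IsIsoclinic (F.restrict hP) μ := by
    intro S hS
    haveI : IsNoetherian (FractionRing (WittVector p k)) N := inferInstance
    obtain ⟨t, hts, hsup⟩ := CompleteLattice.WellFoundedGT.isSupFiniteCompact
      (α := Submodule (FractionRing (WittVector p k)) N) S
    have key : ∀ t : Finset (Submodule (FractionRing (WittVector p k)) N), (∀ P ∈ t, P ∈ S) →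
        (∀ x ∈ t.sup id, F x ∈ t.sup id) ∧ H8Isoc.IsoIn F μ (t.sup id) := by
      intro t
      induction t using Finset.induction_on with
      | empty =>
        intro _
        rw [Finset.sup_empty]
        refine ⟨fun x hx => ?_, H8Isoc.IsoIn.bot F μ⟩
        rw [Submodule.mem_bot] at hx
        rw [hx, map_zero]
        exact Submodule.zero_mem _
      | insert P t hPt ih =>
        intro hsub
        rw [Finset.sup_insert, id]
        obtain ⟨hPst, hPiso⟩ := hS P (hsub P (Finset.mem_insert_self P t))
        obtain ⟨h1, h2⟩ := ih (fun Q hQ => hsub Q (Finset.mem_insert_of_mem hQ))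
        refine ⟨?_, H8Isoc.IsoIn.sup hτ (H8Isoc.isoIn_of_isIsoclinic_restrict P hPst hPiso) h2⟩
        intro x hx
        obtain ⟨a', ha, b, hb, rfl⟩ := Submodule.mem_sup.mp hx
        rw [map_add]
        exact Submodule.add_mem _ (Submodule.mem_sup_left (hPst a' ha))
          (Submodule.mem_sup_right (h1 b hb))
    obtain ⟨hst, hiso⟩ := key t (fun P hP => hts (Finset.mem_coe.mpr hP))
    rw [hsup]
    exact ⟨hst, H8Isoc.isIsoclinic_restrict_of_isoIn _ hst hiso⟩
  unfold Isoc.slopePart
  exact hmain _ (fun P hP => hP)

end Groth.Agent.S17151
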