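import Groth.Statements.S17139
import Mathlib
import Groth.Agent.Lib.helper8.IsocDet
-- import your own Groth.Agent.* helpers here

set_option autoImplicit false
universe u v
open Isoc

namespace Groth.Agent.S17139

/-- Let k be a perfect field of characteristic p, a ∈ ℤ, and (N, F) a non-zero σ^a-F-isocrystal over k
of height h, with b an L-basis of N indexed by Fin h and d the p-adic order of the determinant
coefficient of F in the basis b. If M is a W(k)-lattice in N and r ∈ ℤ, s > 0 satisfy F^s(M) = p^r ·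
M, then the first Newton slope λ₁(N, F) equals r/s, and r · h = s · d. (The published statement adds
that F^h(M) = p^d · M for the same lattice M; that clause is not established by the published proof
and fails when gcd(r, s) ≠ 1 — for a = 0, N = L², M = W², F with matrix rows (p, 1), (0, p) and p
odd one has F^p(M) = p^p · M, h = d = 2, but F²(M) ≠ p² · M — so it is omitted here; the converse
direction is a separate statement.) -/
theorem result (p : ℕ) [Fact p.Prime] (k : Type u) [Field k] [CharP k p] [PerfectRing k p] (a : ℤ)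
    (N : Type v) [AddCommGroup N] [Module (WittVector p k) N] [Module (FractionRing (WittVector p k)) N]
    [IsScalarTower (WittVector p k) (FractionRing (WittVector p k)) N]
    [Nontrivial N] (F : N →ₛₗ[Isoc.frob p k a] N) (hF : Isoc.IsIsoc F)
    (h : ℕ) (b : Module.Basis (Fin h) (FractionRing (WittVector p k)) N)
    (d : ℤ) (hd : Isoc.IsOrdP (Isoc.detCoeff b F) d)
    (M : Submodule (WittVector p k) N) (hM : M.IsLattice (FractionRing (WittVector p k)))
    (r : ℤ) (s : ℕ) (hs : 0 < s) (hFM : Isoc.latImg F s M = Isoc.pPow r M) :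
    Isoc.IsFirstSlope F ((r : ℝ) / s) ∧ r * h = s * d := by
  have hτ := H8Isoc.good_frob (p := p) (k := k) a
  refine ⟨?_, le_antisymm (H8Isoc.mul_le_of_latImg_le hτ F b hd hM hFM.le)
    (H8Isoc.mul_le_of_pPow_le_latImg hτ F b hd hM hFM.ge)⟩
  have hne : M ≠ ⊥ := by
    rintro rfl
    have h := hM.span_eq_top
    rw [Submodule.bot_coe, Submodule.span_zero_singleton] at h
    exact bot_ne_top h
  have hall : ∀ j : ℕ, ∃ r, Isoc.IsOrd M F j r := fun j =>
    H8Isoc.exists_isOrd hτ F hF.bijective hM hne j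
  choose o ho using hall
  have hdec : ∀ q t : ℕ, Isoc.IsOrd M F (t + s * q) (r * q + o t) := by
    intro q t
    have e1 : Isoc.latImg F (t + s * q) M = Isoc.pPow (r * q) (Isoc.latImg F t M) := by
      rw [H8Isoc.latImg_add hτ, H8Isoc.latImg_eq_pPow_mul hτ F hFM q, H8Isoc.latImg_pPow]
    obtain ⟨hA, hB⟩ := id (ho t)
    unfold Isoc.IsOrd
    rw [e1]
    constructor
    · rw [H8Isoc.pPow_add]; exact H8Isoc.pPow_mono hA
    · rw [add_assoc, H8Isoc.pPow_add, H8Isoc.pPow_le_pPow_iff]; exact hB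
  have hon : ∀ n : ℕ, o n = r * ((n / s : ℕ) : ℤ) + o (n % s) := by
    intro n
    have hn_eq : n % s + s * (n / s) = n := by rw [add_comm]; exact Nat.div_add_mod n s
    have h1 := hdec (n / s) (n % s)
    rw [hn_eq] at h1
    exact H8Isoc.IsOrd.unique (ho n) h1
  refine ⟨M, hM, o, fun n _ => ho n, ?_⟩
  set C : ℝ := ∑ t ∈ Finset.range s, |(o t : ℝ)| with hC
  have hs' : (0 : ℝ) < s := by exact_mod_cast hs
  rw [tendsto_iff_dist_tendsto_zero]
  refine squeeze_zero' (g := fun n : ℕ => (C + |(r : ℝ)|) / n)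
    (Filter.Eventually.of_forall fun _ => dist_nonneg) ?_
    (tendsto_const_div_atTop_nhds_zero_nat _)
  filter_upwards [Filter.eventually_ge_atTop 1] with n hn
  have hn' : (0 : ℝ) < n := by exact_mod_cast hn
  have hdecomp : (n : ℝ) = s * ((n / s : ℕ) : ℝ) + ((n % s : ℕ) : ℝ) := by
    exact_mod_cast (Nat.div_add_mod n s).symm
  have ho' : (o n : ℝ) = r * ((n / s : ℕ) : ℝ) + (o (n % s) : ℝ) := by
    have h9 := congrArg (Int.cast : ℤ → ℝ) (hon n)
    rw [Int.cast_add, Int.cast_mul, Int.cast_natCast] at h9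
    exact h9
  have htlt : n % s < s := Nat.mod_lt n hs
  have ht : ((n % s : ℕ) : ℝ) ≤ s := by exact_mod_cast htlt.le
  have ht0 : (0 : ℝ) ≤ ((n % s : ℕ) : ℝ) := Nat.cast_nonneg _
  have hot : |(o (n % s) : ℝ)| ≤ C :=
    Finset.single_le_sum (f := fun t => |(o t : ℝ)|) (fun _ _ => abs_nonneg _)
      (Finset.mem_range.mpr htlt)
  have hnum : |(o n : ℝ) * s - n * r| ≤ (C + |(r : ℝ)|) * s := by
    have e : (o n : ℝ) * s - n * r = s * (o (n % s) : ℝ) + -(r * ((n % s : ℕ) : ℝ)) := by
      rw [ho', hdecomp]; ring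
    rw [e]
    have a1 : |(s : ℝ) * (o (n % s) : ℝ)| ≤ s * C := by
      rw [abs_mul, abs_of_pos hs']; exact mul_le_mul_of_nonneg_left hot hs'.le
    have a3 : |-((r : ℝ) * ((n % s : ℕ) : ℝ))| ≤ |(r : ℝ)| * s := by
      rw [abs_neg, abs_mul, abs_of_nonneg ht0]
      exact mul_le_mul_of_nonneg_left ht (abs_nonneg _)
    calc |(s : ℝ) * (o (n % s) : ℝ) + -(r * ((n % s : ℕ) : ℝ))|
        ≤ |(s : ℝ) * (o (n % s) : ℝ)| + |-((r : ℝ) * ((n % s : ℕ) : ℝ))| := abs_add_le _ _
      _ ≤ s * C + |(r : ℝ)| * s := add_le_add a1 a3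
      _ = (C + |(r : ℝ)|) * s := by ring
  rw [Real.dist_eq, div_sub_div _ _ hn'.ne' hs'.ne', abs_div, abs_of_pos (mul_pos hn' hs'),
    div_le_div_iff₀ (mul_pos hn' hs') hn']
  calc |(o n : ℝ) * s - n * r| * n ≤ (C + |(r : ℝ)|) * s * n :=
        mul_le_mul_of_nonneg_right hnum hn'.le
    _ = (C + |(r : ℝ)|) * (n * s) := by ring

end Groth.Agent.S17139
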