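import Groth.Statements.S17153
import Mathlib
import Groth.Agent.Lib.helper8.IsocMap
import Groth.Agent.Lib.helper8.IsocDet2
import Groth.Agent.S17139
-- import your own Groth.Agent.* helpers here

set_option autoImplicit false
universe u
open Isoc

namespace Groth.Agent.S17153

section helper8aux

open scoped Pointwise

variable {p : ℕ} [hp : Fact p.Prime] {k : Type u} [Field k] [CharP k p] [PerfectRing k p]

theorem helper8_det_ne_zero {N : Type*} [AddCommGroup N] [Module (WittVector p k) N]
    [Module (FractionRing (WittVector p k)) N]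
    [IsScalarTower (WittVector p k) (FractionRing (WittVector p k)) N] {h : ℕ}
    (b : Module.Basis (Fin h) (FractionRing (WittVector p k)) N)
    {σ : FractionRing (WittVector p k) →+* FractionRing (WittVector p k)}
    (f : N →ₛₗ[σ] N) (hf : Function.Surjective f) : (H8Isoc.mat b ⇑f).det ≠ 0 := by
  choose x hx using fun j => hf (b j)
  have h1 : H8Isoc.mat b (fun y => f ((b.constr (FractionRing (WittVector p k)) x) y)) = 1 := by
    ext i j
    rw [H8Isoc.mat_apply]
    show b.repr (f ((b.constr (FractionRing (WittVector p k)) x) (b j))) i = _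
    rw [b.constr_basis, hx j, b.repr_self, Matrix.one_apply, Finsupp.single_apply]
    simp only [eq_comm]
  have h3 : (1 : Matrix (Fin h) (Fin h) (FractionRing (WittVector p k))) = _ :=
    h1.symm.trans (H8Isoc.mat_comp b f _)
  intro h0
  have h2 := congrArg Matrix.det h3
  rw [Matrix.det_mul, h0, zero_mul, Matrix.det_one] at h2
  exact one_ne_zero h2

theorem helper8_std_single (τ : FractionRing (WittVector p k) →+* FractionRing (WittVector p k))
    (d : ℤ) (h : ℕ) (i : Fin h) :
    Isoc.stdIsoc τ d h (Pi.single i 1) =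
      (if (finRotate h i).val = 0 then ((p : FractionRing (WittVector p k))) ^ d else 1) •
        (Pi.single (finRotate h i) 1 : Fin h → FractionRing (WittVector p k)) := by
  ext j
  rw [Isoc.stdIsoc_apply, Pi.smul_apply, smul_eq_mul, Pi.single_apply, Pi.single_apply]
  by_cases hj : j = finRotate h i
  · subst hj
    rw [Equiv.symm_apply_apply, if_pos rfl, if_pos rfl, map_one]
  · have hj' : (finRotate h).symm j ≠ i := by
      intro e
      apply hj
      rw [← e, Equiv.apply_symm_apply]
    rw [if_neg hj', if_neg hj, map_zero, mul_zero, mul_zero]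

theorem helper8_std_injective
    (τ : FractionRing (WittVector p k) →+* FractionRing (WittVector p k))
    (d : ℤ) (h : ℕ) : Function.Injective (Isoc.stdIsoc τ d h) := by
  rw [injective_iff_map_eq_zero]
  intro x hx
  ext i
  have h1 := congrFun hx (finRotate h i)
  rw [Isoc.stdIsoc_apply, Equiv.symm_apply_apply, Pi.zero_apply] at h1
  rw [Pi.zero_apply]
  rcases mul_eq_zero.mp h1 with h2 | h2
  · exfalso
    split_ifs at h2 with h3
    · exact zpow_ne_zero _ H8Isoc.pL_ne_zero h2
    · exact one_ne_zero h2
  · exact (map_eq_zero τ).mp h2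

theorem helper8_std_step_lt (τ : FractionRing (WittVector p k) →+* FractionRing (WittVector p k))
    (d : ℤ) (n : ℕ) (i : Fin (n + 1)) (hi : i.val < n) :
    Isoc.stdIsoc τ d (n + 1) (Pi.single i 1) =
      (Pi.single ⟨i.val + 1, by omega⟩ 1 : Fin (n + 1) → FractionRing (WittVector p k)) := by
  have e : finRotate (n + 1) i = ⟨i.val + 1, by omega⟩ := by
    have := finRotate_of_lt hi
    exact this
  rw [helper8_std_single, e, if_neg (by simp), one_smul]

theorem helper8_std_step_last (τ : FractionRing (WittVector p k) →+* FractionRing (WittVector p k))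
    (d : ℤ) (n : ℕ) :
    Isoc.stdIsoc τ d (n + 1) (Pi.single (Fin.last n) 1) =
      ((p : FractionRing (WittVector p k)) ^ d) •
      (Pi.single 0 1 : Fin (n + 1) → FractionRing (WittVector p k)) := by
  rw [helper8_std_single, finRotate_last, if_pos (by simp)]

theorem helper8_std_iter_lt (τ : FractionRing (WittVector p k) →+* FractionRing (WittVector p k))
    (d : ℤ) (n : ℕ) (i : Fin (n + 1)) (m : ℕ) :
    ∀ j : Fin (n + 1), i.val + m = j.val →
      (⇑(Isoc.stdIsoc τ d (n + 1)))^[m] (Pi.single i 1) =
        (Pi.single j 1 : Fin (n + 1) → FractionRing (WittVector p k)) := by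
  induction m with
  | zero =>
    intro j hj
    have : i = j := Fin.ext (by simpa using hj)
    subst this
    rfl
  | succ m ih =>
    intro j hj
    have hjlt := j.isLt
    have hlt : i.val + m < n + 1 := by omega
    rw [Function.iterate_succ_apply', ih ⟨i.val + m, hlt⟩ rfl,
      helper8_std_step_lt τ d n ⟨i.val + m, hlt⟩ (by show i.val + m < n; omega)]
    congr 1
    exact Fin.ext (by show i.val + m + 1 = j.val; omega)

theorem helper8_std_iter_full (τ : FractionRing (WittVector p k) →+* FractionRing (WittVector p k))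
    (d : ℤ) (n : ℕ) (i : Fin (n + 1)) :
    (⇑(Isoc.stdIsoc τ d (n + 1)))^[n + 1] (Pi.single i 1) =
      ((p : FractionRing (WittVector p k)) ^ d) •
        (Pi.single i 1 : Fin (n + 1) → FractionRing (WittVector p k)) := by
  have hilt := i.isLt
  have key : ∀ m : ℕ, m = i.val + (1 + (n - i.val)) →
      (⇑(Isoc.stdIsoc τ d (n + 1)))^[m] (Pi.single i 1) =
      ((p : FractionRing (WittVector p k)) ^ d) •
        (Pi.single i 1 : Fin (n + 1) → FractionRing (WittVector p k)) := by
    intro m hm
    subst hm
    rw [Function.iterate_add_apply, Function.iterate_add_apply, Function.iterate_one,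
      helper8_std_iter_lt τ d n i (n - i.val) (Fin.last n) (by simp only [Fin.val_last]; omega),
      helper8_std_step_last, H8Isoc.iter_zpow_smul,
      helper8_std_iter_lt τ d n 0 i.val i (by simp)]
  exact key (n + 1) (by omega)

theorem helper8_std_isoIn (τ : FractionRing (WittVector p k) →+* FractionRing (WittVector p k))
    (hτ : H8Isoc.Good τ) (d : ℤ) (n : ℕ) :
    H8Isoc.IsoIn (Isoc.stdIsoc τ d (n + 1)) ((d : ℚ) / ((n + 1 : ℕ) : ℚ)) ⊤ := by
  set F := Isoc.stdIsoc τ d (n + 1) with hF
  set S : Set (Fin (n + 1) → FractionRing (WittVector p k)) :=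
    Set.range (fun i : Fin (n + 1) =>
      (Pi.single i 1 : Fin (n + 1) → FractionRing (WittVector p k))) with hS
  refine ⟨Submodule.span (WittVector p k) S, Submodule.fg_span (Set.finite_range _), ?_,
    d, n + 1, Nat.succ_pos n, rfl, ?_⟩
  · rw [Submodule.span_span_of_tower]
    have : S = Set.range (Pi.basisFun (FractionRing (WittVector p k)) (Fin (n + 1))) := by
      rw [hS]
      congr 1
      funext i
      rw [Pi.basisFun_apply]
    rw [this, Module.Basis.span_eq]
  · apply le_antisymm
    · rw [H8Isoc.latImg_le_iff]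
      intro m hm
      induction hm using Submodule.span_induction with
      | mem x hx =>
        obtain ⟨i, rfl⟩ := hx
        rw [hF, helper8_std_iter_full]
        exact H8Isoc.smul_mem_pPow (Submodule.subset_span ⟨i, rfl⟩)
      | zero => rw [H8Isoc.iter_zero']; exact Submodule.zero_mem _
      | add x y _ _ hx hy => rw [H8Isoc.iter_add']; exact Submodule.add_mem _ hx hy
      | smul w x _ hx =>
        obtain ⟨w', hw'⟩ := H8Isoc.iter_smul_int hτ F (n + 1) w x
        rw [hw']
        exact Submodule.smul_mem _ _ hx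
    · intro x hx
      rw [H8Isoc.mem_pPow] at hx
      have key : ∀ y ∈ Submodule.span (WittVector p k) S,
          ((p : FractionRing (WittVector p k)) ^ d) • y ∈
            Isoc.latImg F (n + 1) (Submodule.span (WittVector p k) S) := by
        intro y hy
        induction hy using Submodule.span_induction with
        | mem y hy =>
          obtain ⟨i, rfl⟩ := hy
          rw [← helper8_std_iter_full τ d n i]
          exact H8Isoc.iter_mem_latImg F (n + 1) (Submodule.subset_span ⟨i, rfl⟩)
        | zero => rw [smul_zero]; exact Submodule.zero_mem _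
        | add y z _ _ hy hz => rw [smul_add]; exact Submodule.add_mem _ hy hz
        | smul w y _ hy => rw [smul_comm]; exact Submodule.smul_mem _ _ hy
      have := key _ hx
      rwa [smul_smul, ← zpow_add₀ H8Isoc.pL_ne_zero, add_neg_cancel, zpow_zero, one_smul] at this

end helper8aux

/-- Let k be a perfect field of characteristic p, W = W(k), L its fraction field, a ∈ ℤ, and λ = d/h
with h > 0 and gcd(d, h) = 1. The standard σ^a-F-isocrystal N_λ of slope λ — the space L^h with the
σ^a-semilinear F determined by F e_i = e_{i+1} (i + 1 < h) and F e_{h−1} = p^d · e_0 — is a simple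
isocrystal: an L-subspace of L^h carried into itself by F is either 0 or everything. (The source
introduces N_λ for a ≠ 0 only; the simplicity argument, via sub-isocrystals of an isoclinic
isocrystal having the same slope, does not use that restriction, and the statement is made for all
a.) -/
theorem result (p : ℕ) [Fact p.Prime] (k : Type u) [Field k] [CharP k p] [PerfectRing k p]
    (a : ℤ) (d : ℤ) (h : ℕ) (hh : 0 < h) (hdh : Int.gcd d h = 1)
    (P : Submodule (FractionRing (WittVector p k)) (Fin h → (FractionRing (WittVector p k))))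
    (hP : ∀ x ∈ P, Isoc.stdIsoc (Isoc.frob p k a) d h x ∈ P) : P = ⊥ ∨ P = ⊤ := by
  obtain ⟨n, rfl⟩ := Nat.exists_eq_add_one_of_ne_zero hh.ne'
  by_cases hbot : P = ⊥
  · exact Or.inl hbot
  right
  have hτ := H8Isoc.good_frob (p := p) (k := k) a
  have hinj : Function.Injective (Isoc.stdIsoc (Isoc.frob p k a) d (n + 1)) :=
    helper8_std_injective _ d (n + 1)
  have hiso_top := helper8_std_isoIn (Isoc.frob p k a) hτ d n
  have hisoP := H8Isoc.IsoIn.of_le hτ hinj hiso_top le_top hP
  obtain ⟨M', hM', r', s', hs', hμ', hFM'⟩ := H8Isoc.isIsoclinic_restrict_of_isoIn P hP hisoP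
  haveI : Nontrivial P := (Submodule.nontrivial_iff_ne_bot).mpr hbot
  have hbij : Function.Bijective ((Isoc.stdIsoc (Isoc.frob p k a) d (n + 1)).restrict hP) := by
    constructor
    · intro x y hxy
      exact Subtype.ext (hinj (congrArg Subtype.val hxy))
    · intro y
      obtain ⟨x, hx, hxy⟩ := H8Isoc.exists_preimage_of_stable hτ _ hinj P hP y.1 y.2
      exact ⟨⟨x, hx⟩, Subtype.ext hxy⟩
  have hIso : Isoc.IsIsoc ((Isoc.stdIsoc (Isoc.frob p k a) d (n + 1)).restrict hP) :=
    ⟨inferInstance, hbij⟩
  obtain ⟨h', hh'⟩ : ∃ h' : ℕ, Module.finrank (FractionRing (WittVector p k)) P = h' := ⟨_, rfl⟩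
  let b' : Module.Basis (Fin h') (FractionRing (WittVector p k)) P :=
    Module.finBasisOfFinrankEq (FractionRing (WittVector p k)) P hh'
  have hdet : Isoc.detCoeff b' ((Isoc.stdIsoc (Isoc.frob p k a) d (n + 1)).restrict hP) ≠ 0 :=
    helper8_det_ne_zero b' _ hbij.surjective
  obtain ⟨d', hd'⟩ := H8Isoc.exists_isOrdP _ hdet
  have hres := (Groth.Agent.S17139.result p k a P
    ((Isoc.stdIsoc (Isoc.frob p k a) d (n + 1)).restrict hP) hIso h' b' d' hd' M' hM' r' s' hs'
    hFM').2
  have hs'Q : ((s' : ℕ) : ℚ) ≠ 0 := by exact_mod_cast hs'.ne'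
  have hnQ : (((n + 1 : ℕ)) : ℚ) ≠ 0 := by exact_mod_cast (Nat.succ_ne_zero n)
  have hcross : r' * ((n + 1 : ℕ) : ℤ) = d * (s' : ℤ) := by
    have := (div_eq_div_iff hs'Q hnQ).mp hμ'
    exact_mod_cast this
  have hkey : d * (h' : ℤ) = ((n + 1 : ℕ) : ℤ) * d' := by
    have hs'Z : (s' : ℤ) ≠ 0 := by exact_mod_cast hs'.ne'
    apply mul_right_cancel₀ hs'Z
    linear_combination (-(h' : ℤ)) * hcross + ((n + 1 : ℕ) : ℤ) * hres
  have hdvd : ((n + 1 : ℕ) : ℤ) ∣ (h' : ℤ) := by
    have hcop : IsCoprime d ((n + 1 : ℕ) : ℤ) := Int.isCoprime_iff_gcd_eq_one.mpr hdh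
    exact hcop.symm.dvd_of_dvd_mul_left ⟨d', hkey⟩
  have hle : h' ≤ n + 1 := by
    have := Submodule.finrank_le P
    rwa [Module.finrank_fin_fun, hh'] at this
  have hpos : 0 < h' := by
    rw [← hh']
    exact Module.finrank_pos
  have hdvdN : (n + 1) ∣ h' := Int.natCast_dvd_natCast.mp hdvd
  have heq : h' = n + 1 := le_antisymm hle (Nat.le_of_dvd hpos hdvdN)
  apply Submodule.eq_top_of_finrank_eq
  rw [Module.finrank_fin_fun, hh']
  exact heq

end Groth.Agent.S17153
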