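import Groth.Statements.S19229
import Mathlib

set_option autoImplicit false
universe u v
open SigmaLin

namespace Groth.Agent.S19229

/-- Let k be a field with a ring endomorphism σ, V a finite-dimensional k-vector space and T : V → V an
additive map with T (c • v) = σ c • T v. If some iterate of T sends v to 0 and v lies in the
k-linear span of the image of every iterate of T, then v = 0. In other words the union of the
kernels of the iterates of T and the intersection of the spans of their images meet only in 0. -/
theorem result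
    (k : Type u) [Field k] (σ : k →+* k)
    (V : Type v) [AddCommGroup V] [Module k V] [FiniteDimensional k V] (T : V →ₛₗ[σ] V) (v : V)
    (hnil : ∃ n : ℕ, (⇑T)^[n] v = 0)
    (hss : ∀ n : ℕ, v ∈ Submodule.span k (Set.range ((⇑T)^[n]))) : v = 0 := by
  let W : ℕ → Submodule k V := fun m => Submodule.span k (Set.range ((⇑T)^[m]))
  have hanti : Antitone W := by
    apply antitone_nat_of_succ_le
    intro m
    apply Submodule.span_le.mpr
    rintro _ ⟨x, rfl⟩
    apply Submodule.subset_span
    exact ⟨T x, by rw [Function.iterate_succ_apply]⟩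
  obtain ⟨m₀, hm₀⟩ : ∃ n, ∀ m, n ≤ m → W n = W m := by
    have := IsArtinian.monotone_stabilizes (R := k) (M := V) ⟨fun m => OrderDual.toDual (W m), fun a b hab => hanti hab⟩
    obtain ⟨n, hn⟩ := this
    exact ⟨n, fun m hm => hn m hm⟩
  set W₀ := W m₀ with hW₀
  have hTW : ∀ w ∈ W₀, T w ∈ W₀ := by
    intro w hw
    have hsucc : W₀ = W (m₀ + 1) := hm₀ _ (Nat.le_succ _)
    rw [hsucc]
    refine Submodule.span_induction ?_ ?_ ?_ ?_ hw
    · rintro _ ⟨x, rfl⟩
      apply Submodule.subset_span
      exact ⟨x, by rw [Function.iterate_succ_apply']⟩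
    · rw [map_zero]; exact Submodule.zero_mem _
    · intro x y _ _ hx hy
      rw [map_add]; exact Submodule.add_mem _ hx hy
    · intro c x _ hx
      rw [map_smulₛₗ]; exact Submodule.smul_mem _ _ hx
  let T' : W₀ →ₛₗ[σ] W₀ := (T.domRestrict W₀).codRestrict W₀ (fun w => hTW w w.2)
  have hT' : ∀ w : W₀, ((T' w : W₀) : V) = T w := fun w => rfl
  let b := Module.finBasis k W₀
  let g : Fin (Module.finrank k W₀) → W₀ := fun i => T' (b i)
  have hTw : ∀ w : W₀, T' w = ∑ i, σ (b.repr w i) • g i := by
    intro w
    conv_lhs => rw [← b.sum_repr w]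
    rw [map_sum]
    apply Finset.sum_congr rfl
    intro i _
    rw [map_smulₛₗ]
  have hspan : ⊤ ≤ Submodule.span k (Set.range g) := by
    intro w _
    let S : Submodule k V := (Submodule.span k (Set.range g)).map W₀.subtype
    have hsub : W₀ ≤ S := by
      have hsucc : W₀ = W (m₀ + 1) := hm₀ _ (Nat.le_succ _)
      conv_lhs => rw [hsucc]
      apply Submodule.span_le.mpr
      rintro _ ⟨x, rfl⟩
      rw [Function.iterate_succ_apply']
      have hx : (⇑T)^[m₀] x ∈ W₀ := Submodule.subset_span ⟨x, rfl⟩
      refine ⟨T' ⟨_, hx⟩, ?_, rfl⟩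
      rw [hTw]
      apply Submodule.sum_mem
      intro i _
      exact Submodule.smul_mem _ _ (Submodule.subset_span ⟨i, rfl⟩)
    obtain ⟨w', hw', hww'⟩ := hsub w.2
    have : w' = w := Subtype.ext hww'
    rwa [this] at hw'
  have hli : LinearIndependent k g :=
    linearIndependent_of_top_le_span_of_card_eq_finrank hspan (by simp)
  have hinj : ∀ w : W₀, T' w = 0 → w = 0 := by
    intro w hw
    rw [hTw] at hw
    have hc := Fintype.linearIndependent_iff.mp hli _ hw
    have : b.repr w = 0 := by
      ext i
      have := hc i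
      rw [Finsupp.zero_apply]
      exact (map_eq_zero σ).mp this
    exact (LinearEquiv.map_eq_zero_iff _).mp this
  have hiter : ∀ n : ℕ, ∀ w : W₀, (⇑T)^[n] (w : V) = 0 → w = 0 := by
    intro n
    induction n with
    | zero => intro w hw; exact Subtype.ext hw
    | succ n ih =>
      intro w hw
      rw [Function.iterate_succ_apply] at hw
      have := ih (T' w) hw
      exact hinj w this
  obtain ⟨n, hn⟩ := hnil
  have hv : v ∈ W₀ := hss m₀
  have := hiter n ⟨v, hv⟩ hn
  exact congrArg Subtype.val this

end Groth.Agent.S19229
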