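import Groth.Statements.S19232
import Mathlib

set_option autoImplicit false
universe u v
open SigmaLin

namespace Groth.Agent.S19232

/-- Let k be a field with a ring endomorphism σ, and assume that for every n and every tuple (b_0, …,
b_n) of elements of k, not all zero, the equation x = Σ_{i=0}^{n} σ^{i+1}(x) σ^{i}(b_{n-i}) has a
nonzero solution x in k. Let V be a finite-dimensional k-vector space, T : V → V additive with T (c
• v) = σ c • T v, and e ∈ V a vector no iterate of T sends to 0. Then the k-span of the orbit e, T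
e, T² e, … contains a nonzero vector v with T v = v. -/
theorem result
    (k : Type u) [Field k] (σ : k →+* k)
    (V : Type v) [AddCommGroup V] [Module k V] [FiniteDimensional k V] (T : V →ₛₗ[σ] V)
    (h2 : ∀ (n : ℕ) (b : Fin (n + 1) → k), b ≠ 0 →
      ∃ x : k, x ≠ 0 ∧ x = ∑ i : Fin (n + 1), (⇑σ)^[i.val + 1] x * (⇑σ)^[i.val] (b (Fin.rev i)))
    (e : V) (he : ∀ m : ℕ, (⇑T)^[m] e ≠ 0) :
    ∃ v ∈ Submodule.span k (Set.range (fun m : ℕ => (⇑T)^[m] e)), v ≠ 0 ∧ T v = v := by
  classical
  obtain ⟨f, hf⟩ : ∃ f : ℕ → V, f = fun m => (⇑T)^[m] e := ⟨_, rfl⟩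
  have hfj : ∀ j, f j = (⇑T)^[j] e := fun j => by rw [hf]
  obtain ⟨W, hW⟩ : ∃ W : ℕ → Submodule k V,
    W = fun n => Submodule.span k (Set.range (fun i : Fin n => f i.val)) := ⟨_, rfl⟩
  have hWn : ∀ n, W n = Submodule.span k (Set.range (fun i : Fin n => f i.val)) :=
    fun n => by rw [hW]
  have hWmono : Monotone W := by
    apply monotone_nat_of_le_succ
    intro n
    rw [hWn, hWn]
    apply Submodule.span_mono
    rintro _ ⟨i, rfl⟩
    exact ⟨Fin.castSucc i, by simp⟩
  have hmemW : ∀ n j, j < n → f j ∈ W n := fun n j hj => by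
    rw [hWn]
    exact Submodule.subset_span ⟨⟨j, hj⟩, rfl⟩
  obtain ⟨n₀, hn₀⟩ := monotone_stabilizes_iff_noetherian.mpr
    (inferInstance : IsNoetherian k V) ⟨W, hWmono⟩
  have hex : ∃ n, f n ∈ W n := by
    refine ⟨n₀, ?_⟩
    have h1 : W n₀ = W (n₀ + 1) := hn₀ (n₀ + 1) (Nat.le_succ _)
    rw [h1]
    exact hmemW _ _ (Nat.lt_succ_self _)
  obtain ⟨n, hPn, hnotP⟩ : ∃ n, f (n+1) ∈ W (n+1) ∧ f n ∉ W n := by
    have hN := Nat.find_spec hex
    cases hN0 : Nat.find hex with
    | zero =>
      exfalso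
      rw [hN0] at hN
      have hW0 : W 0 = ⊥ := by
        rw [hWn, Set.range_eq_empty, Submodule.span_empty]
      rw [hW0, Submodule.mem_bot, hfj] at hN
      exact he 0 hN
    | succ n =>
      rw [hN0] at hN
      exact ⟨n, hN, Nat.find_min hex (by omega)⟩
  rw [hWn] at hPn
  obtain ⟨a, ha⟩ := (Submodule.mem_span_range_iff_exists_fun k).mp hPn
  have ha0 : a ≠ 0 := by
    intro h0
    apply he (n+1)
    rw [← hfj, ← ha, h0]
    simp
  obtain ⟨x, hx0, hx⟩ := h2 n a ha0
  obtain ⟨a', ha'⟩ : ∃ a' : ℕ → k, a' = fun m => if h : m < n + 1 then a ⟨m, h⟩ else 0 :=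
    ⟨_, rfl⟩
  have ha'fin : ∀ i : Fin (n+1), a' i.val = a i := fun i => by
    rw [ha']
    simp only [dif_pos i.isLt]
  have hsumf : ∑ i ∈ Finset.range (n+1), a' i • f i = f (n+1) := by
    rw [← ha, ← Fin.sum_univ_eq_sum_range (fun i => a' i • f i) (n+1)]
    apply Finset.sum_congr rfl
    intro i _
    rw [ha'fin]
  obtain ⟨X, hX⟩ : ∃ X : ℕ → k, X = fun j =>
    ∑ i ∈ Finset.range (j+1), (⇑σ)^[i+1] x * (⇑σ)^[i] (a' (j - i)) := ⟨_, rfl⟩
  have hXj : ∀ j, X j = ∑ i ∈ Finset.range (j+1), (⇑σ)^[i+1] x * (⇑σ)^[i] (a' (j - i)) :=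
    fun j => by rw [hX]
  have hX0 : X 0 = σ x * a' 0 := by
    rw [hXj]
    simp
  have hXs : ∀ j, X (j+1) = σ (X j) + σ x * a' (j+1) := by
    intro j
    rw [hXj, hXj, Finset.sum_range_succ', map_sum]
    congr 1
    · apply Finset.sum_congr rfl
      intro i _
      rw [map_mul, Function.iterate_succ_apply' (⇑σ) (i+1) x,
        Function.iterate_succ_apply' (⇑σ) i (a' (j + 1 - (i + 1))), Nat.add_sub_add_right]
  have hXn : X n = x := by
    have h1 : X n = ∑ i : Fin (n + 1), (⇑σ)^[i.val + 1] x * (⇑σ)^[i.val] (a (Fin.rev i)) := by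
      rw [hXj, ← Fin.sum_univ_eq_sum_range
        (fun i => (⇑σ)^[i+1] x * (⇑σ)^[i] (a' (n - i))) (n+1)]
      apply Finset.sum_congr rfl
      intro i _
      have h3 : a' (n - i.val) = a (Fin.rev i) := by
        have h4 : n - i.val < n + 1 := by omega
        rw [ha']
        simp only [dif_pos h4]
        congr 1
        apply Fin.ext
        rw [Fin.val_rev]
        have := i.isLt
        show n - i.val = n + 1 - (i.val + 1)
        omega
      rw [h3]
    exact h1.trans hx.symm
  obtain ⟨v, hv⟩ : ∃ v : V, v = ∑ j ∈ Finset.range (n+1), X j • f j := ⟨_, rfl⟩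
  have hfs : ∀ j, T (f j) = f (j+1) := fun j => by
    rw [hfj, hfj, Function.iterate_succ_apply']
  have hTv : T v = v := by
    have e1 : T v = ∑ j ∈ Finset.range n, σ (X j) • f (j+1) + σ x • f (n+1) := by
      rw [hv, map_sum, Finset.sum_range_succ]
      congr 1
      · apply Finset.sum_congr rfl
        intro j _
        rw [map_smulₛₗ, hfs]
      · rw [map_smulₛₗ, hfs, hXn]
    have e2 : σ x • f (n+1) = ∑ j ∈ Finset.range n, (σ x * a' (j+1)) • f (j+1)
        + (σ x * a' 0) • f 0 := by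
      rw [← hsumf, Finset.smul_sum, Finset.sum_range_succ']
      congr 1
      · apply Finset.sum_congr rfl
        intro j _
        rw [smul_smul]
      · rw [smul_smul]
    have e3 : v = ∑ j ∈ Finset.range n, (σ (X j) + σ x * a' (j+1)) • f (j+1)
        + (σ x * a' 0) • f 0 := by
      rw [hv, Finset.sum_range_succ']
      congr 1
      · apply Finset.sum_congr rfl
        intro j _
        rw [hXs]
      · rw [hX0]
    rw [e1, e2, e3]
    simp only [add_smul, Finset.sum_add_distrib]
    abel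
  have hv0 : v ≠ 0 := by
    intro h0
    apply hnotP
    have h1 : X n • f n = - ∑ j ∈ Finset.range n, X j • f j := by
      rw [hv, Finset.sum_range_succ] at h0
      exact eq_neg_of_add_eq_zero_right h0
    have h3 : f n = x⁻¹ • (X n • f n) := by
      rw [hXn, smul_smul, inv_mul_cancel₀ hx0, one_smul]
    rw [h3, h1]
    apply Submodule.smul_mem
    apply Submodule.neg_mem
    apply Submodule.sum_mem
    intro j hj
    exact Submodule.smul_mem _ _ (hmemW n j (Finset.mem_range.mp hj))
  refine ⟨v, ?_, hv0, hTv⟩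
  rw [hv]
  apply Submodule.sum_mem
  intro j _
  apply Submodule.smul_mem
  apply Submodule.subset_span
  exact ⟨j, (hfj j).symm⟩

end Groth.Agent.S19232
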