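import Groth.Statements.S19233
import Mathlib
import Groth.Agent.S19229
import Groth.Agent.S19232

set_option autoImplicit false
universe u v
open SigmaLin

namespace Groth.Agent.S19233

theorem h9_span_iter {k : Type u} [Field k] {σ : k →+* k} {V : Type v} [AddCommGroup V]
    [Module k V] (T : V →ₛₗ[σ] V) (h1 : Submodule.span k (Set.range ⇑T) = ⊤) :
    ∀ n : ℕ, Submodule.span k (Set.range ((⇑T)^[n])) = ⊤ := by
  intro n
  induction n with
  | zero =>
    rw [eq_top_iff]
    intro x _
    exact Submodule.subset_span ⟨x, rfl⟩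
  | succ n ih =>
    rw [eq_top_iff, ← h1, Submodule.span_le]
    rintro _ ⟨x, rfl⟩
    have hx : x ∈ Submodule.span k (Set.range ((⇑T)^[n])) := by rw [ih]; trivial
    show T x ∈ Submodule.span k (Set.range ((⇑T)^[n+1]))
    refine Submodule.span_induction ?_ ?_ ?_ ?_ hx
    · rintro _ ⟨y, rfl⟩
      apply Submodule.subset_span
      exact ⟨y, by rw [Function.iterate_succ_apply']⟩
    · rw [map_zero]; exact Submodule.zero_mem _
    · intro a b _ _ ha hb
      rw [map_add]; exact Submodule.add_mem _ ha hb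
    · intro c a _ ha
      rw [map_smulₛₗ]; exact Submodule.smul_mem _ _ ha

theorem h9_fixed_family (k : Type u) [Field k] (σ : k →+* k)
    (h2 : ∀ (n : ℕ) (b : Fin (n + 1) → k), b ≠ 0 →
      ∃ x : k, x ≠ 0 ∧ x = ∑ i : Fin (n + 1), (⇑σ)^[i.val + 1] x * (⇑σ)^[i.val] (b (Fin.rev i)))
    (h3 : ∀ c : k, ∃ y : k, σ y - y + c = 0) :
    ∀ (n : ℕ) (V : Type v) [AddCommGroup V] [Module k V] [FiniteDimensional k V]
      (T : V →ₛₗ[σ] V),
      Submodule.span k (Set.range ⇑T) = ⊤ → Module.finrank k V = n →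
      ∃ f : Fin n → V, (∀ i, T (f i) = f i) ∧ ⊤ ≤ Submodule.span k (Set.range f) := by
  intro n
  induction n with
  | zero =>
    intro V _ _ _ T h1 hn
    haveI : Subsingleton V := Module.finrank_zero_iff.mp hn
    refine ⟨fun i => i.elim0, fun i => i.elim0, ?_⟩
    intro x _
    rw [Subsingleton.elim x 0]
    exact Submodule.zero_mem _
  | succ n ih =>
    intro V _ _ _ T h1 hn
    haveI : Nontrivial V := Module.nontrivial_of_finrank_pos (R := k) (by omega)
    obtain ⟨e, he⟩ := exists_ne (0 : V)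
    have hiter : ∀ m : ℕ, (⇑T)^[m] e ≠ 0 := by
      intro m hm
      apply he
      exact Groth.Agent.S19229.result k σ V T e ⟨m, hm⟩
        (fun j => by rw [h9_span_iter T h1 j]; trivial)
    obtain ⟨v, -, hv0, hTv⟩ := Groth.Agent.S19232.result k σ V T h2 e hiter
    obtain ⟨L, hL⟩ : ∃ L : Submodule k V, L = Submodule.span k {v} := ⟨_, rfl⟩
    have hvL : v ∈ L := by rw [hL]; exact Submodule.mem_span_singleton_self v
    have hLmem : ∀ w, w ∈ L ↔ ∃ c : k, c • v = w := fun w => by
      rw [hL, Submodule.mem_span_singleton]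
    have hLT : L ≤ L.comap T := by
      intro w hw
      obtain ⟨c, rfl⟩ := (hLmem w).mp hw
      rw [Submodule.mem_comap, map_smulₛₗ, hTv]
      exact L.smul_mem _ hvL
    obtain ⟨Tq, hTq⟩ : ∃ Tq : (V ⧸ L) →ₛₗ[σ] (V ⧸ L), ∀ w : V, Tq (L.mkQ w) = L.mkQ (T w) :=
      ⟨L.mapQ L T hLT, fun w => rfl⟩
    have hfr : Module.finrank k (V ⧸ L) = n := by
      have h4 := Submodule.finrank_quotient_add_finrank L
      have h5 : Module.finrank k L = 1 := by rw [hL]; exact finrank_span_singleton hv0
      omega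
    have hspanq : Submodule.span k (Set.range ⇑Tq) = ⊤ := by
      rw [eq_top_iff]
      intro q _
      obtain ⟨w, rfl⟩ := L.mkQ_surjective q
      have hw : w ∈ Submodule.span k (Set.range ⇑T) := by rw [h1]; trivial
      refine Submodule.span_induction ?_ ?_ ?_ ?_ hw
      · rintro _ ⟨y, rfl⟩
        apply Submodule.subset_span
        exact ⟨L.mkQ y, hTq y⟩
      · rw [map_zero]; exact Submodule.zero_mem _
      · intro a b _ _ ha hb
        rw [map_add]; exact Submodule.add_mem _ ha hb
      · intro c a _ ha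
        rw [map_smul]; exact Submodule.smul_mem _ _ ha
    obtain ⟨fq, hfqfix, hfqspan⟩ := ih (V ⧸ L) Tq hspanq hfr
    choose u hu using fun i => L.mkQ_surjective (fq i)
    have hdiff : ∀ i, T (u i) - u i ∈ L := by
      intro i
      rw [← Submodule.Quotient.mk_eq_zero L, Submodule.Quotient.mk_sub]
      show L.mkQ (T (u i)) - L.mkQ (u i) = 0
      rw [← hTq, hu, hfqfix, sub_self]
    choose c hc using fun i => (hLmem _).mp (hdiff i)
    choose y hy using fun i => h3 (c i)
    obtain ⟨u', hu'⟩ : ∃ u' : Fin n → V, u' = fun i => u i + y i • v := ⟨_, rfl⟩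
    have hu'i : ∀ i, u' i = u i + y i • v := fun i => by rw [hu']
    have hu'fix : ∀ i, T (u' i) = u' i := by
      intro i
      rw [hu'i, map_add, map_smulₛₗ, hTv]
      have e1 : T (u i) = u i + c i • v := by rw [hc i]; abel
      have e2 : c i + σ (y i) = y i := by linear_combination hy i
      rw [e1, add_assoc, ← add_smul, e2]
    have hu'q : ∀ i, L.mkQ (u' i) = fq i := by
      intro i
      rw [hu'i, map_add, hu, map_smul]
      have : L.mkQ v = 0 := (Submodule.Quotient.mk_eq_zero L).mpr hvL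
      rw [this, smul_zero, add_zero]
    refine ⟨(Fin.cons v u' : Fin (n+1) → V), ?_, ?_⟩
    · intro i
      refine Fin.cases ?_ (fun j => ?_) i
      · rw [Fin.cons_zero]; exact hTv
      · rw [Fin.cons_succ]; exact hu'fix j
    · obtain ⟨S, hS⟩ : ∃ S : Submodule k V,
        S = Submodule.span k (Set.range (Fin.cons v u' : Fin (n+1) → V)) := ⟨_, rfl⟩
      rw [← hS]
      have hvS : v ∈ S := by
        rw [hS]; exact Submodule.subset_span ⟨0, by rw [Fin.cons_zero]⟩
      have hLS : L ≤ S := by
        rw [hL, Submodule.span_le]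
        intro w hw
        rw [Set.mem_singleton_iff.mp hw]
        exact hvS
      have hmap : Submodule.map L.mkQ S = ⊤ := by
        rw [eq_top_iff]
        refine le_trans hfqspan ?_
        rw [Submodule.span_le]
        rintro _ ⟨i, rfl⟩
        refine ⟨u' i, ?_, hu'q i⟩
        rw [hS]
        exact Submodule.subset_span ⟨i.succ, by rw [Fin.cons_succ]⟩
      have hsup : L ⊔ S = ⊤ := by
        rw [← Submodule.comap_map_mkQ, hmap, Submodule.comap_top]
      rw [← hsup]
      exact sup_le hLS le_rfl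

/-- Let k be a field with a ring endomorphism σ such that (i) for every n and every tuple (b_0, …, b_n)
in k, not all zero, the equation x = Σ_{i=0}^{n} σ^{i+1}(x) σ^{i}(b_{n-i}) has a nonzero solution x
in k, and (ii) for every c in k there is y in k with σ(y) − y + c = 0. Let V be a finite-dimensional
k-vector space and T : V → V additive with T (c • v) = σ c • T v, such that the image of T spans V
over k. Then V admits a k-basis consisting of vectors fixed by T, and the map v ↦ v − T v is
surjective. -/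
theorem result
    (k : Type u) [Field k] (σ : k →+* k)
    (V : Type v) [AddCommGroup V] [Module k V] [FiniteDimensional k V] (T : V →ₛₗ[σ] V)
    (h1 : Submodule.span k (Set.range ⇑T) = ⊤)
    (h2 : ∀ (n : ℕ) (b : Fin (n + 1) → k), b ≠ 0 →
      ∃ x : k, x ≠ 0 ∧ x = ∑ i : Fin (n + 1), (⇑σ)^[i.val + 1] x * (⇑σ)^[i.val] (b (Fin.rev i)))
    (h3 : ∀ c : k, ∃ y : k, σ y - y + c = 0) :
    (∃ b : Module.Basis (Fin (Module.finrank k V)) k V, ∀ i, T (b i) = b i) ∧
    Function.Surjective (fun v : V => v - T v) := by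
  obtain ⟨f, hfix, hspan⟩ := h9_fixed_family k σ h2 h3 (Module.finrank k V) V T h1 rfl
  obtain ⟨b, hb⟩ : ∃ b : Module.Basis (Fin (Module.finrank k V)) k V, ⇑b = f :=
    ⟨basisOfTopLeSpanOfCardEqFinrank f hspan (by simp), coe_basisOfTopLeSpanOfCardEqFinrank _ _ _⟩
  have hbfix : ∀ i, T (b i) = b i := fun i => by rw [hb]; exact hfix i
  refine ⟨⟨b, hbfix⟩, ?_⟩
  intro w
  choose y hy using fun i => h3 (b.repr w i)
  refine ⟨∑ i, y i • b i, ?_⟩
  show (∑ i, y i • b i) - T (∑ i, y i • b i) = w
  rw [map_sum]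
  conv_rhs => rw [← b.sum_repr w]
  rw [← Finset.sum_sub_distrib]
  apply Finset.sum_congr rfl
  intro i _
  rw [map_smulₛₗ, hbfix, ← sub_smul]
  congr 1
  linear_combination (-1 : k) * hy i

end Groth.Agent.S19233
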