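import Groth.Statements.S19234
import Mathlib
import Groth.Agent.Lib.helper9.SigmaFit
import Groth.Agent.S19233

set_option autoImplicit false
universe u v
open SigmaLin

namespace Groth.Agent.S19234

/-- Let k be a field with a surjective ring endomorphism σ such that (i) for every n and every tuple
(b_0, …, b_n) in k, not all zero, the equation x = Σ_{i=0}^{n} σ^{i+1}(x) σ^{i}(b_{n-i}) has a
nonzero solution x in k, and (ii) for every c in k there is y with σ(y) − y + c = 0. Let V be a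
finite-dimensional k-vector space and T : V → V additive with T (c • v) = σ c • T v (no further
condition on T). Then v ↦ v − T v is surjective on V, and the intersection over n of the k-spans of
the images of the iterates of T (the part of V on which T is bijective) admits a k-basis of vectors
fixed by T; in particular the fixed vectors of T span that intersection over k. -/
theorem result
    (k : Type u) [Field k] (σ : k →+* k) (hσ : Function.Surjective σ)
    (V : Type v) [AddCommGroup V] [Module k V] [FiniteDimensional k V] (T : V →ₛₗ[σ] V)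
    (h2 : ∀ (n : ℕ) (b : Fin (n + 1) → k), b ≠ 0 →
      ∃ x : k, x ≠ 0 ∧ x = ∑ i : Fin (n + 1), (⇑σ)^[i.val + 1] x * (⇑σ)^[i.val] (b (Fin.rev i)))
    (h3 : ∀ c : k, ∃ y : k, σ y - y + c = 0) :
    Function.Surjective (fun v : V => v - T v) ∧
    ∃ b : Module.Basis (Fin (Module.finrank k ↥(⨅ n : ℕ, Submodule.span k (Set.range ((⇑T)^[n]))))) k ↥(⨅ n : ℕ, Submodule.span k (Set.range ((⇑T)^[n]))),
      ∀ i, T (b i : V) = (b i : V) := by
  obtain ⟨m, hK, hI, hc⟩ := H9Sig.fitting hσ T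
  have hinf := H9Sig.iInf_In T m hI
  have hbij := H9Sig.bijOn_In hσ T m hK hI hc.disjoint
  generalize (⨅ n : ℕ, Submodule.span k (Set.range ((⇑T)^[n]))) = J at hinf ⊢
  have hJle : J ≤ H9Sig.In T m := le_of_eq hinf
  have hle' : H9Sig.In T m ≤ J := le_of_eq hinf.symm
  have hTJ : ∀ w : J, T (w : V) ∈ J := fun w => hle' (hbij.mapsTo (hJle w.2))
  obtain ⟨TJ, hTJv⟩ : ∃ TJ : J →ₛₗ[σ] J, ∀ w : J, ((TJ w : J) : V) = T (w : V) :=
    ⟨(T.domRestrict J).codRestrict J hTJ, fun w => rfl⟩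
  have hspan : Submodule.span k (Set.range ⇑TJ) = ⊤ := by
    rw [eq_top_iff]
    intro w _
    apply Submodule.subset_span
    have hw : (w : V) ∈ (H9Sig.In T m : Set V) := hJle w.2
    obtain ⟨u, hu, huw⟩ := hbij.surjOn hw
    have hu' : u ∈ J := hle' hu
    exact ⟨⟨u, hu'⟩, Subtype.ext (by rw [hTJv]; exact huw)⟩
  obtain ⟨⟨b, hb⟩, hsurjJ⟩ := Groth.Agent.S19233.result k σ J TJ hspan h2 h3
  refine ⟨?_, ⟨b, fun i => by rw [← hTJv, hb]⟩⟩
  intro v
  have hv : v ∈ H9Sig.Kn T m ⊔ H9Sig.In T m := by rw [hc.sup_eq_top]; trivial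
  obtain ⟨vK, hvK, vI, hvI, rfl⟩ := Submodule.mem_sup.mp hv
  have hvI' : vI ∈ J := hle' hvI
  obtain ⟨uI, huI⟩ := hsurjJ ⟨vI, hvI'⟩
  have huI' : (uI : V) - T (uI : V) = vI := by
    have h6 : ((uI - TJ uI : J) : V) = vI := congrArg Subtype.val huI
    rw [Submodule.coe_sub, hTJv] at h6
    exact h6
  have htel : ∑ j ∈ Finset.range m, (⇑T)^[j] vK - ∑ j ∈ Finset.range m, T ((⇑T)^[j] vK)
      = vK := by
    rw [← Finset.sum_sub_distrib]
    have h7 : ∀ j ∈ Finset.range m, (⇑T)^[j] vK - T ((⇑T)^[j] vK)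
        = (⇑T)^[j] vK - (⇑T)^[j+1] vK := by
      intro j _
      rw [Function.iterate_succ_apply']
    have h8 := Finset.sum_range_sub' (fun j => (⇑T)^[j] vK) m
    beta_reduce at h8
    rw [Finset.sum_congr rfl h7, h8]
    have h0 : (⇑T)^[m] vK = 0 := hvK
    rw [h0, sub_zero]
    rfl
  refine ⟨∑ j ∈ Finset.range m, (⇑T)^[j] vK + (uI : V), ?_⟩
  show (∑ j ∈ Finset.range m, (⇑T)^[j] vK + (uI : V))
    - T (∑ j ∈ Finset.range m, (⇑T)^[j] vK + (uI : V)) = vK + vI
  rw [map_add, map_sum]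
  have h9 : (∑ j ∈ Finset.range m, (⇑T)^[j] vK + (uI : V))
      - (∑ j ∈ Finset.range m, T ((⇑T)^[j] vK) + T (uI : V))
      = (∑ j ∈ Finset.range m, (⇑T)^[j] vK - ∑ j ∈ Finset.range m, T ((⇑T)^[j] vK))
        + ((uI : V) - T (uI : V)) := by abel
  rw [h9, htel, huI']

end Groth.Agent.S19234
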