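import Groth.Statements.S19235
import Mathlib
import Groth.Agent.S19234

set_option autoImplicit false
universe u v
open SigmaLin

namespace Groth.Agent.S19235

noncomputable def h9InstV (R : Type u) [CommRing R] [IsLocalRing R] (M : Type v) [AddCommGroup M]
    [Module R M] :
    Module (IsLocalRing.ResidueField R)
      (M ⧸ (IsLocalRing.maximalIdeal R) • (⊤ : Submodule R M)) :=
  inferInstanceAs (Module (R ⧸ IsLocalRing.maximalIdeal R)
    (M ⧸ (IsLocalRing.maximalIdeal R) • (⊤ : Submodule R M)))

/-- Let p be a prime number and R a local ring whose maximal ideal is generated by p and in which p^n =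
0 for some n. Let σ be a ring endomorphism of R and σ̄ the induced endomorphism of the residue field
k = R/(p); assume σ̄ is surjective, that for every m and every tuple (b_0, …, b_m) in k, not all
zero, the equation x = Σ_{i=0}^{m} σ̄^{i+1}(x) σ̄^{i}(b_{m-i}) has a nonzero solution x in k, and
that for every c in k there is y with σ̄(y) − y + c = 0. Let M be a finitely generated R-module and
T : M → M additive with T (r • m) = σ r • T m. Then the map m ↦ m − T m is surjective on M. -/
theorem result
    (p : ℕ) [Fact p.Prime] (R : Type u) [CommRing R] [IsLocalRing R]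
    (hmax : IsLocalRing.maximalIdeal R = Ideal.span {(p : R)}) (n : ℕ) (hn : (p : R) ^ n = 0)
    (σ : R →+* R) (σbar : IsLocalRing.ResidueField R →+* IsLocalRing.ResidueField R)
    (hσbar : ∀ r : R, σbar (IsLocalRing.residue R r) = IsLocalRing.residue R (σ r))
    (hsurj : Function.Surjective σbar)
    (h2 : ∀ (n : ℕ) (b : Fin (n + 1) → IsLocalRing.ResidueField R), b ≠ 0 →
      ∃ x : IsLocalRing.ResidueField R, x ≠ 0 ∧ x = ∑ i : Fin (n + 1), (⇑σbar)^[i.val + 1] x * (⇑σbar)^[i.val] (b (Fin.rev i)))
    (h3 : ∀ c : IsLocalRing.ResidueField R, ∃ y : IsLocalRing.ResidueField R, σbar y - y + c = 0)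
    (M : Type v) [AddCommGroup M] [Module R M] [Module.Finite R M] (T : M →ₛₗ[σ] M) :
    Function.Surjective (fun m : M => m - T m) := by
  classical
  letI instV : Module (IsLocalRing.ResidueField R) (M ⧸ ((IsLocalRing.maximalIdeal R) • (⊤ : Submodule R M))) := h9InstV R M
  have hsmul : ∀ (r : R) (m : M), (IsLocalRing.residue R r) • (Submodule.Quotient.mk m : M ⧸ ((IsLocalRing.maximalIdeal R) • (⊤ : Submodule R M)))
      = Submodule.Quotient.mk (r • m) := fun r m => rfl
  have hσI : ∀ r ∈ (IsLocalRing.maximalIdeal R), σ r ∈ (IsLocalRing.maximalIdeal R) := by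
    intro r hr
    have hr' : r ∈ Ideal.span {(p : R)} := by rw [← hmax]; exact hr
    obtain ⟨a, rfl⟩ := Ideal.mem_span_singleton'.mp hr'
    show σ (a * (p : R)) ∈ IsLocalRing.maximalIdeal R
    rw [hmax, map_mul, map_natCast]
    exact Ideal.mem_span_singleton'.mpr ⟨σ a, rfl⟩
  have hTI : ((IsLocalRing.maximalIdeal R) • (⊤ : Submodule R M)) ≤ ((IsLocalRing.maximalIdeal R) • (⊤ : Submodule R M)).comap T := by
    intro x hx
    rw [Submodule.mem_comap]
    refine Submodule.smul_induction_on hx ?_ ?_
    · intro r hr m _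
      rw [map_smulₛₗ]
      exact Submodule.smul_mem_smul (hσI r hr) trivial
    · intro a b ha hb
      rw [map_add]
      exact Submodule.add_mem _ ha hb
  have hpmul : ∀ x ∈ ((IsLocalRing.maximalIdeal R) • (⊤ : Submodule R M)), ∃ y : M, x = (p : R) • y := by
    intro x hx
    refine Submodule.smul_induction_on hx ?_ ?_
    · intro r hr m _
      have hr' : r ∈ Ideal.span {(p : R)} := by rw [← hmax]; exact hr
      obtain ⟨a, rfl⟩ := Ideal.mem_span_singleton'.mp hr'
      exact ⟨a • m, by rw [smul_smul, mul_comm]⟩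
    · rintro a b ⟨y1, rfl⟩ ⟨y2, rfl⟩
      exact ⟨y1 + y2, by rw [smul_add]⟩
  let TR : (M ⧸ ((IsLocalRing.maximalIdeal R) • (⊤ : Submodule R M))) →ₛₗ[σ] (M ⧸ ((IsLocalRing.maximalIdeal R) • (⊤ : Submodule R M))) := ((IsLocalRing.maximalIdeal R) • (⊤ : Submodule R M)).mapQ ((IsLocalRing.maximalIdeal R) • (⊤ : Submodule R M)) T hTI
  have hTR : ∀ x : M, TR (Submodule.Quotient.mk x) = Submodule.Quotient.mk (T x) := fun x => rfl
  let Tb : (M ⧸ ((IsLocalRing.maximalIdeal R) • (⊤ : Submodule R M))) →ₛₗ[σbar] (M ⧸ ((IsLocalRing.maximalIdeal R) • (⊤ : Submodule R M))) :=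
    { toFun := fun v => TR v
      map_add' := fun a b => map_add TR a b
      map_smul' := by
        intro c v
        obtain ⟨r, rfl⟩ := IsLocalRing.residue_surjective c
        obtain ⟨m, rfl⟩ := Submodule.Quotient.mk_surjective ((IsLocalRing.maximalIdeal R) • (⊤ : Submodule R M)) v
        show TR ((IsLocalRing.residue R r) • (Submodule.Quotient.mk m : M ⧸ ((IsLocalRing.maximalIdeal R) • (⊤ : Submodule R M))))
          = σbar (IsLocalRing.residue R r) • TR (Submodule.Quotient.mk m)
        rw [hsmul, hTR, hTR, map_smulₛₗ, hσbar, hsmul] }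
  have hTb : ∀ x : M, Tb (Submodule.Quotient.mk x) = Submodule.Quotient.mk (T x) := fun x => rfl
  haveI : Module.Finite (IsLocalRing.ResidueField R) (M ⧸ ((IsLocalRing.maximalIdeal R) • (⊤ : Submodule R M))) := by
    obtain ⟨s, hs⟩ := (Module.finite_def.mp (inferInstance : Module.Finite R M))
    refine ⟨⟨s.image (fun m => (Submodule.Quotient.mk m : M ⧸ ((IsLocalRing.maximalIdeal R) • (⊤ : Submodule R M)))), ?_⟩⟩
    rw [eq_top_iff]
    intro v _
    obtain ⟨m, rfl⟩ := Submodule.Quotient.mk_surjective ((IsLocalRing.maximalIdeal R) • (⊤ : Submodule R M)) v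
    have hm : m ∈ Submodule.span R (s : Set M) := by rw [hs]; trivial
    refine Submodule.span_induction ?_ ?_ ?_ ?_ hm
    · intro x hx
      apply Submodule.subset_span
      rw [Finset.coe_image]
      exact Set.mem_image_of_mem _ hx
    · rw [Submodule.Quotient.mk_zero]; exact Submodule.zero_mem _
    · intro a b _ _ ha hb
      rw [Submodule.Quotient.mk_add]; exact Submodule.add_mem _ ha hb
    · intro r a _ ha
      rw [← hsmul]; exact Submodule.smul_mem _ _ ha
  have hsurjV := (Groth.Agent.S19234.result (IsLocalRing.ResidueField R) σbar hsurj (M ⧸ ((IsLocalRing.maximalIdeal R) • (⊤ : Submodule R M))) Tb h2 h3).1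
  have hTp : ∀ (i : ℕ) (x : M), T ((p : R) ^ i • x) = (p : R) ^ i • T x := by
    intro i x
    rw [map_smulₛₗ, map_pow, map_natCast]
  have key : ∀ i : ℕ, ∀ m : M, ∃ u m' : M, m - (u - T u) = (p : R) ^ i • m' := by
    intro i
    induction i with
    | zero => intro m; exact ⟨0, m, by simp⟩
    | succ i ih =>
      intro m
      obtain ⟨u, m', h⟩ := ih m
      obtain ⟨vbar, hv⟩ := hsurjV (Submodule.Quotient.mk m')
      obtain ⟨u', rfl⟩ := Submodule.Quotient.mk_surjective ((IsLocalRing.maximalIdeal R) • (⊤ : Submodule R M)) vbar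
      have hv' : (Submodule.Quotient.mk u' : M ⧸ ((IsLocalRing.maximalIdeal R) • (⊤ : Submodule R M))) - Tb (Submodule.Quotient.mk u')
          = Submodule.Quotient.mk m' := hv
      have h1 : m' - (u' - T u') ∈ ((IsLocalRing.maximalIdeal R) • (⊤ : Submodule R M)) := by
        rw [← Submodule.Quotient.mk_eq_zero, Submodule.Quotient.mk_sub, Submodule.Quotient.mk_sub,
          ← hTb, hv', sub_self]
      obtain ⟨m'', hm''⟩ := hpmul _ h1
      refine ⟨u + (p : R) ^ i • u', m'', ?_⟩
      rw [map_add, hTp]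
      calc m - (u + (p : R) ^ i • u' - (T u + (p : R) ^ i • T u'))
          = (m - (u - T u)) - (p : R) ^ i • (u' - T u') := by rw [smul_sub]; abel
        _ = (p : R) ^ i • m' - (p : R) ^ i • (u' - T u') := by rw [h]
        _ = (p : R) ^ i • (m' - (u' - T u')) := (smul_sub _ _ _).symm
        _ = (p : R) ^ i • ((p : R) • m'') := by rw [hm'']
        _ = (p : R) ^ (i + 1) • m'' := by rw [smul_smul, pow_succ]
  intro m
  obtain ⟨u, m', h⟩ := key n m
  rw [hn, zero_smul] at h
  exact ⟨u, (sub_eq_zero.mp h).symm⟩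

end Groth.Agent.S19235
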