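import Groth.Statements.S19239
import Mathlib
import Groth.Agent.S19234

set_option autoImplicit false
universe u v
open SigmaLin

namespace Groth.Agent.S19239

theorem h9_sigma_iter (p : ℕ) [Fact p.Prime] (k : Type u) [Field k] [CharP k p] [IsAlgClosed k]
    (z : k) (j m : ℕ) :
    (⇑((frobeniusEquiv k p).symm.toRingHom))^[j] (z ^ (p ^ (j + m))) = z ^ (p ^ m) := by
  induction j with
  | zero => simp
  | succ j ih =>
    rw [Function.iterate_succ_apply]
    have h1 : z ^ (p ^ (j + 1 + m)) = (z ^ (p ^ (j + m))) ^ p := by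
      rw [show j + 1 + m = (j + m) + 1 by omega, pow_succ, pow_mul]
    rw [h1]
    have h2 : ((frobeniusEquiv k p).symm.toRingHom) ((z ^ (p ^ (j + m))) ^ p)
        = z ^ (p ^ (j + m)) := frobeniusEquiv_symm_pow k p _
    rw [h2, ih]

theorem h9_h3 (p : ℕ) [Fact p.Prime] (k : Type u) [Field k] [CharP k p] [IsAlgClosed k] :
    ∀ c : k, ∃ y : k, ((frobeniusEquiv k p).symm.toRingHom) y - y + c = 0 := by
  intro c
  have hp := (Fact.out : p.Prime)
  obtain ⟨P, hP⟩ : ∃ P : Polynomial k,
    P = Polynomial.X ^ p - (Polynomial.X + Polynomial.C c) := ⟨_, rfl⟩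
  have hdeg : P.degree ≠ 0 := by
    have h1 : (Polynomial.X + Polynomial.C c : Polynomial k).degree
        < (Polynomial.X ^ p : Polynomial k).degree := by
      rw [Polynomial.degree_X_add_C, Polynomial.degree_X_pow]
      exact_mod_cast hp.one_lt
    rw [hP, Polynomial.degree_sub_eq_left_of_degree_lt h1, Polynomial.degree_X_pow]
    exact_mod_cast hp.ne_zero
  obtain ⟨z, hz⟩ := IsAlgClosed.exists_root P hdeg
  refine ⟨z ^ p, ?_⟩
  have h2 : ((frobeniusEquiv k p).symm.toRingHom) (z ^ p) = z := frobeniusEquiv_symm_pow k p z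
  rw [h2]
  rw [Polynomial.IsRoot, hP, Polynomial.eval_sub, Polynomial.eval_pow, Polynomial.eval_X,
    Polynomial.eval_add, Polynomial.eval_X, Polynomial.eval_C] at hz
  linear_combination (-1 : k) * hz

theorem h9_h2 (p : ℕ) [Fact p.Prime] (k : Type u) [Field k] [CharP k p] [IsAlgClosed k] :
    ∀ (n : ℕ) (b : Fin (n + 1) → k), b ≠ 0 →
      ∃ x : k, x ≠ 0 ∧ x = ∑ i : Fin (n + 1),
        (⇑((frobeniusEquiv k p).symm.toRingHom))^[i.val + 1] x *
          (⇑((frobeniusEquiv k p).symm.toRingHom))^[i.val] (b (Fin.rev i)) := by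
  intro n b hb
  obtain ⟨σ, hσ⟩ : ∃ σ : k →+* k, σ = (frobeniusEquiv k p).symm.toRingHom := ⟨_, rfl⟩
  rw [← hσ]
  have hσinj : Function.Injective σ := by rw [hσ]; exact (frobeniusEquiv k p).symm.injective
  obtain ⟨c, hc⟩ : ∃ c : Fin (n+1) → k, c = fun i => (⇑σ)^[i.val] (b (Fin.rev i)) := ⟨_, rfl⟩
  have hci : ∀ i, c i = (⇑σ)^[i.val] (b (Fin.rev i)) := fun i => by rw [hc]
  have hc0 : ∃ j, c j ≠ 0 := by
    by_contra hcon
    push Not at hcon
    apply hb
    funext j
    have h1 := hcon (Fin.rev j)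
    rw [hci, Fin.rev_rev] at h1
    have h2 : (⇑σ)^[(Fin.rev j).val] (b j) = (⇑σ)^[(Fin.rev j).val] 0 := by
      rw [h1, iterate_map_zero]
    exact (Function.Injective.iterate hσinj _) h2
  have hp := (Fact.out : p.Prime)
  obtain ⟨D, hD⟩ : ∃ D, D = p ^ (n + 1) := ⟨_, rfl⟩
  obtain ⟨S, hS⟩ : ∃ S : Polynomial k, S = ∑ i : Fin (n+1),
    Polynomial.C (c i) * Polynomial.X ^ (p ^ (n - i.val)) := ⟨_, rfl⟩
  have hSdeg : S.degree < (D : WithBot ℕ) := by
    rw [hS]
    refine lt_of_le_of_lt (Polynomial.degree_sum_le _ _) ?_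
    refine (Finset.sup_lt_iff (WithBot.bot_lt_coe D)).mpr ?_
    intro i _
    refine lt_of_le_of_lt (Polynomial.degree_C_mul_X_pow_le _ _) ?_
    rw [hD]
    have h7 : p ^ (n - i.val) < p ^ (n + 1) := Nat.pow_lt_pow_right hp.one_lt (by omega)
    exact WithBot.coe_lt_coe.mpr h7
  have hScoeff : ∀ j : Fin (n+1), S.coeff (p ^ (n - j.val)) = c j := by
    intro j
    rw [hS, Polynomial.finsetSum_coeff, Finset.sum_eq_single j]
    · rw [Polynomial.coeff_C_mul_X_pow, if_pos rfl]
    · intro i _ hij
      rw [Polynomial.coeff_C_mul_X_pow, if_neg]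
      intro h
      apply hij
      have h3 := Nat.pow_right_injective hp.two_le h
      apply Fin.ext
      have := i.isLt
      have := j.isLt
      omega
    · intro h; exact absurd (Finset.mem_univ j) h
  obtain ⟨P, hP⟩ : ∃ P : Polynomial k, P = Polynomial.X ^ D - S := ⟨_, rfl⟩
  have hPD : P.coeff D = 1 := by
    rw [hP, Polynomial.coeff_sub, Polynomial.coeff_X_pow, if_pos rfl,
      Polynomial.coeff_eq_zero_of_degree_lt hSdeg, sub_zero]
  have hP0 : P ≠ 0 := by
    intro h
    rw [h, Polynomial.coeff_zero] at hPD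
    exact zero_ne_one hPD
  obtain ⟨j, hj⟩ := hc0
  have hjD : p ^ (n - j.val) < D := by
    rw [hD]; exact Nat.pow_lt_pow_right hp.one_lt (by omega)
  have hPe : P.coeff (p ^ (n - j.val)) = - c j := by
    rw [hP, Polynomial.coeff_sub, Polynomial.coeff_X_pow, if_neg (by omega), hScoeff, zero_sub]
  have hroot : ∃ z : k, z ≠ 0 ∧ P.eval z = 0 := by
    by_contra hcon
    push Not at hcon
    obtain ⟨Q, hQ, hndvd⟩ := Polynomial.exists_eq_pow_rootMultiplicity_mul_and_not_dvd P hP0 0
    generalize Polynomial.rootMultiplicity 0 P = r at hQ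
    have hQroot : ∀ z, ¬ Q.IsRoot z := by
      intro z hz
      have hPz : P.eval z = 0 := by
        rw [hQ, Polynomial.eval_mul, hz.eq_zero, mul_zero]
      by_cases hz0 : z = 0
      · apply hndvd
        rw [Polynomial.dvd_iff_isRoot, ← hz0]
        exact hz
      · exact hcon z hz0 hPz
    have hQdeg : Q.degree = 0 := by
      by_contra hne
      obtain ⟨z, hz⟩ := IsAlgClosed.exists_root Q hne
      exact hQroot z hz
    obtain ⟨a, ha⟩ : ∃ a : k, Q = Polynomial.C a :=
      ⟨Q.coeff 0, Polynomial.eq_C_of_degree_eq_zero hQdeg⟩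
    have hPform : P = Polynomial.C a * Polynomial.X ^ r := by
      rw [hQ, ha, Polynomial.C_0, sub_zero, mul_comm]
    have h1 : D = r := by
      by_contra hne
      have h5 : P.coeff D = 0 := by
        rw [hPform, Polynomial.coeff_C_mul_X_pow, if_neg hne]
      rw [hPD] at h5
      exact one_ne_zero h5
    have h2 : p ^ (n - j.val) = r := by
      by_contra hne
      have h5 : P.coeff (p ^ (n - j.val)) = 0 := by
        rw [hPform, Polynomial.coeff_C_mul_X_pow, if_neg hne]
      rw [hPe] at h5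
      exact hj (neg_eq_zero.mp h5)
    omega
  obtain ⟨z, hz0, hPz⟩ := hroot
  refine ⟨z ^ D, pow_ne_zero _ hz0, ?_⟩
  have hiter : ∀ i : Fin (n+1), (⇑σ)^[i.val + 1] (z ^ D) = z ^ (p ^ (n - i.val)) := by
    intro i
    have h6 := h9_sigma_iter p k z (i.val + 1) (n - i.val)
    rw [← hσ] at h6
    have e : i.val + 1 + (n - i.val) = n + 1 := by have := i.isLt; omega
    rw [e, ← hD] at h6
    exact h6
  have hsum : ∑ i : Fin (n+1), (⇑σ)^[i.val + 1] (z ^ D) * (⇑σ)^[i.val] (b (Fin.rev i))
      = S.eval z := by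
    rw [hS, Polynomial.eval_finsetSum]
    apply Finset.sum_congr rfl
    intro i _
    rw [hiter, ← hci, Polynomial.eval_mul, Polynomial.eval_C, Polynomial.eval_pow,
      Polynomial.eval_X, mul_comm]
  rw [hsum]
  rw [hP, Polynomial.eval_sub, Polynomial.eval_pow, Polynomial.eval_X] at hPz
  exact sub_eq_zero.mp hPz

/-- Let k be an algebraically closed field of characteristic p > 0, V a finite-dimensional k-vector
space and T : V → V an additive map with T (c • v) = σ(c) • T v for σ the inverse of the p-th power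
map of k. Then v ↦ v − T v is surjective on V, and the intersection over n of the k-spans of the
images of the iterates of T admits a k-basis consisting of vectors fixed by T. (A special case of
the statement for a surjective field endomorphism satisfying two solvability conditions.) -/
theorem result
    (p : ℕ) [Fact p.Prime] (k : Type u) [Field k] [CharP k p] [IsAlgClosed k]
    (V : Type v) [AddCommGroup V] [Module k V] [FiniteDimensional k V]
    (T : V →ₛₗ[(frobeniusEquiv k p).symm.toRingHom] V) :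
    Function.Surjective (fun v : V => v - T v) ∧
    ∃ b : Module.Basis (Fin (Module.finrank k ↥(⨅ n : ℕ, Submodule.span k (Set.range ((⇑T)^[n]))))) k ↥(⨅ n : ℕ, Submodule.span k (Set.range ((⇑T)^[n]))),
      ∀ i, T (b i : V) = (b i : V) := by
  exact Groth.Agent.S19234.result k ((frobeniusEquiv k p).symm.toRingHom)
    (frobeniusEquiv k p).symm.surjective V T (h9_h2 p k) (h9_h3 p k)

end Groth.Agent.S19239
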