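import Groth.Statements.S10971
import Mathlib
import Groth.Agent.Lib.lead.FF
-- import your own Groth.Agent.* helpers here

set_option autoImplicit false
open FunFld

namespace Groth.Agent.S10971
open Groth.Agent.Lib.lead.FF


/-- The residue field of a place of a function field of one variable `K/k` is finite over `k`. -/
theorem result (k K : Type*) [Field k] [Field K] [Algebra k K]
    (hK : FunFld.IsFunctionField k K) (P : FunFld.Place k K) :
    FiniteDimensional k (IsLocalRing.ResidueField P.O) := by
  classical
  obtain ⟨t, ht⟩ := P.2.2 (WithZero.exp (-1))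
  have ht1 : P.1 t < 1 := by
    rw [ht, ← WithZero.exp_zero, WithZero.exp_lt_exp]
    norm_num
  have ht0 : t ≠ 0 := by
    rintro rfl
    rw [map_zero] at ht
    exact WithZero.exp_ne_zero ht.symm
  have htr : Transcendental k t := transcendental_of_val_lt_one hK P ht1 ht0
  haveI hfin : FiniteDimensional (IntermediateField.adjoin k ({t} : Set K)) K :=
    finite_of_transcendental hK htr
  obtain ⟨F, hF⟩ : ∃ F : IntermediateField k K, F = IntermediateField.adjoin k ({t} : Set K) :=
    ⟨_, rfl⟩
  haveI hfinF : FiniteDimensional F K := by rw [hF]; exact hfin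
  show Module.Finite k (IsLocalRing.ResidueField P.O)
  rw [← Module.rank_lt_aleph0_iff]
  refine lt_of_le_of_lt (rank_le (n := Module.finrank F K) ?_)
    (Cardinal.nat_lt_aleph0 (Module.finrank F K))
  intro s hs
  have hsurj := IsLocalRing.residue_surjective (R := P.O)
  choose y hy using hsurj
  have hli : LinearIndependent F (fun i : s => ((y (i : IsLocalRing.ResidueField P.O) : P.O) : K)) := by
    rw [Fintype.linearIndependent_iff]
    intro g hg
    by_contra hne
    push Not at hne
    obtain ⟨j, hj⟩ := hne
    obtain ⟨i₀, -, hi₀⟩ := Finset.exists_max_image Finset.univ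
      (fun i : s => P.1 ((g i : F) : K)) ⟨j, Finset.mem_univ _⟩
    have hc0 : ((g i₀ : F) : K) ≠ 0 := by
      intro h0
      have hj' : P.1 ((g j : F) : K) ≤ P.1 ((g i₀ : F) : K) := hi₀ j (Finset.mem_univ _)
      rw [h0, map_zero] at hj'
      have h1 : P.1 ((g j : F) : K) = 0 := le_antisymm hj' zero_le'
      rw [Valuation.zero_iff] at h1
      exact hj (Subtype.ext h1)
    have hd_mem : ∀ i : s, ((g i : F) : K) / ((g i₀ : F) : K) ∈
        IntermediateField.adjoin k ({t} : Set K) := by
      intro i
      rw [← hF]
      exact F.div_mem (g i).2 (g i₀).2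
    have hd_le : ∀ i : s, P.1 (((g i : F) : K) / ((g i₀ : F) : K)) ≤ 1 := by
      intro i
      rw [map_div₀, div_le_one₀ (zero_lt_iff.2 ((Valuation.ne_zero_iff _).2 hc0))]
      exact hi₀ i (Finset.mem_univ _)
    choose c hc using fun i : s => exists_const_approx' P ht1 ht0 (hd_mem i) (hd_le i)
    have hrel : ∑ i : s, ((g i : F) : K) * ((y (i : IsLocalRing.ResidueField P.O) : P.O) : K) = 0 := by
      rw [← hg]
      refine Finset.sum_congr rfl fun i _ => ?_
      rfl
    have hrel' : ∑ i : s, (((g i : F) : K) / ((g i₀ : F) : K)) *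
        ((y (i : IsLocalRing.ResidueField P.O) : P.O) : K) = 0 := by
      have h1 : ∑ i : s, (((g i : F) : K) / ((g i₀ : F) : K)) *
          ((y (i : IsLocalRing.ResidueField P.O) : P.O) : K) =
          (∑ i : s, ((g i : F) : K) * ((y (i : IsLocalRing.ResidueField P.O) : P.O) : K)) /
            ((g i₀ : F) : K) := by
        rw [Finset.sum_div]
        refine Finset.sum_congr rfl fun i _ => ?_
        rw [div_mul_eq_mul_div]
      rw [h1, hrel, zero_div]
    have hval : P.1 (∑ i : s, algebraMap k K (c i) *
        ((y (i : IsLocalRing.ResidueField P.O) : P.O) : K)) < 1 := by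
      have heq : ∑ i : s, algebraMap k K (c i) *
          ((y (i : IsLocalRing.ResidueField P.O) : P.O) : K) =
          - ∑ i : s, (((g i : F) : K) / ((g i₀ : F) : K) - algebraMap k K (c i)) *
            ((y (i : IsLocalRing.ResidueField P.O) : P.O) : K) := by
        rw [eq_neg_iff_add_eq_zero, ← Finset.sum_add_distrib]
        rw [← hrel']
        refine Finset.sum_congr rfl fun i _ => ?_
        ring
      rw [heq, Valuation.map_neg]
      apply Valuation.map_sum_lt _ one_ne_zero
      intro i _
      rw [map_mul]
      calc P.1 (((g i : F) : K) / ((g i₀ : F) : K) - algebraMap k K (c i)) *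
            P.1 ((y (i : IsLocalRing.ResidueField P.O) : P.O) : K)
          ≤ P.1 (((g i : F) : K) / ((g i₀ : F) : K) - algebraMap k K (c i)) * 1 :=
            mul_le_mul' le_rfl ((Valuation.mem_valuationSubring_iff _ _).1
              (y (i : IsLocalRing.ResidueField P.O)).2)
        _ = P.1 (((g i : F) : K) / ((g i₀ : F) : K) - algebraMap k K (c i)) := mul_one _
        _ < 1 := hc i
    have hz : ∑ i : s, c i • ((i : s) : IsLocalRing.ResidueField P.O) = 0 := by
      have hmem : (∑ i : s, algebraMap k P.O (c i) * y (i : IsLocalRing.ResidueField P.O)) ∈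
          IsLocalRing.maximalIdeal P.O := by
        rw [mem_max_iff]
        have h1 : ((∑ i : s, algebraMap k P.O (c i) * y (i : IsLocalRing.ResidueField P.O) : P.O) : K)
            = ∑ i : s, algebraMap k K (c i) *
              ((y (i : IsLocalRing.ResidueField P.O) : P.O) : K) := by
          rw [← Subring.subtype_apply, map_sum]
          rfl
        rw [h1]
        exact hval
      have h0 := (IsLocalRing.residue_eq_zero_iff _).2 hmem
      rw [map_sum] at h0
      rw [← h0]
      refine Finset.sum_congr rfl fun i _ => ?_
      rw [map_mul, hy, Algebra.smul_def]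
      rfl
    have hc_zero := Fintype.linearIndependent_iff.1 hs c hz
    have h1 := hc i₀
    rw [hc_zero i₀, map_zero, sub_zero, div_self hc0, map_one] at h1
    exact lt_irrefl _ h1
  have h2 := hli.fintype_card_le_finrank
  rwa [Fintype.card_coe] at h2

end Groth.Agent.S10971
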