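import Groth.Statements.S10996
import Mathlib
import Groth.Agent.Lib.lead.FF9
-- import your own Groth.Agent.* helpers here

set_option autoImplicit false
open FunFld

namespace Groth.Agent.S10996
open Groth.Agent.Lib.lead.FF Groth.Agent.Lib.lead.FF4 Groth.Agent.Lib.lead.FF5 Groth.Agent.Lib.lead.FF6 Groth.Agent.Lib.lead.FF7 Groth.Agent.Lib.lead.FF8 Groth.Agent.Lib.lead.FF9


/-- In a function field of one variable of positive genus, distinct places of degree one are not
linearly equivalent. -/
theorem result (k K : Type*) [Field k] [Field K] [Algebra k K]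
    (hK : FunFld.IsFunctionField k K) (hg : 0 < FunFld.genus k K) (P P' : FunFld.Place k K) (hP : P.deg = 1) (hP' : P'.deg = 1)
    (x : K) (hx : x ≠ 0) (h : Finsupp.single P 1 - Finsupp.single P' 1 = FunFld.div k x) : P = P' := by
  classical
  by_contra hne
  have hxP' : FunFld.div k x P' = -1 := by
    rw [← h, Finsupp.sub_apply, Finsupp.single_apply, if_neg hne, Finsupp.single_eq_same]
    norm_num
  have hord : P'.ord x = -1 := by rw [← div_apply hK, hxP']
  have hxtr : Transcendental k x := by
    intro halg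
    obtain ⟨c, rfl⟩ := hK.2 x halg
    rw [ord_algebraMap] at hord
    omega
  have hB : (0 : FunFld.Divisor k K) ≤ Finsupp.single P' 1 := single_one_nonneg P'
  have hxB : x ∈ FunFld.L (Finsupp.single P' (1 : ℤ)) := by
    refine (mem_L_iff _ _).2 fun Q => ?_
    rw [val_le_exp_iff Q hx]
    have h1 : FunFld.div k x Q =
        (Finsupp.single P 1 - Finsupp.single P' 1 : FunFld.Divisor k K) Q := by rw [h]
    rw [div_apply hK, Finsupp.sub_apply] at h1
    have h2 : (0 : ℤ) ≤ (Finsupp.single P (1 : ℤ) : FunFld.Divisor k K) Q :=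
      single_one_nonneg P Q
    linarith
  obtain ⟨-, N, hN⟩ := riemann hK
  obtain ⟨l, hl⟩ : ∃ l : ℕ, N ≤ (l : ℤ) := ⟨N.toNat, Int.self_le_toNat N⟩
  have h3 := succ_le_ell_nsmul hK hxtr _ hB hxB l
  have hdegl : FunFld.Divisor.deg (l • (Finsupp.single P' 1 : FunFld.Divisor k K)) = l := by
    rw [deg_nsmul, deg_single, hP']
    norm_num
  have h4 := hN (l • Finsupp.single P' 1) (by rw [hdegl]; exact hl)
  rw [hdegl] at h4
  have h5 : ((l + 1 : ℕ) : ℤ) ≤ (FunFld.ell (l • (Finsupp.single P' 1 : FunFld.Divisor k K)) : ℤ) := by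
    exact_mod_cast h3
  have h6 : (0 : ℤ) < (FunFld.genus k K : ℤ) := by exact_mod_cast hg
  push_cast at h5
  linarith

end Groth.Agent.S10996
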