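import Groth.Statements.S11054
import Mathlib
import Groth.Agent.Lib.lead.NS2
-- import your own Groth.Agent.* helpers here

set_option autoImplicit false
open FunFld

namespace Groth.Agent.S11054
open FunFld Groth.Agent.Lib.lead.FF Groth.Agent.Lib.lead.FF2 Groth.Agent.Lib.lead.FF3 Groth.Agent.Lib.lead.FF4 Groth.Agent.Lib.lead.FF5 Groth.Agent.Lib.lead.FF6 Groth.Agent.Lib.lead.FF7 Groth.Agent.Lib.lead.FF8 Groth.Agent.Lib.lead.FF9 Groth.Agent.Lib.lead.FF10 Groth.Agent.Lib.lead.FF11 Groth.Agent.Lib.lead.FF12 Groth.Agent.Lib.lead.FF13 Groth.Agent.Lib.lead.FF14 Groth.Agent.Lib.lead.FF15 Groth.Agent.Lib.lead.FF16 Groth.Agent.Lib.lead.FF17 Groth.Agent.Lib.lead.Loc Groth.Agent.Lib.lead.Emb Groth.Agent.Lib.lead.Emb2 Groth.Agent.Lib.lead.NS Groth.Agent.Lib.lead.NS2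

section aux
variable {k K : Type*} [Field k] [Field K] [Algebra k K]

lemma exists_bad [IsAlgClosed k] (hK : IsFunctionField k K) (x y : K) (P : Place k K) :
    ∃ B : Finset k, ∀ c : k, c ∉ B → P.1 (x + c • y) = max (P.1 x) (P.1 y) := by
  classical
  rcases lt_trichotomy (P.1 x) (P.1 y) with h | h | h
  · refine ⟨{0}, fun c hc => ?_⟩
    have hc0 : c ≠ 0 := fun h0 => hc (by rw [h0]; exact Finset.mem_singleton_self _)
    have hcy : P.1 (c • y) = P.1 y := by
      rw [Algebra.smul_def, map_mul, val_algebraMap P hc0, one_mul]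
    rw [max_eq_right h.le, add_comm]
    exact (Valuation.map_add_eq_of_lt_left _
      (show P.1 x < P.1 (c • y) by rw [hcy]; exact h)).trans hcy
  · by_cases hy0 : y = 0
    · refine ⟨∅, fun c _ => ?_⟩
      rw [hy0, smul_zero, add_zero, map_zero, max_eq_left zero_le']
    · have hxy1 : P.1 (x / y) ≤ 1 := by
        rw [val_div_le_one_iff P hy0]
        exact h.le
      obtain ⟨b, hb⟩ := exists_const_sub_lt P (deg_eq_one hK P) hxy1
      refine ⟨{-b}, fun c hc => ?_⟩
      have hcb : b + c ≠ 0 := by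
        intro h0
        apply hc
        rw [Finset.mem_singleton]
        linear_combination h0
      have h1 : P.1 (x / y + algebraMap k K c) = 1 := by
        apply val_eq_one_of_const_ne P (b := b + c) _ hcb
        have he : x / y + algebraMap k K c - algebraMap k K (b + c) =
            x / y - algebraMap k K b := by
          rw [map_add]
          ring
        rw [he]
        exact hb
      have h2 : x + c • y = y * (x / y + algebraMap k K c) := by
        rw [Algebra.smul_def, mul_add, mul_comm y (x / y), div_mul_cancel₀ _ hy0, mul_comm y]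
      rw [h2, map_mul, h1, mul_one, h, max_self]
  · refine ⟨∅, fun c _ => ?_⟩
    have hcy : P.1 (c • y) ≤ P.1 y := by
      rw [Algebra.smul_def, map_mul]
      exact (mul_le_mul' (P.2.1 c) le_rfl).trans_eq (one_mul _)
    rw [max_eq_left h.le]
    exact Valuation.map_add_eq_of_lt_left _ (lt_of_le_of_lt hcy h)

lemma exists_generic [IsAlgClosed k] (hK : IsFunctionField k K) (x y : K)
    (T : Finset (Place k K)) :
    ∃ c : k, ∀ P ∈ T, P.1 (x + c • y) = max (P.1 x) (P.1 y) := by
  classical
  choose B hB using fun P : Place k K => exists_bad hK x y P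
  obtain ⟨c, hc⟩ := Infinite.exists_notMem_finset (T.biUnion B)
  exact ⟨c, fun P hP => hB P c fun hcB => hc (Finset.mem_biUnion.2 ⟨P, hP, hcB⟩)⟩

lemma tri_sum (m : ℕ) : ∀ N : ℕ, N ≤ m + 1 →
    2 * (∑ b ∈ Finset.range N, (m + 1 - b)) + N * N = N * (2 * m + 3) := by
  intro N
  induction N with
  | zero => intro _; simp
  | succ N ih =>
    intro h
    have ih' := ih (by omega)
    obtain ⟨t, rfl⟩ := Nat.exists_eq_add_of_le (show N ≤ m by omega)
    rw [Finset.sum_range_succ]
    have hs : N + t + 1 - N = t + 1 := by omega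
    rw [hs]
    nlinarith [ih']

lemma not_both_const (hK : IsFunctionField k K) (x y : K)
    (hxy : IntermediateField.adjoin k ({x, y} : Set K) = ⊤)
    (hx : x ∈ (1 : Submodule k K)) (hy : y ∈ (1 : Submodule k K)) : False := by
  obtain ⟨a, ha⟩ := Submodule.mem_one.1 hx
  obtain ⟨b, hb⟩ := Submodule.mem_one.1 hy
  obtain ⟨⟨t, ht, -⟩, -⟩ := hK
  have htmem : t ∈ IntermediateField.adjoin k ({x, y} : Set K) := by
    rw [hxy]
    exact IntermediateField.mem_top
  have hle : IntermediateField.adjoin k ({x, y} : Set K) ≤ ⊥ := by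
    rw [IntermediateField.adjoin_le_iff]
    intro w hw
    rw [Set.mem_insert_iff, Set.mem_singleton_iff] at hw
    rw [SetLike.mem_coe, IntermediateField.mem_bot]
    rcases hw with hw | hw
    · exact ⟨a, by rw [hw, ha]⟩
    · exact ⟨b, by rw [hw, hb]⟩
  obtain ⟨e, he⟩ := IntermediateField.mem_bot.1 (hle htmem)
  apply ht
  rw [← he]
  exact isAlgebraic_algebraMap e

end aux


/-- Over an algebraically closed constant field, a function field `K = k(x, y)` of genus `g` with plane
model `(1 : x : y)` of degree `d` has `g ≤ (d - 1)(d - 2)/2`. -/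
theorem result
    (k K : Type*) [Field k] [IsAlgClosed k] [Field K] [Algebra k K]
    (hK : FunFld.IsFunctionField k K) (x y : K)
    (hxy : IntermediateField.adjoin k ({x, y} : Set K) = ⊤) :
    2 * (FunFld.genus k K : ℤ) ≤
      ((FunFld.mapDiv k ![(1 : K), x, y]).deg - 1) *
        ((FunFld.mapDiv k ![(1 : K), x, y]).deg - 2) := by
  classical
  obtain ⟨φ, hφdef⟩ : ∃ φ, φ = ![(1 : K), x, y] := ⟨_, rfl⟩
  rw [← hφdef]
  obtain ⟨E, hE⟩ : ∃ E : Divisor k K, E = mapDiv k φ := ⟨_, rfl⟩
  rw [← hE]
  have hφ0 : φ 0 = 1 := by rw [hφdef]; rfl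
  have hφ1 : φ 1 = x := by rw [hφdef]; rfl
  have hφ2 : φ 2 = y := by rw [hφdef]; rfl
  have hcases : ∀ i, φ i = 1 ∨ φ i = x ∨ φ i = y := by
    intro i
    rw [hφdef]
    fin_cases i
    · exact Or.inl rfl
    · exact Or.inr (Or.inl rfl)
    · exact Or.inr (Or.inr rfl)
  have hEapp : ∀ R : Place k K,
      E R = -Finset.univ.inf' Finset.univ_nonempty (fun i => R.ord (φ i)) := fun R => by
    rw [hE]
    exact mapDiv_apply hK φ R
  have hE0 : ∀ R : Place k K, 0 ≤ E R := by
    intro R
    rw [hEapp R, neg_nonneg]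
    have h1 : Finset.univ.inf' Finset.univ_nonempty (fun i => R.ord (φ i)) ≤ R.ord (φ 0) :=
      Finset.inf'_le _ (Finset.mem_univ _)
    rwa [hφ0, ord_one] at h1
  have hmemL : ∀ i, φ i ∈ L E := by
    intro i
    by_cases hi : φ i = 0
    · rw [hi]
      exact Submodule.zero_mem _
    · refine (mem_L_iff _ _).2 fun R => ?_
      rw [val_le_exp_iff R hi, hEapp R, neg_neg]
      exact Finset.inf'_le _ (Finset.mem_univ i)
  have hxL : x ∈ L E := by
    have := hmemL 1
    rwa [hφ1] at this
  have hyL : y ∈ L E := by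
    have := hmemL 2
    rwa [hφ2] at this
  have hmax : ∀ R : Place k K, 0 < E R → WithZero.exp (E R) = max (R.1 x) (R.1 y) := by
    intro R hR
    apply le_antisymm _ (max_le ((mem_L_iff _ _).1 hxL R) ((mem_L_iff _ _).1 hyL R))
    obtain ⟨i, -, hi⟩ := Finset.exists_mem_eq_inf' Finset.univ_nonempty (fun i => R.ord (φ i))
    have hEi : E R = -R.ord (φ i) := by rw [hEapp R, hi]
    have hi0 : φ i ≠ 0 := by
      intro h0
      rw [h0, ord_zero, neg_zero] at hEi
      omega
    have hv : R.1 (φ i) = WithZero.exp (E R) := by rw [val_eq_exp R hi0, hEi]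
    rw [← hv]
    rcases hcases i with h | h | h
    · exfalso
      rw [h, ord_one, neg_zero] at hEi
      omega
    · rw [h]
      exact le_max_left _ _
    · rw [h]
      exact le_max_right _ _
  obtain ⟨c, hc⟩ := exists_generic hK x y E.support
  obtain ⟨z, hzdef⟩ : ∃ z : K, z = x + c • y := ⟨_, rfl⟩
  rw [← hzdef] at hc
  have hzL : z ∈ L E := by
    rw [hzdef]
    exact Submodule.add_mem _ hxL (Submodule.smul_mem _ c hyL)
  have hEpos : ∀ P ∈ E.support, 0 < E P := fun P hP =>
    lt_of_le_of_ne (hE0 P) (Ne.symm (Finsupp.mem_support_iff.1 hP))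
  have hzS : ∀ P ∈ E.support, P.1 z = WithZero.exp (E P) := by
    intro P hP
    rw [hc P hP, hmax P (hEpos P hP)]
  have hzS1 : ∀ P ∈ E.support, 1 < P.1 z := by
    intro P hP
    rw [hzS P hP, ← WithZero.exp_zero, WithZero.exp_lt_exp]
    exact hEpos P hP
  have hSne : E.support.Nonempty := by
    rw [Finset.nonempty_iff_ne_empty]
    intro hemp
    have hE0' : E = 0 := Finsupp.support_eq_empty.1 hemp
    rw [hE0', L_zero hK] at hxL hyL
    exact not_both_const hK x y hxy hxL hyL
  obtain ⟨P₀, hP₀⟩ := hSne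
  have hzc : z ∉ Set.range (algebraMap k K) := by
    rintro ⟨e, he⟩
    have h1 := hzS1 P₀ hP₀
    rw [← he] at h1
    exact absurd (P₀.2.1 e) (not_le.2 h1)
  have hzt : Transcendental k z := transc hK hzc
  have hz0 : z ≠ 0 := ne_zero_of_transcendental hzt
  have hS : ∀ P, P ∈ E.support ↔ P.1 z⁻¹ < 1 := by
    intro P
    rw [map_inv₀, inv_lt_one₀ (zero_lt_iff.2 (val_ne_zero P hz0))]
    constructor
    · exact hzS1 P
    · intro h1
      by_contra hP
      have hEP : E P = 0 := by
        by_contra h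
        exact hP (Finsupp.mem_support_iff.2 h)
      have := (mem_L_iff _ _).1 hzL P
      rw [hEP, WithZero.exp_zero] at this
      exact absurd this (not_le.2 h1)
  have hN := sum_zeros_eq hK (transcendental_inv hzt) E.support hS
  rw [adjoin_inv] at hN
  have hdN : E.deg = (Module.finrank (IntermediateField.adjoin k ({z} : Set K)) K : ℤ) := by
    rw [← hN]
    show ∑ P ∈ E.support, E P * (P.deg : ℤ) = _
    refine Finset.sum_congr rfl fun P hP => ?_
    congr 1
    rw [ord_inv]
    have h1 := hzS P hP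
    rw [val_eq_exp P hz0, WithZero.exp_inj] at h1
    omega
  haveI hfd := finite_of_transcendental hK hzt
  -- K = k(z)(y)
  have htop : IntermediateField.adjoin (IntermediateField.adjoin k ({z} : Set K)) ({y} : Set K) = ⊤ := by
    rw [eq_top_iff]
    intro w _
    have hle : IntermediateField.adjoin k ({x, y} : Set K) ≤
        (IntermediateField.adjoin (IntermediateField.adjoin k ({z} : Set K))
          ({y} : Set K)).restrictScalars k := by
      rw [IntermediateField.adjoin_le_iff]
      have hyM : y ∈ (IntermediateField.adjoin (IntermediateField.adjoin k ({z} : Set K))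
          ({y} : Set K)).restrictScalars k :=
        IntermediateField.mem_adjoin_simple_self _ y
      have hzM : z ∈ (IntermediateField.adjoin (IntermediateField.adjoin k ({z} : Set K))
          ({y} : Set K)).restrictScalars k :=
        (IntermediateField.adjoin (IntermediateField.adjoin k ({z} : Set K))
          ({y} : Set K)).algebraMap_mem ⟨z, IntermediateField.mem_adjoin_simple_self k z⟩
      intro w hw
      rw [Set.mem_insert_iff, Set.mem_singleton_iff] at hw
      rcases hw with hw | hw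
      · have hxe : x = z - c • y := by
          rw [hzdef]
          ring
        rw [hw, hxe]
        exact IntermediateField.sub_mem _ hzM (IntermediateField.smul_mem _ hyM)
      · rw [hw]
        exact hyM
    have hw : w ∈ IntermediateField.adjoin k ({x, y} : Set K) := by
      rw [hxy]
      exact IntermediateField.mem_top
    exact hle hw
  have hyint : IsIntegral (IntermediateField.adjoin k ({z} : Set K)) y :=
    Algebra.IsIntegral.isIntegral y
  have hfr : Module.finrank (IntermediateField.adjoin k ({z} : Set K)) K =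
      (minpoly (IntermediateField.adjoin k ({z} : Set K)) y).natDegree := by
    rw [← IntermediateField.adjoin.finrank hyint, htop, IntermediateField.finrank_top']
  obtain ⟨N, hNdef⟩ : ∃ N : ℕ, N = (minpoly (IntermediateField.adjoin k ({z} : Set K)) y).natDegree :=
    ⟨_, rfl⟩
  have hcN : LinearIndependent (IntermediateField.adjoin k ({z} : Set K))
      (fun i : Fin N => y ^ (i : ℕ)) := by
    rw [hNdef]
    exact linearIndependent_pow y
  rw [hfr, ← hNdef] at hdN
  have hNpos : 0 < N := by
    rw [hNdef, ← hfr]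
    exact Module.finrank_pos
  have hb : LinearIndependent k (fun a : ℕ => (IntermediateField.AdjoinSimple.gen k z) ^ a) :=
    linearIndependent_gen_pow hzt
  have hli := linearIndependent_smul hb hcN
  obtain ⟨m, hm⟩ : ∃ m : ℕ, m = 2 * genus k K + N := ⟨_, rfl⟩
  have hmem : ∀ a b : ℕ, a + b ≤ m → z ^ a * y ^ b ∈ L (m • E) := by
    intro a b hab
    refine (mem_L_iff _ _).2 fun P => ?_
    have hEP : (1 : WithZero (Multiplicative ℤ)) ≤ WithZero.exp (E P) := by
      rw [← WithZero.exp_zero]
      exact WithZero.exp_le_exp.2 (hE0 P)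
    rw [nsmul_apply', ← nsmul_eq_mul, WithZero.exp_nsmul, map_mul, map_pow, map_pow]
    refine (mul_le_mul' (pow_le_pow_left' ((mem_L_iff _ _).1 hzL P) a)
      (pow_le_pow_left' ((mem_L_iff _ _).1 hyL P) b)).trans ?_
    rw [← pow_add]
    exact pow_le_pow_right' hEP hab
  have hinj : Function.Injective
      (fun s : (Σ b : Fin N, Fin (m + 1 - (b : ℕ))) => (((s.2 : ℕ), s.1) : ℕ × Fin N)) := by
    rintro ⟨b, a⟩ ⟨b', a'⟩ h
    simp only [Prod.mk.injEq] at h
    obtain ⟨h1, h2⟩ := h
    subst h2
    have : a = a' := Fin.ext h1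
    rw [this]
  have hmem' : ∀ s : (Σ b : Fin N, Fin (m + 1 - (b : ℕ))),
      z ^ (s.2 : ℕ) * y ^ (s.1 : ℕ) ∈ L (m • E) := by
    intro s
    apply hmem
    have h1 := s.2.2
    have h2 := s.1.2
    omega
  let v : (Σ b : Fin N, Fin (m + 1 - (b : ℕ))) → ↥(L (m • E)) :=
    fun s => ⟨z ^ (s.2 : ℕ) * y ^ (s.1 : ℕ), hmem' s⟩
  have hv : LinearIndependent k v := by
    apply LinearIndependent.of_comp (L (m • E)).subtype
    exact hli.comp _ hinj
  haveI := L_finite hK (m • E)
  have h1 := hv.fintype_card_le_finrank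
  rw [Fintype.card_sigma] at h1
  simp only [Fintype.card_fin] at h1
  rw [Fin.sum_univ_eq_sum_range (fun b => m + 1 - b) N] at h1
  have hNm : N ≤ m + 1 := by omega
  have h2 := tri_sum m N hNm
  obtain ⟨Sg, hSg⟩ : ∃ Sg : ℕ, Sg = ∑ b ∈ Finset.range N, (m + 1 - b) := ⟨_, rfl⟩
  rw [← hSg] at h1 h2
  have hN1 : (1 : ℤ) ≤ N := by exact_mod_cast hNpos
  have hdeg : (m • E).deg = (m : ℤ) * N := by
    rw [Groth.Agent.Lib.lead.FF8.deg_nsmul, hdN]
  have hmN : (m : ℤ) * 1 ≤ m * N := mul_le_mul_of_nonneg_left hN1 (Nat.cast_nonneg m)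
  have hmz : (m : ℤ) = 2 * genus k K + N := by exact_mod_cast hm
  have hR := ell_eq_of_deg_ge hK (m • E) (by rw [hdeg]; linarith)
  rw [hdeg] at hR
  have h1z : (Sg : ℤ) ≤ (ell (m • E) : ℤ) := by exact_mod_cast h1
  have h2z : 2 * (Sg : ℤ) + N * N = N * (2 * m + 3) := by exact_mod_cast h2
  rw [hdN]
  nlinarith [h1z, h2z, hR]

end Groth.Agent.S11054
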