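import Groth.Statements.S0063
import Mathlib

set_option autoImplicit false
open CategoryTheory CategoryTheory.Limits AlgebraicGeometry Opposite
universe u
open EtBase

namespace Groth.Agent.S0063

lemma eq_locus {X Y S : Scheme.{u}} (p : Y ⟶ S) (f g : X ⟶ Y) (hfg : f ≫ p = g ≫ p) :
    ∃ (E : Scheme.{u}) (ι : E ⟶ X), ι ≫ f = ι ≫ g ∧
      (∀ {T : Scheme.{u}} (k : T ⟶ X), k ≫ f = k ≫ g → ∃ l : T ⟶ E, l ≫ ι = k) ∧
      (IsOpenImmersion (pullback.diagonal p) → IsOpenImmersion ι) ∧
      (IsClosedImmersion (pullback.diagonal p) → IsClosedImmersion ι) := by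
  refine ⟨pullback (pullback.lift f g hfg) (pullback.diagonal p), pullback.fst _ _, ?_, ?_, ?_, ?_⟩
  · have h := pullback.condition (f := pullback.lift f g hfg) (g := pullback.diagonal p)
    have h1 := congrArg (fun k => k ≫ pullback.fst p p) h
    have h2 := congrArg (fun k => k ≫ pullback.snd p p) h
    simp only [Category.assoc, pullback.lift_fst, pullback.lift_snd, pullback.diagonal_fst,
      pullback.diagonal_snd, Category.comp_id] at h1 h2
    rw [h1, h2]
  · intro T k hk
    have hc : k ≫ pullback.lift f g hfg = (k ≫ f) ≫ pullback.diagonal p := by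
      apply pullback.hom_ext
      · rw [Category.assoc, pullback.lift_fst, Category.assoc, pullback.diagonal_fst,
          Category.comp_id]
      · rw [Category.assoc, pullback.lift_snd, Category.assoc, pullback.diagonal_snd,
          Category.comp_id, hk]
    exact ⟨pullback.lift k (k ≫ f) hc, pullback.lift_fst _ _ _⟩
  · intro h
    infer_instance
  · intro h
    exact MorphismProperty.pullback_fst (P := @IsClosedImmersion) _ _ h

/-- Rigidity of maps into an unramified separated scheme — two maps from a connected scheme over the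
base that agree at one point, including on residue fields, coincide. -/
theorem result {X S Y : Scheme.{u}} (π : X ⟶ S)
    [FormallyUnramified π] [LocallyOfFiniteType π] [IsSeparated π]
    (h : Y ⟶ S) [ConnectedSpace Y] (f g : Y ⟶ X) (hf : f ≫ π = h) (hg : g ≫ π = h)
    (y : Y) (hy : Y.fromSpecResidueField y ≫ f = Y.fromSpecResidueField y ≫ g) : f = g := by
  obtain ⟨E, ι, hι, hlift, hopen, hclosed⟩ := eq_locus π f g (hf.trans hg.symm)
  haveI : IsOpenImmersion ι := hopen inferInstance
  haveI : IsClosedImmersion ι := hclosed IsSeparated.isClosedImmersion_diagonal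
  have hyr : y ∈ Set.range ι := by
    obtain ⟨l, hl⟩ := hlift (Y.fromSpecResidueField y) hy
    have hx : y ∈ Set.range (Y.fromSpecResidueField y) := by
      rw [Scheme.range_fromSpecResidueField]
      exact Set.mem_singleton y
    obtain ⟨t, ht⟩ := hx
    refine ⟨l t, ?_⟩
    have h3 := congrArg (fun k : Spec (Y.residueField y) ⟶ Y => k t) hl
    exact h3.trans ht
  have hclopen : IsClopen (Set.range ι) :=
    ⟨ι.isClosedEmbedding.isClosed_range, ι.isOpenEmbedding.isOpen_range⟩
  have huniv : Set.range ι = Set.univ := by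
    rcases isClopen_iff.mp hclopen with h0 | h0
    · rw [h0] at hyr
      exact absurd hyr (Set.notMem_empty y)
    · exact h0
  have hr : Set.range (𝟙 Y : Y ⟶ Y) ⊆ Set.range ι := by
    rw [huniv]
    exact Set.subset_univ _
  have hs := IsOpenImmersion.lift_fac ι (𝟙 Y) hr
  calc f = (IsOpenImmersion.lift ι (𝟙 Y) hr ≫ ι) ≫ f := by rw [hs, Category.id_comp]
    _ = (IsOpenImmersion.lift ι (𝟙 Y) hr ≫ ι) ≫ g := by rw [Category.assoc, hι, Category.assoc]
    _ = g := by rw [hs, Category.id_comp]

end Groth.Agent.S0063
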