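import Groth.Statements.S0085
import Groth.Agent.Lib.helper1.AffineDescent2

set_option autoImplicit false
open CategoryTheory CategoryTheory.Limits AlgebraicGeometry Opposite
universe u
open EtBase

namespace Groth.Agent.S0085

/-- Integrality of a morphism descends along a quasi-compact flat surjective base change: if the base
change of a morphism along a quasi-compact, flat, surjective morphism is integral, then so is the
morphism. (Stated for a single quasi-compact faithfully flat cover; combined with Zariski-locality
on the target this gives the fpqc-local statement.) -/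
theorem result :
    MorphismProperty.DescendsAlong @IsIntegralHom (@Surjective ⊓ @Flat ⊓ @QuasiCompact : MorphismProperty Scheme.{u}) := by
  have hcod : RingHom.CodescendsAlong (fun f => f.IsIntegral) RingHom.FaithfullyFlat := by
    refine .mk _ RingHom.isIntegral_respectsIso fun R S T _ _ _ _ _ h h' ↦ ?_
    rw [RingHom.faithfullyFlat_algebraMap_iff] at h
    intro t
    let T' := Algebra.adjoin R {t}
    let t' : T' := ⟨t, Algebra.subset_adjoin rfl⟩
    have htop : Algebra.adjoin R {t'} = ⊤ := by
      have := Algebra.adjoin_adjoin_coe_preimage (R := R) (s := ({t} : Set T))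
      convert this using 2
      ext x
      simp [t', Subtype.ext_iff]
    have h1 : Algebra.adjoin S {(1 : S) ⊗ₜ[R] t'} = ⊤ := by
      have := Algebra.TensorProduct.adjoin_one_tmul_image_eq_top (A := S) {t'} htop
      simpa using this
    let φ : TensorProduct R S T' →ₐ[S] TensorProduct R S T :=
      Algebra.TensorProduct.map (AlgHom.id S S) T'.val
    have hφ : Function.Injective φ :=
      Module.Flat.lTensor_preserves_injective_linearMap (M := S) T'.val.toLinearMap
        Subtype.val_injective
    have h2 : IsIntegral S ((1 : S) ⊗ₜ[R] t') := by
      rw [← isIntegral_algHom_iff φ hφ]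
      have hφt : φ ((1 : S) ⊗ₜ[R] t') = (1 : S) ⊗ₜ[R] t := by simp [φ, t']
      rw [hφt]
      exact h' ((1 : S) ⊗ₜ[R] t)
    have h3 : Module.Finite S (TensorProduct R S T') := by
      have := h2.fg_adjoin_singleton
      rw [h1] at this
      exact ⟨by simpa using this⟩
    have h4 : Module.Finite R T' := Module.Finite.of_finite_tensorProduct_of_faithfullyFlat S
    have h5 : IsIntegral R t' := IsIntegral.of_finite R t'
    exact h5.map T'.val
  exact Helper1.descendsAlong_fpqc_of_affineAnd @IsIntegralHom RingHom.IsIntegral
    IsIntegralHom.hasAffineProperty RingHom.isIntegral_respectsIso hcod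

end Groth.Agent.S0085
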