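import Groth.Statements.S0116
import Mathlib

set_option autoImplicit false
open CategoryTheory CategoryTheory.Limits AlgebraicGeometry Opposite
universe u
open EtBase

namespace Groth.Agent.S0116

theorem noeth_of_ff {A B : Type*} [CommRing A] [CommRing B] [Algebra A B]
    [Module.FaithfullyFlat A B] [IsNoetherianRing B] : IsNoetherianRing A := by
  have hmono : StrictMono (Ideal.map (algebraMap A B)) :=
    Monotone.strictMono_of_injective (fun _ _ h => Ideal.map_mono h)
      Ideal.map_injective_of_faithfullyFlat
  haveI : WellFoundedGT (Ideal B) := (isNoetherian_iff' (R := B) (M := B)).mp inferInstance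
  rw [isNoetherianRing_iff, isNoetherian_iff']
  exact hmono.wellFoundedGT

theorem noeth_affine_target {X Y : Scheme.{u}} (f : X ⟶ Y) [Flat f] [Surjective f]
    [QuasiCompact f] [IsLocallyNoetherian X] [IsAffine Y] : IsNoetherianRing Γ(Y, ⊤) := by
  haveI : CompactSpace X := (quasiCompact_iff_compactSpace f).mp inferInstance
  obtain ⟨T, p, hsurj, hP, hT⟩ := X.exists_hom_isAffine_of_isZariskiLocalAtSource @IsLocalIso
  haveI := hsurj
  haveI := hT
  haveI : Flat p := IsLocalIso.le_of_isZariskiLocalAtSource @Flat _ _ _ hP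
  haveI : LocallyOfFiniteType p := IsLocalIso.le_of_isZariskiLocalAtSource @LocallyOfFiniteType _ _ _ hP
  haveI : IsLocallyNoetherian T := LocallyOfFiniteType.isLocallyNoetherian p
  have hff : (p ≫ f).appTop.hom.FaithfullyFlat :=
    (Flat.flat_and_surjective_iff_faithfullyFlat_of_isAffine (p ≫ f)).mp
      ⟨inferInstance, inferInstance⟩
  haveI : IsNoetherianRing Γ(T, ⊤) :=
    IsLocallyNoetherian.component_noetherian ⟨⊤, isAffineOpen_top T⟩
  letI := (p ≫ f).appTop.hom.toAlgebra
  haveI : Module.FaithfullyFlat Γ(Y, ⊤) Γ(T, ⊤) := hff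
  exact noeth_of_ff (A := Γ(Y, ⊤)) (B := Γ(T, ⊤))

/-- If f : X → Y is surjective, flat and locally of finite presentation and X is locally Noetherian,
then Y is locally Noetherian. (This is the descent half of the statement that, for such f, X is
locally Noetherian if and only if Y is; the ascent half is the fact that a scheme locally of finite
type over a locally Noetherian scheme is locally Noetherian, and is not stated here.) -/
theorem result {X Y : Scheme.{u}} (f : X ⟶ Y) [Surjective f] [Flat f] [LocallyOfFinitePresentation f]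
    [IsLocallyNoetherian X] : IsLocallyNoetherian Y := by
  constructor
  intro V
  haveI : IsAffine (V.1 : Scheme.{u}) := V.2
  haveI : Flat (f ∣_ V.1) := IsZariskiLocalAtTarget.restrict (P := @Flat) (inferInstance : Flat f) V.1
  haveI : Surjective (f ∣_ V.1) :=
    IsZariskiLocalAtTarget.restrict (P := @Surjective) (inferInstance : Surjective f) V.1
  haveI : LocallyOfFinitePresentation (f ∣_ V.1) :=
    IsZariskiLocalAtTarget.restrict (P := @LocallyOfFinitePresentation)
      (inferInstance : LocallyOfFinitePresentation f) V.1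
  obtain ⟨W, hW, e⟩ := (f ∣_ V.1).isOpenMap.exists_opens_image_eq_of_prespectralSpace
    (f ∣_ V.1).continuous (by simp) isOpen_univ isCompact_univ
  haveI : Surjective (Scheme.Opens.ι W ≫ f ∣_ V.1) :=
    ⟨fun x ↦ have ⟨y, hyV, e⟩ := e.ge (Set.mem_univ x); ⟨⟨y, hyV⟩, e⟩⟩
  haveI : QuasiCompact (Scheme.Opens.ι W ≫ f ∣_ V.1) :=
    (quasiCompact_iff_compactSpace _).mpr (isCompact_iff_compactSpace.mp hW)
  have h := noeth_affine_target (Scheme.Opens.ι W ≫ f ∣_ V.1)
  exact isNoetherianRing_of_ringEquiv _ (Scheme.Opens.topIso V.1).commRingCatIsoToRingEquiv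

end Groth.Agent.S0116
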