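import Groth.Statements.S0191
import Mathlib

set_option autoImplicit false
universe u v w
open scoped TensorProduct
open Curves

namespace Groth.Agent.S0191

/-- If K is a skew field with center k, every two-sided ideal of A ⊗ K is generated by the elements a ⊗
1 it contains. -/
theorem result (k : Type u) [Field k] (A : Type v) [Ring A] [Algebra k A]
    (K : Type w) [DivisionRing K] [Algebra k K] [Algebra.IsCentral k K]
    (I : TwoSidedIdeal (A ⊗[k] K)) :
    I = TwoSidedIdeal.span ((fun a : A => a ⊗ₜ[k] (1 : K)) '' {a : A | a ⊗ₜ[k] (1 : K) ∈ I}) := by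
  classical
  obtain ⟨J, hJ⟩ : ∃ J : TwoSidedIdeal (A ⊗[k] K), J = TwoSidedIdeal.span
      ((fun a : A => a ⊗ₜ[k] (1 : K)) '' {a : A | a ⊗ₜ[k] (1 : K) ∈ I}) := ⟨_, rfl⟩
  rw [← hJ]
  have hJI : J ≤ I := by
    rw [hJ, TwoSidedIdeal.span_le]
    rintro _ ⟨a, ha, rfl⟩
    exact ha
  refine le_antisymm ?_ hJI
  let I₀ : Submodule k A :=
    { carrier := {a | a ⊗ₜ[k] (1 : K) ∈ I}
      add_mem' := fun {a b} ha hb => by
        show (a + b) ⊗ₜ[k] (1 : K) ∈ I
        rw [TensorProduct.add_tmul]; exact I.add_mem ha hb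
      zero_mem' := by
        show (0 : A) ⊗ₜ[k] (1 : K) ∈ I
        rw [TensorProduct.zero_tmul]; exact I.zero_mem
      smul_mem' := fun c a ha => by
        show (c • a) ⊗ₜ[k] (1 : K) ∈ I
        have h1 : (c • a) ⊗ₜ[k] (1 : K) =
            (algebraMap k (A ⊗[k] K) c) * (a ⊗ₜ[k] (1 : K)) := by
          rw [← Algebra.smul_def, TensorProduct.smul_tmul']
        rw [h1]; exact I.mul_mem_left _ _ ha }
  have hI₀ : ∀ a : A, a ∈ I₀ ↔ a ⊗ₜ[k] (1 : K) ∈ I := fun a => Iff.rfl
  obtain ⟨C, hC⟩ := Submodule.exists_isCompl I₀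
  obtain ⟨bC, -⟩ : ∃ bC : Module.Basis (Module.Basis.ofVectorSpaceIndex k C) k C, bC = bC :=
    ⟨Module.Basis.ofVectorSpace k C, rfl⟩
  obtain ⟨Ψ, hΨ_single⟩ : ∃ Ψ : (Module.Basis.ofVectorSpaceIndex k C →₀ K) →ₗ[k] A ⊗[k] K,
      ∀ j c, Ψ (Finsupp.single j c) = ((bC j : C) : A) ⊗ₜ[k] c :=
    ⟨Finsupp.lsum k (fun j => TensorProduct.mk k A K ((bC j : C) : A)), fun j c => by simp⟩
  have L1 : ∀ (c : K) (v : Module.Basis.ofVectorSpaceIndex k C →₀ k),
      Ψ (Finsupp.mapRange.linearMap (LinearMap.toSpanSingleton k K c) v) =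
        (Finsupp.linearCombination k (fun j => ((bC j : C) : A)) v) ⊗ₜ[k] c := by
    intro c v
    induction v using Finsupp.induction_linear with
    | zero => simp
    | add f g hf hg => rw [map_add, map_add, map_add, TensorProduct.add_tmul, hf, hg]
    | single j r =>
      rw [Finsupp.mapRange.linearMap_apply, Finsupp.mapRange_single, hΨ_single,
        Finsupp.linearCombination_single, LinearMap.toSpanSingleton_apply,
        TensorProduct.smul_tmul]
  have L2 : ∀ (T : K →ₗ[k] K) (f : Module.Basis.ofVectorSpaceIndex k C →₀ K),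
      Ψ (Finsupp.mapRange.linearMap T f) = (LinearMap.lTensor A T) (Ψ f) := by
    intro T f
    induction f using Finsupp.induction_linear with
    | zero => simp
    | add f g hf hg => rw [map_add, map_add, map_add, map_add, hf, hg]
    | single j c =>
      rw [Finsupp.mapRange.linearMap_apply, Finsupp.mapRange_single, hΨ_single, hΨ_single,
        LinearMap.lTensor_tmul]
  have L3r : ∀ (e : K) (y : A ⊗[k] K),
      y * ((1 : A) ⊗ₜ[k] e) = (LinearMap.lTensor A (LinearMap.mulRight k e)) y := by
    intro e y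
    induction y using TensorProduct.induction_on with
    | zero => simp
    | tmul a c =>
      rw [Algebra.TensorProduct.tmul_mul_tmul, mul_one, LinearMap.lTensor_tmul,
        LinearMap.mulRight_apply]
    | add x y hx hy => rw [add_mul, map_add, hx, hy]
  have L3l : ∀ (d : K) (y : A ⊗[k] K),
      ((1 : A) ⊗ₜ[k] d) * y = (LinearMap.lTensor A (LinearMap.mulLeft k d)) y := by
    intro d y
    induction y using TensorProduct.induction_on with
    | zero => simp
    | tmul a c =>
      rw [Algebra.TensorProduct.tmul_mul_tmul, one_mul, LinearMap.lTensor_tmul,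
        LinearMap.mulLeft_apply]
    | add x y hx hy => rw [mul_add, map_add, hx, hy]
  obtain ⟨ρ, hρ⟩ := LinearMap.exists_leftInverse_of_injective (Algebra.linearMap k K)
    (LinearMap.ker_eq_bot.mpr (algebraMap k K).injective)
  have step2 : ∀ n : ℕ, ∀ f : Module.Basis.ofVectorSpaceIndex k C →₀ K,
      f.support.card = n → Ψ f ∈ I → f = 0 := by
    intro n
    induction n using Nat.strong_induction_on with
    | _ n ih =>
      intro f hcard hfI
      by_contra hf0
      obtain ⟨j₀, hj₀⟩ : ∃ j₀, j₀ ∈ f.support := Finsupp.support_nonempty_iff.mpr hf0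
      have hc₀ : f j₀ ≠ 0 := Finsupp.mem_support_iff.mp hj₀
      obtain ⟨f', hf'⟩ : ∃ f', f' = Finsupp.mapRange.linearMap
          (LinearMap.mulRight k (f j₀)⁻¹) f := ⟨_, rfl⟩
      have hf'I : Ψ f' ∈ I := by
        rw [hf', L2, ← L3r]; exact I.mul_mem_right _ _ hfI
      have hf'j₀ : f' j₀ = 1 := by
        rw [hf', Finsupp.mapRange.linearMap_apply, Finsupp.mapRange_apply,
          LinearMap.mulRight_apply, mul_inv_cancel₀ hc₀]
      have hsupp' : f'.support ⊆ f.support := by
        rw [hf', Finsupp.mapRange.linearMap_apply]; exact Finsupp.support_mapRange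
      have hcomm : ∀ d : K, ∀ j, d * f' j = f' j * d := by
        intro d
        obtain ⟨g, hg⟩ : ∃ g, g = Finsupp.mapRange.linearMap
            (LinearMap.mulLeft k d - LinearMap.mulRight k d) f' := ⟨_, rfl⟩
        have hgj : ∀ j, g j = d * f' j - f' j * d := by
          intro j
          rw [hg, Finsupp.mapRange.linearMap_apply, Finsupp.mapRange_apply, LinearMap.sub_apply,
            LinearMap.mulLeft_apply, LinearMap.mulRight_apply]
        have hgI : Ψ g ∈ I := by
          rw [hg, L2, LinearMap.lTensor_sub, LinearMap.sub_apply, ← L3l, ← L3r]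
          exact I.sub_mem (I.mul_mem_left _ _ hf'I) (I.mul_mem_right _ _ hf'I)
        have hgsupp : g.support ⊆ f.support.erase j₀ := by
          intro j hj
          rw [Finset.mem_erase]
          have hj' := Finsupp.mem_support_iff.mp hj
          refine ⟨?_, hsupp' ?_⟩
          · rintro rfl
            apply hj'
            rw [hgj, hf'j₀, mul_one, one_mul, sub_self]
          · rw [Finsupp.mem_support_iff]
            intro h0
            apply hj'
            rw [hgj, h0, mul_zero, zero_mul, sub_self]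
        have hlt : g.support.card < n := by
          rw [← hcard]
          exact lt_of_le_of_lt (Finset.card_le_card hgsupp) (Finset.card_erase_lt_of_mem hj₀)
        have hg0 := ih _ hlt g rfl hgI
        intro j
        have h1 := DFunLike.congr_fun hg0 j
        rw [hgj, Finsupp.zero_apply, sub_eq_zero] at h1
        exact h1
      have hcen : ∀ j, ∃ c : k, algebraMap k K c = f' j := by
        intro j
        have h1 : f' j ∈ Subalgebra.center k K := by
          rw [Subalgebra.mem_center_iff]
          intro d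
          exact hcomm d j
        have h2 := Algebra.IsCentral.out h1
        exact Algebra.mem_bot.mp h2
      obtain ⟨lam, hlam⟩ : ∃ lam, lam = Finsupp.mapRange.linearMap ρ f' := ⟨_, rfl⟩
      have hf'lam : f' = Finsupp.mapRange.linearMap (LinearMap.toSpanSingleton k K 1) lam := by
        ext j
        obtain ⟨c, hc⟩ := hcen j
        rw [hlam, Finsupp.mapRange.linearMap_apply, Finsupp.mapRange_apply,
          Finsupp.mapRange.linearMap_apply, Finsupp.mapRange_apply,
          LinearMap.toSpanSingleton_apply, ← hc]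
        have h3 : ρ (algebraMap k K c) = c := LinearMap.congr_fun hρ c
        rw [h3, Algebra.smul_def, mul_one]
      have hmem : (Finsupp.linearCombination k (fun j => ((bC j : C) : A)) lam) ∈ I₀ := by
        rw [hI₀, ← L1, ← hf'lam]; exact hf'I
      have hsub : Finsupp.linearCombination k (fun j => ((bC j : C) : A)) lam =
          C.subtype (Finsupp.linearCombination k bC lam) := by
        rw [Finsupp.apply_linearCombination]; rfl
      have hmemC : (Finsupp.linearCombination k (fun j => ((bC j : C) : A)) lam) ∈ C := by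
        rw [hsub]; exact (Finsupp.linearCombination k bC lam).2
      have hzero := Submodule.disjoint_def.mp hC.disjoint _ hmem hmemC
      rw [hsub] at hzero
      have hzero' : Finsupp.linearCombination k bC lam = 0 := Subtype.ext hzero
      have hlam0 : lam = 0 := linearIndependent_iff.mp bC.linearIndependent lam hzero'
      have hf'0 : f' j₀ = 0 := by rw [hf'lam, hlam0, map_zero, Finsupp.zero_apply]
      rw [hf'j₀] at hf'0
      exact one_ne_zero hf'0
  have step1 : ∀ x : A ⊗[k] K, ∃ x₁ ∈ J, ∃ f, x = x₁ + Ψ f := by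
    intro x
    induction x using TensorProduct.induction_on with
    | zero => exact ⟨0, J.zero_mem, 0, by simp⟩
    | tmul a c =>
      have hatop : a ∈ I₀ ⊔ C := by rw [hC.sup_eq_top]; trivial
      obtain ⟨a₀, ha₀, aC, haC, rfl⟩ := Submodule.mem_sup.mp hatop
      refine ⟨a₀ ⊗ₜ[k] c, ?_, Finsupp.mapRange.linearMap (LinearMap.toSpanSingleton k K c)
        (bC.repr ⟨aC, haC⟩), ?_⟩
      · have h1 : a₀ ⊗ₜ[k] c = (a₀ ⊗ₜ[k] (1 : K)) * ((1 : A) ⊗ₜ[k] c) := by
          rw [Algebra.TensorProduct.tmul_mul_tmul, mul_one, one_mul]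
        rw [h1]
        apply J.mul_mem_right
        rw [hJ]
        exact TwoSidedIdeal.subset_span ⟨a₀, ha₀, rfl⟩
      · rw [L1, TensorProduct.add_tmul]
        congr 2
        have hsub : Finsupp.linearCombination k (fun j => ((bC j : C) : A)) (bC.repr ⟨aC, haC⟩) =
            C.subtype (Finsupp.linearCombination k bC (bC.repr ⟨aC, haC⟩)) := by
          rw [Finsupp.apply_linearCombination]; rfl
        rw [hsub, bC.linearCombination_repr]
        rfl
    | add x y hx hy =>
      obtain ⟨x₁, hx₁, f, rfl⟩ := hx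
      obtain ⟨y₁, hy₁, g, rfl⟩ := hy
      exact ⟨x₁ + y₁, J.add_mem hx₁ hy₁, f + g, by rw [map_add]; abel⟩
  intro x hx
  obtain ⟨x₁, hx₁, f, rfl⟩ := step1 x
  have hΨf : Ψ f ∈ I := by
    have h1 : Ψ f = (x₁ + Ψ f) - x₁ := by abel
    rw [h1]; exact I.sub_mem hx (hJI hx₁)
  have hf0 := step2 _ f rfl hΨf
  rw [hf0, map_zero, add_zero]
  exact hx₁

end Groth.Agent.S0191
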