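import Groth.Statements.S0192
import Mathlib
import Groth.Agent.Lib.helper6.CSASplit

set_option autoImplicit false
universe u v w
open scoped TensorProduct
open Curves

namespace Groth.Agent.S0192

/-- The dimension of a finite central simple algebra over its center is a square. -/
theorem result (k : Type u) [Field k] (A : Type v) [Ring A] [Algebra k A]
    [Algebra.IsCentral k A] [IsSimpleRing A] [FiniteDimensional k A] :
    IsSquare (Module.finrank k A) := by
  haveI : IsSimpleRing (AlgebraicClosure k ⊗[k] A) := H6CSA.simple_tensor
  obtain ⟨n, hn, ⟨e⟩⟩ := IsSimpleRing.exists_algEquiv_matrix_of_isAlgClosed (AlgebraicClosure k)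
    (AlgebraicClosure k ⊗[k] A)
  refine ⟨n, ?_⟩
  have h1 : Module.finrank (AlgebraicClosure k) (AlgebraicClosure k ⊗[k] A) = Module.finrank k A :=
    Module.finrank_baseChange
  have h2 := e.toLinearEquiv.finrank_eq
  rw [h1] at h2
  rw [h2]
  simp [Module.finrank_matrix]

end Groth.Agent.S0192
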