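import Groth.Statements.S0195
import Mathlib
import Groth.Agent.Lib.helper6.BrauerBasics

set_option autoImplicit false
universe u v w
open scoped TensorProduct
open Curves

namespace Groth.Agent.S0195

/-- A finite extension k' of k splits a finite central simple algebra A exactly when some algebra
similar to A contains k' with dim equal to [k':k]^2. Uses Mathlib's bundled CSA and Brauer
equivalence. -/
theorem result (k : Type u) [Field k] (A : CSA.{u, u} k)
    (k' : Type u) [Field k'] [Algebra k k'] [FiniteDimensional k k'] :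
    Curves.Splits k A k' ↔ ∃ (B : CSA.{u, u} k) (_ : k' →ₐ[k] B), IsBrauerEquivalent A B ∧
      Module.finrank k B = Module.finrank k k' ^ 2 := by
  constructor
  · rintro ⟨n, hn, ⟨e⟩⟩
    obtain ⟨B, instR, instA, hcen, hsim, hfin, hdim, ⟨ι⟩, s, t, hs, ht, ⟨eBr⟩⟩ :=
      H6Br.exists_embedding_of_splits n hn e
    exact ⟨@CSA.mk k _ (AlgCat.of k B) hcen hsim hfin, ι, ⟨s, t, hs, ht, ⟨eBr⟩⟩, hdim⟩
  · rintro ⟨B, ι, ⟨s, t, hs, ht, ⟨f⟩⟩, hdim⟩
    have hr : Module.finrank k k' ≠ 0 := Module.finrank_pos.ne'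
    obtain ⟨eB⟩ := H6Br.maxsubfield_splits ι (Module.finrank k k') rfl hdim
    obtain ⟨c, hc, ⟨eA⟩⟩ := H6Br.splits_of_brauer s t hs ht f (Module.finrank k k') hr eB
    exact ⟨c, hc, ⟨eA⟩⟩

end Groth.Agent.S0195
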