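import Groth.Statements.S0197
import Mathlib

set_option autoImplicit false
universe u v w
open scoped TensorProduct
open Curves

namespace Groth.Agent.S0197

/-- If a finite central skew field D has dimension d^2, the degree of any finite splitting field of D is
divisible by d. -/
theorem result (k : Type u) [Field k]
    (D : Type u) [DivisionRing D] [Algebra k D] [Algebra.IsCentral k D] [FiniteDimensional k D]
    (d : ℕ) (hd : Module.finrank k D = d ^ 2)
    (k' : Type u) [Field k'] [Algebra k k'] [FiniteDimensional k k'] (hs : Curves.Splits k D k') :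
    d ∣ Module.finrank k k' := by
  classical
  obtain ⟨n, hn, ⟨e⟩⟩ := hs
  have hd0 : 0 < d := by
    rcases Nat.eq_zero_or_pos d with h | h
    · exfalso
      rw [h] at hd
      have := Module.finrank_pos (R := k) (M := D)
      omega
    · exact h
  have hnd : n = d := by
    have h1 := e.toLinearEquiv.finrank_eq
    rw [Module.finrank_baseChange, hd, Module.finrank_matrix, Fintype.card_fin,
      Module.finrank_self, mul_one] at h1
    have h2 : d ^ 2 = n ^ 2 := by rw [h1, sq]
    exact (Nat.pow_left_injective two_ne_zero h2).symm
  subst hnd
  let φ : D →ₐ[k] Matrix (Fin n) (Fin n) k' :=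
    (e.restrictScalars k).toAlgHom.comp (Algebra.TensorProduct.includeRight)
  let F : D →+* Module.End k' (Fin n → k') :=
    (Matrix.toLinAlgEquiv' (R := k') (n := Fin n)).toRingEquiv.toRingHom.comp φ.toRingHom
  letI : Module D (Fin n → k') := Module.compHom (Fin n → k') F
  have smul_def : ∀ (x : D) (v : Fin n → k'), x • v = Matrix.mulVec (φ x) v := fun x v => rfl
  haveI : IsScalarTower k D (Fin n → k') := ⟨fun c x v => by
    rw [smul_def, smul_def, map_smul, Matrix.smul_mulVec]⟩
  have h := Module.finrank_mul_finrank k D (Fin n → k')
  have hV : Module.finrank k (Fin n → k') = n * Module.finrank k k' := by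
    rw [Module.finrank_pi_fintype]
    simp
  rw [hd, hV] at h
  refine ⟨Module.finrank D (Fin n → k'), ?_⟩
  have h3 : n * (n * Module.finrank D (Fin n → k')) = n * Module.finrank k k' := by
    rw [← h]; ring
  exact (Nat.eq_of_mul_eq_mul_left hd0 h3).symm

end Groth.Agent.S0197
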