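import Groth.Statements.S0199
import Mathlib
import Groth.Agent.Lib.helper6.SplitDescent
import Groth.Agent.S0200

set_option autoImplicit false
universe u v w
open scoped TensorProduct
open Curves

namespace Groth.Agent.S0199

/-- Every finite central simple algebra over k is split by some finite separable extension of k. -/
theorem result (k : Type u) [Field k] (A : Type v) [Ring A] [Algebra k A]
    [Algebra.IsCentral k A] [IsSimpleRing A] [FiniteDimensional k A] :
    ∃ (k' : Type u) (_ : Field k') (_ : Algebra k k'), FiniteDimensional k k' ∧
      Algebra.IsSeparable k k' ∧ Curves.Splits k A k' := by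
  classical
  obtain ⟨n, hn, ⟨e⟩⟩ := (Groth.Agent.S0200.result k A).mp ⟨inferInstance, inferInstance, inferInstance⟩
  obtain ⟨T, hT⟩ := H6CSA3.descent_split e hn
  haveI : FiniteDimensional k (IntermediateField.adjoin k (T : Set (SeparableClosure k))) :=
    IntermediateField.finiteDimensional_adjoin (fun x _ => Algebra.IsIntegral.isIntegral x)
  haveI : Algebra.IsSeparable k (IntermediateField.adjoin k (T : Set (SeparableClosure k))) :=
    Algebra.isSeparable_tower_bot_of_isSeparable k _ (SeparableClosure k)
  exact ⟨IntermediateField.adjoin k (T : Set (SeparableClosure k)), inferInstance, inferInstance,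
    inferInstance, inferInstance, n, hn,
    hT _ (fun c hc => IntermediateField.subset_adjoin k _ hc)⟩

end Groth.Agent.S0199
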