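import Groth.Statements.S0218
import Mathlib

set_option autoImplicit false
universe u
open Curves

namespace Groth.Agent.S0218

open Polynomial


/-- Over an algebraically closed field k, a commutative k-algebra with exactly two k-subalgebras is
isomorphic to k × k or to the dual numbers over k. -/
theorem result (k : Type u) [Field k] [IsAlgClosed k] (A : Type u) [CommRing A] [Algebra k A]
    (h : Nat.card (Subalgebra k A) = 2) :
    Nonempty (A ≃ₐ[k] (k × k)) ∨ Nonempty (A ≃ₐ[k] DualNumber k) := by
  classical
  obtain ⟨S₁, S₂, hne, huniv⟩ := Nat.card_eq_two_iff.mp h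
  have hbt : (⊥ : Subalgebra k A) ≠ ⊤ := by
    intro hbt
    have hall : ∀ S : Subalgebra k A, S = ⊥ := fun S =>
      le_antisymm (le_top.trans_eq hbt.symm) bot_le
    exact hne ((hall S₁).trans (hall S₂).symm)
  have key : ∀ S : Subalgebra k A, S = ⊥ ∨ S = ⊤ := by
    intro S
    have h1 : S ∈ ({S₁, S₂} : Set (Subalgebra k A)) := by rw [huniv]; exact Set.mem_univ _
    have h2 : (⊥ : Subalgebra k A) ∈ ({S₁, S₂} : Set (Subalgebra k A)) := by
      rw [huniv]; exact Set.mem_univ _
    have h3 : (⊤ : Subalgebra k A) ∈ ({S₁, S₂} : Set (Subalgebra k A)) := by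
      rw [huniv]; exact Set.mem_univ _
    simp only [Set.mem_insert_iff, Set.mem_singleton_iff] at h1 h2 h3
    rcases h1 with h1 | h1 <;> rcases h2 with h2 | h2 <;> rcases h3 with h3 | h3
    · exact absurd (h2.trans h3.symm) hbt
    · exact Or.inl (h1.trans h2.symm)
    · exact Or.inr (h1.trans h3.symm)
    · exact absurd (h2.trans h3.symm) hbt
    · exact absurd (h2.trans h3.symm) hbt
    · exact Or.inr (h1.trans h3.symm)
    · exact Or.inl (h1.trans h2.symm)
    · exact absurd (h2.trans h3.symm) hbt
  haveI : Nontrivial A := by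
    by_contra hnt
    rw [not_nontrivial_iff_subsingleton] at hnt
    exact hbt (SetLike.ext fun x => by
      rw [Subsingleton.elim x 0]; exact iff_of_true (zero_mem _) (zero_mem _))
  have hinj : Function.Injective (algebraMap k A) := (algebraMap k A).injective
  obtain ⟨a, ha⟩ : ∃ a : A, a ∉ (⊥ : Subalgebra k A) := by
    by_contra hcon
    push_neg at hcon
    exact hbt (eq_top_iff.mpr fun x _ => hcon x)
  have hgen : ∀ z : A, z ∉ (⊥ : Subalgebra k A) → Algebra.adjoin k {z} = ⊤ := fun z hz => by
    rcases key (Algebra.adjoin k {z}) with h1 | h1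
    · exact absurd (h1 ▸ Algebra.self_mem_adjoin_singleton k z) hz
    · exact h1
  have halg : IsAlgebraic k a := by
    rcases key (Algebra.adjoin k {a ^ 2}) with h1 | h1
    · have hm : a ^ 2 ∈ (⊥ : Subalgebra k A) :=
        h1 ▸ Algebra.self_mem_adjoin_singleton k (a ^ 2)
      rw [Algebra.mem_bot] at hm
      obtain ⟨c, hc⟩ := hm
      refine ⟨X ^ 2 - C c, X_pow_sub_C_ne_zero (by norm_num) c, ?_⟩
      simp [hc]
    · have hm : a ∈ Algebra.adjoin k {a ^ 2} := h1 ▸ Algebra.mem_top
      rw [Algebra.adjoin_singleton_eq_range_aeval, AlgHom.mem_range] at hm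
      obtain ⟨P, hP⟩ := hm
      refine ⟨X - Polynomial.expand k 2 P, ?_, ?_⟩
      · intro h0
        have := congrArg (fun q => Polynomial.coeff q 1) h0
        simp only [coeff_sub, coeff_X_one, coeff_zero] at this
        rw [Polynomial.coeff_expand (by norm_num : 0 < 2)] at this
        simp at this
      · rw [map_sub, aeval_X, Polynomial.expand_aeval, hP, sub_self]
  have hint : IsIntegral k a := halg.isIntegral
  set f := minpoly k a with hf
  obtain ⟨l, hl⟩ := IsAlgClosed.exists_root f (minpoly.degree_pos hint).ne'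
  have hfac : (X - C l) * (f /ₘ (X - C l)) = f :=
    Polynomial.mul_divByMonic_eq_iff_isRoot.mpr hl
  set g := f /ₘ (X - C l) with hg
  set b := Polynomial.aeval a g with hb
  have hab : (a - algebraMap k A l) * b = 0 := by
    have h1 : Polynomial.aeval a f = 0 := minpoly.aeval k a
    rw [← hfac, map_mul, map_sub, aeval_X, aeval_C] at h1
    exact h1
  have hg0 : g ≠ 0 := by
    intro h0
    have h1 : f = 0 := by rw [← hfac, h0, mul_zero]
    exact minpoly.ne_zero hint h1
  have hb0 : b ≠ 0 := by
    intro h0
    have h1 : f.degree ≤ g.degree := minpoly.degree_le_of_ne_zero k a hg0 h0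
    have h1' : f.natDegree ≤ g.natDegree := Polynomial.natDegree_le_natDegree h1
    have h2 : f.natDegree = 1 + g.natDegree := by
      conv_lhs => rw [← hfac]
      rw [natDegree_mul (X_sub_C_ne_zero l) hg0, natDegree_X_sub_C]
    omega
  set c := g.eval l with hc
  have hgdec : C c + (X - C l) * (g /ₘ (X - C l)) = g := by
    have h1 := Polynomial.modByMonic_add_div g (X - C l)
    rwa [modByMonic_X_sub_C_eq_C_eval] at h1
  have hbb : b * b = algebraMap k A c * b := by
    have h1 : b = algebraMap k A c +
        (a - algebraMap k A l) * Polynomial.aeval a (g /ₘ (X - C l)) := by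
      conv_lhs => rw [hb, ← hgdec]
      rw [map_add, map_mul, map_sub, aeval_X, aeval_C, aeval_C]
    calc b * b = b * (algebraMap k A c +
          (a - algebraMap k A l) * Polynomial.aeval a (g /ₘ (X - C l))) := by rw [← h1]
      _ = algebraMap k A c * b +
          ((a - algebraMap k A l) * b) * Polynomial.aeval a (g /ₘ (X - C l)) := by ring
      _ = algebraMap k A c * b := by rw [hab, zero_mul, add_zero]
  have hbbot : b ∉ (⊥ : Subalgebra k A) := by
    intro hm
    rw [Algebra.mem_bot] at hm
    obtain ⟨β, hβ⟩ := hm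
    have hβ0 : β ≠ 0 := by
      rintro rfl
      rw [map_zero] at hβ
      exact hb0 hβ.symm
    apply ha
    rw [Algebra.mem_bot]
    refine ⟨l, ?_⟩
    have h1 : (a - algebraMap k A l) * algebraMap k A β = 0 := by rw [hβ]; exact hab
    have h2 : (a - algebraMap k A l) * (algebraMap k A β * algebraMap k A β⁻¹) = 0 := by
      rw [← mul_assoc, h1, zero_mul]
    rw [← map_mul, mul_inv_cancel₀ hβ0, map_one, mul_one] at h2
    exact (sub_eq_zero.mp h2).symm
  have hbtop : Algebra.adjoin k {b} = ⊤ := hgen b hbbot
  have hspan : ∀ z : A, ∃ x y : k, z = algebraMap k A x + algebraMap k A y * b := by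
    intro z
    have hz : z ∈ Algebra.adjoin k {b} := hbtop ▸ Algebra.mem_top
    induction hz using Algebra.adjoin_induction with
    | mem z hz =>
      rw [Set.mem_singleton_iff] at hz
      exact ⟨0, 1, by rw [hz, map_zero, map_one, zero_add, one_mul]⟩
    | algebraMap r => exact ⟨r, 0, by rw [map_zero, zero_mul, add_zero]⟩
    | add z w _ _ hz hw =>
      obtain ⟨x, y, rfl⟩ := hz
      obtain ⟨x', y', rfl⟩ := hw
      exact ⟨x + x', y + y', by rw [map_add, map_add]; ring⟩
    | mul z w _ _ hz hw =>
      obtain ⟨x, y, rfl⟩ := hz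
      obtain ⟨x', y', rfl⟩ := hw
      refine ⟨x * x', x * y' + y * x' + y * y' * c, ?_⟩
      simp only [map_add, map_mul]
      linear_combination (algebraMap k A y * algebraMap k A y') * hbb
  have hli : ∀ x y : k, algebraMap k A x + algebraMap k A y * b = 0 → x = 0 ∧ y = 0 := by
    intro x y hxy
    have hy : y = 0 := by
      by_contra hy
      apply hbbot
      rw [Algebra.mem_bot]
      refine ⟨-(y⁻¹ * x), ?_⟩
      have h1 : algebraMap k A y * b = -algebraMap k A x := by linear_combination hxy
      have h2 : algebraMap k A y⁻¹ * (algebraMap k A y * b) = b := by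
        rw [← mul_assoc, ← map_mul, inv_mul_cancel₀ hy, map_one, one_mul]
      rw [← h2, h1, map_neg, map_mul]
      ring
    subst hy
    rw [map_zero, zero_mul, add_zero] at hxy
    exact ⟨hinj (by rw [hxy, map_zero]), rfl⟩
  by_cases hc0 : c = 0
  · right
    rw [hc0, map_zero, zero_mul] at hbb
    let ψ : DualNumber k →ₐ[k] A :=
      DualNumber.lift ⟨(Algebra.ofId k A, b), hbb, fun _ => Commute.all _ _⟩
    have hψ : ∀ z : DualNumber k, ψ z = algebraMap k A (TrivSqZeroExt.fst z) +
        algebraMap k A (TrivSqZeroExt.snd z) * b := fun z => DualNumber.lift_apply_apply _ z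
    have hbij : Function.Bijective ψ := by
      constructor
      · rw [injective_iff_map_eq_zero]
        intro z hz
        rw [hψ] at hz
        obtain ⟨h1, h2⟩ := hli _ _ hz
        exact TrivSqZeroExt.ext (by simpa using h1) (by simpa using h2)
      · intro z
        obtain ⟨x, y, rfl⟩ := hspan z
        refine ⟨TrivSqZeroExt.inl x + TrivSqZeroExt.inr y, ?_⟩
        rw [hψ]
        simp
    exact ⟨(AlgEquiv.ofBijective ψ hbij).symm⟩
  · left
    set e := algebraMap k A c⁻¹ * b with he
    have hee : e * e = e := by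
      have h1 : algebraMap k A c⁻¹ * algebraMap k A c = 1 := by
        rw [← map_mul, inv_mul_cancel₀ hc0, map_one]
      calc e * e = algebraMap k A c⁻¹ * algebraMap k A c⁻¹ * (b * b) := by rw [he]; ring
        _ = algebraMap k A c⁻¹ * (algebraMap k A c⁻¹ * algebraMap k A c) * b := by
            rw [hbb]; ring
        _ = e := by rw [h1, mul_one]
    let L : k × k →ₗ[k] A := LinearMap.coprod (LinearMap.toSpanSingleton k A e)
      (LinearMap.toSpanSingleton k A (1 - e))
    have hL : ∀ z : k × k, L z = algebraMap k A z.1 * e + algebraMap k A z.2 * (1 - e) :=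
      fun z => by
        simp [L, LinearMap.coprod_apply, LinearMap.toSpanSingleton_apply, Algebra.smul_def]
    let ψ : (k × k) →ₐ[k] A := AlgHom.ofLinearMap L (by rw [hL]; simp) (fun z w => by
      rw [hL, hL, hL]
      simp only [Prod.fst_mul, Prod.snd_mul, map_mul]
      linear_combination (-(algebraMap k A z.1 * algebraMap k A w.1
        - algebraMap k A z.1 * algebraMap k A w.2 - algebraMap k A z.2 * algebraMap k A w.1
        + algebraMap k A z.2 * algebraMap k A w.2)) * hee)
    have hψ : ∀ z : k × k, ψ z = algebraMap k A z.1 * e + algebraMap k A z.2 * (1 - e) :=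
      fun z => hL z
    have hrew : ∀ x y : k, algebraMap k A x * e + algebraMap k A y * (1 - e)
        = algebraMap k A y + algebraMap k A ((x - y) * c⁻¹) * b := fun x y => by
      rw [he, map_mul, map_sub]; ring
    have hbij : Function.Bijective ψ := by
      constructor
      · rw [injective_iff_map_eq_zero]
        intro z hz
        rw [hψ, hrew] at hz
        obtain ⟨h1, h2⟩ := hli _ _ hz
        have h3 : z.1 - z.2 = 0 := by
          rcases mul_eq_zero.mp h2 with h | h
          · exact h
          · exact absurd h (inv_ne_zero hc0)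
        rw [sub_eq_zero] at h3
        exact Prod.ext (by rw [h3, h1]; rfl) (by rw [h1]; rfl)
      · intro z
        obtain ⟨x, y, rfl⟩ := hspan z
        refine ⟨(x + y * c, x), ?_⟩
        rw [hψ, hrew]
        dsimp only
        rw [add_sub_cancel_left, mul_inv_cancel_right₀ hc0]
    exact ⟨(AlgEquiv.ofBijective ψ hbij).symm⟩

end Groth.Agent.S0218
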