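import Groth.Statements.S0249


set_option autoImplicit false
universe u
open Pi1

namespace Groth.Agent.S0249

open AlgebraicGeometry CategoryTheory CategoryTheory.Limits in
/-- Let A be a Noetherian local ring of dimension at least 1 and f an element of its maximal ideal. Then
some prime ideal of height exactly 1 contains f. -/
theorem result (A : Type u) [CommRing A] [IsNoetherianRing A] [IsLocalRing A]
    (h : (1 : WithBot ℕ∞) ≤ ringKrullDim A) (f : A) (hf : f ∈ IsLocalRing.maximalIdeal A) :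
    ∃ p : Ideal A, p.IsPrime ∧ f ∈ p ∧ p.height = 1 := by
  classical
  let S : Set (Ideal A) := {p | p.IsPrime ∧ f ∈ p ∧ 1 ≤ p.height}
  have hmS : IsLocalRing.maximalIdeal A ∈ S := by
    refine ⟨inferInstance, hf, ?_⟩
    have h1 := IsLocalRing.maximalIdeal_height_eq_ringKrullDim (R := A)
    rw [← h1] at h
    exact_mod_cast h
  obtain ⟨q, hqS, hqmin⟩ := WellFounded.has_min
    (InvImage.wf (fun p : Ideal A => p.height) wellFounded_lt) S ⟨_, hmS⟩
  obtain ⟨hqp, hfq, hq1⟩ := hqS
  haveI := hqp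
  refine ⟨q, hqp, hfq, le_antisymm ?_ hq1⟩
  by_contra h2
  have h2' : ¬ q.height ≤ ((1 : ℕ) : ℕ∞) := by simpa using h2
  rw [Ideal.height_le_iff] at h2'
  push Not at h2'
  obtain ⟨q1, hq1p, hq1lt, hq1h⟩ := h2'
  haveI := hq1p
  have hq1ge : 1 ≤ q1.height := by simpa using hq1h
  have hq1ht : q1.height < q.height := Ideal.height_strict_mono_of_isPrime_of_isPrime hq1lt
  by_cases hfq1 : f ∈ q1
  · exact hqmin q1 ⟨hq1p, hfq1, hq1ge⟩ hq1ht
  · have h3 : ¬ q1.height ≤ ((0 : ℕ) : ℕ∞) := by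
      intro h0
      have h4 := hq1ge.trans h0
      simp at h4
    rw [Ideal.height_le_iff] at h3
    push Not at h3
    obtain ⟨q0, hq0p, hq0lt, -⟩ := h3
    haveI := hq0p
    have hIle : q0 ⊔ Ideal.span {f} ≤ q :=
      sup_le (hq0lt.le.trans hq1lt.le) ((Ideal.span_singleton_le_iff_mem q).mpr hfq)
    obtain ⟨q', hq'min, hq'le⟩ := Ideal.exists_minimalPrimes_le hIle
    haveI hq'p : q'.IsPrime := hq'min.1.1
    have hq0q' : q0 ≤ q' := le_sup_left.trans hq'min.1.2
    have hfq' : f ∈ q' := hq'min.1.2 (Ideal.mem_sup_right (Ideal.mem_span_singleton_self f))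
    have hq0ltq' : q0 < q' :=
      lt_of_le_of_ne hq0q' (fun heq => hfq1 (hq0lt.le (heq ▸ hfq')))
    have hq'1 : 1 ≤ q'.height :=
      le_trans (by simp) (Ideal.height_add_one_le_of_lt_of_isPrime hq0ltq')
    have hq'S : q' ∈ S := ⟨hq'p, hfq', hq'1⟩
    have hq'eq : q' = q := by
      by_contra hne
      exact hqmin q' hq'S
        (Ideal.height_strict_mono_of_isPrime_of_isPrime (lt_of_le_of_ne hq'le hne))
    rw [hq'eq] at hq'min
    have hkrull := Ideal.map_height_le_one_of_mem_minimalPrimes hq'min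
    have hsurj : Function.Surjective (Ideal.Quotient.mk q0) := Ideal.Quotient.mk_surjective
    haveI hqmapp : (q.map (Ideal.Quotient.mk q0)).IsPrime :=
      Ideal.map_isPrime_of_surjective hsurj (by rw [Ideal.mk_ker]; exact hq0lt.le.trans hq1lt.le)
    haveI hq1mapp : (q1.map (Ideal.Quotient.mk q0)).IsPrime :=
      Ideal.map_isPrime_of_surjective hsurj (by rw [Ideal.mk_ker]; exact hq0lt.le)
    have hcomap : ∀ J : Ideal A, q0 ≤ J →
        (J.map (Ideal.Quotient.mk q0)).comap (Ideal.Quotient.mk q0) = J := by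
      intro J hJ
      rw [Ideal.comap_map_of_surjective _ hsurj, ← RingHom.ker_eq_comap_bot, Ideal.mk_ker,
        sup_eq_left.mpr hJ]
    have hlt : q1.map (Ideal.Quotient.mk q0) < q.map (Ideal.Quotient.mk q0) := by
      refine lt_of_le_of_ne (Ideal.map_mono hq1lt.le) (fun heq => ?_)
      have h5 := congrArg (Ideal.comap (Ideal.Quotient.mk q0)) heq
      rw [hcomap q1 hq0lt.le, hcomap q (hq0lt.le.trans hq1lt.le)] at h5
      exact hq1lt.ne h5
    have hkrull' : (q.map (Ideal.Quotient.mk q0)).height ≤ ((1 : ℕ) : ℕ∞) := by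
      simpa using hkrull
    rw [Ideal.height_le_iff] at hkrull'
    have h4 := hkrull' _ hq1mapp hlt
    have h5 : (q1.map (Ideal.Quotient.mk q0)).height = 0 :=
      ENat.lt_one_iff_eq_zero.mp (by simpa using h4)
    rw [Ideal.height_eq_zero_iff_eq_bot, Ideal.map_eq_bot_iff_le_ker, Ideal.mk_ker] at h5
    exact not_le_of_gt hq0lt h5

end Groth.Agent.S0249
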