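import Groth.Statements.S0253
import Mathlib

set_option autoImplicit false
universe u
open Pi1

namespace Groth.Agent.S0253

open AlgebraicGeometry CategoryTheory CategoryTheory.Limits in
/-- Let A be an integrally closed domain whose fraction field is separably closed. Then the residue
field at any nonzero prime ideal of A is algebraically closed. -/
theorem result (A : Type u) [CommRing A] [IsDomain A] [IsIntegrallyClosed A] [IsSepClosed (FractionRing A)]
    (p : Ideal A) [p.IsPrime] (hp : p ≠ ⊥) : IsAlgClosed p.ResidueField := by
  classical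
  have hA : ∀ n : ℕ, ∀ Q : Polynomial A, Q.Monic → Q.natDegree = n → 1 ≤ n →
      ∃ y : p.ResidueField, (Q.map (algebraMap A p.ResidueField)).eval y = 0 := by
    intro n
    induction n using Nat.strong_induction_on with
    | _ n ih =>
      intro Q hQ hdeg hn
      have hred : ∀ Q' : Polynomial A, Q'.Monic → Q'.natDegree = n →
          Q'.map (algebraMap A p.ResidueField) = Q.map (algebraMap A p.ResidueField) →
          ¬ Irreducible Q' →
          ∃ y : p.ResidueField, (Q.map (algebraMap A p.ResidueField)).eval y = 0 := by
        intro Q' hQ' hdeg' hmap hirr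
        rw [hQ'.irreducible_iff_natDegree'] at hirr
        have hne1 : Q' ≠ 1 := by
          intro h
          rw [h, Polynomial.natDegree_one] at hdeg'
          omega
        push_neg at hirr
        obtain ⟨f, g, hf, hg, hfg, hgdeg⟩ := hirr hne1
        simp only [Finset.mem_Ioc] at hgdeg
        have h1 : 1 ≤ g.natDegree := hgdeg.1
        have h2 : g.natDegree < n := by
          have := hgdeg.2
          omega
        obtain ⟨y, hy⟩ := ih g.natDegree h2 g hg rfl h1
        refine ⟨y, ?_⟩
        rw [← hmap, ← hfg, Polynomial.map_mul, Polynomial.eval_mul, hy, mul_zero]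
      rcases Nat.lt_or_ge n 2 with hlt | hge
      · have hn1 : Q.natDegree = 1 := by omega
        have hQeq := hQ.eq_X_add_C hn1
        refine ⟨- algebraMap A p.ResidueField (Q.coeff 0), ?_⟩
        rw [hQeq]
        simp
      · by_cases hirrQ : Irreducible Q
        · have hK : Irreducible (Q.map (algebraMap A (FractionRing A))) :=
            (hQ.irreducible_iff_irreducible_map_fraction_map).mp hirrQ
          have hdegK : ∀ Q' : Polynomial A, Q'.Monic → Q'.natDegree = n →
              Irreducible (Q'.map (algebraMap A (FractionRing A))) →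
              ¬ (Q'.map (algebraMap A (FractionRing A))).Separable := by
            intro Q' hQ' hdeg' hK' hsep
            have hd := IsSepClosed.degree_eq_one_of_irreducible (FractionRing A) hK' hsep
            have hnd : (Q'.map (algebraMap A (FractionRing A))).natDegree = 1 :=
              Polynomial.natDegree_eq_of_degree_eq_some hd
            rw [hQ'.natDegree_map] at hnd
            omega
          have hder : Polynomial.derivative (Q.map (algebraMap A (FractionRing A))) = 0 := by
            by_contra hne
            exact hdegK Q hQ hdeg hK ((Polynomial.separable_iff_derivative_ne_zero hK).mpr hne)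
          obtain ⟨a, hap, ha0⟩ := Submodule.exists_mem_ne_zero_of_ne_bot hp
          have hdegaX : (Polynomial.C a * Polynomial.X : Polynomial A).natDegree < Q.natDegree := by
            rw [Polynomial.natDegree_C_mul_X a ha0]; omega
          have hQ₂ : (Q + Polynomial.C a * Polynomial.X).Monic := by
            apply hQ.add_of_left
            exact Polynomial.degree_lt_degree hdegaX
          have hdeg₂ : (Q + Polynomial.C a * Polynomial.X).natDegree = n := by
            rw [Polynomial.natDegree_add_eq_left_of_natDegree_lt hdegaX, hdeg]
          have hmap₂ : (Q + Polynomial.C a * Polynomial.X).map (algebraMap A p.ResidueField) =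
              Q.map (algebraMap A p.ResidueField) := by
            rw [Polynomial.map_add, Polynomial.map_mul, Polynomial.map_C, Polynomial.map_X,
              Ideal.algebraMap_residueField_eq_zero.mpr hap, Polynomial.C_0, zero_mul, add_zero]
          by_cases hirr₂ : Irreducible (Q + Polynomial.C a * Polynomial.X)
          · exfalso
            have hK₂ := (hQ₂.irreducible_iff_irreducible_map_fraction_map
              (K := FractionRing A)).mp hirr₂
            apply hdegK _ hQ₂ hdeg₂ hK₂
            rw [Polynomial.separable_iff_derivative_ne_zero hK₂, Polynomial.map_add,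
              Polynomial.derivative_add, hder, zero_add, Polynomial.map_mul, Polynomial.map_C,
              Polynomial.map_X, Polynomial.derivative_C_mul, Polynomial.derivative_X, mul_one]
            intro h0
            have h1 := Polynomial.C_eq_zero.mp h0
            exact ha0 ((IsFractionRing.injective A (FractionRing A)) (by rw [h1, map_zero]))
          · exact hred _ hQ₂ hdeg₂ hmap₂ hirr₂
        · exact hred Q hQ hdeg rfl hirrQ
  apply IsAlgClosed.of_exists_root
  intro P hP hPirr
  have hdpos : 1 ≤ P.natDegree :=
    Polynomial.natDegree_pos_iff_degree_pos.mpr (Polynomial.degree_pos_of_irreducible hPirr)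
  obtain ⟨b, hb⟩ := IsLocalization.exist_integer_multiples_of_finset (nonZeroDivisors (A ⧸ p))
    ((Finset.range (P.natDegree + 1)).image P.coeff)
  obtain ⟨t, htdef⟩ : ∃ t : p.ResidueField, t = algebraMap (A ⧸ p) p.ResidueField (b : A ⧸ p) :=
    ⟨_, rfl⟩
  have ht0 : t ≠ 0 := by
    rw [htdef]
    exact map_ne_zero_of_mem_nonZeroDivisors _ p.injective_algebraMap_quotient_residueField b.2
  have ht : t ∈ (algebraMap A p.ResidueField).range := by
    obtain ⟨s, hs⟩ := Ideal.Quotient.mk_surjective (b : A ⧸ p)
    refine ⟨s, ?_⟩
    rw [htdef, ← hs]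
    rfl
  have hcoef : ∀ i, (P.scaleRoots t).coeff i ∈ (algebraMap A p.ResidueField).range := by
    intro i
    rw [Polynomial.coeff_scaleRoots]
    rcases lt_trichotomy i P.natDegree with hi | hi | hi
    · have hmem : P.coeff i ∈ (Finset.range (P.natDegree + 1)).image P.coeff :=
        Finset.mem_image.mpr ⟨i, Finset.mem_range.mpr (by omega), rfl⟩
      obtain ⟨r, hr⟩ := hb _ hmem
      obtain ⟨a', rfl⟩ := Ideal.Quotient.mk_surjective r
      have h1 : t * P.coeff i ∈ (algebraMap A p.ResidueField).range := by
        refine ⟨a', ?_⟩
        rw [htdef, ← Algebra.smul_def, ← hr]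
        rfl
      obtain ⟨k, hk⟩ : ∃ k, P.natDegree - i = k + 1 := ⟨P.natDegree - i - 1, by omega⟩
      rw [hk]
      have h3 : P.coeff i * t ^ (k + 1) = (t * P.coeff i) * t ^ k := by ring
      rw [h3]
      exact Subring.mul_mem _ h1 (Subring.pow_mem _ ht k)
    · rw [hi, Nat.sub_self, pow_zero, mul_one, hP.coeff_natDegree]
      exact Subring.one_mem _
    · rw [Polynomial.coeff_eq_zero_of_natDegree_lt hi, zero_mul]
      exact Subring.zero_mem _
  have hlift : P.scaleRoots t ∈ Polynomial.lifts (algebraMap A p.ResidueField) := by
    rw [Polynomial.lifts_iff_coeff_lifts]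
    intro i
    exact hcoef i
  have hmonic₁ : (P.scaleRoots t).Monic := (Polynomial.monic_scaleRoots_iff t).mpr hP
  obtain ⟨Q, hQmap, hQdeg, hQmonic⟩ := Polynomial.lifts_and_natDegree_eq_and_monic hlift hmonic₁
  rw [Polynomial.natDegree_scaleRoots] at hQdeg
  obtain ⟨y, hy⟩ := hA Q.natDegree Q hQmonic rfl (by omega)
  rw [hQmap] at hy
  refine ⟨t⁻¹ * y, ?_⟩
  have h4 : (P.scaleRoots t).scaleRoots t⁻¹ = P := by
    rw [← Polynomial.scaleRoots_mul, mul_inv_cancel₀ ht0, Polynomial.scaleRoots_one]
  have h5 := Polynomial.scaleRoots_eval₂_eq_zero (RingHom.id p.ResidueField) (s := t⁻¹)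
    (p := P.scaleRoots t) (r := y) (by rw [Polynomial.eval₂_id]; exact hy)
  rw [h4, Polynomial.eval₂_id, RingHom.id_apply] at h5
  exact h5

end Groth.Agent.S0253
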