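import Groth.Statements.S0254
import Mathlib

set_option autoImplicit false
universe u
open Pi1

namespace Groth.Agent.S0254

open AlgebraicGeometry CategoryTheory CategoryTheory.Limits in
/-- An integrally closed local domain whose fraction field is separably closed is henselian with
separably closed residue field (i.e. strictly henselian). -/
theorem result (A : Type u) [CommRing A] [IsDomain A] [IsLocalRing A] [IsIntegrallyClosed A]
    [IsSepClosed (FractionRing A)] :
    HenselianLocalRing A ∧ IsSepClosed (IsLocalRing.ResidueField A) := by
  classical
  have hunit : ∀ x y : A, IsUnit (x + y) → x ∈ IsLocalRing.maximalIdeal A → IsUnit y := by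
    intro x y hxy hx
    by_contra hy
    have hy' : y ∈ IsLocalRing.maximalIdeal A := (IsLocalRing.mem_maximalIdeal y).mpr hy
    exact (IsLocalRing.mem_maximalIdeal _).mp (Ideal.add_mem _ hx hy') hxy
  have hsepdeg : ∀ Q' : Polynomial A, Q'.Monic →
      Irreducible (Q'.map (algebraMap A (FractionRing A))) →
      (Q'.map (algebraMap A (FractionRing A))).Separable → Q'.natDegree = 1 := by
    intro Q' hQ' hK' hsep
    have hd := IsSepClosed.degree_eq_one_of_irreducible (FractionRing A) hK' hsep
    have hnd : (Q'.map (algebraMap A (FractionRing A))).natDegree = 1 :=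
      Polynomial.natDegree_eq_of_degree_eq_some hd
    rw [hQ'.natDegree_map] at hnd
    exact hnd
  have hder0 : ∀ Q' : Polynomial A, Q'.Monic → Irreducible Q' → Q'.natDegree ≠ 1 →
      Polynomial.derivative Q' = 0 := by
    intro Q' hQ' hirr hne
    have hK : Irreducible (Q'.map (algebraMap A (FractionRing A))) :=
      (hQ'.irreducible_iff_irreducible_map_fraction_map).mp hirr
    have hns : ¬ (Q'.map (algebraMap A (FractionRing A))).Separable :=
      fun hsep => hne (hsepdeg Q' hQ' hK hsep)
    rw [Polynomial.separable_iff_derivative_ne_zero hK, not_not, Polynomial.derivative_map] at hns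
    apply Polynomial.map_injective _ (IsFractionRing.injective A (FractionRing A))
    rw [hns, Polynomial.map_zero]
  constructor
  · have hH : ∀ n : ℕ, ∀ f : Polynomial A, f.Monic → f.natDegree = n → ∀ a₀ : A,
        f.eval a₀ ∈ IsLocalRing.maximalIdeal A → IsUnit (f.derivative.eval a₀) →
        ∃ a : A, f.IsRoot a ∧ a - a₀ ∈ IsLocalRing.maximalIdeal A := by
      intro n
      induction n using Nat.strong_induction_on with
      | _ n ih =>
        intro f hf hdeg a₀ h1 h2
        by_cases hn1 : f.natDegree = 1
        · have hfeq := hf.eq_X_add_C hn1
          refine ⟨- f.coeff 0, ?_, ?_⟩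
          · rw [Polynomial.IsRoot.def]
            conv_lhs => rw [hfeq]
            simp
          · have h3 : f.eval a₀ = a₀ + f.coeff 0 := by
              conv_lhs => rw [hfeq]
              simp
            rw [h3] at h1
            have h4 : - f.coeff 0 - a₀ = - (a₀ + f.coeff 0) := by ring
            rw [h4]
            exact Ideal.neg_mem_iff _ |>.mpr h1
        · by_cases hirr : Irreducible f
          · exfalso
            rw [hder0 f hf hirr hn1, Polynomial.eval_zero] at h2
            exact not_isUnit_zero h2
          · rw [hf.irreducible_iff_natDegree'] at hirr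
            have hne1 : f ≠ 1 := by
              intro h
              rw [h, Polynomial.eval_one] at h1
              exact (Ideal.ne_top_iff_one _).mp (IsLocalRing.maximalIdeal.isMaximal A).ne_top h1
            push_neg at hirr
            obtain ⟨f₁, g, hf₁, hg, hfg, hgdeg⟩ := hirr hne1
            simp only [Finset.mem_Ioc] at hgdeg
            have hdegsum : f₁.natDegree + g.natDegree = n := by
              rw [← hf₁.natDegree_mul hg, hfg, hdeg]
            have hev : f₁.eval a₀ * g.eval a₀ ∈ IsLocalRing.maximalIdeal A := by
              rw [← Polynomial.eval_mul, hfg]; exact h1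
            have hder : f.derivative.eval a₀ =
                f₁.derivative.eval a₀ * g.eval a₀ + f₁.eval a₀ * g.derivative.eval a₀ := by
              rw [← hfg, Polynomial.derivative_mul, Polynomial.eval_add, Polynomial.eval_mul,
                Polynomial.eval_mul]
            rw [hder] at h2
            rcases (IsLocalRing.maximalIdeal.isMaximal A).isPrime.mem_or_mem hev with hm | hm
            · -- f₁(a₀) ∈ 𝔪
              have h5 : IsUnit (f₁.derivative.eval a₀ * g.eval a₀) := by
                rw [add_comm] at h2
                exact hunit _ _ h2 (Ideal.mul_mem_right _ _ hm)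
              have h6 : IsUnit (f₁.derivative.eval a₀) := isUnit_of_mul_isUnit_left h5
              obtain ⟨a, ha, haa⟩ := ih f₁.natDegree (by omega) f₁ hf₁ rfl a₀ hm h6
              refine ⟨a, ?_, haa⟩
              rw [Polynomial.IsRoot.def, ← hfg, Polynomial.eval_mul, ha, zero_mul]
            · have h5 : IsUnit (f₁.eval a₀ * g.derivative.eval a₀) :=
                hunit _ _ h2 (Ideal.mul_mem_left _ _ hm)
              have h6 : IsUnit (g.derivative.eval a₀) := isUnit_of_mul_isUnit_right h5
              obtain ⟨a, ha, haa⟩ := ih g.natDegree (by omega) g hg rfl a₀ hm h6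
              refine ⟨a, ?_, haa⟩
              rw [Polynomial.IsRoot.def, ← hfg, Polynomial.eval_mul, ha, mul_zero]
    exact { is_henselian := fun f hf a₀ h1 h2 => hH f.natDegree f hf rfl a₀ h1 h2 }
  · have hS : ∀ n : ℕ, ∀ Q : Polynomial A, Q.Monic → Q.natDegree = n → 1 ≤ n →
        (Q.map (IsLocalRing.residue A)).Separable →
        ∃ y : IsLocalRing.ResidueField A, (Q.map (IsLocalRing.residue A)).eval y = 0 := by
      intro n
      induction n using Nat.strong_induction_on with
      | _ n ih =>
        intro Q hQ hdeg hn hsep
        by_cases hn1 : Q.natDegree = 1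
        · have hQeq := hQ.eq_X_add_C hn1
          refine ⟨- IsLocalRing.residue A (Q.coeff 0), ?_⟩
          conv_lhs => rw [hQeq]
          simp
        · by_cases hirr : Irreducible Q
          · exfalso
            have hd0 := hder0 Q hQ hirr hn1
            rw [Polynomial.separable_def, Polynomial.derivative_map, hd0,
              Polynomial.map_zero, isCoprime_zero_right] at hsep
            have h7 := Polynomial.natDegree_eq_zero_of_isUnit hsep
            rw [hQ.natDegree_map] at h7
            omega
          · rw [hQ.irreducible_iff_natDegree'] at hirr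
            have hne1 : Q ≠ 1 := by
              intro h
              rw [h, Polynomial.natDegree_one] at hdeg
              omega
            push_neg at hirr
            obtain ⟨f₁, g, hf₁, hg, hfg, hgdeg⟩ := hirr hne1
            simp only [Finset.mem_Ioc] at hgdeg
            have hdegsum : f₁.natDegree + g.natDegree = n := by
              rw [← hf₁.natDegree_mul hg, hfg, hdeg]
            have hsepg : (g.map (IsLocalRing.residue A)).Separable := by
              rw [← hfg, Polynomial.map_mul] at hsep
              exact hsep.of_mul_right
            obtain ⟨y, hy⟩ := ih g.natDegree (by omega) g hg rfl (by omega) hsepg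
            refine ⟨y, ?_⟩
            rw [← hfg, Polynomial.map_mul, Polynomial.eval_mul, hy, mul_zero]
    apply IsSepClosed.of_exists_root
    intro P hP hPirr hPsep
    have hdpos : 1 ≤ P.natDegree :=
      Polynomial.natDegree_pos_iff_degree_pos.mpr (Polynomial.degree_pos_of_irreducible hPirr)
    have hlift : P ∈ Polynomial.lifts (IsLocalRing.residue A) := by
      rw [Polynomial.lifts_iff_coeff_lifts]
      intro i
      exact IsLocalRing.residue_surjective _
    obtain ⟨Q, hQmap, hQdeg, hQmonic⟩ := Polynomial.lifts_and_natDegree_eq_and_monic hlift hP
    obtain ⟨y, hy⟩ := hS Q.natDegree Q hQmonic rfl (by omega) (by rw [hQmap]; exact hPsep)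
    rw [hQmap] at hy
    exact ⟨y, hy⟩

end Groth.Agent.S0254
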