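import Groth.Statements.S0294
-- import your own Groth.Agent.* helpers here
import Mathlib

set_option autoImplicit false
universe u
open Pi1

namespace Groth.Agent.S0294

open AlgebraicGeometry CategoryTheory CategoryTheory.Limits in
/-- For a finite étale cover Y of a scheme X and a point ξ : Spec Ω → X with values in a field Ω, the
fibre of Y over ξ (the set of Ω-valued points of Y lying over ξ) is finite. -/
theorem result {X : Scheme.{u}} {Ω : Type u} [Field Ω] (ξ : Spec (CommRingCat.of Ω) ⟶ X) (Y : FEt.Cat X) :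
    Finite (FEt.fiberObj ξ Y) := by
  haveI hY : IsFinite Y.hom := Y.prop.1
  haveI hq : IsFinite (pullback.snd Y.hom ξ) := inferInstance
  haveI hP : IsAffine (pullback Y.hom ξ) := isAffine_of_isAffineHom (pullback.snd Y.hom ξ)
  have hfin : ((pullback.snd Y.hom ξ).appTop).hom.Finite :=
    ((HasAffineProperty.iff_of_isAffine (P := @IsFinite)).mp hq).2
  let φ' : CommRingCat.of Ω ⟶ Γ(pullback Y.hom ξ, ⊤) :=
    (Scheme.ΓSpecIso (CommRingCat.of Ω)).inv ≫ (pullback.snd Y.hom ξ).appTop
  letI : Algebra Ω Γ(pullback Y.hom ξ, ⊤) := φ'.hom.toAlgebra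
  haveI hmf : Module.Finite Ω Γ(pullback Y.hom ξ, ⊤) := by
    have h1 : ((Scheme.ΓSpecIso (CommRingCat.of Ω)).inv).hom.Finite :=
      RingHom.Finite.of_surjective _
        ((ConcreteCategory.bijective_of_isIso (Scheme.ΓSpecIso (CommRingCat.of Ω)).inv).2)
    have h2 : φ'.hom.Finite := RingHom.Finite.comp hfin h1
    exact h2
  let t : FEt.fiberObj ξ Y → (Spec (CommRingCat.of Ω) ⟶ pullback Y.hom ξ) := fun s =>
    pullback.lift s.1 (𝟙 _) (by rw [s.2, Category.id_comp])
  let g : FEt.fiberObj ξ Y → (Γ(pullback Y.hom ξ, ⊤) ⟶ CommRingCat.of Ω) := fun s =>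
    (t s).appTop ≫ (Scheme.ΓSpecIso (CommRingCat.of Ω)).hom
  have key : ∀ s : FEt.fiberObj ξ Y, φ' ≫ g s = 𝟙 _ := by
    intro s
    have h3 : t s ≫ pullback.snd Y.hom ξ = 𝟙 _ := pullback.lift_snd _ _ _
    have h4 : (pullback.snd Y.hom ξ).appTop ≫ (t s).appTop = 𝟙 _ := by
      rw [← Scheme.Hom.comp_appTop, h3, Scheme.Hom.id_appTop]
    simp only [φ', g, Category.assoc]
    rw [reassoc_of% h4, Iso.inv_hom_id]
  let F : FEt.fiberObj ξ Y → (Γ(pullback Y.hom ξ, ⊤) →ₐ[Ω] Ω) := fun s =>
    { toRingHom := (g s).hom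
      commutes' := fun r => by
        have h5 := ConcreteCategory.congr_hom (key s) r
        simpa [RingHom.algebraMap_toAlgebra] using h5 }
  refine Finite.of_injective F ?_
  intro s s' hss
  have h6 : (g s).hom = (g s').hom := congrArg (fun a : Γ(pullback Y.hom ξ, ⊤) →ₐ[Ω] Ω => a.toRingHom) hss
  have h7 : g s = g s' := CommRingCat.hom_ext h6
  have h8 : (t s).appTop = (t s').appTop := by
    have := congrArg (fun a => a ≫ (Scheme.ΓSpecIso (CommRingCat.of Ω)).inv) h7
    simpa [g] using this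
  have h9 : t s = t s' := ext_of_isAffine h8
  have h10 : t s ≫ pullback.fst Y.hom ξ = s.1 := pullback.lift_fst _ _ _
  have h11 : t s' ≫ pullback.fst Y.hom ξ = s'.1 := pullback.lift_fst _ _ _
  exact Subtype.ext (by rw [← h10, ← h11, h9])

end Groth.Agent.S0294
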