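import Groth.Statements.S0310


set_option autoImplicit false
universe u v
open Matlis

namespace Groth.Agent.S0310

/-- Over a local ring, a module killed elementwise by powers of the maximal ideal and whose socle has
finite dimension n over the residue field embeds into the n-fold sum of an injective hull of the
residue field. -/
theorem result (R : Type u) [CommRing R] [IsLocalRing R] (E : Type u) [AddCommGroup E] [Module R E] (f : IsLocalRing.ResidueField R →ₗ[R] E) (hf : InjHull.IsInjectiveHull f) (M : Type u) [AddCommGroup M] [Module R M] (hM : LocCoh.IsPowerTorsion (IsLocalRing.maximalIdeal R) M) (n : ℕ) [Module.Finite (R ⧸ IsLocalRing.maximalIdeal R) ↥(LocCoh.torsionBy (IsLocalRing.maximalIdeal R) M)] (hn : Module.finrank (R ⧸ IsLocalRing.maximalIdeal R) ↥(LocCoh.torsionBy (IsLocalRing.maximalIdeal R) M) = n) : ∃ g : M →ₗ[R] (Fin n → E), Function.Injective g := by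
  classical
  haveI := hf.isInjective
  have hfi : Function.Injective f := hf.toIsEssentialInj.injective
  letI : Field (R ⧸ IsLocalRing.maximalIdeal R) := Ideal.Quotient.field _
  let b : Module.Basis (Fin n) (R ⧸ IsLocalRing.maximalIdeal R)
      ↥(LocCoh.torsionBy (IsLocalRing.maximalIdeal R) M) := Module.finBasisOfFinrankEq _ _ hn
  let φ : ↥(LocCoh.torsionBy (IsLocalRing.maximalIdeal R) M) →ₗ[R] (Fin n → E) :=
    LinearMap.pi (fun i => f ∘ₗ ((b.coord i).restrictScalars R))
  have hφ : Function.Injective φ := by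
    rw [← LinearMap.ker_eq_bot, LinearMap.ker_eq_bot']
    intro s hs
    apply b.forall_coord_eq_zero_iff.mp
    intro i
    have h1 : f (b.coord i s) = 0 := congrFun hs i
    exact hfi (h1.trans (map_zero f).symm)
  obtain ⟨g, hg⟩ := Module.Injective.extension_property R (Fin n → E) _ M
    (Submodule.subtype (LocCoh.torsionBy (IsLocalRing.maximalIdeal R) M))
    (Submodule.injective_subtype _) φ
  refine ⟨g, ?_⟩
  rw [← LinearMap.ker_eq_bot, LinearMap.ker_eq_bot']
  intro y hy
  by_contra hy0
  have hex : ∃ N : ℕ, ∀ a ∈ IsLocalRing.maximalIdeal R ^ N, a • y = 0 := hM y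
  have hN0 : Nat.find hex ≠ 0 := by
    intro h0
    have h1 := Nat.find_spec hex
    rw [h0] at h1
    exact hy0 (by simpa using h1 1 (by simp))
  obtain ⟨k, hk⟩ := Nat.exists_eq_add_one_of_ne_zero hN0
  have hnotk : ¬ ∀ a ∈ IsLocalRing.maximalIdeal R ^ k, a • y = 0 := Nat.find_min hex (by omega)
  push Not at hnotk
  obtain ⟨a, ha, hay⟩ := hnotk
  have hzSoc : a • y ∈ LocCoh.torsionBy (IsLocalRing.maximalIdeal R) M := by
    rw [Submodule.mem_torsionBySet_iff]
    intro c
    rw [smul_smul]
    apply Nat.find_spec hex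
    rw [hk, pow_succ']
    exact Ideal.mul_mem_mul c.2 ha
  have h2 : φ ⟨a • y, hzSoc⟩ = 0 := by
    have h := LinearMap.congr_fun hg ⟨a • y, hzSoc⟩
    rw [← h]
    show g (a • y) = 0
    rw [map_smul, hy, smul_zero]
  have h3 := hφ (h2.trans (map_zero φ).symm)
  exact hay (congrArg Subtype.val h3)

end Groth.Agent.S0310
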