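import Groth.Statements.S0315
import Groth.Agent.Lib.helper1.MatlisEnd
import Groth.Agent.S0310

set_option autoImplicit false
universe u v
open Matlis

namespace Groth.Agent.S0315

/-- Over a Noetherian local ring a module has the descending chain condition exactly when it is killed
elementwise by powers of the maximal ideal and its socle is finite-dimensional over the residue
field. -/
theorem result (R : Type u) [CommRing R] [IsLocalRing R] [IsNoetherianRing R] (M : Type u) [AddCommGroup M] [Module R M] : IsArtinian R M ↔ (LocCoh.IsPowerTorsion (IsLocalRing.maximalIdeal R) M ∧ Module.Finite (R ⧸ IsLocalRing.maximalIdeal R) ↥(LocCoh.torsionBy (IsLocalRing.maximalIdeal R) M)) := by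
  constructor
  · intro hA
    constructor
    · intro y
      let τ : R →ₗ[R] M := LinearMap.toSpanSingleton R M y
      haveI h1 : IsArtinian R (R ⧸ LinearMap.ker τ) :=
        isArtinian_of_linearEquiv τ.quotKerEquivRange.symm
      haveI h2 : IsArtinianRing (R ⧸ LinearMap.ker τ) := isArtinian_of_tower R h1
      obtain ⟨n, hn⟩ :=
        IsLocalRing.exists_maximalIdeal_pow_le_of_isArtinianRing_quotient (LinearMap.ker τ)
      refine ⟨n, fun a ha => ?_⟩
      have h3 := hn ha
      rwa [LinearMap.mem_ker, LinearMap.toSpanSingleton_apply] at h3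
    · letI : Field (R ⧸ IsLocalRing.maximalIdeal R) := Ideal.Quotient.field _
      have h1 : IsArtinian (R ⧸ IsLocalRing.maximalIdeal R)
          ↥(LocCoh.torsionBy (IsLocalRing.maximalIdeal R) M) :=
        isArtinian_of_tower R inferInstance
      exact (IsSemisimpleModule.finite_tfae.out 2 0).mp h1
  · rintro ⟨hpt, hfin⟩
    obtain ⟨E, _, _, f, hf⟩ := Helper1.exists_injective_hull (R := R) (IsLocalRing.ResidueField R)
    obtain ⟨g, hg⟩ := Groth.Agent.S0310.result R E f hf M hpt _ rfl
    haveI : IsArtinian R E := Helper1.isArtinian_of_hull f hf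
    exact isArtinian_of_injective g hg

end Groth.Agent.S0315
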