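import Groth.Statements.S0319
import Mathlib

set_option autoImplicit false
universe u v
open CategoryTheory
open LocCoh

namespace Groth.Agent.S0319

universe w' v' u'

theorem subsingleton_ext_of_iso {C : Type u'} [Category.{v'} C] [Abelian C] [HasExt.{w'} C]
    {X X' Y : C} (e : X ≅ X') (n : ℕ)
    (h : Subsingleton (Abelian.Ext X' Y n)) : Subsingleton (Abelian.Ext X Y n) := by
  constructor
  intro α β
  have key : ∀ γ : Abelian.Ext X Y n, γ = (Abelian.Ext.mk₀ e.hom).comp
      ((Abelian.Ext.mk₀ e.inv).comp γ (zero_add n)) (zero_add n) := by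
    intro γ
    rw [← Abelian.Ext.comp_assoc (Abelian.Ext.mk₀ e.hom) (Abelian.Ext.mk₀ e.inv) γ (add_zero 0)
      (zero_add n) (by omega), Abelian.Ext.mk₀_comp_mk₀, e.hom_inv_id, Abelian.Ext.mk₀_id_comp]
  rw [key α, key β, Subsingleton.elim ((Abelian.Ext.mk₀ e.inv).comp α (zero_add n))
    ((Abelian.Ext.mk₀ e.inv).comp β (zero_add n))]


/-- Part (1): =(2): for a finite module M over a Noetherian ring and an ideal I with IM ≠ M, the I-depth
of M is the least i with Ext^i(R/I, M) nonzero. (Close to Mathlib's Rees criterion; kept at low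
weight to pin our depth to Mathlib's Ext.) -/
theorem result (R : Type u) [CommRing R] [IsNoetherianRing R] (I : Ideal R) (M : Type u) [AddCommGroup M] [Module R M] [Module.Finite R M] (hIM : I • (⊤ : Submodule R M) ≠ ⊤) (n : ℕ) : LocCoh.idealDepth I M = n ↔ ((∀ i : ℕ, i < n → Subsingleton (Abelian.Ext (ModuleCat.of R (R ⧸ I)) (ModuleCat.of R M) i)) ∧ Nontrivial (Abelian.Ext (ModuleCat.of R (R ⧸ I)) (ModuleCat.of R M) n)) := by
  classical
  have smul_lt : I • (⊤ : Submodule R M) < ⊤ := lt_top_iff_ne_top.mpr hIM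
  have hEP : ∀ k : ℕ, (∀ i < k, Subsingleton
      (Abelian.Ext (ModuleCat.of R (R ⧸ I)) (ModuleCat.of R M) i)) ↔
      ∃ rs : List R, rs.length = k ∧ (∀ r ∈ rs, r ∈ I) ∧ RingTheory.Sequence.IsRegular M rs := by
    intro k
    have h24 := (ModuleCat.exists_isRegular_tfae I k (ModuleCat.of R M) smul_lt).out 1 3
    rw [← h24]
    constructor
    · intro h i hi
      exact subsingleton_ext_of_iso (Shrink.linearEquiv R (R ⧸ I)).toModuleIso i (h i hi)
    · intro h i hi
      exact subsingleton_ext_of_iso (Shrink.linearEquiv R (R ⧸ I)).toModuleIso.symm i (h i hi)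
  have hdepth : LocCoh.idealDepth I M = ⨆ (rs : List R)
      (_ : RingTheory.Sequence.IsWeaklyRegular M rs ∧ ∀ r ∈ rs, r ∈ I), (rs.length : ℕ∞) := by
    unfold LocCoh.idealDepth; rw [if_neg hIM]
  have hreg_of_weak : ∀ rs : List R, RingTheory.Sequence.IsWeaklyRegular M rs →
      (∀ r ∈ rs, r ∈ I) → RingTheory.Sequence.IsRegular M rs := by
    intro rs hw hmem
    refine ⟨hw, ?_⟩
    intro htop
    have hle : Ideal.ofList rs ≤ I := Ideal.span_le.mpr hmem
    have h1 : (⊤ : Submodule R M) ≤ I • ⊤ := htop.le.trans (Submodule.smul_mono_left hle)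
    exact hIM (top_le_iff.mp h1)
  have hle_iff : ∀ k : ℕ, (k : ℕ∞) ≤ LocCoh.idealDepth I M ↔ (∀ i < k, Subsingleton
      (Abelian.Ext (ModuleCat.of R (R ⧸ I)) (ModuleCat.of R M) i)) := by
    intro k
    constructor
    · intro hk
      rcases Nat.eq_zero_or_pos k with rfl | hkpos
      · intro i hi; exact absurd hi (Nat.not_lt_zero i)
      · rw [hdepth] at hk
        have hlt : ((k - 1 : ℕ) : ℕ∞) < ⨆ (rs : List R)
            (_ : RingTheory.Sequence.IsWeaklyRegular M rs ∧ ∀ r ∈ rs, r ∈ I), (rs.length : ℕ∞) :=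
          lt_of_lt_of_le (by exact_mod_cast Nat.sub_lt hkpos one_pos) hk
        rw [lt_iSup_iff] at hlt
        obtain ⟨rs, hlt⟩ := hlt
        rw [lt_iSup_iff] at hlt
        obtain ⟨⟨hw, hmem⟩, hlt⟩ := hlt
        have hklen : k ≤ rs.length := by
          have h1 : k - 1 < rs.length := by exact_mod_cast hlt
          omega
        have hE := (hEP rs.length).mpr ⟨rs, rfl, hmem, hreg_of_weak rs hw hmem⟩
        exact fun i hi => hE i (lt_of_lt_of_le hi hklen)
    · intro hE
      obtain ⟨rs, hlen, hmem, hreg⟩ := (hEP k).mp hE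
      rw [hdepth, ← hlen]
      exact le_iSup₂ (f := fun (rs : List R)
        (_ : RingTheory.Sequence.IsWeaklyRegular M rs ∧ ∀ r ∈ rs, r ∈ I) => (rs.length : ℕ∞))
        rs ⟨hreg.toIsWeaklyRegular, hmem⟩
  have hn := hle_iff n
  have hn1 := hle_iff (n + 1)
  constructor
  · intro hd
    have h1 : (n : ℕ∞) ≤ LocCoh.idealDepth I M := le_of_eq hd.symm
    have h2 : ¬ ((n + 1 : ℕ) : ℕ∞) ≤ LocCoh.idealDepth I M := by
      rw [hd]; exact_mod_cast Nat.not_succ_le_self n
    refine ⟨hn.mp h1, ?_⟩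
    by_contra hnt
    rw [not_nontrivial_iff_subsingleton] at hnt
    apply h2
    apply hn1.mpr
    intro i hi
    rcases Nat.lt_succ_iff_lt_or_eq.mp hi with h | rfl
    · exact hn.mp h1 i h
    · exact hnt
  · rintro ⟨hE, hnt⟩
    have h1 : (n : ℕ∞) ≤ LocCoh.idealDepth I M := hn.mpr hE
    have h2 : ¬ ((n + 1 : ℕ) : ℕ∞) ≤ LocCoh.idealDepth I M := by
      intro h
      have h3 := hn1.mp h n (Nat.lt_succ_self n)
      exact not_subsingleton _ h3
    apply le_antisymm _ h1
    by_contra hlt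
    push Not at hlt
    have h3 : (n : ℕ∞) + 1 ≤ LocCoh.idealDepth I M := Order.add_one_le_of_lt hlt
    apply h2
    rw [Nat.cast_add, Nat.cast_one]; exact h3

end Groth.Agent.S0319
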