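import Groth.Statements.S0320
import Mathlib
import Groth.Agent.Lib.helper1.DepthExt

set_option autoImplicit false
universe u v
open LocCoh

namespace Groth.Agent.S0320

theorem arith2 (a b : ℕ∞) (h : ∀ k : ℕ, (k : ℕ∞) ≤ a ↔ ((k + 1 : ℕ) : ℕ∞) ≤ b) : a + 1 = b := by
  rcases eq_or_ne a ⊤ with ha | ha
  · subst ha
    have hb : b = ⊤ := by
      rw [ENat.eq_top_iff_forall_ge]
      intro m
      have h1 := (h m).mp le_top
      exact le_trans (by exact_mod_cast Nat.le_succ m) h1
    rw [hb]; rfl
  · lift a to ℕ using ha with m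
    apply le_antisymm
    · have h1 := (h m).mp le_rfl
      rw [Nat.cast_add, Nat.cast_one] at h1
      exact h1
    · by_contra hlt
      push Not at hlt
      have h1 : (m : ℕ∞) + 1 + 1 ≤ b := Order.add_one_le_of_lt hlt
      have h2 : (((m + 1) + 1 : ℕ) : ℕ∞) ≤ b := by push_cast; exact h1
      have h3 := (h (m + 1)).mpr h2
      have h4 : m + 1 ≤ m := by exact_mod_cast h3
      omega


/-- For a finite module M over a Noetherian ring with IM ≠ M and x ∈ I a non-zero-divisor on M, the
I-depth of M/xM is one less than that of M. -/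
theorem result (R : Type u) [CommRing R] [IsNoetherianRing R] (I : Ideal R) (M : Type u) [AddCommGroup M] [Module R M] [Module.Finite R M] (hIM : I • (⊤ : Submodule R M) ≠ ⊤) (x : R) (hx : x ∈ I) (hreg : IsSMulRegular M x) : LocCoh.idealDepth I (QuotSMulTop x M) + 1 = LocCoh.idealDepth I M := by
  classical
  have hIQ : I • (⊤ : Submodule R (QuotSMulTop x M)) ≠ ⊤ :=
    Helper1.DepthExt.smul_top_quotSMulTop_ne_top R I M hx hIM
  apply arith2
  intro k
  constructor
  · intro hk
    obtain ⟨rs, hlen, hmem, hregs⟩ :=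
      (Helper1.DepthExt.le_idealDepth_iff_exists_regular R I (QuotSMulTop x M) hIQ k).mp hk
    apply (Helper1.DepthExt.le_idealDepth_iff_exists_regular R I M hIM (k + 1)).mpr
    refine ⟨x :: rs, by simp [hlen], ?_, ?_⟩
    · intro r hr
      rcases List.mem_cons.mp hr with rfl | hr
      · exact hx
      · exact hmem r hr
    · exact (RingTheory.Sequence.isRegular_cons_iff M x rs).mpr ⟨hreg, hregs⟩
  · intro hk
    have hE := (Helper1.DepthExt.le_idealDepth_iff_ext R I M hIM (k + 1)).mp hk
    exact (Helper1.DepthExt.le_idealDepth_iff_ext R I (QuotSMulTop x M) hIQ k).mpr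
      (Helper1.DepthExt.ext_quotSMulTop R I M x hreg k hE)

end Groth.Agent.S0320
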