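import Groth.Statements.S0321
import Mathlib
import Groth.Agent.Lib.helper1.DepthExt

set_option autoImplicit false
universe u v
open LocCoh

namespace Groth.Agent.S0321

open CategoryTheory

universe w' v' u'

section abstract
variable {R : Type u} [CommRing R] {C : Type u'} [Category.{v'} C] [Abelian C]
  [HasExt.{w'} C]

theorem ext_subsingleton_of_smul [Linear R C] (X Y : C) (r : R)
    (hX : r • 𝟙 X = 𝟙 X) (hY : r • 𝟙 Y = 0) (n : ℕ) : Subsingleton (Abelian.Ext X Y n) := by
  have key : ∀ α : Abelian.Ext X Y n, α = 0 := by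
    intro α
    have h1 : r • α = α := by
      calc r • α = r • ((Abelian.Ext.mk₀ (𝟙 X)).comp α (zero_add n)) := by
            rw [Abelian.Ext.mk₀_id_comp]
        _ = (r • Abelian.Ext.mk₀ (𝟙 X)).comp α (zero_add n) :=
            (Abelian.Ext.smul_comp _ _ _ _).symm
        _ = (Abelian.Ext.mk₀ (r • 𝟙 X)).comp α (zero_add n) := by rw [Abelian.Ext.mk₀_smul]
        _ = α := by rw [hX, Abelian.Ext.mk₀_id_comp]
    have h2 : r • α = 0 := by
      rw [Abelian.Ext.smul_eq_comp_mk₀, hY, Abelian.Ext.mk₀_zero, Abelian.Ext.comp_zero]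
    rw [← h1, h2]
  exact ⟨fun a b => by rw [key a, key b]⟩

theorem les_mid (X : C) {S : ShortComplex C} (hS : S.ShortExact) (i : ℕ)
    (h1 : Subsingleton (Abelian.Ext X S.X₁ i)) (h3 : Subsingleton (Abelian.Ext X S.X₃ i)) :
    Subsingleton (Abelian.Ext X S.X₂ i) := by
  suffices H : ∀ x : Abelian.Ext X S.X₂ i, x = 0 from ⟨fun a b => by rw [H a, H b]⟩
  intro x
  obtain ⟨x₁, hx₁⟩ := Abelian.Ext.covariant_sequence_exact₂ X hS x (Subsingleton.elim _ _)
  rw [← hx₁, Subsingleton.elim x₁ 0, Abelian.Ext.zero_comp]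

theorem les_right (X : C) {S : ShortComplex C} (hS : S.ShortExact) (i : ℕ)
    (h2 : Subsingleton (Abelian.Ext X S.X₂ i)) (h1 : Subsingleton (Abelian.Ext X S.X₁ (i + 1))) :
    Subsingleton (Abelian.Ext X S.X₃ i) := by
  suffices H : ∀ x : Abelian.Ext X S.X₃ i, x = 0 from ⟨fun a b => by rw [H a, H b]⟩
  intro x
  obtain ⟨x₂, hx₂⟩ := Abelian.Ext.covariant_sequence_exact₃ X hS x rfl (Subsingleton.elim _ _)
  rw [← hx₂, Subsingleton.elim x₂ 0, Abelian.Ext.zero_comp]

theorem les_left_succ (X : C) {S : ShortComplex C} (hS : S.ShortExact) (i : ℕ)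
    (h2 : Subsingleton (Abelian.Ext X S.X₂ (i + 1))) (h3 : Subsingleton (Abelian.Ext X S.X₃ i)) :
    Subsingleton (Abelian.Ext X S.X₁ (i + 1)) := by
  suffices H : ∀ x : Abelian.Ext X S.X₁ (i + 1), x = 0 from ⟨fun a b => by rw [H a, H b]⟩
  intro x
  obtain ⟨x₃, hx₃⟩ := Abelian.Ext.covariant_sequence_exact₁ X hS x (Subsingleton.elim _ _) rfl
  rw [← hx₃, Subsingleton.elim x₃ 0, Abelian.Ext.zero_comp]

theorem les_left_zero (X : C) {S : ShortComplex C} (hS : S.ShortExact)
    (h2 : Subsingleton (Abelian.Ext X S.X₂ 0)) :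
    Subsingleton (Abelian.Ext X S.X₁ 0) := by
  haveI := hS.mono_f
  exact (Abelian.Ext.postcomp_mk₀_injective_of_mono X S.f).subsingleton

end abstract

theorem le_idealDepth_iff_ext' (R : Type u) [CommRing R] [IsNoetherianRing R] (I : Ideal R)
    (N : Type u) [AddCommGroup N] [Module R N] [Module.Finite R N] (k : ℕ) :
    (k : ℕ∞) ≤ LocCoh.idealDepth I N ↔ ∀ i < k, Subsingleton
      (Abelian.Ext (ModuleCat.of R (R ⧸ I)) (ModuleCat.of R N) i) := by
  classical
  by_cases hIN : I • (⊤ : Submodule R N) = ⊤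
  · have h1 : LocCoh.idealDepth I N = ⊤ := by unfold LocCoh.idealDepth; rw [if_pos hIN]
    rw [h1]
    refine ⟨fun _ i _ => ?_, fun _ => le_top⟩
    obtain ⟨r, hr1, hr2⟩ := Submodule.exists_sub_one_mem_and_smul_eq_zero_of_fg_of_le_smul I
      (⊤ : Submodule R N) Module.Finite.fg_top (le_of_eq hIN.symm)
    apply ext_subsingleton_of_smul (ModuleCat.of R (R ⧸ I)) (ModuleCat.of R N) r
    · refine ModuleCat.hom_ext (LinearMap.ext fun x => ?_)
      obtain ⟨a, rfl⟩ := Submodule.Quotient.mk_surjective I x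
      rw [ModuleCat.hom_smul, ModuleCat.hom_id, LinearMap.smul_apply, LinearMap.id_apply]
      show r • (Submodule.Quotient.mk a : R ⧸ I) = Submodule.Quotient.mk a
      rw [← Submodule.Quotient.mk_smul, Submodule.Quotient.eq]
      have h3 : r • a - a = (r - 1) * a := by rw [smul_eq_mul]; ring
      rw [h3]; exact I.mul_mem_right _ hr1
    · refine ModuleCat.hom_ext (LinearMap.ext fun x => ?_)
      rw [ModuleCat.hom_smul, ModuleCat.hom_id, LinearMap.smul_apply, LinearMap.id_apply]
      exact hr2 x Submodule.mem_top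
  · exact Helper1.DepthExt.le_idealDepth_iff_ext R I N hIN k


/-- Depth inequalities along a short exact sequence 0 → N' → N → N'' → 0 of finite modules over a
Noetherian ring: depth N ≥ min(depth N', depth N''), depth N'' ≥ min(depth N, depth N' − 1), depth
N' ≥ min(depth N, depth N'' + 1). -/
theorem result (R : Type u) [CommRing R] [IsNoetherianRing R] (I : Ideal R) (N' : Type u) [AddCommGroup N'] [Module R N'] [Module.Finite R N'] (N : Type u) [AddCommGroup N] [Module R N] [Module.Finite R N] (N'' : Type u) [AddCommGroup N''] [Module R N''] [Module.Finite R N''] (f : N' →ₗ[R] N) (g : N →ₗ[R] N'') (hf : Function.Injective f) (hg : Function.Surjective g) (hfg : Function.Exact f g) : min (LocCoh.idealDepth I N') (LocCoh.idealDepth I N'') ≤ LocCoh.idealDepth I N ∧ min (LocCoh.idealDepth I N) (LocCoh.idealDepth I N' - 1) ≤ LocCoh.idealDepth I N'' ∧ min (LocCoh.idealDepth I N) (LocCoh.idealDepth I N'' + 1) ≤ LocCoh.idealDepth I N' := by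
  classical
  have h0 : g.comp f = 0 := LinearMap.ext fun x => hfg.apply_apply_eq_zero x
  have hS : (ShortComplex.moduleCatMk f g h0).ShortExact :=
    ModuleCat.shortComplex_shortExact _ hfg hf hg
  refine ⟨?_, ?_, ?_⟩
  · rw [← ENat.forall_natCast_le_iff_le]
    intro k hk
    rw [le_min_iff] at hk
    rw [le_idealDepth_iff_ext' R I N k]
    have h1 := (le_idealDepth_iff_ext' R I N' k).mp hk.1
    have h3 := (le_idealDepth_iff_ext' R I N'' k).mp hk.2
    intro i hi
    exact les_mid (ModuleCat.of R (R ⧸ I)) hS i (h1 i hi) (h3 i hi)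
  · rw [← ENat.forall_natCast_le_iff_le]
    intro k hk
    rw [le_min_iff] at hk
    rw [le_idealDepth_iff_ext' R I N'' k]
    have h2 := (le_idealDepth_iff_ext' R I N k).mp hk.1
    intro i hi
    have hk0 : 1 ≤ k := by omega
    have h1a : (1 : ℕ∞) ≤ LocCoh.idealDepth I N' :=
      le_trans (by exact_mod_cast hk0) (le_trans hk.2 tsub_le_self)
    have hk1 : (k : ℕ∞) + 1 ≤ LocCoh.idealDepth I N' := add_le_of_le_tsub_right_of_le h1a hk.2
    have h1 := (le_idealDepth_iff_ext' R I N' (k + 1)).mp (by exact_mod_cast hk1)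
    exact les_right (ModuleCat.of R (R ⧸ I)) hS i (h2 i hi) (h1 (i + 1) (by omega))
  · rw [← ENat.forall_natCast_le_iff_le]
    intro k hk
    rw [le_min_iff] at hk
    rw [le_idealDepth_iff_ext' R I N' k]
    have h2 := (le_idealDepth_iff_ext' R I N k).mp hk.1
    intro i hi
    cases i with
    | zero => exact les_left_zero (ModuleCat.of R (R ⧸ I)) hS (h2 0 hi)
    | succ j =>
      have hj : j + 2 ≤ k := by omega
      have h5 : ((j + 1 : ℕ) : ℕ∞) + 1 ≤ LocCoh.idealDepth I N'' + 1 :=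
        le_trans (by exact_mod_cast hj) hk.2
      have h6 : ((j + 1 : ℕ) : ℕ∞) ≤ LocCoh.idealDepth I N'' :=
        (ENat.add_le_add_iff_right (by simp)).mp h5
      have h3 := (le_idealDepth_iff_ext' R I N'' (j + 1)).mp h6
      exact les_left_succ (ModuleCat.of R (R ⧸ I)) hS j (h2 (j + 1) hi) (h3 j (Nat.lt_succ_self j))

end Groth.Agent.S0321
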