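import Groth.Statements.S0346
import Mathlib

set_option autoImplicit false
universe u v
open CategoryTheory MonoidalCategory CartesianMonoidalCategory MonObj GrpObj AlgebraicGeometry
open GrpSch

namespace Groth.Agent.S0346

/-- A group scheme over any base scheme is separated over the base exactly when its unit section is a
closed immersion, and quasi-separated exactly when the unit section is quasi-compact. -/
theorem result (S : Scheme.{u}) (G : Over S) [GrpObj G] : (IsSeparated G.hom ↔ IsClosedImmersion η[G].left) ∧ (QuasiSeparated G.hom ↔ QuasiCompact η[G].left) := by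
  have hsec : η[G].left ≫ G.hom = 𝟙 S := by
    have := Over.w η[G]
    simpa using this
  let d : G ⊗ G ⟶ G := (fst G G)⁻¹ * snd G G
  have hpb : IsPullback (toUnit G) (lift (𝟙 G) (𝟙 G)) η[G] d := by
    have hw : toUnit G ≫ η[G] = lift (𝟙 G) (𝟙 G) ≫ d := by
      simp only [d, MonObj.comp_mul, GrpObj.comp_inv, lift_fst, lift_snd]
      rw [inv_mul_cancel, Hom.one_def]
    refine IsPullback.of_isLimit (Limits.PullbackCone.IsLimit.mk hw
      (fun s => s.snd ≫ fst G G) ?_ ?_ ?_)
    · intro s; exact toUnit_unique _ _
    · intro s
      have hc := s.condition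
      have h1 : s.snd ≫ fst G G = s.snd ≫ snd G G := by
        have h2 : (s.snd ≫ fst G G)⁻¹ * (s.snd ≫ snd G G) = (1 : s.pt ⟶ G) := by
          have h3 : s.fst ≫ η[G] = (1 : s.pt ⟶ G) := by
            rw [Hom.one_def]; congr 1; exact toUnit_unique _ _
          rw [← h3, hc]; simp only [d, MonObj.comp_mul, GrpObj.comp_inv]
        exact inv_mul_eq_one.mp h2
      apply CartesianMonoidalCategory.hom_ext
      · simp
      · simp [h1]
    · intro s m hm1 hm2
      rw [← hm2]; simp
  have hpb' := hpb.map (Over.forget S)
  have hdiag : (lift (𝟙 G) (𝟙 G)).left = Limits.pullback.diagonal G.hom := rfl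
  constructor
  · constructor
    · intro h
      haveI : IsClosedImmersion (η[G].left ≫ G.hom) := by
        rw [hsec]; exact MorphismProperty.id_mem (@IsClosedImmersion) S
      exact IsClosedImmersion.of_comp η[G].left G.hom
    · intro h
      have : IsClosedImmersion (lift (𝟙 G) (𝟙 G)).left :=
        MorphismProperty.of_isPullback (P := @IsClosedImmersion) hpb' h
      rw [hdiag] at this
      exact ⟨this⟩
  · constructor
    · intro h
      haveI : QuasiCompact (η[G].left ≫ G.hom) := by
        rw [hsec]; exact MorphismProperty.id_mem (@QuasiCompact) S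
      exact QuasiCompact.of_comp η[G].left G.hom
    · intro h
      have : QuasiCompact (lift (𝟙 G) (𝟙 G)).left :=
        MorphismProperty.of_isPullback (P := @QuasiCompact) hpb' h
      rw [hdiag] at this
      exact ⟨this⟩

end Groth.Agent.S0346
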