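import Groth.Statements.S0347
import Mathlib

set_option autoImplicit false
universe u v
open CategoryTheory MonoidalCategory CartesianMonoidalCategory MonObj GrpObj AlgebraicGeometry
open GrpSch

namespace Groth.Agent.S0347

/-- The multiplication map of a group scheme over a field is an open map of topological spaces. -/
theorem result (K : Type u) [Field K] (G : Over (Spec (CommRingCat.of K))) [GrpObj G] : IsOpenMap (μ[G].left : (G ⊗ G).left ⟶ G.left) := by
  let a : G ⊗ G ⟶ G ⊗ G := lift (fst G G) (fst G G * snd G G)
  let b : G ⊗ G ⟶ G ⊗ G := lift (fst G G) ((fst G G)⁻¹ * snd G G)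
  have hab : a ≫ b = 𝟙 _ := by
    apply CartesianMonoidalCategory.hom_ext
    · simp [a, b]
    · simp only [a, b, Category.assoc, lift_snd, MonObj.comp_mul, GrpObj.comp_inv,
        lift_fst, Category.id_comp]
      rw [inv_mul_cancel_left]
  have hba : b ≫ a = 𝟙 _ := by
    apply CartesianMonoidalCategory.hom_ext
    · simp [a, b]
    · simp only [a, b, Category.assoc, lift_snd, MonObj.comp_mul,
        lift_fst, Category.id_comp]
      rw [mul_inv_cancel_left]
  haveI : IsIso a := ⟨b, hab, hba⟩
  have hμ : μ[G] = a ≫ snd G G := by
    simp only [a, lift_snd]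
    rw [Hom.mul_def, lift_fst_snd, Category.id_comp]
  rw [hμ, Over.comp_left]
  haveI h2 : IsIso a.left := (Over.forget _).map_isIso a
  haveI : UniversallyOpen G.hom := inferInstance
  haveI h3 : UniversallyOpen (snd G G).left := by
    rw [Over.snd_left]; infer_instance
  haveI : UniversallyOpen (a.left ≫ (snd G G).left) := inferInstance
  exact Scheme.Hom.isOpenMap _

end Groth.Agent.S0347
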