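import Groth.Statements.S0395
import Mathlib
import Groth.Agent.Lib.helper1.FlatInj

set_option autoImplicit false
universe u
open FlatMor

namespace Groth.Agent.S0395

open TensorProduct nonZeroDivisors in
/-- For a flat local homomorphism R → S of Noetherian local rings and an element f of S that is regular
on the fibre ring S/mS, the quotient of S by f is again R-flat and f is regular on S. -/
theorem result {R S : Type u} [CommRing R] [CommRing S] [IsLocalRing R] [IsLocalRing S] [IsNoetherianRing R] [IsNoetherianRing S] [Algebra R S] [IsLocalHom (algebraMap R S)] [Module.Flat R S]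
    (f : S) (hf : Ideal.Quotient.mk ((IsLocalRing.maximalIdeal R).map (algebraMap R S)) f ∈ nonZeroDivisors (S ⧸ ((IsLocalRing.maximalIdeal R).map (algebraMap R S)))) :
    Module.Flat R (S ⧸ Ideal.span {f}) ∧ f ∈ nonZeroDivisors S := by
  classical
  let u : S →ₗ[R] S := LinearMap.mulLeft R f
  have hmemJ : ∀ s : S, s ∈ (IsLocalRing.maximalIdeal R) • (⊤ : Submodule R S) ↔
      s ∈ (IsLocalRing.maximalIdeal R).map (algebraMap R S) := by
    intro s
    rw [Ideal.smul_top_eq_map]
    rfl
  have h : Function.Injective (u.lTensor (R ⧸ IsLocalRing.maximalIdeal R)) := by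
    rw [injective_iff_map_eq_zero]
    intro t ht
    obtain ⟨s, hs⟩ := Submodule.Quotient.mk_surjective _
      ((TensorProduct.quotTensorEquivQuotSMul S (IsLocalRing.maximalIdeal R)) t)
    have ht' : t = (1 : R ⧸ IsLocalRing.maximalIdeal R) ⊗ₜ[R] s := by
      apply (TensorProduct.quotTensorEquivQuotSMul S (IsLocalRing.maximalIdeal R)).injective
      rw [TensorProduct.quotTensorEquivQuotSMul_mk_one_tmul, hs]
    rw [ht', LinearMap.lTensor_tmul] at ht
    have h1 : f * s ∈ (IsLocalRing.maximalIdeal R) • (⊤ : Submodule R S) :=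
      (Helper1.one_tmul_eq_zero_iff _ _ _).mp ht
    rw [hmemJ] at h1
    have h2 : Ideal.Quotient.mk ((IsLocalRing.maximalIdeal R).map (algebraMap R S)) f *
        Ideal.Quotient.mk ((IsLocalRing.maximalIdeal R).map (algebraMap R S)) s = 0 := by
      rw [← map_mul]
      exact Ideal.Quotient.eq_zero_iff_mem.mpr h1
    have h3 : Ideal.Quotient.mk ((IsLocalRing.maximalIdeal R).map (algebraMap R S)) s = 0 :=
      (mul_left_mem_nonZeroDivisors_eq_zero_iff hf).mp h2
    have h4 : s ∈ (IsLocalRing.maximalIdeal R).map (algebraMap R S) :=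
      Ideal.Quotient.eq_zero_iff_mem.mp h3
    rw [ht']
    exact (Helper1.one_tmul_eq_zero_iff _ _ _).mpr ((hmemJ s).mpr h4)
  obtain ⟨hinj, hflat⟩ := Helper1.injective_and_flat_of_residue (S := S) u h
  constructor
  · haveI := hflat
    have heq : LinearMap.range u = (Ideal.span {f}).restrictScalars R := by
      ext x
      rw [Submodule.restrictScalars_mem, Ideal.mem_span_singleton']
      constructor
      · rintro ⟨y, rfl⟩
        exact ⟨y, mul_comm y f⟩
      · rintro ⟨y, rfl⟩
        exact ⟨y, mul_comm f y⟩
    exact Module.Flat.of_linearEquiv ((Submodule.quotEquivOfEq _ _ heq).trans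
      (Submodule.Quotient.restrictScalarsEquiv R (Ideal.span {f}))).symm
  · rw [mem_nonZeroDivisors_iff_left]
    intro x hx
    apply hinj
    show f * x = f * 0
    rw [hx, mul_zero]

end Groth.Agent.S0395
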