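import Groth.Statements.S0397
import Mathlib

set_option autoImplicit false
universe u
open FlatMor

namespace Groth.Agent.S0397

theorem eq_top_of_sup_smul_of_nilpotent {R M : Type*} [CommRing R] [AddCommGroup M] [Module R M]
    (I : Ideal R) (hI : IsNilpotent I) (N : Submodule R M) (h : (⊤ : Submodule R M) ≤ N ⊔ I • ⊤) :
    N = ⊤ := by
  obtain ⟨n, hn⟩ := hI
  have key : ∀ j : ℕ, (⊤ : Submodule R M) ≤ N ⊔ (I ^ j) • ⊤ := by
    intro j
    induction j with
    | zero => simp
    | succ j ih =>
      calc (⊤ : Submodule R M) ≤ N ⊔ I • ⊤ := h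
        _ ≤ N ⊔ I • (N ⊔ (I ^ j) • ⊤) := by
            gcongr
        _ ≤ N ⊔ (I ^ (j + 1)) • ⊤ := by
            rw [Submodule.smul_sup, ← Submodule.mul_smul, ← pow_succ']
            refine sup_le le_sup_left (sup_le ?_ le_sup_right)
            exact le_sup_of_le_left Submodule.smul_le_right
  have h2 := key n
  rw [hn] at h2
  simpa using h2

open TensorProduct IsLocalRing in
theorem span_eq_top_of_tmul_eq_basis_of_nilpotent {R M : Type*} [CommRing R] [IsLocalRing R]
    (hR : IsNilpotent (maximalIdeal R)) [AddCommGroup M] [Module R M] {ι : Type*}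
    (f : ι → M) (b : Module.Basis ι (ResidueField R) (ResidueField R ⊗[R] M))
    (hb : ∀ i, (1 : ResidueField R) ⊗ₜ[R] f i = b i) : Submodule.span R (Set.range f) = ⊤ := by
  set N := Submodule.span R (Set.range f) with hNdef
  have hN : N.map (TensorProduct.mk R (ResidueField R) M 1) = ⊤ := by
    rw [hNdef, Submodule.map_span, ← Submodule.restrictScalars_span R (ResidueField R)
      Ideal.Quotient.mk_surjective, Submodule.restrictScalars_eq_top_iff,
      ← b.span_eq, ← Set.range_comp]
    simp only [Function.comp_def, mk_apply, hb, Module.Basis.span_eq]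
  let : Module (ResidueField R) (M ⧸ (maximalIdeal R • ⊤ : Submodule R M)) :=
    inferInstanceAs (Module (R ⧸ maximalIdeal R) (M ⧸ maximalIdeal R • (⊤ : Submodule R M)))
  let : IsScalarTower R (ResidueField R) (M ⧸ (maximalIdeal R • ⊤ : Submodule R M)) :=
    inferInstanceAs (IsScalarTower R (R ⧸ maximalIdeal R)
      (M ⧸ maximalIdeal R • (⊤ : Submodule R M)))
  let g := AlgebraTensorModule.lift (((LinearMap.ringLmapEquivSelf (ResidueField R)
    (ResidueField R) _).symm
    (Submodule.mkQ (maximalIdeal R • ⊤ : Submodule R M))).restrictScalars R)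
  have hg : g.comp (TensorProduct.mk R (ResidueField R) M 1) =
      Submodule.mkQ (maximalIdeal R • ⊤) := by ext; simp [g]
  have hgs : Function.Surjective g := by
    intro x; obtain ⟨x, rfl⟩ := Submodule.mkQ_surjective _ x
    rw [← hg, LinearMap.comp_apply]; exact ⟨_, rfl⟩
  apply_fun Submodule.map g at hN
  rw [← Submodule.map_comp, hg, Submodule.map_top, LinearMap.range_eq_top.2 hgs] at hN
  apply eq_top_of_sup_smul_of_nilpotent _ hR
  have h3 : (⊤ : Submodule R M) ≤ maximalIdeal R • ⊤ ⊔ N := by
    simpa using Submodule.comap_mono (f := Submodule.mkQ (maximalIdeal R • (⊤ : Submodule R M)))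
      hN.ge
  rwa [sup_comm] at h3


/-- Over a local ring whose maximal ideal is nilpotent, every flat module (not necessarily finitely
generated) is free. -/
theorem result {R M : Type u} [CommRing R] [IsLocalRing R] (hR : IsNilpotent (IsLocalRing.maximalIdeal R))
    [AddCommGroup M] [Module R M] [Module.Flat R M] : Module.Free R M := by
  let w := Module.Free.chooseBasis (IsLocalRing.ResidueField R)
    (TensorProduct R (IsLocalRing.ResidueField R) M)
  obtain ⟨v, eq⟩ := (TensorProduct.mk_surjective R M (IsLocalRing.ResidueField R)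
    Ideal.Quotient.mk_surjective).comp_left w
  have eq' : ⇑((TensorProduct.mk R (IsLocalRing.ResidueField R) M) 1) ∘ v = ⇑w := eq
  have hli : LinearIndependent (IsLocalRing.ResidueField R)
      (⇑((TensorProduct.mk R (IsLocalRing.ResidueField R) M) 1) ∘ v) := by
    rw [eq']; exact w.linearIndependent
  exact Module.Free.of_basis (Module.Basis.mk
    (Module.IsLocalRing.linearIndependent_of_flat _ hli)
    (span_eq_top_of_tmul_eq_basis_of_nilpotent hR _ w (congr_fun eq)).ge)

end Groth.Agent.S0397
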