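import Groth.Statements.S0399
import Mathlib
import Groth.Agent.Lib.helper1.LocalCrit3
import Groth.Agent.Lib.helper1.FlatInj

set_option autoImplicit false
universe u
open FlatMor

namespace Groth.Agent.S0399

open scoped TensorProduct

theorem alpha {A M : Type u} [CommRing A] [AddCommGroup M] [Module A M] (f : A)
    [Module.Flat (Localization.Away f) (LocalizedModule (Submonoid.powers f) M)] (I : Ideal A)
    (x : I ⊗[A] M) (hx : (I.subtype.rTensor M) x = 0) : ∃ n : ℕ, f ^ n • x = 0 := by
  haveI : Module.Flat A (Localization.Away f) := IsLocalization.flat _ (Submonoid.powers f)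
  haveI : Module.Flat A (LocalizedModule (Submonoid.powers f) M) :=
    Module.Flat.trans A (Localization.Away f) _
  obtain ⟨y, hy⟩ : ∃ y, y = (TensorProduct.comm A M I).symm x := ⟨_, rfl⟩
  have hyx : (TensorProduct.comm A M I) y = x := by rw [hy, LinearEquiv.apply_symm_apply]
  have hcomm : ∀ y : M ⊗[A] I, (I.subtype.lTensor M) y =
      (TensorProduct.comm A A M) ((I.subtype.rTensor M) ((TensorProduct.comm A M I) y)) := by
    intro y
    induction y with
    | zero => simp
    | tmul m a => rfl
    | add a b ha hb => rw [map_add, map_add, map_add, map_add, ← ha, ← hb]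
  have hy0 : (I.subtype.lTensor M) y = 0 := by
    rw [hcomm, hyx, hx, map_zero]
  have hloc : IsLocalizedModule (Submonoid.powers f)
      (TensorProduct.AlgebraTensorModule.rTensor A I
        (LocalizedModule.mkLinearMap (Submonoid.powers f) M)) := inferInstance
  have hnat : ∀ y : M ⊗[A] I,
      (I.subtype.lTensor (LocalizedModule (Submonoid.powers f) M))
        ((TensorProduct.AlgebraTensorModule.rTensor A I
          (LocalizedModule.mkLinearMap (Submonoid.powers f) M)) y) =
      (TensorProduct.AlgebraTensorModule.rTensor A A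
        (LocalizedModule.mkLinearMap (Submonoid.powers f) M)) ((I.subtype.lTensor M) y) := by
    intro y
    induction y with
    | zero => simp
    | tmul m a => rfl
    | add a b ha hb => rw [map_add, map_add, ha, hb, map_add, map_add]
  have hgy : (TensorProduct.AlgebraTensorModule.rTensor A I
      (LocalizedModule.mkLinearMap (Submonoid.powers f) M)) y = 0 := by
    apply Module.Flat.lTensor_preserves_injective_linearMap
      (M := LocalizedModule (Submonoid.powers f) M) I.subtype Subtype.val_injective
    rw [hnat, hy0, map_zero, map_zero]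
  obtain ⟨⟨_, n, rfl⟩, hc⟩ := (IsLocalizedModule.eq_zero_iff (Submonoid.powers f)
    (TensorProduct.AlgebraTensorModule.rTensor A I
      (LocalizedModule.mkLinearMap (Submonoid.powers f) M))).mp hgy
  refine ⟨n, ?_⟩
  rw [Submonoid.smul_def] at hc
  have hc' : f ^ n • y = 0 := hc
  have e : f ^ n • x = (TensorProduct.comm A M I) (f ^ n • y) := by rw [map_smul, hyx]
  rw [e, hc', map_zero]

theorem beta {A M : Type u} [CommRing A] [AddCommGroup M] [Module A M] (f : A)
    (hM : IsSMulRegular M f)
    [Module.Flat (A ⧸ Ideal.span {f}) ((A ⧸ Ideal.span {f}) ⊗[A] M)]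
    (N : Type u) [AddCommGroup N] [Module A N] (hN : IsSMulRegular N f) :
    IsSMulRegular (N ⊗[A] M) f := by
  classical
  rw [isSMulRegular_iff_right_eq_zero_of_smul]
  intro z hz
  obtain ⟨π, hπ⟩ : ∃ π : (N →₀ A) →ₗ[A] N, π = Finsupp.linearCombination A id := ⟨_, rfl⟩
  have hsurj : Function.Surjective π := by
    rw [hπ]; exact Finsupp.linearCombination_id_surjective A N
  obtain ⟨K, hK⟩ : ∃ K : Submodule A (N →₀ A), K = LinearMap.ker π := ⟨_, rfl⟩
  have hexact : Function.Exact K.subtype π := by
    rw [hK]; exact LinearMap.exact_subtype_ker_map π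
  have hKmem : ∀ v : N →₀ A, v ∈ K ↔ π v = 0 := by
    intro v; rw [hK, LinearMap.mem_ker]
  have hex2 : Function.Exact (K.subtype.rTensor M) (π.rTensor M) :=
    rTensor_exact (M := ↥K) (N := N →₀ A) (P := N) M hexact hsurj
  obtain ⟨yt, hyt⟩ := LinearMap.rTensor_surjective M hsurj z
  have h1 : (π.rTensor M) (f • yt) = 0 := by rw [map_smul, hyt, hz]
  obtain ⟨w, hw⟩ := (hex2 _).mp h1
  have hFM : ∀ t : (N →₀ A) ⊗[A] M, f • t = 0 → t = 0 := by
    intro t ht
    apply (TensorProduct.finsuppScalarLeft A M N).injective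
    rw [map_zero]
    ext n
    have h2 := congrArg (fun φ : N →₀ M => φ n)
      (congrArg (TensorProduct.finsuppScalarLeft A M N) ht)
    simp only [map_smul, map_zero, Finsupp.smul_apply, Finsupp.zero_apply] at h2
    exact (isSMulRegular_iff_right_eq_zero_of_smul.mp hM) _ h2
  obtain ⟨Kbar, hKbar⟩ : ∃ Kbar : Submodule (A ⧸ Ideal.span {f})
      ((A ⧸ Ideal.span {f}) ⊗[A] (N →₀ A)),
      Kbar = LinearMap.range (K.subtype.baseChange (A ⧸ Ideal.span {f})) := ⟨_, rfl⟩
  have hmemK : ∀ k : K, (1 : A ⧸ Ideal.span {f}) ⊗ₜ[A] (k : N →₀ A) ∈ Kbar := by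
    intro k
    rw [hKbar]
    exact ⟨(1 : A ⧸ Ideal.span {f}) ⊗ₜ[A] k, rfl⟩
  let j : K →ₗ[A] Kbar :=
    { toFun := fun k => ⟨(1 : A ⧸ Ideal.span {f}) ⊗ₜ[A] (k : N →₀ A), hmemK k⟩
      map_add' := fun k k' => by
        apply Subtype.ext
        exact TensorProduct.tmul_add _ _ _
      map_smul' := fun a k => by
        apply Subtype.ext
        exact TensorProduct.tmul_smul _ _ _ }
  have hjapp : ∀ k : K, ((j k : Kbar) : (A ⧸ Ideal.span {f}) ⊗[A] (N →₀ A)) =
      (1 : A ⧸ Ideal.span {f}) ⊗ₜ[A] (k : N →₀ A) := fun k => rfl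
  have hjsurj : Function.Surjective j := by
    rintro ⟨t, ht⟩
    rw [hKbar] at ht
    obtain ⟨s, rfl⟩ := ht
    have h3 : ∀ s : (A ⧸ Ideal.span {f}) ⊗[A] K,
        ∃ k : K, s = (1 : A ⧸ Ideal.span {f}) ⊗ₜ[A] k := by
      intro s
      induction s with
      | zero => exact ⟨0, by rw [TensorProduct.tmul_zero]⟩
      | tmul b k =>
        obtain ⟨a, rfl⟩ := Ideal.Quotient.mk_surjective b
        refine ⟨a • k, ?_⟩
        have e : (Ideal.Quotient.mk (Ideal.span {f}) a) = a • (1 : A ⧸ Ideal.span {f}) := by
          rw [Algebra.smul_def, mul_one]; rfl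
        rw [e, TensorProduct.smul_tmul]
      | add s s' hs hs' =>
        obtain ⟨k, rfl⟩ := hs
        obtain ⟨k', rfl⟩ := hs'
        exact ⟨k + k', by rw [TensorProduct.tmul_add]⟩
    obtain ⟨k, rfl⟩ := h3 s
    exact ⟨k, Subtype.ext rfl⟩
  let fK : K →ₗ[A] K := f • LinearMap.id
  have hexK : Function.Exact fK j := by
    intro k
    constructor
    · intro hk
      have h4 : (1 : A ⧸ Ideal.span {f}) ⊗ₜ[A] (k : N →₀ A) = 0 := by
        rw [← hjapp k, hk]; rfl
      rw [Helper1.one_tmul_eq_zero_iff, Submodule.ideal_span_singleton_smul] at h4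
      obtain ⟨v, -, hv⟩ := (Submodule.mem_smul_pointwise_iff_exists _ _ _).mp h4
      have hvK : v ∈ K := by
        rw [hKmem]
        apply (isSMulRegular_iff_right_eq_zero_of_smul.mp hN)
        rw [← map_smul, hv]
        exact (hKmem _).mp k.2
      exact ⟨⟨v, hvK⟩, Subtype.ext hv⟩
    · rintro ⟨k', rfl⟩
      apply Subtype.ext
      rw [hjapp]
      show (1 : A ⧸ Ideal.span {f}) ⊗ₜ[A] ((f • k' : K) : N →₀ A) = 0
      rw [Helper1.one_tmul_eq_zero_iff, Submodule.coe_smul]
      exact Submodule.smul_mem_smul (Ideal.mem_span_singleton_self f) Submodule.mem_top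
  have hex3 : Function.Exact (fK.rTensor M) (j.rTensor M) := rTensor_exact (M := ↥K) (N := ↥K) (P := ↥Kbar) M hexK hjsurj
  have hinj := Helper1.rTensor_restrictScalars_injective_of_flat_baseChange (R := A) (M := M)
    (A ⧸ Ideal.span {f}) Kbar
  have hnat : ∀ w : K ⊗[A] M,
      ((Kbar.subtype.restrictScalars A).rTensor M) ((j.rTensor M) w) =
      ((TensorProduct.mk A (A ⧸ Ideal.span {f}) (N →₀ A) 1).rTensor M)
        ((K.subtype.rTensor M) w) := by
    intro w
    induction w with
    | zero => simp
    | tmul k m => rfl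
    | add a b ha hb => rw [map_add, map_add, ha, hb, map_add, map_add]
  have hkill : ∀ t : ((A ⧸ Ideal.span {f}) ⊗[A] (N →₀ A)) ⊗[A] M, f • t = 0 := by
    intro t
    induction t with
    | zero => rw [smul_zero]
    | tmul x m =>
      rw [TensorProduct.smul_tmul']
      have hx0 : f • x = 0 := by
        induction x with
        | zero => rw [smul_zero]
        | tmul b v =>
          rw [TensorProduct.smul_tmul']
          have hb : f • b = 0 := by
            rw [Algebra.smul_def]
            have h0 : algebraMap A (A ⧸ Ideal.span {f}) f = 0 :=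
              Ideal.Quotient.eq_zero_iff_mem.mpr (Ideal.mem_span_singleton_self f)
            rw [h0, zero_mul]
          rw [hb, TensorProduct.zero_tmul]
        | add a b ha hb => rw [smul_add, ha, hb, add_zero]
      rw [hx0, TensorProduct.zero_tmul]
    | add a b ha hb => rw [smul_add, ha, hb, add_zero]
  have hjw : (j.rTensor M) w = 0 := by
    apply hinj
    rw [map_zero, hnat, hw, map_smul]
    exact hkill _
  obtain ⟨w', hw'⟩ := (hex3 _).mp hjw
  have hw'' : w = f • w' := by
    rw [← hw']
    show ((f • LinearMap.id : K →ₗ[A] K).rTensor M) w' = f • w'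
    rw [LinearMap.rTensor_smul, LinearMap.smul_apply, LinearMap.rTensor_id, LinearMap.id_apply]
  have h5 : f • (yt - (K.subtype.rTensor M) w') = 0 := by
    rw [smul_sub, ← hw, hw'', map_smul, sub_self]
  have h6 := hFM _ h5
  rw [sub_eq_zero] at h6
  rw [← hyt, h6]
  exact hex2.apply_apply_eq_zero w'


open TensorProduct in
/-- For a ring A, a module M and an element f that is a nonzerodivisor on A and on M, if M_f is flat
over A_f and M/fM is flat over A/fA then M is flat over A (the source's companion statement for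
faithful flatness is not stated). -/
theorem result {A M : Type u} [CommRing A] [AddCommGroup M] [Module A M] (f : A) (hA : f ∈ nonZeroDivisors A) (hM : IsSMulRegular M f)
    [Module.Flat (Localization.Away f) (LocalizedModule (Submonoid.powers f) M)]
    [Module.Flat (A ⧸ Ideal.span {f}) ((A ⧸ Ideal.span {f}) ⊗[A] M)] : Module.Flat A M := by
  rw [Module.Flat.iff_rTensor_injective']
  intro I
  rw [injective_iff_map_eq_zero]
  intro x hx
  obtain ⟨n, hn⟩ := alpha f I x hx
  have hI : IsSMulRegular I f := by
    intro a b hab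
    apply Subtype.ext
    have h0 : f * (a : A) = f * (b : A) := congrArg Subtype.val hab
    have h7 : f * ((a : A) - (b : A)) = 0 := by rw [mul_sub, h0, sub_self]
    have h8 := (mul_left_mem_nonZeroDivisors_eq_zero_iff hA).mp h7
    exact sub_eq_zero.mp h8
  have hreg := beta f hM I hI
  exact (isSMulRegular_iff_right_eq_zero_of_smul.mp (hreg.pow n)) x hn

end Groth.Agent.S0399
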