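import Groth.Statements.S0400
import Mathlib
import Groth.Agent.Lib.helper1.LocalCrit2

set_option autoImplicit false
universe u
open FlatMor

namespace Groth.Agent.S0400

open TensorProduct in
/-- Fibrewise criterion of flatness, nilpotent form: let R → S be a ring map, I a nilpotent ideal of R,
and M an S-module that is flat over R and such that M/IM is flat over S/IS. Then M is flat over S.
The published statement also determines the primes of S at which S is flat over R; that part is not
stated here. -/
theorem result {R S M : Type u} [CommRing R] [CommRing S] [Algebra R S] (I : Ideal R) (hI : IsNilpotent I)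
    [AddCommGroup M] [Module S M] [Module R M] [IsScalarTower R S M] [Module.Flat R M]
    (h : Module.Flat (S ⧸ I.map (algebraMap R S)) ((S ⧸ I.map (algebraMap R S)) ⊗[S] M)) : Module.Flat S M := by
  haveI := h
  obtain ⟨n, hn⟩ := hI
  have hJn : (I.map (algebraMap R S)) ^ n = ⊥ := by
    rw [← Ideal.map_pow, hn, Ideal.zero_eq_bot, Ideal.map_bot]
  exact Helper1.flat_of_nilpotent_localCriterion (I.map (algebraMap R S)) n hJn
    (Helper1.rTensor_map_injective_of_flat I)

end Groth.Agent.S0400
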