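import Groth.Statements.S0401
import Mathlib

set_option autoImplicit false
universe u
open FlatMor

namespace Groth.Agent.S0401

/-- For a finite type ring map R → S quasi-finite at a prime q lying over p, the dimension of S_q is at
most the dimension of R_p. -/
theorem result {R S : Type u} [CommRing R] [CommRing S] [Algebra R S] [Algebra.FiniteType R S] (q : Ideal S) [q.IsPrime] [Algebra.QuasiFiniteAt R q] :
    ringKrullDim (Localization.AtPrime q) ≤ ringKrullDim (Localization.AtPrime (q.under R)) := by
  obtain ⟨r, hrq, hr⟩ := Algebra.zariskisMainProperty_iff'.mp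
    (Algebra.ZariskisMainProperty.of_finiteType (R := R) q)
  unfold ringKrullDim
  rw [Order.krullDim_eq_of_orderIso
      (IsLocalization.AtPrime.primeSpectrumOrderIso (Localization.AtPrime q) q),
    Order.krullDim_eq_of_orderIso
      (IsLocalization.AtPrime.primeSpectrumOrderIso (Localization.AtPrime (q.under R)) (q.under R))]
  let g : Set.Iic (⟨q, inferInstance⟩ : PrimeSpectrum S) →
      Set.Iic (⟨q.under R, inferInstance⟩ : PrimeSpectrum R) :=
    fun P => ⟨⟨P.1.asIdeal.comap (algebraMap R S), inferInstance⟩, Ideal.comap_mono P.2⟩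
  refine Order.krullDim_le_of_strictMono g ?_
  intro P Q hPQ
  have h1 : P.1.asIdeal < Q.1.asIdeal := hPQ
  obtain ⟨hle, y, hyQ, hyP⟩ := SetLike.lt_iff_le_and_exists.mp h1
  obtain ⟨m, hm⟩ := hr y
  have hrP : r ∉ P.1.asIdeal := fun h => hrq (P.2 h)
  have hmem : r ^ m * y ∈ (Q.1.asIdeal : Set S) \ P.1.asIdeal := by
    refine ⟨Q.1.asIdeal.mul_mem_left _ hyQ, fun h => ?_⟩
    rcases P.1.isPrime.mem_or_mem h with h2 | h2
    · exact hrP (P.1.isPrime.mem_of_pow_mem m h2)
    · exact hyP h2
  have hlt := Ideal.comap_lt_comap_of_integral_mem_sdiff (R := R) hle hmem hm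
  exact hlt

end Groth.Agent.S0401
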