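import Groth.Statements.S0415
-- import your own Groth.Agent.* helpers here

set_option autoImplicit false
universe u
open FlatMor

namespace Groth.Agent.S0415

open AlgebraicGeometry CategoryTheory Limits in
/-- A morphism of schemes is a universal homeomorphism if and only if it is integral, universally
injective and surjective. -/
theorem result {X Y : Scheme.{u}} (f : X ⟶ Y) :
    FlatMor.IsUnivHomeo f ↔ IsIntegralHom f ∧ UniversallyInjective f ∧ Surjective f := by
  constructor
  · intro h
    have hhomeo : IsHomeomorph f := h (𝟙 X) (𝟙 Y) f IsPullback.of_id_snd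
    have haff : IsAffineHom f :=
      isAffineHom_of_isInducing f hhomeo.isInducing (by
        rw [hhomeo.surjective.range_eq]; exact isClosed_univ)
    have hcl : UniversallyClosed f :=
      ⟨fun X' Y' i₁ i₂ f' H => (h i₁ i₂ f' H).isClosedMap⟩
    refine ⟨IsIntegralHom.iff_universallyClosed_and_isAffineHom.mpr ⟨hcl, haff⟩,
      ⟨fun X' Y' i₁ i₂ f' H => (h i₁ i₂ f' H).injective⟩, ⟨hhomeo.surjective⟩⟩
  · rintro ⟨hint, hinj, hsurj⟩ X' Y' i₁ i₂ f' H
    have h1 : IsIntegralHom f' := MorphismProperty.of_isPullback H.flip hint
    have h2 : UniversallyInjective f' := MorphismProperty.of_isPullback H.flip hinj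
    have h3 : Surjective f' := MorphismProperty.of_isPullback H.flip hsurj
    exact (isHomeomorph_iff_continuous_isClosedMap_bijective).2
      ⟨f'.continuous, f'.isClosedMap, f'.injective, f'.surjective⟩

end Groth.Agent.S0415
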