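import Groth.Statements.S0426
import Mathlib
import Groth.Agent.Lib.helper1.WeaklyEtale

set_option autoImplicit false
universe u
open FlatMor

namespace Groth.Agent.S0426

/-- A field extension L/K such that L is weakly étale over K (equivalently the multiplication map of L
⊗_K L is flat) is algebraic and separable. -/
theorem result {K L : Type u} [Field K] [Field L] [Algebra K L] [Algebra.WeaklyEtale K L] : Algebra.IsSeparable K L := by
  refine ⟨fun t => ?_⟩
  have hfg : (IntermediateField.adjoin K ({t} : Set L)).FG := by
    have := IntermediateField.fg_adjoin_finset (F := K) ({t} : Finset L)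
    simpa using this
  have hess : Algebra.EssFiniteType K (IntermediateField.adjoin K ({t} : Set L)) :=
    IntermediateField.essFiniteType_iff.mpr hfg
  have hwe : Algebra.WeaklyEtale K (IntermediateField.adjoin K ({t} : Set L)) :=
    Groth.Agent.S1996.result K (IntermediateField.adjoin K ({t} : Set L)) L
  have hun : Algebra.FormallyUnramified K (IntermediateField.adjoin K ({t} : Set L)) :=
    Helper1.formallyUnramified_of_weaklyEtale K _
  have hsep : Algebra.IsSeparable K (IntermediateField.adjoin K ({t} : Set L)) :=
    Algebra.FormallyUnramified.isSeparable K _
  have h1 := hsep.isSeparable' ⟨t, IntermediateField.mem_adjoin_simple_self K t⟩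
  unfold IsSeparable at h1 ⊢
  rwa [IntermediateField.minpoly_eq] at h1

end Groth.Agent.S0426
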