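import Groth.Statements.S0445
import Mathlib

set_option autoImplicit false
universe u
open FlatMor

namespace Groth.Agent.S0445

open AlgebraicGeometry CategoryTheory Limits in
lemma eq_locus {X Y S : Scheme.{u}} (p : Y ⟶ S) (f g : X ⟶ Y) (hfg : f ≫ p = g ≫ p) :
    ∃ (E : Scheme.{u}) (ι : E ⟶ X), ι ≫ f = ι ≫ g ∧
      (∀ {T : Scheme.{u}} (k : T ⟶ X), k ≫ f = k ≫ g → ∃ l : T ⟶ E, l ≫ ι = k) ∧
      (IsOpenImmersion (pullback.diagonal p) → IsOpenImmersion ι) ∧
      (IsClosedImmersion (pullback.diagonal p) → IsClosedImmersion ι) := by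
  refine ⟨pullback (pullback.lift f g hfg) (pullback.diagonal p), pullback.fst _ _, ?_, ?_, ?_, ?_⟩
  · have h := pullback.condition (f := pullback.lift f g hfg) (g := pullback.diagonal p)
    have h1 := congrArg (fun k => k ≫ pullback.fst p p) h
    have h2 := congrArg (fun k => k ≫ pullback.snd p p) h
    simp only [Category.assoc, pullback.lift_fst, pullback.lift_snd, pullback.diagonal_fst,
      pullback.diagonal_snd, Category.comp_id] at h1 h2
    rw [h1, h2]
  · intro T k hk
    have hc : k ≫ pullback.lift f g hfg = (k ≫ f) ≫ pullback.diagonal p := by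
      apply pullback.hom_ext
      · rw [Category.assoc, pullback.lift_fst, Category.assoc, pullback.diagonal_fst,
          Category.comp_id]
      · rw [Category.assoc, pullback.lift_snd, Category.assoc, pullback.diagonal_snd,
          Category.comp_id, hk]
    exact ⟨pullback.lift k (k ≫ f) hc, pullback.lift_fst _ _ _⟩
  · intro h
    infer_instance
  · intro h
    exact MorphismProperty.pullback_fst (P := @IsClosedImmersion) _ _ h

open AlgebraicGeometry CategoryTheory Limits in
lemma fromSpecResidueField_comp_eq {X Y : Scheme.{u}} (f g : X ⟶ Y) (x : X) (h1 : f x = g x)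
    (h2 : f.residueFieldMap x = (Y.residueFieldCongr h1).hom ≫ g.residueFieldMap x) :
    X.fromSpecResidueField x ≫ f = X.fromSpecResidueField x ≫ g := by
  have e1 := Scheme.Hom.SpecMap_residueFieldMap_fromSpecResidueField f x
  have e2 := Scheme.Hom.SpecMap_residueFieldMap_fromSpecResidueField g x
  have e3 := Scheme.residueFieldCongr_fromSpecResidueField (X := Y) h1
  rw [← e1, ← e2, ← e3, ← Category.assoc, ← Spec.map_comp, h2]

open AlgebraicGeometry CategoryTheory Limits in
/-- Two morphisms over S into an S-scheme unramified over S which agree at a point and induce the same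
map on residue fields there agree on an open neighbourhood of that point. -/
theorem result {X Y S : Scheme.{u}} (p : Y ⟶ S) [FormallyUnramified p] [LocallyOfFiniteType p] (f g : X ⟶ Y) (hfg : f ≫ p = g ≫ p)
    (x : X) (h1 : f x = g x) (h2 : f.residueFieldMap x = (Y.residueFieldCongr h1).hom ≫ g.residueFieldMap x) :
    ∃ U : X.Opens, x ∈ U ∧ U.ι ≫ f = U.ι ≫ g := by
  obtain ⟨E, ι, hι, hlift, hopen, -⟩ := eq_locus p f g hfg
  haveI : IsOpenImmersion ι := hopen inferInstance
  refine ⟨ι.opensRange, ?_, ?_⟩
  · obtain ⟨l, hl⟩ := hlift (X.fromSpecResidueField x) (fromSpecResidueField_comp_eq f g x h1 h2)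
    have hx : x ∈ Set.range (X.fromSpecResidueField x) := by
      rw [Scheme.range_fromSpecResidueField]
      exact Set.mem_singleton x
    obtain ⟨t, ht⟩ := hx
    refine ⟨l t, ?_⟩
    have h3 := congrArg (fun k : Spec (X.residueField x) ⟶ X => k t) hl
    exact h3.trans ht
  · have hr : Set.range ι.opensRange.ι ⊆ Set.range ι := by
      rw [Scheme.Opens.range_ι]
      exact le_rfl
    rw [← IsOpenImmersion.lift_fac ι ι.opensRange.ι hr, Category.assoc, Category.assoc, hι]

end Groth.Agent.S0445
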