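import Groth.Statements.S0448
import Mathlib

set_option autoImplicit false
universe u
open FlatMor

namespace Groth.Agent.S0448

open scoped TensorProduct

theorem flat_prod (R : Type u) [CommRing R] (M₁ M₂ : Type u) [AddCommGroup M₁] [Module R M₁]
    [AddCommGroup M₂] [Module R M₂] [Module.Flat R M₁] [Module.Flat R M₂] :
    Module.Flat R (M₁ × M₂) := by
  rw [Module.Flat.iff_lTensor_injectiveₛ]
  intro P _ _ K
  rw [injective_iff_map_eq_zero]
  intro x hx
  have h1 : (LinearMap.fst R M₁ M₂).rTensor K x = 0 := by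
    apply Module.Flat.lTensor_preserves_injective_linearMap (M := M₁) K.subtype
      Subtype.val_injective
    rw [map_zero]
    have e : (K.subtype.lTensor M₁) ((LinearMap.fst R M₁ M₂).rTensor K x) =
        (LinearMap.fst R M₁ M₂).rTensor P ((K.subtype.lTensor (M₁ × M₂)) x) := by
      rw [← LinearMap.comp_apply, ← LinearMap.comp_apply, LinearMap.lTensor_comp_rTensor,
        LinearMap.rTensor_comp_lTensor]
    rw [e, hx, map_zero]
  have h2 : (LinearMap.snd R M₁ M₂).rTensor K x = 0 := by
    apply Module.Flat.lTensor_preserves_injective_linearMap (M := M₂) K.subtype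
      Subtype.val_injective
    rw [map_zero]
    have e : (K.subtype.lTensor M₂) ((LinearMap.snd R M₁ M₂).rTensor K x) =
        (LinearMap.snd R M₁ M₂).rTensor P ((K.subtype.lTensor (M₁ × M₂)) x) := by
      rw [← LinearMap.comp_apply, ← LinearMap.comp_apply, LinearMap.lTensor_comp_rTensor,
        LinearMap.rTensor_comp_lTensor]
    rw [e, hx, map_zero]
  have hid : LinearMap.inl R M₁ M₂ ∘ₗ LinearMap.fst R M₁ M₂ +
      LinearMap.inr R M₁ M₂ ∘ₗ LinearMap.snd R M₁ M₂ = LinearMap.id := by
    apply LinearMap.ext
    rintro ⟨a, b⟩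
    simp
  have e : x = (LinearMap.id : M₁ × M₂ →ₗ[R] M₁ × M₂).rTensor K x := by
    rw [LinearMap.rTensor_id, LinearMap.id_apply]
  rw [e, ← hid, LinearMap.rTensor_add, LinearMap.add_apply, LinearMap.rTensor_comp,
    LinearMap.rTensor_comp, LinearMap.comp_apply, LinearMap.comp_apply, h1, h2, map_zero,
    map_zero, add_zero]

theorem core {R : Type u} [CommRing R] [IsLocalRing R] {B N' : Type u} [AddCommGroup N']
    [Module R N'] [Module.Flat R N'] (ũ : (B →₀ R) →ₗ[R] N')
    (h : Function.Injective (LinearMap.lTensor (IsLocalRing.ResidueField R) ũ))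
    (Q : Type u) [AddCommGroup Q] [Module R Q] :
    Function.Injective (LinearMap.lTensor Q ũ) := by
  classical
  rw [injective_iff_map_eq_zero]
  intro z hz
  obtain ⟨φ, hφ⟩ : ∃ φ : B →₀ Q, φ = TensorProduct.finsuppScalarRight R R Q B z := ⟨_, rfl⟩
  have hzrep : z = ∑ b ∈ φ.support, (φ b) ⊗ₜ[R] (Finsupp.single b (1 : R)) := by
    have h1 : z = (TensorProduct.finsuppScalarRight R R Q B).symm φ := by
      rw [hφ, LinearEquiv.symm_apply_apply]
    have h2 : φ = ∑ b ∈ φ.support, Finsupp.single b (φ b) := by
      conv_lhs => rw [← Finsupp.sum_single φ]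
      rfl
    rw [h1]
    conv_lhs => rw [h2]
    rw [map_sum]
    apply Finset.sum_congr rfl
    intro b _
    rw [TensorProduct.finsuppScalarRight_symm_apply_single]
  have hsum : ∑ b : φ.support, (fun b : φ.support => φ (b : B)) b ⊗ₜ[R]
      (fun b : φ.support => ũ (Finsupp.single (b : B) 1)) b = (0 : Q ⊗[R] N') := by
    have h2 : (LinearMap.lTensor Q ũ) z =
        ∑ b ∈ φ.support, (φ b) ⊗ₜ[R] ũ (Finsupp.single b 1) := by
      conv_lhs => rw [hzrep]
      rw [map_sum]
      apply Finset.sum_congr rfl
      intro b _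
      rw [LinearMap.lTensor_tmul]
    rw [hz] at h2
    rw [h2]
    exact Finset.sum_coe_sort φ.support (fun b => (φ b) ⊗ₜ[R] ũ (Finsupp.single b 1))
  have hflat : Function.Injective (LinearMap.rTensor N'
      (Submodule.span R (Set.range fun b : φ.support => φ (b : B))).subtype) :=
    Module.Flat.rTensor_preserves_injective_linearMap _ Subtype.val_injective
  obtain ⟨k, a, y, hy, ha⟩ :=
    TensorProduct.vanishesTrivially_of_sum_tmul_eq_zero_of_rTensor_injective R hflat hsum
  let ιs : (φ.support → R) →ₗ[R] (B →₀ R) :=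
    Fintype.linearCombination R (fun b : φ.support => Finsupp.single (b : B) (1 : R))
  let ρ : (B →₀ R) →ₗ[R] (φ.support → R) :=
    LinearMap.pi (fun b : φ.support => Finsupp.lapply (b : B))
  have hρι : ρ ∘ₗ ιs = LinearMap.id := by
    apply LinearMap.ext; intro c; funext b
    show (Fintype.linearCombination R (fun b : φ.support => Finsupp.single (b : B) (1 : R)) c)
      (b : B) = c b
    rw [Fintype.linearCombination_apply, Finsupp.finsetSum_apply]
    simp only [Finsupp.smul_apply, Finsupp.single_apply, smul_eq_mul, mul_ite, mul_one, mul_zero]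
    rw [Finset.sum_eq_single b]
    · simp
    · intro b' _ hb'
      rw [if_neg]
      intro heq
      exact hb' (Subtype.ext heq)
    · intro hb; exact absurd (Finset.mem_univ b) hb
  let A : (φ.support → R) →ₗ[R] (Fin k → R) :=
    LinearMap.pi (fun j => Fintype.linearCombination R (fun b : φ.support => a b j))
  let Y : (Fin k → R) →ₗ[R] N' := Fintype.linearCombination R y
  have hfac : ũ ∘ₗ ιs = Y ∘ₗ A := by
    apply LinearMap.ext; intro c
    show ũ (Fintype.linearCombination R _ c) = Fintype.linearCombination R y (A c)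
    rw [Fintype.linearCombination_apply, Fintype.linearCombination_apply, map_sum]
    have hA : ∀ j, A c j = ∑ b : φ.support, c b • a b j := fun j => rfl
    have hy' : ∀ b : φ.support, ũ (Finsupp.single (b : B) 1) = ∑ j, a b j • y j := hy
    simp only [map_smul, hy', hA, Finset.sum_smul, Finset.smul_sum, smul_smul, smul_eq_mul]
    rw [Finset.sum_comm]
  have hAinj : Function.Injective (LinearMap.lTensor (IsLocalRing.ResidueField R) A) := by
    have h1 : Function.Injective (LinearMap.lTensor (IsLocalRing.ResidueField R) (ũ ∘ₗ ιs)) := by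
      rw [LinearMap.lTensor_comp, LinearMap.coe_comp]
      refine h.comp ?_
      apply Function.LeftInverse.injective (g := LinearMap.lTensor (IsLocalRing.ResidueField R) ρ)
      intro x
      rw [← LinearMap.comp_apply, ← LinearMap.lTensor_comp, hρι, LinearMap.lTensor_id,
        LinearMap.id_apply]
    rw [hfac, LinearMap.lTensor_comp, LinearMap.coe_comp] at h1
    exact Function.Injective.of_comp h1
  obtain ⟨A', hA'⟩ :=
    (IsLocalRing.split_injective_iff_lTensor_residueField_injective A).mpr hAinj
  obtain ⟨zs, hzs⟩ : ∃ zs : Q ⊗[R] (φ.support → R),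
      zs = ∑ b : φ.support, (φ b) ⊗ₜ[R] (Pi.single b (1 : R) : φ.support → R) := ⟨_, rfl⟩
  have hz1 : (LinearMap.lTensor Q ιs) zs = z := by
    conv_rhs => rw [hzrep]
    rw [hzs, map_sum,
      ← Finset.sum_coe_sort φ.support (fun b => φ b ⊗ₜ[R] Finsupp.single b (1:R))]
    apply Finset.sum_congr rfl
    intro b _
    rw [LinearMap.lTensor_tmul]
    congr 1
    show Fintype.linearCombination R _ (Pi.single b (1:R)) = _
    rw [Fintype.linearCombination_apply_single, one_smul]
  have hz2 : (LinearMap.lTensor Q A) zs = 0 := by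
    rw [hzs, map_sum]
    have hAb : ∀ b : φ.support, A (Pi.single b (1 : R)) =
        ∑ j, a b j • (Pi.single j (1 : R) : Fin k → R) := by
      intro b
      funext j
      show Fintype.linearCombination R (fun b : φ.support => a b j) (Pi.single b 1) = _
      rw [Fintype.linearCombination_apply_single, one_smul, Finset.sum_apply]
      simp [Pi.single_apply]
    simp only [LinearMap.lTensor_tmul, hAb, TensorProduct.tmul_sum, TensorProduct.tmul_smul]
    rw [Finset.sum_comm]
    apply Finset.sum_eq_zero
    intro j _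
    simp only [TensorProduct.smul_tmul', ← TensorProduct.sum_tmul]
    rw [ha j, TensorProduct.zero_tmul]
  have hzs0 : zs = 0 := by
    have e : (LinearMap.lTensor Q A') ((LinearMap.lTensor Q A) zs) = zs := by
      rw [← LinearMap.comp_apply, ← LinearMap.lTensor_comp, hA', LinearMap.lTensor_id,
        LinearMap.id_apply]
    rw [← e, hz2, map_zero]
  rw [← hz1, hzs0, map_zero]


open TensorProduct in
/-- Over a local ring, a linear map from a projective module to a flat module which is injective modulo
the maximal ideal is universally injective (injective after tensoring with any module). -/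
theorem result {R M N : Type u} [CommRing R] [IsLocalRing R] [AddCommGroup M] [Module R M] [Module.Projective R M]
    [AddCommGroup N] [Module R N] [Module.Flat R N] (u : M →ₗ[R] N)
    (h : Function.Injective (LinearMap.lTensor (IsLocalRing.ResidueField R) u)) :
    ∀ (Q : Type u) [AddCommGroup Q] [Module R Q], Function.Injective (LinearMap.rTensor Q u) := by
  intro Q _ _
  classical
  obtain ⟨sM, hsM⟩ := (Module.projective_def'.mp ‹Module.Projective R M›)
  obtain ⟨p, hp⟩ : ∃ p : (M →₀ R) →ₗ[R] M, p = Finsupp.linearCombination R id := ⟨_, rfl⟩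
  have hps : p ∘ₗ sM = LinearMap.id := by rw [hp]; exact hsM
  haveI : Module.Flat R (N × (M →₀ R)) := flat_prod R N (M →₀ R)
  obtain ⟨ũ, hũ⟩ : ∃ ũ : (M →₀ R) →ₗ[R] N × (M →₀ R),
      ũ = LinearMap.prod (u ∘ₗ p) (LinearMap.id - sM ∘ₗ p) := ⟨_, rfl⟩
  have hfst : LinearMap.fst R N (M →₀ R) ∘ₗ ũ = u ∘ₗ p := by
    rw [hũ]; apply LinearMap.ext; intro x; rfl
  have hsnd : LinearMap.snd R N (M →₀ R) ∘ₗ ũ = LinearMap.id - sM ∘ₗ p := by
    rw [hũ]; apply LinearMap.ext; intro x; rfl
  have hũκ : Function.Injective (LinearMap.lTensor (IsLocalRing.ResidueField R) ũ) := by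
    rw [injective_iff_map_eq_zero]
    intro x hx
    have h1 : (LinearMap.lTensor (IsLocalRing.ResidueField R) (u ∘ₗ p)) x = 0 := by
      rw [← hfst, LinearMap.lTensor_comp, LinearMap.comp_apply, hx, map_zero]
    rw [LinearMap.lTensor_comp, LinearMap.comp_apply] at h1
    have h2 : (LinearMap.lTensor (IsLocalRing.ResidueField R) p) x = 0 :=
      h (by rw [h1, map_zero])
    have h3 : (LinearMap.lTensor (IsLocalRing.ResidueField R) (LinearMap.id - sM ∘ₗ p)) x = 0 := by
      rw [← hsnd, LinearMap.lTensor_comp, LinearMap.comp_apply, hx, map_zero]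
    rw [LinearMap.lTensor_sub, LinearMap.sub_apply, LinearMap.lTensor_id, LinearMap.id_apply,
      LinearMap.lTensor_comp, LinearMap.comp_apply, h2, map_zero, sub_zero] at h3
    exact h3
  have hcore := core ũ hũκ Q
  have hũs : ũ ∘ₗ sM = LinearMap.inl R N (M →₀ R) ∘ₗ u := by
    rw [hũ]
    apply LinearMap.ext; intro m
    have hpm : p (sM m) = m := LinearMap.congr_fun hps m
    show ((u (p (sM m))), (sM m - sM (p (sM m)))) = (u m, (0 : M →₀ R))
    rw [hpm, sub_self]
  have key : ∀ (X Y : Type u) [AddCommGroup X] [Module R X] [AddCommGroup Y] [Module R Y]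
      (g : X →ₗ[R] Y) (w : X ⊗[R] Q),
      (LinearMap.lTensor Q g) (TensorProduct.comm R X Q w) =
        TensorProduct.comm R Y Q ((LinearMap.rTensor Q g) w) := by
    intro X Y _ _ _ _ g w
    induction w with
    | zero => simp
    | tmul x q => rfl
    | add a b ha hb => rw [map_add, map_add, ha, hb, map_add, map_add]
  rw [injective_iff_map_eq_zero]
  intro m hm
  have h1 : (LinearMap.lTensor Q ũ) ((LinearMap.lTensor Q sM) (TensorProduct.comm R M Q m)) = 0 := by
    rw [← LinearMap.comp_apply, ← LinearMap.lTensor_comp, hũs, LinearMap.lTensor_comp,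
      LinearMap.comp_apply, key, hm, map_zero, map_zero]
  have h2 : (LinearMap.lTensor Q sM) (TensorProduct.comm R M Q m) = 0 :=
    hcore (by rw [h1, map_zero])
  have h3 : (LinearMap.lTensor Q p) ((LinearMap.lTensor Q sM) (TensorProduct.comm R M Q m)) =
      TensorProduct.comm R M Q m := by
    rw [← LinearMap.comp_apply, ← LinearMap.lTensor_comp, hps, LinearMap.lTensor_id,
      LinearMap.id_apply]
  rw [h2, map_zero] at h3
  exact (LinearEquiv.map_eq_zero_iff _).mp h3.symm

end Groth.Agent.S0448
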