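import Groth.Statements.S0460
import Mathlib

set_option autoImplicit false
universe u
open CategoryTheory
open CohTop

namespace Groth.Agent.S0460

open CategoryTheory Limits Abelian in
theorem kill_S0460 {C : Type u} [SmallCategory C] (J : GrothendieckTopology C) (n : ℕ) :
    ∀ (F : Sheaf J AddCommGrpCat.{u}) (U : C) (ξ : (Sheaf.H' F (n + 1) U : AddCommGrpCat.{u})),
      ∃ S : Sieve U, S ∈ J U ∧ ∀ ⦃V : C⦄ (f : V ⟶ U), S f →
        ((Sheaf.cohomologyPresheaf.{u} F (n + 1)).map f.op).hom ξ = 0 := by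
  let L' : C ⥤ Sheaf J AddCommGrpCat.{u} :=
    yoneda ⋙ (Functor.whiskeringRight _ _ _).obj AddCommGrpCat.free ⋙
      presheafToSheaf J AddCommGrpCat.{u}
  have hres : ∀ (m : ℕ) (F : Sheaf J AddCommGrpCat.{u}) {U V : C} (f : V ⟶ U)
      (ξ : Ext (L'.obj U) F m), ((Sheaf.cohomologyPresheaf.{u} F m).map f.op).hom ξ = (Ext.mk₀ (L'.map f)).comp ξ (zero_add m) :=
    fun m F U V f ξ => rfl
  induction n with
  | zero =>
    intro F U ξ
    let i := Injective.ι F
    let Sx : ShortComplex (Sheaf J AddCommGrpCat.{u}) :=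
      ShortComplex.mk i (cokernel.π i) (cokernel.condition i)
    haveI : Mono Sx.f := (inferInstance : Mono i)
    haveI : Epi Sx.g := (inferInstance : Epi (cokernel.π i))
    have hS : Sx.ShortExact := ⟨ShortComplex.exact_of_g_is_cokernel _ (cokernelIsCokernel i)⟩
    have h0 : (ξ : Ext (L'.obj U) F (0 + 1)).comp (Ext.mk₀ Sx.f) (add_zero _) = 0 :=
      Ext.eq_zero_of_injective (I := Injective.under F) _
    obtain ⟨x₃, hx₃⟩ := Ext.covariant_sequence_exact₁ _ hS (ξ : Ext (L'.obj U) F (0 + 1)) h0 rfl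
    let adj := ((AddCommGrpCat.adj.{u}).whiskerRight Cᵒᵖ).comp
      (sheafificationAdjunction J AddCommGrpCat.{u})
    let φ : L'.obj U ⟶ Sx.X₃ := Ext.homEquiv₀ x₃
    have hφ : Ext.mk₀ φ = x₃ := Ext.mk₀_homEquiv₀_apply x₃
    let q := yonedaEquiv (adj.homEquiv (yoneda.obj U) Sx.X₃ φ)
    haveI : Sheaf.IsLocallySurjective Sx.g :=
      (Sheaf.isLocallySurjective_iff_epi' AddCommGrpCat.{u} Sx.g).2 inferInstance
    refine ⟨Presheaf.imageSieve Sx.g.hom q, Presheaf.imageSieve_mem J Sx.g.hom q, ?_⟩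
    intro V f hf
    obtain ⟨t, ht⟩ := hf
    let ψ : L'.obj V ⟶ Sx.X₂ := (adj.homEquiv (yoneda.obj V) Sx.X₂).symm (yonedaEquiv.symm t)
    have key : L'.map f ≫ φ = ψ ≫ Sx.g := by
      apply (adj.homEquiv (yoneda.obj V) Sx.X₃).injective
      apply yonedaEquiv.injective
      have hL : yonedaEquiv (adj.homEquiv (yoneda.obj V) Sx.X₃ (L'.map f ≫ φ)) =
          (Sx.X₃.obj.map f.op) q := by
        have h1 : adj.homEquiv (yoneda.obj V) Sx.X₃ (L'.map f ≫ φ) =
            yoneda.map f ≫ adj.homEquiv (yoneda.obj U) Sx.X₃ φ :=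
          adj.homEquiv_naturality_left (yoneda.map f) φ
        rw [h1, ← yonedaEquiv_naturality]
        rfl
      have hR : yonedaEquiv (adj.homEquiv (yoneda.obj V) Sx.X₃ (ψ ≫ Sx.g)) =
          (Sx.g.hom.app (Opposite.op V)) t := by
        rw [adj.homEquiv_naturality_right, yonedaEquiv_comp]
        simp only [ψ, Equiv.apply_symm_apply]
        rfl
      rw [hL, hR]
      exact ht.symm
    have e1 : (Ext.mk₀ (L'.map f)).comp x₃ (zero_add 0) =
        (Ext.mk₀ ψ).comp (Ext.mk₀ Sx.g) (zero_add 0) := by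
      rw [← hφ, Ext.mk₀_comp_mk₀, Ext.mk₀_comp_mk₀, key]
    rw [hres, ← hx₃, ← Ext.comp_assoc (Ext.mk₀ (L'.map f)) x₃ hS.extClass (zero_add 0) rfl
      (by omega), e1, Ext.comp_assoc (Ext.mk₀ ψ) (Ext.mk₀ Sx.g) hS.extClass (zero_add 0)
      (zero_add 1) (by omega), hS.comp_extClass]
    exact Ext.comp_zero _ _ _ _ _
  | succ n ih =>
    intro F U ξ
    let i := Injective.ι F
    let Sx : ShortComplex (Sheaf J AddCommGrpCat.{u}) :=
      ShortComplex.mk i (cokernel.π i) (cokernel.condition i)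
    haveI : Mono Sx.f := (inferInstance : Mono i)
    haveI : Epi Sx.g := (inferInstance : Epi (cokernel.π i))
    have hS : Sx.ShortExact := ⟨ShortComplex.exact_of_g_is_cokernel _ (cokernelIsCokernel i)⟩
    have h0 : (ξ : Ext (L'.obj U) F (n + 1 + 1)).comp (Ext.mk₀ Sx.f) (add_zero _) = 0 :=
      Ext.eq_zero_of_injective (I := Injective.under F) _
    obtain ⟨x₃, hx₃⟩ := Ext.covariant_sequence_exact₁ _ hS
      (ξ : Ext (L'.obj U) F (n + 1 + 1)) h0 rfl
    obtain ⟨S, hS1, hS2⟩ := ih Sx.X₃ U x₃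
    refine ⟨S, hS1, fun V f hf => ?_⟩
    have h2 := hS2 f hf
    rw [hres] at h2
    rw [hres, ← hx₃, ← Ext.comp_assoc (Ext.mk₀ (L'.map f)) x₃ hS.extClass (zero_add (n + 1)) rfl
      (by omega), h2]
    exact Ext.zero_comp _ _ _ _ _

open TopologicalSpace in
/-- Given an abelian sheaf F, an open U and a class ξ in H^(n+1)(U, F), there is an open covering of U
on each member of which ξ restricts to zero. -/
theorem result {X : TopCat.{u}} (F : CohTop.Ab X) (U : Opens X) (n : ℕ)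
    (ξ : CohTop.HU F (n + 1) U) :
    ∃ (ι : Type u) (V : ι → Opens X) (hV : ∀ i, V i ≤ U), iSup V = U ∧
      ∀ i, CohTop.res F (n + 1) (hV i) ξ = 0 := by
  obtain ⟨S, hS1, hS2⟩ := kill_S0460 (Opens.grothendieckTopology X) n F U ξ
  refine ⟨{V : Opens X // ∃ h : V ≤ U, S (homOfLE h)}, fun V => V.1, fun V => V.2.choose, ?_, ?_⟩
  · apply le_antisymm
    · exact iSup_le fun V => V.2.choose
    · intro x hx
      obtain ⟨V, f, hf, hxV⟩ := hS1 x hx
      exact Opens.mem_iSup.2 ⟨⟨V, f.le, by rwa [Subsingleton.elim (homOfLE f.le) f]⟩, hxV⟩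
  · intro V
    exact hS2 (homOfLE V.2.choose) V.2.choose_spec

end Groth.Agent.S0460
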