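import Groth.Statements.S0480
import Mathlib

set_option autoImplicit false
universe v u
open CategoryTheory
open CohDer

namespace Groth.Agent.S0480

open CategoryTheory.Limits in
/-- In an abelian category, if the product of a family of K-injective cochain complexes exists (it is
then the termwise product), it is again K-injective. -/
theorem result {A : Type u} [Category.{v} A] [Abelian A] {T : Type v} (I : T → CochainComplex A ℤ)
    [HasProduct I] (h : ∀ t, (I t).IsKInjective) : (∏ᶜ I).IsKInjective := by
  refine ⟨fun {K} f hK => ?_⟩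
  have H : ∀ t, Homotopy (f ≫ Pi.π I t) 0 := fun t => ((h t).nonempty_homotopy_zero _ hK).some
  let α : ∀ t, CochainComplex.HomComplex.Cochain K (I t) (-1) := fun t =>
    (CochainComplex.HomComplex.Cochain.equivHomotopy _ _ (H t)).1
  have hα : ∀ t, CochainComplex.HomComplex.Cochain.ofHom (f ≫ Pi.π I t) =
      CochainComplex.HomComplex.δ (-1) 0 (α t) + CochainComplex.HomComplex.Cochain.ofHom 0 := fun t =>
    (CochainComplex.HomComplex.Cochain.equivHomotopy _ _ (H t)).2
  let g : ∀ t, CochainComplex.mappingCone (𝟙 K) ⟶ I t := fun t =>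
    CochainComplex.mappingCone.desc (𝟙 K) (α t) (f ≫ Pi.π I t) (by
      rw [Category.id_comp, hα t]; simp)
  let G : CochainComplex.mappingCone (𝟙 K) ⟶ ∏ᶜ I := Pi.lift g
  have hG : CochainComplex.mappingCone.inr (𝟙 K) ≫ G = f := by
    apply Pi.hom_ext
    intro t
    simp [G, g]
  let β : CochainComplex.HomComplex.Cochain K (∏ᶜ I) (-1) :=
    (CochainComplex.mappingCone.inl (𝟙 K)).comp (CochainComplex.HomComplex.Cochain.ofHom G) (add_zero _)
  have hβ : CochainComplex.HomComplex.δ (-1) 0 β = CochainComplex.HomComplex.Cochain.ofHom f := by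
    rw [CochainComplex.HomComplex.δ_comp_ofHom, CochainComplex.mappingCone.δ_inl, Category.id_comp,
      ← CochainComplex.HomComplex.Cochain.ofHom_comp, hG]
  exact ⟨(CochainComplex.HomComplex.Cochain.equivHomotopy f 0).symm ⟨β, by rw [hβ]; simp⟩⟩

end Groth.Agent.S0480
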