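import Groth.Statements.S0481
import Mathlib

set_option autoImplicit false
universe v u
open CategoryTheory
open CohDer

namespace Groth.Agent.S0481

open CategoryTheory.Limits in
/-- Let u : A ⥤ B be right adjoint to an exact additive functor w : B ⥤ A between abelian categories.
Then u applied termwise sends K-injective complexes to K-injective complexes. -/
theorem result {A : Type u} [Category.{v} A] [Abelian A]
    {B : Type u} [Category.{v} B] [Abelian B] (u : A ⥤ B) (w : B ⥤ A) (adj : w ⊣ u)
    [u.Additive] [w.Additive] [PreservesFiniteLimits w] [PreservesFiniteColimits w]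
    (I : CochainComplex A ℤ) (h : I.IsKInjective) :
    CochainComplex.IsKInjective ((u.mapHomologicalComplex (ComplexShape.up ℤ)).obj I) := by
  haveI := h
  refine ⟨fun {K} f hK => ?_⟩
  let wK := (w.mapHomologicalComplex (ComplexShape.up ℤ)).obj K
  let f' : wK ⟶ I :=
    { f := fun n => (adj.homEquiv _ _).symm (f.f n)
      comm' := fun i j hij => by
        have h1 := f.comm i j
        simp only [Functor.mapHomologicalComplex_obj_d] at h1
        show (adj.homEquiv _ _).symm (f.f i) ≫ I.d i j = w.map (K.d i j) ≫ (adj.homEquiv _ _).symm (f.f j)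
        rw [← adj.homEquiv_naturality_right_symm, ← adj.homEquiv_naturality_left_symm]
        exact congrArg _ h1 }
  have hwK : wK.Acyclic := fun i => by
    have h2 := (hK i)
    rw [HomologicalComplex.exactAt_iff] at h2 ⊢
    exact h2.map w
  obtain ⟨H⟩ := CochainComplex.IsKInjective.nonempty_homotopy_zero f' hwK
  let η : K ⟶ (u.mapHomologicalComplex (ComplexShape.up ℤ)).obj wK :=
    { f := fun n => adj.unit.app (K.X n)
      comm' := fun i j hij => by
        show adj.unit.app (K.X i) ≫ u.map (w.map (K.d i j)) = K.d i j ≫ adj.unit.app (K.X j)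
        exact (adj.unit.naturality (K.d i j)).symm }
  have hf : f = η ≫ (u.mapHomologicalComplex (ComplexShape.up ℤ)).map f' := by
    ext n
    show f.f n = adj.unit.app (K.X n) ≫ u.map ((adj.homEquiv _ _).symm (f.f n))
    have h3 := (adj.homEquiv (K.X n) (I.X n)).apply_symm_apply (f.f n)
    rw [adj.homEquiv_unit] at h3
    exact h3.symm
  have H2 := (u.mapHomotopy H).compLeft η
  refine ⟨(Homotopy.ofEq hf).trans (H2.trans (Homotopy.ofEq ?_))⟩
  simp

end Groth.Agent.S0481
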