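import Groth.Statements.S0483
import Mathlib

set_option autoImplicit false
universe u
open CategoryTheory
open CohSite

namespace Groth.Agent.S0483

open CategoryTheory Limits Abelian in
theorem kill_S0483 {C : Type u} [SmallCategory C] (J : GrothendieckTopology C) (n : ℕ) :
    ∀ (F : Sheaf J AddCommGrpCat.{u}) (U : C) (ξ : CohSite.HU F (n + 1) U),
      ∃ S : Sieve U, S ∈ J U ∧ ∀ ⦃V : C⦄ (f : V ⟶ U), S f →
        CohSite.res F (n + 1) f ξ = 0 := by
  let L' : C ⥤ Sheaf J AddCommGrpCat.{u} :=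
    yoneda ⋙ (Functor.whiskeringRight _ _ _).obj AddCommGrpCat.free ⋙
      presheafToSheaf J AddCommGrpCat.{u}
  have hres : ∀ (m : ℕ) (F : Sheaf J AddCommGrpCat.{u}) {U V : C} (f : V ⟶ U)
      (ξ : Ext (L'.obj U) F m), CohSite.res F m f ξ = (Ext.mk₀ (L'.map f)).comp ξ (zero_add m) :=
    fun m F U V f ξ => rfl
  induction n with
  | zero =>
    intro F U ξ
    let i := Injective.ι F
    let Sx : ShortComplex (Sheaf J AddCommGrpCat.{u}) :=
      ShortComplex.mk i (cokernel.π i) (cokernel.condition i)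
    haveI : Mono Sx.f := (inferInstance : Mono i)
    haveI : Epi Sx.g := (inferInstance : Epi (cokernel.π i))
    have hS : Sx.ShortExact := ⟨ShortComplex.exact_of_g_is_cokernel _ (cokernelIsCokernel i)⟩
    have h0 : (ξ : Ext (L'.obj U) F (0 + 1)).comp (Ext.mk₀ Sx.f) (add_zero _) = 0 :=
      Ext.eq_zero_of_injective (I := Injective.under F) _
    obtain ⟨x₃, hx₃⟩ := Ext.covariant_sequence_exact₁ _ hS (ξ : Ext (L'.obj U) F (0 + 1)) h0 rfl
    let adj := ((AddCommGrpCat.adj.{u}).whiskerRight Cᵒᵖ).comp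
      (sheafificationAdjunction J AddCommGrpCat.{u})
    let φ : L'.obj U ⟶ Sx.X₃ := Ext.homEquiv₀ x₃
    have hφ : Ext.mk₀ φ = x₃ := Ext.mk₀_homEquiv₀_apply x₃
    let q := yonedaEquiv (adj.homEquiv (yoneda.obj U) Sx.X₃ φ)
    haveI : Sheaf.IsLocallySurjective Sx.g :=
      (Sheaf.isLocallySurjective_iff_epi' AddCommGrpCat.{u} Sx.g).2 inferInstance
    refine ⟨Presheaf.imageSieve Sx.g.hom q, Presheaf.imageSieve_mem J Sx.g.hom q, ?_⟩
    intro V f hf
    obtain ⟨t, ht⟩ := hf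
    let ψ : L'.obj V ⟶ Sx.X₂ := (adj.homEquiv (yoneda.obj V) Sx.X₂).symm (yonedaEquiv.symm t)
    have key : L'.map f ≫ φ = ψ ≫ Sx.g := by
      apply (adj.homEquiv (yoneda.obj V) Sx.X₃).injective
      apply yonedaEquiv.injective
      have hL : yonedaEquiv (adj.homEquiv (yoneda.obj V) Sx.X₃ (L'.map f ≫ φ)) =
          (Sx.X₃.obj.map f.op) q := by
        have h1 : adj.homEquiv (yoneda.obj V) Sx.X₃ (L'.map f ≫ φ) =
            yoneda.map f ≫ adj.homEquiv (yoneda.obj U) Sx.X₃ φ :=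
          adj.homEquiv_naturality_left (yoneda.map f) φ
        rw [h1, ← yonedaEquiv_naturality]
        rfl
      have hR : yonedaEquiv (adj.homEquiv (yoneda.obj V) Sx.X₃ (ψ ≫ Sx.g)) =
          (Sx.g.hom.app (Opposite.op V)) t := by
        rw [adj.homEquiv_naturality_right, yonedaEquiv_comp]
        simp only [ψ, Equiv.apply_symm_apply]
        rfl
      rw [hL, hR]
      exact ht.symm
    have e1 : (Ext.mk₀ (L'.map f)).comp x₃ (zero_add 0) =
        (Ext.mk₀ ψ).comp (Ext.mk₀ Sx.g) (zero_add 0) := by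
      rw [← hφ, Ext.mk₀_comp_mk₀, Ext.mk₀_comp_mk₀, key]
    rw [hres, ← hx₃, ← Ext.comp_assoc (Ext.mk₀ (L'.map f)) x₃ hS.extClass (zero_add 0) rfl
      (by omega), e1, Ext.comp_assoc (Ext.mk₀ ψ) (Ext.mk₀ Sx.g) hS.extClass (zero_add 0)
      (zero_add 1) (by omega), hS.comp_extClass]
    exact Ext.comp_zero _ _ _ _ _
  | succ n ih =>
    intro F U ξ
    let i := Injective.ι F
    let Sx : ShortComplex (Sheaf J AddCommGrpCat.{u}) :=
      ShortComplex.mk i (cokernel.π i) (cokernel.condition i)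
    haveI : Mono Sx.f := (inferInstance : Mono i)
    haveI : Epi Sx.g := (inferInstance : Epi (cokernel.π i))
    have hS : Sx.ShortExact := ⟨ShortComplex.exact_of_g_is_cokernel _ (cokernelIsCokernel i)⟩
    have h0 : (ξ : Ext (L'.obj U) F (n + 1 + 1)).comp (Ext.mk₀ Sx.f) (add_zero _) = 0 :=
      Ext.eq_zero_of_injective (I := Injective.under F) _
    obtain ⟨x₃, hx₃⟩ := Ext.covariant_sequence_exact₁ _ hS
      (ξ : Ext (L'.obj U) F (n + 1 + 1)) h0 rfl
    obtain ⟨S, hS1, hS2⟩ := ih Sx.X₃ U x₃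
    refine ⟨S, hS1, fun V f hf => ?_⟩
    have h2 := hS2 f hf
    rw [hres] at h2
    rw [hres, ← hx₃, ← Ext.comp_assoc (Ext.mk₀ (L'.map f)) x₃ hS.extClass (zero_add (n + 1)) rfl
      (by omega), h2]
    exact Ext.zero_comp _ _ _ _ _

/-- For an abelian sheaf F on a small site, an object U and a class ξ in H^(n+1)(U, F), there is a
covering sieve of U such that ξ pulls back to zero along every arrow of the sieve. -/
theorem result {C : Type u} [SmallCategory C] (J : GrothendieckTopology C)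
    (F : Sheaf J AddCommGrpCat.{u}) (U : C) (n : ℕ) (ξ : CohSite.HU F (n + 1) U) :
    ∃ (S : J.Cover U), ∀ (a : S.Arrow), CohSite.res F (n + 1) a.f ξ = 0 := by
  obtain ⟨S, hS1, hS2⟩ := kill_S0483 J n F U ξ
  exact ⟨⟨S, hS1⟩, fun a => hS2 a.f a.hf⟩

end Groth.Agent.S0483
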