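import Groth.Statements.S0496
import Mathlib

set_option autoImplicit false
universe u
open Hensel

namespace Groth.Agent.S0496

open Polynomial IsLocalRing in
/-- Key lemma: if `f = g * h'` is monic and `g` reduces to `X - C a₀`, then `f` has a root lifting
`a₀`. -/
theorem aux_root (R : Type u) [CommRing R] [IsLocalRing R] (f g h' : Polynomial R) (hf : f.Monic)
    (hfg : f = g * h') (a₀ : ResidueField R)
    (hg : Polynomial.map (residue R) g = X - C a₀) :
    ∃ a : R, f.IsRoot a ∧ residue R a = a₀ := by
  classical
  obtain ⟨a, rfl⟩ := residue_surjective a₀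
  -- the quotient `C = R[X]/(g)` is a finite `R`-module
  let Cq := R[X] ⧸ Ideal.span {g}
  have hle : Ideal.span {f} ≤ Ideal.span {g} := by
    rw [Ideal.span_singleton_le_span_singleton]; exact ⟨h', hfg⟩
  have hfin1 : Module.Finite R (R[X] ⧸ Ideal.span {f}) := hf.finite_adjoinRoot
  have : Module.Finite R Cq :=
    Module.Finite.of_surjective (Ideal.Quotient.factorₐ R hle).toLinearMap
      (Ideal.Quotient.factor_surjective hle)
  have hC : ∀ r : R, (Ideal.Quotient.mk (Ideal.span {g}) (C r) : Cq) = r • (1 : Cq) := by
    intro r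
    rw [← Ideal.Quotient.mkₐ_eq_mk R, C_eq_algebraMap, AlgHom.commutes,
      Algebra.algebraMap_eq_smul_one]
  -- elements with coefficients in `m` die in `C / m C`
  have hm : ∀ w : R[X], (∀ n, w.coeff n ∈ maximalIdeal R) →
      (Ideal.Quotient.mk (Ideal.span {g}) w : Cq) ∈ (maximalIdeal R • (⊤ : Submodule R Cq)) := by
    intro w hw
    rw [w.as_sum_range_C_mul_X_pow, map_sum]
    refine Submodule.sum_mem _ fun i _ => ?_
    rw [← smul_eq_C_mul, ← Ideal.Quotient.mkₐ_eq_mk R, map_smul]
    exact Submodule.smul_mem_smul (hw i) Submodule.mem_top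
  have hδ : ∀ n, (g - (X - C a)).coeff n ∈ maximalIdeal R := by
    intro n
    rw [← Ideal.Quotient.eq_zero_iff_mem]
    have := congrArg (fun p => p.coeff n) hg
    simp only [coeff_map, coeff_sub, coeff_X, coeff_C] at this
    change residue R _ = 0
    rw [coeff_sub, coeff_sub, map_sub, map_sub, this, coeff_X, coeff_C]
    split_ifs <;> simp [residue]
  -- Nakayama
  have hNak : (⊤ : Submodule R Cq) ≤ Submodule.span R {(1 : Cq)} := by
    refine Submodule.le_of_le_smul_of_le_jacobson_bot Module.Finite.fg_top
      (IsLocalRing.maximalIdeal_le_jacobson _) ?_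
    rintro x -
    obtain ⟨p, rfl⟩ := Ideal.Quotient.mk_surjective x
    have hp : p = C (p.eval a) + g * (p /ₘ (X - C a)) - (g - (X - C a)) * (p /ₘ (X - C a)) := by
      have := modByMonic_add_div p (X - C a)
      rw [modByMonic_X_sub_C_eq_C_eval] at this
      linear_combination (-1 : R[X]) * this
    rw [hp, map_sub, map_add]
    have h1 : (Ideal.Quotient.mk (Ideal.span {g})) (g * (p /ₘ (X - C a))) = 0 := by
      rw [Ideal.Quotient.eq_zero_iff_mem]
      exact Ideal.mul_mem_right _ _ (Ideal.mem_span_singleton_self g)
    rw [h1, add_zero]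
    refine Submodule.sub_mem _ (Submodule.mem_sup_left ?_) (Submodule.mem_sup_right ?_)
    · rw [Submodule.mem_span_singleton]
      exact ⟨p.eval a, (hC _).symm⟩
    · apply hm
      intro n
      rw [coeff_mul]
      refine Ideal.sum_mem _ fun c _ => Ideal.mul_mem_right _ _ (hδ _)
  -- so `X ≡ c` modulo `g`
  have hX : (Ideal.Quotient.mk (Ideal.span {g}) X : Cq) ∈ Submodule.span R {(1 : Cq)} :=
    hNak Submodule.mem_top
  rw [Submodule.mem_span_singleton] at hX
  obtain ⟨c, hc⟩ := hX
  have hc' : X - C c ∈ Ideal.span {g} := by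
    rw [← Ideal.Quotient.eq_zero_iff_mem, map_sub, ← hc, hC, sub_self]
  rw [Ideal.mem_span_singleton'] at hc'
  obtain ⟨s, hs⟩ := hc'
  -- reduce modulo `m`
  have hs' : Polynomial.map (residue R) s * (X - C (residue R a)) = X - C (residue R c) := by
    have := congrArg (Polynomial.map (residue R)) hs
    simpa [Polynomial.map_mul, hg] using this
  have hca : residue R c = residue R a := by
    have := congrArg (Polynomial.eval (residue R a)) hs'
    simp at this
    exact (sub_eq_zero.mp this.symm).symm
  have hsone : Polynomial.map (residue R) s = 1 := by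
    rw [hca] at hs'
    have hne : (X - C (residue R a) : (ResidueField R)[X]) ≠ 0 := X_sub_C_ne_zero _
    exact mul_right_cancel₀ hne (by rw [hs', one_mul])
  refine ⟨c, ?_, hca⟩
  -- `f * s = (X - C c) * h'`
  have hfs : s * f = (X - C c) * h' := by rw [← hs, hfg]; ring
  have hev : s.eval c * f.eval c = 0 := by
    have := congrArg (Polynomial.eval c) hfs
    simpa using this
  have hunit : IsUnit (s.eval c) := by
    have : residue R (s.eval c) = 1 := by
      have := congrArg (Polynomial.eval (residue R c)) hsone
      rw [Polynomial.eval_map, Polynomial.eval₂_at_apply] at this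
      simpa using this
    apply isUnit_of_map_unit (residue R)
    rw [this]; exact isUnit_one
  exact (hunit.mul_right_eq_zero).mp hev


/-- If every factorization of the reduction of a monic polynomial into two coprime factors over the
residue field lifts to a factorization over the local ring, then the local ring is henselian. -/
theorem result (R : Type u) [CommRing R] [IsLocalRing R]
    (h : ∀ f : Polynomial R, f.Monic →
      ∀ g₀ h₀ : Polynomial (IsLocalRing.ResidueField R), IsCoprime g₀ h₀ →
      Polynomial.map (IsLocalRing.residue R) f = g₀ * h₀ →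
      ∃ g h : Polynomial R, f = g * h ∧ Polynomial.map (IsLocalRing.residue R) g = g₀ ∧
        Polynomial.map (IsLocalRing.residue R) h = h₀) :
    HenselianLocalRing R := by
  open Polynomial IsLocalRing in
  refine ((HenselianLocalRing.TFAE R).out 0 1).mpr ?_
  intro f hf a₀ h₁ h₂
  have hroot : (f.map (residue R)).IsRoot a₀ := by
    rw [Polynomial.IsRoot.def, Polynomial.eval_map]; exact h₁
  obtain ⟨q, hq⟩ := Polynomial.dvd_iff_isRoot.mpr hroot
  have hqa : q.eval a₀ ≠ 0 := by
    intro hq0
    apply h₂
    have : Polynomial.aeval a₀ (Polynomial.derivative f) = (Polynomial.derivative (f.map (residue R))).eval a₀ := by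
      rw [Polynomial.derivative_map, Polynomial.eval_map]; rfl
    rw [this, hq, Polynomial.derivative_mul]
    simp [hq0]
  have hcop : IsCoprime (Polynomial.X - Polynomial.C a₀) q := by
    rw [(Polynomial.irreducible_X_sub_C a₀).coprime_iff_not_dvd, Polynomial.dvd_iff_isRoot]
    exact hqa
  obtain ⟨g, h', hfg, hg, -⟩ := h f hf _ _ hcop hq
  exact aux_root R f g h' hf hfg a₀ hg

end Groth.Agent.S0496
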