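import Groth.Statements.S0497
import Mathlib
import Groth.Agent.Lib.helper1.FactorLift2

set_option autoImplicit false
universe u
open Hensel

namespace Groth.Agent.S0497

/-- Over a henselian local ring, any factorization of the reduction of a polynomial (not necessarily
monic) into a monic factor and a factor coprime to it lifts to a factorization over the ring in
which the lift of the monic factor is again monic (so it has the same degree as its reduction). -/
theorem result (R : Type u) [CommRing R] [HenselianLocalRing R]
    (f : Polynomial R) (g₀ h₀ : Polynomial (IsLocalRing.ResidueField R)) (hg : g₀.Monic)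
    (hc : IsCoprime g₀ h₀) (hf : Polynomial.map (IsLocalRing.residue R) f = g₀ * h₀) :
    ∃ g h : Polynomial R, f = g * h ∧ g.Monic ∧ Polynomial.map (IsLocalRing.residue R) g = g₀ ∧
      Polynomial.map (IsLocalRing.residue R) h = h₀ := by
  open Polynomial IsLocalRing in
  by_cases hf0 : f.map (residue R) = 0
  · rw [hf0] at hf
    have hh0 : h₀ = 0 := by
      rcases mul_eq_zero.mp hf.symm with h | h
      · exact absurd h hg.ne_zero
      · exact h
    subst hh0
    have hunit : IsUnit g₀ := isCoprime_zero_right.mp hc
    have hg1 : g₀ = 1 := hg.eq_one_of_isUnit hunit
    exact ⟨1, f, (one_mul f).symm, monic_one, by rw [Polynomial.map_one, hg1], hf0⟩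
  · exact Helper1.factor_lift_of_henselian_aux f g₀ h₀ hg hc hf hf0

end Groth.Agent.S0497
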