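import Groth.Statements.S0498
import Mathlib

set_option autoImplicit false
universe u
open Hensel

namespace Groth.Agent.S0498

/-- Over a henselian local ring, a simple root in the residue field of the reduction of an arbitrary
polynomial (monic or not) lifts to a root in the ring. -/
theorem result (R : Type u) [CommRing R] [HenselianLocalRing R]
    (f : Polynomial R) (a₀ : IsLocalRing.ResidueField R)
    (h₁ : Polynomial.eval₂ (IsLocalRing.residue R) a₀ f = 0)
    (h₂ : Polynomial.eval₂ (IsLocalRing.residue R) a₀ (Polynomial.derivative f) ≠ 0) :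
    ∃ a : R, Polynomial.IsRoot f a ∧ IsLocalRing.residue R a = a₀ := by
  classical
  open Polynomial IsLocalRing in
  obtain ⟨a₁, rfl⟩ := residue_surjective a₀
  rw [eval₂_at_apply] at h₁ h₂
  set F := taylor a₁ f with hF_def
  set c₀ := f.eval a₁ with hc₀_def
  set G := F.divX with hG_def
  have hc₀F : F.coeff 0 = c₀ := taylor_coeff_zero _ _
  have hc₁ : G.coeff 0 = f.derivative.eval a₁ := by
    rw [hG_def, coeff_divX, zero_add, hF_def]; exact taylor_coeff_one _ _
  have hc₀m : c₀ ∈ maximalIdeal R := by
    rw [← Ideal.Quotient.eq_zero_iff_mem]; exact h₁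
  set c₁ := G.coeff 0 with hc₁_def
  have hc₁u : residue R c₁ ≠ 0 := by rw [hc₁]; exact h₂
  set d := G.natDegree with hd_def
  set q : R[X] := X ^ (d + 1) + ∑ j : Fin (d + 1), C (G.coeff (d - j) * c₀ ^ (d - j)) * X ^ (j : ℕ)
    with hq_def
  have hqm : q.Monic := monic_X_pow_add (degree_sum_fin_lt _)
  -- reduction of `q`
  have hqbar : q.map (residue R) = X ^ d * (X + C (residue R c₁)) := by
    rw [hq_def, Polynomial.map_add, Polynomial.map_pow, map_X, Polynomial.map_sum,
      Fin.sum_univ_castSucc]
    have hz : ∀ j : Fin d, Polynomial.map (residue R)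
        (C (G.coeff (d - (Fin.castSucc j : ℕ)) * c₀ ^ (d - (Fin.castSucc j : ℕ))) *
          X ^ ((Fin.castSucc j : Fin (d + 1)) : ℕ)) = 0 := by
      intro j
      rw [Polynomial.map_mul, map_C, map_mul, map_pow]
      have : residue R c₀ = 0 := h₁
      rw [this, zero_pow, mul_zero, C_0, zero_mul]
      have := j.2
      simp only [Fin.val_castSucc]
      omega
    rw [Finset.sum_eq_zero (fun j _ => hz j), zero_add]
    simp only [Fin.val_last, Nat.sub_self, pow_zero, mul_one, Polynomial.map_mul, map_C,
      Polynomial.map_pow, map_X]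
    rw [← hc₁_def]
    ring
  have hroot : aeval (-(residue R c₁)) q = 0 := by
    rw [aeval_def, ← eval_map]
    change eval _ (q.map (residue R)) = 0
    rw [hqbar]; simp
  have hsimple : aeval (-(residue R c₁)) (derivative q) ≠ 0 := by
    rw [aeval_def, ← eval_map]
    change eval _ ((derivative q).map (residue R)) ≠ 0
    rw [← derivative_map, hqbar, derivative_mul]
    simp only [eval_add, eval_mul, eval_X, eval_C, neg_add_cancel, mul_zero, zero_add,
      derivative_add, derivative_X, derivative_C, add_zero, mul_one, eval_pow]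
    exact pow_ne_zero _ (neg_ne_zero.mpr hc₁u)
  have hH : HenselianLocalRing R := inferInstance
  have hT := ((HenselianLocalRing.TFAE R).out 0 1).mp hH
  obtain ⟨w, hw, hwres⟩ := hT q hqm _ hroot hsimple
  have hwu : IsUnit w := by
    apply isUnit_of_map_unit (residue R)
    rw [hwres]
    exact (neg_ne_zero.mpr hc₁u).isUnit
  obtain ⟨v, hvw⟩ := isUnit_iff_exists_inv'.mp hwu
  have key : F.eval (c₀ * v) = c₀ * v ^ (d + 1) * q.eval w := by
    have hFG : F = G * X + C c₀ := by rw [← hc₀F]; exact (divX_mul_X_add F).symm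
    have e1 : F.eval (c₀ * v) = G.eval (c₀ * v) * (c₀ * v) + c₀ := by
      conv_lhs => rw [hFG]
      simp
    rw [e1, eval_eq_sum_range (p := G), hq_def]
    simp only [eval_add, eval_pow, eval_X, eval_finsetSum, eval_mul, eval_C]
    rw [mul_add, ← Finset.sum_range_reflect (fun i => G.coeff i * (c₀ * v) ^ i) (d + 1),
      Fin.sum_univ_eq_sum_range (fun j => G.coeff (d - j) * c₀ ^ (d - j) * w ^ j) (d + 1)]
    rw [Finset.sum_mul, Finset.mul_sum]
    have h1 : c₀ * v ^ (d + 1) * w ^ (d + 1) = c₀ := by
      rw [mul_assoc, ← mul_pow, hvw, one_pow, mul_one]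
    rw [h1, add_comm]
    congr 1
    apply Finset.sum_congr rfl
    intro j hj
    have hj' : j ≤ d := Nat.lt_succ_iff.mp (Finset.mem_range.mp hj)
    have e2 : d + 1 - 1 - j = d - j := by omega
    rw [e2]
    have h2 : v ^ (d + 1) = v ^ (d - j + 1) * v ^ j := by
      rw [← pow_add]; congr 1; omega
    rw [h2]
    have h3 : v ^ j * w ^ j = 1 := by rw [← mul_pow, hvw, one_pow]
    linear_combination (-(G.coeff (d - j) * c₀ ^ (d - j + 1) * v ^ (d - j + 1))) * h3
  refine ⟨c₀ * v + a₁, ?_, ?_⟩
  · rw [IsRoot.def, ← taylor_eval, ← hF_def, key]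
    have : q.eval w = 0 := hw
    rw [this, mul_zero]
  · rw [map_add, map_mul]
    have : residue R c₀ = 0 := h₁
    rw [this, zero_mul, zero_add]

end Groth.Agent.S0498
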