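import Groth.Statements.S0499
import Mathlib
import Groth.Agent.S0501

set_option autoImplicit false
universe u
open Hensel

namespace Groth.Agent.S0499

/-- An algebra over a henselian local ring that is finitely generated as a module is isomorphic, as a
ring, to a finite product of local rings. -/
theorem result (R : Type u) [CommRing R]
    [HenselianLocalRing R] (S : Type u) [CommRing S] [Algebra R S] [Module.Finite R S] :
    ∃ (ι : Type u) (_ : Fintype ι) (A : ι → Type u) (_ : ∀ i, CommRing (A i)),
      (∀ i, IsLocalRing (A i)) ∧ Nonempty (S ≃+* (∀ i, A i)) := by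
  classical
  open IsLocalRing TensorProduct in
  obtain ⟨R', _, _, _, P, _, _, n, e, he, P', hP'prime, hP'lies, hbij, heP', H⟩ :=
    Algebra.exists_etale_completeOrthogonalIdempotents_forall_liesOver_eq (R := R) (S := S)
      (maximalIdeal R)
  -- the residue field of `P` is a quotient of `R`
  have hsurj : Function.Surjective (algebraMap R P.ResidueField) := by
    intro z
    obtain ⟨w, rfl⟩ := hbij.2 z
    obtain ⟨r, rfl⟩ := Ideal.algebraMap_residueField_surjective (maximalIdeal R) w
    exact ⟨r, (AlgHom.commutes _ r).symm⟩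
  have hker : RingHom.ker (algebraMap R P.ResidueField) ≤ RingHom.ker (residue R) := by
    intro r hr
    rw [RingHom.mem_ker] at hr ⊢
    rw [IsScalarTower.algebraMap_apply R R' P.ResidueField,
      Ideal.algebraMap_residueField_eq_zero] at hr
    rw [residue_eq_zero_iff]
    rw [Ideal.over_def P (maximalIdeal R)]
    exact hr
  let τ : P.ResidueField →+* ResidueField R :=
    (algebraMap R P.ResidueField).liftOfRightInverse (Function.surjInv hsurj)
      (Function.rightInverse_surjInv hsurj) ⟨residue R, hker⟩
  have hτ : τ.comp (algebraMap R P.ResidueField) = (residue R).comp (algebraMap R R) := by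
    rw [RingHom.liftOfRightInverse_comp]
    rfl
  obtain ⟨f, ⟨hfP, -⟩, -⟩ := Groth.Agent.S0501.result R R R' P τ hτ
  -- the retraction of `R' ⊗ S` onto `S`
  let ψ : R' ⊗[R] S →ₐ[R] S :=
    Algebra.TensorProduct.lift ((Algebra.ofId R S).comp f) (AlgHom.id R S)
      (fun _ _ => Commute.all _ _)
  have hψsurj : Function.Surjective ψ.toRingHom := by
    intro s
    exact ⟨1 ⊗ₜ s, by simp [ψ]⟩
  let e' : Fin (n + 1) → S := fun i => ψ (e i)
  have he' : CompleteOrthogonalIdempotents e' := he.map ψ.toRingHom
  -- key: primes of `R' ⊗ S` under maximal ideals of `S`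
  have key : ∀ M : Ideal S, M.IsMaximal →
      e' (Fin.last n) ∈ M ∧ ∀ i : Fin n, e' i.castSucc ∉ M → M.comap ψ.toRingHom = P' i := by
    intro M hM
    haveI : (M.comap ψ.toRingHom).IsPrime := Ideal.comap_isPrime _ _
    have hMu : M.comap (algebraMap R S) = maximalIdeal R := by
      haveI : (M.comap (algebraMap R S)).IsMaximal :=
        Ideal.isMaximal_comap_of_isIntegral_of_isMaximal (R := R) M
      exact IsLocalRing.eq_maximalIdeal this
    have hlies : (M.comap ψ.toRingHom).LiesOver P := by
      refine ⟨?_⟩
      ext x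
      rw [Ideal.under, Ideal.mem_comap, Ideal.mem_comap, ← hfP, Ideal.mem_comap, ← hMu,
        Ideal.mem_comap]
      have : ψ.toRingHom (algebraMap R' (R' ⊗[R] S) x) = algebraMap R S (f.toRingHom x) := by
        simp [ψ, Algebra.TensorProduct.algebraMap_apply, Algebra.ofId_apply]
      rw [this]
    exact H _ inferInstance hlies
  -- the last idempotent dies
  have hlast : e' (Fin.last n) = 0 := by
    have hu : IsUnit (1 - e' (Fin.last n)) := by
      by_contra hnu
      obtain ⟨M, hM, hmem⟩ := exists_max_ideal_of_mem_nonunits (mem_nonunits_iff.mpr hnu)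
      have h1 := (key M hM).1
      have : (1 : S) ∈ M := by
        have := M.add_mem hmem h1
        simpa using this
      exact hM.ne_top ((Ideal.eq_top_iff_one _).mpr this)
    have h0 : e' (Fin.last n) * (1 - e' (Fin.last n)) = 0 := by
      rw [mul_sub, mul_one, (he'.idem (Fin.last n)).eq, sub_self]
    exact (hu.mul_left_eq_zero).mp h0
  -- each nonzero factor is local
  have hloc : ∀ i : Fin (n + 1), e' i ≠ 0 → IsLocalRing (S ⧸ Ideal.span {1 - e' i}) := by
    intro i hi
    have hne : i ≠ Fin.last n := fun h => hi (h ▸ hlast)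
    obtain ⟨j, rfl⟩ := Fin.exists_castSucc_eq.mpr hne
    have hnt : Ideal.span {1 - e' j.castSucc} ≠ (⊤ : Ideal S) := by
      intro htop
      have hu : IsUnit (1 - e' j.castSucc) := Ideal.span_singleton_eq_top.mp htop
      have h0 : e' j.castSucc * (1 - e' j.castSucc) = 0 := by
        rw [mul_sub, mul_one, (he'.idem j.castSucc).eq, sub_self]
      exact hi ((hu.mul_left_eq_zero).mp h0)
    haveI : Nontrivial (S ⧸ Ideal.span {1 - e' j.castSucc}) :=
      Ideal.Quotient.nontrivial_iff.mpr hnt
    let Ψ : R' ⊗[R] S →+* S ⧸ Ideal.span {1 - e' j.castSucc} :=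
      (Ideal.Quotient.mk _).comp ψ.toRingHom
    have hΨsurj : Function.Surjective Ψ :=
      Ideal.Quotient.mk_surjective.comp hψsurj
    have hN : ∀ N : Ideal (S ⧸ Ideal.span {1 - e' j.castSucc}), N.IsMaximal →
        N.comap Ψ = P' j := by
      intro N hNmax
      have hM : (N.comap (Ideal.Quotient.mk (Ideal.span {1 - e' j.castSucc}))).IsMaximal :=
        Ideal.comap_isMaximal_of_surjective _ Ideal.Quotient.mk_surjective
      have hnot : e' j.castSucc ∉ N.comap (Ideal.Quotient.mk (Ideal.span {1 - e' j.castSucc})) := by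
        intro hmem
        have h1 : (1 - e' j.castSucc) ∈
            N.comap (Ideal.Quotient.mk (Ideal.span {1 - e' j.castSucc})) := by
          rw [Ideal.mem_comap]
          have : Ideal.Quotient.mk (Ideal.span {1 - e' j.castSucc}) (1 - e' j.castSucc) = 0 :=
            Ideal.Quotient.eq_zero_iff_mem.mpr (Ideal.mem_span_singleton_self _)
          rw [this]
          exact N.zero_mem
        have : (1 : S) ∈ N.comap (Ideal.Quotient.mk (Ideal.span {1 - e' j.castSucc})) := by
          have := Ideal.add_mem _ h1 hmem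
          simpa using this
        exact hM.ne_top ((Ideal.eq_top_iff_one _).mpr this)
      have := (key _ hM).2 j hnot
      rw [← this, Ideal.comap_comap]
    obtain ⟨N₀, hN₀⟩ := Ideal.exists_maximal (S ⧸ Ideal.span {1 - e' j.castSucc})
    refine IsLocalRing.of_unique_max_ideal ⟨N₀, hN₀, fun N hNmax => ?_⟩
    apply Ideal.comap_injective_of_surjective Ψ hΨsurj
    rw [hN N hNmax, hN N₀ hN₀]
  -- assemble
  let ι := ULift.{u} {i : Fin (n + 1) // e' i ≠ 0}
  let g : ι → S := fun k => e' k.down.1
  have hg : CompleteOrthogonalIdempotents g := by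
    refine ⟨he'.1.embedding ⟨fun k : ι => k.down.1, ?_⟩, ?_⟩
    · intro a b hab
      exact ULift.ext _ _ (Subtype.ext hab)
    · have h1 : ∑ k : ι, g k = ∑ j : {i : Fin (n + 1) // e' i ≠ 0}, e' j.1 :=
        Equiv.sum_comp Equiv.ulift (fun j : {i : Fin (n + 1) // e' i ≠ 0} => e' j.1)
      rw [h1, ← Finset.sum_subtype (Finset.univ.filter fun i => e' i ≠ 0) (by simp) e',
        Finset.sum_filter_of_ne (fun i _ h => h), he'.complete]
  refine ⟨ι, inferInstance, fun k => S ⧸ Ideal.span {1 - g k}, fun k => inferInstance,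
    fun k => hloc k.down.1 k.down.2, ⟨RingEquiv.ofBijective _ hg.bijective_pi⟩⟩

end Groth.Agent.S0499
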