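import Groth.Statements.S0500
import Mathlib

set_option autoImplicit false
universe u
open Hensel

namespace Groth.Agent.S0500

/-- If every algebra over a local ring that is finitely generated as a module is ring-isomorphic to a
finite product of local rings, then the local ring is henselian. -/
theorem result (R : Type u) [CommRing R] [IsLocalRing R]
    (h : ∀ (S : Type u) [CommRing S] [Algebra R S], Module.Finite R S →
      ∃ (ι : Type u) (_ : Fintype ι) (A : ι → Type u) (_ : ∀ i, CommRing (A i)),
        (∀ i, IsLocalRing (A i)) ∧ Nonempty (S ≃+* (∀ i, A i))) :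
    HenselianLocalRing R := by
  classical
  open Polynomial IsLocalRing in
  refine ((HenselianLocalRing.TFAE R).out 0 1).mpr ?_
  intro f hf a₀ h₁ h₂
  haveI : Module.Finite R (AdjoinRoot f) := hf.finite_adjoinRoot
  obtain ⟨ι, _, A, _, hloc, ⟨φ⟩⟩ := h (AdjoinRoot f) inferInstance
  obtain ⟨a, rfl⟩ := residue_surjective a₀
  set t : AdjoinRoot f := AdjoinRoot.root f with ht
  let ev : AdjoinRoot f →ₐ[R] ResidueField R :=
    AdjoinRoot.liftAlgHom f (Algebra.ofId R (ResidueField R)) (residue R a) h₁
  have hev_t : ev t = residue R a := AdjoinRoot.liftAlgHom_root _ _ _ _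
  have hev_alg : ∀ r : R, ev (algebraMap R _ r) = residue R r := fun r => ev.commutes r
  have hev_surj : Function.Surjective ev := by
    intro y
    obtain ⟨r, rfl⟩ := residue_surjective y
    exact ⟨algebraMap R _ r, hev_alg r⟩
  let E : ι → AdjoinRoot f := fun i => φ.symm (Pi.single i 1)
  have hEsum : ∑ i, E i = 1 := by
    show ∑ i, φ.symm (Pi.single i ((1 : ∀ i, A i) i)) = 1
    rw [← map_sum, Finset.univ_sum_single, map_one]
  have hE : ∃ i₀, ev (E i₀) ≠ 0 := by
    by_contra hcon
    push Not at hcon
    have : ev (∑ i, E i) = 0 := by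
      rw [map_sum]
      exact Finset.sum_eq_zero (fun i _ => hcon i)
    rw [hEsum, map_one] at this
    exact one_ne_zero this
  obtain ⟨i₀, hi₀⟩ := hE
  let ρ : AdjoinRoot f →+* A i₀ := (Pi.evalRingHom A i₀).comp φ.toRingHom
  have hρ : ∀ x, ρ x = φ x i₀ := fun x => rfl
  have hρsurj : Function.Surjective ρ := by
    intro y
    refine ⟨φ.symm (Pi.single i₀ y), ?_⟩
    rw [hρ, RingEquiv.apply_symm_apply, Pi.single_eq_same]
  have hmulE : ∀ x, φ (x * E i₀) = Pi.single i₀ (ρ x) := by
    intro x
    show φ (x * φ.symm (Pi.single i₀ 1)) = _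
    rw [map_mul, RingEquiv.apply_symm_apply]
    ext j
    by_cases hj : j = i₀
    · subst hj
      simp [hρ]
    · simp [Pi.single_eq_of_ne hj]
  have claim : ∀ w, ρ w ∈ maximalIdeal (A i₀) → ev w = 0 := by
    intro w hw
    by_contra hne
    have hne' : ev (w * E i₀) ≠ 0 := by
      rw [map_mul]
      exact mul_ne_zero hne hi₀
    obtain ⟨z, hz⟩ := hev_surj (ev (w * E i₀))⁻¹
    have hevu : ev (1 - w * E i₀ * z) = 0 := by
      rw [map_sub, map_one, map_mul, hz, mul_inv_cancel₀ hne', sub_self]
    have hunit : IsUnit (φ (1 - w * E i₀ * z)) := by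
      rw [Pi.isUnit_iff]
      intro j
      rw [map_sub, map_one, map_mul, hmulE]
      by_cases hj : j = i₀
      · subst hj
        simp only [Pi.sub_apply, Pi.one_apply, Pi.mul_apply, Pi.single_eq_same]
        have hmem : ρ w * φ z j ∈ maximalIdeal (A j) := Ideal.mul_mem_right _ _ hw
        exact IsLocalRing.isUnit_one_sub_self_of_mem_nonunits _ hmem
      · simp [Pi.single_eq_of_ne hj]
    have hunit' : IsUnit (1 - w * E i₀ * z) := (isUnit_map_iff φ _).mp hunit
    have := hunit'.map ev
    rw [hevu] at this
    exact not_isUnit_zero this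
  have unit_of : ∀ x, ev x ≠ 0 → IsUnit (ρ x) := by
    intro x hx
    by_contra hnu
    exact hx (claim x ((IsLocalRing.mem_maximalIdeal _).mpr hnu))
  -- division by X - a
  set hq := f /ₘ (X - C a) with hhq
  have hfdecomp : f = (X - C a) * hq + C (f.eval a) := by
    calc f = f %ₘ (X - C a) + (X - C a) * (f /ₘ (X - C a)) := (modByMonic_add_div f _).symm
      _ = (X - C a) * hq + C (f.eval a) := by rw [modByMonic_X_sub_C_eq_C_eval]; ring
  have hres0 : residue R (f.eval a) = 0 := by
    rw [← h₁]
    exact (aeval_algebraMap_apply_eq_algebraMap_eval (A := ResidueField R) a f).symm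
  have hc : f.eval a ∈ maximalIdeal R := (residue_eq_zero_iff _).mp hres0
  have hder : (derivative f).eval a = hq.eval a := by
    conv_lhs => rw [hfdecomp]
    simp [derivative_mul]
  have hres1 : residue R (hq.eval a) ≠ 0 := by
    rw [← hder]
    intro h0
    apply h₂
    rw [← h0]
    exact (aeval_algebraMap_apply_eq_algebraMap_eval (A := ResidueField R) a _)
  have hevq : ev (aeval t hq) ≠ 0 := by
    rw [← aeval_algHom_apply, hev_t]
    intro h0
    apply hres1
    rw [← h0]
    exact (aeval_algebraMap_apply_eq_algebraMap_eval (A := ResidueField R) a _).symm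
  have hu := unit_of _ hevq
  have hrel : (t - algebraMap R _ a) * aeval t hq + algebraMap R _ (f.eval a) = 0 := by
    have h0 : aeval t f = 0 := by rw [AdjoinRoot.aeval_eq, AdjoinRoot.mk_self]
    have h1 : aeval t ((X - C a) * hq + C (f.eval a)) = 0 :=
      (congrArg (aeval t) hfdecomp).symm.trans h0
    simpa using h1
  -- algebra structure on the local factor
  letI algA : Algebra R (A i₀) := (ρ.comp (algebraMap R (AdjoinRoot f))).toAlgebra
  let ρ' : AdjoinRoot f →ₐ[R] A i₀ := { ρ with commutes' := fun r => rfl }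
  have hρ' : ∀ x, ρ' x = ρ x := fun x => rfl
  haveI : Module.Finite R (A i₀) := Module.Finite.of_surjective ρ'.toLinearMap hρsurj
  obtain ⟨v, hv⟩ := hu.exists_right_inv
  have hδ : ρ t - algebraMap R (A i₀) a = (- f.eval a) • v := by
    have h0 := congrArg ρ hrel
    rw [map_add, map_mul, map_sub, map_zero] at h0
    change (ρ t - algebraMap R (A i₀) a) * ρ (aeval t hq) + algebraMap R (A i₀) (f.eval a) = 0 at h0
    rw [Algebra.smul_def, map_neg]
    linear_combination v * h0 - (ρ t - algebraMap R (A i₀) a) * hv
  have hsurjA : Function.Surjective (algebraMap R (A i₀)) := by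
    have hle : (⊤ : Submodule R (A i₀)) ≤ Submodule.span R {1} := by
      apply Submodule.le_of_le_smul_of_le_jacobson_bot (I := maximalIdeal R) Module.Finite.fg_top
        (by rw [IsLocalRing.jacobson_eq_maximalIdeal ⊥ bot_ne_top])
      intro y _
      obtain ⟨s, rfl⟩ := hρsurj y
      obtain ⟨p, rfl⟩ := AdjoinRoot.mk_surjective s
      have h1 : ρ (AdjoinRoot.mk f p) = aeval (ρ t) p := by
        rw [← AdjoinRoot.aeval_eq]
        exact (aeval_algHom_apply ρ' t p).symm
      obtain ⟨q, hq'⟩ := sub_dvd_eval_sub (ρ t) (algebraMap R (A i₀) a)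
        (p.map (algebraMap R (A i₀)))
      rw [eval_map, eval_map, ← aeval_def, ← aeval_def,
        aeval_algebraMap_apply_eq_algebraMap_eval] at hq'
      have h2 : ρ (AdjoinRoot.mk f p) = (p.eval a) • (1 : A i₀) + (- f.eval a) • (v * q) := by
        rw [h1, Algebra.smul_def, mul_one, ← smul_mul_assoc, ← hδ]
        linear_combination hq'
      rw [h2]
      exact Submodule.add_mem_sup (Submodule.smul_mem _ _ (Submodule.mem_span_singleton_self 1))
        (Submodule.smul_mem_smul (neg_mem hc) Submodule.mem_top)
    intro y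
    obtain ⟨r, hr⟩ := Submodule.mem_span_singleton.mp (hle (Submodule.mem_top : y ∈ ⊤))
    exact ⟨r, by rw [← hr, Algebra.smul_def, mul_one]⟩
  have hinjA : Function.Injective (algebraMap R (A i₀)) := by
    rw [injective_iff_map_eq_zero]
    intro r hr
    have hrE : r • E i₀ = 0 := by
      apply φ.injective
      rw [Algebra.smul_def, hmulE, map_zero]
      show Pi.single i₀ (algebraMap R (A i₀) r) = 0
      rw [hr, Pi.single_zero]
    let b := (AdjoinRoot.powerBasis' hf).basis
    have hcoord : ∀ k, r * b.repr (E i₀) k = 0 := by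
      intro k
      have := congrArg (fun x => b.repr x k) hrE
      simpa using this
    by_contra hr0
    have hall : ∀ k, b.repr (E i₀) k ∈ maximalIdeal R := by
      intro k
      by_contra hk
      have hunit : IsUnit (b.repr (E i₀) k) := by
        by_contra h'
        exact hk ((mem_maximalIdeal _).mpr h')
      exact hr0 ((hunit.mul_left_eq_zero).mp (hcoord k))
    apply hi₀
    rw [← b.sum_repr (E i₀), map_sum]
    refine Finset.sum_eq_zero (fun k _ => ?_)
    rw [map_smul, Algebra.smul_def]
    have : algebraMap R (ResidueField R) (b.repr (E i₀) k) = 0 :=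
      (residue_eq_zero_iff _).mpr (hall k)
    rw [this, zero_mul]
  obtain ⟨a', ha'⟩ := hsurjA (ρ t)
  refine ⟨a', ?_, ?_⟩
  · apply hinjA
    rw [map_zero, ← aeval_algebraMap_apply_eq_algebraMap_eval, ha', ← hρ' t, aeval_algHom_apply,
      AdjoinRoot.aeval_eq, AdjoinRoot.mk_self, map_zero]
  · have h0 : ρ (t - algebraMap R _ a') = 0 := by
      rw [map_sub]
      show ρ t - algebraMap R (A i₀) a' = 0
      rw [ha', sub_self]
    have := claim (t - algebraMap R _ a') (by rw [h0]; exact Ideal.zero_mem _)
    rw [map_sub, hev_t, hev_alg, sub_eq_zero] at this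
    exact this.symm

end Groth.Agent.S0500
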