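import Groth.Statements.S0502
import Mathlib

set_option autoImplicit false
universe u
open Hensel

namespace Groth.Agent.S0502

/-- A local ring `R` is henselian as soon as every étale `R`-algebra having a prime over the maximal
ideal with trivial residue field extension admits an `R`-algebra retraction to `R`. -/
theorem result (R : Type u) [CommRing R] [IsLocalRing R]
    (h : ∀ (S : Type u) [CommRing S] [Algebra R S] [Algebra.Etale R S] (q : Ideal S) [q.IsPrime],
      q.LiesOver (IsLocalRing.maximalIdeal R) → Function.Surjective (algebraMap R q.ResidueField) →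
      Nonempty (S →ₐ[R] R)) :
    HenselianLocalRing R := by
  open Polynomial IsLocalRing in
  refine ((HenselianLocalRing.TFAE R).out 0 1).mpr ?_
  intro f hf a₀ h₁ h₂
  have hroot : (f.map (residue R)).IsRoot a₀ := by
    rw [IsRoot.def, eval_map]; exact h₁
  obtain ⟨qb, hqb⟩ := dvd_iff_isRoot.mpr hroot
  have hder : aeval a₀ (derivative f) = qb.eval a₀ := by
    have : aeval a₀ (derivative f) = (derivative (f.map (residue R))).eval a₀ := by
      rw [derivative_map, eval_map]; rfl
    rw [this, hqb, derivative_mul]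
    simp
  have hqa : qb.eval a₀ ≠ 0 := by rw [← hder]; exact h₂
  obtain ⟨qL, hqL⟩ := Polynomial.map_surjective (residue R) residue_surjective qb
  have hqLa : aeval a₀ qL = qb.eval a₀ := by
    rw [← hqL, eval_map]; rfl
  let P : StandardEtalePair R := ⟨f, hf, derivative f * qL, ⟨qL, 0, 1, by ring⟩⟩
  have hmap : P.HasMap a₀ := by
    refine ⟨h₁, ?_⟩
    change IsUnit (aeval a₀ (derivative f * qL))
    rw [map_mul, hder, hqLa]
    exact (mul_ne_zero hqa hqa).isUnit
  let φ : P.Ring →ₐ[R] ResidueField R := P.lift a₀ hmap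
  have hφsurj : Function.Surjective φ := by
    intro y
    obtain ⟨r, rfl⟩ := residue_surjective y
    exact ⟨algebraMap R _ r, by rw [AlgHom.commutes]; rfl⟩
  let q : Ideal P.Ring := RingHom.ker φ.toRingHom
  haveI hqmax : q.IsMaximal := RingHom.ker_isMaximal_of_surjective φ.toRingHom hφsurj
  haveI : q.IsPrime := hqmax.isPrime
  have hqmem : ∀ y : P.Ring, ∃ r : R, y - algebraMap R P.Ring r ∈ q := by
    intro y
    obtain ⟨r, hr⟩ := residue_surjective (φ y)
    refine ⟨r, ?_⟩
    change φ.toRingHom (y - algebraMap R P.Ring r) = 0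
    rw [map_sub]
    change φ y - φ (algebraMap R P.Ring r) = 0
    rw [AlgHom.commutes, ← hr]
    exact sub_self _
  have hlies : q.LiesOver (maximalIdeal R) := by
    refine ⟨?_⟩
    ext r
    rw [Ideal.under, Ideal.mem_comap]
    change _ ↔ φ.toRingHom (algebraMap R P.Ring r) = 0
    change _ ↔ φ (algebraMap R P.Ring r) = 0
    rw [AlgHom.commutes]
    change _ ↔ residue R r = 0
    rw [residue_eq_zero_iff]
  have hsurj : Function.Surjective (algebraMap R q.ResidueField) := by
    intro z
    obtain ⟨y, rfl⟩ := Ideal.algebraMap_residueField_surjective q z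
    obtain ⟨r, hr⟩ := hqmem y
    refine ⟨r, ?_⟩
    rw [IsScalarTower.algebraMap_apply R P.Ring q.ResidueField]
    have := (Ideal.algebraMap_residueField_eq_zero (I := q)).mpr hr
    rw [map_sub, sub_eq_zero] at this
    exact this.symm
  obtain ⟨σ⟩ := h P.Ring q hlies hsurj
  have hσ : P.HasMap (σ P.X) := StandardEtalePair.hasMap_X.map σ
  have hσ1 : f.eval (σ P.X) = 0 := by
    have := hσ.1
    rwa [coe_aeval_eq_eval] at this
  refine ⟨σ P.X, hσ1, ?_⟩
  have hu : IsUnit (aeval (σ P.X) (derivative f * qL)) := hσ.2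
  rw [map_mul, coe_aeval_eq_eval] at hu
  have hqu : IsUnit (qL.eval (σ P.X)) := isUnit_of_mul_isUnit_right hu
  have hres : (f.map (residue R)).eval (residue R (σ P.X)) = 0 := by
    rw [eval_map, eval₂_at_apply, hσ1, map_zero]
  rw [hqb, eval_mul, eval_sub, eval_X, eval_C] at hres
  have hqne : qb.eval (residue R (σ P.X)) ≠ 0 := by
    rw [← hqL, eval_map, eval₂_at_apply]
    exact (hqu.map (residue R)).ne_zero
  exact sub_eq_zero.mp ((mul_eq_zero.mp hres).resolve_right hqne)

end Groth.Agent.S0502
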