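import Groth.Statements.S0504
import Mathlib
import Groth.Agent.Lib.helper1.HenselSplit

set_option autoImplicit false
universe u
open Hensel

namespace Groth.Agent.S0504

/-- A finite-type algebra `S` over a henselian local ring `R` contains an idempotent `e` such that
`S/(1-e)` is finitely generated as an `R`-module and `R → S/(e)` is quasi-finite at no prime lying
over the maximal ideal of `R`. -/
theorem result (R : Type u) [CommRing R] [HenselianLocalRing R]
    (S : Type u) [CommRing S] [Algebra R S] [Algebra.FiniteType R S] :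
    ∃ e : S, IsIdempotentElem e ∧ Module.Finite R (S ⧸ Ideal.span ({1 - e} : Set S)) ∧
      ∀ (q : Ideal (S ⧸ Ideal.span ({e} : Set S))) [q.IsPrime],
        q.LiesOver (IsLocalRing.maximalIdeal R) → ¬ Algebra.QuasiFiniteAt R q := by
  open IsLocalRing in
  obtain ⟨ε, hε, hfin, hq⟩ := Helper1.exists_idem_finite_forall_quasiFiniteAt R S
  refine ⟨ε, hε, hfin, ?_⟩
  intro q' _ hlies hqf
  haveI : (q'.comap (algebraMap S (S ⧸ Ideal.span {ε}))).IsPrime := Ideal.comap_isPrime _ _
  have hlies' : (q'.comap (algebraMap S (S ⧸ Ideal.span {ε}))).LiesOver (maximalIdeal R) := by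
    refine ⟨?_⟩
    rw [Ideal.over_def q' (maximalIdeal R), Ideal.under, Ideal.under, Ideal.comap_comap]
    rfl
  have hqf' := Helper1.quasiFiniteAt_comap_quotient_idem (R := R) ε hε q'
  refine hq _ hlies' hqf' ?_
  rw [Ideal.mem_comap]
  have : algebraMap S (S ⧸ Ideal.span {ε}) ε = 0 :=
    Ideal.Quotient.eq_zero_iff_mem.mpr (Ideal.mem_span_singleton_self _)
  rw [this]
  exact q'.zero_mem

end Groth.Agent.S0504
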