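import Groth.Statements.S0514
import Groth.Agent.Lib.helper1.HensProps
import Groth.Agent.S0509

set_option autoImplicit false
universe u
open Hensel

namespace Groth.Agent.S0514

/-- A local ring is reduced exactly when its henselization is reduced. -/
theorem result (R : Type u) [CommRing R] [IsLocalRing R] (S : Type u) [CommRing S] [IsLocalRing S]
    [Algebra R S] [IsLocalHom (algebraMap R S)] [Hensel.IsHenselization R S] :
    IsReduced R ↔ IsReduced S := by
  obtain ⟨e⟩ := Helper1.nonempty_algEquiv_hensL R S
  constructor
  · intro h
    haveI := Helper1.hens_isReduced R (IsLocalRing.maximalIdeal R)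
    exact isReduced_of_injective e.symm.toAlgHom.toRingHom e.symm.injective
  · intro h
    haveI : Module.FaithfullyFlat R S := Groth.Agent.S0509.result R S
    exact isReduced_of_injective (algebraMap R S) (FaithfulSMul.algebraMap_injective R S)

end Groth.Agent.S0514
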