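import Groth.Statements.S0516
import Mathlib
import Groth.Agent.S0499
import Groth.Agent.S0503
import Groth.Agent.Lib.helper1.StrictHensel

set_option autoImplicit false
universe u
open Hensel

namespace Groth.Agent.S0516

/-- An unramified algebra `S` (formally unramified of finite type) over a strictly henselian local ring
`R` is isomorphic over `R` to a product of finitely many quotient rings of `R` and an `R`-algebra in
which the maximal ideal of `R` generates the unit ideal. -/
theorem result (R : Type u) [CommRing R]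
    [HenselianLocalRing R] [IsSepClosed (IsLocalRing.ResidueField R)] (S : Type u) [CommRing S] [Algebra R S]
    [Algebra.Unramified R S] :
    ∃ (ι : Type u) (_ : Fintype ι) (A : ι → Type u) (_ : ∀ i, CommRing (A i))
      (_ : ∀ i, Algebra R (A i)) (B : Type u) (_ : CommRing B) (_ : Algebra R B),
      (∀ i, Function.Surjective (algebraMap R (A i))) ∧
      Ideal.map (algebraMap R B) (IsLocalRing.maximalIdeal R) = ⊤ ∧
      Nonempty (S ≃ₐ[R] ((∀ i, A i) × B)) := by
  classical
  open IsLocalRing in
  obtain ⟨e, he, hfin, hB⟩ := Groth.Agent.S0503.result R S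
  haveI := hfin
  obtain ⟨ι, hι, A, hA, hloc, ⟨φ⟩⟩ := Groth.Agent.S0499.result R (S ⧸ Ideal.span {1 - e})
  letI := hι
  letI := hA
  haveI := hloc
  let ρ : ∀ i, S →+* A i := fun i =>
    (Pi.evalRingHom A i).comp (φ.toRingHom.comp (Ideal.Quotient.mk (Ideal.span {1 - e})))
  have hρsurj : ∀ i, Function.Surjective (ρ i) := by
    intro i y
    obtain ⟨s, hs⟩ := Ideal.Quotient.mk_surjective (φ.symm (Pi.single i y))
    refine ⟨s, ?_⟩
    show φ (Ideal.Quotient.mk _ s) i = y
    rw [hs, RingEquiv.apply_symm_apply, Pi.single_eq_same]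
  letI algA : ∀ i, Algebra R (A i) := fun i => ((ρ i).comp (algebraMap R S)).toAlgebra
  refine ⟨ι, hι, A, hA, algA, S ⧸ Ideal.span {e}, inferInstance, inferInstance, ?_, hB, ?_⟩
  · intro i
    let ρ' : S →ₐ[R] A i := { ρ i with commutes' := fun r => rfl }
    let ρT : (S ⧸ Ideal.span {1 - e}) →ₐ[R] A i :=
      { (Pi.evalRingHom A i).comp φ.toRingHom with commutes' := fun r => rfl }
    have hρTsurj : Function.Surjective ρT := by
      intro y
      obtain ⟨s, hs⟩ := hρsurj i y
      exact ⟨Ideal.Quotient.mk _ s, hs⟩
    haveI : Module.Finite R (A i) := Module.Finite.of_surjective ρT.toLinearMap hρTsurj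
    haveI : Algebra.FormallyUnramified R (A i) :=
      Algebra.FormallyUnramified.of_surjective ρ' (hρsurj i)
    exact Helper1.surjective_algebraMap_of_unramified_local R (A i)
  · let Ψ : S →ₐ[R] (∀ i, A i) × (S ⧸ Ideal.span {e}) :=
      { toRingHom := (φ.toRingHom.comp (Ideal.Quotient.mk (Ideal.span {1 - e}))).prod
          (Ideal.Quotient.mk (Ideal.span {e}))
        commutes' := fun r => rfl }
    have hΨ : Function.Bijective Ψ := by
      have h1 := RingHom.prod_bijective_of_isIdempotentElem he.one_sub he (by ring)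
        (by rw [sub_mul, one_mul, he.eq, sub_self])
      have h2 : ⇑Ψ = (Prod.map φ id) ∘ ⇑((Ideal.Quotient.mk (Ideal.span {1 - e})).prod
          (Ideal.Quotient.mk (Ideal.span {e}))) := by
        ext x <;> rfl
      rw [h2]
      exact (Function.Bijective.prodMap φ.bijective Function.bijective_id).comp h1
    exact ⟨AlgEquiv.ofBijective Ψ hΨ⟩

end Groth.Agent.S0516
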