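import Groth.Statements.S0517
import Mathlib
import Groth.Agent.Lib.helper1.HenselFEt

set_option autoImplicit false
universe u
open Hensel

namespace Groth.Agent.S0517

open TensorProduct in
theorem exists_factor_residueField {R S B : Type u} [CommRing R] [IsLocalRing R]
    [IsSepClosed (IsLocalRing.ResidueField R)] [CommRing S] [IsLocalRing S] [Algebra R S]
    [IsLocalHom (algebraMap R S)] [CommRing B] [Algebra R B] [Algebra.Etale R B]
    (g : B →ₐ[R] IsLocalRing.ResidueField S) :
    ∃ g₀ : B →ₐ[R] IsLocalRing.ResidueField R,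
      ∀ b, algebraMap (IsLocalRing.ResidueField R) (IsLocalRing.ResidueField S) (g₀ b) = g b := by
  let g' : IsLocalRing.ResidueField R ⊗[R] B →ₐ[IsLocalRing.ResidueField R]
      IsLocalRing.ResidueField S :=
    Algebra.TensorProduct.lift (Algebra.ofId _ _) g (fun _ _ => Commute.all _ _)
  haveI hprime : (RingHom.ker g').IsPrime := RingHom.ker_isPrime g'
  let h₀ : IsLocalRing.ResidueField R ⊗[R] B →ₐ[IsLocalRing.ResidueField R]
      IsLocalRing.ResidueField R :=
    (Algebra.IsFiniteSplit.algHomEquivPrimeSpectrum (IsLocalRing.ResidueField R)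
      (IsLocalRing.ResidueField R ⊗[R] B)).symm ⟨RingHom.ker g', hprime⟩
  have hker : RingHom.ker h₀ = RingHom.ker g' := by
    have h1 := (Algebra.IsFiniteSplit.algHomEquivPrimeSpectrum (IsLocalRing.ResidueField R)
      (IsLocalRing.ResidueField R ⊗[R] B)).apply_symm_apply ⟨RingHom.ker g', hprime⟩
    exact congrArg PrimeSpectrum.asIdeal h1
  refine ⟨(h₀.restrictScalars R).comp Algebra.TensorProduct.includeRight, fun b => ?_⟩
  have hx : ((1 : IsLocalRing.ResidueField R) ⊗ₜ[R] b) -
      algebraMap (IsLocalRing.ResidueField R) (IsLocalRing.ResidueField R ⊗[R] B)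
        (h₀ ((1 : IsLocalRing.ResidueField R) ⊗ₜ[R] b)) ∈ RingHom.ker g' := by
    rw [← hker, RingHom.mem_ker, map_sub, AlgHom.commutes]
    simp
  rw [RingHom.mem_ker, map_sub, AlgHom.commutes, sub_eq_zero] at hx
  change algebraMap _ _ (h₀ ((1 : IsLocalRing.ResidueField R) ⊗ₜ[R] b)) = g b
  rw [← hx]
  simp [g']

theorem exists_algHom_of_solution {R : Type u} [CommRing R] {n : ℕ}
    (P : Fin n → MvPolynomial (Fin n) R) {T : Type u} [CommRing T] [Algebra R T] (t : Fin n → T)
    (ht : ∀ i, MvPolynomial.aeval t (P i) = 0) :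
    ∃ f : (MvPolynomial (Fin n) R ⧸ Ideal.span (Set.range P)) →ₐ[R] T,
      ∀ i, f (Ideal.Quotient.mk _ (MvPolynomial.X i)) = t i := by
  have hle : Ideal.span (Set.range P) ≤
      RingHom.ker (MvPolynomial.aeval t : MvPolynomial (Fin n) R →ₐ[R] T) := by
    rw [Ideal.span_le]
    rintro _ ⟨i, rfl⟩
    exact ht i
  refine ⟨Ideal.Quotient.liftₐ _ (MvPolynomial.aeval t) (fun a ha => hle ha), fun i => ?_⟩
  rw [Ideal.Quotient.liftₐ_apply, Ideal.Quotient.lift_mk]
  simp

theorem aeval_eq_zero_of_algHom {R : Type u} [CommRing R] {n : ℕ}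
    (P : Fin n → MvPolynomial (Fin n) R) {T : Type u} [CommRing T] [Algebra R T]
    (f : (MvPolynomial (Fin n) R ⧸ Ideal.span (Set.range P)) →ₐ[R] T) (i : Fin n) :
    MvPolynomial.aeval (fun j => f (Ideal.Quotient.mk _ (MvPolynomial.X j))) (P i) = 0 := by
  have h1 : (MvPolynomial.aeval (fun j => f (Ideal.Quotient.mk _ (MvPolynomial.X j)))) =
      f.comp (Ideal.Quotient.mkₐ R (Ideal.span (Set.range P))) := by
    apply MvPolynomial.algHom_ext
    intro j
    simp
  rw [h1, AlgHom.comp_apply]
  have h2 : Ideal.Quotient.mkₐ R (Ideal.span (Set.range P)) (P i) = 0 :=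
    Ideal.Quotient.eq_zero_iff_mem.mpr (Ideal.subset_span ⟨i, rfl⟩)
  rw [h2, map_zero]

theorem algHom_ext_of_X {R : Type u} [CommRing R] {n : ℕ}
    (P : Fin n → MvPolynomial (Fin n) R) {T : Type u} [CommRing T] [Algebra R T]
    (f g : (MvPolynomial (Fin n) R ⧸ Ideal.span (Set.range P)) →ₐ[R] T)
    (h : ∀ i, f (Ideal.Quotient.mk _ (MvPolynomial.X i)) = g (Ideal.Quotient.mk _ (MvPolynomial.X i))) :
    f = g := by
  apply Ideal.Quotient.algHom_ext
  apply MvPolynomial.algHom_ext
  intro i
  exact h i

theorem algHom_eq_of_local {R S B : Type u} [CommRing R] [CommRing S] [IsLocalRing S]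
    [Algebra R S] [CommRing B] [Algebra R B] [Algebra.Etale R B] (f g : B →ₐ[R] S)
    (h : ∀ b, f b - g b ∈ IsLocalRing.maximalIdeal S) : f = g :=
  Helper1.algHom_eq_of_sub_mem_jacobson (IsLocalRing.maximalIdeal S)
    (by rw [IsLocalRing.jacobson_eq_maximalIdeal ⊥ bot_ne_top]) f g h


/-- Given strictly henselian local rings `R` and `S`, a local ring map `φ` between them, and a square
system of `n` polynomial equations in `n` unknowns over `R` whose quotient algebra is étale over
`R`, applying `φ` coordinatewise matches the solutions of the system in `Rⁿ` bijectively with the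
solutions of the transported system in `Sⁿ`. -/
theorem result (R : Type u) [CommRing R]
    [HenselianLocalRing R] [IsSepClosed (IsLocalRing.ResidueField R)] (S : Type u) [CommRing S]
    [HenselianLocalRing S] [IsSepClosed (IsLocalRing.ResidueField S)] (φ : R →+* S) [IsLocalHom φ] (n : ℕ)
    (P : Fin n → MvPolynomial (Fin n) R)
    [Algebra.Etale R (MvPolynomial (Fin n) R ⧸ Ideal.span (Set.range P))] :
    Set.BijOn (fun r : Fin n → R => φ ∘ r)
      {r : Fin n → R | ∀ i, MvPolynomial.eval r (P i) = 0}
      {s : Fin n → S | ∀ i, MvPolynomial.eval s (MvPolynomial.map φ (P i)) = 0} := by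
  classical
  letI algS : Algebra R S := φ.toAlgebra
  haveI hlocS : IsLocalHom (algebraMap R S) := (inferInstance : IsLocalHom φ)
  have hev : ∀ (r : Fin n → R) (p : MvPolynomial (Fin n) R),
      MvPolynomial.eval (φ ∘ r) (MvPolynomial.map φ p) = φ (MvPolynomial.eval r p) := by
    intro r p
    rw [MvPolynomial.eval_map]
    have h := MvPolynomial.eval₂_comp_left φ (RingHom.id R) r p
    rw [RingHom.comp_id, MvPolynomial.eval₂_id] at h
    exact h.symm
  have haevalR : ∀ (r : Fin n → R) (p : MvPolynomial (Fin n) R),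
      MvPolynomial.aeval r p = MvPolynomial.eval r p := by
    intro r p
    rw [MvPolynomial.aeval_def, Algebra.algebraMap_self, MvPolynomial.eval₂_id]
  have haevalS : ∀ (s : Fin n → S) (p : MvPolynomial (Fin n) R),
      MvPolynomial.aeval s p = MvPolynomial.eval s (MvPolynomial.map φ p) := by
    intro s p
    rw [MvPolynomial.eval_map, MvPolynomial.aeval_def]
    rfl
  refine ⟨?_, ?_, ?_⟩
  · intro r hr i
    simp only [Set.mem_setOf_eq] at hr
    change MvPolynomial.eval (φ ∘ r) (MvPolynomial.map φ (P i)) = 0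
    rw [hev, hr i, map_zero]
  · intro r hr r' hr' heq
    simp only [Set.mem_setOf_eq] at hr hr'
    obtain ⟨f, hf⟩ := exists_algHom_of_solution P r (fun i => by rw [haevalR]; exact hr i)
    obtain ⟨f', hf'⟩ := exists_algHom_of_solution P r' (fun i => by rw [haevalR]; exact hr' i)
    have hcomp : (Algebra.ofId R S).comp f = (Algebra.ofId R S).comp f' := by
      apply algHom_ext_of_X
      intro i
      change φ (f _) = φ (f' _)
      rw [hf, hf']
      exact congrFun heq i
    have hff' : f = f' := by
      apply algHom_eq_of_local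
      intro b
      by_contra hb
      have hu : IsUnit (f b - f' b) := by
        by_contra hnu
        exact hb ((IsLocalRing.mem_maximalIdeal _).mpr hnu)
      have h0 : φ (f b - f' b) = 0 := by
        have h1 := AlgHom.congr_fun hcomp b
        change φ (f b) = φ (f' b) at h1
        rw [map_sub, h1, sub_self]
      have h2 := hu.map φ
      rw [h0] at h2
      exact not_isUnit_zero h2
    funext i
    rw [← hf i, ← hf' i, hff']
  · intro s hs
    simp only [Set.mem_setOf_eq] at hs
    obtain ⟨g, hg⟩ := exists_algHom_of_solution P s (fun i => by rw [haevalS]; exact hs i)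
    let gbar : (MvPolynomial (Fin n) R ⧸ Ideal.span (Set.range P)) →ₐ[R]
        IsLocalRing.ResidueField S := (IsScalarTower.toAlgHom R S (IsLocalRing.ResidueField S)).comp g
    obtain ⟨g₀, hg₀⟩ := exists_factor_residueField gbar
    obtain ⟨f, hf⟩ := Helper1.exists_algHom_lift_of_etale (IsLocalRing.maximalIdeal R)
      (Helper1.gabberCond_of_henselianRing _) g₀
    have hgg : (Algebra.ofId R S).comp f = g := by
      apply algHom_eq_of_local
      intro b
      rw [← Ideal.Quotient.eq_zero_iff_mem]
      change IsLocalRing.residue S (φ (f b) - g b) = 0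
      rw [map_sub, sub_eq_zero]
      have h1 : IsLocalRing.residue S (φ (f b)) =
          algebraMap (IsLocalRing.ResidueField R) (IsLocalRing.ResidueField S)
            (IsLocalRing.residue R (f b)) := rfl
      have h2 : IsLocalRing.residue R (f b) = g₀ b := hf b
      rw [h1, h2, hg₀]
      rfl
    refine ⟨fun i => f (Ideal.Quotient.mk _ (MvPolynomial.X i)), ?_, ?_⟩
    · intro i
      have h3 := aeval_eq_zero_of_algHom P f i
      rw [haevalR] at h3
      exact h3
    · funext i
      change φ (f (Ideal.Quotient.mk _ (MvPolynomial.X i))) = s i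
      rw [← hg i, ← hgg]
      rfl

end Groth.Agent.S0517
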