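import Groth.Statements.S0532
import Mathlib
import Groth.Agent.Lib.helper1.HenselFEtLift

set_option autoImplicit false
universe u
open Hensel

namespace Groth.Agent.S0532

/-- If `A` is Henselian at `I`, every finite étale `A/I`-algebra is the base change of a finite étale
`A`-algebra. -/
theorem result (A : Type u) [CommRing A] (I : Ideal A) [HenselianRing A I]
    (C : Type u) [CommRing C] [Algebra (A ⧸ I) C] [Module.Finite (A ⧸ I) C] [Algebra.Etale (A ⧸ I) C] :
    ∃ (B : Type u) (_ : CommRing B) (_ : Algebra A B), Module.Finite A B ∧ Algebra.Etale A B ∧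
      Nonempty (TensorProduct A (A ⧸ I) B ≃ₐ[A ⧸ I] C) := by
  letI algAC : Algebra A C := Algebra.compHom C (Ideal.Quotient.mk I)
  haveI tower : IsScalarTower A (A ⧸ I) C := IsScalarTower.of_algebraMap_eq (fun _ => rfl)
  haveI hfinq : Module.Finite A (A ⧸ I) :=
    Module.Finite.of_surjective (Ideal.Quotient.mkₐ A I).toLinearMap
      (Ideal.Quotient.mkₐ_surjective A I)
  haveI hfinC : Module.Finite A C := Module.Finite.trans (A ⧸ I) C
  haveI hintC : Algebra.IsIntegral A C := Algebra.IsIntegral.of_finite A C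
  have hIC : ∀ a ∈ I, algebraMap A C a = 0 := by
    intro a ha
    rw [IsScalarTower.algebraMap_apply A (A ⧸ I) C, Ideal.Quotient.algebraMap_eq,
      Ideal.Quotient.eq_zero_iff_mem.mpr ha, map_zero]
  obtain ⟨S, instS, algS, π, hEt, hπ, hker⟩ := Helper1.exists_etale_lift_quotient I C
  obtain ⟨B, instB, algB, ρ, hfin, hEtB, hρ, hkerρ⟩ :=
    Helper1.exists_finite_etale_of_quotient I hIC π hπ hker
  exact ⟨B, instB, algB, hfin, hEtB, Helper1.nonempty_tensor_algEquiv_of_ker_eq I ρ hρ hkerρ⟩

end Groth.Agent.S0532
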