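import Groth.Statements.S0533
import Mathlib
import Groth.Agent.Lib.helper1.HenselFEt

set_option autoImplicit false
universe u
open Hensel

namespace Groth.Agent.S0533

/-- If `A` is Henselian at `I`, base change to `A/I` gives a bijection between `A`-algebra maps of two
finite étale `A`-algebras and `A/I`-algebra maps of their reductions. -/
theorem result (A : Type u) [CommRing A] (I : Ideal A) [HenselianRing A I]
    (B₁ B₂ : Type u) [CommRing B₁] [CommRing B₂] [Algebra A B₁] [Algebra A B₂]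
    [Module.Finite A B₁] [Algebra.Etale A B₁] [Module.Finite A B₂] [Algebra.Etale A B₂] :
    Function.Bijective (fun φ : B₁ →ₐ[A] B₂ =>
      Algebra.TensorProduct.map (AlgHom.id (A ⧸ I) (A ⧸ I)) φ) := by
  open TensorProduct in
  have hint : Algebra.IsIntegral A B₂ := Algebra.IsIntegral.of_finite A B₂
  let e := Algebra.TensorProduct.quotIdealMapEquivQuotTensor B₂ I
  have he : ∀ b : B₂, e (Ideal.Quotient.mk _ b) = (1 : A ⧸ I) ⊗ₜ[A] b := fun b => rfl
  constructor
  · intro φ ψ h
    refine Helper1.algHom_eq_of_sub_mem_jacobson (Ideal.map (algebraMap A B₂) I)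
      (Helper1.map_le_jacobson_of_isIntegral I HenselianRing.jac B₂) φ ψ ?_
    intro b
    have h1 := congrArg (fun f => f ((1 : A ⧸ I) ⊗ₜ[A] b)) h
    simp only [Algebra.TensorProduct.map_tmul, AlgHom.id_apply] at h1
    rw [← he, ← he] at h1
    have h2 := e.injective h1
    exact Ideal.Quotient.eq.mp h2
  · intro Ψ
    let ψ : B₁ →ₐ[A] B₂ ⧸ Ideal.map (algebraMap A B₂) I :=
      ((e.symm.toAlgHom.restrictScalars A).comp (Ψ.restrictScalars A)).comp
        Algebra.TensorProduct.includeRight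
    obtain ⟨φ, hφ⟩ := Helper1.exists_algHom_lift_of_etale_of_isIntegral I ψ
    refine ⟨φ, ?_⟩
    apply Algebra.TensorProduct.ext
    · ext
    · ext b
      change Algebra.TensorProduct.map (AlgHom.id (A ⧸ I) (A ⧸ I)) φ ((1 : A ⧸ I) ⊗ₜ[A] b) =
        Ψ ((1 : A ⧸ I) ⊗ₜ[A] b)
      rw [Algebra.TensorProduct.map_tmul, AlgHom.id_apply, ← he, hφ]
      change e (e.symm (Ψ ((1 : A ⧸ I) ⊗ₜ[A] b))) = _
      rw [AlgEquiv.apply_symm_apply]

end Groth.Agent.S0533
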