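import Groth.Statements.S0520
import Mathlib
import Groth.Agent.Lib.helper1.HenselPair

set_option autoImplicit false
universe u
open Hensel

namespace Groth.Agent.S0520

/-- A ring `A` is Henselian at an ideal `I` in Mathlib's sense (simple roots lift) exactly when `I` lies
in the Jacobson radical and every factorization of the reduction of a monic polynomial into two
comaximal monic factors over `A/I` lifts to a factorization into monic polynomials over `A`. -/
theorem result (A : Type u) [CommRing A] (I : Ideal A) :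
    HenselianRing A I ↔ (I ≤ Ideal.jacobson ⊥ ∧
      ∀ f : Polynomial A, f.Monic → ∀ g₀ h₀ : Polynomial (A ⧸ I), g₀.Monic → h₀.Monic →
        IsCoprime g₀ h₀ → Polynomial.map (Ideal.Quotient.mk I) f = g₀ * h₀ →
        ∃ g h : Polynomial A, g.Monic ∧ h.Monic ∧ f = g * h ∧
          Polynomial.map (Ideal.Quotient.mk I) g = g₀ ∧ Polynomial.map (Ideal.Quotient.mk I) h = h₀) := by
  open Polynomial in
  constructor
  · intro h
    exact ⟨h.jac, fun f hf g₀ h₀ hg hh hc hfac =>
      Helper1.monic_factor_lift_of_gabber I (Helper1.gabberCond_of_henselianRing I) f hf g₀ h₀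
        hg hh hc hfac⟩
  · rintro ⟨hjac, hlift⟩
    refine ⟨hjac, ?_⟩
    intro f hf a₀ h₁ h₂
    rcases subsingleton_or_nontrivial A with hA | hA
    · exact ⟨a₀, Subsingleton.elim _ _, by simp⟩
    have hItop : I ≠ ⊤ := by
      intro h
      have h1 : (⊥ : Ideal A).jacobson = ⊤ := top_le_iff.mp (h ▸ hjac)
      rw [Ideal.jacobson_eq_top_iff] at h1
      exact bot_ne_top h1
    have : Nontrivial (A ⧸ I) := Ideal.Quotient.nontrivial_iff.mpr hItop
    set ā := Ideal.Quotient.mk I a₀ with hā
    set fb := f.map (Ideal.Quotient.mk I) with hfb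
    have hroot : fb.IsRoot ā := by
      change fb.eval ā = 0
      rw [hfb, hā, eval_map, eval₂_at_apply, Ideal.Quotient.eq_zero_iff_mem]
      exact h₁
    set h₀ := fb /ₘ (X - C ā) with hh₀
    have hfac : (X - C ā) * h₀ = fb := mul_divByMonic_eq_iff_isRoot.mpr hroot
    have hfbm : fb.Monic := hf.map _
    have hh₀m : h₀.Monic := (monic_X_sub_C ā).of_mul_monic_left (hfac ▸ hfbm)
    have hder0 : h₀.eval ā = fb.derivative.eval ā := by
      rw [← hfac, derivative_mul]; simp
    have hder : h₀.eval ā = Ideal.Quotient.mk I (f.derivative.eval a₀) := by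
      rw [hder0, hfb, derivative_map, eval_map, hā, eval₂_at_apply]
    obtain ⟨r, hr⟩ := X_sub_C_dvd_sub_C_eval (a := ā) (p := h₀)
    rw [hder] at hr
    obtain ⟨v, hv⟩ := h₂.exists_left_inv
    have hcop : IsCoprime (X - C ā) h₀ := by
      refine ⟨-(C v * r), C v, ?_⟩
      have h3 : h₀ = (X - C ā) * r + C (Ideal.Quotient.mk I (f.derivative.eval a₀)) := by
        rw [← hr]; ring
      have h4 : (C v * C (Ideal.Quotient.mk I (f.derivative.eval a₀)) : (A ⧸ I)[X]) = 1 := by
        rw [← C_mul, hv, C_1]
      rw [h3]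
      linear_combination h4
    obtain ⟨g, h, hgm, hhm, hfgh, hgmap, hhmap⟩ :=
      hlift f hf (X - C ā) h₀ (monic_X_sub_C ā) hh₀m hcop hfac.symm
    have hgdeg : g.natDegree = 1 := by
      rw [← hgm.natDegree_map (Ideal.Quotient.mk I), hgmap, natDegree_X_sub_C]
    have hgeq := hgm.eq_X_add_C hgdeg
    refine ⟨-g.coeff 0, ?_, ?_⟩
    · change f.eval _ = 0
      rw [hfgh, eval_mul]
      have : g.eval (-g.coeff 0) = 0 := by
        rw [hgeq]; simp
      rw [this, zero_mul]
    · rw [← Ideal.Quotient.eq_zero_iff_mem, map_sub, map_neg, ← hā]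
      have h5 := congrArg (fun q => q.coeff 0) hgmap
      simp only [coeff_map, coeff_sub, coeff_X_zero, coeff_C_zero, zero_sub] at h5
      rw [h5]; ring

end Groth.Agent.S0520
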