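import Groth.Statements.S0523
import Mathlib
import Groth.Agent.Lib.helper1.HenselEtale

set_option autoImplicit false
universe u
open Hensel

namespace Groth.Agent.S0523

/-- `A` is Henselian at `I` exactly when for every étale `A`-algebra `A'` every `A`-algebra map `A' →
A/I` lifts to an `A`-algebra map `A' → A`. -/
theorem result (A : Type u) [CommRing A] (I : Ideal A) :
    HenselianRing A I ↔ ∀ (A' : Type u) [CommRing A'] [Algebra A A'] [Algebra.Etale A A']
      (σ : A' →ₐ[A] A ⧸ I), ∃ τ : A' →ₐ[A] A, (Ideal.Quotient.mkₐ A I).comp τ = σ := by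
  open Polynomial in
  constructor
  · intro h A' _ _ _ σ
    obtain ⟨τ, hτ⟩ := Helper1.exists_algHom_lift_of_etale I
      (Helper1.gabberCond_of_henselianRing I) σ
    exact ⟨τ, AlgHom.ext hτ⟩
  · intro h
    have hjac : I ≤ Ideal.jacobson ⊥ := by
      intro x hx
      rw [Ideal.mem_jacobson_bot]
      intro y
      have hmk : Ideal.Quotient.mk I (x * y + 1) = 1 := by
        rw [map_add, map_mul, Ideal.Quotient.eq_zero_iff_mem.mpr hx, zero_mul, zero_add, map_one]
      have hu : IsUnit ((Algebra.ofId A (A ⧸ I)) (x * y + 1)) := by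
        change IsUnit (Ideal.Quotient.mk I (x * y + 1))
        rw [hmk]; exact isUnit_one
      let σ : Localization.Away (x * y + 1) →ₐ[A] A ⧸ I :=
        IsLocalization.Away.liftAlgHom (x * y + 1) (f := Algebra.ofId A (A ⧸ I)) hu
      obtain ⟨τ, -⟩ := h (Localization.Away (x * y + 1)) σ
      have h1 : IsUnit (algebraMap A (Localization.Away (x * y + 1)) (x * y + 1)) :=
        IsLocalization.Away.algebraMap_isUnit _
      have h2 := h1.map τ
      rwa [AlgHom.commutes] at h2
    refine ⟨hjac, ?_⟩
    intro f hf a₀ h₁ h₂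
    let P : StandardEtalePair A := ⟨f, hf, derivative f, ⟨1, 0, 1, by simp⟩⟩
    have hmkeval : ∀ q : A[X], aeval (Ideal.Quotient.mk I a₀) q = Ideal.Quotient.mk I (q.eval a₀) := by
      intro q
      rw [aeval_def, Ideal.Quotient.algebraMap_eq, eval₂_at_apply]
    have hmap : P.HasMap (Ideal.Quotient.mk I a₀) := by
      refine ⟨?_, ?_⟩
      · change aeval _ f = 0
        rw [hmkeval, Ideal.Quotient.eq_zero_iff_mem]; exact h₁
      · change IsUnit (aeval _ (derivative f))
        rw [hmkeval]; exact h₂
    obtain ⟨τ, hτ⟩ := h P.Ring (P.lift _ hmap)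
    have h3 := (P.hasMap_X.map τ).1
    refine ⟨τ P.X, ?_, ?_⟩
    · change f.eval (τ P.X) = 0
      rw [← coe_aeval_eq_eval]
      exact h3
    · have h4 := congrArg (fun g => g P.X) hτ
      simp only [AlgHom.comp_apply, StandardEtalePair.lift_X] at h4
      rw [← Ideal.Quotient.eq]
      exact h4

end Groth.Agent.S0523
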