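import Groth.Statements.S0529
import Mathlib
import Groth.Agent.Lib.helper1.HenselIdem3

set_option autoImplicit false
universe u
open Hensel

namespace Groth.Agent.S0529

open Polynomial


/-- A product of rings, with the product ideal, is Henselian exactly when every factor is Henselian at
its ideal. -/
theorem result (J : Type u) (A : J → Type u) [∀ j, CommRing (A j)]
    (I : ∀ j, Ideal (A j)) :
    HenselianRing (∀ j, A j) (⨅ j, Ideal.comap (Pi.evalRingHom A j) (I j)) ↔
      ∀ j, HenselianRing (A j) (I j) := by
  classical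
  rw [Helper1.henselianRing_iff_gabberCond]
  simp_rw [Helper1.henselianRing_iff_gabberCond]
  have hmem : ∀ x : (∀ j, A j), x ∈ (⨅ j, Ideal.comap (Pi.evalRingHom A j) (I j)) ↔
      ∀ j, x j ∈ I j := by
    intro x
    simp [Ideal.mem_iInf]
  have hev : ∀ (j : J) (P : (∀ j, A j)[X]) (α : ∀ j, A j),
      (P.eval α) j = (P.map (Pi.evalRingHom A j)).eval (α j) := by
    intro j P α
    change Pi.evalRingHom A j (P.eval α) = (P.map (Pi.evalRingHom A j)).eval (Pi.evalRingHom A j α)
    rw [eval_map, eval₂_at_apply]
  have hsingle : ∀ (j : J) (x : A j), x ∈ I j →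
      Pi.single j x ∈ (⨅ j, Ideal.comap (Pi.evalRingHom A j) (I j)) := by
    intro j x hx
    rw [hmem]
    intro i
    by_cases h : i = j
    · subst h
      simpa using hx
    · rw [Pi.single_eq_of_ne h]
      exact zero_mem _
  constructor
  · rintro ⟨hjac, hroot⟩ j
    refine ⟨?_, ?_⟩
    · intro x hx
      rw [Ideal.mem_jacobson_bot]
      intro y
      have h1 := Ideal.mem_jacobson_bot.mp (hjac (hsingle j x hx)) (Pi.single j y)
      rw [Pi.isUnit_iff] at h1
      simpa using h1 j
    · intro n hn p hp hpc
      set P : (∀ j, A j)[X] :=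
        ∑ k ∈ Finset.range (n + 1), C (Pi.single j (p.coeff k)) * X ^ k with hP
      have hPdeg : P.natDegree ≤ n := by
        refine natDegree_sum_le_of_forall_le _ _ (fun k hk => ?_)
        refine (natDegree_C_mul_X_pow_le _ _).trans ?_
        exact Nat.lt_succ_iff.mp (Finset.mem_range.mp hk)
      have hPc : ∀ i, P.coeff i ∈ (⨅ j, Ideal.comap (Pi.evalRingHom A j) (I j)) := by
        intro i
        rw [hP, finset_sum_coeff]
        refine Ideal.sum_mem _ (fun k _ => ?_)
        rw [coeff_C_mul_X_pow]
        split_ifs
        · exact hsingle j _ (hpc k)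
        · exact zero_mem _
      have hPmap : P.map (Pi.evalRingHom A j) = p := by
        rw [hP, Polynomial.map_sum]
        simp only [Polynomial.map_mul, Polynomial.map_C, Polynomial.map_pow, Polynomial.map_X,
          Pi.evalRingHom_apply, Pi.single_eq_same]
        exact (as_sum_range_C_mul_X_pow' p (Nat.lt_succ_of_le hp)).symm
      obtain ⟨α, hα1, hαr⟩ := hroot n hn P hPdeg hPc
      refine ⟨α j, ?_, ?_⟩
      · have h2 := (hmem _).mp hα1 j
        simpa using h2
      · rw [IsRoot.def] at hαr ⊢
        have h3 := congrFun hαr j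
        rw [hev] at h3
        simpa [hPmap] using h3
  · intro h
    refine ⟨?_, ?_⟩
    · intro x hx
      rw [Ideal.mem_jacobson_bot]
      intro y
      rw [Pi.isUnit_iff]
      intro j
      exact Ideal.mem_jacobson_bot.mp ((h j).1 ((hmem x).mp hx j)) (y j)
    · intro n hn P hP hPc
      have key : ∀ j, ∃ α : A j, α - 1 ∈ I j ∧
          (X ^ n * (X - 1) + P.map (Pi.evalRingHom A j)).IsRoot α := by
        intro j
        refine (h j).2 n hn _ ((natDegree_map_le).trans hP) (fun i => ?_)
        rw [coeff_map]
        exact (hmem _).mp (hPc i) j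
      choose α hα1 hαr using key
      refine ⟨α, (hmem _).mpr (fun j => by simpa using hα1 j), ?_⟩
      rw [IsRoot.def]
      funext j
      rw [hev]
      have h4 := hαr j
      rw [IsRoot.def] at h4
      simpa using h4

end Groth.Agent.S0529
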