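import Groth.Statements.S0530
import Mathlib
import Groth.Agent.Lib.helper1.HenselIdem

set_option autoImplicit false
universe u
open Hensel

namespace Groth.Agent.S0530

/-- If `A` is Henselian at `I` and `p` is a prime ideal of `A`, then the spectrum of `A/(p + I)` is
connected. -/
theorem result (A : Type u) [CommRing A] (I : Ideal A) [HenselianRing A I]
    (p : Ideal A) [p.IsPrime] : ConnectedSpace (PrimeSpectrum (A ⧸ p ⊔ I)) := by
  have hjac : I ≤ Ideal.jacobson ⊥ := HenselianRing.jac
  have hne : p ⊔ I ≠ ⊤ := by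
    intro htop
    have h1 : (1 : A) ∈ p ⊔ I := by rw [htop]; trivial
    obtain ⟨x, hx, y, hy, hxy⟩ := Submodule.mem_sup.mp h1
    have hu := Ideal.mem_jacobson_bot.mp (hjac hy) (-1)
    have hx' : x = y * -1 + 1 := by linear_combination hxy
    rw [← hx'] at hu
    exact (inferInstance : p.IsPrime).ne_top (Ideal.eq_top_of_isUnit_mem _ hx hu)
  have hnt : Nontrivial (A ⧸ p ⊔ I) := Ideal.Quotient.nontrivial_iff.mpr hne
  have hidem : ∀ e : A ⧸ p ⊔ I, IsIdempotentElem e → e = 0 ∨ e = 1 := by
    intro eb heb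
    obtain ⟨a, rfl⟩ := Ideal.Quotient.mk_surjective eb
    have ha : a * a - a ∈ p ⊔ I := by
      rw [← Ideal.Quotient.eq, map_mul]
      exact heb
    obtain ⟨x, hx, y, hy, hxy⟩ := Submodule.mem_sup.mp ha
    have hb : (Ideal.Quotient.mk p a) * (Ideal.Quotient.mk p a) - Ideal.Quotient.mk p a ∈
        Ideal.map (algebraMap A (A ⧸ p)) I := by
      have h1 : (Ideal.Quotient.mk p a) * (Ideal.Quotient.mk p a) - Ideal.Quotient.mk p a =
          algebraMap A (A ⧸ p) y := by
        rw [Ideal.Quotient.algebraMap_eq, ← map_mul, ← map_sub, ← hxy, map_add,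
          Ideal.Quotient.eq_zero_iff_mem.mpr hx, zero_add]
      rw [h1]
      exact Ideal.mem_map_of_mem _ hy
    obtain ⟨e, he, hee⟩ := Helper1.exists_idempotent_lift_of_gabber I
      (Helper1.gabberCond_of_henselianRing I) (B := A ⧸ p) _ hb
    have key : ∀ ε : A, e = Ideal.Quotient.mk p ε →
        Ideal.Quotient.mk (p ⊔ I) a = Ideal.Quotient.mk (p ⊔ I) ε := by
      intro ε hε
      rw [hε, ← map_sub, Ideal.Quotient.algebraMap_eq,
        Ideal.mem_map_iff_of_surjective _ Ideal.Quotient.mk_surjective] at hee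
      obtain ⟨z, hz, hz'⟩ := hee
      rw [Ideal.Quotient.eq] at hz'
      rw [eq_comm, Ideal.Quotient.eq]
      have : ε - a = (ε - a - z) + z := by ring
      rw [this]
      refine add_mem (Ideal.mem_sup_left ?_) (Ideal.mem_sup_right hz)
      have h2 : ε - a - z = -(z - (ε - a)) := by ring
      rw [h2]
      exact neg_mem hz'
    rcases (IsIdempotentElem.iff_eq_zero_or_one).mp he with h0 | h1
    · left
      rw [key 0 (by rw [h0, map_zero]), map_zero]
    · right
      rw [key 1 (by rw [h1, map_one]), map_one]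
  rw [connectedSpace_iff_clopen]
  refine ⟨inferInstance, ?_⟩
  intro s hs
  obtain ⟨e, he, rfl⟩ := PrimeSpectrum.isClopen_iff.mp hs
  rcases hidem e he with h0 | h1
  · left; rw [h0]; simp
  · right; rw [h1]; simp

end Groth.Agent.S0530
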