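import Groth.Statements.S0531
import Groth.Agent.Lib.helper1.Hensel

set_option autoImplicit false
universe u
open Hensel

namespace Groth.Agent.S0531

/-- Every ring has a largest ideal at which it is Henselian. -/
theorem result (A : Type u) [CommRing A] :
    ∃ I : Ideal A, HenselianRing A I ∧ ∀ J : Ideal A, HenselianRing A J → J ≤ I := by
  classical
  let S : Set (Ideal A) := {J | HenselianRing A J}
  -- finite sups of members of `S` are in `S`
  have hfin : ∀ s : Finset (Ideal A), (↑s ⊆ S) → HenselianRing A (s.sup id) := by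
    intro s
    induction s using Finset.induction_on with
    | empty => intro _; simpa using Helper1.henselianRing_bot A
    | insert a s _ ih =>
      intro hs
      rw [Finset.sup_insert, id]
      haveI : HenselianRing A a := hs (by simp)
      haveI : HenselianRing A (s.sup id) := ih (fun x hx => hs (by simp [Finset.mem_coe.mp hx]))
      exact Helper1.henselianRing_sup _ _
  have hjac : sSup S ≤ Ideal.jacobson ⊥ := sSup_le fun J (hJ : HenselianRing A J) => hJ.jac
  refine ⟨sSup S, ⟨hjac, ?_⟩, fun J hJ => le_sSup hJ⟩
  intro f hf a₀ h₁ h₂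
  have hu : IsUnit (f.derivative.eval a₀) := Helper1.isUnit_of_isUnit_mk hjac h₂
  obtain ⟨s, hs, hmem⟩ := (Submodule.mem_sSup_iff_exists_finset).mp h₁
  haveI : HenselianRing A (s.sup id) := hfin s hs
  have hmem' : f.eval a₀ ∈ s.sup id := by
    rwa [Finset.sup_eq_iSup]
  obtain ⟨a, ha, haa⟩ := HenselianRing.is_henselian (I := s.sup id) f hf a₀ hmem' (hu.map _)
  refine ⟨a, ha, ?_⟩
  have hle : s.sup id ≤ sSup S := Finset.sup_le fun J hJ => le_sSup (hs hJ)
  exact hle haa

end Groth.Agent.S0531
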