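import Groth.Statements.S0534
import Mathlib
import Groth.Agent.Lib.helper1.HenselIdem

set_option autoImplicit false
universe u
open Hensel

namespace Groth.Agent.S0534

theorem exists_idempotent_matrix_lift (R : Type u) [CommRing R] (I : Ideal R)
    [HenselianRing R I] (n : ℕ) (Eb : Matrix (Fin n) (Fin n) (R ⧸ I)) (hEb : Eb * Eb = Eb) :
    ∃ E : Matrix (Fin n) (Fin n) R, E * E = E ∧ E.map (Ideal.Quotient.mk I) = Eb := by
  classical
  open scoped IsMulCommutative in
  open Polynomial in
  have hjac : I ≤ Ideal.jacobson ⊥ := HenselianRing.jac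
  choose bf hbf using fun i j => Ideal.Quotient.mk_surjective (I := I) (Eb i j)
  let b : Matrix (Fin n) (Fin n) R := Matrix.of bf
  let ρ : Matrix (Fin n) (Fin n) R →+* Matrix (Fin n) (Fin n) (R ⧸ I) :=
    (Ideal.Quotient.mk I).mapMatrix
  have hρb : ρ b = Eb := by
    ext i j
    simp [ρ, b, hbf]
  have hρc : ρ (b * b - b) = 0 := by
    rw [map_sub, map_mul, hρb, hEb, sub_self]
  have hQ0map : (b * b - b).charpoly.map (Ideal.Quotient.mk I) = X ^ n := by
    rw [← Matrix.charpoly_map]
    have : (b * b - b).map (Ideal.Quotient.mk I) = 0 := hρc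
    rw [this, Matrix.charpoly_zero, Fintype.card_fin]
  have hQ0c : aeval (b * b - b) (b * b - b).charpoly = 0 := Matrix.aeval_self_charpoly _
  let b' : Algebra.adjoin R ({b} : Set (Matrix (Fin n) (Fin n) R)) :=
    ⟨b, Algebra.subset_adjoin rfl⟩
  have hQb' : aeval (b' * b' - b') (b * b - b).charpoly = 0 := by
    apply Subtype.val_injective
    rw [Polynomial.aeval_subalgebra_coe]
    exact hQ0c
  obtain ⟨e', u', v', he', h1, h2⟩ := Helper1.exists_idempotent_of_monic_aeval_eq_zero I
    (Helper1.gabberCond_of_henselianRing I) b' n _ (Matrix.charpoly_monic _) hQ0map hQb'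
  let ρ' : Algebra.adjoin R ({b} : Set (Matrix (Fin n) (Fin n) R)) →+*
      Matrix (Fin n) (Fin n) (R ⧸ I) :=
    ρ.comp (Algebra.adjoin R ({b} : Set (Matrix (Fin n) (Fin n) R))).val.toRingHom
  have hIK : Ideal.map (algebraMap R (Algebra.adjoin R ({b} : Set (Matrix (Fin n) (Fin n) R)))) I ≤
      RingHom.ker ρ' := by
    rw [Ideal.map_le_iff_le_comap]
    intro a ha
    rw [Ideal.mem_comap, RingHom.mem_ker]
    change ρ (algebraMap R (Matrix (Fin n) (Fin n) R) a) = 0
    ext i j
    simp only [ρ, RingHom.mapMatrix_apply, Matrix.map_apply, Matrix.algebraMap_matrix_apply,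
      Matrix.zero_apply]
    split_ifs
    · exact Ideal.Quotient.eq_zero_iff_mem.mpr ha
    · exact map_zero _
  set π := Ideal.Quotient.mk (RingHom.ker ρ') with hπ
  have hπb : IsIdempotentElem (π b') := by
    change π b' * π b' = π b'
    rw [← sub_eq_zero, ← map_mul, ← map_sub, hπ, Ideal.Quotient.eq_zero_iff_mem, RingHom.mem_ker]
    exact hρc
  have h1' : π e' = π u' * π b' ^ (n + 1) := by
    rw [← sub_eq_zero, ← map_pow, ← map_mul, ← map_sub, hπ, Ideal.Quotient.eq_zero_iff_mem]
    exact hIK h1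
  have h2' : 1 - π e' = π v' * (π b' - 1) ^ (n + 1) := by
    rw [← sub_eq_zero, ← map_one π, ← map_sub, ← map_sub, ← map_pow, ← map_mul, ← map_sub, hπ,
      Ideal.Quotient.eq_zero_iff_mem]
    exact hIK h2
  have h3 := Helper1.eq_of_idempotent_rel
    (R := Algebra.adjoin R ({b} : Set (Matrix (Fin n) (Fin n) R)) ⧸ RingHom.ker ρ') n hπb h1' h2'
  rw [← sub_eq_zero, ← map_sub, hπ, Ideal.Quotient.eq_zero_iff_mem, RingHom.mem_ker, map_sub,
    sub_eq_zero] at h3
  refine ⟨(e' : Matrix (Fin n) (Fin n) R), ?_, ?_⟩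
  · exact congrArg Subtype.val he'.eq
  · change ρ' e' = Eb
    rw [h3]
    exact hρb


/-- If `R` is Henselian at `I`, every finitely generated projective `R/I`-module is the base change of a
finitely generated projective `R`-module. -/
theorem result (R : Type u) [CommRing R] (I : Ideal R)
    [HenselianRing R I] (Q : Type u) [AddCommGroup Q] [Module (R ⧸ I) Q] [Module.Finite (R ⧸ I) Q]
    [Module.Projective (R ⧸ I) Q] :
    ∃ (P : Type u) (_ : AddCommGroup P) (_ : Module R P), Module.Finite R P ∧ Module.Projective R P ∧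
      Nonempty (TensorProduct R (R ⧸ I) P ≃ₗ[R ⧸ I] Q) := by
  classical
  have hjac : I ≤ Ideal.jacobson ⊥ := HenselianRing.jac
  obtain ⟨n, π, s, -, -, hπs⟩ := Module.Finite.exists_comp_eq_id_of_projective (R ⧸ I) Q
  have hπs' : ∀ q, π (s q) = q := fun q => LinearMap.congr_fun hπs q
  let Eb : Matrix (Fin n) (Fin n) (R ⧸ I) := LinearMap.toMatrix' (s ∘ₗ π)
  have hEbv : ∀ w, Eb.mulVec w = s (π w) := by
    intro w
    rw [← Matrix.toLin'_apply, Matrix.toLin'_toMatrix']; rfl
  have hEb : Eb * Eb = Eb := by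
    have hcomp : (s ∘ₗ π) ∘ₗ (s ∘ₗ π) = s ∘ₗ π := by
      refine LinearMap.ext fun w => ?_
      simp only [LinearMap.comp_apply, hπs']
    rw [← LinearMap.toMatrix'_comp, hcomp]
  obtain ⟨E, hE, hEmap⟩ := exists_idempotent_matrix_lift R I n Eb hEb
  have hEv : ∀ v : Fin n → R, (fun j => Ideal.Quotient.mk I (E.mulVec v j)) =
      Eb.mulVec (fun j => Ideal.Quotient.mk I (v j)) := by
    intro v
    ext j
    rw [RingHom.map_mulVec, hEmap]; rfl
  have hEE : ∀ v, E.mulVec (E.mulVec v) = E.mulVec v := by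
    intro v
    rw [Matrix.mulVec_mulVec, hE]
  let P : Submodule R (Fin n → R) := LinearMap.range (Matrix.toLin' E)
  have hPmem : ∀ p : P, E.mulVec p.1 = p.1 := by
    rintro ⟨_, v, rfl⟩
    simp only [Matrix.toLin'_apply]
    exact hEE v
  have hproj : Module.Projective R P := by
    refine Module.Projective.of_split P.subtype (Matrix.toLin' E).rangeRestrict ?_
    ext p : 1
    apply Subtype.ext
    simp only [LinearMap.comp_apply, LinearMap.id_apply]
    change Matrix.toLin' E p.1 = p.1
    rw [Matrix.toLin'_apply]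
    exact hPmem p
  letI modRQ : Module R Q := Module.compHom Q (Ideal.Quotient.mk I)
  have hsmul : ∀ (r : R) (q : Q), r • q = Ideal.Quotient.mk I r • q := fun r q => rfl
  haveI : IsScalarTower R (R ⧸ I) Q := ⟨fun r a q => by
    rw [hsmul, Algebra.smul_def, mul_smul]; rfl⟩
  let α : P →ₗ[R] Q :=
    { toFun := fun p => π (fun j => Ideal.Quotient.mk I (p.1 j))
      map_add' := by
        intro p p'
        rw [← map_add]
        exact congrArg π (funext fun j => map_add (Ideal.Quotient.mk I) _ _)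
      map_smul' := by
        intro r p
        rw [RingHom.id_apply, hsmul, ← map_smul]
        exact congrArg π (funext fun j => map_mul (Ideal.Quotient.mk I) _ _) }
  have hα : ∀ p : P, α p = π (fun j => Ideal.Quotient.mk I (p.1 j)) := fun p => rfl
  let Φ : TensorProduct R (R ⧸ I) P →ₗ[R ⧸ I] Q := LinearMap.liftBaseChange (R ⧸ I) α
  have hΦ : ∀ p : P, Φ ((1 : R ⧸ I) ⊗ₜ[R] p) = α p := fun p =>
    LinearMap.liftBaseChange_one_tmul _ _ _
  have hsurjmk : Function.Surjective (TensorProduct.mk R (R ⧸ I) P 1) := by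
    intro z
    obtain ⟨x, hx⟩ := Submodule.Quotient.mk_surjective _
      (TensorProduct.quotTensorEquivQuotSMul P I z)
    refine ⟨x, ?_⟩
    apply (TensorProduct.quotTensorEquivQuotSMul P I).injective
    rw [← hx]
    simp
  refine ⟨P, inferInstance, inferInstance, inferInstance, hproj, ⟨LinearEquiv.ofBijective Φ ⟨?_, ?_⟩⟩⟩
  · rw [injective_iff_map_eq_zero]
    intro z hz
    obtain ⟨p, rfl⟩ := hsurjmk z
    rw [TensorProduct.mk_apply, hΦ, hα] at hz
    have hred : (fun j => Ideal.Quotient.mk I (p.1 j)) = 0 := by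
      have h1 := hEv p.1
      rw [hPmem p, hEbv, hz, map_zero] at h1
      exact h1
    have hpI : ∀ j, p.1 j ∈ I := fun j =>
      Ideal.Quotient.eq_zero_iff_mem.mp (congrFun hred j)
    have hpsum : p = ∑ j, p.1 j • (Matrix.toLin' E).rangeRestrict (Pi.single j 1) := by
      apply Subtype.ext
      rw [Submodule.coe_sum]
      simp only [Submodule.coe_smul, LinearMap.codRestrict_apply]
      rw [← hPmem p, ← Matrix.toLin'_apply]
      conv_lhs => rw [pi_eq_sum_univ' p.1]
      rw [map_sum]
      refine Finset.sum_congr rfl fun j _ => ?_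
      rw [map_smul]
      congr 2
      rw [Matrix.toLin'_apply, hPmem p]
    rw [TensorProduct.mk_apply, hpsum, TensorProduct.tmul_sum]
    refine Finset.sum_eq_zero fun j _ => ?_
    rw [TensorProduct.tmul_smul, TensorProduct.smul_tmul', Algebra.smul_def, mul_one,
      Ideal.Quotient.algebraMap_eq, Ideal.Quotient.eq_zero_iff_mem.mpr (hpI j),
      TensorProduct.zero_tmul]
  · intro q
    choose v hv using fun j => Ideal.Quotient.mk_surjective (I := I) (s q j)
    refine ⟨(1 : R ⧸ I) ⊗ₜ[R] (Matrix.toLin' E).rangeRestrict v, ?_⟩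
    rw [hΦ, hα]
    change π (fun j => Ideal.Quotient.mk I (Matrix.toLin' E v j)) = q
    rw [Matrix.toLin'_apply, hEv v, hEbv]
    have : (fun j => Ideal.Quotient.mk I (v j)) = s q := funext hv
    rw [this, hπs', hπs']

end Groth.Agent.S0534
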