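import Groth.Statements.S0535
import Mathlib

set_option autoImplicit false
universe u
open Hensel

namespace Groth.Agent.S0535

/-- If `R` is Henselian at `I` and two finitely generated projective `R`-modules become isomorphic after
base change to `R/I`, then they are isomorphic. -/
theorem result (R : Type u) [CommRing R] (I : Ideal R)
    [HenselianRing R I] (P₁ P₂ : Type u) [AddCommGroup P₁] [Module R P₁] [AddCommGroup P₂]
    [Module R P₂] [Module.Finite R P₁] [Module.Projective R P₁] [Module.Finite R P₂]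
    [Module.Projective R P₂]
    (e : TensorProduct R (R ⧸ I) P₁ ≃ₗ[R ⧸ I] TensorProduct R (R ⧸ I) P₂) :
    Nonempty (P₁ ≃ₗ[R] P₂) := by
  classical
  have hjac : I ≤ Ideal.jacobson ⊥ := HenselianRing.jac
  have hsurj : ∀ (P : Type u) [AddCommGroup P] [Module R P],
      Function.Surjective (TensorProduct.mk R (R ⧸ I) P 1) := by
    intro P _ _ z
    obtain ⟨x, hx⟩ := Submodule.Quotient.mk_surjective _
      (TensorProduct.quotTensorEquivQuotSMul P I z)
    refine ⟨x, ?_⟩
    apply (TensorProduct.quotTensorEquivQuotSMul P I).injective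
    rw [← hx]
    simp
  have hker : ∀ (P : Type u) [AddCommGroup P] [Module R P] (x : P),
      TensorProduct.mk R (R ⧸ I) P 1 x = 0 → x ∈ I • (⊤ : Submodule R P) := by
    intro P _ _ x hx
    have h1 := congrArg (TensorProduct.quotTensorEquivQuotSMul P I) hx
    rw [TensorProduct.mk_apply, TensorProduct.quotTensorEquivQuotSMul_mk_one_tmul, map_zero] at h1
    exact (Submodule.Quotient.mk_eq_zero _).mp h1
  have key : ∀ (P : Type u) [AddCommGroup P] [Module R P] [Module.Finite R P] (h : P →ₗ[R] P),
      (∀ x, TensorProduct.mk R (R ⧸ I) P 1 (h x) = TensorProduct.mk R (R ⧸ I) P 1 x) →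
      Function.Bijective h := by
    intro P _ _ _ h hh
    apply OrzechProperty.bijective_of_surjective_endomorphism
    rw [← LinearMap.range_eq_top, eq_top_iff]
    refine Submodule.le_of_le_smul_of_le_jacobson_bot Module.Finite.fg_top hjac ?_
    intro x _
    have h1 : x = h x + (x - h x) := by abel
    rw [h1]
    refine Submodule.add_mem_sup (LinearMap.mem_range_self h x) (hker P _ ?_)
    rw [map_sub, hh, sub_self]
  obtain ⟨f, hf⟩ := Module.projective_lifting_property (TensorProduct.mk R (R ⧸ I) P₂ 1)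
    ((e.restrictScalars R).toLinearMap ∘ₗ TensorProduct.mk R (R ⧸ I) P₁ 1) (hsurj P₂)
  obtain ⟨g, hg⟩ := Module.projective_lifting_property (TensorProduct.mk R (R ⧸ I) P₁ 1)
    ((e.symm.restrictScalars R).toLinearMap ∘ₗ TensorProduct.mk R (R ⧸ I) P₂ 1) (hsurj P₁)
  have hf' : ∀ x, TensorProduct.mk R (R ⧸ I) P₂ 1 (f x) = e (TensorProduct.mk R (R ⧸ I) P₁ 1 x) :=
    fun x => LinearMap.congr_fun hf x
  have hg' : ∀ x, TensorProduct.mk R (R ⧸ I) P₁ 1 (g x) =
      e.symm (TensorProduct.mk R (R ⧸ I) P₂ 1 x) := fun x => LinearMap.congr_fun hg x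
  have hgf := key P₁ (g ∘ₗ f) (fun x => by
    rw [LinearMap.comp_apply, hg', hf', LinearEquiv.symm_apply_apply])
  have hfg := key P₂ (f ∘ₗ g) (fun x => by
    rw [LinearMap.comp_apply, hf', hg', LinearEquiv.apply_symm_apply])
  have hfinj : Function.Injective f := by
    have := hgf.1
    rw [LinearMap.coe_comp] at this
    exact this.of_comp
  have hfsurj : Function.Surjective f := by
    have := hfg.2
    rw [LinearMap.coe_comp] at this
    exact this.of_comp
  exact ⟨LinearEquiv.ofBijective f ⟨hfinj, hfsurj⟩⟩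

end Groth.Agent.S0535
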