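import Groth.Statements.S0542
import Mathlib

set_option autoImplicit false
universe u
open CAlg

namespace Groth.Agent.S0542

open Polynomial

theorem exists_seq {α : Type*} (P : ℕ → α → Prop) (Q : ℕ → α → α → Prop) (a0 : α) (h0 : P 0 a0)
    (hstep : ∀ n a, P n a → ∃ b, P (n + 1) b ∧ Q n a b) :
    ∃ f : ℕ → α, (∀ n, P n (f n)) ∧ ∀ n, Q n (f n) (f (n + 1)) := by
  let F : (n : ℕ) → {a // P n a} := fun n =>
    Nat.rec ⟨a0, h0⟩ (fun n an => ⟨Classical.choose (hstep n an.1 an.2),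
      (Classical.choose_spec (hstep n an.1 an.2)).1⟩) n
  exact ⟨fun n => (F n).1, fun n => (F n).2,
    fun n => (Classical.choose_spec (hstep n (F n).1 (F n).2)).2⟩

/-- elements of the Rees algebra with `n`-th coefficient in `𝔞 ^ (n+1)`. -/
def coeffIdeal {S : Type u} [CommRing S] (𝔞 : Ideal S) : Ideal (reesAlgebra 𝔞) where
  carrier := {r | ∀ n, (r : S[X]).coeff n ∈ 𝔞 ^ (n + 1)}
  add_mem' := fun {x y} hx hy n => by
    show ((x : S[X]) + (y : S[X])).coeff n ∈ 𝔞 ^ (n + 1)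
    rw [coeff_add]; exact add_mem (hx n) (hy n)
  zero_mem' := fun n => by
    show (0 : S[X]).coeff n ∈ 𝔞 ^ (n + 1)
    rw [coeff_zero]; exact zero_mem _
  smul_mem' := fun b x hx n => by
    show ((b : S[X]) * (x : S[X])).coeff n ∈ 𝔞 ^ (n + 1)
    rw [coeff_mul]
    refine Ideal.sum_mem _ fun ij hij => ?_
    have hb : (b : S[X]).coeff ij.1 ∈ 𝔞 ^ ij.1 := b.2 ij.1
    have h1 := Ideal.mul_mem_mul hb (hx ij.2)
    rw [← pow_add] at h1
    have h2 : ij.1 + ij.2 = n := by simpa using hij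
    have hsum : ij.1 + (ij.2 + 1) = n + 1 := by omega
    rwa [hsum] at h1

theorem map_le_coeffIdeal {S : Type u} [CommRing S] (𝔞 : Ideal S) :
    𝔞.map (algebraMap S (reesAlgebra 𝔞)) ≤ coeffIdeal 𝔞 := by
  rw [Ideal.map_le_iff_le_comap]
  intro a ha n
  show ((algebraMap S (reesAlgebra 𝔞) a : reesAlgebra 𝔞) : S[X]).coeff n ∈ 𝔞 ^ (n + 1)
  rw [Subalgebra.coe_algebraMap, ← Polynomial.C_eq_algebraMap, coeff_C]
  split_ifs with h
  · subst h; simpa using ha
  · exact zero_mem _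

theorem isNoetherianRing_of_complete {S : Type u} [CommRing S] (𝔞 : Ideal S) (h𝔞 : 𝔞.FG)
    [IsAdicComplete 𝔞 S] [IsNoetherianRing (S ⧸ 𝔞)] : IsNoetherianRing S := by
  classical
  haveI : Algebra.FiniteType S (reesAlgebra 𝔞) :=
    (Subalgebra.fg_iff_finiteType _).mp (reesAlgebra.fg h𝔞)
  haveI : Algebra.FiniteType S (reesAlgebra 𝔞 ⧸ 𝔞.map (algebraMap S (reesAlgebra 𝔞))) :=
    Algebra.FiniteType.of_surjective (Ideal.Quotient.mkₐ S _) (Ideal.Quotient.mkₐ_surjective S _)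
  haveI : Algebra.FiniteType (S ⧸ 𝔞) (reesAlgebra 𝔞 ⧸ 𝔞.map (algebraMap S (reesAlgebra 𝔞))) :=
    Algebra.FiniteType.of_restrictScalars_finiteType S (S ⧸ 𝔞) _
  haveI hG : IsNoetherianRing (reesAlgebra 𝔞 ⧸ 𝔞.map (algebraMap S (reesAlgebra 𝔞))) :=
    Algebra.FiniteType.isNoetherianRing (S ⧸ 𝔞)
      (reesAlgebra 𝔞 ⧸ 𝔞.map (algebraMap S (reesAlgebra 𝔞)))
  rw [isNoetherianRing_iff_ideal_fg]
  intro J
  let T : Set (reesAlgebra 𝔞) :=
    {p | ∃ (d : ℕ) (g : S), g ∈ J ∧ g ∈ 𝔞 ^ d ∧ (p : S[X]) = monomial d g}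
  have hfg : (Submodule.span (reesAlgebra 𝔞 ⧸ 𝔞.map (algebraMap S (reesAlgebra 𝔞)))
      ((Ideal.Quotient.mk (𝔞.map (algebraMap S (reesAlgebra 𝔞)))) '' T)).FG :=
    IsNoetherian.noetherian _
  obtain ⟨T', hT'sub, hT'eq⟩ := (Submodule.fg_span_iff_fg_span_finset_subset _).mp hfg
  have hch : ∀ t ∈ T', ∃ (d : ℕ) (g : S), g ∈ J ∧ g ∈ 𝔞 ^ d ∧ ∃ p : reesAlgebra 𝔞,
      (p : S[X]) = monomial d g ∧
        Ideal.Quotient.mk (𝔞.map (algebraMap S (reesAlgebra 𝔞))) p = t := by
    intro t ht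
    obtain ⟨p, ⟨d, g, hgJ, hgd, hp⟩, rfl⟩ := hT'sub ht
    exact ⟨d, g, hgJ, hgd, p, hp, rfl⟩
  choose! dd gg hggJ hggd pp hpp hppt using hch
  refine ⟨T'.image gg, ?_⟩
  apply le_antisymm
  · rw [Ideal.span_le]
    intro y hy
    simp only [Finset.coe_image, Set.mem_image, Finset.mem_coe] at hy
    obtain ⟨t, ht, rfl⟩ := hy
    exact hggJ t ht
  · intro x hx
    have key : ∀ (n : ℕ) (y : S), y ∈ J → y ∈ 𝔞 ^ n →
        ∃ c : (reesAlgebra 𝔞 ⧸ 𝔞.map (algebraMap S (reesAlgebra 𝔞))) → S,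
          (∀ t ∈ T', c t ∈ 𝔞 ^ (n - dd t)) ∧ y - ∑ t ∈ T', c t * gg t ∈ 𝔞 ^ (n + 1) := by
      intro n y hyJ hyn
      let m : reesAlgebra 𝔞 := ⟨monomial n y, reesAlgebra.monomial_mem.mpr hyn⟩
      have hmT : m ∈ T := ⟨n, y, hyJ, hyn, rfl⟩
      have hmem : Ideal.Quotient.mk (𝔞.map (algebraMap S (reesAlgebra 𝔞))) m ∈
          Submodule.span (reesAlgebra 𝔞 ⧸ 𝔞.map (algebraMap S (reesAlgebra 𝔞)))
            (↑T' : Set (reesAlgebra 𝔞 ⧸ 𝔞.map (algebraMap S (reesAlgebra 𝔞)))) := by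
        rw [← hT'eq]; exact Submodule.subset_span ⟨m, hmT, rfl⟩
      obtain ⟨cbar, -, hcbar⟩ := Submodule.mem_span_finset.mp hmem
      choose q hq using fun t => Ideal.Quotient.mk_surjective (cbar t)
      have hdiff : (∑ t ∈ T', q t * pp t) - m ∈ 𝔞.map (algebraMap S (reesAlgebra 𝔞)) := by
        rw [← Ideal.Quotient.eq, map_sum, ← hcbar]
        refine Finset.sum_congr rfl fun t ht => ?_
        rw [map_mul, hq, hppt t ht, smul_eq_mul]
      have hco := map_le_coeffIdeal 𝔞 hdiff n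
      have hco' : ((∑ t ∈ T', (q t : S[X]) * monomial (dd t) (gg t)) - monomial n y).coeff n ∈
          𝔞 ^ (n + 1) := by
        have heq : (reesAlgebra 𝔞).val ((∑ t ∈ T', q t * pp t) - m) =
            (∑ t ∈ T', (q t : S[X]) * monomial (dd t) (gg t)) - monomial n y := by
          rw [map_sub, map_sum]
          congr 1
          refine Finset.sum_congr rfl fun t ht => ?_
          rw [map_mul]
          show (q t : S[X]) * (pp t : S[X]) = _
          rw [hpp t ht]
        rw [← heq]; exact hco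
      refine ⟨fun t => if dd t ≤ n then (q t : S[X]).coeff (n - dd t) else 0, fun t ht => ?_, ?_⟩
      · show (if dd t ≤ n then (q t : S[X]).coeff (n - dd t) else 0) ∈ 𝔞 ^ (n - dd t)
        split_ifs with h
        · exact (q t).2 (n - dd t)
        · exact zero_mem _
      · have hcalc : y - ∑ t ∈ T', (if dd t ≤ n then (q t : S[X]).coeff (n - dd t) else 0) * gg t =
            - ((∑ t ∈ T', (q t : S[X]) * monomial (dd t) (gg t)) - monomial n y).coeff n := by
          rw [coeff_sub, coeff_monomial, if_pos rfl, Polynomial.finsetSum_coeff, neg_sub]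
          congr 1
          refine Finset.sum_congr rfl fun t ht => ?_
          rw [← C_mul_X_pow_eq_monomial, ← mul_assoc, coeff_mul_X_pow', coeff_mul_C]
          split_ifs with h
          · rfl
          · rw [zero_mul]
        rw [hcalc]; exact neg_mem hco'
    have hstep : ∀ (n : ℕ) (C : (reesAlgebra 𝔞 ⧸ 𝔞.map (algebraMap S (reesAlgebra 𝔞))) → S),
        x - ∑ t ∈ T', C t * gg t ∈ 𝔞 ^ n →
        ∃ C' : (reesAlgebra 𝔞 ⧸ 𝔞.map (algebraMap S (reesAlgebra 𝔞))) → S,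
          x - ∑ t ∈ T', C' t * gg t ∈ 𝔞 ^ (n + 1) ∧ ∀ t ∈ T', C' t - C t ∈ 𝔞 ^ (n - dd t) := by
      intro n C hC
      have hyJ : x - ∑ t ∈ T', C t * gg t ∈ J :=
        sub_mem hx (Ideal.sum_mem _ fun t ht => J.mul_mem_left _ (hggJ t ht))
      obtain ⟨c, hc1, hc2⟩ := key n _ hyJ hC
      refine ⟨fun t => C t + c t, ?_, fun t ht => by simpa using hc1 t ht⟩
      have h1 : x - ∑ t ∈ T', (C t + c t) * gg t =
          (x - ∑ t ∈ T', C t * gg t) - ∑ t ∈ T', c t * gg t := by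
        simp only [add_mul, Finset.sum_add_distrib]; ring
      rw [h1]; exact hc2
    obtain ⟨F, hF1, hF2⟩ := exists_seq
      (fun n (C : (reesAlgebra 𝔞 ⧸ 𝔞.map (algebraMap S (reesAlgebra 𝔞))) → S) =>
        x - ∑ t ∈ T', C t * gg t ∈ 𝔞 ^ n)
      (fun n C C' => ∀ t ∈ T', C' t - C t ∈ 𝔞 ^ (n - dd t)) (fun _ => 0) (by simp) hstep
    have hD : ∀ t ∈ T', dd t ≤ T'.sup dd := fun t ht => Finset.le_sup ht
    have hpowtop : ∀ n : ℕ, (𝔞 ^ n • ⊤ : Submodule S S) = 𝔞 ^ n := fun n => by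
      rw [smul_eq_mul, Ideal.mul_top]
    have hlim : ∀ t ∈ T', ∃ L : S, ∀ n, F (T'.sup dd + n) t ≡ L [SMOD (𝔞 ^ n • ⊤ : Submodule S S)] := by
      intro t ht
      apply IsPrecomplete.prec (IsAdicComplete.toIsPrecomplete (I := 𝔞) (M := S))
        (f := fun n => F (T'.sup dd + n) t)
      rw [← AdicCompletion.IsAdicCauchy, AdicCompletion.isAdicCauchy_iff]
      intro n
      rw [SModEq.sub_mem, hpowtop]
      have h1 := hF2 (T'.sup dd + n) t ht
      have h2 : 𝔞 ^ (T'.sup dd + n - dd t) ≤ 𝔞 ^ n :=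
        Ideal.pow_le_pow_right (by have := hD t ht; omega)
      have h3 : F (T'.sup dd + n) t - F (T'.sup dd + (n + 1)) t =
          - (F (T'.sup dd + n + 1) t - F (T'.sup dd + n) t) := by
        rw [neg_sub]; rfl
      rw [h3]; exact neg_mem (h2 h1)
    choose! L hL using hlim
    have hx_eq : x - ∑ t ∈ T', L t * gg t = 0 := by
      apply IsHausdorff.haus (IsAdicComplete.toIsHausdorff (I := 𝔞) (M := S))
      intro n
      rw [SModEq.sub_mem, sub_zero, hpowtop]
      have h1 : x - ∑ t ∈ T', L t * gg t =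
          (x - ∑ t ∈ T', F (T'.sup dd + n) t * gg t) +
            ∑ t ∈ T', (F (T'.sup dd + n) t - L t) * gg t := by
        simp only [sub_mul, Finset.sum_sub_distrib]; ring
      rw [h1]
      refine add_mem (Ideal.pow_le_pow_right (Nat.le_add_left _ _) (hF1 (T'.sup dd + n))) ?_
      refine Ideal.sum_mem _ fun t ht => Ideal.mul_mem_right _ _ ?_
      have h2 := hL t ht n
      rwa [SModEq.sub_mem, hpowtop] at h2
    have hx' : x = ∑ t ∈ T', L t * gg t := sub_eq_zero.mp hx_eq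
    rw [hx']
    exact Ideal.sum_mem _ fun t ht => Ideal.mul_mem_left _ _
      (Ideal.subset_span (Finset.mem_coe.mpr (Finset.mem_image_of_mem gg ht)))


/-- If `I` is a finitely generated ideal of a ring `R` and `R/I` is Noetherian, then the `I`-adic
completion of `R` is a Noetherian ring. (The source also states completeness of the completion along
the extended ideal, which Mathlib already has; only Noetherianity is stated here.) -/
theorem result (R : Type u) [CommRing R] (I : Ideal R)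
    (hI : I.FG) [IsNoetherianRing (R ⧸ I)] : IsNoetherianRing (AdicCompletion I R) := by
  haveI : IsAdicComplete (I.map (algebraMap R (AdicCompletion I R))) (AdicCompletion I R) :=
    (IsAdicComplete.map_algebraMap_iff I (AdicCompletion I R)).mpr (AdicCompletion.isAdicComplete hI)
  have hker : RingHom.ker (AdicCompletion.evalOneₐ I).toRingHom =
      I.map (algebraMap R (AdicCompletion I R)) := AdicCompletion.ker_evalOneₐ_eq_map I hI
  haveI : IsNoetherianRing (AdicCompletion I R ⧸ I.map (algebraMap R (AdicCompletion I R))) := by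
    have e : (AdicCompletion I R ⧸ RingHom.ker (AdicCompletion.evalOneₐ I).toRingHom) ≃+* R ⧸ I :=
      RingHom.quotientKerEquivOfSurjective (f := (AdicCompletion.evalOneₐ I).toRingHom)
        (AdicCompletion.evalOneₐ_surjective I)
    exact isNoetherianRing_of_ringEquiv (R ⧸ I) (e.symm.trans (Ideal.quotEquivOfEq hker))
  exact isNoetherianRing_of_complete (I.map (algebraMap R (AdicCompletion I R))) (hI.map _)

end Groth.Agent.S0542
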