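import Groth.Statements.S0544
import Mathlib

set_option autoImplicit false
universe u
open CAlg

namespace Groth.Agent.S0544

theorem isPrecomplete_pi (R : Type u) [CommRing R] (I : Ideal R) [IsPrecomplete I R] (n : ℕ) :
    IsPrecomplete I (Fin n → R) := by
  have hmem : ∀ (m : ℕ) (x : Fin n → R),
      x ∈ (I ^ m • ⊤ : Submodule R (Fin n → R)) ↔ ∀ i, x i ∈ I ^ m := by
    intro m x
    constructor
    · intro hx i
      refine Submodule.smul_induction_on (p := fun y => y i ∈ I ^ m) hx ?_ ?_
      · intro r hr y _
        exact Ideal.mul_mem_right _ _ hr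
      · intro y z hy hz
        exact Ideal.add_mem _ hy hz
    · intro hx
      have hx' : x = ∑ i, (x i) • (Pi.single i (1 : R) : Fin n → R) := by
        funext j
        simp [Finset.sum_apply, Pi.single_apply]
      rw [hx']
      exact Submodule.sum_mem _ (fun i _ => Submodule.smul_mem_smul (hx i) Submodule.mem_top)
  constructor
  intro f hf
  have hcomp : ∀ i, ∃ L : R, ∀ m, f m i ≡ L [SMOD (I ^ m • ⊤ : Submodule R R)] := by
    intro i
    apply IsPrecomplete.prec ‹IsPrecomplete I R› (f := fun m => f m i)
    intro m m' hmm'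
    have h0 := hf hmm'
    rw [SModEq.sub_mem] at h0 ⊢
    rw [smul_eq_mul, Ideal.mul_top]
    exact (hmem m _).mp h0 i
  choose L hL using hcomp
  refine ⟨L, fun m => ?_⟩
  rw [SModEq.sub_mem, hmem]
  intro i
  have h0 := hL i m
  rw [SModEq.sub_mem, smul_eq_mul, Ideal.mul_top] at h0
  exact h0


/-- Let `R` be complete with respect to an ideal `I` and `M` an `R`-module which is `I`-adically
separated and such that `M/IM` is finitely generated. Then `M` is a finitely generated `R`-module. -/
theorem result (R : Type u) [CommRing R]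
    (I : Ideal R) [IsAdicComplete I R] (M : Type u) [AddCommGroup M] [Module R M] [IsHausdorff I M]
    (h : Module.Finite R (M ⧸ (I • ⊤ : Submodule R M))) : Module.Finite R M := by
  haveI := h
  obtain ⟨n, π, hπ⟩ := Module.Finite.exists_fin' R (M ⧸ (I • ⊤ : Submodule R M))
  obtain ⟨g, hg⟩ := Module.projective_lifting_property (I • ⊤ : Submodule R M).mkQ π
    (Submodule.mkQ_surjective _)
  haveI := isPrecomplete_pi R I n
  have hsurj : Function.Surjective ((I • ⊤ : Submodule R M).mkQ ∘ₗ g) := by rw [hg]; exact hπ
  exact Module.Finite.of_surjective g (surjective_of_mkQ_comp_surjective hsurj)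

end Groth.Agent.S0544
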