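import Groth.Statements.S0545
import Mathlib

set_option autoImplicit false
universe u
open CAlg

namespace Groth.Agent.S0545

/-- For a Noetherian ring `A` with two ideals `I` and `J`, completeness of `A` along `I` together with
completeness of the quotient `A/I` along the image of `J` forces completeness of `A` along `J`. -/
theorem result (A : Type u) [CommRing A] [IsNoetherianRing A]
    (I J : Ideal A) [IsAdicComplete I A]
    [IsAdicComplete (Ideal.map (Ideal.Quotient.mk I) J) (A ⧸ I)] : IsAdicComplete J A := by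
  classical
  have hI : I ≤ (⊥ : Ideal A).jacobson := IsAdicComplete.le_jacobson_bot I
  have hJbar : Ideal.map (Ideal.Quotient.mk I) J ≤ (⊥ : Ideal (A ⧸ I)).jacobson :=
    IsAdicComplete.le_jacobson_bot _
  have hJ : J ≤ (⊥ : Ideal A).jacobson := by
    intro j hj
    rw [Ideal.mem_jacobson_bot]
    intro y
    haveI : IsLocalHom (Ideal.Quotient.mk I) := isLocalHom_of_le_jacobson_bot I hI
    apply isUnit_of_map_unit (Ideal.Quotient.mk I)
    have h1 : Ideal.Quotient.mk I j ∈ Ideal.map (Ideal.Quotient.mk I) J :=
      Ideal.mem_map_of_mem _ hj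
    have h2 := (Ideal.mem_jacobson_bot.mp (hJbar h1)) (Ideal.Quotient.mk I y)
    rw [map_add, map_mul, map_one]
    exact h2
  have hK : ∀ (P Q : Ideal A), P ≤ (⊥ : Ideal A).jacobson → ∀ x : A,
      (∀ n, x ∈ P ^ n ⊔ Q) → x ∈ Q := by
    intro P Q hP x hx
    have hH : IsHausdorff P (A ⧸ Q) := IsHausdorff.of_le_jacobson P (A ⧸ Q) hP
    have h0 : (Ideal.Quotient.mk Q x) = 0 := by
      apply IsHausdorff.haus hH
      intro n
      rw [SModEq.zero]
      obtain ⟨p, hp, q, hq, hpq⟩ := Submodule.mem_sup.mp (hx n)
      have h1 : Ideal.Quotient.mk Q x = p • (Ideal.Quotient.mk Q 1) := by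
        have hq0 : Ideal.Quotient.mk Q q = 0 := Ideal.Quotient.eq_zero_iff_mem.mpr hq
        rw [← hpq, map_add, hq0, add_zero, Algebra.smul_def, map_one, mul_one,
          Ideal.Quotient.algebraMap_eq]
      rw [h1]
      exact Submodule.smul_mem_smul hp Submodule.mem_top
    exact Ideal.Quotient.eq_zero_iff_mem.mp h0
  have hcau : ∀ (P : Ideal A) (g : ℕ → A), (∀ n, g (n + 1) - g n ∈ P ^ n) →
      ∀ m n, m ≤ n → g n - g m ∈ P ^ m := by
    intro P g hg m n hmn
    induction n, hmn using Nat.le_induction with
    | base => rw [sub_self]; exact Submodule.zero_mem _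
    | succ n hmn ih =>
      have h1 : g (n + 1) - g m = (g (n + 1) - g n) + (g n - g m) := by ring
      rw [h1]
      exact Submodule.add_mem _ (Ideal.pow_le_pow_right hmn (hg n)) ih
  have hC1 : ∀ f : ℕ → A, (∀ n, f (n + 1) - f n ∈ J ^ n) →
      ∃ y : A, ∀ n, f n - y ∈ J ^ n ⊔ I := by
    intro f hf
    have hP : IsPrecomplete (Ideal.map (Ideal.Quotient.mk I) J) (A ⧸ I) := inferInstance
    obtain ⟨L, hL⟩ := IsPrecomplete.prec hP (f := fun n => Ideal.Quotient.mk I (f n)) (by
      intro m n hmn
      show Ideal.Quotient.mk I (f m) ≡ Ideal.Quotient.mk I (f n) [SMOD _]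
      rw [SModEq.sub_mem, smul_eq_mul, Ideal.mul_top, ← map_sub, ← Ideal.map_pow]
      apply Ideal.mem_map_of_mem
      rw [← neg_sub]
      exact Submodule.neg_mem _ (hcau J f hf m n hmn))
    obtain ⟨y, rfl⟩ := Ideal.Quotient.mk_surjective L
    refine ⟨y, fun n => ?_⟩
    have h1 : Ideal.Quotient.mk I (f n) ≡ Ideal.Quotient.mk I y [SMOD _] := hL n
    rw [SModEq.sub_mem, smul_eq_mul, Ideal.mul_top, ← map_sub, ← Ideal.map_pow] at h1
    obtain ⟨j, hj, hjeq⟩ :=
      (Ideal.mem_map_iff_of_surjective _ Ideal.Quotient.mk_surjective).mp h1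
    have h2 : f n - y - j ∈ I := by
      rw [← Ideal.Quotient.eq_zero_iff_mem, map_sub, hjeq, sub_self]
    have h3 : f n - y = j + (f n - y - j) := by ring
    rw [h3]
    exact Submodule.add_mem_sup hj h2
  have hCk : ∀ k : ℕ, ∀ f : ℕ → A, (∀ n, f (n + 1) - f n ∈ J ^ n) →
      ∃ y : A, ∀ n, f n - y ∈ J ^ n ⊔ I ^ k := by
    intro k
    induction k with
    | zero =>
      intro f hf
      refine ⟨0, fun n => ?_⟩
      rw [pow_zero, Ideal.one_eq_top, sup_top_eq]
      exact Submodule.mem_top
    | succ k ih =>
      intro f hf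
      obtain ⟨y, hy⟩ := ih f hf
      have hdec : ∀ n, ∃ j ∈ J ^ n, ∃ i ∈ I ^ k, j + i = f n - y :=
        fun n => Submodule.mem_sup.mp (hy n)
      choose j hj i hi hji using hdec
      obtain ⟨c, hc⟩ := Ideal.exists_pow_inf_eq_pow_smul J (I ^ k : Submodule A A)
      obtain ⟨r, a, ha⟩ := Submodule.fg_iff_exists_fin_generating_family.mp
        (IsNoetherian.noetherian (I ^ k : Submodule A A))
      have hd : ∀ n, i (n + c + 1) - i (n + c) ∈ J ^ n * I ^ k := by
        intro n
        have h1 : i (n + c + 1) - i (n + c) ∈ J ^ (n + c) := by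
          have e : i (n + c + 1) - i (n + c) =
              (f (n + c + 1) - f (n + c)) - (j (n + c + 1) - j (n + c)) := by
            have e1 := hji (n + c + 1)
            have e2 := hji (n + c)
            linear_combination e1 - e2
          rw [e]
          refine Submodule.sub_mem _ (hf (n + c)) (Submodule.sub_mem _ ?_ (hj (n + c)))
          exact Ideal.pow_le_pow_right (Nat.le_succ _) (hj (n + c + 1))
        have h2 : i (n + c + 1) - i (n + c) ∈ I ^ k := Submodule.sub_mem _ (hi _) (hi _)
        have h3 : i (n + c + 1) - i (n + c) ∈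
            (J ^ (n + c) • ⊤ ⊓ (I ^ k : Submodule A A) : Submodule A A) := by
          refine ⟨?_, h2⟩
          rw [smul_eq_mul, Ideal.mul_top]; exact h1
        rw [hc (n + c) (Nat.le_add_left c n), Nat.add_sub_cancel] at h3
        exact Submodule.smul_mono le_rfl inf_le_right h3
      have hrep : ∀ (N : Submodule A A) (x : A), x ∈ (Ideal.span (Set.range a)) • N →
          ∃ w : Fin r → A, (∀ t, w t ∈ N) ∧ x = ∑ t, a t * w t := by
        intro N x hx
        refine Submodule.smul_induction_on hx ?_ ?_
        · intro s hs n hn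
          obtain ⟨cf, hcf⟩ := (Ideal.mem_span_range_iff_exists_fun).mp hs
          refine ⟨fun t => cf t * n, fun t => N.smul_mem _ hn, ?_⟩
          rw [← hcf, smul_eq_mul, Finset.sum_mul]
          apply Finset.sum_congr rfl
          intro t _
          ring
        · rintro x y ⟨u, hu, rfl⟩ ⟨v, hv, rfl⟩
          refine ⟨fun t => u t + v t, fun t => N.add_mem (hu t) (hv t), ?_⟩
          rw [← Finset.sum_add_distrib]
          apply Finset.sum_congr rfl
          intro t _
          ring
      have hw : ∀ n, ∃ w : Fin r → A, (∀ t, w t ∈ J ^ n) ∧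
          i (n + c + 1) - i (n + c) = ∑ t, a t * w t := by
        intro n
        have h1 := hd n
        rw [mul_comm (J ^ n) (I ^ k), ← ha] at h1
        exact hrep (J ^ n) _ h1
      choose w hw hiw using hw
      have hWc : ∀ t, ∀ n, (∑ l ∈ Finset.range (n + 1), w l t) -
          (∑ l ∈ Finset.range n, w l t) ∈ J ^ n := by
        intro t n
        rw [Finset.sum_range_succ, add_sub_cancel_left]
        exact hw n t
      have hβ : ∀ t, ∃ β : A, ∀ n, (∑ l ∈ Finset.range n, w l t) - β ∈ J ^ n ⊔ I := fun t =>
        hC1 (fun n => ∑ l ∈ Finset.range n, w l t) (hWc t)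
      choose β hβ using hβ
      have htel : ∀ n, i (n + c) - i c = ∑ t, a t * ∑ l ∈ Finset.range n, w l t := by
        intro n
        induction n with
        | zero => simp
        | succ n ihn =>
          have e : i (n + 1 + c) - i c = (i (n + c + 1) - i (n + c)) + (i (n + c) - i c) := by
            rw [show n + 1 + c = n + c + 1 by omega]; ring
          rw [e, ihn, hiw n, ← Finset.sum_add_distrib]
          apply Finset.sum_congr rfl
          intro t _
          rw [Finset.sum_range_succ]
          ring
      refine ⟨y + i c + ∑ t, a t * β t, fun n => ?_⟩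
      have e : f n - (y + i c + ∑ t, a t * β t) = (f n - f (n + c)) + j (n + c) +
          ∑ t, a t * ((∑ l ∈ Finset.range n, w l t) - β t) := by
        have e1 : ∑ t, a t * ((∑ l ∈ Finset.range n, w l t) - β t) =
            (∑ t, a t * ∑ l ∈ Finset.range n, w l t) - ∑ t, a t * β t := by
          rw [← Finset.sum_sub_distrib]
          apply Finset.sum_congr rfl
          intro t _
          ring
        rw [e1, ← htel n]
        have e2 := hji (n + c)
        linear_combination (-1 : A) * e2
      rw [e]
      refine Submodule.add_mem _ (Submodule.add_mem _ ?_ ?_) ?_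
      · apply Submodule.mem_sup_left
        rw [← neg_sub]
        exact Submodule.neg_mem _ (hcau J f hf n (n + c) (Nat.le_add_right n c))
      · apply Submodule.mem_sup_left
        exact Ideal.pow_le_pow_right (Nat.le_add_right n c) (hj (n + c))
      · apply Submodule.sum_mem
        intro t _
        obtain ⟨p, hp, q, hq, hpq⟩ := Submodule.mem_sup.mp (hβ t n)
        rw [← hpq, mul_add]
        apply Submodule.add_mem_sup
        · exact Ideal.mul_mem_left _ _ hp
        · rw [pow_succ]
          have hat : a t ∈ I ^ k := by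
            rw [← ha]; exact Submodule.subset_span (Set.mem_range_self t)
          exact Ideal.mul_mem_mul hat hq
  have hJH : IsHausdorff J A := IsHausdorff.of_le_jacobson J A hJ
  have hIP : IsPrecomplete I A := inferInstance
  refine { haus' := hJH.haus', prec' := ?_ }
  intro f hf
  have hf' : ∀ n, f (n + 1) - f n ∈ J ^ n := by
    intro n
    have h1 := hf (Nat.le_succ n)
    rw [SModEq.sub_mem, smul_eq_mul, Ideal.mul_top, ← neg_sub] at h1
    have h2 := Submodule.neg_mem _ h1
    rwa [neg_neg] at h2
  choose y hy using fun k => hCk k f hf'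
  have hyc : ∀ k, y (k + 1) - y k ∈ I ^ k := by
    intro k
    apply hK J (I ^ k) hJ
    intro n
    have e : y (k + 1) - y k = (f n - y k) - (f n - y (k + 1)) := by ring
    rw [e]
    refine Submodule.sub_mem _ (hy k n) ?_
    have hle' : J ^ n ⊔ I ^ (k + 1) ≤ J ^ n ⊔ I ^ k :=
      sup_le_sup_left (Ideal.pow_le_pow_right (Nat.le_succ k)) _
    exact hle' (hy (k + 1) n)
  obtain ⟨L, hL⟩ := IsPrecomplete.prec hIP (f := y) (by
    intro m n hmn
    rw [SModEq.sub_mem, smul_eq_mul, Ideal.mul_top, ← neg_sub]
    exact Submodule.neg_mem _ (hcau I y hyc m n hmn))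
  refine ⟨L, fun n => ?_⟩
  rw [SModEq.sub_mem, smul_eq_mul, Ideal.mul_top]
  apply hK I (J ^ n) hI
  intro k
  have e : f n - L = (y k - L) + (f n - y k) := by ring
  rw [e]
  have h1 := hL k
  rw [SModEq.sub_mem, smul_eq_mul, Ideal.mul_top] at h1
  refine Submodule.add_mem _ (Submodule.mem_sup_left h1) ?_
  rw [sup_comm]
  exact hy k n

end Groth.Agent.S0545
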