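import Groth.Statements.S0546
import Mathlib

set_option autoImplicit false
universe u
open CAlg

namespace Groth.Agent.S0546

/-- If `I ≤ J` are ideals with `I` finitely generated and `M` is `J`-adically complete, then `M` is
`I`-adically complete. -/
theorem result (A : Type u) [CommRing A] (I J : Ideal A) (hIJ : I ≤ J)
    (hI : I.FG) (M : Type u) [AddCommGroup M] [Module A M] [IsAdicComplete J M] :
    IsAdicComplete I M := by
  have hle : ∀ n, (I ^ n • ⊤ : Submodule A M) ≤ J ^ n • ⊤ := fun n =>
    Submodule.smul_mono_left (Ideal.pow_right_mono hIJ n)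
  have hJH : IsHausdorff J M := inferInstance
  have hJP : IsPrecomplete J M := inferInstance
  have hrep : ∀ (s : ℕ) (g : Fin s → A) (N : Submodule A M) (x : M),
      x ∈ (Ideal.span (Set.range g)) • N →
      ∃ u : Fin s → M, (∀ j, u j ∈ N) ∧ x = ∑ j, g j • u j := by
    intro s g N x hx
    refine Submodule.smul_induction_on hx ?_ ?_
    · intro r hr n hn
      obtain ⟨c, hc⟩ := (Ideal.mem_span_range_iff_exists_fun).mp hr
      refine ⟨fun j => c j • n, fun j => N.smul_mem _ hn, ?_⟩
      rw [← hc, Finset.sum_smul]
      apply Finset.sum_congr rfl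
      intro j _
      rw [smul_smul, mul_comm]
    · rintro x y ⟨u, hu, rfl⟩ ⟨v, hv, rfl⟩
      refine ⟨fun j => u j + v j, fun j => N.add_mem (hu j) (hv j), ?_⟩
      rw [← Finset.sum_add_distrib]
      apply Finset.sum_congr rfl
      intro j _
      rw [smul_add]
  refine { haus' := ?_, prec' := ?_ }
  · intro x hx
    apply IsHausdorff.haus hJH x
    intro n
    rw [SModEq.zero]
    exact hle n ((SModEq.zero).mp (hx n))
  · intro f hf
    obtain ⟨L, hL⟩ := IsPrecomplete.prec hJP (f := f) (fun {m n} hmn => by
      have h1 := hf hmn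
      rw [SModEq.sub_mem] at h1 ⊢
      exact hle m h1)
    refine ⟨L, fun n => ?_⟩
    obtain ⟨s, g, hg⟩ : ∃ (s : ℕ) (g : Fin s → A), Ideal.span (Set.range g) = I ^ n := by
      have hfg : (I ^ n).FG := hI.pow
      obtain ⟨s, g, hg⟩ := Submodule.fg_iff_exists_fin_generating_family.mp hfg
      exact ⟨s, g, hg⟩
    have hdiff : ∀ k, ∃ u : Fin s → M, (∀ j, u j ∈ (J ^ k • ⊤ : Submodule A M)) ∧
        f (n + k + 1) - f (n + k) = ∑ j, g j • u j := by
      intro k
      have h1 : f (n + k) - f (n + k + 1) ∈ (I ^ (n + k) • ⊤ : Submodule A M) :=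
        (SModEq.sub_mem).mp (hf (Nat.le_succ _))
      have h2 : f (n + k + 1) - f (n + k) ∈ (I ^ (n + k) • ⊤ : Submodule A M) := by
        rw [← neg_sub]; exact Submodule.neg_mem _ h1
      rw [pow_add, Submodule.mul_smul, ← hg] at h2
      obtain ⟨u, hu, hx⟩ := hrep s g _ _ h2
      exact ⟨u, fun j => hle k (hu j), hx⟩
    choose u hu hfu using hdiff
    have hσ : ∀ j, ∃ U : M, ∀ K, (∑ k ∈ Finset.range K, u k j) ≡ U
        [SMOD (J ^ K • ⊤ : Submodule A M)] := by
      intro j
      refine IsPrecomplete.prec hJP (f := fun K => ∑ k ∈ Finset.range K, u k j) ?_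
      intro a b hab
      show (∑ k ∈ Finset.range a, u k j) ≡ (∑ k ∈ Finset.range b, u k j) [SMOD _]
      rw [SModEq.sub_mem]
      have h1 : (∑ k ∈ Finset.range b, u k j) - (∑ k ∈ Finset.range a, u k j) =
          ∑ k ∈ Finset.Ico a b, u k j := by
        rw [Finset.sum_Ico_eq_sub _ hab]
      rw [← neg_sub, h1]
      apply Submodule.neg_mem
      apply Submodule.sum_mem
      intro k hk
      have hak : a ≤ k := (Finset.mem_Ico.mp hk).1
      exact Submodule.smul_mono_left (Ideal.pow_le_pow_right hak) (hu k j)
    choose U hU using hσ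
    have htel : ∀ K, f (n + K) - f n = ∑ j, g j • ∑ k ∈ Finset.range K, u k j := by
      intro K
      induction K with
      | zero => simp
      | succ K ih =>
        have h1 : f (n + K + 1) - f n = (f (n + K + 1) - f (n + K)) + (f (n + K) - f n) := by
          abel
        rw [show n + (K + 1) = n + K + 1 from rfl, h1, ih, hfu K, ← Finset.sum_add_distrib]
        apply Finset.sum_congr rfl
        intro j _
        rw [Finset.sum_range_succ, smul_add]
        exact add_comm _ _
    have hfinal : L - f n = ∑ j, g j • U j := by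
      rw [← sub_eq_zero]
      apply IsHausdorff.haus hJH
      intro K
      rw [SModEq.zero]
      have hdecomp : L - f n - ∑ j, g j • U j =
          (L - f (n + K)) + ∑ j, g j • ((∑ k ∈ Finset.range K, u k j) - U j) := by
        have h3 : ∑ j, g j • ((∑ k ∈ Finset.range K, u k j) - U j) =
            ∑ j, g j • (∑ k ∈ Finset.range K, u k j) - ∑ j, g j • U j := by
          rw [← Finset.sum_sub_distrib]
          apply Finset.sum_congr rfl
          intro j _
          rw [smul_sub]
        rw [h3, ← htel K]
        abel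
      rw [hdecomp]
      apply Submodule.add_mem
      · have h4 := (SModEq.sub_mem).mp (hL (n + K))
        rw [← neg_sub]
        apply Submodule.neg_mem
        exact Submodule.smul_mono_left (Ideal.pow_le_pow_right (Nat.le_add_left K n)) h4
      · apply Submodule.sum_mem
        intro j _
        apply Submodule.smul_mem
        exact (SModEq.sub_mem).mp (hU j K)
    rw [SModEq.sub_mem, ← neg_sub, hfinal]
    apply Submodule.neg_mem
    rw [← hg]
    apply Submodule.sum_mem
    intro j _
    exact Submodule.smul_mem_smul (Ideal.subset_span (Set.mem_range_self j)) Submodule.mem_top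

end Groth.Agent.S0546
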