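import Groth.Statements.S0547
import Groth.Agent.Lib.helper1.ComplNoeth

set_option autoImplicit false
universe u
open CAlg

namespace Groth.Agent.S0547

/-- The completion of a Noetherian local ring at its maximal ideal has the same Krull dimension as the
ring. -/
theorem result (A : Type u) [CommRing A] [IsLocalRing A]
    [IsNoetherianRing A] :
    ringKrullDim (AdicCompletion (IsLocalRing.maximalIdeal A) A) = ringKrullDim A := by
  haveI : IsNoetherianRing (AdicCompletion (IsLocalRing.maximalIdeal A) A) :=
    Helper1.isNoetherianRing_adicCompletion A _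
  haveI : Algebra.HasGoingDown A (AdicCompletion (IsLocalRing.maximalIdeal A) A) :=
    Algebra.HasGoingDown.of_flat
  haveI : (IsLocalRing.maximalIdeal (AdicCompletion (IsLocalRing.maximalIdeal A) A)).LiesOver
      (IsLocalRing.maximalIdeal A) :=
    ⟨(IsLocalRing.maximalIdeal_comap
      (algebraMap A (AdicCompletion (IsLocalRing.maximalIdeal A) A))).symm⟩
  have h := Ideal.height_eq_height_add_of_liesOver_of_hasGoingDown (IsLocalRing.maximalIdeal A)
    (IsLocalRing.maximalIdeal (AdicCompletion (IsLocalRing.maximalIdeal A) A))
  have key : ∀ (Q : Ideal (AdicCompletion (IsLocalRing.maximalIdeal A) A)),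
      Q = IsLocalRing.maximalIdeal (AdicCompletion (IsLocalRing.maximalIdeal A) A) →
      ((IsLocalRing.maximalIdeal (AdicCompletion (IsLocalRing.maximalIdeal A) A)).map
        (Ideal.Quotient.mk Q)).height = 0 := by
    rintro Q rfl
    rw [Ideal.map_quotient_self]
    exact Ideal.height_bot
  rw [key _ AdicCompletion.maximalIdeal_eq_map.symm, add_zero] at h
  rw [← IsLocalRing.maximalIdeal_height_eq_ringKrullDim,
    ← IsLocalRing.maximalIdeal_height_eq_ringKrullDim, h]

end Groth.Agent.S0547
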