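import Groth.Statements.S0549
import Groth.Agent.Lib.helper1.ComplNoeth
import Groth.Agent.Lib.helper1.DVRReg
import Groth.Agent.S0547
import Groth.Agent.S0548

set_option autoImplicit false
universe u
open CAlg

namespace Groth.Agent.S0549

/-- A Noetherian local ring is a discrete valuation ring exactly when its completion at the maximal
ideal is a discrete valuation ring. -/
theorem result (A : Type u) [CommRing A] [IsLocalRing A]
    [IsNoetherianRing A] :
    (∃ _ : IsDomain A, IsDiscreteValuationRing A) ↔
      ∃ _ : IsDomain (AdicCompletion (IsLocalRing.maximalIdeal A) A),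
        IsDiscreteValuationRing (AdicCompletion (IsLocalRing.maximalIdeal A) A) := by
  haveI : IsNoetherianRing (AdicCompletion (IsLocalRing.maximalIdeal A) A) :=
    Helper1.isNoetherianRing_adicCompletion A _
  rw [Helper1.exists_isDomain_dvr_iff A,
    Helper1.exists_isDomain_dvr_iff (AdicCompletion (IsLocalRing.maximalIdeal A) A),
    Groth.Agent.S0548.result A, Groth.Agent.S0547.result A]

end Groth.Agent.S0549
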