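import Groth.Statements.S0550
import Mathlib

set_option autoImplicit false
universe u
open CAlg

namespace Groth.Agent.S0550

section aux
variable {R : Type u} [CommRing R]

theorem coord_mem {α : Type u} (J : Ideal R) (u : α →₀ R)
    (hu : u ∈ (J • ⊤ : Submodule R (α →₀ R))) (β : α) : u β ∈ J := by
  refine Submodule.smul_induction_on (p := fun u : α →₀ R => u β ∈ J) hu ?_ ?_
  · intro r hr n _
    show (r • n) β ∈ J
    rw [Finsupp.smul_apply, smul_eq_mul]
    exact J.mul_mem_right _ hr
  · intro x y hx hy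
    show (x + y) β ∈ J
    rw [Finsupp.add_apply]
    exact J.add_mem hx hy

theorem mem_of_coord {α : Type u} (J : Ideal R) (u : α →₀ R) (hu : ∀ β, u β ∈ J) :
    u ∈ (J • ⊤ : Submodule R (α →₀ R)) := by
  classical
  have e : u = ∑ β ∈ u.support, (u β) • Finsupp.single β (1 : R) := by
    conv_lhs => rw [← Finsupp.sum_single u]
    unfold Finsupp.sum
    apply Finset.sum_congr rfl
    intro β _
    rw [Finsupp.smul_single, smul_eq_mul, mul_one]
  rw [e]
  apply Submodule.sum_mem
  intro β _
  exact Submodule.smul_mem_smul (hu β) Submodule.mem_top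

theorem pi_mem_of_coord {l : ℕ} (J : Ideal R) (u : Fin l → R) (hu : ∀ i, u i ∈ J) :
    u ∈ (J • ⊤ : Submodule R (Fin l → R)) := by
  classical
  have e : u = ∑ i, (u i) • (Pi.single i (1 : R) : Fin l → R) := by
    ext j
    rw [Finset.sum_apply]
    simp [Pi.single_apply]
  rw [e]
  apply Submodule.sum_mem
  intro i _
  exact Submodule.smul_mem_smul (hu i) Submodule.mem_top

theorem rep_smul_span {N : Type*} [AddCommGroup N] [Module R N] {k : ℕ} (J : Ideal R)
    (s : Fin k → N) (x : N) (hx : x ∈ J • Submodule.span R (Set.range s)) :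
    ∃ t : Fin k → R, (∀ j, t j ∈ J) ∧ x = ∑ j, t j • s j := by
  refine Submodule.smul_induction_on
    (p := fun x : N => ∃ t : Fin k → R, (∀ j, t j ∈ J) ∧ x = ∑ j, t j • s j) hx ?_ ?_
  · intro r hr n hn
    obtain ⟨c, hc⟩ := (Submodule.mem_span_range_iff_exists_fun R).mp hn
    refine ⟨fun j => r * c j, fun j => J.mul_mem_right _ hr, ?_⟩
    rw [← hc, Finset.smul_sum]
    apply Finset.sum_congr rfl
    intro j _
    rw [smul_smul]
  · rintro x y ⟨t, ht, rfl⟩ ⟨t', ht', rfl⟩
    refine ⟨fun j => t j + t' j, fun j => J.add_mem (ht j) (ht' j), ?_⟩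
    rw [← Finset.sum_add_distrib]
    apply Finset.sum_congr rfl
    intro j _
    rw [add_smul]

theorem cw {α : Type u} {l k : ℕ} (a : Fin l → Fin k → R) (J J' : Ideal R)
    (v : Fin l → (α →₀ R))
    (hpt : ∀ β : α, ∃ t : Fin k → R, (∀ j, t j ∈ J') ∧ ∀ i, v i β - ∑ j, a i j * t j ∈ J) :
    ∃ w : Fin k → (α →₀ R), (∀ j, w j ∈ (J' • ⊤ : Submodule R (α →₀ R))) ∧
      ∀ i, v i - ∑ j, a i j • w j ∈ (J • ⊤ : Submodule R (α →₀ R)) := by
  classical
  choose t ht1 ht2 using hpt
  let supp : Finset α := Finset.univ.biUnion (fun i => (v i).support)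
  let w : Fin k → (α →₀ R) := fun j =>
    Finsupp.onFinset supp (fun β => if β ∈ supp then t β j else 0) (by
      intro β hβ
      by_contra hns
      exact hβ (if_neg hns))
  have hw : ∀ j β, w j β = if β ∈ supp then t β j else 0 := fun j β => rfl
  have hv0 : ∀ β, β ∉ supp → ∀ i, v i β = 0 := by
    intro β hβ i
    by_contra h0
    apply hβ
    exact Finset.mem_biUnion.mpr ⟨i, Finset.mem_univ i, Finsupp.mem_support_iff.mpr h0⟩
  refine ⟨w, fun j => mem_of_coord J' (w j) (fun β => ?_),
    fun i => mem_of_coord J _ (fun β => ?_)⟩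
  · rw [hw]
    split_ifs with hβ
    · exact ht1 β j
    · exact J'.zero_mem
  · rw [Finsupp.sub_apply, Finsupp.finsetSum_apply]
    simp only [Finsupp.smul_apply, smul_eq_mul, hw]
    by_cases hβ : β ∈ supp
    · simp only [if_pos hβ]
      exact ht2 β i
    · simp only [if_neg hβ, mul_zero, Finset.sum_const_zero, sub_zero, hv0 β hβ i]
      exact J.zero_mem

end aux


/-- Over a Noetherian ring `R` with an ideal `I`, the `I`-adic completion of a free module (on any index
set) is a flat `R`-module. -/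
theorem result (R : Type u) [CommRing R] [IsNoetherianRing R]
    (I : Ideal R) (α : Type u) : Module.Flat R (AdicCompletion I (α →₀ R)) := by
  classical
  rw [Module.Flat.iff_forall_isTrivialRelation]
  intro l f x hx
  obtain ⟨k, s, hs⟩ := Submodule.fg_iff_exists_fin_generating_family.mp
    (IsNoetherian.noetherian (LinearMap.ker (Fintype.linearCombination R f)))
  have hsyz : ∀ c : Fin l → R, ∑ i, f i * c i = 0 → ∃ t : Fin k → R, c = ∑ j, t j • s j := by
    intro c hc
    have hmem : c ∈ Submodule.span R (Set.range s) := by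
      rw [hs, LinearMap.mem_ker, Fintype.linearCombination_apply, ← hc]
      apply Finset.sum_congr rfl
      intro i _
      rw [smul_eq_mul, mul_comm]
    obtain ⟨t, ht⟩ := (Submodule.mem_span_range_iff_exists_fun R).mp hmem
    exact ⟨t, ht.symm⟩
  have hsker : ∀ j, ∑ i, f i * s j i = 0 := by
    intro j
    have hmem : s j ∈ LinearMap.ker (Fintype.linearCombination R f) := by
      rw [← hs]; exact Submodule.subset_span (Set.mem_range_self j)
    rw [LinearMap.mem_ker, Fintype.linearCombination_apply] at hmem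
    rw [← hmem]
    apply Finset.sum_congr rfl
    intro i _
    rw [smul_eq_mul, mul_comm]
  obtain ⟨c₁, hc₁⟩ := Ideal.exists_pow_inf_eq_pow_smul I
    (Submodule.span R (Set.range f) : Submodule R R)
  obtain ⟨c₂, hc₂⟩ := Ideal.exists_pow_inf_eq_pow_smul I (Submodule.span R (Set.range s))
  have pt4 : ∀ (m : ℕ) (v : Fin l → R), ∑ i, f i * v i ∈ I ^ (m + c₁) →
      ∃ t : Fin k → R, (∀ j, t j ∈ (⊤ : Ideal R)) ∧ ∀ i, v i - ∑ j, s j i * t j ∈ I ^ m := by
    intro m v hv
    have h1 : ∑ i, f i * v i ∈ (I ^ (m + c₁) • ⊤ ⊓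
        (Submodule.span R (Set.range f) : Submodule R R) : Submodule R R) := by
      refine ⟨?_, ?_⟩
      · rw [smul_eq_mul, Ideal.mul_top]; exact hv
      · apply Submodule.sum_mem
        intro i _
        exact Ideal.mul_mem_right _ _ (Ideal.subset_span (Set.mem_range_self i))
    rw [hc₁ (m + c₁) (Nat.le_add_left _ _), Nat.add_sub_cancel] at h1
    have h2 : ∑ i, f i * v i ∈ I ^ m • Submodule.span R (Set.range f) :=
      Submodule.smul_mono le_rfl inf_le_right h1
    obtain ⟨z, hz, hzeq⟩ := rep_smul_span (I ^ m) f _ h2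
    have h3 : ∑ i, f i * (v i - z i) = 0 := by
      simp only [mul_sub, Finset.sum_sub_distrib]
      rw [hzeq, sub_eq_zero]
      apply Finset.sum_congr rfl
      intro i _
      rw [smul_eq_mul, mul_comm]
    obtain ⟨t, ht⟩ := hsyz (fun i => v i - z i) h3
    refine ⟨t, fun j => Submodule.mem_top, fun i => ?_⟩
    have h4 := congrFun ht i
    rw [Finset.sum_apply] at h4
    simp only [Pi.smul_apply, smul_eq_mul] at h4
    have h5 : v i - ∑ j, s j i * t j = z i := by
      have e : ∑ j, s j i * t j = ∑ j, t j * s j i :=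
        Finset.sum_congr rfl (fun j _ => mul_comm _ _)
      rw [e, ← h4]; ring
    rw [h5]
    exact hz i
  have pt5 : ∀ (m : ℕ) (u : Fin k → R), (∀ i, ∑ j, s j i * u j ∈ I ^ (m + c₂)) →
      ∃ t : Fin k → R, (∀ j, t j ∈ I ^ m) ∧
        ∀ i, ∑ j, s j i * u j - ∑ j, s j i * t j ∈ (⊥ : Ideal R) := by
    intro m u hu
    have hd : ∀ (u : Fin k → R) i, (∑ j, u j • s j) i = ∑ j, s j i * u j := by
      intro u i
      rw [Finset.sum_apply]
      apply Finset.sum_congr rfl
      intro j _
      rw [Pi.smul_apply, smul_eq_mul, mul_comm]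
    have h1 : ∑ j, u j • s j ∈ (I ^ (m + c₂) • ⊤ ⊓ Submodule.span R (Set.range s) :
        Submodule R (Fin l → R)) := by
      refine ⟨?_, ?_⟩
      · apply pi_mem_of_coord
        intro i
        rw [hd]
        exact hu i
      · apply Submodule.sum_mem
        intro j _
        exact Submodule.smul_mem _ _ (Submodule.subset_span (Set.mem_range_self j))
    rw [hc₂ (m + c₂) (Nat.le_add_left _ _), Nat.add_sub_cancel] at h1
    have h2 : ∑ j, u j • s j ∈ I ^ m • Submodule.span R (Set.range s) :=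
      Submodule.smul_mono le_rfl inf_le_right h1
    obtain ⟨t, ht, hteq⟩ := rep_smul_span (I ^ m) s _ h2
    refine ⟨t, ht, fun i => ?_⟩
    rw [Ideal.mem_bot, sub_eq_zero, ← hd u i, hteq, hd t i]
  choose ξ hξ using fun i => AdicCompletion.mk_surjective I (α →₀ R) (x i)
  have hcau : ∀ i m n, m ≤ n → ξ i n - ξ i m ∈ (I ^ m • ⊤ : Submodule R (α →₀ R)) := by
    intro i m n hmn
    have h1 := AdicCompletion.AdicCauchySequence.mk_eq_mk hmn (ξ i)
    rwa [Submodule.Quotient.eq] at h1
  have hrel : ∀ n, ∑ i, f i • (ξ i n) ∈ (I ^ n • ⊤ : Submodule R (α →₀ R)) := by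
    intro n
    have h1 : (∑ i, f i • x i).val n = 0 := by rw [hx]; rfl
    rw [AdicCompletion.val_sum_apply] at h1
    have h2 : ∀ i, (f i • x i).val n =
        Submodule.mkQ (I ^ n • ⊤ : Submodule R (α →₀ R)) (f i • ξ i n) := by
      intro i
      rw [AdicCompletion.val_smul_apply, ← hξ i, AdicCompletion.mk_apply_coe, ← map_smul]
    rw [Finset.sum_congr rfl (fun i _ => h2 i), ← map_sum, Submodule.mkQ_apply,
      Submodule.Quotient.mk_eq_zero] at h1
    exact h1
  have step4 : ∀ n, ∃ W : Fin k → (α →₀ R),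
      (∀ j, W j ∈ ((⊤ : Ideal R) • ⊤ : Submodule R (α →₀ R))) ∧
      ∀ i, ξ i (n + c₁) - ∑ j, s j i • W j ∈ (I ^ n • ⊤ : Submodule R (α →₀ R)) := by
    intro n
    apply cw (fun i j => s j i) (I ^ n) ⊤ (fun i => ξ i (n + c₁))
    intro β
    apply pt4 n (fun i => ξ i (n + c₁) β)
    have h1 := coord_mem _ _ (hrel (n + c₁)) β
    rw [Finsupp.finsetSum_apply] at h1
    simpa [Finsupp.smul_apply] using h1
  choose W _ hW using step4
  have hdiffW : ∀ n i, ∑ j, s j i • (W (n + 1) j - W n j) ∈
      (I ^ n • ⊤ : Submodule R (α →₀ R)) := by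
    intro n i
    have e : ∑ j, s j i • (W (n + 1) j - W n j) =
        (ξ i (n + 1 + c₁) - ξ i (n + c₁)) - (ξ i (n + 1 + c₁) - ∑ j, s j i • W (n + 1) j) +
          (ξ i (n + c₁) - ∑ j, s j i • W n j) := by
      simp only [smul_sub, Finset.sum_sub_distrib]; abel
    rw [e]
    refine Submodule.add_mem _ (Submodule.sub_mem _ ?_ ?_) (hW n i)
    · exact Submodule.smul_mono_left (Ideal.pow_le_pow_right (Nat.le_add_right n c₁))
        (hcau i (n + c₁) (n + 1 + c₁) (by omega))
    · exact Submodule.smul_mono_left (Ideal.pow_le_pow_right (Nat.le_succ n)) (hW (n + 1) i)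
  have step5 : ∀ n, ∃ δ : Fin k → (α →₀ R),
      (∀ j, δ j ∈ (I ^ n • ⊤ : Submodule R (α →₀ R))) ∧
      ∀ i, (∑ j, s j i • (W (n + c₂ + 1) j - W (n + c₂) j)) - ∑ j, s j i • δ j ∈
        ((⊥ : Ideal R) • ⊤ : Submodule R (α →₀ R)) := by
    intro n
    apply cw (fun i j => s j i) ⊥ (I ^ n)
      (fun i => ∑ j, s j i • (W (n + c₂ + 1) j - W (n + c₂) j))
    intro β
    obtain ⟨t, ht1, ht2⟩ := pt5 n (fun j => (W (n + c₂ + 1) j - W (n + c₂) j) β) (by
      intro i
      have h1 := coord_mem _ _ (hdiffW (n + c₂) i) β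
      rw [Finsupp.finsetSum_apply] at h1
      simpa [Finsupp.smul_apply] using h1)
    refine ⟨t, ht1, fun i => ?_⟩
    have h2 := ht2 i
    rw [Finsupp.finsetSum_apply]
    simpa [Finsupp.smul_apply] using h2
  choose δ hδ1 hδ2 using step5
  let η : ℕ → Fin k → (α →₀ R) := fun n j => W c₂ j + ∑ m ∈ Finset.range n, δ m j
  have hηs : ∀ n i, ∑ j, s j i • η n j = ∑ j, s j i • W (n + c₂) j := by
    intro n i
    induction n with
    | zero => simp [η]
    | succ n ih =>
      have e1 : ∑ j, s j i • η (n + 1) j = ∑ j, s j i • η n j + ∑ j, s j i • δ n j := by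
        rw [← Finset.sum_add_distrib]
        apply Finset.sum_congr rfl
        intro j _
        simp only [η]
        rw [Finset.sum_range_succ, ← add_assoc, smul_add]
      have e2 := hδ2 n i
      rw [Submodule.bot_smul, Submodule.mem_bot, sub_eq_zero] at e2
      rw [e1, ih, ← e2, ← Finset.sum_add_distrib]
      apply Finset.sum_congr rfl
      intro j _
      rw [← smul_add, show n + 1 + c₂ = n + c₂ + 1 by omega]
      congr 1
      abel
  let ηc : Fin k → AdicCompletion.AdicCauchySequence I (α →₀ R) := fun j =>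
    AdicCompletion.AdicCauchySequence.mk I _ (fun n => η n j) (by
      intro n
      rw [SModEq.sub_mem]
      have e : η n j - η (n + 1) j = - δ n j := by
        simp only [η]
        rw [Finset.sum_range_succ]; abel
      rw [e]
      exact Submodule.neg_mem _ (hδ1 n j))
  refine ⟨k, fun i j => s j i, fun j => AdicCompletion.mk I _ (ηc j), ?_, ?_⟩
  · intro i
    apply AdicCompletion.ext
    intro n
    rw [AdicCompletion.val_sum_apply, ← hξ i]
    have h2 : ∀ j, (s j i • AdicCompletion.mk I (α →₀ R) (ηc j)).val n =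
        Submodule.mkQ (I ^ n • ⊤ : Submodule R (α →₀ R)) (s j i • η n j) := by
      intro j
      rw [AdicCompletion.val_smul_apply, AdicCompletion.mk_apply_coe, ← map_smul]
      rfl
    rw [Finset.sum_congr rfl (fun j _ => h2 j), ← map_sum, AdicCompletion.mk_apply_coe,
      Submodule.mkQ_apply, Submodule.mkQ_apply, Submodule.Quotient.eq, hηs n i]
    have e : ξ i n - ∑ j, s j i • W (n + c₂) j =
        (ξ i (n + c₂ + c₁) - ∑ j, s j i • W (n + c₂) j) - (ξ i (n + c₂ + c₁) - ξ i n) := by
      abel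
    rw [e]
    refine Submodule.sub_mem _ ?_ (hcau i n (n + c₂ + c₁) (by omega))
    exact Submodule.smul_mono_left (Ideal.pow_le_pow_right (Nat.le_add_right n c₂))
      (hW (n + c₂) i)
  · intro j
    exact hsker j

end Groth.Agent.S0550
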