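import Groth.Statements.S0574
import Mathlib

set_option autoImplicit false
universe u
open CAlg

namespace Groth.Agent.S0574

/-- For Noetherian domains of characteristic zero the conditions N-1 and N-2 coincide. -/
theorem result (R : Type u) [CommRing R] [IsDomain R] [IsNoetherianRing R]
    [CharZero R] : CAlg.IsN1 R ↔ CAlg.IsN2 R := by
  constructor
  · intro h1 L _ _ _ _ hfd
    haveI hfin : Module.Finite R (integralClosure R (FractionRing R)) := h1
    haveI : FiniteDimensional (FractionRing R) L := hfd
    haveI : CharZero (FractionRing R) :=
      charZero_of_injective_algebraMap (IsFractionRing.injective R (FractionRing R))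
    haveI : Algebra.IsSeparable (FractionRing R) L := inferInstance
    haveI : IsNoetherianRing (integralClosure R (FractionRing R)) :=
      isNoetherian_of_tower R (isNoetherian_of_isNoetherianRing_of_finite R _)
    haveI : IsFractionRing (integralClosure R (FractionRing R)) (FractionRing R) :=
      integralClosure.isFractionRing_of_finite_extension (FractionRing R) (FractionRing R)
    haveI : IsIntegrallyClosed (integralClosure R (FractionRing R)) :=
      integralClosure.isIntegrallyClosedOfFiniteExtension (FractionRing R)
    haveI : Module.Finite (integralClosure R (FractionRing R))
        (integralClosure (integralClosure R (FractionRing R)) L) :=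
      IsIntegralClosure.finite (integralClosure R (FractionRing R)) (FractionRing R) L
        (integralClosure (integralClosure R (FractionRing R)) L)
    haveI : Module.Finite R (integralClosure (integralClosure R (FractionRing R)) L) :=
      Module.Finite.trans (integralClosure R (FractionRing R)) _
    haveI : IsNoetherian R (integralClosure (integralClosure R (FractionRing R)) L) :=
      isNoetherian_of_isNoetherianRing_of_finite R
        (integralClosure (integralClosure R (FractionRing R)) L)
    let ι : integralClosure R L →ₗ[R] integralClosure (integralClosure R (FractionRing R)) L :=
      { toFun := fun x => ⟨x.1, IsIntegral.tower_top x.2⟩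
        map_add' := fun x y => rfl
        map_smul' := fun r x => rfl }
    exact Module.Finite.of_injective ι (fun x y h => Subtype.ext
      (congrArg (fun w : integralClosure (integralClosure R (FractionRing R)) L => (w : L)) h))
  · intro h2
    exact h2 (FractionRing R) inferInstance

end Groth.Agent.S0574
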