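import Groth.Statements.S0579
import Mathlib

set_option autoImplicit false
universe u
open CAlg

namespace Groth.Agent.S0579

theorem lift_aux {k₀ : Type} {K S : Type u} [Field k₀] [Field K] [CommRing S] [i1 : Algebra k₀ K]
    [i2 : Algebra.FormallySmooth k₀ K] [i3 : Algebra k₀ S] (I : Ideal S) [IsAdicComplete I S]
    (f : K →+* S ⧸ I) (hsub : Subsingleton (k₀ →+* S ⧸ I)) :
    ∃ g : K →+* S, ∀ x, Ideal.Quotient.mk I (g x) = f x := by
  let f' : K →ₐ[k₀] S ⧸ I :=
    { f with
      commutes' := fun c => by
        have h := hsub.elim (f.comp (algebraMap k₀ K)) (algebraMap k₀ (S ⧸ I))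
        exact congrFun (congrArg DFunLike.coe h) c }
  obtain ⟨g, hg⟩ := Algebra.FormallySmooth.exists_mkₐ_comp_eq_of_isAdicComplete f'
  exact ⟨g.toRingHom, fun x => congrArg (fun w : K →ₐ[k₀] S ⧸ I => w x) hg⟩


/-- A local ring which is complete with respect to its maximal ideal and whose residue field has
characteristic zero admits a coefficient field: there is a ring homomorphism from the residue field
to the ring which is a section of the residue map. -/
theorem result (R : Type u) [CommRing R] [IsLocalRing R]
    [IsAdicComplete (IsLocalRing.maximalIdeal R) R] [CharZero (IsLocalRing.ResidueField R)] :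
    ∃ s : IsLocalRing.ResidueField R →+* R, (IsLocalRing.residue R).comp s = RingHom.id _ := by
  classical
  have hunit : ∀ y : nonZeroDivisors ℤ, IsUnit (Int.castRingHom R y) := by
    intro y
    have hy : (y : ℤ) ≠ 0 := nonZeroDivisors.coe_ne_zero y
    apply (IsLocalRing.notMem_maximalIdeal).mp
    intro hmem
    have h0 : IsLocalRing.residue R (Int.castRingHom R y) = 0 :=
      (IsLocalRing.residue_eq_zero_iff _).mpr hmem
    rw [eq_intCast, map_intCast] at h0
    exact hy (Int.cast_eq_zero.mp h0)
  have hFS : Algebra.FormallySmooth ℚ (IsLocalRing.ResidueField R) := by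
    obtain ⟨s, hs⟩ := exists_isTranscendenceBasis ℚ (IsLocalRing.ResidueField R)
    haveI : Algebra.IsAlgebraic (IntermediateField.adjoin ℚ
        (Set.range ((↑) : s → IsLocalRing.ResidueField R))) (IsLocalRing.ResidueField R) :=
      hs.isAlgebraic_field
    exact Algebra.FormallySmooth.of_algebraicIndependent_of_isSeparable hs.1
  let φ : ℚ →+* R := IsLocalization.lift (M := nonZeroDivisors ℤ) (S := ℚ)
    (g := Int.castRingHom R) hunit
  obtain ⟨g, hg⟩ := lift_aux (k₀ := ℚ) (i2 := hFS) (i3 := φ.toAlgebra)
    (IsLocalRing.maximalIdeal R) (RingHom.id (IsLocalRing.ResidueField R)) inferInstance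
  refine ⟨g, ?_⟩
  ext x
  exact hg x

end Groth.Agent.S0579
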