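import Groth.Statements.S0587
import Mathlib

set_option autoImplicit false
universe u
open CAlg

namespace Groth.Agent.S0587

open scoped TensorProduct

theorem exists_rep {R M : Type u} [CommRing R] [AddCommGroup M] [Module R M] {n : ℕ}
    (m : Fin n → M) (hm : Submodule.span R (Set.range m) = ⊤) (Q : Type u) [AddCommGroup Q]
    [Module R Q] (t : M ⊗[R] Q) : ∃ q : Fin n → Q, t = ∑ k, m k ⊗ₜ[R] q k := by
  induction t using TensorProduct.induction_on with
  | zero => exact ⟨0, by simp⟩
  | tmul x y =>
    have hx : x ∈ Submodule.span R (Set.range m) := by rw [hm]; trivial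
    obtain ⟨c, rfl⟩ := (Submodule.mem_span_range_iff_exists_fun R).mp hx
    refine ⟨fun k => c k • y, ?_⟩
    rw [TensorProduct.sum_tmul]
    refine Finset.sum_congr rfl fun k _ => ?_
    rw [TensorProduct.smul_tmul]
  | add a b ha hb =>
    obtain ⟨qa, rfl⟩ := ha
    obtain ⟨qb, rfl⟩ := hb
    refine ⟨qa + qb, ?_⟩
    rw [← Finset.sum_add_distrib]
    refine Finset.sum_congr rfl fun k _ => ?_
    rw [Pi.add_apply, TensorProduct.tmul_add]

theorem exists_fg {R M : Type u} [CommRing R] [AddCommGroup M] [Module R M]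
    (t : M ⊗[R] (M → R)) : ∃ N : Submodule R M, N.FG ∧ ∀ m : M,
      TensorProduct.rid R M (TensorProduct.piRightHom R R M (fun _ : M => R) t m) ∈ N := by
  induction t using TensorProduct.induction_on with
  | zero => exact ⟨⊥, Submodule.fg_bot, fun m => by simp⟩
  | tmul x f =>
    refine ⟨Submodule.span R {x}, Submodule.fg_span_singleton x, fun m => ?_⟩
    rw [TensorProduct.piRightHom_tmul, TensorProduct.rid_tmul]
    exact Submodule.smul_mem _ _ (Submodule.mem_span_singleton_self x)
  | add a b ha hb =>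
    obtain ⟨N1, h1, h1'⟩ := ha
    obtain ⟨N2, h2, h2'⟩ := hb
    refine ⟨N1 ⊔ N2, h1.sup h2, fun m => ?_⟩
    rw [map_add, Pi.add_apply, map_add]
    exact add_mem (Submodule.mem_sup_left (h1' m)) (Submodule.mem_sup_right (h2' m))


/-- A module `M` is finitely generated exactly when for every family of modules `(Qᵢ)` the natural map
from `M ⊗ ∏ Qᵢ` to `∏ (M ⊗ Qᵢ)` is surjective. -/
theorem result (R : Type u) [CommRing R] (M : Type u)
    [AddCommGroup M] [Module R M] :
    Module.Finite R M ↔ ∀ (ι : Type u) (Q : ι → Type u) [∀ i, AddCommGroup (Q i)]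
      [∀ i, Module R (Q i)], Function.Surjective (TensorProduct.piRightHom R R M Q) := by
  constructor
  · intro hfin ι Q _ _ y
    obtain ⟨n, m, hm⟩ := Submodule.fg_iff_exists_fin_generating_family.mp hfin.1
    choose q hq using fun i => exists_rep m hm (Q i) (y i)
    refine ⟨∑ k, m k ⊗ₜ[R] (fun i => q i k), ?_⟩
    funext i
    rw [map_sum, Finset.sum_apply]
    simp_rw [TensorProduct.piRightHom_tmul]
    exact (hq i).symm
  · intro h
    obtain ⟨t, ht⟩ := h M (fun _ => R) (fun m => m ⊗ₜ[R] (1 : R))
    obtain ⟨N, hN, hN'⟩ := exists_fg t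
    have htop : N = ⊤ := by
      rw [eq_top_iff]
      intro m _
      have h1 := hN' m
      rw [ht, TensorProduct.rid_tmul, one_smul] at h1
      exact h1
    exact ⟨htop ▸ hN⟩

end Groth.Agent.S0587
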