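import Groth.Statements.S5752
import Groth.Agent.Lib.helper3.Depth

set_option autoImplicit false
universe u
open EGA41

namespace Groth.Agent.S5752

/-- Let A be a Noetherian local ring with maximal ideal m and M a finitely generated A-module. Then M
has depth 0 if and only if m is an associated prime of M, i.e. if and only if M contains a copy of
the residue field. (For M = 0 the depth is ⊤ and there are no associated primes.) -/
theorem result (A : Type u) [CommRing A] [IsLocalRing A]
    [IsNoetherianRing A] (M : Type u) [AddCommGroup M] [Module A M] [Module.Finite A M] :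
    LocCoh.depth A M = 0 ↔ IsLocalRing.maximalIdeal A ∈ associatedPrimes A M := by
  classical
  unfold LocCoh.depth LocCoh.idealDepth
  constructor
  · intro h0
    by_cases htop : IsLocalRing.maximalIdeal A • (⊤ : Submodule A M) = ⊤
    · rw [if_pos htop] at h0; exact absurd h0 (by simp)
    · rw [if_neg htop] at h0
      apply Groth.Agent.Lib.helper3.Depth.maximalIdeal_mem_ass_of_forall_not_regular
      intro r hr hreg
      have hw : RingTheory.Sequence.IsWeaklyRegular M [r] :=
        (RingTheory.Sequence.isWeaklyRegular_singleton_iff M r).2 hreg
      have : (([r] : List A).length : ℕ∞) ≤ 0 := by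
        rw [← h0]
        exact le_iSup₂ (f := fun (rs : List A) (_ : RingTheory.Sequence.IsWeaklyRegular M rs ∧
          ∀ r ∈ rs, r ∈ IsLocalRing.maximalIdeal A) => (rs.length : ℕ∞)) [r]
          ⟨hw, by simpa using hr⟩
      simp at this
  · intro hm
    obtain ⟨hprime, x, hx⟩ := isAssociatedPrime_iff.1 hm
    have hx0 : x ≠ 0 := by
      rintro rfl
      apply hprime.ne_top
      rw [hx, Ideal.eq_top_iff_one, Submodule.mem_colon_singleton]; simp
    have htop : ¬ (IsLocalRing.maximalIdeal A • (⊤ : Submodule A M) = ⊤) := by
      intro htop
      have := Submodule.eq_bot_of_le_smul_of_le_jacobson_bot (IsLocalRing.maximalIdeal A)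
        (⊤ : Submodule A M) Module.Finite.fg_top (by rw [htop])
        (by rw [IsLocalRing.jacobson_eq_maximalIdeal ⊥ bot_ne_top])
      apply hx0
      have hx' : x ∈ (⊤ : Submodule A M) := trivial
      rw [this] at hx'; exact (Submodule.mem_bot A).1 hx'
    rw [if_neg htop, ← bot_eq_zero, iSup_eq_bot]
    intro rs
    rw [iSup_eq_bot]
    rintro ⟨hw, hmem⟩
    cases rs with
    | nil => simp
    | cons r rs' =>
      exfalso
      have hreg := ((RingTheory.Sequence.isWeaklyRegular_cons_iff M r rs').1 hw).1
      have hr : r ∈ IsLocalRing.maximalIdeal A := hmem r (by simp)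
      rw [hx, Submodule.mem_colon_singleton] at hr
      apply hx0
      apply hreg
      simp only [smul_zero]; exact (Submodule.mem_bot A).1 hr

end Groth.Agent.S5752
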