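import Groth.Statements.S0602
import Mathlib
import Groth.Agent.S5752

set_option autoImplicit false
universe u
open CAlg

namespace Groth.Agent.S0602

open IsLocalRing in
noncomputable def locEquiv {R : Type u} [CommRing R] (p : Ideal R) [p.IsPrime] :
    LocalizedModule p.primeCompl R ≃ₗ[Localization.AtPrime p] Localization.AtPrime p :=
  (IsLocalizedModule.iso p.primeCompl
    (Algebra.linearMap R (Localization.AtPrime p))).extendScalarsOfIsLocalization
    p.primeCompl (Localization.AtPrime p)

open IsLocalRing in
theorem depth_zero_iff {R : Type u} [CommRing R] [IsNoetherianRing R] (p : Ideal R) [p.IsPrime] :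
    LocCoh.depth (Localization.AtPrime p) (LocalizedModule p.primeCompl R) = 0 ↔
      maximalIdeal (Localization.AtPrime p) ∈
        associatedPrimes (Localization.AtPrime p) (Localization.AtPrime p) := by
  haveI : Module.Finite (Localization.AtPrime p) (LocalizedModule p.primeCompl R) :=
    Module.Finite.equiv (locEquiv p).symm
  rw [Groth.Agent.S5752.result, LinearEquiv.AssociatedPrimes.eq (locEquiv p)]

theorem supportDim_eq {R : Type u} [CommRing R] (p : Ideal R) [p.IsPrime] :
    Module.supportDim (Localization.AtPrime p) (LocalizedModule p.primeCompl R) =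
      ringKrullDim (Localization.AtPrime p) := by
  rw [Module.supportDim_eq_of_equiv (locEquiv p), Module.supportDim_self_eq_ringKrullDim]

open IsLocalRing in
theorem krullDimLE_zero_of_ass (A : Type u) [CommRing A] [IsLocalRing A] [IsNoetherianRing A]
    [IsReduced A] (h : maximalIdeal A ∈ associatedPrimes A A) : Ring.KrullDimLE 0 A := by
  obtain ⟨hprime, y, hy⟩ := isAssociatedPrime_iff.1 h
  rw [Ring.krullDimLE_zero_iff]
  intro q hq
  by_contra hqm
  have hle : q ≤ maximalIdeal A := le_maximalIdeal hq.ne_top
  have hne : q ≠ maximalIdeal A := fun h' => hqm (by rw [h']; exact maximalIdeal.isMaximal A)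
  obtain ⟨t, htm, htq⟩ : ∃ t ∈ maximalIdeal A, t ∉ q := by
    by_contra hcon
    push_neg at hcon
    exact hne (le_antisymm hle hcon)
  have hty : t * y = 0 := by
    have h1 : t ∈ (⊥ : Submodule A A).colon {y} := hy ▸ htm
    rw [Submodule.mem_colon_singleton, Submodule.mem_bot, smul_eq_mul] at h1
    exact h1
  have hyq : y ∈ q := by
    have h1 : t * y ∈ q := hty ▸ q.zero_mem
    exact (hq.mem_or_mem h1).resolve_left htq
  have hyy : y * y = 0 := by
    have h1 : y ∈ (⊥ : Submodule A A).colon {y} := hy ▸ hle hyq
    rw [Submodule.mem_colon_singleton, Submodule.mem_bot, smul_eq_mul] at h1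
    exact h1
  have hy0 : y = 0 := by
    have h1 : IsNilpotent y := ⟨2, by rw [pow_two]; exact hyy⟩
    exact h1.eq_zero
  have h1 : (1 : A) ∈ maximalIdeal A := by
    rw [hy, Submodule.mem_colon_singleton, hy0, smul_zero]
    exact Submodule.zero_mem _
  exact (maximalIdeal.isMaximal A).ne_top ((Ideal.eq_top_iff_one _).mpr h1)


/-- A Noetherian ring is reduced exactly when it satisfies the conditions R₀ and S₁. -/
theorem result (R : Type u) [CommRing R] [IsNoetherianRing R] :
    IsReduced R ↔ (LocCoh.HasRk 0 R ∧ LocCoh.HasSk 1 R R) := by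
  constructor
  · intro hred
    refine ⟨?_, ?_⟩
    · intro p hp hht
      have hht0 : p.height = 0 := by simpa using hht
      have hmin : p ∈ minimalPrimes R := Ideal.height_eq_zero_iff.mp hht0
      haveI : Ring.KrullDimLE 0 (Localization.AtPrime p) :=
        Ring.KrullDimLE.of_isLocalization p hmin _
      have hm : IsLocalRing.maximalIdeal (Localization.AtPrime p) = ⊥ := by
        rw [← Ring.KrullDimLE.nilradical_eq_maximalIdeal, nilradical_eq_zero, Ideal.zero_eq_bot]
      apply IsRegularLocalRing.of_spanFinrank_maximalIdeal_le
      rw [hm, Submodule.spanFinrank_bot, Nat.cast_zero]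
      exact ringKrullDim_nonneg_of_nontrivial
    · intro p hp
      by_cases hd : LocCoh.depth (Localization.AtPrime p) (LocalizedModule p.primeCompl R) = 0
      · have hass := (depth_zero_iff p).mp hd
        haveI := krullDimLE_zero_of_ass (Localization.AtPrime p) hass
        have hdim : ringKrullDim (Localization.AtPrime p) ≤ 0 := by
          have h1 := (Ring.krullDimLE_iff (n := 0) (R := Localization.AtPrime p)).mp inferInstance
          simpa using h1
        rw [hd, supportDim_eq p]
        exact (min_le_right _ _).trans (by simpa using hdim)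
      · have h1 : (1 : ℕ∞) ≤
            LocCoh.depth (Localization.AtPrime p) (LocalizedModule p.primeCompl R) :=
          ENat.one_le_iff_ne_zero.mpr hd
        refine (min_le_left _ _).trans ?_
        exact_mod_cast h1
  · rintro ⟨hR0, hS1⟩
    constructor
    intro x hx
    by_contra hx0
    obtain ⟨P, hP, hle⟩ := exists_le_isAssociatedPrime_of_isNoetherianRing R x hx0
    haveI hPprime : P.IsPrime := hP.isPrime
    have hass : IsLocalRing.maximalIdeal (Localization.AtPrime P) ∈
        associatedPrimes (Localization.AtPrime P) (LocalizedModule.AtPrime P R) :=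
      Module.associatedPrimes.mem_associatedPrimes_atPrime_of_mem_associatedPrimes hP
    have hass' : IsLocalRing.maximalIdeal (Localization.AtPrime P) ∈
        associatedPrimes (Localization.AtPrime P) (Localization.AtPrime P) := by
      rw [← LinearEquiv.AssociatedPrimes.eq (locEquiv P)]; exact hass
    have hd := (depth_zero_iff P).mpr hass'
    have hs := hS1 P
    rw [hd, supportDim_eq P] at hs
    have hdim : ringKrullDim (Localization.AtPrime P) ≤ 0 := by
      rcases min_le_iff.mp hs with h | h
      · exfalso
        have h' : ((1 : ℕ∞) : WithBot ℕ∞) ≤ ((0 : ℕ∞) : WithBot ℕ∞) := by simpa using h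
        have h'' : (1 : ℕ∞) ≤ 0 := WithBot.coe_le_coe.mp h'
        exact absurd h'' (by simp)
      · simpa using h
    have hht : P.height ≤ ((0 : ℕ) : ℕ∞) := by
      rw [IsLocalization.AtPrime.ringKrullDim_eq_height P (Localization.AtPrime P)] at hdim
      exact_mod_cast hdim
    haveI hreg : IsRegularLocalRing (Localization.AtPrime P) := hR0 P hht
    have hm : IsLocalRing.maximalIdeal (Localization.AtPrime P) = ⊥ := by
      have hsp := hreg.spanFinrank_maximalIdeal
      have h0 : ((IsLocalRing.maximalIdeal (Localization.AtPrime P)).spanFinrank : WithBot ℕ∞) ≤ 0 := by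
        rw [hsp]; exact hdim
      have hn : (IsLocalRing.maximalIdeal (Localization.AtPrime P)).spanFinrank ≤ 0 := by
        exact_mod_cast h0
      exact (Submodule.spanFinrank_eq_zero_iff_eq_bot (IsNoetherian.noetherian _)).mp
        (Nat.le_zero.mp hn)
    have hxz : algebraMap R (Localization.AtPrime P) x = 0 := by
      have hnil : IsNilpotent (algebraMap R (Localization.AtPrime P) x) := hx.map _
      have hmem : algebraMap R (Localization.AtPrime P) x ∈
          IsLocalRing.maximalIdeal (Localization.AtPrime P) := by
        rw [IsLocalRing.mem_maximalIdeal, mem_nonunits_iff]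
        intro hu
        obtain ⟨n, hn⟩ := hnil
        have h1 : IsUnit (0 : Localization.AtPrime P) := hn ▸ hu.pow n
        exact not_isUnit_zero h1
      rw [hm] at hmem
      exact (Submodule.mem_bot _).mp hmem
    obtain ⟨s, hs'⟩ := (IsLocalization.map_eq_zero_iff P.primeCompl (Localization.AtPrime P) x).mp hxz
    have h1 : (s : R) ∈ P := hle (by
      rw [Submodule.mem_colon_singleton, smul_eq_mul, Submodule.mem_bot]; exact hs')
    exact (Ideal.mem_primeCompl_iff.mp s.2) h1

end Groth.Agent.S0602
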