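import Groth.Statements.S0608
import Mathlib

set_option autoImplicit false
universe u
open RRAlg

namespace Groth.Agent.S0608

noncomputable def NN (A : Type u) [CommRing A] (n m : ℕ) : Submodule A (MvPolynomial (Fin (n + 1)) A) where
  carrier := {F | ∃ G : MvPolynomial (Fin n) A,
    MvPolynomial.rename Fin.castSucc G * MvPolynomial.X (Fin.last n) ^ m = F}
  add_mem' := by
    rintro _ _ ⟨G1, rfl⟩ ⟨G2, rfl⟩
    exact ⟨G1 + G2, by rw [map_add, add_mul]⟩
  zero_mem' := ⟨0, by rw [map_zero, zero_mul]⟩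
  smul_mem' := by
    rintro c _ ⟨G, rfl⟩
    exact ⟨c • G, by rw [map_smul, smul_mul_assoc]⟩

noncomputable def MM (A : Type u) [CommRing A] (n : ℕ) : ℕ → Submodule A (MvPolynomial (Fin (n + 1)) A)
  | 0 => ⊥
  | (m + 1) => MM A n m ⊔ NN A n m

variable {A : Type u} [CommRing A]

noncomputable def phi {n : ℕ} (a : Fin n → A) : MvPolynomial (Fin n) A →ₐ[A] Polynomial A :=
  MvPolynomial.aeval (fun i : Fin n => Polynomial.C (a i) * (Polynomial.X : Polynomial A))

noncomputable def bb {n : ℕ} (a : Fin n → A) : Ideal (MvPolynomial (Fin n) A) :=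
  Ideal.span {q | ∃ i j : Fin n, q = MvPolynomial.C (a i) * MvPolynomial.X j -
    MvPolynomial.C (a j) * MvPolynomial.X i}

theorem phi_C {n : ℕ} (a : Fin n → A) (c : A) : phi a (MvPolynomial.C c) = Polynomial.C c := by
  rw [phi, MvPolynomial.aeval_C]; exact (Polynomial.C_eq_algebraMap c).symm

theorem phi_X {n : ℕ} (a : Fin n → A) (i : Fin n) :
    phi a (MvPolynomial.X i) = Polynomial.C (a i) * Polynomial.X := by
  rw [phi, MvPolynomial.aeval_X]

theorem phi_rename {n : ℕ} (a : Fin (n + 1) → A) (G : MvPolynomial (Fin n) A) :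
    phi a (MvPolynomial.rename Fin.castSucc G) = phi (fun i : Fin n => a (Fin.castSucc i)) G := by
  rw [phi, MvPolynomial.aeval_rename]; rfl

theorem bb_le_ker {n : ℕ} (a : Fin n → A) : bb a ≤ RingHom.ker (phi a) := by
  rw [bb, Ideal.span_le]
  rintro _ ⟨i, j, rfl⟩
  rw [SetLike.mem_coe, RingHom.mem_ker, map_sub, map_mul, map_mul, phi_C, phi_C, phi_X, phi_X]
  ring

theorem bb_le_map {n : ℕ} (a : Fin n → A) :
    bb a ≤ Ideal.map MvPolynomial.C (Ideal.span (Set.range a)) := by
  rw [bb, Ideal.span_le]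
  rintro _ ⟨i, j, rfl⟩
  have hi : MvPolynomial.C (a i) ∈ Ideal.map (MvPolynomial.C : A →+* MvPolynomial (Fin n) A)
      (Ideal.span (Set.range a)) := Ideal.mem_map_of_mem _ (Ideal.subset_span ⟨i, rfl⟩)
  have hj : MvPolynomial.C (a j) ∈ Ideal.map (MvPolynomial.C : A →+* MvPolynomial (Fin n) A)
      (Ideal.span (Set.range a)) := Ideal.mem_map_of_mem _ (Ideal.subset_span ⟨j, rfl⟩)
  exact sub_mem (Ideal.mul_mem_right _ _ hi) (Ideal.mul_mem_right _ _ hj)

theorem rename_bb {n : ℕ} (a : Fin (n + 1) → A) {G : MvPolynomial (Fin n) A}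
    (hG : G ∈ bb (fun i : Fin n => a (Fin.castSucc i))) :
    MvPolynomial.rename Fin.castSucc G ∈ bb a := by
  have hle : bb (fun i : Fin n => a (Fin.castSucc i)) ≤
      Ideal.comap (MvPolynomial.rename (Fin.castSucc : Fin n → Fin (n + 1)) :
        MvPolynomial (Fin n) A →ₐ[A] MvPolynomial (Fin (n + 1)) A) (bb a) := by
    rw [bb, Ideal.span_le]
    rintro _ ⟨i, j, rfl⟩
    rw [SetLike.mem_coe, Ideal.mem_comap]
    simp only [map_sub, map_mul, MvPolynomial.rename_C, MvPolynomial.rename_X]
    exact Ideal.subset_span ⟨Fin.castSucc i, Fin.castSucc j, rfl⟩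
  exact hle hG

theorem range_phi {n : ℕ} (a : Fin n → A) :
    (phi a).range = reesAlgebra (Ideal.span (Set.range a)) := by
  rw [← adjoin_monomial_eq_reesAlgebra]
  have h1 : ((Submodule.map (Polynomial.monomial 1 : A →ₗ[A] Polynomial A)
      (Ideal.span (Set.range a)) : Submodule A (Polynomial A)) : Set (Polynomial A)) =
      ((Submodule.span A (Set.range fun i => Polynomial.C (a i) * (Polynomial.X : Polynomial A)) :
        Submodule A (Polynomial A)) : Set (Polynomial A)) := by
    congr 1
    rw [Ideal.span, Submodule.map_span, ← Set.range_comp]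
    congr 2
    funext i
    simp [Polynomial.C_mul_X_eq_monomial]
  rw [h1, Algebra.adjoin_span, phi, Algebra.adjoin_range_eq_range_aeval]

theorem coeff_phi_mem {n : ℕ} (a : Fin n → A) (G : MvPolynomial (Fin n) A) (j : ℕ) :
    (phi a G).coeff j ∈ Ideal.span (Set.range a) ^ j := by
  have h : phi a G ∈ reesAlgebra (Ideal.span (Set.range a)) := by
    rw [← range_phi]; exact (AlgHom.mem_range (phi a)).mpr ⟨G, rfl⟩
  exact h j

theorem exists_phi_eq_monomial {n : ℕ} (a : Fin n → A) (j : ℕ) (z : A)
    (hz : z ∈ Ideal.span (Set.range a) ^ j) : ∃ G, phi a G = Polynomial.monomial j z := by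
  have h : Polynomial.monomial j z ∈ reesAlgebra (Ideal.span (Set.range a)) :=
    reesAlgebra.monomial_mem.mpr hz
  rw [← range_phi] at h
  exact (AlgHom.mem_range (phi a)).mp h

theorem coeff_phi_mem_of_mem_map {n : ℕ} (a : Fin n → A) (G : MvPolynomial (Fin n) A)
    (hG : G ∈ Ideal.map MvPolynomial.C (Ideal.span (Set.range a))) (j : ℕ) :
    (phi a G).coeff j ∈ Ideal.span (Set.range a) ^ (j + 1) := by
  let K : Ideal (MvPolynomial (Fin n) A) :=
    { carrier := {G | ∀ j, (phi a G).coeff j ∈ Ideal.span (Set.range a) ^ (j + 1)}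
      add_mem' := fun {x y} hx hy j => by
        rw [map_add, Polynomial.coeff_add]; exact add_mem (hx j) (hy j)
      zero_mem' := fun j => by
        rw [map_zero, Polynomial.coeff_zero]; exact zero_mem _
      smul_mem' := fun H x hx j => by
        rw [smul_eq_mul, map_mul, Polynomial.coeff_mul]
        refine Ideal.sum_mem _ fun ij hij => ?_
        have h1 := Ideal.mul_mem_mul (coeff_phi_mem a H ij.1) (hx ij.2)
        rw [← pow_add] at h1
        have h2 : ij.1 + ij.2 = j := by simpa using hij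
        have hsum : ij.1 + (ij.2 + 1) = j + 1 := by omega
        rwa [hsum] at h1 }
  have hle : Ideal.map MvPolynomial.C (Ideal.span (Set.range a)) ≤ K := by
    rw [Ideal.map_le_iff_le_comap]
    intro u hu j
    show (phi a (MvPolynomial.C u)).coeff j ∈ _
    rw [phi_C, Polynomial.coeff_C]
    split_ifs with h
    · subst h; simpa using hu
    · exact zero_mem _
  exact hle hG j

theorem exists_of_coeff_mem {n : ℕ} (a : Fin n → A) (p : Polynomial A)
    (hp : ∀ j, p.coeff j ∈ Ideal.span (Set.range a) ^ (j + 1)) :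
    ∃ G' ∈ Ideal.map MvPolynomial.C (Ideal.span (Set.range a)), phi a G' = p := by
  have hmono : ∀ (j : ℕ) (c : A), c ∈ Ideal.span (Set.range a) ^ (j + 1) →
      Polynomial.monomial j c ∈ Submodule.map (phi a).toLinearMap
        ((Ideal.map MvPolynomial.C (Ideal.span (Set.range a))).restrictScalars A) := by
    intro j c hc
    rw [pow_succ] at hc
    refine Submodule.mul_induction_on (C := fun c => Polynomial.monomial j c ∈
      Submodule.map (phi a).toLinearMap
        ((Ideal.map MvPolynomial.C (Ideal.span (Set.range a))).restrictScalars A)) hc ?_ ?_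
    · intro v hv u hu
      obtain ⟨G, hG⟩ := exists_phi_eq_monomial a j v hv
      refine ⟨MvPolynomial.C u * G, ?_, ?_⟩
      · exact Ideal.mul_mem_right _ _ (Ideal.mem_map_of_mem _ hu)
      · show phi a (MvPolynomial.C u * G) = _
        rw [map_mul, hG, phi_C, Polynomial.C_mul_monomial, mul_comm]
    · intro x y hx hy
      rw [map_add]; exact add_mem hx hy
  have hmem : p ∈ Submodule.map (phi a).toLinearMap
      ((Ideal.map MvPolynomial.C (Ideal.span (Set.range a))).restrictScalars A) := by
    rw [p.as_sum_support]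
    exact Submodule.sum_mem _ fun j _ => hmono j _ (hp j)
  obtain ⟨G', hG', h⟩ := hmem
  exact ⟨G', hG', h⟩

theorem mem_map_of_coeff {n : ℕ} (a : Fin n → A) (H1 : RingHom.ker (phi a) ≤ bb a)
    (G : MvPolynomial (Fin n) A)
    (hG : ∀ j, (phi a G).coeff j ∈ Ideal.span (Set.range a) ^ (j + 1)) :
    G ∈ Ideal.map MvPolynomial.C (Ideal.span (Set.range a)) := by
  obtain ⟨G', hG', h⟩ := exists_of_coeff_mem a (phi a G) hG
  have h1 : G - G' ∈ RingHom.ker (phi a) := by
    rw [RingHom.mem_ker, map_sub, h, sub_self]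
  have h2 := bb_le_map a (H1 h1)
  have h3 : G = (G - G') + G' := by ring
  rw [h3]; exact add_mem h2 hG'

theorem step_single {n : ℕ} (a : Fin n → A) (H1 : RingHom.ker (phi a) ≤ bb a) (an : A)
    (H2 : ∀ y, an * y ∈ Ideal.span (Set.range a) → y ∈ Ideal.span (Set.range a))
    (j : ℕ) (w : A) (hw : w ∈ Ideal.span (Set.range a) ^ j)
    (hw' : an * w ∈ Ideal.span (Set.range a) ^ (j + 1)) :
    w ∈ Ideal.span (Set.range a) ^ (j + 1) := by
  classical
  obtain ⟨G, hG⟩ := exists_phi_eq_monomial a j w hw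
  have h1 : MvPolynomial.C an * G ∈ Ideal.map MvPolynomial.C (Ideal.span (Set.range a)) := by
    apply mem_map_of_coeff a H1
    intro k
    rw [map_mul, hG, phi_C, Polynomial.C_mul_monomial, Polynomial.coeff_monomial]
    split_ifs with h
    · subst h; exact hw'
    · exact zero_mem _
  have h2 : G ∈ Ideal.map MvPolynomial.C (Ideal.span (Set.range a)) := by
    rw [MvPolynomial.mem_map_C_iff] at h1 ⊢
    intro m
    have h := h1 m
    rw [MvPolynomial.coeff_C_mul] at h
    exact H2 _ h
  have h3 := coeff_phi_mem_of_mem_map a G h2 j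
  rw [hG, Polynomial.coeff_monomial, if_pos rfl] at h3
  exact h3

theorem step_iter {n : ℕ} (a : Fin n → A) (H1 : RingHom.ker (phi a) ≤ bb a) (an : A)
    (H2 : ∀ y, an * y ∈ Ideal.span (Set.range a) → y ∈ Ideal.span (Set.range a))
    (j : ℕ) (m : ℕ) : ∀ z, z ∈ Ideal.span (Set.range a) ^ j →
      an ^ m * z ∈ Ideal.span (Set.range a) ^ (j + 1) → z ∈ Ideal.span (Set.range a) ^ (j + 1) := by
  induction m with
  | zero => intro z _ hz; simpa using hz
  | succ m ih =>
    intro z hz hz'
    have h1 : an * z ∈ Ideal.span (Set.range a) ^ j := Ideal.mul_mem_left _ _ hz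
    have h2 : an ^ m * (an * z) ∈ Ideal.span (Set.range a) ^ (j + 1) := by
      rw [← mul_assoc, ← pow_succ]; exact hz'
    exact step_single a H1 an H2 j z hz (ih (an * z) h1 h2)

theorem MM_le_succ (n m : ℕ) : MM A n m ≤ MM A n (m + 1) := le_sup_left

theorem NN_le_MM (n m : ℕ) : NN A n m ≤ MM A n (m + 1) := le_sup_right

theorem MM_mono (n : ℕ) : Monotone (MM A n) := monotone_nat_of_le_succ (MM_le_succ n)

theorem mul_X_last_mem (n : ℕ) : ∀ (m : ℕ) (F : MvPolynomial (Fin (n + 1)) A), F ∈ MM A n m →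
    F * MvPolynomial.X (Fin.last n) ∈ MM A n (m + 1) := by
  intro m
  induction m with
  | zero =>
    intro F hF
    have hF0 : F = 0 := (Submodule.mem_bot A).mp hF
    rw [hF0, zero_mul]; exact zero_mem _
  | succ m ih =>
    intro F hF
    have hF2 : F ∈ MM A n m ⊔ NN A n m := hF
    obtain ⟨F', hF', E, ⟨G, rfl⟩, rfl⟩ := Submodule.mem_sup.mp hF2
    rw [add_mul]
    refine add_mem (MM_le_succ n (m + 1) (ih F' hF')) (NN_le_MM n (m + 1) ⟨G, ?_⟩)
    rw [pow_succ, mul_assoc]

theorem mul_X_castSucc_mem (n : ℕ) (i : Fin n) : ∀ (m : ℕ) (F : MvPolynomial (Fin (n + 1)) A),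
    F ∈ MM A n m → F * MvPolynomial.X (Fin.castSucc i) ∈ MM A n m := by
  intro m
  induction m with
  | zero =>
    intro F hF
    have hF0 : F = 0 := (Submodule.mem_bot A).mp hF
    rw [hF0, zero_mul]; exact zero_mem _
  | succ m ih =>
    intro F hF
    have hF2 : F ∈ MM A n m ⊔ NN A n m := hF
    obtain ⟨F', hF', E, ⟨G, rfl⟩, rfl⟩ := Submodule.mem_sup.mp hF2
    rw [add_mul]
    refine add_mem (MM_le_succ n m (ih F' hF')) (NN_le_MM n m ⟨G * MvPolynomial.X i, ?_⟩)
    rw [map_mul, MvPolynomial.rename_X]; ring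

theorem exists_mem_MM (n : ℕ) (F : MvPolynomial (Fin (n + 1)) A) : ∃ m, F ∈ MM A n m := by
  induction F using MvPolynomial.induction_on with
  | C c =>
    exact ⟨1, NN_le_MM n 0 ⟨MvPolynomial.C c, by rw [MvPolynomial.rename_C, pow_zero, mul_one]⟩⟩
  | add p q hp hq =>
    obtain ⟨m1, h1⟩ := hp
    obtain ⟨m2, h2⟩ := hq
    exact ⟨max m1 m2, add_mem (MM_mono n (le_max_left _ _) h1) (MM_mono n (le_max_right _ _) h2)⟩
  | mul_X p i hp =>
    obtain ⟨m, hm⟩ := hp
    refine Fin.lastCases ?_ (fun i' => ?_) i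
    · exact ⟨m + 1, mul_X_last_mem n m p hm⟩
    · exact ⟨m, mul_X_castSucc_mem n i' m p hm⟩

theorem coeff_phi_MM {n : ℕ} (a : Fin (n + 1) → A) : ∀ (m : ℕ) (F : MvPolynomial (Fin (n + 1)) A),
    F ∈ MM A n m → ∀ e, (phi a F).coeff e ∈
      Ideal.span (Set.range fun i : Fin n => a (Fin.castSucc i)) ^ (e + 1 - m) := by
  intro m
  induction m with
  | zero =>
    intro F hF e
    have hF0 : F = 0 := (Submodule.mem_bot A).mp hF
    rw [hF0, map_zero, Polynomial.coeff_zero]; exact zero_mem _
  | succ m ih =>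
    intro F hF e
    have hF2 : F ∈ MM A n m ⊔ NN A n m := hF
    obtain ⟨F', hF', E, ⟨G, rfl⟩, rfl⟩ := Submodule.mem_sup.mp hF2
    rw [map_add, Polynomial.coeff_add]
    refine add_mem (Ideal.pow_le_pow_right (by omega) (ih F' hF' e)) ?_
    rw [map_mul, map_pow, phi_rename, phi_X, mul_pow, ← Polynomial.C_pow, ← mul_assoc,
      Polynomial.coeff_mul_X_pow']
    split_ifs with h
    · rw [Polynomial.coeff_mul_C]
      have h1 := coeff_phi_mem (fun i : Fin n => a (Fin.castSucc i)) G (e - m)
      have hexp : e + 1 - (m + 1) = e - m := by omega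
      rw [hexp]
      exact Ideal.mul_mem_right _ _ h1
    · exact zero_mem _

theorem reduce_top {n : ℕ} (a : Fin (n + 1) → A) (m : ℕ) (G : MvPolynomial (Fin n) A)
    (hG : G ∈ Ideal.map MvPolynomial.C
      (Ideal.span (Set.range fun i : Fin n => a (Fin.castSucc i)))) :
    ∃ E ∈ NN A n m, MvPolynomial.rename Fin.castSucc G * MvPolynomial.X (Fin.last n) ^ (m + 1) - E ∈
      bb a := by
  rw [Ideal.map_span, ← Set.range_comp] at hG
  refine Submodule.span_induction (p := fun G _ => ∃ E ∈ NN A n m,
    MvPolynomial.rename Fin.castSucc G * MvPolynomial.X (Fin.last n) ^ (m + 1) - E ∈ bb a)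
    ?_ ?_ ?_ ?_ hG
  · rintro _ ⟨i, rfl⟩
    refine ⟨MvPolynomial.rename Fin.castSucc (MvPolynomial.C (a (Fin.last n)) * MvPolynomial.X i) *
      MvPolynomial.X (Fin.last n) ^ m, ⟨_, rfl⟩, ?_⟩
    have hgen : MvPolynomial.C (a (Fin.castSucc i)) * MvPolynomial.X (Fin.last n) -
        MvPolynomial.C (a (Fin.last n)) * MvPolynomial.X (Fin.castSucc i) ∈ bb a :=
      Ideal.subset_span ⟨Fin.castSucc i, Fin.last n, rfl⟩
    have heq : MvPolynomial.rename Fin.castSucc
          ((⇑(MvPolynomial.C : A →+* MvPolynomial (Fin n) A) ∘ fun i : Fin n => a (Fin.castSucc i)) i) *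
          MvPolynomial.X (Fin.last n) ^ (m + 1) -
        MvPolynomial.rename Fin.castSucc (MvPolynomial.C (a (Fin.last n)) * MvPolynomial.X i) *
          MvPolynomial.X (Fin.last n) ^ m =
        (MvPolynomial.C (a (Fin.castSucc i)) * MvPolynomial.X (Fin.last n) -
          MvPolynomial.C (a (Fin.last n)) * MvPolynomial.X (Fin.castSucc i)) *
          MvPolynomial.X (Fin.last n) ^ m := by
      simp only [Function.comp_apply, map_mul, MvPolynomial.rename_C, MvPolynomial.rename_X]
      ring
    rw [heq]; exact Ideal.mul_mem_right _ _ hgen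
  · exact ⟨0, zero_mem _, by rw [map_zero, zero_mul, sub_zero]; exact zero_mem _⟩
  · rintro x y _ _ ⟨E1, hE1, h1⟩ ⟨E2, hE2, h2⟩
    refine ⟨E1 + E2, add_mem hE1 hE2, ?_⟩
    have h3 : MvPolynomial.rename Fin.castSucc (x + y) * MvPolynomial.X (Fin.last n) ^ (m + 1) -
        (E1 + E2) =
        (MvPolynomial.rename Fin.castSucc x * MvPolynomial.X (Fin.last n) ^ (m + 1) - E1) +
        (MvPolynomial.rename Fin.castSucc y * MvPolynomial.X (Fin.last n) ^ (m + 1) - E2) := by
      rw [map_add]; ring
    rw [h3]; exact add_mem h1 h2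
  · rintro H x _ ⟨E, ⟨GE, rfl⟩, h⟩
    refine ⟨MvPolynomial.rename Fin.castSucc (H * GE) * MvPolynomial.X (Fin.last n) ^ m,
      ⟨_, rfl⟩, ?_⟩
    have h3 : MvPolynomial.rename Fin.castSucc (H • x) * MvPolynomial.X (Fin.last n) ^ (m + 1) -
        MvPolynomial.rename Fin.castSucc (H * GE) * MvPolynomial.X (Fin.last n) ^ m =
        MvPolynomial.rename Fin.castSucc H *
          (MvPolynomial.rename Fin.castSucc x * MvPolynomial.X (Fin.last n) ^ (m + 1) -
            MvPolynomial.rename Fin.castSucc GE * MvPolynomial.X (Fin.last n) ^ m) := by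
      rw [smul_eq_mul, map_mul, map_mul]; ring
    rw [h3]; exact Ideal.mul_mem_left _ _ h

theorem step {n : ℕ} (a : Fin (n + 1) → A)
    (H1 : RingHom.ker (phi (fun i : Fin n => a (Fin.castSucc i))) ≤
      bb (fun i : Fin n => a (Fin.castSucc i)))
    (H2 : ∀ y, a (Fin.last n) * y ∈ Ideal.span (Set.range fun i : Fin n => a (Fin.castSucc i)) →
      y ∈ Ideal.span (Set.range fun i : Fin n => a (Fin.castSucc i))) :
    RingHom.ker (phi a) ≤ bb a := by
  have key : ∀ (m : ℕ) (F : MvPolynomial (Fin (n + 1)) A), F ∈ MM A n m → phi a F = 0 →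
      F ∈ bb a := by
    intro m
    induction m with
    | zero =>
      intro F hF _
      have hF0 : F = 0 := (Submodule.mem_bot A).mp hF
      rw [hF0]; exact zero_mem _
    | succ m ih =>
      intro F hF hphi
      have hF2 : F ∈ MM A n m ⊔ NN A n m := hF
      obtain ⟨F', hF', E, ⟨G, rfl⟩, rfl⟩ := Submodule.mem_sup.mp hF2
      have hcoef : ∀ j, (phi (fun i : Fin n => a (Fin.castSucc i)) G).coeff j ∈
          Ideal.span (Set.range fun i : Fin n => a (Fin.castSucc i)) ^ (j + 1) := by
        intro j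
        apply step_iter _ H1 (a (Fin.last n)) H2 j m _ (coeff_phi_mem _ G j)
        have h1 : (phi a (MvPolynomial.rename Fin.castSucc G *
            MvPolynomial.X (Fin.last n) ^ m)).coeff (j + m) =
            (phi (fun i : Fin n => a (Fin.castSucc i)) G).coeff j * a (Fin.last n) ^ m := by
          rw [map_mul, map_pow, phi_rename, phi_X, mul_pow, ← Polynomial.C_pow, ← mul_assoc,
            Polynomial.coeff_mul_X_pow, Polynomial.coeff_mul_C]
        have h2 : (phi a (MvPolynomial.rename Fin.castSucc G *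
            MvPolynomial.X (Fin.last n) ^ m)).coeff (j + m) = - (phi a F').coeff (j + m) := by
          have h := congrArg (fun p => Polynomial.coeff p (j + m)) hphi
          simp only [map_add, Polynomial.coeff_add, Polynomial.coeff_zero] at h
          exact eq_neg_of_add_eq_zero_right h
        have h3 := coeff_phi_MM a m F' hF' (j + m)
        have hexp : j + m + 1 - m = j + 1 := by omega
        rw [hexp] at h3
        rw [mul_comm, ← h1, h2]; exact neg_mem h3
      have hGmap := mem_map_of_coeff _ H1 G hcoef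
      cases m with
      | zero =>
        have hF'0 : F' = 0 := (Submodule.mem_bot A).mp hF'
        rw [hF'0, zero_add, pow_zero, mul_one] at hphi ⊢
        rw [phi_rename] at hphi
        exact rename_bb a (H1 (RingHom.mem_ker.mpr hphi))
      | succ m' =>
        obtain ⟨E, hE, hdiff⟩ := reduce_top a m' G hGmap
        have hF'' : F' + E ∈ MM A n (m' + 1) := add_mem hF' (NN_le_MM n m' hE)
        have hphi'' : phi a (F' + E) = 0 := by
          have h0 : phi a (MvPolynomial.rename Fin.castSucc G *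
              MvPolynomial.X (Fin.last n) ^ (m' + 1) - E) = 0 :=
            RingHom.mem_ker.mp (bb_le_ker a hdiff)
          have h4 : F' + E = (F' + MvPolynomial.rename Fin.castSucc G *
              MvPolynomial.X (Fin.last n) ^ (m' + 1)) -
              (MvPolynomial.rename Fin.castSucc G * MvPolynomial.X (Fin.last n) ^ (m' + 1) - E) := by
            ring
          rw [h4, map_sub, hphi, h0, sub_zero]
        have h5 := ih (F' + E) hF'' hphi''
        have hsplit : F' + MvPolynomial.rename Fin.castSucc G *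
            MvPolynomial.X (Fin.last n) ^ (m' + 1) = (F' + E) +
            (MvPolynomial.rename Fin.castSucc G * MvPolynomial.X (Fin.last n) ^ (m' + 1) - E) := by
          ring
        rw [hsplit]; exact add_mem h5 hdiff
  intro F hF
  obtain ⟨m, hm⟩ := exists_mem_MM n F
  exact key m F hm (RingHom.mem_ker.mp hF)

theorem base (a : Fin 0 → A) : RingHom.ker (phi a) ≤ bb a := by
  intro F hF
  rw [RingHom.mem_ker] at hF
  obtain ⟨c, rfl⟩ : ∃ c, F = MvPolynomial.C c := ⟨_, MvPolynomial.eq_C_of_isEmpty F⟩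
  rw [phi_C, Polynomial.C_eq_zero] at hF
  rw [hF, map_zero]; exact zero_mem _

theorem main : ∀ (n : ℕ) (a : Fin n → A),
    RingTheory.Sequence.IsWeaklyRegular A (List.ofFn a) → RingHom.ker (phi a) ≤ bb a := by
  intro n
  induction n with
  | zero => intro a _; exact base a
  | succ n ih =>
    intro a ha
    have h1 : List.ofFn a = List.ofFn (fun i : Fin n => a (Fin.castSucc i)) ++ [a (Fin.last n)] := by
      rw [List.ofFn_succ', List.concat_eq_append]
    rw [h1, RingTheory.Sequence.isWeaklyRegular_append_iff] at ha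
    obtain ⟨ha', hlast⟩ := ha
    rw [RingTheory.Sequence.isWeaklyRegular_singleton_iff,
      isSMulRegular_quotient_iff_mem_of_smul_mem] at hlast
    have hof : Ideal.ofList (List.ofFn fun i : Fin n => a (Fin.castSucc i)) =
        Ideal.span (Set.range fun i : Fin n => a (Fin.castSucc i)) := by
      show Ideal.span _ = Ideal.span _
      congr 1
      ext x
      simp [List.mem_ofFn']
    apply step a (ih _ ha')
    intro y hy
    have h2 := hlast y
    rw [hof, smul_eq_mul, smul_eq_mul, Ideal.mul_top] at h2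
    exact h2 hy


/-- Let a_1, …, a_n be a weakly regular sequence in a commutative ring A (each a_i is a non-zero-divisor
modulo (a_1, …, a_(i−1)); the a_i are allowed to generate the unit ideal). Then the kernel of the
A-algebra map A[X_1, …, X_n] → A[T] sending X_i to a_i·T, whose image is the Rees algebra of the
ideal (a_1, …, a_n), is the ideal generated by the elements a_i X_j − a_j X_i. (The published
statement assumes a regular sequence; only weak regularity is assumed here.) -/
theorem result {A : Type u} [CommRing A] {n : ℕ} (a : Fin n → A)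
    (ha : RingTheory.Sequence.IsWeaklyRegular A (List.ofFn a)) :
    RingHom.ker (MvPolynomial.aeval (R := A)
      (fun i : Fin n => Polynomial.C (a i) * (Polynomial.X : Polynomial A))) =
      Ideal.span {q : MvPolynomial (Fin n) A | ∃ i j : Fin n,
        q = MvPolynomial.C (a i) * MvPolynomial.X j - MvPolynomial.C (a j) * MvPolynomial.X i} := by
  apply le_antisymm
  · exact main n a ha
  · exact bb_le_ker a

end Groth.Agent.S0608
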