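import Groth.Statements.S0611
import Mathlib

set_option autoImplicit false
universe u
open RRAlg

namespace Groth.Agent.S0611

open RingTheory.Sequence
open scoped Pointwise

theorem ofList_perm {A : Type u} [CommRing A] {l l' : List A} (h : l.Perm l') :
    Ideal.ofList l = Ideal.ofList l' :=
  congrArg Ideal.span (Set.ext fun _ => h.mem_iff)

theorem ofList_append_replace {A : Type u} [CommRing A] {as' : List A} {a b u c : A}
    (hu : IsUnit u) (hc : c ∈ Ideal.ofList as') (hb : b = u * a + c) :
    Ideal.ofList (as' ++ [b]) = Ideal.ofList (as' ++ [a]) := by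
  rw [Ideal.ofList_append, Ideal.ofList_append, Ideal.ofList_singleton, Ideal.ofList_singleton]
  apply le_antisymm
  · refine sup_le le_sup_left ?_
    rw [Ideal.span_singleton_le_iff_mem, hb]
    exact Ideal.add_mem _
      (Ideal.mul_mem_left _ _ (Ideal.mem_sup_right (Ideal.mem_span_singleton_self a)))
      (Ideal.mem_sup_left hc)
  · refine sup_le le_sup_left ?_
    rw [Ideal.span_singleton_le_iff_mem]
    obtain ⟨v, hv⟩ := hu.exists_left_inv
    have ha : a = v * b - v * c := by
      rw [hb, mul_add, ← mul_assoc, hv, one_mul, add_sub_cancel_right]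
    rw [ha]
    exact Ideal.sub_mem _
      (Ideal.mul_mem_left _ _ (Ideal.mem_sup_right (Ideal.mem_span_singleton_self b)))
      (Ideal.mul_mem_left _ _ (Ideal.mem_sup_left hc))

theorem isRegular_append_replace {A : Type u} [CommRing A] {as' : List A} {a b u c : A}
    (hu : IsUnit u) (hc : c ∈ Ideal.ofList as') (hb : b = u * a + c)
    (h : IsRegular A (as' ++ [a])) : IsRegular A (as' ++ [b]) := by
  refine ⟨?_, ?_⟩
  · have hw := h.toIsWeaklyRegular
    rw [isWeaklyRegular_append_iff] at hw ⊢
    refine ⟨hw.1, ?_⟩
    have h1 : IsSMulRegular (A ⧸ (Ideal.ofList as' • (⊤ : Submodule A A))) a :=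
      (isWeaklyRegular_singleton_iff _ a).mp hw.2
    rw [isWeaklyRegular_singleton_iff]
    have key : ∀ z : A ⧸ (Ideal.ofList as' • (⊤ : Submodule A A)), b • z = u • (a • z) := by
      intro z
      obtain ⟨w, rfl⟩ := Submodule.Quotient.mk_surjective _ z
      have h0 : c • (Submodule.Quotient.mk w :
          A ⧸ (Ideal.ofList as' • (⊤ : Submodule A A))) = 0 := by
        rw [← Submodule.Quotient.mk_smul, Submodule.Quotient.mk_eq_zero]
        exact Submodule.smul_mem_smul hc Submodule.mem_top
      rw [hb, add_smul, mul_smul, h0, add_zero]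
    intro x y hxy
    have hxy' : b • x = b • y := hxy
    rw [key x, key y] at hxy'
    exact h1 (hu.smul_left_cancel.mp hxy')
  · rw [ofList_append_replace hu hc hb]; exact h.top_ne_smul

theorem wb_cancel (D : WithBot ℕ∞) (hbot : D ≠ ⊥) (htop : D ≠ ⊤) (a c : ℕ)
    (h : D + (a : WithBot ℕ∞) ≤ D + (c : WithBot ℕ∞)) : a ≤ c := by
  induction D using WithBot.recBotCoe with
  | bot => exact absurd rfl hbot
  | coe d =>
    induction d using ENat.recTopCoe with
    | top => exact absurd rfl htop
    | coe e =>
      have h'' : e + a ≤ e + c := by exact_mod_cast h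
      omega

noncomputable def eQuot (A : Type u) [CommRing A] (b : A) :
    QuotSMulTop b A ≃ₗ[A ⧸ Ideal.span {b}] (A ⧸ Ideal.span {b}) :=
  LinearEquiv.extendScalarsOfSurjective (R := A) (S := A ⧸ Ideal.span {b})
    Ideal.Quotient.mk_surjective
    (Submodule.quotEquivOfEq (b • (⊤ : Submodule A A)) (Ideal.span {b})
      (by rw [← Submodule.ideal_span_singleton_smul, Ideal.smul_eq_mul, Ideal.mul_top]))

section
variable {A : Type u} [CommRing A] [IsLocalRing A] [IsNoetherianRing A]

theorem ofList_le_max {rs : List A} (h : IsRegular A rs) :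
    Ideal.ofList rs ≤ IsLocalRing.maximalIdeal A := by
  apply IsLocalRing.le_maximalIdeal
  intro htop
  apply h.top_ne_smul
  rw [htop, Submodule.top_smul]

theorem length_le_of_ofList_eq {as cs : List A} (h : IsRegular A as)
    (heq : Ideal.ofList as = Ideal.ofList cs) : as.length ≤ cs.length := by
  classical
  have hle : Ideal.ofList as ≤ IsLocalRing.maximalIdeal A := ofList_le_max h
  have h1 := ringKrullDim_add_length_eq_ringKrullDim_of_isRegular as h
  have hsub : ((cs.toFinset : Finset A) : Set A) ⊆ Ring.jacobson A := by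
    rw [IsLocalRing.ringJacobson_eq_maximalIdeal]
    intro x hx
    rw [List.coe_toFinset] at hx
    have hx' : x ∈ Ideal.ofList cs := Ideal.subset_span hx
    rw [← heq] at hx'
    exact hle hx'
  have h2 := ringKrullDim_le_ringKrullDim_quotient_add_card cs.toFinset hsub
  have hspan : Ideal.span ((cs.toFinset : Finset A) : Set A) = Ideal.ofList as := by
    rw [heq, List.coe_toFinset]
  rw [hspan, ← h1] at h2
  have hcard : cs.toFinset.card ≤ cs.length := List.toFinset_card_le cs
  haveI : Nontrivial (A ⧸ Ideal.ofList as) :=
    Ideal.Quotient.nontrivial_iff.mpr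
      (ne_top_of_le_ne_top (Ideal.IsMaximal.ne_top inferInstance) hle)
  haveI : IsLocalRing (A ⧸ Ideal.ofList as) :=
    IsLocalRing.of_surjective' (Ideal.Quotient.mk _) Ideal.Quotient.mk_surjective
  have h3 := wb_cancel _ ringKrullDim_ne_bot ringKrullDim_ne_top _ _ h2
  omega

theorem exists_unit_coeff [DecidableEq A] {as bs' : List A} {b : A} (h : IsRegular A as)
    (hI : Ideal.ofList as = Ideal.ofList (b :: bs')) (hlen : bs'.length + 1 = as.length) :
    ∃ a ∈ as, ∃ u c : A, IsUnit u ∧ c ∈ Ideal.ofList (as.erase a) ∧ b = u * a + c := by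
  have hle : Ideal.ofList as ≤ IsLocalRing.maximalIdeal A := ofList_le_max h
  have hbI : b ∈ Ideal.ofList as := by
    rw [hI, Ideal.ofList_cons]; exact Ideal.mem_sup_left (Ideal.mem_span_singleton_self b)
  have hspan : Ideal.ofList as = Ideal.span ((as.toFinset : Finset A) : Set A) := by
    rw [List.coe_toFinset]
  rw [hspan] at hbI
  obtain ⟨f, -, hf⟩ := Submodule.mem_span_finset.mp hbI
  by_cases hex : ∃ r ∈ as.toFinset, IsUnit (f r)
  · obtain ⟨r, hr, hur⟩ := hex
    have hr' : r ∈ as := List.mem_toFinset.mp hr
    refine ⟨r, hr', f r, ∑ i ∈ as.toFinset.erase r, f i • i, hur, ?_, ?_⟩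
    · refine Ideal.sum_mem _ fun i hi => ?_
      rw [Finset.mem_erase] at hi
      rw [smul_eq_mul]
      refine Ideal.mul_mem_left _ _ (Ideal.subset_span ?_)
      exact (List.mem_erase_of_ne hi.1).mpr (List.mem_toFinset.mp hi.2)
    · rw [← hf, ← Finset.add_sum_erase _ _ hr, smul_eq_mul]
  · exfalso
    push Not at hex
    have hbm : b ∈ IsLocalRing.maximalIdeal A • Ideal.ofList as := by
      rw [← hf]
      refine Ideal.sum_mem _ fun i hi => ?_
      exact Submodule.smul_mem_smul ((IsLocalRing.mem_maximalIdeal _).mpr (hex i hi))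
        (Ideal.subset_span (List.mem_toFinset.mp hi))
    have hle2 : Ideal.ofList as ≤
        Ideal.ofList bs' ⊔ IsLocalRing.maximalIdeal A • Ideal.ofList as := by
      conv_lhs => rw [hI, Ideal.ofList_cons]
      exact sup_le ((Ideal.span_singleton_le_iff_mem _).mpr (Ideal.mem_sup_right hbm)) le_sup_left
    have hfg : (Ideal.ofList as).FG := ⟨as.toFinset, hspan.symm⟩
    have hle3 : Ideal.ofList as ≤ Ideal.ofList bs' :=
      Submodule.le_of_le_smul_of_le_jacobson_bot hfg (IsLocalRing.maximalIdeal_le_jacobson ⊥) hle2
    have heq : Ideal.ofList as = Ideal.ofList bs' := by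
      apply le_antisymm hle3
      rw [hI, Ideal.ofList_cons]; exact le_sup_right
    have := length_le_of_ofList_eq h heq
    omega

end

theorem main : ∀ (n : ℕ) (A : Type u) [CommRing A] [IsLocalRing A] [IsNoetherianRing A]
    (as bs : List A), as.length = n → bs.length = n → Ideal.ofList as = Ideal.ofList bs →
    IsRegular A as → IsRegular A bs := by
  intro n
  induction n with
  | zero =>
    intro A _ _ _ as bs ha hb _ h
    rw [List.length_eq_zero_iff] at ha hb
    subst ha; subst hb; exact h
  | succ n ih =>
    intro A _ _ _ as bs ha hb hI h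
    classical
    cases bs with
    | nil => simp at hb
    | cons b bs' =>
      have hb' : bs'.length = n := by simpa using hb
      obtain ⟨a, haas, u, c, hu, hc, hbu⟩ := exists_unit_coeff h hI (by omega)
      have hperm : as.Perm (a :: as.erase a) := List.perm_cons_erase haas
      have hreg1 : IsRegular A (a :: as.erase a) := IsLocalRing.isRegular_of_perm h hperm
      have hreg2 : IsRegular A (as.erase a ++ [a]) :=
        IsLocalRing.isRegular_of_perm hreg1 (List.perm_append_singleton a (as.erase a)).symm
      have hreg3 : IsRegular A (as.erase a ++ [b]) := isRegular_append_replace hu hc hbu hreg2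
      have hreg4 : IsRegular A (b :: as.erase a) :=
        IsLocalRing.isRegular_of_perm hreg3 (List.perm_append_singleton b (as.erase a))
      obtain ⟨hbreg, hq⟩ := (isRegular_cons_iff' A b (as.erase a)).mp hreg4
      have hI2 : Ideal.span {b} ⊔ Ideal.ofList (as.erase a) =
          Ideal.span {b} ⊔ Ideal.ofList bs' := by
        rw [← Ideal.ofList_cons, ← Ideal.ofList_cons, ← hI, ofList_perm hperm,
          ← ofList_perm (List.perm_append_singleton a (as.erase a)),
          ← ofList_append_replace hu hc hbu,
          ofList_perm (List.perm_append_singleton b (as.erase a))]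
      have hbm : b ∈ IsLocalRing.maximalIdeal A := by
        apply ofList_le_max h
        rw [hI, Ideal.ofList_cons]; exact Ideal.mem_sup_left (Ideal.mem_span_singleton_self b)
      haveI : Nontrivial (A ⧸ Ideal.span {b}) := Ideal.Quotient.nontrivial_iff.mpr (by
        intro htop
        have h1 : (1 : A) ∈ Ideal.span {b} := by rw [htop]; trivial
        have h2 : (1 : A) ∈ IsLocalRing.maximalIdeal A :=
          (Ideal.span_singleton_le_iff_mem _).mpr hbm h1
        exact (Ideal.ne_top_iff_one _).mp (Ideal.IsMaximal.ne_top inferInstance) h2)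
      haveI : IsLocalRing (A ⧸ Ideal.span {b}) :=
        IsLocalRing.of_surjective' (Ideal.Quotient.mk _) Ideal.Quotient.mk_surjective
      have hq' : IsRegular (A ⧸ Ideal.span {b})
          ((as.erase a).map (Ideal.Quotient.mk (Ideal.span {b}))) :=
        ((eQuot A b).isRegular_congr _).mp hq
      have hmapeq : Ideal.ofList ((as.erase a).map (Ideal.Quotient.mk (Ideal.span {b}))) =
          Ideal.ofList (bs'.map (Ideal.Quotient.mk (Ideal.span {b}))) := by
        rw [← Ideal.map_ofList, ← Ideal.map_ofList]
        have hm : ∀ J : Ideal A, Ideal.map (Ideal.Quotient.mk (Ideal.span {b}))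
            (Ideal.span {b} ⊔ J) = Ideal.map (Ideal.Quotient.mk (Ideal.span {b})) J := by
          intro J
          rw [Ideal.map_sup, Ideal.map_quotient_self, bot_sup_eq]
        rw [← hm (Ideal.ofList (as.erase a)), hI2, hm]
      have hlen1 : ((as.erase a).map (Ideal.Quotient.mk (Ideal.span {b}))).length = n := by
        rw [List.length_map, List.length_erase_of_mem haas, ha]; omega
      have hlen2 : (bs'.map (Ideal.Quotient.mk (Ideal.span {b}))).length = n := by
        rw [List.length_map, hb']
      have hfin := ih (A ⧸ Ideal.span {b}) _ _ hlen1 hlen2 hmapeq hq'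
      exact (isRegular_cons_iff' A b bs').mpr ⟨hbreg, ((eQuot A b).isRegular_congr _).mpr hfin⟩


/-- In a Noetherian local ring, any minimal generating set of an ideal generated by a regular sequence
is again a regular sequence: if a₁, …, aₙ is a regular sequence and b₁, …, bₙ are n elements
generating the same ideal, then b₁, …, bₙ is a regular sequence. (A regular sequence of length n
generating an ideal I is a minimal generating set of I, so "minimal" amounts to "of length n".) -/
theorem result {A : Type u} [CommRing A] [IsLocalRing A] [IsNoetherianRing A]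
    {n : ℕ} (a b : Fin n → A) (ha : RingTheory.Sequence.IsRegular A (List.ofFn a))
    (hab : Ideal.span (Set.range a) = Ideal.span (Set.range b)) :
    RingTheory.Sequence.IsRegular A (List.ofFn b) := by
  have hofn : ∀ f : Fin n → A, Ideal.ofList (List.ofFn f) = Ideal.span (Set.range f) := by
    intro f
    show Ideal.span {r | r ∈ List.ofFn f} = Ideal.span (Set.range f)
    congr 1
    ext x
    simp [List.mem_ofFn]
  exact main n A (List.ofFn a) (List.ofFn b) (by simp) (by simp) (by rw [hofn, hofn, hab]) ha

end Groth.Agent.S0611
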