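import Groth.Statements.S0615
import Mathlib

set_option autoImplicit false
universe u
open RRAlg

namespace Groth.Agent.S0615

section aux
open MvPolynomial

theorem swap_reg {R : Type*} [CommRing R] (I : Ideal R) (x y : R)
    (hx : ∀ m, x * m ∈ I → m ∈ I)
    (hy : ∀ m, y * m ∈ I ⊔ Ideal.span {x} → m ∈ I ⊔ Ideal.span {x}) :
    ∀ m, x * m ∈ I ⊔ Ideal.span {y} → m ∈ I ⊔ Ideal.span {y} := by
  intro m hm
  obtain ⟨i, hi, z, hz, hiz⟩ := Submodule.mem_sup.mp hm
  obtain ⟨m', rfl⟩ := Ideal.mem_span_singleton'.mp hz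
  have h1 : y * m' ∈ I ⊔ Ideal.span {x} := by
    have e : y * m' = -i + x * m := by rw [← hiz]; ring
    rw [e]
    exact Submodule.add_mem_sup (I.neg_mem hi) (Ideal.mem_span_singleton'.mpr ⟨m, by ring⟩)
  obtain ⟨i', hi', w, hw, hiw⟩ := Submodule.mem_sup.mp (hy m' h1)
  obtain ⟨m'', rfl⟩ := Ideal.mem_span_singleton'.mp hw
  have h2 : x * (m - y * m'') ∈ I := by
    have e : x * (m - y * m'') = i + y * i' := by
      have e1 : x * m = i + m' * y := hiz.symm
      have e2 : m' = i' + m'' * x := hiw.symm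
      rw [mul_sub, e1, e2]; ring
    rw [e]
    exact I.add_mem hi (I.mul_mem_left _ hi')
  have h3 := hx _ h2
  have e : m = (m - y * m'') + m'' * y := by ring
  rw [e]
  exact Submodule.add_mem_sup h3 (Ideal.mem_span_singleton'.mpr ⟨m'', rfl⟩)

theorem reg_C_mod_map {A : Type*} [CommRing A] {σ : Type*} (I : Ideal A) (c : A)
    (hc : ∀ m, c * m ∈ I → m ∈ I) (f : MvPolynomial σ A)
    (hf : C c * f ∈ I.map (C : A →+* MvPolynomial σ A)) :
    f ∈ I.map (C : A →+* MvPolynomial σ A) := by
  rw [MvPolynomial.mem_map_C_iff] at hf ⊢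
  intro μ
  apply hc
  have h1 := hf μ
  rwa [MvPolynomial.coeff_C_mul] at h1

theorem stepA {A : Type*} [CommRing A] {n : ℕ} (a0 : A) (b : Fin n → A)
    (f : MvPolynomial (Fin n) A) :
    ∃ (d : ℕ) (c : A), C (a0 ^ d) * f - C c ∈
      Ideal.span (Set.range fun i : Fin n => C a0 * X i - C (b i)) := by
  induction f using MvPolynomial.induction_on with
  | C r =>
    exact ⟨0, r, by rw [pow_zero, map_one, one_mul, sub_self]; exact Submodule.zero_mem _⟩
  | add p q hp hq =>
    obtain ⟨d1, c1, h1⟩ := hp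
    obtain ⟨d2, c2, h2⟩ := hq
    refine ⟨d1 + d2, a0 ^ d2 * c1 + a0 ^ d1 * c2, ?_⟩
    have e : C (a0 ^ (d1 + d2)) * (p + q) - C (a0 ^ d2 * c1 + a0 ^ d1 * c2) =
        C (a0 ^ d2) * (C (a0 ^ d1) * p - C c1) + C (a0 ^ d1) * (C (a0 ^ d2) * q - C c2) := by
      simp only [map_add, map_mul, map_pow, pow_add]; ring
    rw [e]
    exact Ideal.add_mem _ (Ideal.mul_mem_left _ _ h1) (Ideal.mul_mem_left _ _ h2)
  | mul_X p i hp =>
    obtain ⟨d, c, h⟩ := hp
    refine ⟨d + 1, c * b i, ?_⟩
    have e : C (a0 ^ (d + 1)) * (p * X i) - C (c * b i) =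
        (C a0 * X i) * (C (a0 ^ d) * p - C c) + C c * (C a0 * X i - C (b i)) := by
      simp only [map_mul, map_pow, pow_succ]; ring
    rw [e]
    exact Ideal.add_mem _ (Ideal.mul_mem_left _ _ h)
      (Ideal.mul_mem_left _ _ (Ideal.subset_span ⟨i, rfl⟩))

theorem stepB {A : Type*} [CommRing A] {n : ℕ} (a0 : A) (b : Fin n → A)
    (I : ℕ → Ideal A) (hI0 : I 0 = Ideal.span {a0})
    (hIs : ∀ (k : ℕ) (hk : k < n), I (k + 1) = I k ⊔ Ideal.span {b ⟨k, hk⟩})
    (hreg0 : ∀ m, a0 * m = 0 → m = 0)
    (hreg : ∀ (k : ℕ) (hk : k < n) (m : A), b ⟨k, hk⟩ * m ∈ I k → m ∈ I k)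
    (f : MvPolynomial (Fin n) A)
    (hf : C a0 * f ∈ Ideal.span (Set.range fun i : Fin n => C a0 * X i - C (b i))) :
    f ∈ Ideal.span (Set.range fun i : Fin n => C a0 * X i - C (b i)) := by
  classical
  let g : Fin n → MvPolynomial (Fin n) A := fun i => C a0 * X i - C (b i)
  let Jk : ℕ → Ideal (MvPolynomial (Fin n) A) := fun k => Ideal.span (g '' {i : Fin n | i.val < k})
  have hJ0 : Jk 0 = ⊥ := by
    have h0 : {i : Fin n | i.val < 0} = ∅ := by
      ext i; simp
    show Ideal.span (g '' {i : Fin n | i.val < 0}) = ⊥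
    rw [h0, Set.image_empty, Ideal.span_empty]
  have hJs : ∀ (k : ℕ) (hk : k < n), Jk (k + 1) = Jk k ⊔ Ideal.span {g ⟨k, hk⟩} := by
    intro k hk
    have h0 : {i : Fin n | i.val < k + 1} = {i : Fin n | i.val < k} ∪ {⟨k, hk⟩} := by
      ext i
      simp only [Set.mem_ofPred_eq, Set.mem_union, Set.mem_singleton_iff, Fin.ext_iff]
      omega
    show Ideal.span (g '' {i : Fin n | i.val < k + 1}) = _
    rw [h0, Set.image_union, Set.image_singleton, Ideal.span_union]
  have hmain : ∀ k : ℕ, k ≤ n → (Jk k ⊔ Ideal.span {C a0} = (I k).map (C : A →+* MvPolynomial (Fin n) A)) ∧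
      (∀ m, C a0 * m ∈ Jk k → m ∈ Jk k) := by
    intro k
    induction k with
    | zero =>
      intro _
      constructor
      · rw [hJ0, bot_sup_eq, hI0, Ideal.map_span, Set.image_singleton]
      · intro m hm
        rw [hJ0, Ideal.mem_bot] at hm ⊢
        ext μ
        rw [MvPolynomial.coeff_zero]
        apply hreg0
        rw [← MvPolynomial.coeff_C_mul, hm, MvPolynomial.coeff_zero]
    | succ k ih =>
      intro hk1
      have hk : k < n := hk1
      obtain ⟨hE, hQ⟩ := ih (Nat.le_of_lt hk)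
      have hCa0 : C a0 ∈ (I k).map (C : A →+* MvPolynomial (Fin n) A) := by
        rw [← hE]
        exact Submodule.mem_sup_right (Ideal.subset_span rfl)
      have hR : ∀ m, g ⟨k, hk⟩ * m ∈ Jk k ⊔ Ideal.span {C a0} →
          m ∈ Jk k ⊔ Ideal.span {C a0} := by
        intro m hm
        rw [hE] at hm ⊢
        apply reg_C_mod_map (I k) (b ⟨k, hk⟩) (hreg k hk) m
        have e : C (b ⟨k, hk⟩) * m = C a0 * (X (⟨k, hk⟩ : Fin n) * m) - g ⟨k, hk⟩ * m := by
          show C (b ⟨k, hk⟩) * m = C a0 * (X (⟨k, hk⟩ : Fin n) * m) - (C a0 * X (⟨k, hk⟩ : Fin n) - C (b ⟨k, hk⟩)) * m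
          ring
        rw [e]
        exact Ideal.sub_mem _ (Ideal.mul_mem_right _ _ hCa0) hm
      constructor
      · rw [hJs k hk, hIs k hk, Ideal.map_sup, Ideal.map_span, Set.image_singleton]
        apply le_antisymm
        · refine sup_le (sup_le ?_ ?_) ?_
          · exact le_trans (le_trans le_sup_left (le_of_eq hE)) le_sup_left
          · rw [Ideal.span_singleton_le_iff_mem]
            show C a0 * X (⟨k, hk⟩ : Fin n) - C (b ⟨k, hk⟩) ∈ _
            refine Ideal.sub_mem _ (Submodule.mem_sup_left (Ideal.mul_mem_right _ _ hCa0)) ?_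
            exact Submodule.mem_sup_right (Ideal.subset_span rfl)
          · exact le_trans (le_trans le_sup_right (le_of_eq hE)) le_sup_left
        · refine sup_le ?_ ?_
          · rw [← hE]
            exact sup_le_sup_right le_sup_left _
          · rw [Ideal.span_singleton_le_iff_mem]
            have e : C (b ⟨k, hk⟩) = C a0 * X (⟨k, hk⟩ : Fin n) - g ⟨k, hk⟩ := by
              show C (b ⟨k, hk⟩) = C a0 * X (⟨k, hk⟩ : Fin n) - (C a0 * X (⟨k, hk⟩ : Fin n) - C (b ⟨k, hk⟩))
              ring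
            rw [e]
            refine Ideal.sub_mem _ ?_ ?_
            · exact Submodule.mem_sup_right
                (Ideal.mul_mem_right _ _ (Ideal.subset_span rfl))
            · exact Submodule.mem_sup_left (Submodule.mem_sup_right (Ideal.subset_span rfl))
      · rw [hJs k hk]
        exact swap_reg (Jk k) (C a0) (g ⟨k, hk⟩) hQ hR
  have hfin := (hmain n le_rfl).2
  have hJn : Jk n = Ideal.span (Set.range g) := by
    have h0 : {i : Fin n | i.val < n} = Set.univ := Set.eq_univ_of_forall (fun i => i.isLt)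
    show Ideal.span (g '' {i : Fin n | i.val < n}) = _
    rw [h0, Set.image_univ]
  rw [hJn] at hfin
  exact hfin f hf

end aux


/-- Let A be a commutative ring and a_0, a_1, …, a_n a weakly regular sequence in A (for each i, a_i is
a non-zero-divisor on A/(a_0, …, a_{i−1}); the sequence is indexed here by Fin (n+1)). Then the
kernel of the A-algebra homomorphism A[T_1, …, T_n] → A[1/a_0] sending T_i to a_i/a_0 is the ideal
generated by the elements a_0 T_i − a_i for 1 ≤ i ≤ n (a presentation of the affine blow-up algebra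
A[a_1/a_0, …, a_n/a_0]). -/
theorem result {A : Type u} [CommRing A] {n : ℕ}
    (a : Fin (n + 1) → A) (ha : RingTheory.Sequence.IsWeaklyRegular A (List.ofFn a)) :
    RingHom.ker (MvPolynomial.aeval (R := A) (S₁ := Localization.Away (a 0))
      (fun i : Fin n => IsLocalization.mk' (Localization.Away (a 0)) (a i.succ)
        (⟨a 0, Submonoid.mem_powers (a 0)⟩ : Submonoid.powers (a 0)))) =
      Ideal.span (Set.range fun i : Fin n =>
        MvPolynomial.C (a 0) * MvPolynomial.X i - MvPolynomial.C (a i.succ)) := by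
  classical
  have htake : ∀ (k : ℕ) (hk : k < n + 1), Ideal.ofList ((List.ofFn a).take (k + 1)) =
      Ideal.ofList ((List.ofFn a).take k) ⊔ Ideal.span {a ⟨k, hk⟩} := by
    intro k hk
    have hlen : k < (List.ofFn a).length := by rw [List.length_ofFn]; exact hk
    rw [← List.take_append_getElem hlen, Ideal.ofList_append, Ideal.ofList_singleton,
      List.getElem_ofFn]
  have hreg' : ∀ (k : ℕ) (hk : k < n + 1) (m : A),
      a ⟨k, hk⟩ * m ∈ Ideal.ofList ((List.ofFn a).take k) →
      m ∈ Ideal.ofList ((List.ofFn a).take k) := by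
    intro k hk m hm
    have hlen : k < (List.ofFn a).length := by rw [List.length_ofFn]; exact hk
    have h1 := ha.regular_mod_prev k hlen
    rw [isSMulRegular_quotient_iff_mem_of_smul_mem] at h1
    have h2 := h1 m
    rw [List.getElem_ofFn, smul_eq_mul, smul_eq_mul, Ideal.mul_top] at h2
    exact h2 hm
  have hreg0 : ∀ m, a 0 * m = 0 → m = 0 := by
    intro m hm
    have h1 := hreg' 0 (Nat.succ_pos n) m
    rw [List.take_zero, Ideal.ofList_nil, Ideal.mem_bot, Ideal.mem_bot] at h1
    exact h1 hm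
  have hpow : ∀ e : ℕ, ∀ c : A, a 0 ^ e * c = 0 → c = 0 := by
    intro e
    induction e with
    | zero => intro c h; simpa using h
    | succ e ih =>
      intro c h
      apply ih
      apply hreg0
      rw [← mul_assoc, ← pow_succ']
      exact h
  have hI0 : Ideal.ofList ((List.ofFn a).take (0 + 1)) = Ideal.span {a 0} := by
    rw [htake 0 (Nat.succ_pos n), List.take_zero, Ideal.ofList_nil, bot_sup_eq]
    rfl
  have hB : ∀ f : MvPolynomial (Fin n) A,
      MvPolynomial.C (a 0) * f ∈ Ideal.span (Set.range fun i : Fin n =>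
        MvPolynomial.C (a 0) * MvPolynomial.X i - MvPolynomial.C (a i.succ)) →
      f ∈ Ideal.span (Set.range fun i : Fin n =>
        MvPolynomial.C (a 0) * MvPolynomial.X i - MvPolynomial.C (a i.succ)) := by
    intro f hf
    exact stepB (a 0) (fun i : Fin n => a i.succ)
      (fun k => Ideal.ofList ((List.ofFn a).take (k + 1))) hI0
      (fun k hk => htake (k + 1) (Nat.succ_lt_succ hk)) hreg0
      (fun k hk m hm => hreg' (k + 1) (Nat.succ_lt_succ hk) m hm) f hf
  have hle : Ideal.span (Set.range fun i : Fin n =>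
        MvPolynomial.C (a 0) * MvPolynomial.X i - MvPolynomial.C (a i.succ)) ≤
      RingHom.ker (MvPolynomial.aeval (R := A) (S₁ := Localization.Away (a 0))
      (fun i : Fin n => IsLocalization.mk' (Localization.Away (a 0)) (a i.succ)
        (⟨a 0, Submonoid.mem_powers (a 0)⟩ : Submonoid.powers (a 0)))) := by
    rw [Ideal.span_le]
    rintro _ ⟨i, rfl⟩
    rw [SetLike.mem_coe, RingHom.mem_ker, map_sub, map_mul, MvPolynomial.aeval_C,
      MvPolynomial.aeval_X, MvPolynomial.aeval_C, sub_eq_zero]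
    exact IsLocalization.mk'_spec' (Localization.Away (a 0)) (a i.succ)
      (⟨a 0, Submonoid.mem_powers (a 0)⟩ : Submonoid.powers (a 0))
  apply le_antisymm
  · intro f hf
    rw [RingHom.mem_ker] at hf
    obtain ⟨d, c, hdc⟩ := stepA (a 0) (fun i : Fin n => a i.succ) f
    have h1 := (RingHom.mem_ker).mp (hle hdc)
    rw [map_sub, map_mul, hf, mul_zero, zero_sub, neg_eq_zero, MvPolynomial.aeval_C] at h1
    obtain ⟨⟨_, e, rfl⟩, he⟩ :=
      (IsLocalization.map_eq_zero_iff (Submonoid.powers (a 0)) (Localization.Away (a 0)) c).mp h1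
    have hc : c = 0 := hpow e c he
    rw [hc, map_zero, sub_zero] at hdc
    have hfin : ∀ (d : ℕ) (f : MvPolynomial (Fin n) A),
        MvPolynomial.C (a 0 ^ d) * f ∈ Ideal.span (Set.range fun i : Fin n =>
          MvPolynomial.C (a 0) * MvPolynomial.X i - MvPolynomial.C (a i.succ)) →
        f ∈ Ideal.span (Set.range fun i : Fin n =>
          MvPolynomial.C (a 0) * MvPolynomial.X i - MvPolynomial.C (a i.succ)) := by
      intro d
      induction d with
      | zero => intro f h; simpa using h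
      | succ d ih =>
        intro f h
        apply ih
        apply hB
        rw [← mul_assoc, ← map_mul, ← pow_succ']
        exact h
    exact hfin d f hdc
  · exact hle

end Groth.Agent.S0615
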