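import Groth.Statements.S0643

set_option autoImplicit false
universe u
open EtCore

namespace Groth.Agent.S0643

open Polynomial in
/-- Let A be a ring, assumed nonzero here (the published statement does not say so; over the zero ring
no polynomial has positive degree in Lean's sense), and a, b elements generating the unit ideal such
that some positive power of a is congruent to 1 modulo b. Then there is a monic polynomial P of
positive degree over A such that in B = A[y]/(P) the element a - b y is a unit. -/
theorem result (A : Type u) [CommRing A] [Nontrivial A] (a b : A) (hab : IsCoprime a b)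
    (hroot : ∃ n : ℕ, 0 < n ∧ a ^ n - 1 ∈ Ideal.span ({b} : Set A)) :
    ∃ P : A[X], P.Monic ∧ 0 < P.natDegree ∧
      IsUnit (algebraMap A (AdjoinRoot P) a - algebraMap A (AdjoinRoot P) b * AdjoinRoot.root P) := by
  obtain ⟨n, hn, hmem⟩ := hroot
  obtain ⟨m, rfl⟩ : ∃ m, n = m + 1 := ⟨n - 1, by omega⟩
  obtain ⟨c, hc⟩ := Ideal.mem_span_singleton'.mp hmem
  obtain ⟨α, β, hαβ⟩ := (hab.pow (m := m) (n := m))
  -- the polynomial
  let q : A[X] := C (c * α) * X ^ m + C (c * β)
  have hqdeg : q.degree ≤ m := by
    refine (degree_add_le _ _).trans (max_le ?_ ?_)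
    · exact degree_C_mul_X_pow_le _ _
    · exact degree_C_le.trans (by exact_mod_cast Nat.zero_le m)
  have hmonic : (X ^ (m + 1) - q).Monic :=
    monic_X_pow_sub (lt_of_le_of_lt hqdeg (by exact_mod_cast Nat.lt_succ_self m))
  have hnat : (X ^ (m + 1) - q).natDegree = m + 1 := by
    have h1 : q.natDegree < (X ^ (m + 1) : A[X]).natDegree := by
      rw [natDegree_X_pow]
      exact Nat.lt_succ_of_le (natDegree_le_of_degree_le hqdeg)
    rw [natDegree_sub_eq_left_of_natDegree_lt h1, natDegree_X_pow]
  refine ⟨X ^ (m + 1) - q, hmonic, by omega, ?_⟩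
  set P : A[X] := X ^ (m + 1) - q with hP
  set B := AdjoinRoot P
  set y : B := AdjoinRoot.root P
  set a' : B := algebraMap A B a
  set b' : B := algebraMap A B b
  set c' : B := algebraMap A B c
  set α' : B := algebraMap A B α
  set β' : B := algebraMap A B β
  -- relation satisfied by the root
  have hy : y ^ (m + 1) = c' * α' * y ^ m + c' * β' := by
    have h0 : Polynomial.aeval y P = 0 := AdjoinRoot.aeval_eq P ▸ AdjoinRoot.mk_self
    simp only [hP, q, map_sub, map_add, map_mul, map_pow, aeval_X, aeval_C] at h0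
    exact sub_eq_zero.mp h0
  have hc' : c' * b' = a' ^ (m + 1) - 1 := by
    simp only [c', b', a', ← map_mul, hc, map_sub, map_pow, map_one]
  have hαβ' : α' * a' ^ m + β' * b' ^ m = 1 := by
    simp only [α', a', β', b', ← map_mul, ← map_pow, ← map_add, hαβ, map_one]
  have h1 : a' - b' * y ∣ a' ^ (m + 1) - (b' * y) ^ (m + 1) := sub_dvd_pow_sub_pow _ _ _
  have h2 : a' - b' * y ∣ a' ^ m - (b' * y) ^ m := sub_dvd_pow_sub_pow _ _ _
  have key : (a' ^ (m + 1) - (b' * y) ^ (m + 1)) - c' * α' * b' * (a' ^ m - (b' * y) ^ m) = 1 := by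
    rw [mul_pow, mul_pow, hy]
    linear_combination (-1 : B) * hc' - (c' * b') * hαβ'
  exact isUnit_of_dvd_one (key ▸ dvd_sub h1 (Dvd.dvd.mul_left h2 _))

end Groth.Agent.S0643
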