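import Groth.Statements.S0738
import Mathlib
-- import your own Groth.Agent.* helpers here

set_option autoImplicit false
open Topology
universe u
open ProEtW

namespace Groth.Agent.S0738



/-- A closed subset of a w-local spectral space is w-local (with the subspace topology). -/
theorem result (X : Type u) [TopologicalSpace X] (hX : ProEtW.IsWLocal X)
    (Y : Set X) (hY : IsClosed Y) : ProEtW.IsWLocal ↥Y := by
  obtain ⟨hsp, hcl, huniq⟩ := hX
  haveI := hsp
  have hemb : Topology.IsClosedEmbedding (Subtype.val : Y → X) := hY.isClosedEmbedding_subtypeVal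
  have hpt : ∀ y : Y, IsClosed ({y} : Set Y) ↔ IsClosed ({(y : X)} : Set X) := by
    intro y
    constructor
    · intro h
      have h1 := hemb.isClosedMap _ h
      rwa [Set.image_singleton] at h1
    · intro h
      have h1 := h.preimage (continuous_subtype_val (p := fun x => x ∈ Y))
      convert h1 using 1
      ext z
      simp [Subtype.ext_iff]
  refine ⟨?_, ?_, ?_⟩
  · haveI : CompactSpace Y := isCompact_iff_compactSpace.1 hY.isCompact
    haveI : T0Space Y := hemb.isEmbedding.t0Space
    haveI : QuasiSober Y := hemb.quasiSober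
    haveI : PrespectralSpace Y := PrespectralSpace.of_isClosedEmbedding _ hemb
    haveI : QuasiSeparatedSpace Y := by
      constructor
      intro U V hUo hUc hVo hVc
      have key : ∀ U : Set Y, IsOpen U → IsCompact U →
          ∃ W : Set X, IsCompact W ∧ IsOpen W ∧ U = Subtype.val ⁻¹' W := by
        intro U hUo hUc
        obtain ⟨U', hU'o, hU'⟩ := isOpen_induced_iff.1 hUo
        have hK : IsCompact (Subtype.val '' U) := hUc.image continuous_subtype_val
        have hKU : Subtype.val '' U ⊆ U' := by
          rintro _ ⟨x, hx, rfl⟩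
          rw [← hU'] at hx
          exact hx
        obtain ⟨W, hWc, hWo, hKW, hWU⟩ :=
          PrespectralSpace.exists_isCompact_and_isOpen_between hK hU'o hKU
        refine ⟨W, hWc, hWo, ?_⟩
        ext x
        constructor
        · intro hx
          exact hKW ⟨x, hx, rfl⟩
        · intro hx
          rw [← hU']
          exact hWU hx
      obtain ⟨W₁, h1c, h1o, rfl⟩ := key U hUo hUc
      obtain ⟨W₂, h2c, h2o, rfl⟩ := key V hVo hVc
      rw [← Set.preimage_inter]
      exact hemb.isCompact_preimage (QuasiSeparatedSpace.inter_isCompact W₁ W₂ h1o h1c h2o h2c)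
    exact { }
  · have h2 : {y : Y | IsClosed ({y} : Set Y)} =
        Subtype.val ⁻¹' {x : X | IsClosed ({x} : Set X)} := by
      ext y
      exact hpt y
    rw [h2]
    exact hcl.preimage continuous_subtype_val
  · intro y
    obtain ⟨c, ⟨hc1, hc2⟩, hcu⟩ := huniq (y : X)
    have hcY : c ∈ Y := by
      have h3 : c ∈ closure ({(y : X)} : Set X) := specializes_iff_mem_closure.1 hc2
      exact (hY.closure_subset_iff.2 (Set.singleton_subset_iff.2 y.2)) h3
    refine ⟨⟨c, hcY⟩, ⟨(hpt _).2 hc1, ?_⟩, ?_⟩
    · exact (subtype_specializes_iff _ _).2 hc2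
    · rintro z ⟨hz1, hz2⟩
      apply Subtype.ext
      exact hcu z.1 ⟨(hpt z).1 hz1, (subtype_specializes_iff _ _).1 hz2⟩

end Groth.Agent.S0738
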