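import Groth.Statements.S0785
import Mathlib
import Groth.Agent.S0320
import Groth.Agent.S5752
import Groth.Agent.Lib.helper1.DepthExt

set_option autoImplicit false
universe u
open Desc

namespace Groth.Agent.S0785

theorem idealDepth_congr {R : Type u} [CommRing R] (I : Ideal R) {M N : Type u} [AddCommGroup M]
    [Module R M] [AddCommGroup N] [Module R N] (e : M ≃ₗ[R] N) :
    LocCoh.idealDepth I M = LocCoh.idealDepth I N := by
  classical
  have key : ∀ {M N : Type u} [AddCommGroup M] [Module R M] [AddCommGroup N] [Module R N]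
      (e : M ≃ₗ[R] N), I • (⊤ : Submodule R M) = ⊤ → I • (⊤ : Submodule R N) = ⊤ := by
    intro M N _ _ _ _ e h
    have h1 : Submodule.map e.toLinearMap (I • (⊤ : Submodule R M)) =
        I • (⊤ : Submodule R N) := by
      rw [Submodule.map_smul'', Submodule.map_top, LinearEquiv.range]
    rw [← h1, h, Submodule.map_top, LinearEquiv.range]
  have htop : I • (⊤ : Submodule R M) = ⊤ ↔ I • (⊤ : Submodule R N) = ⊤ :=
    ⟨key e, key e.symm⟩
  unfold LocCoh.idealDepth
  by_cases h : I • (⊤ : Submodule R M) = ⊤
  · rw [if_pos h, if_pos (htop.mp h)]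
  · rw [if_neg h, if_neg (fun h' => h (htop.mpr h'))]
    refine iSup_congr fun rs => iSup_congr_Prop ?_ (fun _ => rfl)
    rw [e.isWeaklyRegular_congr rs]

theorem idealDepth_quot_ofList (R : Type u) [CommRing R] [IsNoetherianRing R] (I : Ideal R)
    (rs : List R) :
    ∀ (M : Type u) [AddCommGroup M] [Module R M] [Module.Finite R M],
      I • (⊤ : Submodule R M) ≠ ⊤ →
      (∀ r ∈ rs, r ∈ I) → RingTheory.Sequence.IsWeaklyRegular M rs →
      LocCoh.idealDepth I (M ⧸ (Ideal.ofList rs • (⊤ : Submodule R M))) + rs.length =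
        LocCoh.idealDepth I M := by
  induction rs with
  | nil =>
    intro M _ _ _ hIM _ _
    have e : (M ⧸ (Ideal.ofList ([] : List R) • (⊤ : Submodule R M))) ≃ₗ[R] M :=
      Submodule.quotEquivOfEqBot _ (by rw [Ideal.ofList_nil, Submodule.bot_smul])
    rw [idealDepth_congr I e]; simp
  | cons x rs ih =>
    intro M _ _ _ hIM hmem hreg
    rw [RingTheory.Sequence.isWeaklyRegular_cons_iff] at hreg
    have hx : x ∈ I := hmem x List.mem_cons_self
    have hmem' : ∀ r ∈ rs, r ∈ I := fun r hr => hmem r (List.mem_cons_of_mem _ hr)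
    have h1 := ih (QuotSMulTop x M)
      (Helper1.DepthExt.smul_top_quotSMulTop_ne_top R I M hx hIM) hmem' hreg.2
    have h2 := Groth.Agent.S0320.result R I M hIM x hx hreg.1
    rw [idealDepth_congr I (Submodule.quotOfListConsSMulTopEquivQuotSMulTopInner M x rs)]
    rw [List.length_cons, Nat.cast_add, Nat.cast_one, ← add_assoc, h1, h2]


/-- Let A → B be a local homomorphism of Noetherian local rings which is etale in the sense that B is
the localization at a prime of an etale A-algebra. Then A and B have the same depth. -/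
theorem result (A B : Type u) [CommRing A] [CommRing B] [IsLocalRing A] [IsLocalRing B]
    [IsNoetherianRing A] [IsNoetherianRing B] [Algebra A B] [IsLocalHom (algebraMap A B)]
    (E : Type u) [CommRing E] [Algebra A E] [Algebra.Etale A E] (P : Ideal E) [P.IsPrime]
    [Algebra E B] [IsScalarTower A E B] [IsLocalization.AtPrime B P] :
    LocCoh.depth A A = LocCoh.depth B B := by
  classical
  haveI : Module.Flat A E := inferInstance
  haveI : Module.Flat E B := IsLocalization.flat B P.primeCompl
  haveI : Module.Flat A B := Module.Flat.trans A E B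
  haveI : Module.FaithfullyFlat A B := Module.FaithfullyFlat.of_flat_of_isLocalHom
  haveI : Algebra.FormallyUnramified E B :=
    Algebra.FormallyUnramified.of_isLocalization (Rₘ := B) P.primeCompl
  haveI : Algebra.FormallyUnramified A B := Algebra.FormallyUnramified.comp A E B
  haveI : Algebra.EssFiniteType E B := Algebra.EssFiniteType.of_isLocalization B P.primeCompl
  haveI : Algebra.EssFiniteType A B := Algebra.EssFiniteType.comp A E B
  have hmB : (IsLocalRing.maximalIdeal A).map (algebraMap A B) = IsLocalRing.maximalIdeal B :=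
    Algebra.FormallyUnramified.map_maximalIdeal
  have hIA : IsLocalRing.maximalIdeal A • (⊤ : Submodule A A) ≠ ⊤ := by
    rw [Ideal.smul_eq_mul, Ideal.mul_top]
    exact Ideal.IsMaximal.ne_top inferInstance
  have hIB : IsLocalRing.maximalIdeal B • (⊤ : Submodule B B) ≠ ⊤ := by
    rw [Ideal.smul_eq_mul, Ideal.mul_top]
    exact Ideal.IsMaximal.ne_top inferInstance
  unfold LocCoh.depth
  apply le_antisymm
  · rw [← ENat.forall_natCast_le_iff_le]
    intro n hn
    obtain ⟨rs, hlen, hmem, hreg⟩ :=
      (Helper1.DepthExt.le_idealDepth_iff_exists_regular A _ A hIA n).mp hn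
    have hmemB : ∀ r ∈ rs.map (algebraMap A B), r ∈ IsLocalRing.maximalIdeal B := by
      intro r hr
      obtain ⟨a, ha, rfl⟩ := List.mem_map.mp hr
      rw [← hmB]; exact Ideal.mem_map_of_mem _ (hmem a ha)
    refine (Helper1.DepthExt.le_idealDepth_iff_exists_regular B _ B hIB n).mpr
      ⟨rs.map (algebraMap A B), by simp [hlen], hmemB, ?_⟩
    exact Helper1.DepthExt.isRegular_of_isWeaklyRegular B _ B hIB _
      (RingTheory.Sequence.IsWeaklyRegular.of_flat hreg.1) hmemB
  · rw [← ENat.forall_natCast_le_iff_le]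
    intro k hk
    by_contra hcon
    rw [not_le] at hcon
    obtain ⟨n, hn⟩ := ENat.ne_top_iff_exists.mp (ne_top_of_lt hcon)
    have hnk : n + 1 ≤ k := by
      rw [← hn] at hcon
      exact_mod_cast hcon
    have hB : ((n + 1 : ℕ) : ℕ∞) ≤ LocCoh.idealDepth (IsLocalRing.maximalIdeal B) B :=
      le_trans (by exact_mod_cast hnk) hk
    obtain ⟨rs, hlen, hmem, hreg⟩ :=
      (Helper1.DepthExt.le_idealDepth_iff_exists_regular A _ A hIA n).mp (le_of_eq hn)
    have hQA := idealDepth_quot_ofList A (IsLocalRing.maximalIdeal A) rs A hIA hmem hreg.1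
    rw [hlen, ← hn] at hQA
    have hQA0 : LocCoh.idealDepth (IsLocalRing.maximalIdeal A)
        (A ⧸ (Ideal.ofList rs • (⊤ : Submodule A A))) = 0 := by
      have h1 : LocCoh.idealDepth (IsLocalRing.maximalIdeal A)
          (A ⧸ (Ideal.ofList rs • (⊤ : Submodule A A))) + (n : ℕ∞) = 0 + n := by
        rw [hQA, zero_add]
      exact (ENat.add_left_injective_of_ne_top (ENat.coe_ne_top n)) h1
    have hassA : IsLocalRing.maximalIdeal A ∈
        associatedPrimes A (A ⧸ (Ideal.ofList rs • (⊤ : Submodule A A))) :=
      (Groth.Agent.S5752.result A _).mp hQA0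
    obtain ⟨-, q, hq⟩ := isAssociatedPrime_iff.mp hassA
    obtain ⟨z, rfl⟩ := Submodule.Quotient.mk_surjective _ q
    have hz1 : z ∉ Ideal.ofList rs := by
      intro hz
      have h0 : (Submodule.Quotient.mk z : A ⧸ (Ideal.ofList rs • (⊤ : Submodule A A))) = 0 := by
        rw [Submodule.Quotient.mk_eq_zero, Ideal.smul_eq_mul, Ideal.mul_top]; exact hz
      have h1 : (1 : A) ∈ IsLocalRing.maximalIdeal A := by
        rw [hq, Submodule.mem_colon_singleton, h0, smul_zero]; exact Submodule.zero_mem _
      exact (Ideal.ne_top_iff_one _).mp (Ideal.IsMaximal.ne_top inferInstance) h1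
    have hz2 : ∀ a ∈ IsLocalRing.maximalIdeal A, a * z ∈ Ideal.ofList rs := by
      intro a ha
      rw [hq, Submodule.mem_colon_singleton, Submodule.mem_bot, ← Submodule.Quotient.mk_smul,
        Submodule.Quotient.mk_eq_zero, Ideal.smul_eq_mul, Ideal.mul_top] at ha
      exact ha
    have hmemB : ∀ r ∈ rs.map (algebraMap A B), r ∈ IsLocalRing.maximalIdeal B := by
      intro r hr
      obtain ⟨a, ha, rfl⟩ := List.mem_map.mp hr
      rw [← hmB]; exact Ideal.mem_map_of_mem _ (hmem a ha)
    have hregB : RingTheory.Sequence.IsWeaklyRegular B (rs.map (algebraMap A B)) :=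
      RingTheory.Sequence.IsWeaklyRegular.of_flat hreg.1
    have hQB := idealDepth_quot_ofList B (IsLocalRing.maximalIdeal B) (rs.map (algebraMap A B)) B
      hIB hmemB hregB
    rw [List.length_map, hlen] at hQB
    have hQB0 : LocCoh.idealDepth (IsLocalRing.maximalIdeal B)
        (B ⧸ (Ideal.ofList (rs.map (algebraMap A B)) • (⊤ : Submodule B B))) ≠ 0 := by
      intro h0
      rw [h0, zero_add] at hQB
      rw [← hQB] at hB
      exact absurd hB (by exact_mod_cast Nat.not_succ_le_self n)
    apply hQB0
    apply (Groth.Agent.S5752.result B _).mpr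
    refine isAssociatedPrime_iff.mpr ⟨inferInstance,
      Submodule.Quotient.mk (algebraMap A B z), ?_⟩
    apply le_antisymm
    · rw [← hmB, Ideal.map_le_iff_le_comap]
      intro a ha
      rw [Ideal.mem_comap, Submodule.mem_colon_singleton, Submodule.mem_bot,
        ← Submodule.Quotient.mk_smul, Submodule.Quotient.mk_eq_zero, Ideal.smul_eq_mul,
        Ideal.mul_top, smul_eq_mul, ← map_mul, ← Ideal.map_ofList]
      exact Ideal.mem_map_of_mem _ (hz2 a ha)
    · apply IsLocalRing.le_maximalIdeal
      intro htop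
      have h1 : (1 : B) ∈ (⊥ : Submodule B
          (B ⧸ (Ideal.ofList (rs.map (algebraMap A B)) • (⊤ : Submodule B B)))).colon
          {Submodule.Quotient.mk (algebraMap A B z)} := by rw [htop]; trivial
      rw [Submodule.mem_colon_singleton, Submodule.mem_bot, one_smul,
        Submodule.Quotient.mk_eq_zero, Ideal.smul_eq_mul, Ideal.mul_top,
        ← Ideal.map_ofList] at h1
      have h2 : z ∈ ((Ideal.ofList rs).map (algebraMap A B)).comap (algebraMap A B) := h1
      rw [Ideal.comap_map_eq_self_of_faithfullyFlat] at h2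
      exact hz1 h2

end Groth.Agent.S0785
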