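import Groth.Statements.S0864
import Mathlib

set_option autoImplicit false
universe u
open CategoryTheory
open CohSite

namespace Groth.Agent.S0864

/-- A totally acyclic abelian sheaf F on a site satisfies H^p(U, F) = 0 for every object U and every p >
0. -/
theorem result {C : Type u} [SmallCategory C] {J : GrothendieckTopology C}
    (F : Sheaf J AddCommGrpCat.{u}) (hF : CohCx.IsTotallyAcyclic F) (U : C) (p : ℕ) :
    Subsingleton (CohSite.HU F (p + 1) U) := by
  let adj1 := (sheafificationAdjunction J (Type u)).comp (Sheaf.adjunction J AddCommGrpCat.adj.{u})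
  let adj2 := ((AddCommGrpCat.adj.{u}).whiskerRight Cᵒᵖ).comp
    (sheafificationAdjunction J AddCommGrpCat.{u})
  let e12 := adj2.leftAdjointUniq adj1
  let K : Sheaf J (Type u) := (presheafToSheaf J (Type u)).obj (yoneda.obj U)
  have hsub : Subsingleton (CohCx.HK K F (p + 1)) := hF K p
  let iso := e12.app (yoneda.obj U)
  let e := (((Abelian.extFunctor (p + 1)).mapIso iso.op).app F).symm
  exact @Equiv.subsingleton _ _ (Iso.addCommGroupIsoToAddEquiv e).toEquiv hsub

end Groth.Agent.S0864
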