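import Groth.Statements.S0904
import Mathlib

set_option autoImplicit false
universe u
open CategoryTheory
open CohTop

namespace Groth.Agent.S0904

attribute [local instance] CategoryTheory.Limits.reflectsLimits_of_reflectsIsomorphisms in
theorem pres_S0904 {X Y : TopCat.{u}} (f : X ⟶ Y) :
    Limits.PreservesFiniteLimits (TopCat.Sheaf.pullback AddCommGrpCat.{u} f) := by
  unfold TopCat.Sheaf.pullback
  apply Functor.sheafPullbackConstruction.preservesFiniteLimits

/-- Abelian sheaves, for which every continuous map is flat: for a continuous map f : X -> Y and an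
injective abelian sheaf I on X, the direct image f_* I is an injective abelian sheaf on Y. -/
theorem result {X Y : TopCat.{u}} (f : X ⟶ Y) (I : CohTop.Ab X) [Injective I] :
    Injective ((CohTop.push f).obj I) := by
  haveI : Limits.PreservesFiniteLimits (TopCat.Sheaf.pullback AddCommGrpCat.{u} f) := pres_S0904 f
  haveI : (TopCat.Sheaf.pullback AddCommGrpCat.{u} f).PreservesMonomorphisms := inferInstance
  have hI : Injective (C := TopCat.Sheaf AddCommGrpCat.{u} X) I := ‹Injective I›
  exact @Injective.injective_of_adjoint _ _ _ _ _ _ this
    (TopCat.Sheaf.pullbackPushforwardAdjunction AddCommGrpCat.{u} f) I hI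

end Groth.Agent.S0904
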