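import Groth.Statements.S0905
import Mathlib

set_option autoImplicit false
universe u
open CategoryTheory
open CohSite

namespace Groth.Agent.S0905

open Opposite CategoryTheory.Limits in
/-- Parts (1) and (2), for a weakly contractible object U of a site (one over which every epimorphism of
sheaves of sets is surjective on sections): (1) the functor F ↦ F(U) from abelian sheaves to abelian
groups preserves finite colimits (it is exact, finite limits being automatic), and (2) H^p(U, F) = 0
for every abelian sheaf F and every p > 0. (Part (3) about torsors is not included.) -/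
theorem result {C : Type u} [SmallCategory C] (J : GrothendieckTopology C)
    (U : C) (hU : CohSite.IsWeaklyContractible J U) :
    PreservesFiniteColimits (sheafToPresheaf J AddCommGrpCat.{u} ⋙ (evaluation Cᵒᵖ AddCommGrpCat.{u}).obj (op U)) ∧
    ∀ (F : Sheaf J AddCommGrpCat.{u}) (p : ℕ), Subsingleton (CohSite.HU F (p + 1) U) := by
  have hepi : ∀ {X Y : Sheaf J AddCommGrpCat.{u}} (e : X ⟶ Y), Epi e →
      Function.Surjective (e.hom.app (Opposite.op U)) := by
    intro X Y e he
    haveI : Sheaf.IsLocallySurjective e :=
      (Sheaf.isLocallySurjective_iff_epi' AddCommGrpCat.{u} e).2 he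
    intro y
    obtain ⟨z, hz⟩ := hU _ _ ((sheafCompose J (forget AddCommGrpCat.{u})).map e) inferInstance y
    exact ⟨z, hz⟩
  constructor
  · have hex : ∀ S : ShortComplex (Sheaf J AddCommGrpCat.{u}), S.Exact →
        (S.map (sheafToPresheaf J AddCommGrpCat.{u} ⋙
          (evaluation Cᵒᵖ AddCommGrpCat.{u}).obj (Opposite.op U))).Exact := by
      intro S hS
      have hT : ((ShortComplex.mk S.iCycles S.g S.iCycles_g).map
          (sheafToPresheaf J AddCommGrpCat.{u} ⋙
            (evaluation Cᵒᵖ AddCommGrpCat.{u}).obj (Opposite.op U))).Exact :=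
        ShortComplex.Exact.map_of_mono_of_preservesKernel
          (ShortComplex.exact_of_f_is_kernel _ S.cyclesIsKernel) _ (by dsimp; infer_instance)
          inferInstance
      have e : S.toCycles.hom.app (Opposite.op U) ≫ S.iCycles.hom.app (Opposite.op U) =
          S.f.hom.app (Opposite.op U) := by
        have := congrArg (fun φ => φ.hom.app (Opposite.op U)) S.toCycles_i
        exact this
      rw [ShortComplex.ab_exact_iff]
      intro x hx
      obtain ⟨y, hy⟩ := (ShortComplex.ab_exact_iff _).1 hT x hx
      have hy' : (S.iCycles.hom.app (Opposite.op U)) y = x := hy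
      obtain ⟨z, hz⟩ := hepi S.toCycles (S.exact_iff_epi_toCycles.1 hS) y
      refine ⟨z, ?_⟩
      show (S.f.hom.app (Opposite.op U)) z = x
      rw [← e, ConcreteCategory.comp_apply, hz, hy']
    have h4 : PreservesFiniteLimits (sheafToPresheaf J AddCommGrpCat.{u} ⋙
        (evaluation Cᵒᵖ AddCommGrpCat.{u}).obj (Opposite.op U)) ∧
        PreservesFiniteColimits (sheafToPresheaf J AddCommGrpCat.{u} ⋙
        (evaluation Cᵒᵖ AddCommGrpCat.{u}).obj (Opposite.op U)) :=
      ((Functor.exact_tfae (sheafToPresheaf J AddCommGrpCat.{u} ⋙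
        (evaluation Cᵒᵖ AddCommGrpCat.{u}).obj (Opposite.op U))).out 1 3).1 hex
    exact h4.2
  · intro F p
    let adj := ((AddCommGrpCat.adj.{u}).whiskerRight Cᵒᵖ).comp
      (sheafificationAdjunction J AddCommGrpCat.{u})
    let P : Sheaf J AddCommGrpCat.{u} := (presheafToSheaf J AddCommGrpCat.{u}).obj
      (((Functor.whiskeringRight Cᵒᵖ _ _).obj AddCommGrpCat.free).obj (yoneda.obj U))
    haveI : Projective P := by
      constructor
      intro E X f e he
      obtain ⟨y, hy⟩ := hepi e he (yonedaEquiv (adj.homEquiv (yoneda.obj U) X f))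
      refine ⟨(adj.homEquiv (yoneda.obj U) E).symm (yonedaEquiv.symm y), ?_⟩
      apply (adj.homEquiv (yoneda.obj U) X).injective
      apply yonedaEquiv.injective
      rw [adj.homEquiv_naturality_right, Equiv.apply_symm_apply, yonedaEquiv_comp,
        Equiv.apply_symm_apply]
      exact hy
    refine subsingleton_of_forall_eq 0 (fun x => ?_)
    exact Abelian.Ext.eq_zero_of_projective (P := P) x

end Groth.Agent.S0905
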