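import Groth.Statements.S0919
import Mathlib

set_option autoImplicit false
universe v u
open CategoryTheory
open CohDer

namespace Groth.Agent.S0919

open CategoryTheory.Limits in
/-- Let A be a Grothendieck abelian category and F a contravariant functor from A to sets (a functor on
the opposite category). Then F is representable if and only if F turns all small colimits of A into
limits, i.e. preserves small limits as a functor on the opposite category. -/
theorem result {A : Type u} [Category.{v} A] [Abelian A]
    [IsGrothendieckAbelian.{v} A] (F : Aᵒᵖ ⥤ Type v) :
    F.IsRepresentable ↔ PreservesLimitsOfSize.{v, v} F := by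
  constructor
  · intro hF
    exact Limits.preservesLimits_of_natIso F.reprW
  · intro hF
    haveI : Limits.PreservesLimits F := hF
    have hco : (ObjectProperty.singleton (Opposite.op (separator A))).IsCoseparating :=
      (isCoseparator_op_iff (separator A)).2 (isSeparator_separator A)
    haveI : F.IsRightAdjoint := isRightAdjoint_of_preservesLimits_of_isCoseparating.{v} hco F
    let L := F.leftAdjoint
    let adj : L ⊣ F := Adjunction.ofIsRightAdjoint F
    let Y₀ : A := (L.obj PUnit.{v+1}).unop
    refine (Functor.RepresentableBy.isRepresentable (Y := Y₀) ?_)
    exact
      { homEquiv := fun {Y} =>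
          { toFun := fun g => (adj.homEquiv PUnit (Opposite.op Y) g.op) PUnit.unit
            invFun := fun t => ((adj.homEquiv PUnit (Opposite.op Y)).symm
              (TypeCat.ofHom (fun _ => t))).unop
            left_inv := fun g => by
              have h1 : (TypeCat.ofHom (fun _ : PUnit.{v+1} =>
                  (adj.homEquiv PUnit (Opposite.op Y) g.op) PUnit.unit)) =
                  adj.homEquiv PUnit (Opposite.op Y) g.op := by
                ext ⟨⟩
                rfl
              show ((adj.homEquiv PUnit (Opposite.op Y)).symm (TypeCat.ofHom (fun _ : PUnit.{v+1} =>
                  (adj.homEquiv PUnit (Opposite.op Y) g.op) PUnit.unit))).unop = g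
              rw [h1, Equiv.symm_apply_apply]
              rfl
            right_inv := fun t => by
              simp }
        homEquiv_comp := fun {Y Y'} f g => by
          show (adj.homEquiv PUnit (Opposite.op Y) (f ≫ g).op) PUnit.unit =
            F.map f.op ((adj.homEquiv PUnit (Opposite.op Y') g.op) PUnit.unit)
          rw [op_comp, adj.homEquiv_naturality_right]
          rfl }

end Groth.Agent.S0919
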