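import Groth.Statements.S0976
import Mathlib

set_option autoImplicit false
universe v u
open CategoryTheory
open CohDer

namespace Groth.Agent.S0976

open CategoryTheory.Limits

open CategoryTheory.Pretriangulated ObjectProperty in
lemma swap_le {D : Type u} [Category.{v} D] [Preadditive D] [HasZeroObject D] [HasShift D ℤ]
    [∀ n : ℤ, (shiftFunctor D n).Additive] [Pretriangulated D]
    (P : ObjectProperty D) [P.IsTriangulated] :
    extensionProduct P.rightOrthogonal P ≤ extensionProduct P P.rightOrthogonal := by
  rintro X ⟨Y, A, f, g, h, hT, hY, hA⟩
  have h0 : h = 0 := (P.rightOrthogonal.le_shift (1 : ℤ) _ hY) h hA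
  obtain ⟨e, -, -⟩ := exists_iso_binaryBiproduct_of_distTriang _ hT h0
  have e' : X ≅ Y ⊞ A := e
  have h1 : extensionProduct P P.rightOrthogonal (A ⊞ Y) :=
    ⟨A, Y, biprod.inl, biprod.snd, 0, binaryBiproductTriangle_distinguished A Y, hA, hY⟩
  exact (extensionProduct P P.rightOrthogonal).prop_of_iso ((e' ≪≫ biprod.braiding _ _).symm) h1

open CategoryTheory.Pretriangulated ObjectProperty in
lemma sq_le {D : Type u} [Category.{v} D] [Preadditive D] [HasZeroObject D] [HasShift D ℤ]
    [∀ n : ℤ, (shiftFunctor D n).Additive] [Pretriangulated D] [IsTriangulated D]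
    (P : ObjectProperty D) [P.IsTriangulated] :
    extensionProduct (extensionProduct P P.rightOrthogonal) (extensionProduct P P.rightOrthogonal) ≤
      extensionProduct P P.rightOrthogonal := by
  have hRR : extensionProduct P.rightOrthogonal P.rightOrthogonal ≤ P.rightOrthogonal :=
    extensionProduct_le_of_isTriangulatedClosed₂ le_rfl le_rfl
  have hPP : extensionProduct P P ≤ P.isoClosure :=
    extensionProduct_le_of_isTriangulatedClosed₂' le_rfl le_rfl
  calc extensionProduct (extensionProduct P P.rightOrthogonal) (extensionProduct P P.rightOrthogonal)
      = extensionProduct P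
          (extensionProduct P.rightOrthogonal (extensionProduct P P.rightOrthogonal)) :=
        extensionProduct_assoc _ _ _
    _ = extensionProduct P
          (extensionProduct (extensionProduct P.rightOrthogonal P) P.rightOrthogonal) := by
        rw [extensionProduct_assoc P.rightOrthogonal P P.rightOrthogonal]
    _ ≤ extensionProduct P
          (extensionProduct (extensionProduct P P.rightOrthogonal) P.rightOrthogonal) :=
        monotone_extensionProduct_right _ (monotone_extensionProduct_left _ (swap_le P))
    _ = extensionProduct P
          (extensionProduct P (extensionProduct P.rightOrthogonal P.rightOrthogonal)) := by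
        rw [extensionProduct_assoc P P.rightOrthogonal P.rightOrthogonal]
    _ = extensionProduct (extensionProduct P P)
          (extensionProduct P.rightOrthogonal P.rightOrthogonal) := (extensionProduct_assoc _ _ _).symm
    _ ≤ extensionProduct P.isoClosure P.rightOrthogonal :=
        (monotone_extensionProduct_left _ hPP).trans (monotone_extensionProduct_right _ hRR)
    _ = extensionProduct P P.rightOrthogonal := extensionProduct_isoClosure_left _ _

open CategoryTheory.Pretriangulated ObjectProperty ZeroObject in
lemma main {D : Type u} [Category.{v} D] [Preadditive D] [HasZeroObject D] [HasShift D ℤ]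
    [∀ n : ℤ, (shiftFunctor D n).Additive] [Pretriangulated D] [IsTriangulated D]
    (P : ObjectProperty D) [P.IsTriangulated] :
    (extensionProduct P P.rightOrthogonal).IsTriangulated := by
  haveI : (extensionProduct P P.rightOrthogonal).ContainsZero :=
    ⟨⟨0, isZero_zero D, le_extensionProduct_right P _ (P.rightOrthogonal.prop_zero)⟩⟩
  haveI : (extensionProduct P P.rightOrthogonal).IsTriangulatedClosed₂ :=
    IsTriangulatedClosed₂.mk' (fun T hT h₁ h₃ => by
      apply sq_le P
      exact ⟨T.obj₁, T.obj₃, T.mor₁, T.mor₂, T.mor₃, hT, h₁, h₃⟩)
  exact {}



open CategoryTheory.Pretriangulated in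
/-- Let P be a triangulated subcategory of a triangulated category D (an object property containing
zero, stable under shifts, closed under extensions). Consider the class of objects X sitting in a
distinguished triangle A → X → B → A[1] with P A and B right orthogonal to P. This class is again
stable under shifts and closed under extensions, i.e. satisfies two-out-of-three in distinguished
triangles. -/
theorem result {D : Type u} [Category.{v} D] [Preadditive D] [Limits.HasZeroObject D] [HasShift D ℤ]
    [∀ n : ℤ, (shiftFunctor D n).Additive] [Pretriangulated D] [IsTriangulated D]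
    (P : ObjectProperty D) [P.IsTriangulated] :
    ObjectProperty.IsTriangulated (fun X : D => ∃ (A B : D) (f : A ⟶ X) (g : X ⟶ B) (h : B ⟶ (shiftFunctor D (1 : ℤ)).obj A),
      Triangle.mk f g h ∈ distinguishedTriangles ∧ P A ∧ P.rightOrthogonal B) := by
  have key : (fun X : D => ∃ (A B : D) (f : A ⟶ X) (g : X ⟶ B) (h : B ⟶ (shiftFunctor D (1 : ℤ)).obj A),
      Triangle.mk f g h ∈ distinguishedTriangles ∧ P A ∧ P.rightOrthogonal B) =
      ObjectProperty.extensionProduct P P.rightOrthogonal := rfl
  rw [key]
  exact main P

end Groth.Agent.S0976
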