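import Groth.Statements.S10090
import Mathlib
import Groth.Agent.Lib.helper5.AlgSpGraph
import Groth.Agent.Lib.helper5.AlgSpPb

set_option autoImplicit false
universe u
open CategoryTheory CategoryTheory.Limits AlgebraicGeometry
open AlgSp

namespace Groth.Agent.S10090

/-- Let `a : F ⟶ G` be a map of presheaves of sets on schemes over `S` which is representable by
algebraic spaces. Then the relative diagonal `F ⟶ F ×_G F` is representable by algebraic spaces. -/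
theorem result (S : Scheme.{u}) (F G : AlgSp.PSp S) (a : F ⟶ G)
    (ha : AlgSp.RepBySp a) : AlgSp.RepBySp (pullback.diagonal a) := by
  have hpb : ∀ {X Y H P : AlgSp.PSp S} {f : X ⟶ H} {g : Y ⟶ H} {p1 : P ⟶ X} {p2 : P ⟶ Y},
      IsPullback p1 p2 f g → AlgSp.IsAlgSpaceP X → AlgSp.IsAlgSpaceP Y → AlgSp.IsAlgSpaceP H →
      AlgSp.IsAlgSpaceP P := by
    intro X Y H P f g p1 p2 sq ⟨hX, hX'⟩ ⟨hY, hY'⟩ ⟨hH, hH'⟩
    have hP : Presheaf.IsSheaf (AlgSp.J S) P :=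
      AlgSp.isSheaf_of_isPullback (F := ⟨X, hX⟩) (G := ⟨H, hH⟩) (H := ⟨Y, hY⟩) sq
    refine ⟨hP, ?_⟩
    have sq' : IsPullback (ObjectProperty.homMk p1 : (⟨P, hP⟩ : AlgSp.Sp S) ⟶ ⟨X, hX⟩)
        (ObjectProperty.homMk p2 : (⟨P, hP⟩ : AlgSp.Sp S) ⟶ ⟨Y, hY⟩)
        (ObjectProperty.homMk f : (⟨X, hX⟩ : AlgSp.Sp S) ⟶ ⟨H, hH⟩)
        (ObjectProperty.homMk g : (⟨Y, hY⟩ : AlgSp.Sp S) ⟶ ⟨H, hH⟩) :=
      IsPullback.of_map_of_faithful (sheafToPresheaf (AlgSp.J S) (Type (u + 1))) sq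
    exact AlgSp.h5_isAlgSpace_of_isPullback hH'.diag hX' hY' sq'
  intro U ξ F' fst snd sq0
  have sq := IsPullback.of_hasPullback a (ξ ≫ pullback.fst a a ≫ a)
  have hP : AlgSp.IsAlgSpaceP (pullback a (ξ ≫ pullback.fst a a ≫ a)) := ha _ _ _ sq
  have hU : AlgSp.IsAlgSpaceP ((AlgSp.pyon S).obj U) :=
    (AlgSp.isAlgSpaceP_obj_iff ((AlgSp.yon S).obj U)).2 (AlgSp.IsAlgSpace.yon_obj U)
  let s1 := sq.lift (ξ ≫ pullback.fst a a) (𝟙 _) (by simp)
  let s2 := sq.lift (ξ ≫ pullback.snd a a) (𝟙 _) (by simp [pullback.condition])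
  have sqE := IsPullback.of_hasPullback s1 s2
  have key := AlgSp.h5_isPullback_diagonal_sections ξ sq s1 s2 (sq.lift_fst _ _ _)
    (sq.lift_snd _ _ _) (sq.lift_fst _ _ _) (sq.lift_snd _ _ _) sqE
  have hE : AlgSp.IsAlgSpaceP (pullback s1 s2) := hpb sqE hU hU hP
  exact hE.of_iso (key.isoIsPullback _ _ sq0)

end Groth.Agent.S10090
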