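import Groth.Statements.S10091
import Mathlib
import Mathlib
import Groth.Agent.Lib.helper5.PshFibSheaf

set_option autoImplicit false
universe u
open CategoryTheory CategoryTheory.Limits AlgebraicGeometry
open AlgSp

namespace Groth.Agent.S10091

/-- Let `a : F ⟶ G` be a map of presheaves of sets on schemes over `S` which is representable by
algebraic spaces. If `G` is an algebraic space (an fppf sheaf satisfying the axioms), then so is
`F`. -/
theorem result (S : Scheme.{u}) (F G : AlgSp.PSp S) (a : F ⟶ G)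
    (ha : AlgSp.RepBySp a) (hG : AlgSp.IsAlgSpaceP G) : AlgSp.IsAlgSpaceP F := by
  obtain ⟨hGs, hG⟩ := hG
  have hFs : Presheaf.IsSheaf (AlgSp.J S) F :=
    AlgSp.h5_isSheaf_of_fibres a hGs fun T ξ =>
      (ha ξ (pullback.fst a ξ) (pullback.snd a ξ) (IsPullback.of_hasPullback a ξ)).1
  refine ⟨hFs, ?_⟩
  let F' : AlgSp.Sp S := ⟨F, hFs⟩
  let G' : AlgSp.Sp S := ⟨G, hGs⟩
  let a' : F' ⟶ G' := ObjectProperty.homMk a
  have ha' := (AlgSp.repBySp_hom_iff a').1 ha
  show AlgSp.IsAlgSpace F'
  refine ⟨?_, ?_⟩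
  · refine Functor.relativelyRepresentable.diag_of_map_from_obj (fun T x => ?_)
    have sq := IsPullback.of_hasPullback a' (x ≫ a')
    have hFT : AlgSp.IsAlgSpace (pullback a' (x ≫ a')) := ha' (x ≫ a') _ _ sq
    let s : (AlgSp.yon S).obj T ⟶ pullback a' (x ≫ a') :=
      pullback.lift x (𝟙 _) (by rw [Category.id_comp])
    have hs : AlgSp.Representable s := hFT.representable_from_yon s
    have hξ : AlgSp.Representable (x ≫ a') := hG.representable_from_yon (x ≫ a')
    have hπ : AlgSp.Representable (pullback.fst a' (x ≫ a')) :=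
      MorphismProperty.of_isPullback (P := AlgSp.Representable) sq.flip hξ
    have hx : x = s ≫ pullback.fst a' (x ≫ a') := (pullback.lift_fst _ _ _).symm
    rw [hx]
    exact MorphismProperty.comp_mem _ _ _ hs hπ
  · obtain ⟨V, p, hpe, hps⟩ := hG.atlas
    have sq := IsPullback.of_hasPullback a' p
    have hW : AlgSp.IsAlgSpace (pullback a' p) := ha' p _ _ sq
    obtain ⟨U, c, hce, hcs⟩ := hW.atlas
    have h1 : AlgSp.RepWith @Etale (pullback.fst a' p) :=
      MorphismProperty.of_isPullback (P := AlgSp.RepWith @Etale) sq.flip hpe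
    have h2 : AlgSp.RepWith @Surjective (pullback.fst a' p) :=
      MorphismProperty.of_isPullback (P := AlgSp.RepWith @Surjective) sq.flip hps
    exact ⟨U, c ≫ pullback.fst a' p, MorphismProperty.comp_mem _ _ _ hce h1,
      MorphismProperty.comp_mem _ _ _ hcs h2⟩

end Groth.Agent.S10091
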