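import Groth.Statements.S10092
import Mathlib
import Mathlib
import Groth.Agent.S10091

set_option autoImplicit false
universe u
open CategoryTheory CategoryTheory.Limits AlgebraicGeometry
open AlgSp

namespace Groth.Agent.S10092

/-- Let `a : F ⟶ G` be a map of presheaves of sets on schemes over `S` which is representable by
algebraic spaces, `X` an algebraic space over `S` and `ξ : X ⟶ G` a map of presheaves. Then the
fibre product `X ×_G F` (any pullback square of presheaves) is an algebraic space. -/
theorem result (S : Scheme.{u}) (F G : AlgSp.PSp S) (a : F ⟶ G)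
    (ha : AlgSp.RepBySp a) (X : AlgSp.Space S) (ξ : X.obj.obj ⟶ G) (F' : AlgSp.PSp S) (fst : F' ⟶ X.obj.obj)
    (snd : F' ⟶ F) (sq : IsPullback fst snd ξ a) : AlgSp.IsAlgSpaceP F' := by
  refine Groth.Agent.S10091.result S F' X.obj.obj fst ?_ ((AlgSp.isAlgSpaceP_obj_iff X.obj).2 X.property)
  intro U ζ F'' fst' snd' sq'
  exact ha (ζ ≫ ξ) (fst' ≫ snd) snd' (sq'.paste_horiz sq.flip)

end Groth.Agent.S10092
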