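import Groth.Statements.S10093
import Mathlib
import Mathlib
import Groth.Agent.S10092

set_option autoImplicit false
universe u
open CategoryTheory CategoryTheory.Limits AlgebraicGeometry
open AlgSp

namespace Groth.Agent.S10093

/-- The composition of two maps of presheaves of sets on schemes over `S` which are representable by
algebraic spaces is representable by algebraic spaces. -/
theorem result (S : Scheme.{u}) (F G H : AlgSp.PSp S) (a : F ⟶ G) (b : G ⟶ H)
    (ha : AlgSp.RepBySp a) (hb : AlgSp.RepBySp b) : AlgSp.RepBySp (a ≫ b) := by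
  intro U ξ F' fst snd sq
  have sqG := IsPullback.of_hasPullback b ξ
  obtain ⟨hs, hA⟩ := hb ξ _ _ sqG
  let X : AlgSp.Space S := ⟨⟨pullback b ξ, hs⟩, hA⟩
  obtain ⟨l, hl1, hl2⟩ : ∃ l : F' ⟶ pullback b ξ, l ≫ pullback.fst b ξ = fst ≫ a ∧
      l ≫ pullback.snd b ξ = snd :=
    ⟨pullback.lift (fst ≫ a) snd (by rw [Category.assoc]; exact sq.w),
      pullback.lift_fst _ _ _, pullback.lift_snd _ _ _⟩
  have outer : IsPullback (l ≫ pullback.snd b ξ) fst ξ (a ≫ b) := by
    rw [hl2]; exact sq.flip
  have left : IsPullback l fst (pullback.fst b ξ) a := IsPullback.of_right outer hl1 sqG.flip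
  exact Groth.Agent.S10092.result S F G a ha X (pullback.fst b ξ) F' l fst left

end Groth.Agent.S10093
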