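import Groth.Statements.S10094
import Mathlib
import Mathlib
import Groth.Agent.S10093
import Groth.Agent.Lib.helper5.AlgSpDiag

set_option autoImplicit false
universe u
open CategoryTheory CategoryTheory.Limits AlgebraicGeometry
open AlgSp

namespace Groth.Agent.S10094

theorem h5_repBySp_baseChange {S : Scheme.{u}} {F G X F' : AlgSp.PSp S} {a : F ⟶ G}
    (ha : AlgSp.RepBySp a) {ξ : X ⟶ G} {fst : F' ⟶ X} {snd : F' ⟶ F}
    (sq : IsPullback fst snd ξ a) : AlgSp.RepBySp fst := by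
  intro U ζ F'' fst' snd' sq'
  exact ha (ζ ≫ ξ) (fst' ≫ snd) snd' (sq'.paste_horiz sq.flip)

/-- If `a₁ : F₁ ⟶ G₁` and `a₂ : F₂ ⟶ G₂` are maps of presheaves of sets on schemes over `S`
representable by algebraic spaces, then so is `a₁ × a₂ : F₁ × F₂ ⟶ G₁ × G₂`. -/
theorem result (S : Scheme.{u}) (F₁ G₁ F₂ G₂ : AlgSp.PSp S) (a₁ : F₁ ⟶ G₁) (a₂ : F₂ ⟶ G₂)
    (h₁ : AlgSp.RepBySp a₁) (h₂ : AlgSp.RepBySp a₂) : AlgSp.RepBySp (prod.map a₁ a₂) := by
  have e : prod.map a₁ a₂ = prod.map a₁ (𝟙 F₂) ≫ prod.map (𝟙 G₁) a₂ := by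
    rw [prod.map_map, Category.comp_id, Category.id_comp]
  rw [e]
  exact Groth.Agent.S10093.result S _ _ _ _ _
    (h5_repBySp_baseChange h₁ (AlgSp.h5_isPullback_prod_map_fst a₁ F₂).flip)
    (h5_repBySp_baseChange h₂ (AlgSp.h5_isPullback_prod_map_snd G₁ a₂).flip)

end Groth.Agent.S10094
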