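import Groth.Statements.S10275
import Mathlib
import Groth.Agent.Lib.helper5.AlgSpLft2
import Groth.Agent.Lib.helper5.AlgSpDiag

set_option autoImplicit false
universe u
open CategoryTheory CategoryTheory.Limits AlgebraicGeometry
open AlgSp

namespace Groth.Agent.S10275

/-- A base change of a proper morphism of algebraic spaces is proper. -/
theorem result {S : Scheme.{u}} {X Y Y' X' : AlgSp.Space S} (f : X ⟶ Y) (g : Y' ⟶ Y)
    (fst : X' ⟶ X) (f' : X' ⟶ Y') (sq : IsPullback fst.hom f'.hom f.hom g.hom) (hf : AlgSp.IsProperMor f.hom) :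
    AlgSp.IsProperMor f'.hom := by
  obtain ⟨hsep, ⟨hlft, hqc⟩, huc⟩ := hf
  refine ⟨?_, ⟨AlgSp.h5_locP_lft_baseChange X.property Y.property Y'.property sq hlft, ?_⟩, ?_⟩
  · exact MorphismProperty.of_isPullback (P := AlgSp.RepWith @IsClosedImmersion)
      (AlgSp.h5_isPullback_diagonal_baseChange sq) hsep
  · intro Z Z' hZ hZqc g₂ fst₂ snd₂ sqP
    exact hqc hZ hZqc (g₂ ≫ g.hom) (fst₂ ≫ fst.hom) snd₂ (sqP.paste_horiz sq)
  · intro Z Z' hZ g₂ fst₂ snd₂ sqP
    exact huc hZ (g₂ ≫ g.hom) (fst₂ ≫ fst.hom) snd₂ (sqP.paste_horiz sq)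

end Groth.Agent.S10275
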