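import Groth.Statements.S10276
import Mathlib
import Groth.Agent.Lib.helper5.AlgSpLft2
import Groth.Agent.Lib.helper5.AlgSpDiag

set_option autoImplicit false
universe u
open CategoryTheory CategoryTheory.Limits AlgebraicGeometry
open AlgSp

namespace Groth.Agent.S10276

/-- A composition of proper morphisms of algebraic spaces is proper. -/
theorem result {S : Scheme.{u}} {X Y Z : AlgSp.Space S} (f : X ⟶ Y) (g : Y ⟶ Z)
    (hf : AlgSp.IsProperMor f.hom) (hg : AlgSp.IsProperMor g.hom) : AlgSp.IsProperMor (f ≫ g).hom := by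
  obtain ⟨hsepf, ⟨hlftf, hqcf⟩, hucf⟩ := hf
  obtain ⟨hsepg, ⟨hlftg, hqcg⟩, hucg⟩ := hg
  change AlgSp.IsProperMor (f.hom ≫ g.hom)
  have key : ∀ ⦃T T' : AlgSp.Sp S⦄ (t : T ⟶ Z.obj) (fst : T' ⟶ X.obj) (snd : T' ⟶ T)
      (sqP : IsPullback fst snd (f.hom ≫ g.hom) t),
      ∃ l : T' ⟶ pullback g.hom t, l ≫ pullback.snd g.hom t = snd ∧
        IsPullback fst l f.hom (pullback.fst g.hom t) := by
    intro T T' t fst snd sqP
    have sqG := IsPullback.of_hasPullback g.hom t
    have hw : (fst ≫ f.hom) ≫ g.hom = snd ≫ t := by rw [Category.assoc]; exact sqP.w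
    refine ⟨sqG.lift _ _ hw, sqG.lift_snd _ _ _, ?_⟩
    refine IsPullback.of_bot ?_ (sqG.lift_fst _ _ _).symm sqG
    rw [sqG.lift_snd]
    exact sqP
  refine ⟨?_, ⟨AlgSp.h5_locP_lft_comp X.property Y.property Z.property f.hom g.hom hlftf hlftg,
    ?_⟩, ?_⟩
  · exact (AlgSp.RepWith @IsClosedImmersion).diagonal.comp_mem f.hom g.hom hsepf hsepg
  · intro T T' hT hTqc t fst snd sqP
    obtain ⟨l, hl, sqT⟩ := key t fst snd sqP
    have sqG := IsPullback.of_hasPullback g.hom t
    have hYT : AlgSp.IsAlgSpace (pullback g.hom t) :=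
      AlgSp.h5_isAlgSpace_of_isPullback Z.property.diag Y.property hT sqG
    exact hqcf hYT (hqcg hT hTqc t _ _ sqG) _ fst l sqT
  · intro T T' hT t fst snd sqP
    obtain ⟨l, hl, sqT⟩ := key t fst snd sqP
    have sqG := IsPullback.of_hasPullback g.hom t
    have hYT : AlgSp.IsAlgSpace (pullback g.hom t) :=
      AlgSp.h5_isAlgSpace_of_isPullback Z.property.diag Y.property hT sqG
    have h1 : IsClosedMap (AlgSp.Points.map l) := hucf hYT _ fst l sqT
    have h2 : IsClosedMap (AlgSp.Points.map (pullback.snd g.hom t)) := hucg hT t _ _ sqG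
    have : AlgSp.Points.map snd = AlgSp.Points.map (pullback.snd g.hom t) ∘ AlgSp.Points.map l := by
      funext x
      rw [← hl, AlgSp.Points.map_comp]; rfl
    change IsClosedMap (AlgSp.Points.map snd)
    rw [this]
    exact h2.comp h1

end Groth.Agent.S10276
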