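import Groth.Statements.S9936
import Mathlib
import Groth.Agent.Lib.helper5.AlgSpQc2

set_option autoImplicit false
universe u
open CategoryTheory CategoryTheory.Limits AlgebraicGeometry
open AlgSp

namespace Groth.Agent.S9936

/-- Closed immersions between algebraic spaces are quasi-compact morphisms. -/
theorem result {S : Scheme.{u}} {X Y : AlgSp.Space S} (f : X ⟶ Y)
    (hf : AlgSp.RepWith @IsClosedImmersion f.hom) : AlgSp.IsQuasiCompactMor f.hom := by
  intro W W' hW hWqc g fst snd sq
  have hsnd : AlgSp.RepWith @IsClosedImmersion snd :=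
    MorphismProperty.of_isPullback (P := AlgSp.RepWith @IsClosedImmersion) sq hf
  exact AlgSp.h5_isQuasiCompactSp_of_repWith_quasiCompact snd
    (AlgSp.h5_repWith_mono (fun _ _ f (hf : IsClosedImmersion f) => (inferInstance : QuasiCompact f))
      hsnd) hWqc

end Groth.Agent.S9936
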