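import Groth.Statements.S10277
import Mathlib
import Groth.Agent.Lib.helper5.AlgSpEt
import Groth.Agent.S9922
import Groth.Agent.S9936

set_option autoImplicit false
universe u
open CategoryTheory CategoryTheory.Limits AlgebraicGeometry
open AlgSp

namespace Groth.Agent.S10277

/-- A closed immersion of algebraic spaces is proper. -/
theorem result {S : Scheme.{u}} {X Y : AlgSp.Space S} (i : X ⟶ Y)
    (hi : AlgSp.RepWith @IsClosedImmersion i.hom) : AlgSp.IsProperMor i.hom := by
  have hmono : Mono i.hom := AlgSp.h5_mono_of_repWith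
    (fun _ _ g (hg : IsClosedImmersion g) => (inferInstance : Mono g)) i.hom hi
  refine ⟨?_, ⟨?_, ?_⟩, ?_⟩
  · haveI : IsIso (pullback.diagonal i.hom) := (pullback.isIso_diagonal_iff _).2 hmono
    exact AlgSp.h5_repWith_of_isIso @IsClosedImmersion _
  · refine AlgSp.h5_locP_of_repWith @LocallyOfFiniteType
      (fun _ _ g (hg : Etale g) => (inferInstance : LocallyOfFiniteType g)) i.hom ?_
    exact AlgSp.h5_repWith_mono
      (fun _ _ g (hg : IsClosedImmersion g) => (inferInstance : LocallyOfFiniteType g)) hi
  · exact Groth.Agent.S9936.result i hi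
  · refine (Groth.Agent.S9922.result i hi.rep).1 ?_
    exact AlgSp.h5_repWith_mono
      (fun _ _ g (hg : IsClosedImmersion g) => (inferInstance : UniversallyClosed g)) hi

end Groth.Agent.S10277
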