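import Groth.Statements.S10278
import Mathlib
import Groth.Agent.S10275
import Groth.Agent.S10276
import Groth.Agent.S10277
import Groth.Agent.Lib.helper5.AlgSpGraph
import Groth.Agent.Lib.helper5.AlgSpPb

set_option autoImplicit false
universe u
open CategoryTheory CategoryTheory.Limits AlgebraicGeometry
open AlgSp

namespace Groth.Agent.S10278

universe v' u'

theorem h5_graph_factor {C : Type u'} [Category.{v'} C] [HasPullbacks C] {X Y B : C} (f : X ⟶ Y)
    (q : Y ⟶ B) :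
    ∃ (E : C) (e1 : E ⟶ Y) (e2 : E ⟶ pullback (f ≫ q) q)
      (c : pullback (f ≫ q) q ⟶ pullback q q) (j : X ⟶ E), IsIso j ∧
      IsPullback e1 e2 (pullback.diagonal q) c ∧ j ≫ e2 ≫ pullback.snd (f ≫ q) q = f := by
  have sq1 : IsPullback (pullback.fst (f ≫ q) q) (pullback.snd (f ≫ q) q) (f ≫ q) (𝟙 Y ≫ q) := by
    rw [Category.id_comp]; exact IsPullback.of_hasPullback _ _
  have hw : (pullback.fst (f ≫ q) q ≫ f) ≫ q = (pullback.snd (f ≫ q) q ≫ 𝟙 Y) ≫ q := by
    simpa using sq1.w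
  have sq2 := IsPullback.of_hasPullback (pullback.diagonal q) (pullback.lift _ _ hw)
  have sqE := AlgSp.h5_isPullback_graph sq1 sq2
  haveI : IsIso (pullback.snd (pullback.diagonal q) (pullback.lift _ _ hw) ≫
      pullback.fst (f ≫ q) q) := sqE.isIso_fst_of_isIso
  refine ⟨_, _, _, _, inv (pullback.snd (pullback.diagonal q) (pullback.lift _ _ hw) ≫
      pullback.fst (f ≫ q) q), inferInstance, sq2, ?_⟩
  rw [IsIso.inv_comp_eq, sqE.w]
  exact (Category.comp_id _).symm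

theorem h5_univSp_of_isPullback {S : Scheme.{u}} (Q : MorphismProperty (AlgSp.Sp S))
    {F G G' P : AlgSp.Sp S} {f : F ⟶ G} {g : G' ⟶ G} {a : P ⟶ F} {b : P ⟶ G'}
    (sq : IsPullback a b f g) (hf : AlgSp.UnivSp Q f) : AlgSp.UnivSp Q b := by
  intro Z Z' hZ h fst snd sqZ
  exact hf hZ (h ≫ g) (fst ≫ a) snd (sqZ.paste_horiz sq)

theorem h5_isUnivClosedMor_comp {S : Scheme.{u}} {X Y Z : AlgSp.Sp S} (hY : AlgSp.IsAlgSpace Y)
    (hZ : AlgSp.IsAlgSpace Z) (f : X ⟶ Y) (g : Y ⟶ Z) (hucf : AlgSp.IsUnivClosedMor f)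
    (hucg : AlgSp.IsUnivClosedMor g) : AlgSp.IsUnivClosedMor (f ≫ g) := by
  intro T T' hT t fst snd sqP
  have sqG := IsPullback.of_hasPullback g t
  have hw : (fst ≫ f) ≫ g = snd ≫ t := by rw [Category.assoc]; exact sqP.w
  obtain ⟨l, hl, sqT⟩ : ∃ l : T' ⟶ pullback g t, l ≫ pullback.snd g t = snd ∧
      IsPullback fst l f (pullback.fst g t) := by
    refine ⟨sqG.lift _ _ hw, sqG.lift_snd _ _ _, ?_⟩
    refine IsPullback.of_bot ?_ (sqG.lift_fst _ _ _).symm sqG
    rw [sqG.lift_snd]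
    exact sqP
  have hYT : AlgSp.IsAlgSpace (pullback g t) :=
    AlgSp.h5_isAlgSpace_of_isPullback hZ.diag hY hT sqG
  have h1 : IsClosedMap (AlgSp.Points.map l) := hucf hYT _ fst l sqT
  have h2 : IsClosedMap (AlgSp.Points.map (pullback.snd g t)) := hucg hT t _ _ sqG
  have : AlgSp.Points.map snd =
      AlgSp.Points.map (pullback.snd g t) ∘ AlgSp.Points.map l := by
    funext x
    rw [← hl, AlgSp.Points.map_comp]; rfl
  change IsClosedMap (AlgSp.Points.map snd)
  rw [this]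
  exact h2.comp h1

/-- Over a separated Y -> B, a morphism X -> Y from a space universally closed (resp. proper) over B is
universally closed with closed image (resp. proper). -/
theorem result {S : Scheme.{u}} {X Y B : AlgSp.Space S} (f : X ⟶ Y) (p : X ⟶ B)
    (q : Y ⟶ B) (comm : f ≫ q = p) (hq : AlgSp.IsSeparatedMor q.hom) :
    (AlgSp.IsUnivClosedMor p.hom →
      AlgSp.IsUnivClosedMor f.hom ∧ IsClosed (Set.range (AlgSp.Points.map f.hom))) ∧
    (AlgSp.IsProperMor p.hom → AlgSp.IsProperMor f.hom) := by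
  subst comm
  obtain ⟨E, e1, e2, c, j, hj, sq2, hfac⟩ := h5_graph_factor f.hom q.hom
  have sq1 : IsPullback (pullback.fst (f.hom ≫ q.hom) q.hom) (pullback.snd (f.hom ≫ q.hom) q.hom)
      (f.hom ≫ q.hom) q.hom := IsPullback.of_hasPullback _ _
  have hP1 : AlgSp.IsAlgSpace (pullback (f.hom ≫ q.hom) q.hom) :=
    AlgSp.h5_isAlgSpace_of_isPullback B.property.diag X.property Y.property sq1
  have hE : AlgSp.IsAlgSpace E := AlgSp.IsAlgSpace.of_iso X.property (asIso j)
  have he2 : AlgSp.RepWith @IsClosedImmersion e2 :=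
    MorphismProperty.of_isPullback (P := AlgSp.RepWith @IsClosedImmersion) sq2 hq
  let P1' : AlgSp.Space S := ⟨pullback (f.hom ≫ q.hom) q.hom, hP1⟩
  let E' : AlgSp.Space S := ⟨E, hE⟩
  let e2' : E' ⟶ P1' := ObjectProperty.homMk e2
  let pr1' : P1' ⟶ X := ObjectProperty.homMk (pullback.fst (f.hom ≫ q.hom) q.hom)
  let pr2' : P1' ⟶ Y := ObjectProperty.homMk (pullback.snd (f.hom ≫ q.hom) q.hom)
  let j' : X ⟶ E' := ObjectProperty.homMk j
  have he2p : AlgSp.IsProperMor e2 := Groth.Agent.S10277.result e2' he2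
  have sqBack : IsPullback j f.hom (e2 ≫ pullback.snd (f.hom ≫ q.hom) q.hom) (𝟙 Y.obj) :=
    IsPullback.of_horiz_isIso ⟨by rw [hfac, Category.comp_id]⟩
  constructor
  · intro hp
    have h2 : AlgSp.IsUnivClosedMor (pullback.snd (f.hom ≫ q.hom) q.hom) :=
      h5_univSp_of_isPullback _ sq1 hp
    have h3 : AlgSp.IsUnivClosedMor (e2 ≫ pullback.snd (f.hom ≫ q.hom) q.hom) :=
      h5_isUnivClosedMor_comp hP1 Y.property _ _ he2p.2.2 h2
    have h4 : AlgSp.IsUnivClosedMor f.hom := h5_univSp_of_isPullback _ sqBack h3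
    refine ⟨h4, ?_⟩
    have h5 : IsClosedMap (AlgSp.Points.map f.hom) :=
      h4 Y.property (𝟙 Y.obj) (𝟙 X.obj) f.hom (IsPullback.of_horiz_isIso ⟨by simp⟩)
    exact h5.isClosed_range
  · intro hp
    have h2 : AlgSp.IsProperMor pr2'.hom := Groth.Agent.S10275.result (f ≫ q) q pr1' pr2' sq1 hp
    have h3 : AlgSp.IsProperMor (e2' ≫ pr2').hom := Groth.Agent.S10276.result e2' pr2' he2p h2
    exact Groth.Agent.S10275.result (e2' ≫ pr2') (𝟙 Y) j' f sqBack h3

end Groth.Agent.S10278
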