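import Groth.Statements.S10095
import Mathlib
import Mathlib
import Groth.Agent.S10094
import Groth.Agent.S10278

set_option autoImplicit false
universe u
open CategoryTheory CategoryTheory.Limits AlgebraicGeometry
open AlgSp

namespace Groth.Agent.S10095

/-- Let `a : F ⟶ G` and `b : G ⟶ H` be maps of presheaves of sets on schemes over `S`. If both the
diagonal `G ⟶ G ×_H G` and the composite `a ≫ b` are representable by algebraic spaces, then so is
`a`. -/
theorem result (S : Scheme.{u}) (F G H : AlgSp.PSp S) (a : F ⟶ G) (b : G ⟶ H)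
    (hΔ : AlgSp.RepBySp (pullback.diagonal b)) (hab : AlgSp.RepBySp (a ≫ b)) : AlgSp.RepBySp a := by
  obtain ⟨E, e1, e2, c, j, hj, sqE, hfac⟩ := Groth.Agent.S10278.h5_graph_factor a b
  have h1 : AlgSp.RepBySp e2 := Groth.Agent.S10094.h5_repBySp_baseChange hΔ sqE.flip
  have h2 : AlgSp.RepBySp (pullback.snd (a ≫ b) b) :=
    Groth.Agent.S10094.h5_repBySp_baseChange hab (IsPullback.of_hasPullback (a ≫ b) b).flip
  have h3 : AlgSp.RepBySp (e2 ≫ pullback.snd (a ≫ b) b) :=
    Groth.Agent.S10093.result S _ _ _ _ _ h1 h2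
  intro U ξ F' fst snd sq
  haveI := hj
  have sq' : IsPullback (fst ≫ j) snd (e2 ≫ pullback.snd (a ≫ b) b) ξ :=
    IsPullback.of_iso sq (Iso.refl _) (asIso j) (Iso.refl _) (Iso.refl _)
      (by simp) (by simp) (by rw [Iso.refl_hom, Category.comp_id]; exact hfac.symm) (by simp)
  exact h3 ξ (fst ≫ j) snd sq' 

end Groth.Agent.S10095
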