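import Groth.Statements.S10096
import Mathlib
import Mathlib
import Groth.Agent.Lib.helper5.AlgSpPts
import Groth.Agent.Lib.helper5.AlgSpMono

set_option autoImplicit false
universe u
open CategoryTheory CategoryTheory.Limits AlgebraicGeometry
open AlgSp

namespace Groth.Agent.S10096

/-- Let `a : F ⟶ G` be a map of fppf sheaves of sets over `S` that is flat, surjective, locally of
finite presentation and representable by algebraic spaces (every base change `h_U ×_G F ⟶ h_U` to a
scheme is such a morphism of algebraic spaces). Then `a` is surjective as a map of sheaves (an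
epimorphism of fppf sheaves). -/
theorem result (S : Scheme.{u}) (F G : AlgSp.Sp S) (a : F ⟶ G)
    (ha : AlgSp.RepBySpWith (AlgSp.IsSurjectiveMor ⊓ AlgSp.LocP @Flat ⊓ AlgSp.LocP @LocallyOfFinitePresentation) a.hom) :
    Epi a := by
  rw [AlgSp.repBySpWith_hom_iff] at ha
  rw [← Sheaf.isLocallySurjective_iff_epi]
  constructor
  intro T s
  let g : (yon S).obj T ⟶ G := h5_yEquiv.symm s
  have sq := IsPullback.of_hasPullback a g
  obtain ⟨hA, ⟨⟨hsurj, hflat⟩, hlfp⟩⟩ := ha g (pullback.fst a g) (pullback.snd a g) sq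
  obtain ⟨U, φ, hφe, hφs⟩ := hA.atlas
  obtain ⟨c, hc⟩ := (yon S).map_surjective (φ ≫ pullback.snd a g)
  have hw : φ ≫ pullback.snd a g = (yon S).map c ≫ 𝟙 _ := by rw [hc, Category.comp_id]
  have hcflat : Flat c.left := hflat φ (𝟙 _) c hφe (repWith_id _ T) hw
  have hclfp : LocallyOfFinitePresentation c.left := hlfp φ (𝟙 _) c hφe (repWith_id _ T) hw
  have hcsurj : Surjective c.left := by
    have h1 : Function.Surjective (Points.map ((yon S).map c)) := by
      rw [hc]
      intro y
      obtain ⟨x, rfl⟩ := hsurj y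
      obtain ⟨u, rfl⟩ := (h5_repWith_surjective_iff φ hφe.rep).1 hφs x
      exact ⟨u, Points.map_comp _ _ _⟩
    have h2 : RepWith @Surjective ((yon S).map c) :=
      (h5_repWith_surjective_iff _ (representable_yon_map c)).2 h1
    exact (repWith_yon_map_iff _ c).1 h2
  refine (J S).superset_covering ?_ (h5_ofArrows_singleton_mem_J c)
  rw [Sieve.ofArrows, Sieve.generate_le_iff]
  rintro _ _ ⟨⟩
  refine ⟨h5_yEquiv (φ ≫ pullback.fst a g), ?_⟩
  have e1 := GrothendieckTopology.uliftYonedaEquiv_comp (J S) (φ ≫ pullback.fst a g) a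
  have e2 := GrothendieckTopology.uliftYonedaEquiv_naturality (J S) g c
  rw [Category.assoc, sq.w, ← Category.assoc, ← hc] at e1
  have e3 : h5_yEquiv g = s := Equiv.apply_symm_apply _ _
  rw [e3] at e2
  exact e1.symm.trans e2.symm

end Groth.Agent.S10096
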