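import Groth.Statements.S10097
import Mathlib
import Mathlib
import Groth.Agent.Lib.helper5.AlgSpPb
import Groth.Agent.Lib.helper5.AlgSpDiag

set_option autoImplicit false
universe u
open CategoryTheory CategoryTheory.Limits AlgebraicGeometry
open AlgSp

namespace Groth.Agent.S10097

variable {S : Scheme.{u}}

theorem h5_isAlgSpaceP_pyon (U : Over S) : AlgSp.IsAlgSpaceP ((AlgSp.pyon S).obj U) :=
  (AlgSp.isAlgSpaceP_obj_iff ((AlgSp.yon S).obj U)).2 (AlgSp.IsAlgSpace.yon_obj U)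

theorem h5_isAlgSpaceP_of_isPullback {X Y H P : AlgSp.PSp S} (hX : AlgSp.IsAlgSpaceP X)
    (hY : AlgSp.IsAlgSpaceP Y) (hH : AlgSp.IsAlgSpaceP H) {fst : P ⟶ X} {snd : P ⟶ Y}
    {f : X ⟶ H} {g : Y ⟶ H} (sq : IsPullback fst snd f g) : AlgSp.IsAlgSpaceP P := by
  obtain ⟨hXs, hX⟩ := hX
  obtain ⟨hYs, hY⟩ := hY
  obtain ⟨hHs, hH⟩ := hH
  have hPs : Presheaf.IsSheaf (AlgSp.J S) P :=
    AlgSp.isSheaf_of_isPullback (F := ⟨X, hXs⟩) (G := ⟨H, hHs⟩) (H := ⟨Y, hYs⟩) sq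
  refine ⟨hPs, ?_⟩
  have sq' : IsPullback (ObjectProperty.homMk fst : (⟨P, hPs⟩ : AlgSp.Sp S) ⟶ ⟨X, hXs⟩)
      (ObjectProperty.homMk snd : (⟨P, hPs⟩ : AlgSp.Sp S) ⟶ ⟨Y, hYs⟩)
      (ObjectProperty.homMk f : (⟨X, hXs⟩ : AlgSp.Sp S) ⟶ ⟨H, hHs⟩)
      (ObjectProperty.homMk g : (⟨Y, hYs⟩ : AlgSp.Sp S) ⟶ ⟨H, hHs⟩) :=
    IsPullback.of_map_of_faithful (sheafToPresheaf (AlgSp.J S) (Type (u + 1))) sq
  exact AlgSp.h5_isAlgSpace_of_isPullback hH.diag hX hY sq'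

/-- (1) ⇔ (2): for a presheaf of sets `F` on schemes over `S`, the diagonal `F ⟶ F × F` is representable
by algebraic spaces if and only if every map `h_T ⟶ F` from a scheme `T` over `S` is representable
by algebraic spaces. -/
theorem result (S : Scheme.{u}) (F : AlgSp.PSp S) :
    AlgSp.RepBySp (Limits.diag F) ↔
      ∀ (T : Over S) (ξ : (AlgSp.pyon S).obj T ⟶ F), AlgSp.RepBySp ξ := by
  constructor
  · intro hΔ T ξ U η F' fst snd sq
    have sqd := AlgSp.h5_isPullback_diag sq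
    let e := PreservesLimitPair.iso (AlgSp.pyon S) T U
    have sqd' : IsPullback (fst ≫ ξ) (prod.lift fst snd ≫ e.inv) (Limits.diag F)
        (e.hom ≫ prod.map ξ η) :=
      IsPullback.of_iso sqd (Iso.refl _) (Iso.refl _) e.symm (Iso.refl _)
        (by simp) (by simp) (by simp) (by simp)
    exact hΔ (e.hom ≫ prod.map ξ η) (fst ≫ ξ) (prod.lift fst snd ≫ e.inv) sqd'
  · intro h T ζ F' fst snd sq
    have sqW := IsPullback.of_hasPullback (ζ ≫ prod.fst) (ζ ≫ prod.snd)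
    have hW : AlgSp.IsAlgSpaceP (pullback (ζ ≫ prod.fst) (ζ ≫ prod.snd)) :=
      h T (ζ ≫ prod.fst) (ζ ≫ prod.snd) _ _ sqW
    have sqd := AlgSp.h5_isPullback_diag sqW
    have hζ : ζ = Limits.diag ((AlgSp.pyon S).obj T) ≫ prod.map (ζ ≫ prod.fst) (ζ ≫ prod.snd) := by
      apply prod.hom_ext
      · simp
        exact (prod.lift_fst _ _).symm
      · simp
        exact (prod.lift_snd _ _).symm
    have hw : fst ≫ Limits.diag F = (snd ≫ Limits.diag ((AlgSp.pyon S).obj T)) ≫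
        prod.map (ζ ≫ prod.fst) (ζ ≫ prod.snd) := by
      rw [Category.assoc, ← hζ]; exact sq.w
    obtain ⟨l, hl1, hl2⟩ : ∃ l : F' ⟶ pullback (ζ ≫ prod.fst) (ζ ≫ prod.snd),
        l ≫ (pullback.fst (ζ ≫ prod.fst) (ζ ≫ prod.snd) ≫ ζ ≫ prod.fst) = fst ∧
        l ≫ prod.lift (pullback.fst (ζ ≫ prod.fst) (ζ ≫ prod.snd))
          (pullback.snd (ζ ≫ prod.fst) (ζ ≫ prod.snd)) =
          snd ≫ Limits.diag ((AlgSp.pyon S).obj T) :=
      ⟨sqd.lift fst (snd ≫ Limits.diag ((AlgSp.pyon S).obj T)) hw, sqd.lift_fst _ _ _,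
        sqd.lift_snd _ _ _⟩
    have outer : IsPullback (l ≫ (pullback.fst (ζ ≫ prod.fst) (ζ ≫ prod.snd) ≫ ζ ≫ prod.fst)) snd
        (Limits.diag F) (Limits.diag ((AlgSp.pyon S).obj T) ≫
          prod.map (ζ ≫ prod.fst) (ζ ≫ prod.snd)) := by
      rw [hl1, ← hζ]; exact sq
    have left := IsPullback.of_right outer hl2 sqd
    have hH : AlgSp.IsAlgSpaceP ((AlgSp.pyon S).obj T ⨯ (AlgSp.pyon S).obj T) :=
      (h5_isAlgSpaceP_pyon (T ⨯ T)).of_iso (PreservesLimitPair.iso (AlgSp.pyon S) T T)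
    exact h5_isAlgSpaceP_of_isPullback hW (h5_isAlgSpaceP_pyon T) hH left

end Groth.Agent.S10097
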