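import Groth.Statements.S10113
import Mathlib

set_option autoImplicit false
universe u
open CategoryTheory CategoryTheory.Limits AlgebraicGeometry
open AlgSp

namespace Groth.Agent.S10113

/-- Let `s, t : R ⟶ U` be a pre-relation of algebraic spaces, `M` an algebraic space and `U ⟶ M` a
morphism which coequalizes `s, t`, is a surjection of sheaves, and for which `(t, s) : R ⟶ U ×_M U`
is a surjection of sheaves. Then the induced map `U/R ⟶ M` is an isomorphism: `M` represents the
quotient sheaf. -/
theorem result (S : Scheme.{u}) (R U M : AlgSp.Sp S)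
    (hR : AlgSp.IsAlgSpace R) (hU : AlgSp.IsAlgSpace U) (hM : AlgSp.IsAlgSpace M) (s t : R ⟶ U)
    (q : U ⟶ M) (w : s ≫ q = t ≫ q) [Epi q] [Epi (pullback.lift t s w.symm : R ⟶ pullback q q)] :
    IsIso (AlgSp.quotSpDesc q w) := by
  have hreg : IsRegularEpi q := IsRegularEpiCategory.regularEpiOfEpi q
  have hk : IsKernelPair q (pullback.fst q q) (pullback.snd q q) := IsPullback.of_hasPullback q q
  have hcoeq : IsColimit (Cofork.ofπ q hk.w) := IsKernelPair.toCoequalizer' hk
  set j : R ⟶ pullback q q := pullback.lift t s w.symm with hj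
  have hj1 : j ≫ pullback.fst q q = t := pullback.lift_fst _ _ _
  have hj2 : j ≫ pullback.snd q q = s := pullback.lift_snd _ _ _
  have hcol : IsColimit (Cofork.ofπ q w) := by
    refine Cofork.IsColimit.mk _ (fun c => hcoeq.desc (Cofork.ofπ c.π ?_)) ?_ ?_
    · rw [← cancel_epi j, ← Category.assoc, ← Category.assoc, hj1, hj2]
      exact c.condition.symm
    · intro c
      exact hcoeq.fac _ WalkingParallelPair.one
    · intro c m hm
      have hm' : q ≫ m = c.π := hm
      rw [← cancel_epi q, hm']
      exact (hcoeq.fac (Cofork.ofπ c.π (by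
        rw [← cancel_epi j, ← Category.assoc, ← Category.assoc, hj1, hj2]
        exact c.condition.symm)) WalkingParallelPair.one).symm
  have : AlgSp.quotSpDesc q w =
      ((coequalizerIsCoequalizer s t).coconePointUniqueUpToIso hcol).hom := by
    apply coequalizer.hom_ext
    rw [AlgSp.quotSpDesc, coequalizer.π_desc]
    exact ((coequalizerIsCoequalizer s t).comp_coconePointUniqueUpToIso_hom hcol
      WalkingParallelPair.one).symm
  rw [this]
  infer_instance

end Groth.Agent.S10113
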