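import Groth.Statements.S10117
import Mathlib
import Groth.Agent.Lib.helper5.GrpAct
import Groth.Agent.Lib.helper5.AlgSpPts

set_option autoImplicit false
universe u
open CategoryTheory CategoryTheory.Limits AlgebraicGeometry MonoidalCategory MonObj
open AlgSp AlgSp.GAction

namespace Groth.Agent.S10117

/-- If a group algebraic space `G` over `B` acts freely on an algebraic space `X` over `B`, then `G ×_B
X ⟶ X ×_B X`, `(g, x) ↦ (g x, x)`, is a monomorphism. (The published statement is an equivalence;
this row states only the direction from free to monomorphism.) -/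
theorem result (S : Scheme.{u}) (B : AlgSp.Sp S) (hB : AlgSp.IsAlgSpace B)
    (G X : Over B) [GrpObj G] (hG : AlgSp.IsAlgSpace G.left) (hX : AlgSp.IsAlgSpace X.left)
    (a : AlgSp.GAction G X) (ha : a.IsFree) :
    Mono (CartesianMonoidalCategory.lift a.act (CartesianMonoidalCategory.snd G X)).left := by
  constructor
  intro Q m1 m2 hm
  apply GrothendieckTopology.hom_ext_uliftYoneda.{u + 1} (J := AlgSp.J S)
  intro T p
  have hm' : (p ≫ m1) ≫ (CartesianMonoidalCategory.lift a.act
      (CartesianMonoidalCategory.snd G X)).left = (p ≫ m2) ≫ (CartesianMonoidalCategory.lift a.act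
      (CartesianMonoidalCategory.snd G X)).left := by
    rw [Category.assoc, Category.assoc, hm]
  generalize p ≫ m1 = n1 at hm'
  generalize p ≫ m2 = n2 at hm'
  set φ := CartesianMonoidalCategory.lift a.act (CartesianMonoidalCategory.snd G X) with hφ
  let β : (AlgSp.yon S).obj T ⟶ B := n1 ≫ (G ⊗ X).hom
  have hβ2 : n2 ≫ (G ⊗ X).hom = β := by
    show _ = n1 ≫ (G ⊗ X).hom
    rw [← Over.w φ, ← Category.assoc, ← hm', Category.assoc]
  let N1 : Over.mk β ⟶ G ⊗ X := Over.homMk n1 rfl
  let N2 : Over.mk β ⟶ G ⊗ X := Over.homMk n2 hβ2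
  have hN : N1 ≫ φ = N2 ≫ φ := Over.OverMorphism.ext hm'
  have hsnd : N1 ≫ CartesianMonoidalCategory.snd G X = N2 ≫ CartesianMonoidalCategory.snd G X := by
    have := congrArg (· ≫ CartesianMonoidalCategory.snd X X) hN
    simpa [hφ] using this
  have hact : N1 ≫ a.act = N2 ≫ a.act := by
    have := congrArg (· ≫ CartesianMonoidalCategory.fst X X) hN
    simpa [hφ] using this
  have e1 : N1 = CartesianMonoidalCategory.lift (N1 ≫ CartesianMonoidalCategory.fst G X)
      (N1 ≫ CartesianMonoidalCategory.snd G X) := by
    apply CartesianMonoidalCategory.hom_ext <;> simp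
  have e2 : N2 = CartesianMonoidalCategory.lift (N2 ≫ CartesianMonoidalCategory.fst G X)
      (N1 ≫ CartesianMonoidalCategory.snd G X) := by
    rw [hsnd]
    apply CartesianMonoidalCategory.hom_ext <;> simp
  have hfst : N1 ≫ CartesianMonoidalCategory.fst G X = N2 ≫ CartesianMonoidalCategory.fst G X := by
    apply H5GrpAct.h5_act_injective a.act a.one_act a.mul_act (fun g x hgx => ha β g x hgx) _ _
      (N1 ≫ CartesianMonoidalCategory.snd G X)
    rw [← e1, ← e2]
    exact hact
  have hN12 : N1 = N2 := by
    rw [e1, e2, hfst]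
  exact congrArg (fun f => f.left) hN12

end Groth.Agent.S10117
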