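import Groth.Statements.S10121
import Mathlib
import Groth.Agent.Lib.helper5.AlgSpPts2

set_option autoImplicit false
universe u
open CategoryTheory CategoryTheory.Limits AlgebraicGeometry
open AlgSp

namespace Groth.Agent.S10121

/-- For a pre-equivalence relation `s, t : R ⟶ U` of algebraic spaces, the relation on points of `U`
given by `x ∼ y` when some point `r` of `R` has `t(r) = x` and `s(r) = y` is an equivalence relation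
on `|U|`. -/
theorem result (S : Scheme.{u}) (R U : AlgSp.Sp S)
    (hR : AlgSp.IsAlgSpace R) (hU : AlgSp.IsAlgSpace U) (s t : R ⟶ U) (h : AlgSp.IsPreEqvRelSp s t) :
    _root_.Equivalence (fun x y : AlgSp.Points U =>
      ∃ r : AlgSp.Points R, AlgSp.Points.map t r = x ∧ AlgSp.Points.map s r = y) := by
  refine ⟨?_, ?_, ?_⟩
  · intro x
    obtain ⟨K, _, str, a, rfl⟩ := AlgSp.h5_exists_eq_mkHom x
    obtain ⟨r, hr1, hr2⟩ := (h (Over.mk str)).refl a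
    refine ⟨AlgSp.h5_mkHom K str r, ?_, ?_⟩
    · rw [AlgSp.h5_map_mkHom, hr1]
    · rw [AlgSp.h5_map_mkHom, hr2]
  · rintro x y ⟨ρ, rfl, rfl⟩
    obtain ⟨K, _, str, r, rfl⟩ := AlgSp.h5_exists_eq_mkHom ρ
    obtain ⟨r', hr1, hr2⟩ := (h (Over.mk str)).symm ⟨r, rfl, rfl⟩
    refine ⟨AlgSp.h5_mkHom K str r', ?_, ?_⟩
    · rw [AlgSp.h5_map_mkHom, AlgSp.h5_map_mkHom, hr1]
    · rw [AlgSp.h5_map_mkHom, AlgSp.h5_map_mkHom, hr2]
  · rintro x y z ⟨ρ1, rfl, rfl⟩ ⟨ρ2, h2, rfl⟩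
    obtain ⟨K1, _, str1, r1, rfl⟩ := AlgSp.h5_exists_eq_mkHom ρ1
    obtain ⟨K2, _, str2, r2, rfl⟩ := AlgSp.h5_exists_eq_mkHom ρ2
    rw [AlgSp.h5_map_mkHom, AlgSp.h5_map_mkHom] at h2
    obtain ⟨Ω, _, w, β, α, hab⟩ := AlgSp.h5_exists_of_mkHom_eq _ _ h2
    obtain ⟨r3, hr1, hr2⟩ := (h (Over.mk w)).trans
      (⟨(AlgSp.yon S).map α ≫ r1, rfl, rfl⟩ :
        ∃ r, r ≫ t = ((AlgSp.yon S).map α ≫ r1) ≫ t ∧ r ≫ s = ((AlgSp.yon S).map α ≫ r1) ≫ s)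
      (⟨(AlgSp.yon S).map β ≫ r2, by rw [Category.assoc, Category.assoc, hab], rfl⟩ :
        ∃ r, r ≫ t = ((AlgSp.yon S).map α ≫ r1) ≫ s ∧ r ≫ s = ((AlgSp.yon S).map β ≫ r2) ≫ s)
    refine ⟨AlgSp.h5_mkHom Ω w r3, ?_, ?_⟩
    · rw [AlgSp.h5_map_mkHom, AlgSp.h5_map_mkHom, hr1, Category.assoc, AlgSp.h5_mkHom_comp]
    · rw [AlgSp.h5_map_mkHom, AlgSp.h5_map_mkHom, hr2, Category.assoc, AlgSp.h5_mkHom_comp]

end Groth.Agent.S10121
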