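import Groth.Statements.S10123
import Mathlib
import Groth.Agent.Lib.helper5.AlgSpLocPInst
import Groth.Agent.Lib.helper5.AlgSpLocPInst2
import Groth.Agent.Lib.helper5.AlgSpDiag

set_option autoImplicit false
universe u
open CategoryTheory CategoryTheory.Limits AlgebraicGeometry
open AlgSp AlgSp.GroupoidSp

namespace Groth.Agent.S10123

section H5

variable {S : Scheme.{u}} {P : MorphismProperty Scheme.{u}} [P.IsStableUnderBaseChange]
  [P.IsStableUnderComposition]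

theorem h5_restrict_locP (hP : AlgSp.H5Good P) {U U' R R' : AlgSp.Sp S}
    (hU : AlgSp.IsAlgSpace U) (hU' : AlgSp.IsAlgSpace U') (hR : AlgSp.IsAlgSpace R)
    (s t : R ⟶ U) (s' t' : R' ⟶ U') (fU : U' ⟶ U) (fR : R' ⟶ R)
    (cs : fR ≫ s = s' ≫ fU) (ct : fR ≫ t = t' ≫ fU)
    (hex : ∀ {T : AlgSp.Sp S} (r : T ⟶ R) (a b : T ⟶ U'), a ≫ fU = r ≫ t → b ≫ fU = r ≫ s →
      ∃ z : T ⟶ R', z ≫ fR = r ∧ z ≫ t' = a ∧ z ≫ s' = b)
    (huniq : ∀ {T : AlgSp.Sp S} (z z' : T ⟶ R'), z ≫ fR = z' ≫ fR → z ≫ t' = z' ≫ t' →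
      z ≫ s' = z' ≫ s' → z = z')
    (hs : AlgSp.LocP P s) (hf : AlgSp.LocP P fU) : AlgSp.LocP P s' := by
  have sqQ := IsPullback.of_hasPullback fU t
  have hQ : AlgSp.IsAlgSpace (pullback fU t) :=
    AlgSp.h5_isAlgSpace_of_isPullback hU.diag hU' hR sqQ
  have h1 : AlgSp.LocP P (pullback.snd fU t) := AlgSp.h5_locP_baseChange hP hU' hU hR sqQ hf
  have h2 : AlgSp.LocP P (pullback.snd fU t ≫ s) := AlgSp.h5_locP_comp hP hQ hR hU _ _ h1 hs
  have sq : IsPullback (pullback.lift t' fR ct.symm) s' (pullback.snd fU t ≫ s) fU := by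
    refine AlgSp.h5_isPullback_of_exists_unique ?_ ?_ ?_
    · rw [pullback.lift_snd_assoc, cs]
    · intro W x y h
      obtain ⟨z, hz1, hz2, hz3⟩ := hex (x ≫ pullback.snd fU t) (x ≫ pullback.fst fU t) y
        (by rw [Category.assoc, Category.assoc, pullback.condition])
        (by rw [← h, Category.assoc])
      refine ⟨z, ?_, hz3⟩
      apply pullback.hom_ext
      · rw [Category.assoc, pullback.lift_fst, hz2]
      · rw [Category.assoc, pullback.lift_snd, hz1]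
    · intro W p q h1 h2
      refine huniq p q ?_ ?_ h2
      · have := congrArg (· ≫ pullback.snd fU t) h1
        simpa only [Category.assoc, pullback.lift_snd] using this
      · have := congrArg (· ≫ pullback.fst fU t) h1
        simpa only [Category.assoc, pullback.lift_fst] using this
  exact AlgSp.h5_locP_baseChange hP hQ hU hU' sq h2

theorem h5_restrict_both (hP : AlgSp.H5Good P) {B : AlgSp.Sp S}
    (G G' : AlgSp.GroupoidSp B) (hU : AlgSp.IsAlgSpace G.U) (hR : AlgSp.IsAlgSpace G.R)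
    (hU' : AlgSp.IsAlgSpace G'.U) (φ : AlgSp.GroupoidSp.Hom G' G)
    (hφ : φ.IsRestriction) (hs : AlgSp.LocP P G.s) (ht : AlgSp.LocP P G.t)
    (hf : AlgSp.LocP P φ.fU) : AlgSp.LocP P G'.s ∧ AlgSp.LocP P G'.t := by
  have hφ' : IsPullback φ.fR G'.j G.j φ.prodMap := hφ
  have hex : ∀ {T : AlgSp.Sp S} (r : T ⟶ G.R) (a b : T ⟶ G'.U), a ≫ φ.fU = r ≫ G.t →
      b ≫ φ.fU = r ≫ G.s → ∃ z : T ⟶ G'.R, z ≫ φ.fR = r ∧ z ≫ G'.t = a ∧ z ≫ G'.s = b := by
    intro T r a b ha hb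
    have hab : a ≫ G'.pU = b ≫ G'.pU := by
      rw [← φ.fU_over, ← Category.assoc, ← Category.assoc, ha, hb, Category.assoc,
        Category.assoc, G.t_over, G.s_over]
    have hw : r ≫ G.j = pullback.lift a b hab ≫ φ.prodMap := by
      apply pullback.hom_ext
      · rw [Category.assoc, AlgSp.GroupoidSp.j_fst, Category.assoc]
        unfold AlgSp.GroupoidSp.Hom.prodMap
        rw [pullback.lift_fst, pullback.lift_fst_assoc, ha]
      · rw [Category.assoc, AlgSp.GroupoidSp.j_snd, Category.assoc]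
        unfold AlgSp.GroupoidSp.Hom.prodMap
        rw [pullback.lift_snd, pullback.lift_snd_assoc, hb]
    refine ⟨hφ'.lift r (pullback.lift a b hab) hw, hφ'.lift_fst _ _ _, ?_, ?_⟩
    · rw [← AlgSp.GroupoidSp.j_fst, ← Category.assoc, hφ'.lift_snd, pullback.lift_fst]
    · rw [← AlgSp.GroupoidSp.j_snd, ← Category.assoc, hφ'.lift_snd, pullback.lift_snd]
  have huniq : ∀ {T : AlgSp.Sp S} (z z' : T ⟶ G'.R), z ≫ φ.fR = z' ≫ φ.fR →
      z ≫ G'.t = z' ≫ G'.t → z ≫ G'.s = z' ≫ G'.s → z = z' := by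
    intro T z z' h1 h2 h3
    refine hφ'.hom_ext h1 ?_
    apply pullback.hom_ext
    · rw [Category.assoc, Category.assoc, AlgSp.GroupoidSp.j_fst, h2]
    · rw [Category.assoc, Category.assoc, AlgSp.GroupoidSp.j_snd, h3]
  refine ⟨h5_restrict_locP hP hU hU' hR G.s G.t G'.s G'.t φ.fU φ.fR φ.comm_s φ.comm_t
    hex huniq hs hf, ?_⟩
  refine h5_restrict_locP hP hU hU' hR G.t G.s G'.t G'.s φ.fU φ.fR φ.comm_t φ.comm_s
    ?_ ?_ ht hf
  · intro T r a b ha hb
    obtain ⟨z, h1, h2, h3⟩ := hex r b a hb ha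
    exact ⟨z, h1, h3, h2⟩
  · intro T z z' h1 h2 h3
    exact huniq z z' h1 h3 h2

end H5

/-- Let `(U', R', s', t', c')` be the restriction of a groupoid in algebraic spaces `(U, R, s, t, c)`
over `B` along `g : U' ⟶ U`. If `s, t, g` are locally of finite type (resp. locally of finite
presentation, resp. flat) then so are `s', t'`. -/
theorem result (S : Scheme.{u}) (B : AlgSp.Sp S) (hB : AlgSp.IsAlgSpace B)
    (G G' : AlgSp.GroupoidSp B) (hU : AlgSp.IsAlgSpace G.U) (hR : AlgSp.IsAlgSpace G.R)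
    (hU' : AlgSp.IsAlgSpace G'.U) (hR' : AlgSp.IsAlgSpace G'.R) (φ : AlgSp.GroupoidSp.Hom G' G)
    (hφ : φ.IsRestriction) :
    (AlgSp.LocP @LocallyOfFiniteType G.s → AlgSp.LocP @LocallyOfFiniteType G.t →
        AlgSp.LocP @LocallyOfFiniteType φ.fU →
        AlgSp.LocP @LocallyOfFiniteType G'.s ∧ AlgSp.LocP @LocallyOfFiniteType G'.t) ∧
      (AlgSp.LocP @LocallyOfFinitePresentation G.s → AlgSp.LocP @LocallyOfFinitePresentation G.t →
        AlgSp.LocP @LocallyOfFinitePresentation φ.fU →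
        AlgSp.LocP @LocallyOfFinitePresentation G'.s ∧ AlgSp.LocP @LocallyOfFinitePresentation G'.t) ∧
      (AlgSp.LocP @Flat G.s → AlgSp.LocP @Flat G.t → AlgSp.LocP @Flat φ.fU →
        AlgSp.LocP @Flat G'.s ∧ AlgSp.LocP @Flat G'.t) := by
  exact ⟨fun hs ht hf => h5_restrict_both AlgSp.h5_good_lft G G' hU hR hU' φ hφ hs ht hf,
    fun hs ht hf => h5_restrict_both AlgSp.h5_good_lfp G G' hU hR hU' φ hφ hs ht hf,
    fun hs ht hf => h5_restrict_both AlgSp.h5_good_flat G G' hU hR hU' φ hφ hs ht hf⟩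

end Groth.Agent.S10123
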