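import Groth.Statements.S10124
import Mathlib
import Groth.Agent.Lib.helper5.Gpd

set_option autoImplicit false
universe u
open CategoryTheory CategoryTheory.Limits AlgebraicGeometry
open AlgSp AlgSp.GroupoidSp

namespace Groth.Agent.S10124

/-- Let `(U, R, s, t, c)` be a groupoid in algebraic spaces over `B`, `K` a field and `r, r' : Spec K ⟶
R` with `t ∘ r = t ∘ r'`; put `u = s ∘ r`, `u' = s ∘ r'`. Then the fibres `Spec K ×_{u, U, s} R` and
`Spec K ×_{u', U, s} R` are isomorphic as spaces over `Spec K` (existence of an isomorphism over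
`Spec K`). -/
theorem result (S : Scheme.{u}) (B : AlgSp.Sp S) (hB : AlgSp.IsAlgSpace B)
    (G : AlgSp.GroupoidSp B) (hU : AlgSp.IsAlgSpace G.U) (hR : AlgSp.IsAlgSpace G.R)
    (K : Type u) [Field K] (σ : Spec (CommRingCat.of K) ⟶ S)
    (r r' : (AlgSp.yon S).obj (Over.mk σ) ⟶ G.R) (h : r ≫ G.t = r' ≫ G.t) :
    Nonempty (Over.mk (pullback.fst (r ≫ G.s) G.s) ≅ Over.mk (pullback.fst (r' ≫ G.s) G.s)) := by
  -- the translation map between the fibres
  have key : ∀ (r r' : (AlgSp.yon S).obj (Over.mk σ) ⟶ G.R) (_ : r ≫ G.t = r' ≫ G.t),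
      ∃ Θ : pullback (r ≫ G.s) G.s ⟶ pullback (r' ≫ G.s) G.s,
        Θ ≫ pullback.fst (r' ≫ G.s) G.s = pullback.fst (r ≫ G.s) G.s ∧
        ∀ (p1 : pullback.snd (r ≫ G.s) G.s ≫ G.s =
              (pullback.fst (r ≫ G.s) G.s ≫ r ≫ G.i) ≫ G.t)
          (p2 : G.h5comp (pullback.snd (r ≫ G.s) G.s) (pullback.fst (r ≫ G.s) G.s ≫ r ≫ G.i) p1 ≫
              G.s = (pullback.fst (r ≫ G.s) G.s ≫ r') ≫ G.t),
          Θ ≫ pullback.snd (r' ≫ G.s) G.s =
            G.h5comp (G.h5comp (pullback.snd (r ≫ G.s) G.s)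
              (pullback.fst (r ≫ G.s) G.s ≫ r ≫ G.i) p1) (pullback.fst (r ≫ G.s) G.s ≫ r') p2 := by
    intro r r' h
    have p1 : pullback.snd (r ≫ G.s) G.s ≫ G.s =
        (pullback.fst (r ≫ G.s) G.s ≫ r ≫ G.i) ≫ G.t := by
      simp only [Category.assoc, G.i_t]
      exact pullback.condition.symm
    have p2 : G.h5comp (pullback.snd (r ≫ G.s) G.s) (pullback.fst (r ≫ G.s) G.s ≫ r ≫ G.i) p1 ≫
        G.s = (pullback.fst (r ≫ G.s) G.s ≫ r') ≫ G.t := by
      rw [G.h5comp_s]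
      simp only [Category.assoc, G.i_s]
      rw [h]
    refine ⟨pullback.lift (pullback.fst (r ≫ G.s) G.s)
      (G.h5comp (G.h5comp (pullback.snd (r ≫ G.s) G.s)
        (pullback.fst (r ≫ G.s) G.s ≫ r ≫ G.i) p1) (pullback.fst (r ≫ G.s) G.s ≫ r') p2)
      (by rw [G.h5comp_s, Category.assoc]), pullback.lift_fst _ _ _, fun _ _ => ?_⟩
    rw [pullback.lift_snd]
  have hcomp : ∀ (r r' : (AlgSp.yon S).obj (Over.mk σ) ⟶ G.R) (h : r ≫ G.t = r' ≫ G.t),
      (key r r' h).choose ≫ (key r' r h.symm).choose = 𝟙 _ := by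
    intro r r' h
    obtain ⟨hΘ1, hΘ2⟩ := (key r r' h).choose_spec
    obtain ⟨hΘ1', hΘ2'⟩ := (key r' r h.symm).choose_spec
    set Θ := (key r r' h).choose
    set Θ' := (key r' r h.symm).choose
    have p1 : pullback.snd (r ≫ G.s) G.s ≫ G.s =
        (pullback.fst (r ≫ G.s) G.s ≫ r ≫ G.i) ≫ G.t := by
      simp only [Category.assoc, G.i_t]
      exact pullback.condition.symm
    have p2 : G.h5comp (pullback.snd (r ≫ G.s) G.s) (pullback.fst (r ≫ G.s) G.s ≫ r ≫ G.i) p1 ≫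
        G.s = (pullback.fst (r ≫ G.s) G.s ≫ r') ≫ G.t := by
      rw [G.h5comp_s]
      simp only [Category.assoc, G.i_s]
      rw [h]
    have p1' : pullback.snd (r' ≫ G.s) G.s ≫ G.s =
        (pullback.fst (r' ≫ G.s) G.s ≫ r' ≫ G.i) ≫ G.t := by
      simp only [Category.assoc, G.i_t]
      exact pullback.condition.symm
    have p2' : G.h5comp (pullback.snd (r' ≫ G.s) G.s) (pullback.fst (r' ≫ G.s) G.s ≫ r' ≫ G.i)
        p1' ≫ G.s = (pullback.fst (r' ≫ G.s) G.s ≫ r) ≫ G.t := by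
      rw [G.h5comp_s]
      simp only [Category.assoc, G.i_s]
      rw [h]
    apply pullback.hom_ext
    · rw [Category.assoc, hΘ1', hΘ1, Category.id_comp]
    · rw [Category.assoc, hΘ2' p1' p2', G.h5_precomp, Category.id_comp]
      -- innermost simplifications
      set x := pullback.fst (r ≫ G.s) G.s
      set ρ := pullback.snd (r ≫ G.s) G.s
      set A := G.h5comp ρ (x ≫ r ≫ G.i) p1
      have hA : A ≫ G.s = (x ≫ r') ≫ G.t := p2
      have e1 := G.h5comp_comp_i A (x ≫ r') hA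
      have e2 := G.h5comp_i_comp ρ (x ≫ r) (by
        rw [Category.assoc]; exact pullback.condition.symm)
      refine (G.h5comp_congr (α' := A) (β' := x ≫ r) ?_ ?_ _).trans ?_
      · rw [G.h5_precomp]
        refine (G.h5comp_congr ?_ ?_ _).trans e1
        · exact hΘ2 p1 p2
        · rw [← Category.assoc, hΘ1, Category.assoc]
      · rw [← Category.assoc, hΘ1]
      · refine (G.h5comp_congr ?_ rfl _).trans e2
        exact G.h5comp_congr rfl (by simp only [Category.assoc]) _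
  refine ⟨Over.isoMk ⟨(key r r' h).choose, (key r' r h.symm).choose, hcomp r r' h,
    hcomp r' r h.symm⟩ ?_⟩
  exact (key r r' h).choose_spec.1

end Groth.Agent.S10124
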