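import Groth.Statements.S9911
import Mathlib
import Groth.Agent.Lib.helper5.AlgSpUniv3

set_option autoImplicit false
universe u
open CategoryTheory CategoryTheory.Limits AlgebraicGeometry
open AlgSp

namespace Groth.Agent.S9911

/-- A morphism from an algebraic space to the spectrum of a field is universally open. -/
theorem result {S : Scheme.{u}} (X : AlgSp.Space S) {k : Type u} [Field k]
    (str : Spec (CommRingCat.of k) ⟶ S) (p : X ⟶ (AlgSp.ofScheme S).obj (Over.mk str)) :
    AlgSp.IsUnivOpenMor p.hom := by
  obtain ⟨U, q, he, hs⟩ := X.property.atlas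
  obtain ⟨u', hu'⟩ := (AlgSp.yon S).map_surjective (q ≫ p.hom)
  have key : ∀ {A : Scheme.{u}} (φ : A ⟶ Spec (CommRingCat.of k)), UniversallyOpen φ := by
    intro A φ
    have : IsIntegral (Spec (CommRingCat.of k)) := inferInstance
    have : Subsingleton ↥(Spec (CommRingCat.of k)) :=
      inferInstanceAs (Subsingleton (PrimeSpectrum k))
    infer_instance
  have huo : UniversallyOpen u'.left := key u'.left
  have h1 : AlgSp.RepWith @UniversallyOpen ((AlgSp.yon S).map u') :=
    (AlgSp.repWith_yon_map_iff _ _).2 huo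
  have h2 : AlgSp.UnivSp AlgSp.IsOpenMor ((AlgSp.yon S).map u') := by
    rw [UniversallyOpen.eq] at h1
    exact (AlgSp.h5_repWith_universally_iff (fun f => IsOpenMap f) (fun f => IsOpenMap f)
      (fun eA eB φ φ' h => AlgSp.h5_transfer_isOpenMap eA eB φ φ' h)
      (fun sq hq h => AlgSp.h5_isOpenMap_of_quotient_base_change sq hq h) _ h1.rep).1 h1
  rw [hu'] at h2
  intro Z Z' hZ g fst snd sq
  have sq2 : IsPullback (pullback.fst q fst) (pullback.snd q fst) q fst :=
    IsPullback.of_hasPullback _ _
  have sq3 := sq2.paste_vert sq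
  have ho : IsOpenMap (AlgSp.Points.map (pullback.snd q fst ≫ snd)) := h2 hZ g _ _ sq3
  have hsurj : Function.Surjective (AlgSp.Points.map (pullback.snd q fst)) :=
    AlgSp.h5_surjective_of_isPullback sq2 ((AlgSp.h5_repWith_surjective_iff q hs.rep).1 hs)
  show IsOpenMap (AlgSp.Points.map snd)
  intro A hA
  have : AlgSp.Points.map snd '' A = AlgSp.Points.map (pullback.snd q fst ≫ snd) ''
      (AlgSp.Points.map (pullback.snd q fst) ⁻¹' A) := by
    have hcomp : AlgSp.Points.map (pullback.snd q fst ≫ snd) =
        AlgSp.Points.map snd ∘ AlgSp.Points.map (pullback.snd q fst) := by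
      funext x
      exact AlgSp.Points.map_comp _ _ x
    rw [hcomp, Set.image_comp, Set.image_preimage_eq _ hsurj]
  rw [this]
  exact ho _ (hA.preimage (AlgSp.Points.continuous_map _))

end Groth.Agent.S9911
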