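import Groth.Statements.S10125
import Mathlib
import Groth.Agent.S9911
import Groth.Agent.Lib.helper5.AlgSpLocP
import Groth.Agent.Lib.helper5.AlgSpLocPInst
import Groth.Agent.Lib.helper5.AlgSpPb

set_option autoImplicit false
universe u
open CategoryTheory CategoryTheory.Limits AlgebraicGeometry MonoidalCategory MonObj
open AlgSp

namespace Groth.Agent.S10125

universe v' u'

open CartesianMonoidalCategory in
theorem h5_isPullback_mul_fst {C : Type u'} [Category.{v'} C] [CartesianMonoidalCategory C] (A : C)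
    [GrpObj A] : IsPullback μ[A] (fst A A) (toUnit A) (toUnit A) := by
  refine ⟨⟨toUnit_unique _ _⟩, ⟨PullbackCone.IsLimit.mk _
    (fun s => lift s.snd (lift (s.snd ≫ ι) s.fst ≫ μ)) ?_ ?_ ?_⟩⟩
  · intro s
    rw [← lift_lift_assoc, GrpObj.lift_comp_inv_right, lift_comp_one_left]
  · intro s
    simp
  · intro s m hm1 hm2
    apply CartesianMonoidalCategory.hom_ext
    · simpa using hm2
    · rw [lift_snd, GrpObj.eq_lift_inv_left, ← hm2, ← hm1, ← comp_lift_assoc, lift_fst_snd,
        Category.id_comp]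

theorem h5_univSp_of_isPullback {S : Scheme.{u}} (Q : MorphismProperty (AlgSp.Sp S))
    {F G G' P : AlgSp.Sp S} {f : F ⟶ G} {g : G' ⟶ G} {a : P ⟶ F} {b : P ⟶ G'}
    (sq : IsPullback a b f g) (hf : AlgSp.UnivSp Q f) : AlgSp.UnivSp Q b := by
  intro Z Z' hZ h fst snd sqZ
  exact hf hZ (h ≫ g) (fst ≫ a) snd (sqZ.paste_horiz sq)

/-- For a group algebraic space `G` over a field `k`, the multiplication `m` of `G`, a morphism `G ×_k G
⟶ G`, is both flat and universally open. (The published situation allows any base scheme `S` with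
`k` a field over `S`; this row takes `S = Spec k`.) -/
theorem result (k : Type u) [Field k]
    (G : Over ((AlgSp.yon (Spec (CommRingCat.of k))).obj (Over.mk (𝟙 _)))) [GrpObj G]
    (hG : AlgSp.IsAlgSpace G.left) :
    AlgSp.LocP @Flat (μ[G]).left ∧ AlgSp.IsUnivOpenMor (μ[G]).left := by
  have sqO := h5_isPullback_mul_fst G
  have sq : IsPullback (μ[G]).left (CartesianMonoidalCategory.fst G G).left G.hom G.hom :=
    sqO.map (Over.forget _)
  have hBs : AlgSp.IsAlgSpace ((AlgSp.yon (Spec (CommRingCat.of k))).obj (Over.mk (𝟙 _))) :=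
    AlgSp.IsAlgSpace.yon_obj _
  have hflat : AlgSp.LocP @Flat G.hom := by
    intro U V a b h ha hb comm
    obtain ⟨b', rfl⟩ := (AlgSp.yon _).map_surjective b
    have hb' : Etale b'.left := (AlgSp.repWith_yon_map_iff _ _).1 hb
    haveI : Subsingleton ↥(Over.mk (𝟙 (Spec (CommRingCat.of k)))).left :=
      (inferInstance : Subsingleton ↥(Spec (CommRingCat.of k)))
    haveI : IsIntegral (Over.mk (𝟙 (Spec (CommRingCat.of k)))).left :=
      (inferInstance : IsIntegral (Spec (CommRingCat.of k)))
    haveI : Flat (h.left ≫ b'.left) := inferInstance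
    exact AlgSp.h5_good_flat.cancel h.left b'.left hb' inferInstance
  have hopen : AlgSp.IsUnivOpenMor G.hom :=
    Groth.Agent.S9911.result (X := ⟨G.left, hG⟩) (𝟙 _) (ObjectProperty.homMk G.hom)
  constructor
  · exact AlgSp.h5_locP_baseChange AlgSp.h5_good_flat hG hBs hG sq.flip hflat
  · exact h5_univSp_of_isPullback _ sq.flip hopen

end Groth.Agent.S10125
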