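import Groth.Statements.S10142
import Mathlib
import Groth.Agent.Lib.helper5.Gpd

set_option autoImplicit false
universe u
open CategoryTheory CategoryTheory.Limits AlgebraicGeometry
open AlgSp AlgSp.GroupoidSp

namespace Groth.Agent.S10142

/-- For a groupoid in algebraic spaces `(U, R, s, t, c, e, i)` over `B`: the square with sides `c : R
×_{s,U,t} R ⟶ R`, `pr_1 : R ×_{s,U,t} R ⟶ R`, `s` and `s` is cartesian, and the morphism `R
×_{t,U,t} R ⟶ R ×_{s,U,t} R`, `(α, β) ↦ (α, i(α) ∘ β)`, is an isomorphism whose composite with `c`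
is the second projection `pr_1 : R ×_{t,U,t} R ⟶ R`. (The published statement also lists the square
formed by `pr_0`, `pr_1`, `s`, `t`, which is cartesian by definition of the fibre product.) -/
theorem result (S : Scheme.{u}) (B : AlgSp.Sp S) (hB : AlgSp.IsAlgSpace B)
    (G : AlgSp.GroupoidSp B) (hU : AlgSp.IsAlgSpace G.U) (hR : AlgSp.IsAlgSpace G.R) :
    IsPullback G.c (pullback.snd G.s G.t) G.s G.s ∧
      ∀ φ : pullback G.t G.t ⟶ pullback G.s G.t,
        φ ≫ pullback.fst G.s G.t = pullback.fst G.t G.t →
        φ ≫ pullback.snd G.s G.t =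
          pullback.lift (pullback.fst G.t G.t ≫ G.i) (pullback.snd G.t G.t)
            ((Category.assoc _ _ _).trans ((congrArg (pullback.fst G.t G.t ≫ ·) G.i_s).trans pullback.condition)) ≫ G.c →
        IsIso φ ∧ φ ≫ G.c = pullback.snd G.t G.t := by
  have hlift : ∀ {T : AlgSp.Sp S} (a b : T ⟶ G.R) (h : a ≫ G.s = b ≫ G.t),
      pullback.lift a b h ≫ G.c = G.h5comp a b h := fun _ _ _ => rfl
  have hm : ∀ {T : AlgSp.Sp S} (m : T ⟶ pullback G.s G.t),
      m ≫ G.c = G.h5comp (m ≫ pullback.fst _ _) (m ≫ pullback.snd _ _)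
        (by rw [Category.assoc, Category.assoc, pullback.condition]) := by
    intro T m
    rw [← hlift]
    congr 1
    apply pullback.hom_ext
    · rw [pullback.lift_fst]
    · rw [pullback.lift_snd]
  have hw : G.c ≫ G.s = pullback.snd G.s G.t ≫ G.s := by
    have h1 := hm (𝟙 (pullback G.s G.t))
    rw [Category.id_comp] at h1
    rw [h1, G.h5comp_s, Category.id_comp]
  constructor
  · refine IsPullback.of_isLimit (c := PullbackCone.mk _ _ hw)
      (PullbackCone.IsLimit.mk hw
        (fun c => pullback.lift
          (G.h5comp c.fst (c.snd ≫ G.i) (by rw [Category.assoc, G.i_t]; exact c.condition))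
          c.snd (by rw [G.h5comp_s, Category.assoc, G.i_s])) ?_ ?_ ?_)
    · intro c
      rw [hlift]
      exact G.h5comp_i_comp c.fst c.snd c.condition
    · intro c
      rw [pullback.lift_snd]
    · intro c m h1 h2
      apply pullback.hom_ext
      · rw [pullback.lift_fst]
        have h3 := hm m
        rw [h1] at h3
        have h4 := G.h5comp_comp_i (m ≫ pullback.fst _ _) (m ≫ pullback.snd _ _)
          (by rw [Category.assoc, Category.assoc, pullback.condition])
        rw [← h4]
        exact G.h5comp_congr h3.symm (by rw [h2]) _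
      · rw [pullback.lift_snd, h2]
  · intro φ h1 h2
    have hcond : pullback.fst G.s G.t ≫ G.t = G.c ≫ G.t := by
      have h3 := hm (𝟙 (pullback G.s G.t))
      rw [Category.id_comp] at h3
      rw [h3, G.h5comp_t, Category.id_comp]
    let ψ : pullback G.s G.t ⟶ pullback G.t G.t :=
      pullback.lift (pullback.fst G.s G.t) G.c hcond
    have hψ1 : ψ ≫ pullback.fst G.t G.t = pullback.fst G.s G.t := pullback.lift_fst _ _ _
    have hψ2 : ψ ≫ pullback.snd G.t G.t = G.c := pullback.lift_snd _ _ _
    have h2' : φ ≫ pullback.snd G.s G.t = G.h5comp (pullback.fst G.t G.t ≫ G.i)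
        (pullback.snd G.t G.t) (by rw [Category.assoc, G.i_s, pullback.condition]) := by
      rw [h2, hlift]
    have hφc : φ ≫ G.c = pullback.snd G.t G.t := by
      rw [hm φ]
      have h5 := G.h5comp_i_comp' (pullback.fst G.t G.t) (pullback.snd G.t G.t) pullback.condition
      rw [← h5]
      exact G.h5comp_congr h1 h2' _
    have hφψ : φ ≫ ψ = 𝟙 _ := by
      apply pullback.hom_ext
      · rw [Category.assoc, hψ1, h1, Category.id_comp]
      · rw [Category.assoc, hψ2, hφc, Category.id_comp]
    have hψφ : ψ ≫ φ = 𝟙 _ := by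
      apply pullback.hom_ext
      · rw [Category.assoc, h1, hψ1, Category.id_comp]
      · rw [Category.assoc, h2', G.h5_precomp, Category.id_comp]
        have h6 := G.h5i_comp_comp (pullback.fst G.s G.t) (pullback.snd G.s G.t) pullback.condition
        rw [← h6]
        refine G.h5comp_congr (by rw [← Category.assoc, hψ1]) ?_ _
        rw [hψ2]
        have h3 := hm (𝟙 (pullback G.s G.t))
        rw [Category.id_comp] at h3
        rw [h3]
        exact G.h5comp_congr (Category.id_comp _) (Category.id_comp _) _
    exact ⟨⟨ψ, hφψ, hψφ⟩, hφc⟩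

end Groth.Agent.S10142
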