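import Groth.Statements.S10126
import Mathlib
import Groth.Agent.S9911
import Groth.Agent.S10142
import Groth.Agent.Lib.helper5.AlgSpLocP
import Groth.Agent.Lib.helper5.AlgSpLocPInst

set_option autoImplicit false
universe u
open CategoryTheory CategoryTheory.Limits AlgebraicGeometry
open AlgSp AlgSp.GroupoidSp

namespace Groth.Agent.S10126

theorem h5_univSp_of_isPullback {S : Scheme.{u}} (Q : MorphismProperty (AlgSp.Sp S))
    {F G G' P : AlgSp.Sp S} {f : F ⟶ G} {g : G' ⟶ G} {a : P ⟶ F} {b : P ⟶ G'}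
    (sq : IsPullback a b f g) (hf : AlgSp.UnivSp Q f) : AlgSp.UnivSp Q b := by
  intro Z Z' hZ h fst snd sqZ
  exact hf hZ (h ≫ g) (fst ≫ a) snd (sqZ.paste_horiz sq)

/-- Every morphism from an algebraic space to the spectrum of a field is flat and universally
open. -/
theorem h5_flat_univOpen_to_field {S : Scheme.{u}} {R : AlgSp.Sp S} (hR : AlgSp.IsAlgSpace R)
    (k : Type u) [Field k] (σ : Spec (CommRingCat.of k) ⟶ S)
    (s' : R ⟶ (AlgSp.yon S).obj (Over.mk σ)) :
    AlgSp.LocP @Flat s' ∧ AlgSp.IsUnivOpenMor s' := by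
  constructor
  · intro U V a b h ha hb comm
    obtain ⟨b', rfl⟩ := (AlgSp.yon _).map_surjective b
    have hb' : Etale b'.left := (AlgSp.repWith_yon_map_iff _ _).1 hb
    haveI : Subsingleton ↥(Over.mk σ).left :=
      (inferInstance : Subsingleton ↥(Spec (CommRingCat.of k)))
    haveI : IsIntegral (Over.mk σ).left :=
      (inferInstance : IsIntegral (Spec (CommRingCat.of k)))
    haveI : Flat (h.left ≫ b'.left) := inferInstance
    exact AlgSp.h5_good_flat.cancel h.left b'.left hb' inferInstance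
  · exact Groth.Agent.S9911.result (X := ⟨R, hR⟩) σ (ObjectProperty.homMk s')

/-- Let `(U, R, s, t, c)` be a groupoid in algebraic spaces over `B` whose object space is `U = Spec k`,
with `k` a field. Then the composition `c : R ×_{s, U, t} R ⟶ R` is flat and universally open. -/
theorem result (S : Scheme.{u}) (B : AlgSp.Sp S) (hB : AlgSp.IsAlgSpace B)
    (G : AlgSp.GroupoidSp B) (hR : AlgSp.IsAlgSpace G.R) (k : Type u) [Field k]
    (σ : Spec (CommRingCat.of k) ⟶ S) (eU : G.U ≅ (AlgSp.yon S).obj (Over.mk σ)) :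
    AlgSp.LocP @Flat G.c ∧ AlgSp.IsUnivOpenMor G.c := by
  have hU : AlgSp.IsAlgSpace G.U :=
    AlgSp.IsAlgSpace.of_iso (AlgSp.IsAlgSpace.yon_obj (Over.mk σ)) eU.symm
  have sq := (Groth.Agent.S10142.result S B hB G hU hR).1
  obtain ⟨h1, h2⟩ := h5_flat_univOpen_to_field hR k σ (G.s ≫ eU.hom)
  have sqs : IsPullback (𝟙 G.R) G.s (G.s ≫ eU.hom) eU.hom :=
    IsPullback.of_horiz_isIso ⟨by rw [Category.id_comp]⟩
  have h1s : AlgSp.LocP @Flat G.s :=
    AlgSp.h5_locP_baseChange AlgSp.h5_good_flat hR (AlgSp.IsAlgSpace.yon_obj (Over.mk σ)) hU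
      sqs h1
  have h2s : AlgSp.IsUnivOpenMor G.s := h5_univSp_of_isPullback _ sqs h2
  constructor
  · exact AlgSp.h5_locP_baseChange AlgSp.h5_good_flat hR hU hR sq.flip h1s
  · exact h5_univSp_of_isPullback _ sq.flip h2s

end Groth.Agent.S10126
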