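import Groth.Statements.S10130
import Mathlib
import Groth.Agent.Lib.helper5.AlgSpOpen2
import Groth.Agent.Lib.helper5.AlgSpPts

set_option autoImplicit false
universe u
open CategoryTheory CategoryTheory.Limits AlgebraicGeometry
open AlgSp AlgSp.GroupoidSp

namespace Groth.Agent.S10130

/-- Let `(U, R, s, t, c)` be a groupoid in algebraic spaces over `B` with `s, t` open. For every open
subspace `W ⊂ U`, the open subspace `s(t⁻¹(W))` of `U` is `R`-invariant. -/
theorem result (S : Scheme.{u}) (B : AlgSp.Sp S) (hB : AlgSp.IsAlgSpace B)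
    (G : AlgSp.GroupoidSp B) (hU : AlgSp.IsAlgSpace G.U) (hR : AlgSp.IsAlgSpace G.R)
    (hs : AlgSp.IsOpenMor G.s) (ht : AlgSp.IsOpenMor G.t)
    (W W' : AlgSp.Sp S) (w : W ⟶ G.U) (w' : W' ⟶ G.U)
    (hw : AlgSp.RepWith @IsOpenImmersion w) (hw' : AlgSp.RepWith @IsOpenImmersion w')
    (himg : Set.range (AlgSp.Points.map w') =
      AlgSp.Points.map G.s '' (AlgSp.Points.map G.t ⁻¹' Set.range (AlgSp.Points.map w))) :
    G.IsInvariant w' := by
  have hcs : G.c ≫ G.s = pullback.snd G.s G.t ≫ G.s := by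
    have := G.comp_s (pullback.fst G.s G.t) (pullback.snd G.s G.t) pullback.condition
    have e : pullback.lift (pullback.fst G.s G.t) (pullback.snd G.s G.t) pullback.condition =
        𝟙 _ := by apply pullback.hom_ext <;> simp
    rw [e, Category.id_comp] at this
    exact this
  have hct : G.c ≫ G.t = pullback.fst G.s G.t ≫ G.t := by
    have := G.comp_t (pullback.fst G.s G.t) (pullback.snd G.s G.t) pullback.condition
    have e : pullback.lift (pullback.fst G.s G.t) (pullback.snd G.s G.t) pullback.condition =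
        𝟙 _ := by apply pullback.hom_ext <;> simp
    rw [e, Category.id_comp] at this
    exact this
  have hcomp : ∀ ρ' ρ : AlgSp.Points G.R, AlgSp.Points.map G.s ρ' = AlgSp.Points.map G.t ρ →
      ∃ γ : AlgSp.Points G.R, AlgSp.Points.map G.s γ = AlgSp.Points.map G.s ρ ∧
        AlgSp.Points.map G.t γ = AlgSp.Points.map G.t ρ' := by
    intro ρ' ρ h
    obtain ⟨σ, h1, h2⟩ := AlgSp.h5_points_exists_of_isPullback
      (IsPullback.of_hasPullback G.s G.t) ρ' ρ h
    refine ⟨AlgSp.Points.map G.c σ, ?_, ?_⟩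
    · rw [← AlgSp.Points.map_comp, hcs, AlgSp.Points.map_comp, h2]
    · rw [← AlgSp.Points.map_comp, hct, AlgSp.Points.map_comp, h1]
  set O := Set.range (AlgSp.Points.map w') with hO
  have hinv : ∀ ρ : AlgSp.Points G.R, AlgSp.Points.map G.t ρ ∈ O ↔ AlgSp.Points.map G.s ρ ∈ O := by
    intro ρ
    rw [himg]
    constructor
    · rintro ⟨ρ', hρ', h⟩
      obtain ⟨γ, hγ1, hγ2⟩ := hcomp ρ' ρ h
      exact ⟨γ, by rw [Set.mem_preimage, hγ2]; exact hρ', hγ1⟩
    · rintro ⟨ρ', hρ', h⟩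
      have h' : AlgSp.Points.map G.s ρ' = AlgSp.Points.map G.t (AlgSp.Points.map G.i ρ) := by
        rw [← AlgSp.Points.map_comp, G.i_t, h]
      obtain ⟨γ, hγ1, hγ2⟩ := hcomp ρ' _ h'
      refine ⟨γ, by rw [Set.mem_preimage, hγ2]; exact hρ', ?_⟩
      rw [hγ1, ← AlgSp.Points.map_comp, G.i_s]
  have hfac : ∀ {T : Over S} (b : (AlgSp.yon S).obj T ⟶ G.U),
      (∃ a : (AlgSp.yon S).obj T ⟶ W', a ≫ w' = b) ↔ ∀ τ : ↥T.left, AlgSp.Points.ofPt b τ ∈ O := by
    intro T b
    constructor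
    · rintro ⟨a, rfl⟩ τ
      exact ⟨AlgSp.Points.ofPt a τ, AlgSp.Points.map_ofPt a w' τ⟩
    · intro h
      exact AlgSp.h5_exists_lift_of_openImmersion w' hw' b h
  intro T r
  rw [hfac, hfac]
  constructor
  · intro h τ
    have := h τ
    rw [← AlgSp.Points.map_ofPt] at this ⊢
    exact (hinv _).1 this
  · intro h τ
    have := h τ
    rw [← AlgSp.Points.map_ofPt] at this ⊢
    exact (hinv _).2 this

end Groth.Agent.S10130
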