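import Groth.Statements.S10131
import Mathlib
import Groth.Agent.S10130
import Groth.Agent.Lib.helper5.AlgSpQc3

set_option autoImplicit false
universe u
open CategoryTheory CategoryTheory.Limits AlgebraicGeometry
open AlgSp AlgSp.GroupoidSp

namespace Groth.Agent.S10131

/-- Let `(U, R, s, t, c)` be a groupoid in algebraic spaces over `B` with `s, t` open and quasi-compact.
Then `U` has an open covering by `R`-invariant quasi-compact open subspaces. -/
theorem result (S : Scheme.{u}) (B : AlgSp.Sp S) (hB : AlgSp.IsAlgSpace B)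
    (G : AlgSp.GroupoidSp B) (hU : AlgSp.IsAlgSpace G.U) (hR : AlgSp.IsAlgSpace G.R)
    (hs : AlgSp.IsOpenMor G.s ∧ AlgSp.IsQuasiCompactMor G.s) (ht : AlgSp.IsOpenMor G.t ∧ AlgSp.IsQuasiCompactMor G.t)
    (x : AlgSp.Points G.U) :
    ∃ (W : AlgSp.Sp S) (w : W ⟶ G.U), AlgSp.RepWith @IsOpenImmersion w ∧ G.IsInvariant w ∧
      AlgSp.IsQuasiCompactSp W ∧ x ∈ Set.range (AlgSp.Points.map w) := by
  obtain ⟨W0, hW0o, hW0c, hxW0, -⟩ := AlgSp.h5_exists_isOpen_isCompact_nhd hU x Set.univ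
    isOpen_univ (Set.mem_univ x)
  set O : Set (AlgSp.Points G.U) :=
    AlgSp.Points.map G.s '' (AlgSp.Points.map G.t ⁻¹' W0) with hOdef
  have hOo : IsOpen O := hs.1 _ (hW0o.preimage (AlgSp.Points.continuous_map G.t))
  have hOc : IsCompact O :=
    (AlgSp.h5_isCompact_preimage_of_isQuasiCompactMor hR hU G.t ht.2 W0 hW0o hW0c).image
      (AlgSp.Points.continuous_map G.s)
  have hxO : x ∈ O := by
    refine ⟨AlgSp.Points.map G.e x, ?_, ?_⟩
    · rw [Set.mem_preimage, ← AlgSp.Points.map_comp, G.e_t]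
      have : AlgSp.Points.map (𝟙 G.U) x = x := AlgSp.Points.map_id x
      rw [this]; exact hxW0
    · rw [← AlgSp.Points.map_comp, G.e_s]
      exact AlgSp.Points.map_id x
  have hW' := AlgSp.h5_openSp_isAlgSpace hU hOo
  have hrep := AlgSp.h5_openSp_repWith (F := G.U) hOo
  have hemb := AlgSp.h5_isOpenEmbedding_map_of_openImmersion hW' _ hrep
  have hc : CompactSpace (AlgSp.Points (AlgSp.h5_openSp G.U O)) := by
    rw [← isCompact_univ_iff, hemb.isCompact_iff, Set.image_univ, AlgSp.h5_openSp_range]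
    exact hOc
  refine ⟨AlgSp.h5_openSp G.U O, AlgSp.h5_openSpι G.U O, hrep, ?_,
    (AlgSp.h5_isQuasiCompactSp_iff hW').2 hc, ?_⟩
  · refine Groth.Agent.S10130.result S B hB G hU hR hs.1 ht.1 (AlgSp.h5_openSp G.U W0)
      (AlgSp.h5_openSp G.U O) (AlgSp.h5_openSpι G.U W0) (AlgSp.h5_openSpι G.U O)
      (AlgSp.h5_openSp_repWith (F := G.U) hW0o) hrep ?_
    rw [AlgSp.h5_openSp_range, AlgSp.h5_openSp_range]
  · rw [AlgSp.h5_openSp_range]
    exact hxO

end Groth.Agent.S10131
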