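import Groth.Statements.S10145
import Mathlib
import Groth.Agent.Lib.helper5.Gpd

set_option autoImplicit false
universe u
open CategoryTheory CategoryTheory.Limits AlgebraicGeometry
open AlgSp AlgSp.GroupoidSp

namespace Groth.Agent.S10145

/-- Let `(U, R, s, t, c)` be a groupoid in algebraic spaces over `B` whose object space is `U = Spec k`,
and let `r : Spec k ⟶ R` be such that `s ∘ r` and `t ∘ r` are automorphisms of `Spec k`; write `a =
r ∘ (s ∘ r)⁻¹`, so that `s ∘ a = id` and `t ∘ a` is an automorphism. Then `R ⟶ R`, `f ↦ c(a ∘ t ∘ f,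
f)`, is an automorphism of `R` mapping `e` to `a` (the point `r`). -/
theorem result (S : Scheme.{u}) (B : AlgSp.Sp S) (hB : AlgSp.IsAlgSpace B)
    (G : AlgSp.GroupoidSp B) (hR : AlgSp.IsAlgSpace G.R) (k : Type u) [Field k]
    (σ : Spec (CommRingCat.of k) ⟶ S) (eU : G.U ≅ (AlgSp.yon S).obj (Over.mk σ))
    (a : G.U ⟶ G.R) (ha : a ≫ G.s = 𝟙 G.U) [IsIso (a ≫ G.t)] :
    IsIso (pullback.lift (G.t ≫ a) (𝟙 G.R) (((Category.assoc _ _ _).trans (congrArg (G.t ≫ ·) ha)).trans ((Category.comp_id _).trans (Category.id_comp _).symm)) ≫ G.c) ∧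
      G.e ≫ (pullback.lift (G.t ≫ a) (𝟙 G.R) (((Category.assoc _ _ _).trans (congrArg (G.t ≫ ·) ha)).trans ((Category.comp_id _).trans (Category.id_comp _).symm)) ≫ G.c) = a := by
  set τ := a ≫ G.t with hτ
  have hcondΦ : (G.t ≫ a) ≫ G.s = 𝟙 G.R ≫ G.t := by
    rw [Category.assoc, ha, Category.comp_id, Category.id_comp]
  have hΦ : pullback.lift (G.t ≫ a) (𝟙 G.R) (((Category.assoc _ _ _).trans
      (congrArg (G.t ≫ ·) ha)).trans ((Category.comp_id _).trans (Category.id_comp _).symm)) ≫ G.c =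
      G.h5comp (G.t ≫ a) (𝟙 G.R) hcondΦ := rfl
  rw [hΦ]
  set Φ := G.h5comp (G.t ≫ a) (𝟙 G.R) hcondΦ with hΦdef
  have hτ1 : inv τ ≫ a ≫ G.t = 𝟙 _ := IsIso.inv_hom_id τ
  have hτ2 : a ≫ G.t ≫ inv τ = 𝟙 _ := by
    rw [← Category.assoc]; exact IsIso.hom_inv_id τ
  have hcondΨ : (G.t ≫ inv τ ≫ a ≫ G.i) ≫ G.s = 𝟙 G.R ≫ G.t := by
    simp only [Category.assoc, G.i_s]
    rw [hτ1, Category.comp_id, Category.id_comp]
  let Ψ := G.h5comp (G.t ≫ inv τ ≫ a ≫ G.i) (𝟙 G.R) hcondΨ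
  have hΦt : Φ ≫ G.t = G.t ≫ a ≫ G.t := by
    rw [hΦdef, G.h5comp_t, Category.assoc]
  have hΨt : Ψ ≫ G.t = G.t ≫ inv τ := by
    show G.h5comp _ _ _ ≫ G.t = _
    rw [G.h5comp_t]
    simp only [Category.assoc, G.i_t]
    rw [ha, Category.comp_id]
  have h1 : Φ ≫ Ψ = 𝟙 _ := by
    show Φ ≫ G.h5comp _ _ _ = _
    rw [G.h5_precomp]
    have h6 := G.h5i_comp_comp (G.t ≫ a) (𝟙 G.R) hcondΦ
    refine (G.h5comp_congr ?_ ?_ _).trans h6
    · rw [← Category.assoc, hΦt]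
      simp only [Category.assoc]
      rw [reassoc_of% hτ2]
    · rw [Category.comp_id]
  have h2 : Ψ ≫ Φ = 𝟙 _ := by
    rw [hΦdef, G.h5_precomp]
    have hα : (G.t ≫ inv τ ≫ a) ≫ G.t = 𝟙 G.R ≫ G.t := by
      simp only [Category.assoc]
      rw [hτ1, Category.comp_id, Category.id_comp]
    have h6 := G.h5comp_i_comp' (G.t ≫ inv τ ≫ a) (𝟙 G.R) hα
    refine (G.h5comp_congr ?_ ?_ _).trans h6
    · rw [← Category.assoc, hΨt, Category.assoc]
    · rw [Category.comp_id]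
      exact G.h5comp_congr (by simp only [Category.assoc]) rfl _
  refine ⟨⟨Ψ, h1, h2⟩, ?_⟩
  rw [hΦdef, G.h5_precomp]
  refine (G.h5comp_congr (by rw [← Category.assoc, G.e_t, Category.id_comp])
    (Category.comp_id _) _).trans ?_
  refine G.h5comp_e a G.e ?_ _
  rw [← Category.assoc, ha, Category.id_comp]

end Groth.Agent.S10145
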