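import Groth.Statements.S10148
import Mathlib
import Groth.Agent.Lib.helper5.LinTopAdic

set_option autoImplicit false
universe u
open LinTop Polynomial Filter
open scoped Ring

namespace Groth.Agent.S10148

/-- Let A be a weakly admissible topological ring (linearly topologized, Hausdorff and complete, having
a weak ideal of definition) and let I be a weak ideal of definition of A, that is, an open ideal
consisting of topologically nilpotent elements. Then (A, I) is a henselian pair. -/
theorem result
    (A : Type u) [CommRing A] [UniformSpace A] [IsUniformAddGroup A] [IsTopologicalRing A]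
    (hA : LinTop.IsWeaklyAdmissible A) (I : Ideal A) (hI : LinTop.IsWeakIdealOfDefinition A I) :
    HenselianRing A I := by
  obtain ⟨⟨hlin, -⟩, hT2, hC⟩ := hA
  haveI := hlin
  haveI := hT2
  haveI := hC
  haveI : NonarchimedeanAddGroup A := h5_nonarchimedeanAddGroup
  obtain ⟨hIo, hIn⟩ := hI
  have hjac : I ≤ Ideal.jacobson ⊥ := by
    intro x hx
    rw [Ideal.mem_jacobson_bot]
    intro y
    have hz : IsTopologicallyNilpotent (-(x * y)) :=
      hIn _ (I.neg_mem (I.mul_mem_right y hx))
    have hsum : Summable (fun n : ℕ => (-(x * y)) ^ n) := by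
      refine NonarchimedeanAddGroup.summable_of_tendsto_cofinite_zero ?_
      rw [Nat.cofinite_eq_atTop]
      exact hz
    obtain ⟨S, hS⟩ := hsum
    have h1 : HasSum (fun n : ℕ => (-(x * y)) * (-(x * y)) ^ n) (-(x * y) * S) := hS.mul_left _
    have h2 : HasSum (fun n : ℕ => (-(x * y)) ^ (n + 1)) (S - 1) := by
      have := (hasSum_nat_add_iff' 1).2 hS
      simpa using this
    have h3 : -(x * y) * S = S - 1 := by
      refine h1.unique ?_
      simpa only [pow_succ'] using h2
    refine isUnit_iff_exists_inv.2 ⟨S, ?_⟩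
    linear_combination (-1 : A) * h3
  refine ⟨hjac, ?_⟩
  intro f _ a₀ h₁ h₂
  classical
  let f' := derivative f
  obtain ⟨K, hKdef⟩ : ∃ K : Ideal A, K = Ideal.span {f.eval a₀} := ⟨_, rfl⟩
  have h₁K : f.eval a₀ ∈ K := by
    rw [hKdef]
    exact Ideal.mem_span_singleton_self _
  have hKI : K ≤ I := by
    rw [hKdef, Ideal.span_singleton_le_iff_mem]
    exact h₁
  let c : ℕ → A := fun n => Nat.recOn n a₀ fun _ b => b - f.eval b * (f'.eval b)⁻¹ʳ
  have hc : ∀ n, c (n + 1) = c n - f.eval (c n) * (f'.eval (c n))⁻¹ʳ := by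
    intro n
    simp only [c]
  have hc_mod : ∀ n, c n ≡ a₀ [SMOD K] := by
    intro n
    induction n with
    | zero => rfl
    | succ n ih => ?_
    rw [hc, sub_eq_add_neg, ← add_zero a₀]
    refine ih.add ?_
    rw [SModEq.zero, Ideal.neg_mem_iff]
    refine K.mul_mem_right _ ?_
    rw [← SModEq.zero] at h₁K ⊢
    exact (ih.eval f).trans h₁K
  have hf'c : ∀ n, IsUnit (f'.eval (c n)) := by
    intro n
    have := isLocalHom_of_le_jacobson_bot I hjac
    apply IsUnit.of_map (Ideal.Quotient.mk I)
    convert h₂ using 1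
    exact SModEq.def.mp (((hc_mod n).mono hKI).eval _)
  have hfcI : ∀ n, f.eval (c n) ∈ K ^ (n + 1) := by
    intro n
    induction n with
    | zero =>
      rw [zero_add, pow_one]
      exact h₁K
    | succ n ih => ?_
    rw [← taylor_eval_sub (c n), hc, sub_eq_add_neg, sub_eq_add_neg,
      add_neg_cancel_comm]
    rw [eval_eq_sum, sum_over_range' _ _ _ (lt_add_of_pos_right _ zero_lt_two), ←
      Finset.sum_range_add_sum_Ico _ (Nat.le_add_left _ _)]
    swap
    · intro i
      rw [zero_mul]
    refine Ideal.add_mem _ ?_ ?_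
    · rw [← one_add_one_eq_two, Finset.sum_range_succ, Finset.range_one, Finset.sum_singleton,
        taylor_coeff_zero, taylor_coeff_one, pow_zero, pow_one, mul_one, mul_neg,
        mul_left_comm, Ring.mul_inverse_cancel _ (hf'c n), mul_one, add_neg_cancel]
      exact Ideal.zero_mem _
    · refine Submodule.sum_mem _ ?_
      simp only [Finset.mem_Ico]
      rintro i ⟨h2i, _⟩
      have aux : n + 2 ≤ i * (n + 1) := by trans 2 * (n + 1) <;> nlinarith only [h2i]
      refine Ideal.mul_mem_left _ _ (Ideal.pow_le_pow_right aux ?_)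
      rw [pow_mul']
      exact Ideal.pow_mem_pow ((Ideal.neg_mem_iff _).2 <| Ideal.mul_mem_right _ _ ih) _
  have hKlim : ∀ U ∈ nhds (0 : A), ∃ N, ∀ n, N ≤ n → ((K ^ n : Ideal A) : Set A) ⊆ U := by
    intro U hU
    obtain ⟨L, hL, hLU⟩ := h5_exists_open_ideal_subset hU
    obtain ⟨N, hN⟩ := (h5_isTopologicallyNilpotent_iff (f.eval a₀)).1 (hIn _ h₁) L hL
    refine ⟨N, fun n hn => (SetLike.coe_subset_coe.2 ?_).trans hLU⟩
    rw [hKdef, Ideal.span_singleton_pow, Ideal.span_singleton_le_iff_mem]
    obtain ⟨k, rfl⟩ := Nat.exists_eq_add_of_le hn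
    rw [pow_add]
    exact L.mul_mem_right _ hN
  have hdiff : Tendsto (fun n => c (n + 1) - c n) atTop (nhds 0) := by
    intro U hU
    obtain ⟨N, hN⟩ := hKlim U hU
    refine Filter.mem_map.2 ?_
    filter_upwards [eventually_ge_atTop N] with n hn
    refine hN n hn ?_
    show c (n + 1) - c n ∈ K ^ n
    rw [hc, sub_sub_cancel_left]
    exact (Ideal.neg_mem_iff _).2
      (Ideal.mul_mem_right _ _ (Ideal.pow_le_pow_right (Nat.le_succ n) (hfcI n)))
  have hcauchy : CauchySeq c := NonarchimedeanAddGroup.cauchySeq_of_tendsto_sub_nhds_zero hdiff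
  obtain ⟨a, ha⟩ := cauchySeq_tendsto_of_complete hcauchy
  refine ⟨a, ?_, ?_⟩
  · show f.eval a = 0
    have h1 : Tendsto (fun n => f.eval (c n)) atTop (nhds (f.eval a)) :=
      (f.continuous.tendsto a).comp ha
    have h2 : Tendsto (fun n => f.eval (c n)) atTop (nhds 0) := by
      intro U hU
      obtain ⟨N, hN⟩ := hKlim U hU
      refine Filter.mem_map.2 ?_
      filter_upwards [eventually_ge_atTop N] with n hn
      exact hN n hn (Ideal.pow_le_pow_right (Nat.le_succ n) (hfcI n))
    exact tendsto_nhds_unique h1 h2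
  · have hclosed : IsClosed (I : Set A) := h5_isClosed_of_isOpen I hIo
    have h1 : Tendsto (fun n => c n - a₀) atTop (nhds (a - a₀)) := ha.sub_const a₀
    refine hclosed.mem_of_tendsto h1 (Filter.Eventually.of_forall fun n => ?_)
    exact hKI (SModEq.sub_mem.1 (hc_mod n))

end Groth.Agent.S10148
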