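import Groth.Statements.S10151
import Mathlib
import Groth.Agent.Lib.helper5.LinTopBasic

set_option autoImplicit false
universe u v w
open LinTop

namespace Groth.Agent.S10151

/-- Given linearly topologized rings A, B, C and continuous ring maps ψ : B → C and φ : A → B, tautness
of the composite A → C implies that ψ is taut. -/
theorem result
    (A : Type u) [CommRing A] [TopologicalSpace A] [IsTopologicalRing A] [IsLinearTopology A A]
    (B : Type v) [CommRing B] [TopologicalSpace B] [IsTopologicalRing B] [IsLinearTopology B B]
    (C : Type w) [CommRing C] [TopologicalSpace C] [IsTopologicalRing C] [IsLinearTopology C C]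
    (φ : A →+* B) (ψ : B →+* C) (hφ : Continuous φ) (hψ : Continuous ψ)
    (h : LinTop.IsTaut (ψ.comp φ)) : LinTop.IsTaut ψ := by
  obtain ⟨_, h2, h3⟩ := h
  refine ⟨hψ, fun J hJ => ?_, fun U hU => ?_⟩
  · have hJ' : IsOpen ((J.comap φ : Ideal A) : Set A) := hJ.preimage hφ
    have := h2 _ hJ'
    have hle : (J.comap φ).map (ψ.comp φ) ≤ J.map ψ := by
      rw [← Ideal.map_map]
      exact Ideal.map_mono Ideal.map_comap_le
    exact h5_isOpen_closure_of_le hle this
  · obtain ⟨I, hI, hIU⟩ := h3 U hU
    refine ⟨(I.map (ψ.comp φ)).closure.comap ψ, ?_, ?_⟩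
    · have : IsOpen (((I.map (ψ.comp φ)).closure : Ideal C) : Set C) := by
        rw [Ideal.coe_closure]
        exact h2 I hI
      exact this.preimage hψ
    · refine (closure_minimal ?_ isClosed_closure).trans hIU
      intro x hx
      have := Ideal.map_comap_le (f := ψ) (K := (I.map (ψ.comp φ)).closure) hx
      rwa [← SetLike.mem_coe, Ideal.coe_closure] at this

end Groth.Agent.S10151
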