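import Groth.Statements.S10154
import Mathlib
import Groth.Agent.Lib.helper5.LinTopBasic

set_option autoImplicit false
universe u v
open LinTop

namespace Groth.Agent.S10154

/-- Let φ : A → B be a taut homomorphism of linearly topologized rings. If A is pre-admissible, then B
is pre-admissible. -/
theorem result
    (A : Type u) [CommRing A] [TopologicalSpace A] [IsTopologicalRing A] [IsLinearTopology A A]
    (B : Type v) [CommRing B] [TopologicalSpace B] [IsTopologicalRing B] [IsLinearTopology B B]
    (φ : A →+* B) (hφ : LinTop.IsTaut φ) (hA : LinTop.IsPreadmissible A) :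
    LinTop.IsPreadmissible B := by
  obtain ⟨_, I₀, hI₀o, hI₀p⟩ := hA
  refine ⟨inferInstance, (I₀.map φ).closure, ?_, fun U hU => ?_⟩
  · rw [Ideal.coe_closure]
    exact hφ.2.1 I₀ hI₀o
  · obtain ⟨I, hI, hIU⟩ := hφ.2.2 U hU
    obtain ⟨n, hn, hnI⟩ := hI₀p I (hI.mem_nhds I.zero_mem)
    refine ⟨n, hn, ?_⟩
    have h1 : (I₀.map φ).closure ^ n ≤ ((I₀.map φ) ^ n).closure := h5_closure_pow_le _ n
    have h2 : ((I₀.map φ) ^ n).closure ≤ (I.map φ).closure := by
      rw [← Ideal.map_pow]
      exact h5_closure_mono (Ideal.map_mono (SetLike.coe_subset_coe.1 hnI))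
    intro x hx
    have := h2 (h1 hx)
    rw [← SetLike.mem_coe, Ideal.coe_closure] at this
    exact hIU this

end Groth.Agent.S10154
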