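import Groth.Statements.S10155
import Mathlib
import Groth.Agent.Lib.helper5.LinTopAdic

set_option autoImplicit false
universe u v
open LinTop Filter

namespace Groth.Agent.S10155

/-- Let φ : A → B be a taut homomorphism of linearly topologized rings with dense image. Assume A is
Hausdorff and complete with a countable fundamental system of open ideals and B is Hausdorff. Then φ
is surjective and open, so that B is the quotient of A by the closed ideal ker φ with the quotient
topology, and B is complete. -/
theorem result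
    (A : Type u) [CommRing A] [UniformSpace A] [IsUniformAddGroup A] [IsTopologicalRing A]
    [IsLinearTopology A A] [T2Space A] [CompleteSpace A] (hA : (nhds (0 : A)).IsCountablyGenerated)
    (B : Type v) [CommRing B] [UniformSpace B] [IsUniformAddGroup B] [IsTopologicalRing B]
    [IsLinearTopology B B] [T2Space B]
    (φ : A →+* B) (hφ : LinTop.IsTaut φ) (hd : DenseRange φ) :
    Function.Surjective φ ∧ IsOpenQuotientMap φ ∧ CompleteSpace B := by
  have hφ' := hφ
  obtain ⟨hc, h2, h3⟩ := hφ
  haveI : NonarchimedeanAddGroup A := h5_nonarchimedeanAddGroup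
  obtain ⟨x, hx, hbasis⟩ :=
    (IsLinearTopology.hasBasis_open_ideal (R := A)).exists_antitone_subbasis
  have hxanti : ∀ {m n : ℕ}, m ≤ n → x n ≤ x m := fun h =>
    SetLike.coe_subset_coe.1 (hbasis.antitone h)
  have hJo : ∀ n, IsOpen ((((x n).map φ).closure : Ideal B) : Set B) := fun n => by
    rw [Ideal.coe_closure]
    exact h2 _ (hx n)
  have hJanti : ∀ {m n : ℕ}, m ≤ n → ((x n).map φ).closure ≤ ((x m).map φ).closure := fun h =>
    h5_closure_mono (Ideal.map_mono (hxanti h))
  have hJbasis : ∀ U ∈ nhds (0 : B), ∃ n, ((((x n).map φ).closure : Ideal B) : Set B) ⊆ U := by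
    intro U hU
    obtain ⟨I, hI, hIU⟩ := h3 U hU
    obtain ⟨n, -, hn⟩ := hbasis.toHasBasis.mem_iff.1 (hI.mem_nhds I.zero_mem)
    refine ⟨n, ?_⟩
    rw [Ideal.coe_closure]
    exact (closure_mono (SetLike.coe_subset_coe.2
      (Ideal.map_mono (SetLike.coe_subset_coe.1 hn)))).trans hIU
  have hdense : ∀ (m : ℕ) (b : B), ∃ a : A, b - φ a ∈ ((x m).map φ).closure := by
    intro m b
    have hnb : (fun y => b + y) '' ((((x m).map φ).closure : Ideal B) : Set B) ∈ nhds b := by
      have := (hJo m).mem_nhds (Ideal.zero_mem _)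
      rw [← map_add_left_nhds_zero b]
      exact Filter.image_mem_map this
    obtain ⟨a, y, hy, hya⟩ := hd.mem_nhds hnb
    have hya' : b + y = φ a := hya
    refine ⟨a, ?_⟩
    have : b - φ a = -y := by
      rw [← hya']
      ring
    rw [this]
    exact (Ideal.neg_mem_iff _).2 hy
  have happrox : ∀ (n m : ℕ) (b : B), b ∈ ((x n).map φ).closure →
      ∃ a ∈ x n, b - φ a ∈ ((x m).map φ).closure := by
    intro n m b hb
    rw [← SetLike.mem_coe, Ideal.coe_closure] at hb
    have h1 := (h5_mem_closure_ideal_iff ((x n).map φ) b).1 hb _ (hJo m)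
    obtain ⟨z, hz, j, hj, hzj⟩ := Submodule.mem_sup.1 h1
    have hz' : ∃ a ∈ x n, z - φ a ∈ ((x m).map φ).closure := by
      rw [Ideal.map] at hz
      refine Submodule.span_induction ?_ ?_ ?_ ?_ hz
      · rintro _ ⟨a, ha, rfl⟩
        exact ⟨a, ha, by rw [sub_self]; exact Ideal.zero_mem _⟩
      · exact ⟨0, Ideal.zero_mem _, by simp⟩
      · rintro z₁ z₂ _ _ ⟨a₁, ha₁, h₁⟩ ⟨a₂, ha₂, h₂⟩
        refine ⟨a₁ + a₂, Ideal.add_mem _ ha₁ ha₂, ?_⟩
        have : z₁ + z₂ - φ (a₁ + a₂) = (z₁ - φ a₁) + (z₂ - φ a₂) := by
          rw [map_add]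
          ring
        rw [this]
        exact Ideal.add_mem _ h₁ h₂
      · rintro b' z₁ _ ⟨a₁, ha₁, h₁⟩
        obtain ⟨a', ha'⟩ := hdense m b'
        refine ⟨a' * a₁, Ideal.mul_mem_left _ _ ha₁, ?_⟩
        have : b' • z₁ - φ (a' * a₁) = (b' - φ a') * z₁ + φ a' * (z₁ - φ a₁) := by
          rw [map_mul, smul_eq_mul]
          ring
        rw [this]
        exact Ideal.add_mem _ (Ideal.mul_mem_right _ _ ha') (Ideal.mul_mem_left _ _ h₁)
    obtain ⟨a, ha, haz⟩ := hz'
    refine ⟨a, ha, ?_⟩
    have : b - φ a = (z - φ a) + j := by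
      rw [← hzj]
      ring
    rw [this]
    exact Ideal.add_mem _ haz hj
  have hsummable_of : ∀ (n : ℕ) (av : ℕ → A), (∀ k, av k ∈ x (n + k)) → Summable av := by
    intro n av hav
    refine NonarchimedeanAddGroup.summable_of_tendsto_cofinite_zero ?_
    rw [Nat.cofinite_eq_atTop]
    intro U hU
    obtain ⟨m, -, hm⟩ := hbasis.toHasBasis.mem_iff.1 hU
    refine Filter.mem_map.2 ?_
    filter_upwards [eventually_ge_atTop m] with k hk
    exact hm (hxanti (le_trans hk (Nat.le_add_left k n)) (hav k))
  have hlift : ∀ (n : ℕ) (b : B), b ∈ ((x n).map φ).closure → ∃ a ∈ x n, φ a = b := by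
    intro n b hb
    have step : ∀ (k : ℕ) (y : B), y ∈ ((x (n + k)).map φ).closure →
        ∃ a ∈ x (n + k), y - φ a ∈ ((x (n + k + 1)).map φ).closure :=
      fun k y hy => happrox (n + k) (n + k + 1) y hy
    choose! a ha1 ha2 using step
    let bs : ℕ → B := fun k => Nat.rec b (fun k y => y - φ (a k y)) k
    have hbs : ∀ k, bs k ∈ ((x (n + k)).map φ).closure := by
      intro k
      induction k with
      | zero => exact hb
      | succ k ih => exact ha2 k (bs k) ih
    let av : ℕ → A := fun k => a k (bs k)
    have hav : ∀ k, av k ∈ x (n + k) := fun k => ha1 k (bs k) (hbs k)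
    have hrec : ∀ k, bs (k + 1) = bs k - φ (av k) := fun k => rfl
    have htel : ∀ N, b - bs N = φ (∑ k ∈ Finset.range N, av k) := by
      intro N
      induction N with
      | zero =>
        simp only [Finset.range_zero, Finset.sum_empty, map_zero]
        exact sub_self b
      | succ N ih =>
        rw [hrec, Finset.sum_range_succ, map_add, ← ih]
        ring
    have hsummable : Summable av := hsummable_of n av hav
    refine ⟨∑' k, av k, ?_, ?_⟩
    · have hclosed : IsClosed ((x n : Ideal A) : Set A) := h5_isClosed_of_isOpen _ (hx n)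
      refine hclosed.mem_of_tendsto hsummable.hasSum.tendsto_sum_nat
        (Filter.Eventually.of_forall fun N => ?_)
      exact Ideal.sum_mem _ fun k _ => hxanti (Nat.le_add_right n k) (hav k)
    · have hlim1 : Tendsto (fun N => φ (∑ k ∈ Finset.range N, av k)) atTop
          (nhds (φ (∑' k, av k))) :=
        (hc.tendsto _).comp hsummable.hasSum.tendsto_sum_nat
      have hlim2 : Tendsto (fun N => b - bs N) atTop (nhds b) := by
        have h0 : Tendsto bs atTop (nhds 0) := by
          intro U hU
          obtain ⟨m, hm⟩ := hJbasis U hU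
          refine Filter.mem_map.2 ?_
          filter_upwards [eventually_ge_atTop m] with k hk
          exact hm (hJanti (le_trans hk (Nat.le_add_left k n)) (hbs k))
        simpa using (tendsto_const_nhds (x := b)).sub h0
      refine tendsto_nhds_unique hlim1 ?_
      simpa only [htel] using hlim2
  have hsurj : Function.Surjective φ := by
    intro b
    obtain ⟨a', ha'⟩ := hdense 0 b
    obtain ⟨a'', -, ha''⟩ := hlift 0 _ ha'
    exact ⟨a' + a'', by rw [map_add, ha'']; ring⟩
  have hopen : IsOpenMap φ := by
    refine isOpenMap_iff_nhds_le.2 fun a => ?_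
    intro V hV
    rw [Filter.mem_map] at hV
    have h0 : (fun y => a + y) ⁻¹' (φ ⁻¹' V) ∈ nhds (0 : A) := by
      have : Tendsto (fun y => a + y) (nhds 0) (nhds a) := by
        have := (continuous_add_left a).tendsto 0
        simpa using this
      exact this hV
    obtain ⟨n, -, hn⟩ := hbasis.toHasBasis.mem_iff.1 h0
    have hsub : (fun y => φ a + y) '' ((((x n).map φ).closure : Ideal B) : Set B) ⊆ V := by
      rintro _ ⟨y, hy, rfl⟩
      obtain ⟨a', ha', rfl⟩ := hlift n y hy
      have : φ (a + a') ∈ V := hn ha'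
      rw [map_add] at this
      exact this
    refine Filter.mem_of_superset ?_ hsub
    rw [← map_add_left_nhds_zero (φ a)]
    exact Filter.image_mem_map ((hJo n).mem_nhds (Ideal.zero_mem _))
  have hBcount : (nhds (0 : B)).IsCountablyGenerated := by
    have hB : (nhds (0 : B)).HasBasis (fun _ : ℕ => True)
        (fun n => ((((x n).map φ).closure : Ideal B) : Set B)) := by
      refine ⟨fun U => ⟨fun hU => ?_, ?_⟩⟩
      · obtain ⟨n, hn⟩ := hJbasis U hU
        exact ⟨n, trivial, hn⟩
      · rintro ⟨n, -, hn⟩
        exact Filter.mem_of_superset ((hJo n).mem_nhds (Ideal.zero_mem _)) hn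
    exact hB.isCountablyGenerated
  haveI := hBcount
  haveI : (uniformity B).IsCountablyGenerated := IsUniformAddGroup.uniformity_countably_generated
  have hcomplete : CompleteSpace B := by
    refine UniformSpace.complete_of_convergent_controlled_sequences
      (fun N => {p : B × B | p.2 - p.1 ∈ ((x N).map φ).closure}) (fun N => ?_) (fun u hu => ?_)
    · rw [uniformity_eq_comap_nhds_zero B]
      exact Filter.preimage_mem_comap ((hJo N).mem_nhds (Ideal.zero_mem _))
    · have hdk : ∀ k, u (k + 1) - u k ∈ ((x k).map φ).closure := fun k =>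
        hu k k (k + 1) le_rfl (Nat.le_succ k)
      have hch : ∀ k, ∃ a ∈ x k, φ a = u (k + 1) - u k := fun k => hlift k _ (hdk k)
      choose av hav1 hav2 using hch
      obtain ⟨a₀, ha₀⟩ := hsurj (u 0)
      have hsummable : Summable av :=
        hsummable_of 0 av (fun k => by rw [zero_add]; exact hav1 k)
      refine ⟨φ (a₀ + ∑' k, av k), ?_⟩
      have hlim : Tendsto (fun N => φ (a₀ + ∑ k ∈ Finset.range N, av k)) atTop
          (nhds (φ (a₀ + ∑' k, av k))) :=
        (hc.tendsto _).comp (tendsto_const_nhds.add hsummable.hasSum.tendsto_sum_nat)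
      have heq : ∀ N, φ (a₀ + ∑ k ∈ Finset.range N, av k) = u N := by
        intro N
        rw [map_add, map_sum, ha₀]
        simp only [hav2]
        rw [Finset.sum_range_sub]
        ring
      simpa only [heq] using hlim
  exact ⟨hsurj, ⟨hsurj, hc, hopen⟩, hcomplete⟩

end Groth.Agent.S10155
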