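import Groth.Statements.S10156
import Mathlib
import Groth.Agent.Lib.helper5.LinTopBasic

set_option autoImplicit false
universe u v w
open LinTop

namespace Groth.Agent.S10156

/-- Given pre-adic rings A, B, C and continuous ring maps ψ : B → C and φ : A → B, adicness of the
composite A → C implies that ψ is adic. -/
theorem result
    (A : Type u) [CommRing A] [TopologicalSpace A] [IsTopologicalRing A] (hA : LinTop.IsPreadic A)
    (B : Type v) [CommRing B] [TopologicalSpace B] [IsTopologicalRing B] (hB : LinTop.IsPreadic B)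
    (C : Type w) [CommRing C] [TopologicalSpace C] [IsTopologicalRing C] (hC : LinTop.IsPreadic C)
    (φ : A →+* B) (ψ : B →+* C) (hφ : Continuous φ) (hψ : Continuous ψ)
    (h : LinTop.IsAdicHom (ψ.comp φ)) : LinTop.IsAdicHom ψ := by
  obtain ⟨J₀, hJ₀⟩ := hB
  obtain ⟨I, hI, hIC⟩ := h
  refine ⟨J₀, h5_isIdealOfDefinition_of_isAdic hJ₀, ?_⟩
  -- `I^n B ⊆ J₀`
  have hJ₀' := (isAdic_iff.1 hJ₀)
  have hJ₀o : IsOpen (J₀ : Set B) := by simpa using hJ₀'.1 1
  obtain ⟨n, -, hn⟩ := hI.2 (φ ⁻¹' (J₀ : Set B))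
    ((hJ₀o.preimage hφ).mem_nhds (by simp))
  have h1 : (I.map (ψ.comp φ)) ^ n ≤ J₀.map ψ := by
    rw [← Ideal.map_pow, ← Ideal.map_map]
    refine Ideal.map_mono ?_
    rw [Ideal.map_le_iff_le_comap]
    exact fun a ha => hn ha
  have hIC' := (isAdic_iff.1 hIC)
  have hICo : IsOpen ((I.map (ψ.comp φ) : Ideal C) : Set C) := by simpa using hIC'.1 1
  obtain ⟨m, hm⟩ := hJ₀'.2 (ψ ⁻¹' ((I.map (ψ.comp φ) : Ideal C) : Set C))
    ((hICo.preimage hψ).mem_nhds (by simp))
  have h2 : (J₀.map ψ) ^ m ≤ I.map (ψ.comp φ) := by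
    rw [← Ideal.map_pow, Ideal.map_le_iff_le_comap]
    exact fun a ha => hm ha
  exact h5_isAdic_of_pow_le hIC n m h1 h2

end Groth.Agent.S10156
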