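import Groth.Statements.S10157
import Mathlib
import Groth.Agent.Lib.helper5.LinTopBasic

set_option autoImplicit false
universe u v
open LinTop

namespace Groth.Agent.S10157

/-- A continuous adic homomorphism φ : A → B between pre-adic topological rings is taut. -/
theorem result
    (A : Type u) [CommRing A] [TopologicalSpace A] [IsTopologicalRing A] (hA : LinTop.IsPreadic A)
    (B : Type v) [CommRing B] [TopologicalSpace B] [IsTopologicalRing B] (hB : LinTop.IsPreadic B)
    (φ : A →+* B) (hφ : Continuous φ) (h : LinTop.IsAdicHom φ) : LinTop.IsTaut φ := by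
  obtain ⟨I', hI'⟩ := hA
  obtain ⟨I, hI, hIB⟩ := h
  have hI'' := isAdic_iff.1 hI'
  have hIB' := isAdic_iff.1 hIB
  -- some power of `I'` is contained in `I`
  obtain ⟨k, hk⟩ := hI''.2 (I : Set A) (hI.1.mem_nhds I.zero_mem)
  refine ⟨hφ, fun K hK => ?_, fun U hU => ?_⟩
  · obtain ⟨n, -, hn⟩ := hI.2 (K : Set A) (hK.mem_nhds K.zero_mem)
    have hle : (I.map φ) ^ n ≤ K.map φ := by
      rw [← Ideal.map_pow]
      exact Ideal.map_mono (SetLike.coe_subset_coe.1 hn)
    have hopen : IsOpen ((K.map φ : Ideal B) : Set B) :=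
      Ideal.isOpen_of_isOpen_subideal hle (hIB'.1 n)
    rw [h5_closure_eq_of_isOpen _ hopen]
    exact hopen
  · obtain ⟨n, hn⟩ := hIB'.2 U hU
    refine ⟨I' ^ (k * n), hI''.1 _, ?_⟩
    have hle : (I' ^ (k * n)).map φ ≤ (I.map φ) ^ n := by
      rw [← Ideal.map_pow, pow_mul]
      exact Ideal.map_mono (Ideal.pow_right_mono (SetLike.coe_subset_coe.1 hk) n)
    refine (closure_minimal (SetLike.coe_subset_coe.2 hle) ?_).trans hn
    exact h5_isClosed_of_isOpen _ (hIB'.1 n)

end Groth.Agent.S10157
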