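import Groth.Statements.S10158
import Mathlib
import Groth.Agent.Lib.helper5.LinTopAdic

set_option autoImplicit false
universe u v
open LinTop

namespace Groth.Agent.S10158

/-- Let φ : A → B be a taut homomorphism of linearly topologized rings. Assume A is pre-adic with a
finitely generated ideal of definition I and B is Hausdorff and complete. Then the topology of B is
the φ(I)B-adic topology; in particular B is adic with a finitely generated ideal of definition and φ
is adic. -/
theorem result
    (A : Type u) [CommRing A] [TopologicalSpace A] [IsTopologicalRing A] (hA : LinTop.IsPreadic A)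
    (I : Ideal A) (hI : LinTop.IsIdealOfDefinition A I) (hfg : I.FG)
    (B : Type v) [CommRing B] [UniformSpace B] [IsUniformAddGroup B] [IsTopologicalRing B]
    [IsLinearTopology B B] [T2Space B] [CompleteSpace B]
    (φ : A →+* B) (hφ : LinTop.IsTaut φ) :
    IsAdic (I.map φ) := by
  obtain ⟨I', hI'⟩ := hA
  have hI'' := isAdic_iff.1 hI'
  obtain ⟨k, hk⟩ := hI''.2 (I : Set A) (hI.1.mem_nhds I.zero_mem)
  have hIn : ∀ n, IsOpen ((I ^ n : Ideal A) : Set A) := fun n =>
    Ideal.isOpen_of_isOpen_subideal
      (by rw [pow_mul]; exact Ideal.pow_right_mono (SetLike.coe_subset_coe.1 hk) n :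
        I' ^ (k * n) ≤ I ^ n) (hI''.1 _)
  obtain ⟨hc, h2, h3⟩ := hφ
  refine h5_isAdic_of_fg (I.map φ) (hfg.map φ) (fun n => ?_) (fun U hU => ?_)
  · rw [← Ideal.map_pow]
    exact h2 _ (hIn n)
  · obtain ⟨K, hK, hKU⟩ := h3 U hU
    obtain ⟨n, -, hn⟩ := hI.2 K (hK.mem_nhds K.zero_mem)
    refine ⟨n, (closure_mono (SetLike.coe_subset_coe.2 ?_)).trans hKU⟩
    rw [← Ideal.map_pow]
    exact Ideal.map_mono (SetLike.coe_subset_coe.1 hn)

end Groth.Agent.S10158
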