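import Groth.Statements.S10159
import Mathlib
import Groth.Agent.Lib.helper5.LinTopBasic2

set_option autoImplicit false
universe u
open LinTop

namespace Groth.Agent.S10159

/-- For a ring A carrying a linear topology, the following four conditions are equivalent: (1) A is
weakly pre-adic; (2) there exist a pre-adic topological ring A' and a taut continuous ring
homomorphism A' → A (A' is taken in the universe of A, which suffices since A with an adic topology
serves); (3) A has an ideal of definition, and for at least one ideal of definition I every closure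
cl(I^n) with n ≥ 1 is open; (4) A has an ideal of definition, and for each of its ideals of
definition I every closure cl(I^n) with n ≥ 1 is open. -/
theorem result
    (A : Type u) [CommRing A] [TopologicalSpace A] [IsTopologicalRing A] [IsLinearTopology A A] :
    List.TFAE [LinTop.IsWeaklyPreadic A,
      ∃ (A' : Type u) (_ : CommRing A') (_ : TopologicalSpace A') (_ : IsTopologicalRing A')
        (φ : A' →+* A), LinTop.IsPreadic A' ∧ LinTop.IsTaut φ,
      LinTop.IsPreadmissible A ∧ ∃ I : Ideal A, LinTop.IsIdealOfDefinition A I ∧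
        ∀ n : ℕ, 0 < n → IsOpen (closure ((I ^ n : Ideal A) : Set A)),
      LinTop.IsPreadmissible A ∧ ∀ I : Ideal A, LinTop.IsIdealOfDefinition A I →
        ∀ n : ℕ, 0 < n → IsOpen (closure ((I ^ n : Ideal A) : Set A))] := by
  tfae_have 1 → 4 := fun h => ⟨h5_isPreadmissible_of_isWeaklyPreadic h,
    fun I hI n _ => h5_isOpen_closure_pow_of_isWeaklyPreadic h I hI n⟩
  tfae_have 4 → 3 := by
    rintro ⟨hp, h⟩
    obtain ⟨I, hI⟩ := hp.2
    exact ⟨hp, I, hI, h I hI⟩
  tfae_have 3 → 2 := by
    rintro ⟨hp, I, hI, hcl⟩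
    refine ⟨H5AdicCopy I, inferInstance, inferInstance, inferInstance, h5AdicCopyHom I,
      ⟨h5AdicCopyIdeal I, h5_isAdic_adicCopy I⟩, ?_, ?_, ?_⟩
    · refine continuous_of_continuousAt_zero (h5AdicCopyHom I) ?_
      unfold ContinuousAt
      rw [map_zero, (h5_isAdic_adicCopy I).hasBasis_nhds_zero.tendsto_left_iff]
      intro U hU
      obtain ⟨n, -, hn⟩ := hI.2 U hU
      exact ⟨n, trivial, fun x hx => hn hx⟩
    · intro K hK
      obtain ⟨m, -, hm⟩ := (h5_isAdic_adicCopy I).hasBasis_nhds_zero.mem_iff.1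
        (hK.mem_nhds K.zero_mem)
      have hle : (I ^ (m + 1) : Ideal A) ≤ K.map (h5AdicCopyHom I) := by
        intro x hx
        have hx' : x ∈ (I ^ m : Ideal A) := Ideal.pow_le_pow_right (Nat.le_succ m) hx
        exact Ideal.mem_map_of_mem (h5AdicCopyHom I) (hm hx')
      exact h5_isOpen_closure_of_le hle (hcl (m + 1) (Nat.succ_pos m))
    · intro U hU
      obtain ⟨L, hL, hLU⟩ := h5_exists_open_ideal_subset hU
      obtain ⟨n, hn, hnL⟩ := hI.2 L (hL.mem_nhds L.zero_mem)
      refine ⟨(h5AdicCopyIdeal I) ^ n, (isAdic_iff.1 (h5_isAdic_adicCopy I)).1 n, ?_⟩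
      refine (closure_minimal ?_ (h5_isClosed_of_isOpen L hL)).trans hLU
      refine SetLike.coe_subset_coe.2 (Ideal.map_le_iff_le_comap.2 fun x hx => ?_)
      exact hnL hx
  tfae_have 2 → 1 := by
    rintro ⟨A', _, _, _, φ, ⟨I', hI'⟩, hc, h2, h3⟩
    have hI'' := isAdic_iff.1 hI'
    refine ⟨inferInstance, I'.map φ, fun n => ?_, fun U hU => ?_⟩
    · rw [← Ideal.map_pow]
      exact h2 _ (hI''.1 n)
    · obtain ⟨K, hK, hKU⟩ := h3 U hU
      obtain ⟨n, hn⟩ := hI''.2 K (hK.mem_nhds K.zero_mem)
      refine ⟨n, (closure_mono (SetLike.coe_subset_coe.2 ?_)).trans hKU⟩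
      rw [← Ideal.map_pow]
      exact Ideal.map_mono (SetLike.coe_subset_coe.1 hn)
  tfae_finish

end Groth.Agent.S10159
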