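import Groth.Statements.S10160
import Mathlib
import Groth.Agent.Lib.helper5.LinTopBasic

set_option autoImplicit false
universe u
open LinTop

namespace Groth.Agent.S10160

/-- A weakly adic topological ring is admissible and has a countable fundamental system of open ideals. -/
theorem result
    (A : Type u) [CommRing A] [UniformSpace A] [IsUniformAddGroup A] [IsTopologicalRing A] (hA : LinTop.IsWeaklyAdic A) :
    LinTop.IsAdmissible A ∧ (nhds (0 : A)).IsCountablyGenerated := by
  obtain ⟨⟨hlin, I, hIo, hIb⟩, hT2, hC⟩ := hA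
  haveI := hlin
  refine ⟨⟨⟨hlin, I.closure, ?_, fun U hU => ?_⟩, hT2, hC⟩, ?_⟩
  · rw [Ideal.coe_closure]
    simpa using hIo 1
  · obtain ⟨n, hn⟩ := hIb U hU
    refine ⟨n + 1, Nat.succ_pos n, ?_⟩
    intro x hx
    have h1 : x ∈ I.closure ^ n := Ideal.pow_le_pow_right (Nat.le_succ n) hx
    have h2 := h5_closure_pow_le I n h1
    rw [← SetLike.mem_coe, Ideal.coe_closure] at h2
    exact hn h2
  · have hB : (nhds (0 : A)).HasBasis (fun _ : ℕ => True)
        (fun n => closure ((I ^ n : Ideal A) : Set A)) := by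
      refine ⟨fun U => ⟨fun hU => ?_, ?_⟩⟩
      · obtain ⟨n, hn⟩ := hIb U hU
        exact ⟨n, trivial, hn⟩
      · rintro ⟨n, -, hn⟩
        exact Filter.mem_of_superset
          ((hIo n).mem_nhds (subset_closure (Ideal.zero_mem _))) hn
    exact hB.isCountablyGenerated

end Groth.Agent.S10160
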