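import Groth.Statements.S10164
import Mathlib
import Groth.Agent.Lib.helper5.LinTopAdic

set_option autoImplicit false
universe u
open LinTop

namespace Groth.Agent.S10164

/-- Let A be weakly adic and I an ideal of definition of A with I/I₂ finitely generated, where I₂
denotes the closure of I^2 (here: I maps onto a finitely generated ideal of A/I₂). Then A is adic,
and some finitely generated ideal of A is an ideal of definition. -/
theorem result
    (A : Type u) [CommRing A] [UniformSpace A] [IsUniformAddGroup A] [IsTopologicalRing A] (hA : LinTop.IsWeaklyAdic A)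
    (I : Ideal A) (hI : LinTop.IsIdealOfDefinition A I)
    (hfg : (I.map (Ideal.Quotient.mk ((I ^ 2).closure))).FG) :
    LinTop.IsAdicRing A ∧ ∃ J : Ideal A, LinTop.IsIdealOfDefinition A J ∧ J.FG := by
  obtain ⟨hwp, hT2, hC⟩ := hA
  have hlin : IsLinearTopology A A := hwp.1
  haveI := hlin
  haveI := hT2
  haveI := hC
  have hIo : ∀ n, IsOpen (closure ((I ^ n : Ideal A) : Set A)) := fun n =>
    h5_isOpen_closure_pow_of_isWeaklyPreadic hwp I hI n
  generalize hK : (I ^ 2).closure = K at hfg
  obtain ⟨s, g, hg⟩ := Submodule.fg_iff_exists_fin_generating_family.1 hfg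
  have hmem : ∀ i, ∃ a ∈ I, Ideal.Quotient.mk K a = g i := fun i => by
    have : g i ∈ I.map (Ideal.Quotient.mk K) := by
      rw [← hg]
      exact Submodule.subset_span ⟨i, rfl⟩
    exact (Ideal.mem_map_iff_of_surjective _ Ideal.Quotient.mk_surjective).1 this
  choose a haI hag using hmem
  have hJfg : (Ideal.span (Set.range a)).FG := Submodule.fg_span (Set.finite_range a)
  generalize hJ : Ideal.span (Set.range a) = J at hJfg
  have hJI : J ≤ I := by
    rw [← hJ]
    exact Ideal.span_le.2 (by rintro _ ⟨i, rfl⟩; exact haI i)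
  have hmap : J.map (Ideal.Quotient.mk K) = I.map (Ideal.Quotient.mk K) := by
    rw [← hJ, Ideal.map_span, ← hg]
    congr 1
    ext x
    constructor
    · rintro ⟨_, ⟨i, rfl⟩, rfl⟩
      exact ⟨i, (hag i).symm⟩
    · rintro ⟨i, rfl⟩
      exact ⟨a i, ⟨i, rfl⟩, hag i⟩
  have hIJK : I ≤ J ⊔ K := by
    have h1 : I ≤ (I.map (Ideal.Quotient.mk K)).comap (Ideal.Quotient.mk K) := Ideal.le_comap_map
    rw [← hmap, Ideal.comap_map_of_surjective _ Ideal.Quotient.mk_surjective] at h1
    rwa [← RingHom.ker_eq_comap_bot, Ideal.mk_ker] at h1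
  have hstep : ∀ k : ℕ, I ≤ J ⊔ (I ^ (k + 2)).closure := by
    intro k
    induction k with
    | zero =>
      show I ≤ J ⊔ (I ^ 2).closure
      rw [hK]
      exact hIJK
    | succ k ih =>
      have h3 : (I ^ (k + 2)).closure * I ≤ (I ^ (k + 3)).closure := by
        refine (Ideal.mul_mono le_rfl (h5_le_closure I)).trans ?_
        refine (h5_closure_mul_le _ _).trans ?_
        rw [← pow_succ]
      have hsq : I ^ 2 ≤ J ⊔ (I ^ (k + 3)).closure := by
        rw [pow_two]
        calc I * I ≤ (J ⊔ (I ^ (k + 2)).closure) * I := Ideal.mul_mono ih le_rfl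
          _ = J * I ⊔ (I ^ (k + 2)).closure * I := Ideal.sup_mul _ _ _
          _ ≤ J ⊔ (I ^ (k + 3)).closure := sup_le_sup Ideal.mul_le_left h3
      have hcl : K ≤ J ⊔ (I ^ (k + 3)).closure := by
        rw [← hK]
        refine h5_closure_le_of_isClosed hsq (h5_isClosed_of_isOpen _
          (Ideal.isOpen_of_isOpen_subideal le_sup_right ?_))
        rw [Ideal.coe_closure]
        exact hIo _
      exact hIJK.trans (sup_le le_sup_left hcl)
  have hIclJ : I ≤ J.closure := by
    intro x hx
    rw [← SetLike.mem_coe, Ideal.coe_closure, h5_mem_closure_ideal_iff]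
    intro L hL
    obtain ⟨m, -, hm⟩ := h5_closure_subset_of_isIdealOfDefinition I hI (hL.mem_nhds L.zero_mem)
    have h1 : (I ^ (m + 2)).closure ≤ L := by
      intro y hy
      rw [← SetLike.mem_coe, Ideal.coe_closure] at hy
      exact hm (closure_mono (SetLike.coe_subset_coe.2
        (Ideal.pow_le_pow_right (Nat.le_add_right m 2))) hy)
    exact sup_le_sup_left h1 J (hstep m hx)
  have hJo : ∀ n, IsOpen (closure ((J ^ n : Ideal A) : Set A)) := by
    intro n
    have h1 : I ^ n ≤ (J ^ n).closure :=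
      (Ideal.pow_right_mono hIclJ n).trans (h5_closure_pow_le J n)
    have h2 : (I ^ n).closure ≤ (J ^ n).closure :=
      h5_closure_le_of_isClosed h1 (h5_isClosed_closure _)
    rw [← Ideal.coe_closure]
    exact Ideal.isOpen_of_isOpen_subideal h2 (by rw [Ideal.coe_closure]; exact hIo n)
  have hJb : ∀ U ∈ nhds (0 : A), ∃ n, closure ((J ^ n : Ideal A) : Set A) ⊆ U := by
    intro U hU
    obtain ⟨n, -, hn⟩ := h5_closure_subset_of_isIdealOfDefinition I hI hU
    exact ⟨n, (closure_mono (SetLike.coe_subset_coe.2 (Ideal.pow_right_mono hJI n))).trans hn⟩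
  have hadic : IsAdic J := h5_isAdic_of_fg J hJfg hJo hJb
  exact ⟨⟨⟨J, hadic⟩, hT2, hC⟩, J, h5_isIdealOfDefinition_of_isAdic hadic, hJfg⟩

end Groth.Agent.S10164
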