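import Groth.Statements.S10165
import Mathlib
import Groth.Agent.Lib.helper5.LinTopBasic

set_option autoImplicit false
universe u v
open LinTop

namespace Groth.Agent.S10165

/-- Let φ : A → B be a taut homomorphism of linearly topologized rings. If A is weakly pre-adic, then B
is weakly pre-adic. -/
theorem result
    (A : Type u) [CommRing A] [TopologicalSpace A] [IsTopologicalRing A] [IsLinearTopology A A]
    (B : Type v) [CommRing B] [TopologicalSpace B] [IsTopologicalRing B] [IsLinearTopology B B]
    (φ : A →+* B) (hφ : LinTop.IsTaut φ) (hA : LinTop.IsWeaklyPreadic A) :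
    LinTop.IsWeaklyPreadic B := by
  obtain ⟨_, I, hIo, hIb⟩ := hA
  obtain ⟨hc, h2, h3⟩ := hφ
  refine ⟨inferInstance, I.map φ, fun n => ?_, fun U hU => ?_⟩
  · have hopen := h2 (I ^ n).closure (by rw [Ideal.coe_closure]; exact hIo n)
    have hle : ((I ^ n).closure.map φ) ≤ ((I.map φ) ^ n).closure := by
      rw [Ideal.map_le_iff_le_comap]
      intro a ha
      rw [Ideal.mem_comap, ← SetLike.mem_coe, Ideal.coe_closure]
      rw [← SetLike.mem_coe, Ideal.coe_closure] at ha
      refine map_mem_closure hc ha (fun b hb => ?_)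
      rw [← Ideal.map_pow]
      exact Ideal.mem_map_of_mem φ hb
    rw [← Ideal.coe_closure] at hopen ⊢
    refine Ideal.isOpen_of_isOpen_subideal ?_ hopen
    exact h5_closure_le_of_isClosed hle (h5_isClosed_closure _)
  · obtain ⟨K, hK, hKU⟩ := h3 U hU
    obtain ⟨n, hn⟩ := hIb K (hK.mem_nhds K.zero_mem)
    refine ⟨n, (closure_mono (SetLike.coe_subset_coe.2 ?_)).trans hKU⟩
    rw [← Ideal.map_pow]
    exact Ideal.map_mono (fun a ha => hn (subset_closure ha))

end Groth.Agent.S10165
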