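import Groth.Statements.S10166
import Mathlib
import Groth.Agent.Lib.helper5.LinTopBasic

set_option autoImplicit false
universe u v
open LinTop

namespace Groth.Agent.S10166

/-- Let φ : A → B be a taut homomorphism of linearly topologized rings such that for every open ideal I
of A, with J the closure of φ(I)B, the induced map A/I → B/J is faithfully flat. If B has a
countable fundamental system of open ideals, then so does A. -/
theorem result
    (A : Type u) [CommRing A] [TopologicalSpace A] [IsTopologicalRing A] [IsLinearTopology A A]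
    (B : Type v) [CommRing B] [TopologicalSpace B] [IsTopologicalRing B] [IsLinearTopology B B]
    (φ : A →+* B) (hφ : LinTop.IsTautFFlat φ) (hB : (nhds (0 : B)).IsCountablyGenerated) :
    (nhds (0 : A)).IsCountablyGenerated := by
  have hφ' := hφ
  obtain ⟨⟨hc, h2, h3⟩, _⟩ := hφ
  obtain ⟨x, hx, hbasis⟩ :=
    (IsLinearTopology.hasBasis_open_ideal (R := B)).exists_antitone_subbasis
  have hch : ∀ n : ℕ, ∃ I : Ideal A, IsOpen (I : Set A) ∧
      closure ((I.map φ : Ideal B) : Set B) ⊆ (x n : Set B) :=
    fun n => h3 _ ((hx n).mem_nhds (x n).zero_mem)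
  choose I hIo hIx using hch
  have hA : (nhds (0 : A)).HasBasis (fun _ : ℕ => True) (fun n => ((I n : Ideal A) : Set A)) := by
    refine ⟨fun U => ⟨fun hU => ?_, ?_⟩⟩
    · obtain ⟨K, hK, hKU⟩ := h5_exists_open_ideal_subset hU
      have hKB : closure ((K.map φ : Ideal B) : Set B) ∈ nhds (0 : B) :=
        (h2 K hK).mem_nhds (subset_closure (Ideal.zero_mem _))
      obtain ⟨n, -, hn⟩ := hbasis.toHasBasis.mem_iff.1 hKB
      refine ⟨n, trivial, (SetLike.coe_subset_coe.2 ?_).trans hKU⟩
      refine h5_le_of_map_le_closure φ hφ' (I n) K hK ?_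
      intro b hb
      rw [← SetLike.mem_coe, Ideal.coe_closure]
      exact hn (hIx n (subset_closure hb))
    · rintro ⟨n, -, hn⟩
      exact Filter.mem_of_superset ((hIo n).mem_nhds (I n).zero_mem) hn
  exact hA.isCountablyGenerated

end Groth.Agent.S10166
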