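import Groth.Statements.S10167
import Mathlib
import Groth.Agent.Lib.helper5.LinTopBasic

set_option autoImplicit false
universe u v
open LinTop

namespace Groth.Agent.S10167

/-- Let φ : A → B be a taut homomorphism of linearly topologized rings such that for every open ideal I
of A the induced ring map A/I → B/J, where J denotes the closure of φ(I)B, is faithfully flat. If B
has a weak ideal of definition (B is weakly pre-admissible), then so does A. -/
theorem result
    (A : Type u) [CommRing A] [TopologicalSpace A] [IsTopologicalRing A] [IsLinearTopology A A]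
    (B : Type v) [CommRing B] [TopologicalSpace B] [IsTopologicalRing B] [IsLinearTopology B B]
    (φ : A →+* B) (hφ : LinTop.IsTautFFlat φ) (hB : LinTop.IsWeaklyPreadmissible B) :
    LinTop.IsWeaklyPreadmissible A := by
  have hφ' := hφ
  obtain ⟨⟨hc, h2, h3⟩, _⟩ := hφ
  obtain ⟨_, J₀, hJ₀o, hJ₀n⟩ := hB
  obtain ⟨I, hI, hIJ⟩ := h3 J₀ (hJ₀o.mem_nhds J₀.zero_mem)
  refine ⟨inferInstance, I, hI, fun f hf => ?_⟩
  rw [h5_isTopologicallyNilpotent_iff]
  intro K hK
  have hfn : IsTopologicallyNilpotent (φ f) :=
    hJ₀n _ (hIJ (subset_closure (Ideal.mem_map_of_mem φ hf)))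
  rw [h5_isTopologicallyNilpotent_iff] at hfn
  obtain ⟨n, hn⟩ := hfn (K.map φ).closure (by rw [Ideal.coe_closure]; exact h2 K hK)
  refine ⟨n, ?_⟩
  rw [← h5_comap_closure_map_eq φ hφ' K hK, Ideal.mem_comap, map_pow]
  exact hn

end Groth.Agent.S10167
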