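import Groth.Statements.S10168
import Mathlib
import Groth.Agent.Lib.helper5.LinTopBasic

set_option autoImplicit false
universe u v
open LinTop

namespace Groth.Agent.S10168

/-- Let φ : A → B be a taut homomorphism of linearly topologized rings such that for every open ideal I
of A, with J the closure of φ(I)B, the induced map A/I → B/J is faithfully flat. If B is
pre-admissible, then A is pre-admissible. -/
theorem result
    (A : Type u) [CommRing A] [TopologicalSpace A] [IsTopologicalRing A] [IsLinearTopology A A]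
    (B : Type v) [CommRing B] [TopologicalSpace B] [IsTopologicalRing B] [IsLinearTopology B B]
    (φ : A →+* B) (hφ : LinTop.IsTautFFlat φ) (hB : LinTop.IsPreadmissible B) :
    LinTop.IsPreadmissible A := by
  have hφ' := hφ
  obtain ⟨⟨hc, h2, h3⟩, _⟩ := hφ
  obtain ⟨_, J₀, hJ₀o, hJ₀p⟩ := hB
  obtain ⟨I, hI, hIJ⟩ := h3 J₀ (hJ₀o.mem_nhds J₀.zero_mem)
  refine ⟨inferInstance, I, hI, fun U hU => ?_⟩
  obtain ⟨K, hK, hKU⟩ := h5_exists_open_ideal_subset hU
  have hKB : closure ((K.map φ : Ideal B) : Set B) ∈ nhds (0 : B) :=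
    (h2 K hK).mem_nhds (subset_closure (Ideal.zero_mem _))
  obtain ⟨n, hn, hnJ⟩ := hJ₀p _ hKB
  refine ⟨n, hn, (SetLike.coe_subset_coe.2 ?_).trans hKU⟩
  refine h5_le_of_map_le_closure φ hφ' (I ^ n) K hK ?_
  rw [Ideal.map_pow]
  intro b hb
  rw [← SetLike.mem_coe, Ideal.coe_closure]
  refine hnJ ?_
  have hle : I.map φ ≤ J₀ := fun y hy => hIJ (subset_closure hy)
  exact Ideal.pow_right_mono hle n hb

end Groth.Agent.S10168
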