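import Groth.Statements.S10169
import Mathlib
import Groth.Agent.Lib.helper5.LinTopBasic2

set_option autoImplicit false
universe u v
open LinTop

namespace Groth.Agent.S10169

/-- Let φ : A → B be a taut homomorphism of linearly topologized rings such that for every open ideal I
of A the induced ring map A/I → B/J, where J denotes the closure of φ(I)B, is faithfully flat. Weak
pre-adicness then descends: when B is weakly pre-adic, A is as well. -/
theorem result
    (A : Type u) [CommRing A] [TopologicalSpace A] [IsTopologicalRing A] [IsLinearTopology A A]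
    (B : Type v) [CommRing B] [TopologicalSpace B] [IsTopologicalRing B] [IsLinearTopology B B]
    (φ : A →+* B) (hφ : LinTop.IsTautFFlat φ) (hB : LinTop.IsWeaklyPreadic B) :
    LinTop.IsWeaklyPreadic A := by
  have hφ' := hφ
  obtain ⟨⟨hc, h2, h3⟩, _⟩ := hφ
  have hBp := h5_isPreadmissible_of_isWeaklyPreadic hB
  obtain ⟨_, J, hJ⟩ := hBp
  obtain ⟨I, hI, hIJ⟩ := h3 J (hJ.1.mem_nhds J.zero_mem)
  have hIdef : IsIdealOfDefinition A I :=
    h5_isIdealOfDefinition_of_tautFFlat φ hφ' J hJ I hI hIJ
  have hJ'def : IsIdealOfDefinition B (I.map φ).closure := by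
    refine ⟨by rw [Ideal.coe_closure]; exact h2 I hI, fun U hU => ?_⟩
    obtain ⟨n, hn, hnU⟩ := hJ.2 U hU
    refine ⟨n, hn, (SetLike.coe_subset_coe.2 (Ideal.pow_right_mono ?_ n)).trans hnU⟩
    intro x hx
    rw [← SetLike.mem_coe, Ideal.coe_closure] at hx
    exact hIJ hx
  refine ⟨inferInstance, I, fun n => ?_, fun U hU => ?_⟩
  · have h1 : IsOpen (closure (((I.map φ).closure ^ n : Ideal B) : Set B)) :=
      h5_isOpen_closure_pow_of_isWeaklyPreadic hB _ hJ'def n
    have h4 : IsOpen ((((I ^ n).map φ).closure : Ideal B) : Set B) := by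
      rw [← Ideal.coe_closure] at h1
      refine Ideal.isOpen_of_isOpen_subideal ?_ h1
      refine h5_closure_le_of_isClosed ?_ (h5_isClosed_closure _)
      rw [Ideal.map_pow]
      exact h5_closure_pow_le _ n
    have hW : IsOpen (((((I ^ n).map φ).closure).comap φ : Ideal A) : Set A) := h4.preimage hc
    rw [← Ideal.coe_closure]
    refine Ideal.isOpen_of_isOpen_subideal ?_ hW
    intro x hx
    rw [← SetLike.mem_coe, Ideal.coe_closure, h5_mem_closure_ideal_iff]
    intro L hL
    have hopen : IsOpen ((I ^ n ⊔ L : Ideal A) : Set A) :=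
      Ideal.isOpen_of_isOpen_subideal le_sup_right hL
    rw [← h5_comap_closure_map_eq φ hφ' _ hopen]
    exact Ideal.comap_mono (h5_closure_mono (Ideal.map_mono le_sup_left)) hx
  · obtain ⟨n, -, hn⟩ := h5_closure_subset_of_isIdealOfDefinition I hIdef hU
    exact ⟨n, hn⟩

end Groth.Agent.S10169
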