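import Groth.Statements.S10170
import Mathlib
import Groth.Agent.Lib.helper5.LinTopAdic2

set_option autoImplicit false
universe u v
open LinTop

namespace Groth.Agent.S10170

/-- Let φ : A → B be a taut homomorphism of linearly topologized rings such that for every open ideal I
of A the induced ring map A/I → B/J, where J denotes the closure of φ(I)B, is faithfully flat.
Suppose A is Hausdorff and complete, and B is adic with some finitely generated ideal of definition.
Then A is adic, and some finitely generated ideal of A is an ideal of definition. -/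
theorem result
    (A : Type u) [CommRing A] [UniformSpace A] [IsUniformAddGroup A] [IsTopologicalRing A] [IsLinearTopology A A] [T2Space A] [CompleteSpace A]
    (B : Type v) [CommRing B] [UniformSpace B] [IsUniformAddGroup B] [IsTopologicalRing B] (hB : LinTop.IsAdicRing B)
    (hJ : ∃ J : Ideal B, LinTop.IsIdealOfDefinition B J ∧ J.FG)
    (φ : A →+* B) (hφ : LinTop.IsTautFFlat φ) :
    LinTop.IsAdicRing A ∧ ∃ I : Ideal A, LinTop.IsIdealOfDefinition A I ∧ I.FG := by
  obtain ⟨⟨I₀, hI₀⟩, -, -⟩ := hB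
  obtain ⟨J, hJdef, hJfg⟩ := hJ
  have hI₀' := isAdic_iff.1 hI₀
  have hJadic : IsAdic J := by
    obtain ⟨k, hk⟩ := hI₀'.2 J (hJdef.1.mem_nhds J.zero_mem)
    have hI₀o : IsOpen (I₀ : Set B) := by simpa using hI₀'.1 1
    obtain ⟨m, -, hm⟩ := hJdef.2 I₀ (hI₀o.mem_nhds I₀.zero_mem)
    exact h5_isAdic_of_pow_le hI₀ k m (SetLike.coe_subset_coe.1 hk)
      (SetLike.coe_subset_coe.1 hm)
  have hJ' := isAdic_iff.1 hJadic
  haveI : IsLinearTopology B B := h5_isLinearTopology_of_isAdic hJadic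
  have hφ' := hφ
  obtain ⟨⟨hc, h2, h3⟩, -⟩ := hφ
  obtain ⟨I, hI, hIJ⟩ := h3 J (hJdef.1.mem_nhds J.zero_mem)
  have hIdef : IsIdealOfDefinition A I :=
    h5_isIdealOfDefinition_of_tautFFlat φ hφ' J hJdef I hI hIJ
  obtain ⟨m, hm⟩ := hJ'.2 _ ((h2 I hI).mem_nhds (subset_closure (Ideal.zero_mem _)))
  obtain ⟨t, b, hb⟩ := Submodule.fg_iff_exists_fin_generating_family.1 (hJfg.pow (n := m))
  have hbi : ∀ i, ∃ I' : Ideal A, I' ≤ I ∧ I'.FG ∧ b i ∈ I'.map φ ⊔ J ^ (m + 1) := by
    intro i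
    have h0 : b i ∈ J ^ m := by
      rw [← hb]
      exact Submodule.subset_span ⟨i, rfl⟩
    have h1 : b i ∈ closure ((I.map φ : Ideal B) : Set B) := hm h0
    have h2' := (h5_mem_closure_ideal_iff (I.map φ) (b i)).1 h1 (J ^ (m + 1)) (hJ'.1 _)
    obtain ⟨z, hz, c, hc', hzc⟩ := Submodule.mem_sup.1 h2'
    obtain ⟨I', hI'le, hI'fg, hzI'⟩ := h5_exists_fg_le_of_mem_map φ I z hz
    refine ⟨I', hI'le, hI'fg, ?_⟩
    rw [← hzc]
    exact Submodule.add_mem_sup hzI' hc'
  choose I'f hI'le hI'fg hbmem using hbi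
  have hI'I : (⨆ i, I'f i) ≤ I := iSup_le hI'le
  have hI'FG : (⨆ i, I'f i).FG := Submodule.fg_iSup _ hI'fg
  generalize hI'def : (⨆ i, I'f i) = I' at hI'I hI'FG
  have h8 : J ^ m ≤ I'.map φ ⊔ J ^ (m + 1) := by
    rw [← hb]
    refine Submodule.span_le.2 ?_
    rintro _ ⟨i, rfl⟩
    have hle : I'f i ≤ I' := by
      rw [← hI'def]
      exact le_iSup I'f i
    have hle2 : (I'f i).map φ ⊔ J ^ (m + 1) ≤ I'.map φ ⊔ J ^ (m + 1) :=
      sup_le_sup (Ideal.map_mono hle) le_rfl
    exact hle2 (hbmem i)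
  have h9 : ∀ k, J ^ m ≤ I'.map φ ⊔ J ^ (m + k + 1) := by
    intro k
    induction k with
    | zero => exact h8
    | succ k ih =>
      have h91 : J ^ (m + k + 1) ≤ I'.map φ ⊔ J ^ (m + (k + 1) + 1) := by
        have e1 : J ^ (m + k + 1) = J ^ (k + 1) * J ^ m := by
          rw [← pow_add]
          congr 1
          omega
        have e2 : J ^ (k + 1) * J ^ (m + 1) = J ^ (m + (k + 1) + 1) := by
          rw [← pow_add]
          congr 1
          omega
        rw [e1]
        calc J ^ (k + 1) * J ^ m ≤ J ^ (k + 1) * (I'.map φ ⊔ J ^ (m + 1)) :=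
              Ideal.mul_mono le_rfl h8
          _ = J ^ (k + 1) * I'.map φ ⊔ J ^ (k + 1) * J ^ (m + 1) := Ideal.mul_sup _ _ _
          _ ≤ I'.map φ ⊔ J ^ (m + (k + 1) + 1) :=
              sup_le_sup Ideal.mul_le_right (le_of_eq e2)
      exact ih.trans (sup_le le_sup_left h91)
  have h10 : (J ^ m : Ideal B) ≤ (I'.map φ).closure := by
    intro x hx
    rw [← SetLike.mem_coe, Ideal.coe_closure, h5_mem_closure_ideal_iff]
    intro L hL
    obtain ⟨k, hk⟩ := hJ'.2 L (hL.mem_nhds L.zero_mem)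
    have hle : J ^ (m + k + 1) ≤ L :=
      (Ideal.pow_le_pow_right (by omega)).trans (SetLike.coe_subset_coe.1 hk)
    exact sup_le_sup_left hle _ (h9 k hx)
  have hopenB : ∀ n, IsOpen ((((I' ^ n).map φ).closure : Ideal B) : Set B) := by
    intro n
    refine Ideal.isOpen_of_isOpen_subideal ?_ (hJ'.1 (m * n))
    rw [pow_mul, Ideal.map_pow]
    exact (Ideal.pow_right_mono h10 n).trans (h5_closure_pow_le _ n)
  have hopenA : ∀ n, IsOpen (closure ((I' ^ n : Ideal A) : Set A)) := by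
    intro n
    rw [← Ideal.coe_closure]
    exact Ideal.isOpen_of_isOpen_subideal (h5_comap_closure_map_le_closure φ hφ' (I' ^ n))
      ((hopenB n).preimage hc)
  have hbasisA : ∀ U ∈ nhds (0 : A), ∃ n, closure ((I' ^ n : Ideal A) : Set A) ⊆ U := by
    intro U hU
    obtain ⟨n, -, hn⟩ := h5_closure_subset_of_isIdealOfDefinition I hIdef hU
    exact ⟨n, (closure_mono (SetLike.coe_subset_coe.2 (Ideal.pow_right_mono hI'I n))).trans hn⟩
  have hadic : IsAdic I' := h5_isAdic_of_fg I' hI'FG hopenA hbasisA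
  exact ⟨⟨⟨I', hadic⟩, inferInstance, inferInstance⟩, I',
    h5_isIdealOfDefinition_of_isAdic hadic, hI'FG⟩

end Groth.Agent.S10170
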