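import Groth.Statements.S10171
import Mathlib

set_option autoImplicit false
universe u v
open LinTop

namespace Groth.Agent.S10171

/-- Let M be a linearly topologized module over a ring R and N a submodule. Write M^ for the separated
completion of M and (M/N)^ for that of M/N (quotient topology, additive uniform structure). Then the
kernel of the induced map M^ → (M/N)^ is the closure of the image of N in M^; that closure is the
completion of N, so this is the exactness of 0 → N^ → M^ → (M/N)^ at M^. -/
theorem result
    {R : Type u} [Ring R] {M : Type v} [AddCommGroup M] [Module R M] [UniformSpace M]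
    [IsUniformAddGroup M] [IsLinearTopology R M] (N : Submodule R M) :
    (@UniformSpace.Completion.map M _ (M ⧸ N.toAddSubgroup)
        (IsTopologicalAddGroup.rightUniformSpace (M ⧸ N.toAddSubgroup))
        (QuotientAddGroup.mk' N.toAddSubgroup)) ⁻¹' {0} =
      closure (Set.range (fun n : N => ((n : M) : UniformSpace.Completion M))) := by
  letI uQ : UniformSpace (M ⧸ N.toAddSubgroup) :=
    IsTopologicalAddGroup.rightUniformSpace (M ⧸ N.toAddSubgroup)
  haveI : IsUniformAddGroup (M ⧸ N.toAddSubgroup) := isUniformAddGroup_of_addCommGroup
  obtain ⟨π, hπdef⟩ : ∃ π : M →+ M ⧸ N.toAddSubgroup, π = QuotientAddGroup.mk' N.toAddSubgroup :=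
    ⟨_, rfl⟩
  have hπc : Continuous π := by
    rw [hπdef]
    exact QuotientAddGroup.continuous_mk
  have hπu : UniformContinuous π := uniformContinuous_addMonoidHom_of_continuous hπc
  have hπo : IsOpenMap π := by
    rw [hπdef]
    exact QuotientAddGroup.isOpenMap_coe
  have hπ0 : ∀ m : M, π m = 0 ↔ m ∈ N := by
    intro m
    rw [hπdef]
    exact QuotientAddGroup.eq_zero_iff m
  obtain ⟨Pm, hPmdef⟩ : ∃ Pm : UniformSpace.Completion M →+
      UniformSpace.Completion (M ⧸ N.toAddSubgroup), Pm = AddMonoidHom.completion π hπc := ⟨_, rfl⟩
  have hPm : ∀ x, Pm x = UniformSpace.Completion.map π x := fun x => by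
    rw [hPmdef]
    rfl
  have hPmc : Continuous Pm := by
    rw [hPmdef]
    exact AddMonoidHom.continuous_completion π hπc
  have hPmcoe : ∀ m : M, Pm (m : UniformSpace.Completion M) =
      ((π m : M ⧸ N.toAddSubgroup) : UniformSpace.Completion (M ⧸ N.toAddSubgroup)) := fun m => by
    rw [hPmdef]
    exact AddMonoidHom.completion_coe π hπc m
  have hgoal : (⇑Pm) ⁻¹' {0} =
      closure (Set.range (fun n : N => ((n : M) : UniformSpace.Completion M))) := by
    apply Set.Subset.antisymm
    · intro x hx
      have hx0 : Pm x = 0 := hx
      rw [mem_closure_iff_nhds]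
      intro t ht
      have hU : (fun y => x + y) ⁻¹' t ∈ nhds (0 : UniformSpace.Completion M) := by
        have : Filter.Tendsto (fun y => x + y) (nhds 0) (nhds x) := by
          have := (continuous_add_left x).tendsto 0
          simpa using this
        exact this ht
      obtain ⟨V, hV, hVc, hVU⟩ := exists_mem_nhds_isClosed_subset hU
      have hpre : (fun m : M => (m : UniformSpace.Completion M)) ⁻¹' V ∈ nhds (0 : M) := by
        refine (UniformSpace.Completion.continuous_coe M).continuousAt.preimage_mem_nhds ?_
        rw [UniformSpace.Completion.coe_zero]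
        exact hV
      obtain ⟨P, hP, hPV⟩ := (IsLinearTopology.hasBasis_open_submodule R (M := M)).mem_iff.1 hpre
      obtain ⟨Pc, hPcdef⟩ : ∃ Pc : AddSubgroup (UniformSpace.Completion M), Pc =
          (P.toAddSubgroup.map (UniformSpace.Completion.toCompl :
            M →+ UniformSpace.Completion M)).topologicalClosure := ⟨_, rfl⟩
      have hPccoe : (Pc : Set (UniformSpace.Completion M)) =
          closure ((fun m : M => (m : UniformSpace.Completion M)) '' (P : Set M)) := by
        rw [hPcdef]
        rfl
      have hPc_nhds : (Pc : Set (UniformSpace.Completion M)) ∈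
          nhds (0 : UniformSpace.Completion M) := by
        have h1 : closure ((fun m : M => (m : UniformSpace.Completion M)) '' (P : Set M)) ∈
            nhds ((0 : M) : UniformSpace.Completion M) :=
          UniformSpace.Completion.isDenseInducing_coe.closure_image_mem_nhds
            (hP.mem_nhds P.zero_mem)
        rw [UniformSpace.Completion.coe_zero] at h1
        rw [hPccoe]
        exact h1
      have hPcV : (Pc : Set (UniformSpace.Completion M)) ⊆ V := by
        rw [hPccoe]
        refine closure_minimal ?_ hVc
        rintro _ ⟨p, hp, rfl⟩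
        exact hPV hp
      have hxn : (fun y => x + y) '' (Pc : Set (UniformSpace.Completion M)) ∈ nhds x := by
        rw [← map_add_left_nhds_zero x]
        exact Filter.image_mem_map hPc_nhds
      obtain ⟨m, y, hy, hym⟩ := UniformSpace.Completion.denseRange_coe.mem_nhds hxn
      have hym' : x + y = (m : UniformSpace.Completion M) := hym
      have hPmy : Pm y = ((π m : M ⧸ N.toAddSubgroup) :
          UniformSpace.Completion (M ⧸ N.toAddSubgroup)) := by
        have : y = (m : UniformSpace.Completion M) - x := by
          rw [← hym']
          abel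
        rw [this, map_sub, hx0, sub_zero, hPmcoe]
      have hPmy2 : Pm y ∈ closure ((fun q : M ⧸ N.toAddSubgroup =>
          (q : UniformSpace.Completion (M ⧸ N.toAddSubgroup))) '' (π '' (P : Set M))) := by
        have h1 : y ∈ closure ((fun m : M => (m : UniformSpace.Completion M)) '' (P : Set M)) := by
          rw [← hPccoe]
          exact hy
        have h2 := image_closure_subset_closure_image hPmc (Set.mem_image_of_mem Pm h1)
        refine closure_mono ?_ h2
        rintro _ ⟨_, ⟨p, hp, rfl⟩, rfl⟩
        exact ⟨π p, ⟨p, hp, rfl⟩, (hPmcoe p).symm⟩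
      rw [hPmy] at hPmy2
      have hind : Topology.IsInducing (fun q : M ⧸ N.toAddSubgroup =>
          (q : UniformSpace.Completion (M ⧸ N.toAddSubgroup))) :=
        UniformSpace.Completion.isDenseInducing_coe.isInducing
      have h3 : π m ∈ closure (π '' (P : Set M)) := by
        rw [hind.closure_eq_preimage_closure_image]
        exact hPmy2
      have hopen : IsOpen (π '' (P : Set M)) := hπo _ hP
      have hclosed : IsClosed (π '' (P : Set M)) := by
        have : (π '' (P : Set M)) =
            ((P.toAddSubgroup.map π : AddSubgroup (M ⧸ N.toAddSubgroup)) :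
              Set (M ⧸ N.toAddSubgroup)) := rfl
        rw [this] at hopen ⊢
        exact AddSubgroup.isClosed_of_isOpen _ hopen
      rw [hclosed.closure_eq] at h3
      obtain ⟨p, hp, hpm⟩ := h3
      have hn : m - p ∈ N := by
        have : π (m - p) = 0 := by
          rw [map_sub, hpm, sub_self]
        exact (hπ0 _).1 this
      refine ⟨((m - p : M) : UniformSpace.Completion M), ?_, ⟨⟨m - p, hn⟩, rfl⟩⟩
      have hpPc : (p : UniformSpace.Completion M) ∈ Pc := by
        rw [← SetLike.mem_coe, hPccoe]
        exact subset_closure ⟨p, hp, rfl⟩
      have hyp : y - (p : UniformSpace.Completion M) ∈ Pc := Pc.sub_mem hy hpPc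
      have : ((m - p : M) : UniformSpace.Completion M) =
          x + (y - (p : UniformSpace.Completion M)) := by
        rw [UniformSpace.Completion.coe_sub, ← hym']
        abel
      rw [this]
      exact hVU (hPcV hyp)
    · refine closure_minimal ?_ (isClosed_singleton.preimage hPmc)
      rintro _ ⟨n, rfl⟩
      show Pm ((n : M) : UniformSpace.Completion M) = 0
      rw [hPmcoe]
      have : π (n : M) = 0 := (hπ0 _).2 n.2
      rw [this, UniformSpace.Completion.coe_zero]
  have hfun : (⇑Pm : UniformSpace.Completion M → UniformSpace.Completion (M ⧸ N.toAddSubgroup)) =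
      UniformSpace.Completion.map (QuotientAddGroup.mk' N.toAddSubgroup) := by
    funext x
    rw [hPm, hπdef]
  rw [← hfun]
  exact hgoal

end Groth.Agent.S10171
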