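import Groth.Statements.S10172
import Mathlib
import Groth.Agent.Lib.helper5.LinTopGrp

set_option autoImplicit false
universe u v
open LinTop

namespace Groth.Agent.S10172

/-- Let M be a linearly topologized module over a ring R having a countable fundamental system of
neighbourhoods of 0, and N a submodule. With M^ and (M/N)^ the separated completions of M and of M/N
(quotient topology, additive uniform structure), the induced map M^ → (M/N)^ is surjective and open
(so, its kernel being the completion of N, the sequence 0 → N^ → M^ → (M/N)^ → 0 is exact). -/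
theorem result
    {R : Type u} [Ring R] {M : Type v} [AddCommGroup M] [Module R M] [UniformSpace M]
    [IsUniformAddGroup M] [IsLinearTopology R M] (hc : (nhds (0 : M)).IsCountablyGenerated)
    (N : Submodule R M) :
    Function.Surjective (@UniformSpace.Completion.map M _ (M ⧸ N.toAddSubgroup)
        (IsTopologicalAddGroup.rightUniformSpace (M ⧸ N.toAddSubgroup))
        (QuotientAddGroup.mk' N.toAddSubgroup)) ∧
      IsOpenMap (@UniformSpace.Completion.map M _ (M ⧸ N.toAddSubgroup)
        (IsTopologicalAddGroup.rightUniformSpace (M ⧸ N.toAddSubgroup))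
        (QuotientAddGroup.mk' N.toAddSubgroup)) := by
  letI uQ : UniformSpace (M ⧸ N.toAddSubgroup) :=
    IsTopologicalAddGroup.rightUniformSpace (M ⧸ N.toAddSubgroup)
  haveI : IsUniformAddGroup (M ⧸ N.toAddSubgroup) := isUniformAddGroup_of_addCommGroup
  obtain ⟨π, hπdef⟩ : ∃ π : M →+ M ⧸ N.toAddSubgroup, π = QuotientAddGroup.mk' N.toAddSubgroup :=
    ⟨_, rfl⟩
  have hπc : Continuous π := by
    rw [hπdef]
    exact QuotientAddGroup.continuous_mk
  have hπo : IsOpenMap π := by
    rw [hπdef]
    exact QuotientAddGroup.isOpenMap_coe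
  have hπsurj : Function.Surjective π := by
    rw [hπdef]
    exact QuotientAddGroup.mk'_surjective _
  obtain ⟨Pm, hPmdef⟩ : ∃ Pm : UniformSpace.Completion M →+
      UniformSpace.Completion (M ⧸ N.toAddSubgroup), Pm = AddMonoidHom.completion π hπc := ⟨_, rfl⟩
  have hPm : ∀ x, Pm x = UniformSpace.Completion.map π x := fun x => by
    rw [hPmdef]
    rfl
  have hPmc : Continuous Pm := by
    rw [hPmdef]
    exact AddMonoidHom.continuous_completion π hπc
  have hPmcoe : ∀ m : M, Pm (m : UniformSpace.Completion M) =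
      ((π m : M ⧸ N.toAddSubgroup) : UniformSpace.Completion (M ⧸ N.toAddSubgroup)) := fun m => by
    rw [hPmdef]
    exact AddMonoidHom.completion_coe π hπc m
  obtain ⟨x, hx, hbasis⟩ :=
    (IsLinearTopology.hasBasis_open_submodule R (M := M)).exists_antitone_subbasis
  have hBM : (nhds (0 : M)).HasBasis (fun _ : ℕ => True) (fun k => (x k : Set M)) :=
    hbasis.toHasBasis
  have hBQ : (nhds (0 : M ⧸ N.toAddSubgroup)).HasBasis (fun _ : ℕ => True)
      (fun k => π '' (x k : Set M)) := by
    have h0 : nhds (0 : M ⧸ N.toAddSubgroup) = Filter.map π (nhds 0) := by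
      have := (hπo.map_nhds_eq (hπc.continuousAt (x := 0))).symm
      rwa [map_zero] at this
    rw [h0]
    exact hBM.map π
  obtain ⟨Pk, hPkdef⟩ : ∃ Pk : ℕ → AddSubgroup (UniformSpace.Completion M), Pk = fun k =>
      ((x k).toAddSubgroup.map (UniformSpace.Completion.toCompl :
        M →+ UniformSpace.Completion M)).topologicalClosure := ⟨_, rfl⟩
  obtain ⟨Qk, hQkdef⟩ : ∃ Qk : ℕ → AddSubgroup (UniformSpace.Completion (M ⧸ N.toAddSubgroup)),
      Qk = fun k => (((x k).toAddSubgroup.map π).map (UniformSpace.Completion.toCompl :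
        M ⧸ N.toAddSubgroup →+ UniformSpace.Completion (M ⧸ N.toAddSubgroup))).topologicalClosure :=
    ⟨_, rfl⟩
  have hPkcoe : ∀ k, (Pk k : Set (UniformSpace.Completion M)) =
      closure ((fun m : M => (m : UniformSpace.Completion M)) '' (x k : Set M)) := fun k => by
    rw [hPkdef]
    rfl
  have hQkcoe : ∀ k, (Qk k : Set (UniformSpace.Completion (M ⧸ N.toAddSubgroup))) =
      closure ((fun q : M ⧸ N.toAddSubgroup =>
        (q : UniformSpace.Completion (M ⧸ N.toAddSubgroup))) '' (π '' (x k : Set M))) := fun k => by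
    rw [hQkdef]
    rfl
  have hBMc := h5_compl_hasBasis _ hBM
  have hBQc := h5_compl_hasBasis _ hBQ
  have hPkn : ∀ k, (Pk k : Set (UniformSpace.Completion M)) ∈ nhds 0 := fun k => by
    rw [hPkcoe]
    exact hBMc.mem_of_mem trivial
  have hPko : ∀ k, IsOpen (Pk k : Set (UniformSpace.Completion M)) := fun k =>
    AddSubgroup.isOpen_of_mem_nhds _ (hPkn k)
  have hQkn : ∀ k, (Qk k : Set (UniformSpace.Completion (M ⧸ N.toAddSubgroup))) ∈ nhds 0 :=
    fun k => by
      rw [hQkcoe]
      exact hBQc.mem_of_mem trivial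
  have hPanti : Antitone Pk := by
    intro i j hij
    rw [← SetLike.coe_subset_coe, hPkcoe, hPkcoe]
    exact closure_mono (Set.image_mono (hbasis.antitone hij))
  have hQanti : Antitone Qk := by
    intro i j hij
    rw [← SetLike.coe_subset_coe, hQkcoe, hQkcoe]
    exact closure_mono (Set.image_mono (Set.image_mono (hbasis.antitone hij)))
  have hPb : ∀ U ∈ nhds (0 : UniformSpace.Completion M), ∃ k,
      (Pk k : Set (UniformSpace.Completion M)) ⊆ U := by
    intro U hU
    obtain ⟨k, -, hk⟩ := hBMc.mem_iff.1 hU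
    exact ⟨k, by rw [hPkcoe]; exact hk⟩
  have hQb : ∀ U ∈ nhds (0 : UniformSpace.Completion (M ⧸ N.toAddSubgroup)), ∃ k,
      (Qk k : Set (UniformSpace.Completion (M ⧸ N.toAddSubgroup))) ⊆ U := by
    intro U hU
    obtain ⟨k, -, hk⟩ := hBQc.mem_iff.1 hU
    exact ⟨k, by rw [hQkcoe]; exact hk⟩
  have happ : ∀ (k : ℕ) (q : UniformSpace.Completion (M ⧸ N.toAddSubgroup)), q ∈ Qk k →
      ∃ p ∈ Pk k, q - Pm p ∈ Qk (k + 1) := by
    intro k q hq
    have hnb : (fun y => q + y) ''
        (Qk (k + 1) : Set (UniformSpace.Completion (M ⧸ N.toAddSubgroup))) ∈ nhds q := by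
      rw [← map_add_left_nhds_zero q]
      exact Filter.image_mem_map (hQkn (k + 1))
    have hq' : q ∈ closure ((fun q : M ⧸ N.toAddSubgroup =>
        (q : UniformSpace.Completion (M ⧸ N.toAddSubgroup))) '' (π '' (x k : Set M))) := by
      rw [← hQkcoe]
      exact hq
    obtain ⟨z, ⟨y, hy, hyz⟩, ⟨_, ⟨m, hm, rfl⟩, hmz⟩⟩ := mem_closure_iff_nhds.1 hq' _ hnb
    have h1 : q + y = z := hyz
    have h2 : ((π m : M ⧸ N.toAddSubgroup) :
        UniformSpace.Completion (M ⧸ N.toAddSubgroup)) = z := hmz
    refine ⟨(m : UniformSpace.Completion M), ?_, ?_⟩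
    · rw [← SetLike.mem_coe, hPkcoe]
      exact subset_closure ⟨m, hm, rfl⟩
    · rw [hPmcoe, h2, ← h1]
      have : q - (q + y) = -y := by abel
      rw [this]
      exact (Qk (k + 1)).neg_mem hy
  have hlift := h5_lift_of_approx Pm hPmc Pk hPko hPanti hPb Qk hQanti hQb happ
  have hopen : IsOpenMap Pm := h5_isOpenMap_of_lift Pm Pk hPb Qk hQkn hlift
  have hdense : DenseRange Pm := by
    refine Dense.mono ?_ UniformSpace.Completion.denseRange_coe
    rintro _ ⟨q, rfl⟩
    obtain ⟨m, rfl⟩ := hπsurj q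
    exact ⟨(m : UniformSpace.Completion M), hPmcoe m⟩
  have hsurj := h5_surjective_of_lift Pm hdense Pk Qk hQkn hlift
  have hfun : (⇑Pm : UniformSpace.Completion M → UniformSpace.Completion (M ⧸ N.toAddSubgroup)) =
      UniformSpace.Completion.map (QuotientAddGroup.mk' N.toAddSubgroup) := by
    funext x
    rw [hPm, hπdef]
  rw [← hfun]
  exact ⟨hsurj, hopen⟩

end Groth.Agent.S10172
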