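import Groth.Statements.S10173
import Mathlib
import Groth.Agent.Lib.helper5.LinTopModAdic

set_option autoImplicit false
universe u v
open LinTop

namespace Groth.Agent.S10173

/-- Let R be a commutative ring, I a finitely generated ideal and M a topological R-module (additive
uniform structure, each scalar acting uniformly continuously) having an open submodule M' whose
topology is the I-adic one, i.e. the I^n M' are open in M and form a fundamental system of
neighbourhoods of 0. Then the separated completion M^ has an open submodule whose topology is I-adic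
in the same sense, and for every n ≥ 1 the map M → M^/I^n M^ is surjective with kernel I^n M,
identifying M^/I^n M^ with M/I^n M. -/
theorem result
    {R : Type u} [CommRing R] (I : Ideal R) (hI : I.FG)
    {M : Type v} [AddCommGroup M] [Module R M] [UniformSpace M] [IsUniformAddGroup M]
    [UniformContinuousConstSMul R M]
    (M' : Submodule R M) (hopen : ∀ n : ℕ, IsOpen ((I ^ n • M' : Submodule R M) : Set M))
    (hbasis : ∀ U ∈ nhds (0 : M), ∃ n : ℕ, ((I ^ n • M' : Submodule R M) : Set M) ⊆ U) :
    (∃ M'' : Submodule R (UniformSpace.Completion M),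
        (∀ n : ℕ, IsOpen ((I ^ n • M'' : Submodule R (UniformSpace.Completion M)) :
          Set (UniformSpace.Completion M))) ∧
        ∀ U ∈ nhds (0 : UniformSpace.Completion M), ∃ n : ℕ,
          ((I ^ n • M'' : Submodule R (UniformSpace.Completion M)) :
            Set (UniformSpace.Completion M)) ⊆ U) ∧
      ∀ n : ℕ, 0 < n →
        Function.Surjective ((QuotientAddGroup.mk' (I ^ n • ⊤ : Submodule R (UniformSpace.Completion M)).toAddSubgroup).comp
          (UniformSpace.Completion.toCompl : M →+ UniformSpace.Completion M)) ∧
        ((QuotientAddGroup.mk' (I ^ n • ⊤ : Submodule R (UniformSpace.Completion M)).toAddSubgroup).comp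
          (UniformSpace.Completion.toCompl : M →+ UniformSpace.Completion M)).ker = (I ^ n • ⊤ : Submodule R M).toAddSubgroup := by
  have hCopen := h5_cl_isOpen I M' hopen hbasis
  have hCbasis := h5_cl_basis I M' hopen hbasis
  have heq := h5_smul_cl_eq I M' hI hopen hbasis
  have hC0 : IsOpen ((h5Cl M' : Submodule R (UniformSpace.Completion M)) :
      Set (UniformSpace.Completion M)) := by
    have := hCopen 0
    rw [h5_pow_zero_smul] at this
    exact this
  refine ⟨⟨h5Cl M', fun n => ?_, fun U hU => ?_⟩, fun n _ => ⟨?_, ?_⟩⟩
  · rw [heq n]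
    exact hCopen n
  · obtain ⟨k, hk⟩ := hCbasis U hU
    exact ⟨k, by rw [heq k]; exact hk⟩
  · intro q
    obtain ⟨x, rfl⟩ := QuotientAddGroup.mk'_surjective _ q
    obtain ⟨m, hm⟩ := h5_exists_sub_mem _ (hCopen n) x
    refine ⟨m, ?_⟩
    show (QuotientAddGroup.mk' _) ((m : M) : UniformSpace.Completion M) = QuotientAddGroup.mk' _ x
    refine (QuotientAddGroup.eq).2 ?_
    have h1 : x - (m : UniformSpace.Completion M) ∈
        (I ^ n • ⊤ : Submodule R (UniformSpace.Completion M)) := by
      have h2 : h5Cl (I ^ n • M') ≤ (I ^ n • ⊤ : Submodule R (UniformSpace.Completion M)) := by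
        rw [← heq n]
        exact Submodule.smul_mono (le_refl _) le_top
      exact h2 hm
    have h3 : -((m : M) : UniformSpace.Completion M) + x = x - (m : UniformSpace.Completion M) := by
      abel
    rw [h3]
    exact h1
  · ext m
    rw [AddMonoidHom.mem_ker]
    show (QuotientAddGroup.mk' _) ((m : M) : UniformSpace.Completion M) = 0 ↔ _
    rw [QuotientAddGroup.mk'_apply, QuotientAddGroup.eq_zero_iff]
    exact h5_coe_mem_smul_top_iff I M' hopen hC0 n m

end Groth.Agent.S10173
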