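import Groth.Statements.S10182
import Mathlib
import Groth.Agent.Lib.helper5.AlgSpGraph
import Groth.Agent.Lib.helper5.AlgSpDesc
import Groth.Agent.Lib.helper5.SchDescent

set_option autoImplicit false
universe u
open CategoryTheory CategoryTheory.Limits AlgebraicGeometry Topology TopologicalSpace
open AlgSp

namespace Groth.Agent.S10182

/-- Let X be an algebraic space over a scheme S, U a scheme over S whose underlying scheme is
quasi-separated, p : h_U ⟶ X representable etale and surjective, and R a scheme over S with h_R =
h_U ×_X h_U. If one of the two projections R ⟶ U is quasi-compact, then X is quasi-separated over S.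
(The published statement concludes absolute quasi-separatedness, i.e. over the integers; this row
concludes quasi-separatedness of the diagonal over S, which the same argument gives and which the
absolute notion implies.) -/
theorem result {S : Scheme.{u}} (X : AlgSp.Space S) {R U : Over S}
    (p : (AlgSp.yon S).obj U ⟶ X.obj) (hp : AlgSp.RepWith @Etale p) (hs : AlgSp.RepWith @Surjective p)
    [QuasiSeparatedSpace ↥U.left] (s t : R ⟶ U)
    (hR : IsPullback ((AlgSp.yon S).map t) ((AlgSp.yon S).map s) p p) [QuasiCompact t.left] :
    AlgSp.IsQuasiSeparatedSp X.obj := by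
  haveI := AlgSp.h5_isLocallySurjective_prod_map p hp hs
  have sq1 := AlgSp.h5_isPullback_diag hR
  have e1 : prod.lift ((AlgSp.yon S).map t) ((AlgSp.yon S).map s) =
      (AlgSp.yon S).map (prod.lift t s) ≫ prodComparison (AlgSp.yon S) U U := by
    apply prod.hom_ext
    · rw [Category.assoc, prodComparison_fst, ← Functor.map_comp, prod.lift_fst, prod.lift_fst]
    · rw [Category.assoc, prodComparison_snd, ← Functor.map_comp, prod.lift_snd, prod.lift_snd]
  refine AlgSp.h5_repWith_descend (Limits.diag X.obj) X.property.diag (prod.map p p) _ _ sq1
    @QuasiCompact ?_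
  rw [e1]
  refine ((AlgSp.RepWith @QuasiCompact).cancel_right_of_respectsIso _
    (prodComparison (AlgSp.yon S) U U)).2 ?_
  rw [AlgSp.repWith_yon_map_iff]
  have e2 : (prod.lift t s).left ≫ (Over.prodLeftIsoPullback U U).hom ≫
      pullback.fst U.hom U.hom = t.left := by
    rw [Over.prodLeftIsoPullback_hom_fst, ← Over.comp_left, prod.lift_fst]
  haveI : QuasiCompact ((prod.lift t s).left ≫ (Over.prodLeftIsoPullback U U).hom ≫
      pullback.fst U.hom U.hom) := by rw [e2]; infer_instance
  exact QuasiCompact.of_comp (prod.lift t s).left ((Over.prodLeftIsoPullback U U).hom ≫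
      pullback.fst U.hom U.hom)

end Groth.Agent.S10182
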