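import Groth.Statements.S10183
import Mathlib
import Groth.Agent.Lib.helper5.AlgSpImm

set_option autoImplicit false
universe u
open CategoryTheory CategoryTheory.Limits AlgebraicGeometry Topology TopologicalSpace
open AlgSp

namespace Groth.Agent.S10183

/-- Let X be an algebraic space over a scheme S, a : h_U ⟶ X a representable etale map from a scheme U
over S, and R a scheme over S with h_R = h_U ×_X h_U whose two projections s, t : R ⟶ U are
quasi-compact (for instance if a is quasi-compact). Then the maps |U| → |X| and |R| → |X| have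
finite fibres. -/
theorem result {S : Scheme.{u}} (X : AlgSp.Space S) {R U : Over S}
    (a : (AlgSp.yon S).obj U ⟶ X.obj) (ha : AlgSp.RepWith @Etale a) (s t : R ⟶ U)
    (hR : IsPullback ((AlgSp.yon S).map t) ((AlgSp.yon S).map s) a a)
    [QuasiCompact s.left] [QuasiCompact t.left] (x : AlgSp.Points X.obj) :
    (AlgSp.Points.ofPt a ⁻¹' {x}).Finite ∧
      (AlgSp.Points.ofPt ((AlgSp.yon S).map t ≫ a) ⁻¹' {x}).Finite := by
  have lqf : ∀ {A B : Scheme.{u}} (f : A ⟶ B) [Etale f], LocallyQuasiFinite f := by
    intro A B f _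
    rw [HasRingHomProperty.iff_appLE (P := @LocallyQuasiFinite)]
    intro U V e
    have h : RingHom.Etale (f.appLE U V e).hom := HasRingHomProperty.appLE @Etale f ‹_› U V e
    algebraize [(f.appLE U V e).hom]
    show Algebra.QuasiFinite _ _
    infer_instance
  have het : Etale t.left := ha.property a ((AlgSp.yon S).map s) t hR.flip
  have hqt : LocallyQuasiFinite t.left := lqf t.left
  have h1 : (AlgSp.Points.ofPt a ⁻¹' {x}).Finite := by
    by_cases hne : (AlgSp.Points.ofPt a ⁻¹' {x}).Nonempty
    · obtain ⟨u₀, hu₀⟩ := hne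
      have hu₀' : AlgSp.Points.ofPt a u₀ = x := hu₀
      refine Set.Finite.subset ((t.left.finite_preimage_singleton u₀).image s.left) ?_
      intro u hu
      have hu' : AlgSp.Points.ofPt a u = x := hu
      obtain ⟨r, hr1, hr2⟩ := AlgSp.h5_exists_of_ofPt_eq hR u₀ u (hu₀'.trans hu'.symm)
      exact ⟨r, hr1, hr2⟩
    · rw [Set.not_nonempty_iff_eq_empty] at hne
      rw [hne]
      exact Set.finite_empty
  refine ⟨h1, ?_⟩
  have : AlgSp.Points.ofPt ((AlgSp.yon S).map t ≫ a) ⁻¹' {x} =
      t.left ⁻¹' (AlgSp.Points.ofPt a ⁻¹' {x}) := by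
    ext r
    simp only [Set.mem_preimage, Set.mem_singleton_iff]
    rw [AlgSp.h5_ofPt_map_comp]
  rw [this]
  exact t.left.finite_preimage h1

end Groth.Agent.S10183
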