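import Groth.Statements.S10184
import Mathlib
import Groth.Agent.Lib.helper5.AlgSpGraph

set_option autoImplicit false
universe u
open CategoryTheory CategoryTheory.Limits AlgebraicGeometry Topology TopologicalSpace
open AlgSp

namespace Groth.Agent.S10184

/-- Let X be an algebraic space over a scheme S such that for all affine schemes U, V over S mapping to
X, every scheme P over S representing h_U ×_X h_V is quasi-compact. Then X is quasi-separated over
S. (The published statement is about absolute quasi-separatedness, over the integers, which this
hypothesis also gives and which implies quasi-separatedness over S.) -/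
theorem result {S : Scheme.{u}} (X : AlgSp.Space S)
    (h : ∀ (U V P : Over S) (a : (AlgSp.yon S).obj U ⟶ X.obj) (b : (AlgSp.yon S).obj V ⟶ X.obj)
      (fst : P ⟶ U) (snd : P ⟶ V),
      IsAffine U.left → IsAffine V.left →
      IsPullback ((AlgSp.yon S).map fst) ((AlgSp.yon S).map snd) a b → CompactSpace ↥P.left) :
    AlgSp.IsQuasiSeparatedSp X.obj := by
  refine AlgSp.h5_repWith_of_affine @QuasiCompact (Limits.diag X.obj) X.property.diag ?_
  intro T E hT g fstE e2 sqE
  have hg : g = prod.lift (g ≫ prod.fst) (g ≫ prod.snd) := by
    apply prod.hom_ext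
    · rw [prod.lift_fst]
    · rw [prod.lift_snd]
  rw [hg] at sqE
  have hrep := X.property.representable_from_yon (g ≫ prod.fst)
  have sq := hrep.isPullback (g ≫ prod.snd)
  obtain ⟨p1, hp1⟩ := (AlgSp.yon S).map_surjective (hrep.fst (g ≫ prod.snd))
  rw [← hp1] at sq
  haveI hP : CompactSpace ↥(hrep.pullback (g ≫ prod.snd)).left :=
    h T T _ _ _ p1 (hrep.snd _) hT hT sq
  obtain ⟨l, -, -, sqS⟩ := AlgSp.h5_magic_scheme sq sqE
  haveI : IsAffine T.left := hT
  have hd : IsClosedImmersion (Limits.diag T).left := by
    have e := AlgSp.diag_left_comp_prodLeftIsoPullback T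
    have e' : (Limits.diag T).left =
        pullback.diagonal T.hom ≫ (Over.prodLeftIsoPullback T T).inv := by
      rw [← e, Category.assoc, Iso.hom_inv_id, Category.comp_id]
    rw [e']
    infer_instance
  haveI hl : IsClosedImmersion l.left :=
    MorphismProperty.of_isPullback (P := @IsClosedImmersion) sqS.flip hd
  haveI : CompactSpace ↥E.left := QuasiCompact.compactSpace_of_compactSpace l.left
  show QuasiCompact e2.left
  infer_instance

end Groth.Agent.S10184
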