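import Groth.Statements.S10185
import Mathlib
import Groth.Agent.Lib.helper5.AlgSpDiag

set_option autoImplicit false
universe u
open CategoryTheory CategoryTheory.Limits AlgebraicGeometry Topology TopologicalSpace
open AlgSp

namespace Groth.Agent.S10185

/-- Let S be a quasi-separated scheme and X an algebraic space over S whose diagonal over S is
quasi-compact. Then for all quasi-compact schemes U, V over S mapping to X, every scheme P over S
representing the fibre product h_U ×_X h_V is quasi-compact. (The published statement uses absolute
quasi-separatedness of X; over a quasi-separated base this is the same as quasi-separatedness over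
S, and without a hypothesis on S the relative notion does not suffice: take X = h_S for S
quasi-compact and not quasi-separated.) -/
theorem result {S : Scheme.{u}} [QuasiSeparatedSpace ↥S]
    (X : AlgSp.Space S) (hX : AlgSp.IsQuasiSeparatedSp X.obj) (U V P : Over S) (a : (AlgSp.yon S).obj U ⟶ X.obj) (b : (AlgSp.yon S).obj V ⟶ X.obj)
      (fst : P ⟶ U) (snd : P ⟶ V)
    [CompactSpace ↥U.left] [CompactSpace ↥V.left]
    (h : IsPullback ((AlgSp.yon S).map fst) ((AlgSp.yon S).map snd) a b) :
    CompactSpace ↥P.left := by
  have sq1 := AlgSp.h5_isPullback_diag h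
  have e1 : prod.lift ((AlgSp.yon S).map fst) ((AlgSp.yon S).map snd) =
      (AlgSp.yon S).map (prod.lift fst snd) ≫ prodComparison (AlgSp.yon S) U V := by
    apply prod.hom_ext
    · rw [Category.assoc, prodComparison_fst, ← Functor.map_comp, prod.lift_fst, prod.lift_fst]
    · rw [Category.assoc, prodComparison_snd, ← Functor.map_comp, prod.lift_snd, prod.lift_snd]
  rw [e1] at sq1
  have sq2 : IsPullback ((AlgSp.yon S).map fst ≫ a) ((AlgSp.yon S).map (prod.lift fst snd))
      (Limits.diag X.obj) (prodComparison (AlgSp.yon S) U V ≫ prod.map a b) :=
    IsPullback.of_iso sq1 (Iso.refl _) (Iso.refl _) (asIso (prodComparison (AlgSp.yon S) U V)).symm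
      (Iso.refl _) (by simp) (by simp) (by simp) (by simp)
  have hqc : QuasiCompact (prod.lift fst snd).left := hX.property _ _ _ sq2
  haveI : QuasiCompact U.hom := inferInstance
  haveI : CompactSpace ↥(pullback U.hom V.hom) := inferInstance
  haveI : CompactSpace ↥(U ⨯ V).left :=
    QuasiCompact.compactSpace_of_compactSpace (Over.prodLeftIsoPullback U V).hom
  exact QuasiCompact.compactSpace_of_compactSpace (prod.lift fst snd).left

end Groth.Agent.S10185
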