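import Groth.Statements.S10186
import Mathlib
import Groth.Agent.Lib.helper5.AlgSpGraph

set_option autoImplicit false
universe u
open CategoryTheory CategoryTheory.Limits AlgebraicGeometry Topology TopologicalSpace
open AlgSp

namespace Groth.Agent.S10186

/-- Let X be an algebraic space over a scheme S such that for all affine schemes U, V over S mapping to
X and every scheme P over S representing h_U ×_X h_V, the scheme P is affine and the ring map from
the tensor product over the integers of the global sections of U and V to the global sections of P,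
induced by the two projections, is surjective. Then X is separated over S. (The published statement
concerns absolute separatedness, over the integers, which this hypothesis also gives and which
implies separatedness over S.) -/
theorem result {S : Scheme.{u}} (X : AlgSp.Space S)
    (h : ∀ (U V P : Over S) (a : (AlgSp.yon S).obj U ⟶ X.obj) (b : (AlgSp.yon S).obj V ⟶ X.obj)
      (fst : P ⟶ U) (snd : P ⟶ V),
      IsAffine U.left → IsAffine V.left →
      IsPullback ((AlgSp.yon S).map fst) ((AlgSp.yon S).map snd) a b →
        IsAffine P.left ∧ Function.Surjective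
          (Algebra.TensorProduct.productMap fst.left.appTop.hom.toIntAlgHom snd.left.appTop.hom.toIntAlgHom)) :
    AlgSp.IsSeparatedSp X.obj := by
  refine AlgSp.h5_repWith_of_affine @IsClosedImmersion (Limits.diag X.obj) X.property.diag ?_
  intro T E hT g fstE e2 sqE
  have hg : g = prod.lift (g ≫ prod.fst) (g ≫ prod.snd) := by
    apply prod.hom_ext
    · rw [prod.lift_fst]
    · rw [prod.lift_snd]
  rw [hg] at sqE
  have hrep := X.property.representable_from_yon (g ≫ prod.fst)
  have sq := hrep.isPullback (g ≫ prod.snd)
  obtain ⟨p1, hp1⟩ := (AlgSp.yon S).map_surjective (hrep.fst (g ≫ prod.snd))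
  rw [← hp1] at sq
  obtain ⟨hPaff, hsurj⟩ := h T T _ _ _ p1 (hrep.snd _) hT hT sq
  obtain ⟨l, hl1, hl2, sqS⟩ := AlgSp.h5_magic_scheme sq sqE
  haveI : IsAffine T.left := hT
  have hd : IsClosedImmersion (Limits.diag T).left := by
    have e := AlgSp.diag_left_comp_prodLeftIsoPullback T
    have e' : (Limits.diag T).left =
        pullback.diagonal T.hom ≫ (Over.prodLeftIsoPullback T T).inv := by
      rw [← e, Category.assoc, Iso.hom_inv_id, Category.comp_id]
    rw [e']
    infer_instance
  haveI hl : IsClosedImmersion l.left :=
    MorphismProperty.of_isPullback (P := @IsClosedImmersion) sqS.flip hd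
  haveI : IsAffine (hrep.pullback (g ≫ prod.snd)).left := hPaff
  obtain ⟨hEaff, hlsurj⟩ := IsClosedImmersion.isAffine_surjective_of_isAffine (f := l.left)
  haveI : IsAffine E.left := hEaff
  show IsClosedImmersion e2.left
  apply IsClosedImmersion.of_surjective_of_isAffine
  have e1 : ∀ a, l.left.appTop (p1.left.appTop a) = e2.left.appTop a := by
    intro a
    rw [← hl1, Over.comp_left, Scheme.Hom.comp_appTop]
    rfl
  have e2' : ∀ a, l.left.appTop ((hrep.snd (g ≫ prod.snd)).left.appTop a) = e2.left.appTop a := by
    intro a
    rw [← hl2, Over.comp_left, Scheme.Hom.comp_appTop]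
    rfl
  intro z
  obtain ⟨y, rfl⟩ := hlsurj z
  obtain ⟨w, rfl⟩ := hsurj y
  induction w using TensorProduct.induction_on with
  | zero => exact ⟨0, by simp⟩
  | tmul a b =>
    refine ⟨a * b, ?_⟩
    rw [Algebra.TensorProduct.productMap_apply_tmul, map_mul, map_mul]
    congr 1
    · exact (e1 a).symm
    · exact (e2' b).symm
  | add x y hx hy =>
    obtain ⟨a, ha⟩ := hx
    obtain ⟨b, hb⟩ := hy
    exact ⟨a + b, by rw [map_add, map_add, map_add, ha, hb]⟩

end Groth.Agent.S10186
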