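import Groth.Statements.S10188
import Mathlib
import Groth.Agent.Lib.helper5.AlgSpQc2

set_option autoImplicit false
universe u
open CategoryTheory CategoryTheory.Limits AlgebraicGeometry Topology TopologicalSpace
open AlgSp

namespace Groth.Agent.S10188

/-- Let P be a property of schemes that is local in the etale topology (for every scheme V and every
etale covering family of V, V has P if and only if all members have P), and let X be an algebraic
space over a scheme S. Then X has P etale locally (some surjective etale chart from a scheme with P)
if and only if every scheme admitting a representable etale map to X has P. -/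
theorem result {S : Scheme.{u}} (P : Scheme.{u} → Prop)
    (hP : ∀ (V : Scheme.{u}) (𝒰 : Scheme.Cover.{u} (Scheme.precoverage @Etale) V), P V ↔ ∀ i, P (𝒰.X i))
    (X : AlgSp.Space S) :
    AlgSp.EtaleLocally P X.obj ↔
      ∀ (U : Over S) (a : (AlgSp.yon S).obj U ⟶ X.obj), AlgSp.RepWith @Etale a → P U.left := by
  constructor
  · rintro ⟨U, p, he, hs, hPU⟩ V a ha
    -- the fibre product W = U ×_X V
    have sq := he.rep.isPullback' a
    have h1 : Etale (he.rep.snd a).left := he.property_snd a
    have h2 : Surjective (he.rep.snd a).left := hs.property a _ _ (he.rep.isPullback a)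
    have sq' : IsPullback ((AlgSp.yon S).map (he.rep.snd a)) ((AlgSp.yon S).map (he.rep.fst' a))
        a p := sq.flip
    have h3 : Etale (he.rep.fst' a).left := ha.property p _ _ sq'
    -- P holds for W
    have hPW : P (he.rep.pullback a).left := by
      let 𝒰 : Scheme.Cover.{u} (Scheme.precoverage @Etale) U.left :=
        Scheme.Cover.mkOfCovers (ULift.{u} Bool)
          (fun b => if b.down then U.left else (he.rep.pullback a).left)
          (fun b => match b with
            | ⟨true⟩ => 𝟙 U.left
            | ⟨false⟩ => (he.rep.fst' a).left)
          (fun x => ⟨⟨true⟩, x, rfl⟩)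
          (fun b => match b with
            | ⟨true⟩ => (inferInstance : Etale (𝟙 U.left))
            | ⟨false⟩ => h3)
      exact ((hP U.left 𝒰).1 hPU) ⟨false⟩
    let 𝒱 : Scheme.Cover.{u} (Scheme.precoverage @Etale) V.left :=
      Scheme.Cover.mkOfCovers PUnit.{u + 1} (fun _ => (he.rep.pullback a).left)
        (fun _ => (he.rep.snd a).left) (fun x => ⟨⟨⟩, h2.surj x⟩) (fun _ => h1)
    exact (hP V.left 𝒱).2 (fun _ => hPW)
  · intro h
    obtain ⟨U, p, he, hs⟩ := X.property.atlas
    exact ⟨U, p, he, hs, h U p he⟩

end Groth.Agent.S10188
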