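import Groth.Statements.S10190
import Mathlib
import Groth.Agent.Lib.helper5.AlgSpImm

set_option autoImplicit false
universe u
open CategoryTheory CategoryTheory.Limits AlgebraicGeometry Topology TopologicalSpace
open AlgSp

namespace Groth.Agent.S10190

/-- For an algebraic space X over a scheme S, the set of codimension 0 points of X (points x of |X| such
that, for some representable etale h_U ⟶ X from a scheme U and some point u of U mapping to x, the
local ring of U at u has dimension 0) is dense in |X|. -/
theorem result {S : Scheme.{u}} (X : AlgSp.Space S) :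
    Dense {x : AlgSp.Points X.obj |
      AlgSp.HasAt (fun U u => ringKrullDim ↥(U.presheaf.stalk u) = 0) X.obj x} := by
  have key : ∀ (U : Scheme.{u}), Dense {u : U | ringKrullDim ↥(U.presheaf.stalk u) = 0} := by
    intro U
    rw [dense_iff_inter_open]
    rintro V hV ⟨x, hx⟩
    obtain ⟨W, hW, hxW, hWV⟩ := (U.isBasis_affineOpens).exists_subset_of_mem_open hx hV
    obtain ⟨W', hW', rfl⟩ := hW
    have hW'' : IsAffineOpen W' := hW'
    have : Nonempty W' := ⟨⟨x, hxW⟩⟩
    have hnt : Nontrivial Γ(U, W') := inferInstance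
    obtain ⟨p, hp⟩ := Ideal.nonempty_minimalPrimes (I := (⊥ : Ideal Γ(U, W'))) (by
      exact bot_ne_top)
    have hpp : p.IsPrime := hp.1.1
    let y : PrimeSpectrum Γ(U, W') := ⟨p, hpp⟩
    have hy : hW''.fromSpec y ∈ W' := by
      have h1 : hW''.fromSpec y ∈ Set.range hW''.fromSpec := ⟨y, rfl⟩
      rw [hW''.range_fromSpec] at h1
      exact h1
    refine ⟨hW''.fromSpec y, hWV hy, ?_⟩
    have hloc := hW''.isLocalization_stalk' y hy
    show ringKrullDim ↥(U.presheaf.stalk (hW''.fromSpec y)) = 0
    rw [@IsLocalization.AtPrime.ringKrullDim_eq_height _ _ p hpp _ _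
      (TopCat.Presheaf.algebra_section_stalk U.presheaf ⟨hW''.fromSpec y, hy⟩) hloc]
    have : p.height = 0 := Ideal.height_eq_zero_iff.2 hp
    rw [this]
    rfl
  obtain ⟨U, q, he, hs⟩ := X.property.atlas
  have hd := (AlgSp.h5_surjective_ofPt q hs).denseRange.dense_image
    (AlgSp.Points.continuous_ofPt q) (key U.left)
  refine hd.mono ?_
  rintro x ⟨u, hu, rfl⟩
  exact ⟨U, q, u, he, rfl, hu⟩

end Groth.Agent.S10190
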