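import Groth.Statements.S10193
import Mathlib
import Groth.Agent.Lib.helper5.AlgSpEt
import Groth.Agent.Lib.helper5.AlgSpPts
import Groth.Agent.Lib.helper5.AlgSpMono

set_option autoImplicit false
universe u
open CategoryTheory CategoryTheory.Limits AlgebraicGeometry Topology TopologicalSpace
open AlgSp

namespace Groth.Agent.S10193

/-- Let X, Y be algebraic spaces over a scheme S, i : Z ⟶ X a closed subspace (a morphism representable
by closed immersions) and assume Y is reduced. Then a morphism f : Y ⟶ X factors through Z if and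
only if |f|(|Y|) is contained in |Z|. -/
theorem result {S : Scheme.{u}} {X Y Z : AlgSp.Space S}
    (i : Z ⟶ X) (hi : AlgSp.RepWith @IsClosedImmersion i.hom) (hY : AlgSp.IsReducedSp Y.obj) (f : Y ⟶ X) :
    (∃ g : Y ⟶ Z, g ≫ i = f) ↔
      Set.range (AlgSp.Points.map f.hom) ⊆ Set.range (AlgSp.Points.map i.hom) := by
  constructor
  · rintro ⟨g, rfl⟩
    rintro _ ⟨y, rfl⟩
    refine ⟨AlgSp.Points.map g.hom y, ?_⟩
    rw [← AlgSp.Points.map_comp]
    rfl
  · intro hsub
    obtain ⟨U, p, he, hs, hU⟩ := hY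
    haveI : IsReduced U.left := hU
    have sq := hi.rep.isPullback (p ≫ f.hom)
    haveI hci : IsClosedImmersion (hi.rep.snd (p ≫ f.hom)).left := hi.property_snd _
    haveI hsurj : Surjective (hi.rep.snd (p ≫ f.hom)).left := by
      refine ⟨fun u => ?_⟩
      have h1 : AlgSp.Points.ofPt (p ≫ f.hom) u ∈ Set.range (AlgSp.Points.map i.hom) := by
        apply hsub
        exact ⟨AlgSp.Points.ofPt p u, AlgSp.Points.map_ofPt _ _ _⟩
      obtain ⟨z, hz⟩ := h1
      obtain ⟨v, -, hv⟩ := AlgSp.h5_exists_of_map_eq_ofPt sq z u hz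
      exact ⟨v, hv⟩
    haveI hiso : IsIso (hi.rep.snd (p ≫ f.hom)).left :=
      isIso_of_isClosedImmersion_of_surjective _
    haveI hiso1 : IsIso ((Over.forget S).map (hi.rep.snd (p ≫ f.hom))) := hiso
    haveI hiso' : IsIso (hi.rep.snd (p ≫ f.hom)) := isIso_of_reflects_iso _ (Over.forget S)
    obtain ⟨gU, hgU⟩ : ∃ gU : (AlgSp.yon S).obj U ⟶ Z.obj, gU ≫ i.hom = p ≫ f.hom := by
      refine ⟨(AlgSp.yon S).map (inv (hi.rep.snd (p ≫ f.hom))) ≫ hi.rep.fst (p ≫ f.hom), ?_⟩
      rw [Category.assoc, sq.w, ← Category.assoc, ← CategoryTheory.Functor.map_comp,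
        IsIso.inv_hom_id, CategoryTheory.Functor.map_id, Category.id_comp]
    haveI : Mono i.hom := AlgSp.h5_mono_of_repWith
      (fun _ _ g (hg : IsClosedImmersion g) => (inferInstance : Mono g)) i.hom hi
    haveI : Epi p := AlgSp.h5_epi_of_repWith_etale_surjective p he hs
    haveI : IsRegularEpi p := IsRegularEpiCategory.regularEpiOfEpi p
    have hcolim := IsKernelPair.toCoequalizer' (IsPullback.of_hasPullback p p)
    have hcoeq : pullback.fst p p ≫ gU = pullback.snd p p ≫ gU := by
      rw [← cancel_mono i.hom, Category.assoc, Category.assoc, hgU, ← Category.assoc,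
        ← Category.assoc, pullback.condition]
    obtain ⟨g, hg⟩ := Cofork.IsColimit.desc' hcolim gU hcoeq
    have hg' : p ≫ g = gU := hg
    refine ⟨ObjectProperty.homMk g, ?_⟩
    apply ObjectProperty.hom_ext
    show g ≫ i.hom = f.hom
    rw [← cancel_epi p, ← Category.assoc, hg', hgU]

end Groth.Agent.S10193
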