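import Groth.Statements.S10196
import Mathlib
import Groth.Agent.Lib.helper5.AlgSpPres

set_option autoImplicit false
universe u
open CategoryTheory CategoryTheory.Limits AlgebraicGeometry Topology TopologicalSpace
open AlgSp

namespace Groth.Agent.S10196

/-- Let X be an algebraic space over a scheme S, a : h_U ⟶ X a representable etale map from a scheme U
over S, and X' ⟶ X the open subspace whose image in |X| is the (open) image of U. Then a factors
through a representable etale and surjective a' : h_U ⟶ X', and if R is a scheme over S with h_R =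
h_U ×_X h_U then also h_R = h_U ×_{X'} h_U and (U, R, a') is a presentation of X'. -/
theorem result {S : Scheme.{u}} {X X' : AlgSp.Space S} {U : Over S}
    (a : (AlgSp.yon S).obj U ⟶ X.obj) (ha : AlgSp.RepWith @Etale a)
    (j : X' ⟶ X) (hj : AlgSp.RepWith @IsOpenImmersion j.hom)
    (himage : Set.range (AlgSp.Points.map j.hom) = Set.range (AlgSp.Points.ofPt a)) :
    ∃ a' : (AlgSp.yon S).obj U ⟶ X'.obj, a' ≫ j.hom = a ∧ AlgSp.RepWith @Etale a' ∧ AlgSp.RepWith @Surjective a' ∧
      ∀ (R : Over S) (s t : R ⟶ U), IsPullback ((AlgSp.yon S).map t) ((AlgSp.yon S).map s) a a →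
        AlgSp.IsPresentation s t a' := by
  have hm : Mono j.hom := AlgSp.h5_mono_of_repWith AlgSp.h5_openImm_le_mono j.hom hj
  obtain ⟨a', ha'⟩ := AlgSp.h5_exists_lift_of_openImmersion j.hom hj a (by
    intro u
    rw [himage]
    exact ⟨u, rfl⟩)
  have he' : AlgSp.RepWith @Etale a' := AlgSp.h5_repWith_of_comp_mono _ a' j.hom (ha' ▸ ha)
  have hs' : AlgSp.RepWith @Surjective a' := by
    apply AlgSp.h5_repWith_surjective_of_surjective_ofPt a' he'.rep
    intro x'
    have : Points.map j.hom x' ∈ Set.range (Points.ofPt a) := by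
      rw [← himage]
      exact ⟨x', rfl⟩
    obtain ⟨u, hu⟩ := this
    refine ⟨u, ?_⟩
    apply AlgSp.h5_injective_map_of_openImmersion j.hom hj
    rw [Points.map_ofPt, ha', hu]
  refine ⟨a', ha', he', hs', ?_⟩
  intro R s t sq
  have sq' : IsPullback ((AlgSp.yon S).map t) ((AlgSp.yon S).map s) a' a' := by
    apply AlgSp.h5_isPullback_of_comp_mono j.hom
    rw [ha']
    exact sq
  exact ⟨AlgSp.h5_isEtaleEqvRel_of_isPullback a' he' s t sq', he', hs', sq'⟩

end Groth.Agent.S10196
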