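import Groth.Statements.S10202
import Mathlib
import Groth.Agent.Lib.helper5.AlgSpPts

set_option autoImplicit false
universe u
open CategoryTheory CategoryTheory.Limits AlgebraicGeometry Topology TopologicalSpace
open AlgSp

namespace Groth.Agent.S10202

/-- If X is a locally Noetherian algebraic space over a scheme S, then the space |X| is locally
Noetherian: every point of |X| has an open neighbourhood which is a Noetherian topological space in
the induced topology. -/
theorem result {S : Scheme.{u}} (X : AlgSp.Space S)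
    (hX : AlgSp.IsLocNoethSp X.obj) (x : AlgSp.Points X.obj) :
    ∃ W : Set (AlgSp.Points X.obj), IsOpen W ∧ x ∈ W ∧ NoetherianSpace ↥W := by
  obtain ⟨U, p, hpe, hps, hU⟩ := hX
  haveI : IsLocallyNoetherian U.left := hU
  obtain ⟨u, rfl⟩ := AlgSp.h5_surjective_ofPt p hps x
  obtain ⟨_, ⟨U', hU', rfl⟩, huU', -⟩ :=
    U.left.isBasis_affineOpens.exists_subset_of_mem_open (Set.mem_univ u) isOpen_univ
  haveI : IsNoetherianRing Γ(U.left, U') := IsLocallyNoetherian.component_noetherian ⟨U', hU'⟩
  haveI : TopologicalSpace.NoetherianSpace ↥U' := noetherianSpace_of_isAffineOpen U' hU'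
  refine ⟨AlgSp.Points.ofPt p '' (U' : Set ↥U.left),
    AlgSp.h5_isOpenMap_ofPt_of_etale p hpe _ U'.2, ⟨u, huU', rfl⟩, ?_⟩
  have e : AlgSp.Points.ofPt p '' (U' : Set ↥U.left) =
      Set.range (fun v : ↥U' => AlgSp.Points.ofPt p v.1) := by
    ext y
    constructor
    · rintro ⟨v, hv, rfl⟩
      exact ⟨⟨v, hv⟩, rfl⟩
    · rintro ⟨v, rfl⟩
      exact ⟨v.1, v.2, rfl⟩
  rw [e]
  exact TopologicalSpace.NoetherianSpace.range _
    ((AlgSp.Points.continuous_ofPt p).comp continuous_subtype_val)

end Groth.Agent.S10202
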