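import Groth.Statements.S10203
import Mathlib
import Groth.Agent.S10202
import Groth.Agent.Lib.helper5.AlgSpQc2

set_option autoImplicit false
universe u
open CategoryTheory CategoryTheory.Limits AlgebraicGeometry Topology TopologicalSpace
open AlgSp

namespace Groth.Agent.S10203

/-- If X is a quasi-compact, locally Noetherian algebraic space over a scheme S, then |X| is a
Noetherian topological space. -/
theorem result {S : Scheme.{u}} (X : AlgSp.Space S)
    (hqc : AlgSp.IsQuasiCompactSp X.obj) (hX : AlgSp.IsLocNoethSp X.obj) :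
    NoetherianSpace (AlgSp.Points X.obj) := by
  haveI : CompactSpace (AlgSp.Points X.obj) := AlgSp.h5_compactSpace_of_isQuasiCompactSp hqc
  choose W hWo hxW hWn using fun x => Groth.Agent.S10202.result X hX x
  obtain ⟨t, ht⟩ := isCompact_univ.elim_finite_subcover W hWo
    (fun x _ => Set.mem_iUnion.2 ⟨x, hxW x⟩)
  rw [← TopologicalSpace.noetherian_univ_iff]
  have e : (Set.univ : Set (AlgSp.Points X.obj)) = ⋃ i : t, W i.1 := by
    apply Set.eq_of_subset_of_subset
    · intro x hx
      obtain ⟨i, hi, hxi⟩ := Set.mem_iUnion₂.1 (ht hx)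
      exact Set.mem_iUnion.2 ⟨⟨i, hi⟩, hxi⟩
    · exact Set.subset_univ _
  rw [e]
  haveI : ∀ i : t, TopologicalSpace.NoetherianSpace ↥(W i.1) := fun i => hWn i.1
  exact TopologicalSpace.NoetherianSpace.iUnion _

end Groth.Agent.S10203
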