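import Groth.Statements.S10210
import Mathlib
import Groth.Agent.Lib.helper5.AlgSpEt

set_option autoImplicit false
universe u
open CategoryTheory CategoryTheory.Limits AlgebraicGeometry Topology TopologicalSpace
open AlgSp

namespace Groth.Agent.S10210

/-- Let X, Y, Z be algebraic spaces over a scheme S, g : X ⟶ Z and h : Y ⟶ Z etale morphisms and f : X ⟶
Y a morphism with f ≫ h = g. Then f is etale. -/
theorem result {S : Scheme.{u}} {X Y Z : AlgSp.Space S} (f : X ⟶ Y) (h : Y ⟶ Z) (g : X ⟶ Z)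
    (w : f ≫ h = g) (hg : AlgSp.IsEtaleMor g.hom) (hh : AlgSp.IsEtaleMor h.hom) :
    AlgSp.IsEtaleMor f.hom := by
  intro U φ hφ
  have hk : AlgSp.Representable (φ ≫ f.hom) := Y.property.representable_from_yon _
  obtain ⟨V, p, hpe, hps⟩ := Y.property.atlas
  haveI := AlgSp.h5_isLocallySurjective_of_etale_surjective p hpe hps
  have sq := hk.isPullback p
  refine AlgSp.h5_repWith_descend _ hk p _ _ sq @Etale ?_
  rw [AlgSp.repWith_yon_map_iff]
  obtain ⟨w1, hw1⟩ := (AlgSp.yon S).map_surjective (hk.fst p)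
  rw [← hw1] at sq
  have hw1e : Etale w1.left := hpe.property (φ ≫ f.hom) _ w1 sq.flip
  refine AlgSp.h5_etale_of_comm (hk.snd p) (p ≫ h.hom) (hh p hpe) ?_
  have e : (AlgSp.yon S).map (hk.snd p) ≫ p ≫ h.hom = (AlgSp.yon S).map w1 ≫ (φ ≫ g.hom) := by
    rw [← Category.assoc, ← sq.w, ← w]
    simp
  rw [e]
  exact (AlgSp.RepWith @Etale).comp_mem _ _ ((AlgSp.repWith_yon_map_iff _ _).2 hw1e) (hg φ hφ)

end Groth.Agent.S10210
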