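import Groth.Statements.S10211
import Mathlib
import Groth.Agent.Lib.helper5.AlgSpQc2

set_option autoImplicit false
universe u
open CategoryTheory CategoryTheory.Limits AlgebraicGeometry Topology TopologicalSpace
open AlgSp

namespace Groth.Agent.S10211

/-- If f : X ⟶ Y is an etale morphism of algebraic spaces over a scheme S, then the induced map of
topological spaces |X| → |Y| is open. -/
theorem result {S : Scheme.{u}} {X Y : AlgSp.Space S} (f : X ⟶ Y)
    (hf : AlgSp.IsEtaleMor f.hom) :
    IsOpenMap (AlgSp.Points.map f.hom) := by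
  obtain ⟨U, p, he, hs⟩ := X.property.atlas
  have hpf : AlgSp.RepWith @Etale (p ≫ f.hom) := hf p he
  have hopen := AlgSp.h5_isOpenMap_ofPt_of_etale (p ≫ f.hom) hpf
  have hsurj := AlgSp.h5_surjective_ofPt p hs
  intro W hW
  have : Points.map f.hom '' W = Points.ofPt (p ≫ f.hom) '' (Points.ofPt p ⁻¹' W) := by
    ext y
    constructor
    · rintro ⟨x, hx, rfl⟩
      obtain ⟨u, rfl⟩ := hsurj x
      exact ⟨u, hx, (Points.map_ofPt p f.hom u).symm⟩
    · rintro ⟨u, hu, rfl⟩
      exact ⟨Points.ofPt p u, hu, Points.map_ofPt p f.hom u⟩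
  rw [this]
  exact hopen _ (hW.preimage (Points.continuous_ofPt p))

end Groth.Agent.S10211
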