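import Groth.Statements.S10213
import Mathlib
import Groth.Agent.Lib.helper5.AlgSpQc

set_option autoImplicit false
universe u
open CategoryTheory CategoryTheory.Limits AlgebraicGeometry Topology TopologicalSpace
open AlgSp

namespace Groth.Agent.S10213

/-- For an algebraic space X over a scheme S there is a surjective etale map h_U ⟶ X where U is a
disjoint union of affine schemes, each of which maps into an affine open of S. -/
theorem result {S : Scheme.{u}} (X : AlgSp.Space S) :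
    ∃ (ι : Type u) (V : ι → Scheme.{u}) (_ : ∀ i, IsAffine (V i)) (q : (∐ V) ⟶ S)
      (p : (AlgSp.yon S).obj (Over.mk q) ⟶ X.obj),
      AlgSp.RepWith @Etale p ∧ AlgSp.RepWith @Surjective p ∧
        ∀ i, ∃ W : S.Opens, IsAffineOpen W ∧ ∀ v : ↥(V i), (Sigma.ι V i ≫ q) v ∈ W := by
  obtain ⟨U, p, hpe, hps⟩ := X.property.atlas
  have h1 : ∀ x : U.left, ∃ (W : S.Opens) (V : U.left.Opens), IsAffineOpen W ∧ IsAffineOpen V ∧
      x ∈ V ∧ V ≤ U.hom ⁻¹ᵁ W := by
    intro x
    obtain ⟨W, hW, hxW, -⟩ := S.isBasis_affineOpens.exists_subset_of_mem_open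
      (Set.mem_univ (U.hom x)) isOpen_univ
    obtain ⟨W', hW', rfl⟩ := hW
    obtain ⟨V, hV, hxV, hVW⟩ := U.left.isBasis_affineOpens.exists_subset_of_mem_open
      (show x ∈ ((U.hom ⁻¹ᵁ W' : U.left.Opens) : Set _) from hxW) (U.hom ⁻¹ᵁ W').isOpen
    obtain ⟨V', hV', rfl⟩ := hV
    exact ⟨W', V', hW', hV', hxV, hVW⟩
  choose W V hW hV hxV hVW using h1
  let Vs : U.left → Scheme.{u} := fun x => (V x).toScheme
  let d : (∐ Vs) ⟶ U.left := Sigma.desc (fun x => (V x).ι)
  have hde : Etale d := IsZariskiLocalAtSource.sigmaDesc (P := @Etale) (fun x => inferInstance)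
  have hds : Surjective d := by
    refine ⟨fun u => ⟨(Sigma.ι Vs u) ⟨u, hxV u⟩, ?_⟩⟩
    rw [← Scheme.Hom.comp_apply, Sigma.ι_desc]
    rfl
  refine ⟨U.left, Vs, fun x => hV x, d ≫ U.hom,
    (AlgSp.yon S).map (Over.homMk d rfl : Over.mk (d ≫ U.hom) ⟶ U) ≫ p, ?_, ?_, ?_⟩
  · exact AlgSp.h5_repWith_comp_yon_map @Etale _ hde _ hpe
  · exact AlgSp.h5_repWith_comp_yon_map @Surjective _ hds _ hps
  · intro x
    refine ⟨W x, hW x, fun v => ?_⟩
    have e : Sigma.ι Vs x ≫ d ≫ U.hom = (V x).ι ≫ U.hom := by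
      rw [← Category.assoc, Sigma.ι_desc]
    rw [e]
    exact hVW x v.2

end Groth.Agent.S10213
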