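import Groth.Statements.S10214
import Mathlib
import Groth.Agent.Lib.helper5.AlgSpOpen3
import Groth.Agent.Lib.helper5.AlgSpQc

set_option autoImplicit false
universe u
open CategoryTheory CategoryTheory.Limits AlgebraicGeometry Topology TopologicalSpace
open AlgSp

namespace Groth.Agent.S10214

/-- Every algebraic space X over a scheme S has a Zariski covering by open subspaces X_i such that each
X_i has a surjective etale map from an affine scheme; moreover the affine schemes may be taken to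
map into affine opens of S. -/
theorem result {S : Scheme.{u}} (X : AlgSp.Space S) :
    ∃ (ι : Type u) (Xi : ι → AlgSp.Space S) (j : ∀ i, Xi i ⟶ X),
      AlgSp.IsZarCover (fun i => (Xi i).obj) (fun i => (j i).hom) ∧
        ∀ i, ∃ (U : Over S) (p : (AlgSp.yon S).obj U ⟶ (Xi i).obj), IsAffine U.left ∧
          AlgSp.RepWith @Etale p ∧ AlgSp.RepWith @Surjective p ∧
          ∃ W : S.Opens, IsAffineOpen W ∧ ∀ v : ↥U.left, U.hom v ∈ W := by
  obtain ⟨U, p, hpe, hps⟩ := X.property.atlas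
  have h1 : ∀ x : U.left, ∃ (W : S.Opens) (V : U.left.Opens), IsAffineOpen W ∧ IsAffineOpen V ∧
      x ∈ V ∧ V ≤ U.hom ⁻¹ᵁ W := by
    intro x
    obtain ⟨W, hW, hxW, -⟩ := S.isBasis_affineOpens.exists_subset_of_mem_open
      (Set.mem_univ (U.hom x)) isOpen_univ
    obtain ⟨W', hW', rfl⟩ := hW
    obtain ⟨V, hV, hxV, hVW⟩ := U.left.isBasis_affineOpens.exists_subset_of_mem_open
      (show x ∈ ((U.hom ⁻¹ᵁ W' : U.left.Opens) : Set _) from hxW) (U.hom ⁻¹ᵁ W').isOpen
    obtain ⟨V', hV', rfl⟩ := hV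
    exact ⟨W', V', hW', hV', hxV, hVW⟩
  choose W V hW hV hxV hVW using h1
  have hopen := AlgSp.h5_isOpenMap_ofPt_of_etale p hpe
  let Ω : U.left → Set (AlgSp.Points X.obj) := fun x => AlgSp.Points.ofPt p '' (V x : Set U.left)
  have hΩ : ∀ x, IsOpen (Ω x) := fun x => hopen _ (V x).isOpen
  let Xi : U.left → AlgSp.Space S := fun x =>
    ⟨AlgSp.h5_openSp X.obj (Ω x), AlgSp.h5_openSp_isAlgSpace X.property (hΩ x)⟩
  let j : ∀ x, Xi x ⟶ X := fun x => ObjectProperty.homMk (AlgSp.h5_openSpι X.obj (Ω x))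
  refine ⟨U.left, Xi, j, ⟨fun x => AlgSp.h5_openSp_repWith (hΩ x), fun y => ?_⟩, fun x => ?_⟩
  · obtain ⟨u, rfl⟩ := AlgSp.h5_surjective_ofPt p hps y
    refine ⟨u, ?_⟩
    change _ ∈ Set.range (AlgSp.Points.map (AlgSp.h5_openSpι X.obj (Ω u)))
    rw [AlgSp.h5_openSp_range]
    exact ⟨u, hxV u, rfl⟩
  · let T := AlgSp.h5_openOver U (V x)
    let a : (AlgSp.yon S).obj T ⟶ X.obj := (AlgSp.yon S).map (AlgSp.h5_openOverι U (V x)) ≫ p
    have hae : AlgSp.RepWith @Etale a :=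
      AlgSp.h5_repWith_comp_yon_map @Etale _ (show Etale (V x).ι from inferInstance) p hpe
    have hfac : ∀ t : T.left, AlgSp.Points.ofPt a t ∈ Ω x := by
      intro t
      rw [AlgSp.h5_ofPt_openOver]
      exact ⟨(V x).ι t, t.2, rfl⟩
    obtain ⟨a', ha'⟩ := (AlgSp.h5_openSp_factors_iff a).2 hfac
    have ha'e : AlgSp.RepWith @Etale a' :=
      AlgSp.h5_repWith_of_comp_mono @Etale a' (AlgSp.h5_openSpι X.obj (Ω x))
        (by rw [ha']; exact hae)
    refine ⟨T, a', hV x, ha'e, ?_, W x, hW x, fun v => hVW x v.2⟩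
    apply AlgSp.h5_repWith_surjective_of_surjective_ofPt a' ha'e.rep
    intro y
    have hy : AlgSp.Points.map (AlgSp.h5_openSpι X.obj (Ω x)) y ∈ Ω x :=
      AlgSp.h5_openSp_map_mem y
    obtain ⟨v, hv, hvy⟩ := hy
    refine ⟨⟨v, hv⟩, ?_⟩
    apply AlgSp.h5_injective_map_of_openImmersion _ (AlgSp.h5_openSp_repWith (hΩ x))
    rw [AlgSp.Points.map_ofPt, ha', AlgSp.h5_ofPt_openOver]
    exact hvy

end Groth.Agent.S10214
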