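import Groth.Statements.S10215
import Mathlib
import Groth.Agent.Lib.helper5.AlgSpUnivInj
import Groth.Agent.Lib.helper5.AlgSpPts2
import Groth.Agent.Lib.helper5.AlgSpDecent

set_option autoImplicit false
universe u
open CategoryTheory CategoryTheory.Limits AlgebraicGeometry Topology TopologicalSpace
open AlgSp

namespace Groth.Agent.S10215

open Groth.Agent.Lib.helper5 in
theorem isIso_of_mono_to_field (K : Type u) [Field K] {Z : Scheme.{u}}
    (g : Z ⟶ Spec (CommRingCat.of K)) [Mono g] (z : Z) : IsIso g := by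
  haveI : Flat g := h5_flat_of_isField_stalk g
    (fun v => h5_isField_stalk_of_etale_field K (𝟙 _) v)
  haveI : Surjective g := ⟨fun x => ⟨z, Subsingleton.elim (α := PrimeSpectrum K) _ _⟩⟩
  haveI : Subsingleton Z :=
    ⟨fun a b => g.injective (Subsingleton.elim (α := PrimeSpectrum K) _ _)⟩
  haveI : Finite Z := Finite.of_subsingleton
  haveI : QuasiCompact g := AlgSp.h5_quasiCompact_of_finite g
  exact Flat.isIso_of_surjective_of_mono g


/-- Let X be an algebraic space over a scheme S and p : Spec K ⟶ X, q : Spec L ⟶ X morphisms from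
spectra of fields over S which determine the same point of |X|, with p a monomorphism. Then q
factors uniquely through p. -/
theorem result {S : Scheme.{u}} (X : AlgSp.Space S) (p q : AlgSp.FieldPt X.obj)
    (h : AlgSp.Points.mk p = AlgSp.Points.mk q) [Mono p.toHom] :
    ∃! c : q.pt ⟶ p.pt, (AlgSp.yon S).map c ≫ p.toHom = q.toHom := by
  have hrep := X.property.representable_from_yon p.toHom
  have sq := hrep.isPullback q.toHom
  obtain ⟨fst0, hfst0⟩ := (AlgSp.yon S).map_surjective (hrep.fst q.toHom)
  rw [← hfst0] at sq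
  have hm1 : Mono ((AlgSp.yon S).map (hrep.snd q.toHom)) :=
    MorphismProperty.of_isPullback (P := MorphismProperty.monomorphisms _) sq
      (MorphismProperty.monomorphisms.infer_property p.toHom)
  haveI hm2 : Mono (hrep.snd q.toHom) := (AlgSp.yon S).mono_of_mono_map hm1
  haveI hm3 : Mono (hrep.snd q.toHom).left := inferInstance
  have h' : AlgSp.h5_mkHom p.K p.str p.toHom = AlgSp.h5_mkHom q.K q.str q.toHom := by
    have e1 := AlgSp.h5_mk_eq_mkHom p
    have e2 := AlgSp.h5_mk_eq_mkHom q
    exact e1.symm.trans (h.trans e2)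
  obtain ⟨Ω, hΩ, w, α, β, hαβ⟩ := AlgSp.h5_exists_of_mkHom_eq _ _ h'
  obtain ⟨t, ht⟩ := (AlgSp.yon S).map_surjective
    (sq.lift ((AlgSp.yon S).map α) ((AlgSp.yon S).map β) hαβ)
  haveI : Nonempty ↥(Over.mk w).left := inferInstanceAs (Nonempty (PrimeSpectrum Ω))
  have z : ↥(hrep.pullback q.toHom).left := t.left (Classical.arbitrary _)
  haveI : IsIso (hrep.snd q.toHom).left := isIso_of_mono_to_field q.K _ z
  haveI : IsIso ((Over.forget S).map (hrep.snd q.toHom)) :=
    ‹IsIso (hrep.snd q.toHom).left›
  haveI : IsIso (hrep.snd q.toHom) := isIso_of_reflects_iso _ (Over.forget S)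
  have key : (AlgSp.yon S).map (inv (hrep.snd q.toHom) ≫ fst0) ≫ p.toHom = q.toHom := by
    rw [CategoryTheory.Functor.map_comp, Category.assoc, sq.w, ← Category.assoc,
      ← CategoryTheory.Functor.map_comp,
      IsIso.inv_hom_id, CategoryTheory.Functor.map_id, Category.id_comp]
  refine ⟨inv (hrep.snd q.toHom) ≫ fst0, key, fun c' hc' => ?_⟩
  apply (AlgSp.yon S).map_injective
  rw [← cancel_mono p.toHom, hc', key]

end Groth.Agent.S10215
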