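import Groth.Statements.S10216
import Mathlib
import Groth.Agent.Lib.helper5.AlgSpPts

set_option autoImplicit false
universe u
open CategoryTheory CategoryTheory.Limits AlgebraicGeometry Topology TopologicalSpace
open AlgSp

namespace Groth.Agent.S10216

/-- Let φ : U ⟶ X be an etale morphism of algebraic spaces over a scheme S, take a geometric point x̄ :
Spec k ⟶ X of X whose image in |X| is x, and let u ∈ |U| with φ(u) = x. Then there is a geometric
point ū : Spec k ⟶ U (with the same field k) lying over u and with φ ∘ ū = x̄. -/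
theorem result {S : Scheme.{u}} {U X : AlgSp.Space S} (φ : U ⟶ X)
    (hφ : AlgSp.IsEtaleMor φ.hom) (xbar : AlgSp.FieldPt X.obj) (hx : xbar.IsGeometric)
    (u : AlgSp.Points U.obj) (hu : AlgSp.Points.map φ.hom u = AlgSp.Points.mk xbar) :
    ∃ ubar : (AlgSp.yon S).obj xbar.pt ⟶ U.obj,
      ubar ≫ φ.hom = xbar.toHom ∧ AlgSp.Points.ofPt ubar (IsLocalRing.closedPoint xbar.K) = u := by
  obtain ⟨W, q, he, hs⟩ := U.property.atlas
  have hqφ : AlgSp.RepWith @Etale (q ≫ φ.hom) := hφ q he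
  obtain ⟨w, rfl⟩ := AlgSp.h5_surjective_ofPt q hs u
  have sq := hqφ.rep.isPullback' xbar.toHom
  have hpt : AlgSp.Points.ofPt (q ≫ φ.hom) w =
      AlgSp.Points.ofPt xbar.toHom (IsLocalRing.closedPoint xbar.K) := by
    rw [AlgSp.Points.ofPt_toHom, ← hu, AlgSp.Points.map_ofPt]
  obtain ⟨v, hv1, hv2⟩ := AlgSp.h5_exists_of_ofPt_eq sq w _ hpt
  have het : Etale (hqφ.rep.snd xbar.toHom).left := hqφ.property_snd xbar.toHom
  have : IsAlgClosed xbar.K := hx
  have hsub : Subsingleton ↥(Spec (CommRingCat.of xbar.K)) :=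
    inferInstanceAs (Subsingleton (PrimeSpectrum xbar.K))
  obtain ⟨l, hl1, hl2⟩ := Scheme.exists_fac_of_etale_of_isSepClosed
    ((hqφ.rep.snd xbar.toHom).left : (hqφ.rep.pullback xbar.toHom).left ⟶ Spec (CommRingCat.of xbar.K))
    (𝟙 (Spec (CommRingCat.of xbar.K))) v (hsub.elim _ _)
  let L : xbar.pt ⟶ hqφ.rep.pullback xbar.toHom := Over.homMk l (by
    rw [← Over.w (hqφ.rep.snd xbar.toHom), ← Category.assoc, hl1]
    exact Category.id_comp _)
  have hL : L ≫ hqφ.rep.snd xbar.toHom = 𝟙 _ := Over.OverMorphism.ext hl1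
  refine ⟨(AlgSp.yon S).map L ≫ (AlgSp.yon S).map (hqφ.rep.fst' xbar.toHom) ≫ q, ?_, ?_⟩
  · rw [Category.assoc, Category.assoc, sq.w, ← Category.assoc, ← Functor.map_comp, hL,
      (AlgSp.yon S).map_id, Category.id_comp]
  · rw [AlgSp.h5_ofPt_map_comp, AlgSp.h5_ofPt_map_comp]
    congr 1
    rw [← hv1]
    congr 1
    show l _ = v
    rw [← hl2]
    congr 1
    exact Subsingleton.elim _ _

end Groth.Agent.S10216
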