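import Groth.Statements.S10218
import Mathlib

set_option autoImplicit false
universe u
open CategoryTheory CategoryTheory.Limits AlgebraicGeometry Topology TopologicalSpace
open AlgSp

namespace Groth.Agent.S10218

/-- Let X be an algebraic space over a scheme S, x̄ a geometric point of X, (U, ū) an etale
neighbourhood of x̄ and {U_i ⟶ U} an etale covering of U in the small etale site of X. Then for some
index i the point x̄ lifts to U_i compatibly, that is, (U_i, ū_i) ⟶ (U, ū) is a morphism of etale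
neighbourhoods for a suitable lift ū_i. -/
theorem result {S : Scheme.{u}} (X : AlgSp.Space S) (p : AlgSp.FieldPt X.obj) (hp : p.IsGeometric)
    (N : AlgSp.EtNbhd p) {ι : Type u} (Ui : ι → AlgSp.EtOver X.obj) (g : ∀ i, Ui i ⟶ N.1)
    (hcov : Presieve.ofArrows Ui g ∈ AlgSp.etPre X.obj N.1) :
    ∃ (i : ι) (ui : (AlgSp.FieldPt.liftsTo p).obj (Ui i)), (AlgSp.FieldPt.liftsTo p).map (g i) ui = N.2 := by
  rw [AlgSp.ofArrows_mem_etPre_iff] at hcov
  have hk : IsAlgClosed p.K := hp
  obtain ⟨ubar, hubar⟩ := N.2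
  obtain ⟨i, y, hy⟩ := hcov (ubar.left (default : ↥(Spec (CommRingCat.of p.K))))
  have het : Etale (g i).hom.left.left := AlgSp.EtOver.etale_left (g i)
  obtain ⟨l, hl1, hl2⟩ := Scheme.exists_fac_of_etale_of_isSepClosed (g i).hom.left.left
    (ubar.left : Spec (CommRingCat.of p.K) ⟶ N.1.obj.left.left) y hy
  let ui : p.pt ⟶ (Ui i).obj.left := Over.homMk l (by
    rw [← Over.w (g i).hom.left, ← Category.assoc, hl1]
    exact Over.w ubar)
  have hui : ui ≫ (g i).hom.left = ubar := Over.OverMorphism.ext hl1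
  refine ⟨i, ⟨ui, ?_⟩, ?_⟩
  · rw [← AlgSp.EtOver.w (g i), ← Category.assoc, ← Functor.map_comp, hui]
    exact hubar
  · apply Subtype.ext
    exact hui

end Groth.Agent.S10218
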