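import Groth.Statements.S10222
import Mathlib
import Mathlib
import Groth.Agent.Lib.helper5.AlgSpPts
import Groth.Agent.Lib.helper5.SchReduced

set_option autoImplicit false
universe u
open CategoryTheory CategoryTheory.Limits AlgebraicGeometry Topology TopologicalSpace
open AlgSp

namespace Groth.Agent.S10222

open Groth.Agent.Lib.helper5

theorem h5_isReduced_stalk_of_flat {X Y : Scheme.{u}} (f : X ⟶ Y) [Flat f] (x : X)
    (h : _root_.IsReduced (X.presheaf.stalk x)) : _root_.IsReduced (Y.presheaf.stalk (f x)) := by
  have hinj : Function.Injective (f.stalkMap x).hom := by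
    algebraize [(f.stalkMap x).hom]
    have : Module.FaithfullyFlat (Y.presheaf.stalk (f x)) (X.presheaf.stalk x) :=
      @Module.FaithfullyFlat.of_flat_of_isLocalHom _ _ _ _ _ _ _
        (Flat.stalkMap f x) (f.toLRSHom.prop x)
    exact (FaithfulSMul.algebraMap_injective _ _)
  exact isReduced_of_injective _ hinj

theorem h5_flat_fromSpecStalk (X : Scheme.{u}) (x : X) : Flat (X.fromSpecStalk x) := by
  obtain ⟨_, ⟨U, hU, rfl⟩, hxU, -⟩ :=
    X.isBasis_affineOpens.exists_subset_of_mem_open (Set.mem_univ x) isOpen_univ
  rw [← hU.fromSpecStalk_eq_fromSpecStalk hxU, IsAffineOpen.fromSpecStalk]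
  haveI : Flat (Spec.map (X.presheaf.germ U x hxU)) := by
    rw [HasRingHomProperty.Spec_iff (P := @Flat)]
    letI : Algebra Γ(X, U) (X.presheaf.stalk x) :=
      TopCat.Presheaf.algebra_section_stalk X.presheaf ⟨x, hxU⟩
    haveI := hU.isLocalization_stalk ⟨x, hxU⟩
    have hfl : Module.Flat Γ(X, U) (X.presheaf.stalk x) :=
      IsLocalization.flat _ (hU.primeIdealOf ⟨x, hxU⟩).asIdeal.primeCompl
    exact hfl
  infer_instance

theorem h5_isReduced_stalk_of_etale {W U : Scheme.{u}} (f : W ⟶ U) [Etale f] (w : W)
    (h : _root_.IsReduced (U.presheaf.stalk (f w))) : _root_.IsReduced (W.presheaf.stalk w) := by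
  haveI := h5_flat_fromSpecStalk U (f w)
  obtain ⟨z, hz1, hz2⟩ := Scheme.Pullback.exists_preimage_pullback (f := f)
    (g := U.fromSpecStalk (f w)) w (IsLocalRing.closedPoint _)
    (Scheme.fromSpecStalk_closedPoint).symm
  haveI : IsReduced (Spec (U.presheaf.stalk (f w))) := inferInstance
  haveI : IsReduced (pullback f (U.fromSpecStalk (f w))) :=
    h5_isReduced_of_smooth_hom (pullback.snd f (U.fromSpecStalk (f w)))
  have := h5_isReduced_stalk_of_flat (pullback.fst f (U.fromSpecStalk (f w))) z inferInstance
  rwa [hz1] at this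

/-- (1) if and only if (2): an algebraic space X over a scheme S is reduced if and only if at each x ∈
|X| the local ring of X is reduced, the latter meaning that for some scheme U, some representable
etale h_U ⟶ X and some point u of U mapping to x, the local ring of U at u is reduced. (The
assertions about global sections in the published statement are not part of this row.) -/
theorem result {S : Scheme.{u}} (X : AlgSp.Space S) :
    AlgSp.IsReducedSp X.obj ↔
      ∀ x : AlgSp.Points X.obj, AlgSp.HasAt (fun U u => _root_.IsReduced ↥(U.presheaf.stalk u)) X.obj x := by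
  constructor
  · rintro ⟨U, p, hpe, hps, hU⟩ x
    obtain ⟨u, rfl⟩ := AlgSp.h5_surjective_ofPt p hps x
    haveI : IsReduced U.left := hU
    exact ⟨U, p, u, hpe, rfl, inferInstance⟩
  · intro h
    obtain ⟨V, p, hpe, hps⟩ := X.property.atlas
    refine ⟨V, p, hpe, hps, ?_⟩
    have hst : ∀ v : V.left, _root_.IsReduced (V.left.presheaf.stalk v) := by
      intro v
      obtain ⟨U, a, u, hae, hau, hred⟩ := h (AlgSp.Points.ofPt p v)
      have sq := hpe.rep.isPullback' a
      obtain ⟨w, hw1, hw2⟩ := AlgSp.h5_exists_of_ofPt_eq sq v u hau.symm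
      haveI : Etale (hpe.rep.snd a).left := hpe.property_snd a
      haveI : Etale (hpe.rep.fst' a).left := by
        have h1 : AlgSp.RepWith @Etale ((AlgSp.yon S).map (hpe.rep.fst' a)) :=
          MorphismProperty.of_isPullback (P := AlgSp.RepWith @Etale) sq.flip hae
        exact (AlgSp.repWith_yon_map_iff _ _).1 h1
      have hredw : _root_.IsReduced ((hpe.rep.pullback a).left.presheaf.stalk w) :=
        h5_isReduced_stalk_of_etale (hpe.rep.snd a).left w (by rw [hw2]; exact hred)
      have := h5_isReduced_stalk_of_flat (hpe.rep.fst' a).left w hredw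
      rwa [hw1] at this
    exact isReduced_of_isReduced_stalk V.left

end Groth.Agent.S10222
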