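import Groth.Statements.S10228
import Mathlib
import Groth.Agent.Lib.helper5.AlgSpOpen3
import Groth.Agent.Lib.helper5.AlgSpQc

set_option autoImplicit false
universe u
open CategoryTheory CategoryTheory.Limits AlgebraicGeometry Topology TopologicalSpace
open AlgSp

namespace Groth.Agent.S10228

/-- A morphism of sheaves whose points land in `W` factors through the subsheaf of `W`. -/
theorem h5_openSp_lift_general {S : Scheme.{u}} {F G : AlgSp.Sp S} (f : G ⟶ F)
    (W : Set (AlgSp.Points F)) (h : Set.range (AlgSp.Points.map f) ⊆ W) :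
    ∃ g : G ⟶ AlgSp.h5_openSp F W, g ≫ AlgSp.h5_openSpι F W = f := by
  have hf : Subfunctor.range f.hom ≤ AlgSp.h5_subW F W := by
    rintro T _ ⟨s0, rfl⟩
    intro t
    have e : AlgSp.h5_yEquiv.symm (f.hom.app T s0) = AlgSp.h5_yEquiv.symm s0 ≫ f := by
      apply AlgSp.h5_yEquiv.injective
      rw [GrothendieckTopology.uliftYonedaEquiv_comp, Equiv.apply_symm_apply,
        Equiv.apply_symm_apply]
    rw [e, ← AlgSp.Points.map_ofPt]
    exact h ⟨_, rfl⟩
  exact ⟨⟨Subfunctor.lift f.hom hf⟩, rfl⟩

/-- An algebraic space that is the coproduct of finitely many quasi-compact algebraic spaces is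
quasi-compact: if X_i (i in a finite type) are quasi-compact algebraic spaces over a scheme S and
the underlying sheaf of the algebraic space X is a coproduct of the underlying sheaves of the X_i
(given by a colimit cofan of fppf sheaves whose cone point is the sheaf of X), then X is
quasi-compact. -/
theorem result {S : Scheme.{u}} {ι : Type u} [Finite ι] (Xi : ι → AlgSp.Space S)
    (X : AlgSp.Space S) (c : Cofan fun i => (Xi i).obj) (hc : IsColimit c) (hX : c.pt = X.obj)
    (hqc : ∀ i, AlgSp.IsQuasiCompactSp (Xi i).obj) :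
    AlgSp.IsQuasiCompactSp X.obj := by
  rw [← hX]
  have hpt : AlgSp.IsAlgSpace c.pt := by rw [hX]; exact X.property
  rw [AlgSp.h5_isQuasiCompactSp_iff hpt]
  let W : Set (AlgSp.Points c.pt) := ⋃ i, Set.range (AlgSp.Points.map (c.inj i))
  have hWuniv : W = Set.univ := by
    have hl : ∀ i, ∃ g : (Xi i).obj ⟶ AlgSp.h5_openSp c.pt W,
        g ≫ AlgSp.h5_openSpι c.pt W = c.inj i :=
      fun i => h5_openSp_lift_general (c.inj i) W (fun x hx => Set.mem_iUnion.2 ⟨i, hx⟩)
    choose g hg using hl
    let r : c.pt ⟶ AlgSp.h5_openSp c.pt W := Cofan.IsColimit.desc hc g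
    have hr : r ≫ AlgSp.h5_openSpι c.pt W = 𝟙 _ := by
      apply Cofan.IsColimit.hom_ext hc
      intro i
      rw [← Category.assoc, Cofan.IsColimit.fac, hg, Category.comp_id]
    rw [← AlgSp.h5_openSp_range W]
    apply Set.eq_univ_of_forall
    intro x
    exact ⟨AlgSp.Points.map r x, by rw [← AlgSp.Points.map_comp, hr, AlgSp.Points.map_id]⟩
  rw [← isCompact_univ_iff, ← hWuniv]
  apply isCompact_iUnion
  intro i
  have hci : CompactSpace (AlgSp.Points (Xi i).obj) :=
    (AlgSp.h5_isQuasiCompactSp_iff (Xi i).property).1 (hqc i)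
  exact isCompact_range (AlgSp.Points.continuous_map (c.inj i))

end Groth.Agent.S10228
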