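import Groth.Statements.S10247
import Mathlib
import Groth.Agent.Lib.helper5.AlgSpQc

set_option autoImplicit false
universe u
open CategoryTheory CategoryTheory.Limits AlgebraicGeometry Topology TopologicalSpace
open AlgSp

namespace Groth.Agent.S10247

/-- The open subscheme attached to an open of an object of the small etale site. -/
noncomputable def h5_openObj {S : Scheme.{u}} {X : AlgSp.Sp S} (E : AlgSp.EtOver X)
    (W : E.obj.left.left.Opens) : AlgSp.EtOver X :=
  AlgSp.EtOver.mk ((AlgSp.yon S).map (AlgSp.h5_openOverι E.obj.left W) ≫ E.obj.hom)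
    (AlgSp.h5_repWith_comp_yon_map @Etale _ (by change Etale W.ι; infer_instance) _ E.property)

noncomputable def h5_openHom {S : Scheme.{u}} {X : AlgSp.Sp S} (E : AlgSp.EtOver X)
    (W : E.obj.left.left.Opens) : h5_openObj E W ⟶ E :=
  AlgSp.EtOver.homMk (AlgSp.h5_openOverι E.obj.left W) rfl

theorem h5_isUnit_ι_appTop {U : Scheme.{u}} (f : Γ(U, ⊤)) :
    IsUnit ((U.basicOpen f).ι.appTop.hom f) := by
  apply RingedSpace.isUnit_of_isUnit_germ (X := (U.basicOpen f).toScheme.toRingedSpace) ⊤
  intro y hy
  have h1 : y ∈ (U.basicOpen f).ι ⁻¹ᵁ (U.basicOpen f) := by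
    change (U.basicOpen f).ι y ∈ U.basicOpen f
    exact y.2
  rw [Scheme.preimage_basicOpen_top] at h1
  exact (Scheme.mem_basicOpen_top _ _ _).1 h1

/-- Let X be an algebraic space over a scheme S. Together with its structure sheaf O_X, the small etale
site of X is a locally ringed site: for every scheme U etale over X and every global function f on U
there is a covering sieve of U in the small etale site along each of whose arrows f or 1 - f pulls
back to a unit, and whenever 0 = 1 holds in the ring of global functions of U the empty sieve covers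
U. -/
theorem result {S : Scheme.{u}} (X : AlgSp.Space S) :
    ModSite.IsLocallyRinged (AlgSp.etTop X.obj) (AlgSp.OEt X.obj) := by
  constructor
  · intro E f
    let W : Bool → E.obj.left.left.Opens := fun b =>
      cond b (E.obj.left.left.basicOpen f.down) (E.obj.left.left.basicOpen (1 - f).down)
    refine ⟨Sieve.ofArrows (fun b => h5_openObj E (W b)) (fun b => h5_openHom E (W b)),
      AlgSp.ofArrows_mem_etTop _ _ ?_, ?_⟩
    · intro x
      rcases IsLocalRing.isUnit_or_isUnit_one_sub_self
        ((E.obj.left.left.presheaf.germ ⊤ x trivial).hom f.down) with h | h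
      · refine ⟨true, ?_⟩
        change x ∈ Set.range (W true).ι
        rw [Scheme.Opens.range_ι]
        exact (Scheme.mem_basicOpen_top _ _ _).2 h
      · refine ⟨false, ?_⟩
        change x ∈ Set.range (W false).ι
        rw [Scheme.Opens.range_ι]
        refine (Scheme.mem_basicOpen_top _ _ _).2 ?_
        rw [← map_one (E.obj.left.left.presheaf.germ ⊤ x trivial).hom, ← map_sub] at h
        exact h
    · intro V g hg
      obtain ⟨b, a, rfl⟩ := (Sieve.mem_ofArrows_iff _ _ _).1 hg
      have key : ∀ (W' : E.obj.left.left.Opens) (r : (AlgSp.OEt X.obj).obj.obj (Opposite.op E))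
          (a : V ⟶ h5_openObj E W'), W' = E.obj.left.left.basicOpen r.down →
          IsUnit (((AlgSp.OEt X.obj).obj.map (a ≫ h5_openHom E W').op).hom r) := by
        rintro W' r a rfl
        rw [op_comp, Functor.map_comp]
        change IsUnit (((AlgSp.OEt X.obj).obj.map a.op).hom
          (((AlgSp.OEt X.obj).obj.map (h5_openHom E _).op).hom r))
        apply IsUnit.map
        change IsUnit (ULift.up ((E.obj.left.left.basicOpen r.down).ι.appTop.hom r.down))
        exact (h5_isUnit_ι_appTop r.down).map ULift.ringEquiv.{u, u + 1}.symm
      cases b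
      · right; exact key _ (1 - f) a rfl
      · left; exact key _ f a rfl
  · intro E h
    have hempty : IsEmpty E.obj.left.left := by
      have h' : (0 : Γ(E.obj.left.left, ⊤)) = 1 := congrArg ULift.down h
      constructor
      intro x
      have hx : x ∈ E.obj.left.left.basicOpen (1 : Γ(E.obj.left.left, ⊤)) := by
        rw [Scheme.basicOpen_one]; trivial
      rw [← h', Scheme.basicOpen_zero] at hx
      exact hx
    have hcov := AlgSp.ofArrows_mem_etTop (X := X.obj) (E := E) (ι := PEmpty.{1})
      (fun i => i.elim) (fun i => i.elim) (fun x => (hempty.false x).elim)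
    refine (AlgSp.etTop X.obj).superset_covering ?_ hcov
    intro V g hg
    obtain ⟨i, _⟩ := (Sieve.mem_ofArrows_iff _ _ _).1 hg
    exact i.elim

end Groth.Agent.S10247
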