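import Groth.Statements.S10230
import Mathlib
import Groth.Agent.S10247
import Groth.Agent.Lib.helper5.AlgSpPts

set_option autoImplicit false
universe u
open CategoryTheory CategoryTheory.Limits AlgebraicGeometry Topology TopologicalSpace
open AlgSp

namespace Groth.Agent.S10230

/-- Let X be an algebraic space over a scheme S and F a subsheaf of the final object of the small etale
topos of X, i.e. a sheaf of sets all of whose section sets have at most one element. Then there is a
unique open W of |X| with F = h_W: for every U etale over X, F(U) is nonempty if and only if U ⟶ X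
maps |U| into W. -/
theorem result {S : Scheme.{u}} (X : AlgSp.Space S)
    (F : AlgSp.EtSh X.obj (Type (u + 1))) (hF : ∀ E : AlgSp.EtOver X.obj, Subsingleton (F.obj.obj (Opposite.op E))) :
    ∃! W : Set (AlgSp.Points X.obj), IsOpen W ∧
      ∀ E : AlgSp.EtOver X.obj, Nonempty (F.obj.obj (Opposite.op E)) ↔ Set.range (AlgSp.Points.ofPt E.obj.hom) ⊆ W := by
  let W : Set (AlgSp.Points X.obj) :=
    ⋃ (E : AlgSp.EtOver X.obj) (_ : Nonempty (F.obj.obj (Opposite.op E))),
      Set.range (AlgSp.Points.ofPt E.obj.hom)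
  have hWopen : IsOpen W := by
    apply isOpen_iUnion; intro E; apply isOpen_iUnion; intro _
    exact (AlgSp.h5_isOpenMap_ofPt_of_etale E.obj.hom E.property).isOpen_range
  have hsheaf : Presieve.IsSheaf (AlgSp.etTop X.obj) F.obj :=
    (isSheaf_iff_isSheaf_of_type _ _).1 F.cond
  have hkey : ∀ E : AlgSp.EtOver X.obj, Set.range (AlgSp.Points.ofPt E.obj.hom) ⊆ W →
      Nonempty (F.obj.obj (Opposite.op E)) := by
    intro E hE
    let R : Sieve E :=
      { arrows := fun V _ => Nonempty (F.obj.obj (Opposite.op V))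
        downward_closed := fun ⟨s⟩ h => ⟨F.obj.map h.op s⟩ }
    have hR : R ∈ AlgSp.etTop X.obj E := by
      have hcov := AlgSp.ofArrows_mem_etTop (X := X.obj) (E := E)
        (ι := {E' : AlgSp.EtOver X.obj // Nonempty (F.obj.obj (Opposite.op E'))})
        (fun i => AlgSp.EtOver.prodObj E i.1) (fun i => AlgSp.EtOver.prodFst E i.1) (by
          intro e
          have he := hE ⟨e, rfl⟩
          obtain ⟨E', hE', e', he'⟩ := Set.mem_iUnion₂.1 he
          have sq := E'.property.1.isPullback' E.obj.hom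
          obtain ⟨v, hv1, hv2⟩ := AlgSp.h5_exists_of_ofPt_eq sq e' e he'
          exact ⟨⟨E', hE'⟩, v, hv2⟩)
      refine (AlgSp.etTop X.obj).superset_covering ?_ hcov
      intro V g hg
      obtain ⟨i, a, rfl⟩ := (Sieve.mem_ofArrows_iff _ _ _).1 hg
      obtain ⟨s⟩ := i.2
      exact ⟨F.obj.map (a ≫ AlgSp.EtOver.prodSnd E i.1).op s⟩
    have hs := hsheaf R hR
    let x : Presieve.FamilyOfElements F.obj R.arrows := fun V g hg => Classical.choice hg
    have hx : x.Compatible := by
      intro Y₁ Y₂ Z g₁ g₂ f₁ f₂ h₁ h₂ _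
      haveI := hF Z
      exact Subsingleton.elim _ _
    exact ⟨hs.amalgamate x hx⟩
  refine ⟨W, ⟨hWopen, fun E => ⟨fun hne => ?_, hkey E⟩⟩, ?_⟩
  · intro x hx; exact Set.mem_iUnion₂.2 ⟨E, hne, hx⟩
  · rintro W' ⟨hW'open, hW'⟩
    apply Set.Subset.antisymm
    · intro x hx
      obtain ⟨U, p, hpe, hps⟩ := X.property.atlas
      obtain ⟨u, rfl⟩ := AlgSp.h5_surjective_ofPt p hps x
      let E0 := AlgSp.EtOver.mk p hpe
      let Wo : U.left.Opens :=
        ⟨AlgSp.Points.ofPt p ⁻¹' W', hW'open.preimage (AlgSp.Points.continuous_ofPt p)⟩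
      let E1 := Groth.Agent.S10247.h5_openObj E0 Wo
      have h1 : Set.range (AlgSp.Points.ofPt E1.obj.hom) ⊆ W' := by
        rintro _ ⟨v, rfl⟩
        change AlgSp.Points.ofPt ((AlgSp.yon S).map (AlgSp.h5_openOverι U Wo) ≫ p) v ∈ W'
        rw [AlgSp.h5_ofPt_openOver]
        exact v.2
      have h2 := (hW' E1).2 h1
      refine Set.mem_iUnion₂.2 ⟨E1, h2, ⟨⟨u, hx⟩, ?_⟩⟩
      change AlgSp.Points.ofPt ((AlgSp.yon S).map (AlgSp.h5_openOverι U Wo) ≫ p) _ = _
      rw [AlgSp.h5_ofPt_openOver]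
      rfl
    · intro x hx
      obtain ⟨E, hne, hxE⟩ := Set.mem_iUnion₂.1 hx
      exact (hW' E).1 hne hxE

end Groth.Agent.S10230
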