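import Groth.Statements.S10234
import Mathlib
import Groth.Agent.Lib.helper5.AlgSpQc

set_option autoImplicit false
universe u
open CategoryTheory CategoryTheory.Limits AlgebraicGeometry Topology TopologicalSpace
open AlgSp

namespace Groth.Agent.S10234

section H5Helpers
set_option backward.isDefEq.respectTransparency false

theorem h5_cocont {S : Scheme.{u}} {X Y : AlgSp.Sp S} (f : X ⟶ Y) (hf : AlgSp.IsEtaleMor f) :
    (AlgSp.EtOver.postcomp f hf).IsCocontinuous (AlgSp.etTop X) (AlgSp.etTop Y) where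
  cover_lift := by
    intro E T hT
    unfold AlgSp.etTop at hT
    rw [Precoverage.mem_toGrothendieck_iff_of_isStableUnderComposition] at hT
    obtain ⟨R, hR, hRT⟩ := hT
    obtain ⟨ι, V, g, rfl⟩ := Presieve.exists_eq_ofArrows R
    rw [AlgSp.ofArrows_mem_etPre_iff] at hR
    let E' : ι → AlgSp.EtOver X := fun i =>
      AlgSp.EtOver.mk ((AlgSp.yon S).map (g i).hom.left ≫ E.obj.hom)
        (AlgSp.h5_repWith_comp_yon_map @Etale _ (AlgSp.EtOver.etale_left (g i)) _ E.property)
    let k : ∀ i, E' i ⟶ E := fun i => AlgSp.EtOver.homMk (g i).hom.left rfl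
    have hcov := AlgSp.ofArrows_mem_etTop E' k hR
    refine (AlgSp.etTop X).superset_covering ?_ hcov
    intro V' h hh
    obtain ⟨i, a, rfl⟩ := (Sieve.mem_ofArrows_iff _ _ _).1 hh
    change T ((AlgSp.EtOver.postcomp f hf).map (a ≫ k i))
    rw [Functor.map_comp]
    apply T.downward_closed
    let φ : (AlgSp.EtOver.postcomp f hf).obj (E' i) ⟶ V i := AlgSp.EtOver.homMk (𝟙 _) (by
      change (AlgSp.yon S).map (𝟙 _) ≫ (V i).obj.hom =
        ((AlgSp.yon S).map (g i).hom.left ≫ E.obj.hom) ≫ f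
      rw [CategoryTheory.Functor.map_id, Category.id_comp, Category.assoc]
      exact (AlgSp.EtOver.w (g i)).symm)
    have e : (AlgSp.EtOver.postcomp f hf).map (k i) = φ ≫ g i := by
      apply AlgSp.EtOver.hom_ext
      change (g i).hom.left = 𝟙 _ ≫ (g i).hom.left
      rw [Category.id_comp]
    rw [e]
    exact T.downward_closed (hRT _ _ (Presieve.ofArrows.mk i)) φ


open AlgSp.EtOver in
noncomputable def h5_isLimit_postcomp {S : Scheme.{u}} {X Y : AlgSp.Sp S} (f : X ⟶ Y)
    (hf : AlgSp.IsEtaleMor f) {E₁ E₂ E : AlgSp.EtOver X} (g₁ : E₁ ⟶ E) (g₂ : E₂ ⟶ E) :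
    IsLimit (PullbackCone.mk ((AlgSp.EtOver.postcomp f hf).map (pullbackFst g₁ g₂))
      ((AlgSp.EtOver.postcomp f hf).map (pullbackSnd g₁ g₂))
      (by rw [← Functor.map_comp, ← Functor.map_comp, pullback_condition])) :=
  PullbackCone.IsLimit.mk _
    (fun s => homMk (pullback.lift s.fst.hom.left s.snd.hom.left
        (congrArg (fun k => k.hom.left) s.condition)) (by
      change (AlgSp.yon S).map _ ≫ ((AlgSp.yon S).map _ ≫ E₁.obj.hom) ≫ f = s.pt.obj.hom
      rw [Category.assoc, ← Category.assoc, ← Functor.map_comp, pullback.lift_fst]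
      exact w s.fst))
    (fun s => hom_ext _ _ (pullback.lift_fst _ _ _))
    (fun s => hom_ext _ _ (pullback.lift_snd _ _ _))
    (fun s m h₁ h₂ => hom_ext _ _ (pullback.hom_ext
      ((congrArg (fun k => k.hom.left) h₁).trans (pullback.lift_fst _ _ _).symm)
      ((congrArg (fun k => k.hom.left) h₂).trans (pullback.lift_snd _ _ _).symm)))

instance h5_preservesLimit_cospan_postcomp {S : Scheme.{u}} {X Y : AlgSp.Sp S} (f : X ⟶ Y)
    (hf : AlgSp.IsEtaleMor f) {E₁ E₂ E : AlgSp.EtOver X} (g₁ : E₁ ⟶ E) (g₂ : E₂ ⟶ E) :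
    PreservesLimit (cospan g₁ g₂) (AlgSp.EtOver.postcomp f hf) :=
  preservesLimit_of_preserves_limit_cone (AlgSp.EtOver.pullbackIsLimit g₁ g₂)
    ((isLimitMapConePullbackConeEquiv _ _).symm (h5_isLimit_postcomp f hf g₁ g₂))

instance h5_preservesPullbacks_postcomp {S : Scheme.{u}} {X Y : AlgSp.Sp S} (f : X ⟶ Y)
    (hf : AlgSp.IsEtaleMor f) :
    PreservesLimitsOfShape WalkingCospan (AlgSp.EtOver.postcomp f hf) where
  preservesLimit {K} := preservesLimit_of_iso_diagram _ (diagramIsoCospan K).symm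

theorem h5_cont {S : Scheme.{u}} {X Y : AlgSp.Sp S} (f : X ⟶ Y) (hf : AlgSp.IsEtaleMor f) :
    (AlgSp.EtOver.postcomp f hf).IsContinuous (AlgSp.etTop X) (AlgSp.etTop Y) := by
  unfold AlgSp.etTop
  refine Functor.isContinuous_toGrothendieck_of_pullbacksPreservedBy
    (AlgSp.EtOver.postcomp f hf) (AlgSp.etPre X) (AlgSp.etPre Y) ?_
  intro E R hR
  rw [Precoverage.mem_comap_iff]
  obtain ⟨ι, V, g, rfl⟩ := Presieve.exists_eq_ofArrows R
  rw [Presieve.map_ofArrows]
  rw [AlgSp.ofArrows_mem_etPre_iff] at hR ⊢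
  exact hR

end H5Helpers

/-- Suppose f : X ⟶ Y is a morphism of algebraic spaces over a scheme S that is etale. Then the functor
j : X_etale ⟶ Y_etale, (U ⟶ X) ↦ (U ⟶ X ⟶ Y), is continuous and cocontinuous for the etale
topologies. (The identification of the associated morphism of topoi with f_small, and the resulting
formula for inverse images, are not part of this row.) -/
theorem result {S : Scheme.{u}} {X Y : AlgSp.Space S} (f : X ⟶ Y)
    (hf : AlgSp.IsEtaleMor f.hom) :
    (AlgSp.EtOver.postcomp f.hom hf).IsContinuous (AlgSp.etTop X.obj) (AlgSp.etTop Y.obj) ∧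
      (AlgSp.EtOver.postcomp f.hom hf).IsCocontinuous (AlgSp.etTop X.obj) (AlgSp.etTop Y.obj) := by
  exact ⟨h5_cont f.hom hf, h5_cocont f.hom hf⟩

end Groth.Agent.S10234
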