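import Groth.Statements.S10242
import Mathlib
import Mathlib
import Groth.Agent.S10222

set_option autoImplicit false
universe u
open CategoryTheory CategoryTheory.Limits AlgebraicGeometry Topology TopologicalSpace
open AlgSp

namespace Groth.Agent.S10242

theorem h5_isReduced_etOver {S : Scheme.{u}} (X : AlgSp.Space S) (hX : AlgSp.IsReducedSp X.obj)
    (E : AlgSp.EtOver X.obj) : IsReduced E.obj.left.left := by
  obtain ⟨V, p, hpe, hps, hV⟩ := hX
  haveI : IsReduced V.left := hV
  have hst : ∀ e : E.obj.left.left, _root_.IsReduced (E.obj.left.left.presheaf.stalk e) := by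
    intro e
    obtain ⟨v, hv⟩ := AlgSp.h5_surjective_ofPt p hps (AlgSp.Points.ofPt E.obj.hom e)
    have sq := hpe.rep.isPullback' E.obj.hom
    obtain ⟨w, hw1, hw2⟩ := AlgSp.h5_exists_of_ofPt_eq sq v e hv
    haveI : Etale (hpe.rep.snd E.obj.hom).left := hpe.property_snd _
    haveI : Etale (hpe.rep.fst' E.obj.hom).left := by
      have h1 : AlgSp.RepWith @Etale ((AlgSp.yon S).map (hpe.rep.fst' E.obj.hom)) :=
        MorphismProperty.of_isPullback (P := AlgSp.RepWith @Etale) sq.flip E.property
      exact (AlgSp.repWith_yon_map_iff _ _).1 h1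
    have hredw : _root_.IsReduced ((hpe.rep.pullback E.obj.hom).left.presheaf.stalk w) :=
      Groth.Agent.S10222.h5_isReduced_stalk_of_etale (hpe.rep.fst' E.obj.hom).left w
        (by rw [hw1]; infer_instance)
    have := Groth.Agent.S10222.h5_isReduced_stalk_of_flat (hpe.rep.snd E.obj.hom).left w hredw
    rwa [hw2] at this
  exact isReduced_of_isReduced_stalk _

/-- Let X be a reduced algebraic space over a scheme S. Then the ring of global sections of the
structure sheaf of X (on the small etale site) is reduced, and if a global section f satisfies X =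
V(f), meaning that its restriction to every scheme U etale over X has empty non-vanishing locus
D(f|_U), then f = 0. -/
theorem result {S : Scheme.{u}} (X : AlgSp.Space S) (hX : AlgSp.IsReducedSp X.obj) :
    _root_.IsReduced ↥(AlgSp.gsectEt (AlgSp.OEt X.obj)) ∧
      ∀ f : ↥(AlgSp.gsectEt (AlgSp.OEt X.obj)),
        (∀ E : AlgSp.EtOver X.obj,
            E.obj.left.left.basicOpen ((limit.π (AlgSp.OEt X.obj).obj (Opposite.op E)) f).down = ⊥) →
          f = 0 := by
  have hE : ∀ E : AlgSp.EtOver X.obj, IsReduced E.obj.left.left := h5_isReduced_etOver X hX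
  have hext : ∀ f : ↥(AlgSp.gsectEt (AlgSp.OEt X.obj)),
      (∀ E : AlgSp.EtOver X.obj, (limit.π (AlgSp.OEt X.obj).obj (Opposite.op E)) f = 0) →
      f = 0 := by
    intro f h
    apply Concrete.limit_ext
    intro j
    rw [map_zero]
    exact h j.unop
  constructor
  · rw [isReduced_iff]
    intro f hf
    apply hext
    intro E
    haveI : IsReduced (Opposite.unop ((Over.forget S).op.obj ((AlgSp.EtOver.forget X.obj).op.obj
      (Opposite.op E)))) := hE E
    have h1 : IsNilpotent ((limit.π (AlgSp.OEt X.obj).obj (Opposite.op E)) f) := hf.map _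
    have h2 : IsNilpotent ((limit.π (AlgSp.OEt X.obj).obj (Opposite.op E)) f).down := by
      obtain ⟨n, hn⟩ := h1
      exact ⟨n, congrArg ULift.down hn⟩
    have h3 : ((limit.π (AlgSp.OEt X.obj).obj (Opposite.op E)) f).down = 0 := h2.eq_zero
    exact ULift.ext _ _ h3
  · intro f h
    apply hext
    intro E
    haveI : IsReduced (Opposite.unop ((Over.forget S).op.obj ((AlgSp.EtOver.forget X.obj).op.obj
      (Opposite.op E)))) := hE E
    have h3 : ((limit.π (AlgSp.OEt X.obj).obj (Opposite.op E)) f).down = 0 :=
      (basicOpen_eq_bot_iff _).1 (h E)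
    exact ULift.ext _ _ h3

end Groth.Agent.S10242
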