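import Groth.Statements.S10250
import Mathlib
import Groth.Agent.Lib.helper5.AlgSpEt
import Groth.Agent.Lib.helper5.AlgSpPb
import Groth.Agent.Lib.helper5.TopDim
import Groth.Agent.Lib.helper5.AlgSpQc2

set_option autoImplicit false
universe u
open CategoryTheory CategoryTheory.Limits AlgebraicGeometry Topology TopologicalSpace
open AlgSp

namespace Groth.Agent.S10250

/-- Let f : X ⟶ Y be an etale and surjective morphism of algebraic spaces over a scheme S. Then X and Y
have the same dimension (the dimension of an algebraic space being the supremum of the Krull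
dimensions of the schemes etale over it). -/
theorem result {S : Scheme.{u}} {X Y : AlgSp.Space S} (f : X ⟶ Y)
    (hf : AlgSp.IsEtaleMor f.hom) (hs : AlgSp.IsSurjectiveMor f.hom) :
    AlgSp.dim X.obj = AlgSp.dim Y.obj := by
  apply le_antisymm
  · refine iSup_le fun U => iSup_le fun a => iSup_le fun ha => ?_
    exact le_iSup_of_le U (le_iSup_of_le (a ≫ f.hom) (le_iSup_of_le (hf a ha) le_rfl))
  · refine iSup_le fun V => iSup_le fun b => iSup_le fun hb => ?_
    have sqA := IsPullback.of_hasPullback f.hom b
    have hA : AlgSp.IsAlgSpace (pullback f.hom b) :=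
      AlgSp.h5_isAlgSpace_of_isPullback Y.property.diag X.property (AlgSp.IsAlgSpace.yon_obj V) sqA
    obtain ⟨W, pA, heA, hsA⟩ := hA.atlas
    obtain ⟨h, hh⟩ := (AlgSp.yon S).map_surjective (pA ≫ pullback.snd f.hom b)
    have ha0e : AlgSp.RepWith @Etale (pullback.fst f.hom b) :=
      MorphismProperty.of_isPullback (P := AlgSp.RepWith @Etale) sqA.flip hb
    have hae : AlgSp.RepWith @Etale (pA ≫ pullback.fst f.hom b) :=
      (AlgSp.RepWith @Etale).comp_mem _ _ heA ha0e
    have hcomm : (pA ≫ pullback.fst f.hom b) ≫ f.hom = (AlgSp.yon S).map h ≫ b := by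
      rw [hh, Category.assoc, Category.assoc, pullback.condition]
    haveI het : Etale h.left :=
      AlgSp.h5_etale_of_comm h b hb (by rw [← hcomm]; exact hf _ hae)
    have hsurj : Function.Surjective h.left := by
      intro v
      obtain ⟨z, hz⟩ := AlgSp.h5_surjective_of_isPullback sqA hs (AlgSp.Points.ofScheme V v)
      obtain ⟨w, rfl⟩ := AlgSp.h5_surjective_ofPt pA hsA z
      refine ⟨w, ?_⟩
      apply (AlgSp.Points.schemeEquiv V).injective
      change AlgSp.Points.ofScheme V _ = AlgSp.Points.ofScheme V _
      rw [← hz, AlgSp.Points.map_ofPt, ← hh, AlgSp.Points.ofPt_eq_map_ofScheme,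
        AlgSp.h5_map_ofScheme]
    have hdim : topologicalKrullDim ↥V.left ≤ topologicalKrullDim ↥W.left :=
      Groth.Agent.Lib.helper5.h5_dim_le_of_generalizing (fun w => h.left w) hsurj
        (Flat.generalizingMap h.left) h.left.continuous
    exact hdim.trans (le_iSup_of_le W (le_iSup_of_le _ (le_iSup_of_le hae le_rfl)))

end Groth.Agent.S10250
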