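import Groth.Statements.S10262
import Mathlib
import Groth.Agent.Lib.helper5.AlgSpUnramDiag

set_option autoImplicit false
universe u
open CategoryTheory CategoryTheory.Limits AlgebraicGeometry
open AlgSp

namespace Groth.Agent.S10262

/-- (1) an unramified morphism of algebraic spaces has diagonal an open immersion; (2) a morphism
locally of finite type whose diagonal is an open immersion is unramified. -/
theorem result {S : Scheme.{u}} {X Y : AlgSp.Space S} (f : X ⟶ Y) :
    (AlgSp.LocP (@LocallyOfFiniteType ⊓ @FormallyUnramified) f.hom →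
      AlgSp.RepWith @IsOpenImmersion (pullback.diagonal f.hom)) ∧
    (AlgSp.LocP @LocallyOfFiniteType f.hom → AlgSp.RepWith @IsOpenImmersion (pullback.diagonal f.hom) →
      AlgSp.LocP (@LocallyOfFiniteType ⊓ @FormallyUnramified) f.hom) := by
  refine ⟨fun hf => AlgSp.h5_repWith_openImmersion_diagonal X.property Y.property f.hom hf,
    fun hlft hdiag => ?_⟩
  intro U V a b h ha hb comm
  refine ⟨hlft a b h ha hb comm, ?_⟩
  have hle : (@Etale : MorphismProperty Scheme.{u}) ≤
      (@LocallyOfFiniteType ⊓ @FormallyUnramified : MorphismProperty Scheme.{u}) :=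
    fun _ _ g hg => by
      haveI : Etale g := hg
      exact ⟨inferInstance, inferInstance⟩
  have hΔa : AlgSp.RepWith @IsOpenImmersion (pullback.diagonal a) :=
    AlgSp.h5_repWith_openImmersion_diagonal (AlgSp.IsAlgSpace.yon_obj U) X.property a
      (AlgSp.h5_locP_of_repWith _ hle a (AlgSp.h5_repWith_mono hle ha))
  have h1 : (AlgSp.RepWith (S := S) @IsOpenImmersion).diagonal (a ≫ f.hom) :=
    MorphismProperty.comp_mem _ a f.hom hΔa hdiag
  rw [comm] at h1
  have hpost : (AlgSp.RepWith (S := S) @IsOpenImmersion).diagonal.HasOfPostcompProperty ⊤ := by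
    rw [MorphismProperty.hasOfPostcompProperty_iff_le_diagonal]
    intro A B g _
    change AlgSp.RepWith @IsOpenImmersion (pullback.diagonal (pullback.diagonal g))
    haveI : IsIso (pullback.diagonal (pullback.diagonal g)) := inferInstance
    exact MorphismProperty.of_isIso _ _
  have h2 : (AlgSp.RepWith (S := S) @IsOpenImmersion).diagonal ((AlgSp.yon S).map h) :=
    MorphismProperty.of_postcomp (W := (AlgSp.RepWith (S := S) @IsOpenImmersion).diagonal)
      (W' := ⊤) ((AlgSp.yon S).map h) b trivial h1
  haveI h3 : IsOpenImmersion (pullback.diagonal h.left) :=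
    (AlgSp.repWith_diagonal_yon_map_iff _ h).1 h2
  infer_instance

end Groth.Agent.S10262
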