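import Groth.Statements.S10263
import Mathlib
import Groth.Agent.Lib.helper5.AlgSpCancel

set_option autoImplicit false
universe u
open CategoryTheory CategoryTheory.Limits AlgebraicGeometry
open AlgSp

namespace Groth.Agent.S10263

/-- If the composite X -> Y -> Z is unramified then X -> Y is unramified. -/
theorem result {S : Scheme.{u}} {X Y Z : AlgSp.Space S} (f : X ⟶ Y) (g : Y ⟶ Z)
    (h : AlgSp.LocP (@LocallyOfFiniteType ⊓ @FormallyUnramified) (f ≫ g).hom) :
    AlgSp.LocP (@LocallyOfFiniteType ⊓ @FormallyUnramified) f.hom := by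
  have h1 : AlgSp.LocP @LocallyOfFiniteType f.hom :=
    AlgSp.h5_locP_cancel (@LocallyOfFiniteType) ⊤
      (fun p q hpq _ => by
        haveI : LocallyOfFiniteType (p ≫ q) := hpq
        exact locallyOfFiniteType_of_comp p q) Z.property f.hom g.hom
      (fun U V a b h0 ha hb comm => (h a b h0 ha hb comm).1)
      (fun _ _ _ _ _ _ _ _ => trivial)
  have h2 : AlgSp.LocP @FormallyUnramified f.hom :=
    AlgSp.h5_locP_cancel (@FormallyUnramified) ⊤
      (fun p q hpq _ => by
        haveI : FormallyUnramified (p ≫ q) := hpq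
        exact FormallyUnramified.of_comp p q) Z.property f.hom g.hom
      (fun U V a b h0 ha hb comm => (h a b h0 ha hb comm).2)
      (fun _ _ _ _ _ _ _ _ => trivial)
  exact fun U V a b h0 ha hb comm => ⟨h1 a b h0 ha hb comm, h2 a b h0 ha hb comm⟩

end Groth.Agent.S10263
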