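import Groth.Statements.S10265
import Mathlib
import Groth.Agent.Lib.helper5.AlgSpEt

set_option autoImplicit false
universe u
open CategoryTheory CategoryTheory.Limits AlgebraicGeometry
open AlgSp

namespace Groth.Agent.S10265

/-- Whenever a morphism of algebraic spaces is etale, it is, etale locally on both source and target,
smooth, flat, unramified, locally quasi-finite, locally of finite type and locally of finite
presentation. -/
theorem result {S : Scheme.{u}} {X Y : AlgSp.Space S} (f : X ⟶ Y) (hf : AlgSp.IsEtaleMor f.hom) :
    AlgSp.LocP (@LocallyQuasiFinite ⊓ @LocallyOfFiniteType) f.hom ∧ AlgSp.LocP @Smooth f.hom ∧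
    AlgSp.LocP @Flat f.hom ∧ AlgSp.LocP @LocallyOfFinitePresentation f.hom ∧
    AlgSp.LocP @LocallyOfFiniteType f.hom ∧ AlgSp.LocP (@LocallyOfFiniteType ⊓ @FormallyUnramified) f.hom := by
  have key := AlgSp.h5_locP_etale_of_isEtaleMor f.hom hf
  refine ⟨fun U V a b h ha hb comm => ?_, fun U V a b h ha hb comm => ?_,
    fun U V a b h ha hb comm => ?_, fun U V a b h ha hb comm => ?_,
    fun U V a b h ha hb comm => ?_, fun U V a b h ha hb comm => ?_⟩
  · haveI : Etale h.left := key a b h ha hb comm
    exact ⟨AlgSp.h5_lqf_of_unramified h.left, inferInstance⟩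
  · haveI : Etale h.left := key a b h ha hb comm
    show Smooth h.left
    infer_instance
  · haveI : Etale h.left := key a b h ha hb comm
    show Flat h.left
    infer_instance
  · haveI : Etale h.left := key a b h ha hb comm
    show LocallyOfFinitePresentation h.left
    infer_instance
  · haveI : Etale h.left := key a b h ha hb comm
    show LocallyOfFiniteType h.left
    infer_instance
  · haveI : Etale h.left := key a b h ha hb comm
    exact ⟨inferInstance, inferInstance⟩

end Groth.Agent.S10265
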