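import Groth.Statements.S10266
import Mathlib
import Groth.Agent.Lib.helper5.AlgSpDesc
import Groth.Agent.Lib.helper5.AlgSpDiag
import Groth.Agent.Lib.helper5.SchDescent

set_option autoImplicit false
universe u
open CategoryTheory CategoryTheory.Limits AlgebraicGeometry
open AlgSp

namespace Groth.Agent.S10266

/-- A morphism of algebraic spaces that is locally of finite presentation, flat and unramified is etale. -/
theorem result {S : Scheme.{u}} {X Y : AlgSp.Space S} (f : X ⟶ Y)
    (h1 : AlgSp.LocP @LocallyOfFinitePresentation f.hom) (h2 : AlgSp.LocP @Flat f.hom)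
    (h3 : AlgSp.LocP (@LocallyOfFiniteType ⊓ @FormallyUnramified) f.hom) :
    AlgSp.IsEtaleMor f.hom := by
  intro U φ hφ
  obtain ⟨V, p, hpe, hps⟩ := Y.property.atlas
  haveI : Sheaf.IsLocallySurjective p :=
    AlgSp.h5_isLocallySurjective_of_etale_surjective p hpe hps
  have hrep := Y.property.representable_from_yon (φ ≫ f.hom)
  have sq := hpe.rep.isPullback (φ ≫ f.hom)
  obtain ⟨w, hw⟩ := (AlgSp.yon S).map_surjective (hpe.rep.fst (φ ≫ f.hom))
  have hse : Etale (hpe.rep.snd (φ ≫ f.hom)).left := hpe.property_snd _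
  have hc : AlgSp.RepWith @Etale ((AlgSp.yon S).map (hpe.rep.snd (φ ≫ f.hom)) ≫ φ) :=
    (AlgSp.RepWith @Etale).comp_mem _ _ ((AlgSp.repWith_yon_map_iff _ _).2 hse) hφ
  have comm : ((AlgSp.yon S).map (hpe.rep.snd (φ ≫ f.hom)) ≫ φ) ≫ f.hom =
      (AlgSp.yon S).map w ≫ p := by
    rw [Category.assoc, ← sq.w, hw]
  haveI e1 : LocallyOfFinitePresentation w.left := h1 _ p w hc hpe comm
  haveI e2 : Flat w.left := h2 _ p w hc hpe comm
  haveI e3 : FormallyUnramified w.left := (h3 _ p w hc hpe comm).2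
  haveI : Etale w.left := Etale.of_formallyUnramified_of_flat w.left
  exact AlgSp.h5_repWith_descend (φ ≫ f.hom) hrep p _ _ sq.flip @Etale
    (by rw [← hw]; exact (AlgSp.repWith_yon_map_iff _ _).2 this)

end Groth.Agent.S10266
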