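import Groth.Statements.S10270
import Mathlib
import Groth.Agent.S9923
import Groth.Agent.Lib.helper5.AlgSpUniv3

set_option autoImplicit false
universe u
open CategoryTheory CategoryTheory.Limits AlgebraicGeometry
open AlgSp

namespace Groth.Agent.S10270

theorem h5_univSp_of_isPullback {S : Scheme.{u}} (Q : MorphismProperty (AlgSp.Sp S))
    {F G G' P : AlgSp.Sp S} {f : F ⟶ G} {g : G' ⟶ G} {a : P ⟶ F} {b : P ⟶ G'}
    (sq : IsPullback a b f g) (hf : AlgSp.UnivSp Q f) : AlgSp.UnivSp Q b := by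
  intro Z Z' hZ h fst snd sqZ
  exact hf hZ (h ≫ g) (fst ≫ a) snd (sqZ.paste_horiz sq)

theorem h5_univClosed_yon_map_iff {S : Scheme.{u}} {W Z : Over S} (i : W ⟶ Z) :
    UniversallyClosed i.left ↔ AlgSp.IsUnivClosedMor ((AlgSp.yon S).map i) := by
  have h1 := AlgSp.h5_repWith_universally_iff (S := S) (fun f => IsClosedMap f)
    (fun f => IsClosedMap f)
    (fun eA eB φ φ' h => AlgSp.h5_transfer_isClosedMap eA eB φ φ' h)
    (fun sq hq h => AlgSp.h5_isClosedMap_of_quotient_base_change sq hq h)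
    ((AlgSp.yon S).map i) (AlgSp.representable_yon_map i)
  rw [← universallyClosed_eq, AlgSp.repWith_yon_map_iff] at h1
  exact h1

/-- A morphism of algebraic spaces is integral if and only if it is affine and universally closed. -/
theorem result {S : Scheme.{u}} {X Y : AlgSp.Space S} (f : X ⟶ Y) :
    AlgSp.IsIntegralMor f.hom ↔ (AlgSp.IsAffineMor f.hom ∧ AlgSp.IsUnivClosedMor f.hom) := by
  constructor
  · intro hf
    refine ⟨fun Z hZ g => ?_, ?_⟩
    · obtain ⟨W, i, fst, sq, hW, -⟩ := hf hZ g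
      exact ⟨W, i, fst, sq, hW⟩
    · rw [Groth.Agent.S9923.result]
      intro Z hZ g P fst snd sqP
      obtain ⟨W, i, fst', sq', hW, hi⟩ := hf hZ g
      haveI := hi
      have huc : AlgSp.IsUnivClosedMor ((AlgSp.yon S).map i) :=
        (h5_univClosed_yon_map_iff i).1 inferInstance
      have he := IsPullback.isoIsPullback_hom_snd _ _ sqP sq'
      exact huc (AlgSp.IsAlgSpace.yon_obj Z) (𝟙 _) (IsPullback.isoIsPullback _ _ sqP sq').hom snd
        (IsPullback.of_horiz_isIso ⟨by rw [he, Category.comp_id]⟩)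
  · rintro ⟨haff, huc⟩ Z hZ g
    obtain ⟨W, i, fst, sq, hW⟩ := haff hZ g
    refine ⟨W, i, fst, sq, hW, ?_⟩
    haveI : IsAffine W.left := hW
    haveI : IsAffine Z.left := hZ
    have h1 : AlgSp.IsUnivClosedMor ((AlgSp.yon S).map i) := h5_univSp_of_isPullback _ sq huc
    haveI : UniversallyClosed i.left := (h5_univClosed_yon_map_iff i).2 h1
    haveI : IsAffineHom i.left := inferInstance
    exact (IsIntegralHom.iff_universallyClosed_and_isAffineHom).2 ⟨inferInstance, inferInstance⟩

end Groth.Agent.S10270
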