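import Groth.Statements.S9903
import Mathlib
import Groth.Agent.Lib.helper5.AlgSpDiag

set_option autoImplicit false
universe u
open CategoryTheory CategoryTheory.Limits AlgebraicGeometry
open AlgSp

namespace Groth.Agent.S9903

/-- (1) ⇔ (3): a morphism of algebraic spaces is separated (resp. quasi-separated) if and only if its
base change to every affine scheme over the target is. -/
theorem result {S : Scheme.{u}} {X Y : AlgSp.Space S} (f : X ⟶ Y) :
    (AlgSp.IsSeparatedMor f.hom ↔
      ∀ (Z : Over S), IsAffine Z.left → ∀ (g : (AlgSp.yon S).obj Z ⟶ Y.obj) (P : AlgSp.Sp S)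
        (fst : P ⟶ X.obj) (snd : P ⟶ (AlgSp.yon S).obj Z), IsPullback fst snd f.hom g →
        AlgSp.IsSeparatedMor snd) ∧
    (AlgSp.IsQuasiSeparatedMor f.hom ↔
      ∀ (Z : Over S), IsAffine Z.left → ∀ (g : (AlgSp.yon S).obj Z ⟶ Y.obj) (P : AlgSp.Sp S)
        (fst : P ⟶ X.obj) (snd : P ⟶ (AlgSp.yon S).obj Z), IsPullback fst snd f.hom g →
        AlgSp.IsQuasiSeparatedMor snd) := by
  have hd := AlgSp.h5_diagonal_props X.property f.hom
  refine ⟨⟨fun h Z _ g P fst snd sq => ?_, fun H => ?_⟩, ⟨fun h Z _ g P fst snd sq => ?_, fun H => ?_⟩⟩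
  · exact MorphismProperty.of_isPullback (P := AlgSp.RepWith @IsClosedImmersion)
      (AlgSp.h5_isPullback_diagonal_baseChange sq) h
  · refine AlgSp.h5_repWith_of_affine @IsClosedImmersion _ hd.1 (fun T V hT t e1 e sqE => ?_)
    have sq := IsPullback.of_hasPullback f.hom (t ≫ pullback.fst f.hom f.hom ≫ f.hom)
    have hsep := H T hT _ _ _ _ sq
    obtain ⟨c, e1', sq'⟩ := AlgSp.h5_diag_probe t sq sqE
    exact hsep.property c e1' e sq'
  · exact MorphismProperty.of_isPullback (P := AlgSp.RepWith @QuasiCompact)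
      (AlgSp.h5_isPullback_diagonal_baseChange sq) h
  · refine AlgSp.h5_repWith_of_affine @QuasiCompact _ hd.1 (fun T V hT t e1 e sqE => ?_)
    have sq := IsPullback.of_hasPullback f.hom (t ≫ pullback.fst f.hom f.hom ≫ f.hom)
    have hsep := H T hT _ _ _ _ sq
    obtain ⟨c, e1', sq'⟩ := AlgSp.h5_diag_probe t sq sqE
    exact hsep.property c e1' e sq'

end Groth.Agent.S9903
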