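import Groth.Statements.S9917
import Mathlib
import Groth.Agent.Lib.helper5.AlgSpQc2

set_option autoImplicit false
universe u
open CategoryTheory CategoryTheory.Limits AlgebraicGeometry
open AlgSp

namespace Groth.Agent.S9917

/-- (1) ⇔ (3): a morphism of algebraic spaces is quasi-compact if and only if its base change to every
affine scheme over the target is a quasi-compact algebraic space. -/
theorem result {S : Scheme.{u}} {X Y : AlgSp.Space S} (f : X ⟶ Y) :
    AlgSp.IsQuasiCompactMor f.hom ↔
      ∀ (Z : Over S), IsAffine Z.left → ∀ (g : (AlgSp.yon S).obj Z ⟶ Y.obj) (P : AlgSp.Sp S)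
        (fst : P ⟶ X.obj) (snd : P ⟶ (AlgSp.yon S).obj Z), IsPullback fst snd f.hom g →
        AlgSp.IsQuasiCompactSp P := by
  constructor
  · intro h Z hZ g P fst snd sq
    refine h (AlgSp.IsAlgSpace.yon_obj Z) ?_ g fst snd sq
    exact ⟨Z, 𝟙 _, AlgSp.repWith_id _ Z, AlgSp.repWith_id _ Z, (inferInstance : CompactSpace ↥Z.left)⟩
  · intro h W W' hW hWqc g fst snd sq
    obtain ⟨U, w, hU, he, hs⟩ := AlgSp.h5_isQuasiCompactSp_iff_affine.1 hWqc
    have hW' : AlgSp.IsAlgSpace W' :=
      AlgSp.h5_isAlgSpace_of_isPullback Y.property.diag X.property hW sq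
    have sq2 : IsPullback (pullback.fst snd w) (pullback.snd snd w) snd w :=
      IsPullback.of_hasPullback snd w
    have sq3 := sq2.paste_horiz sq
    have hqc := h U hU (w ≫ g) _ _ _ sq3
    have hsurj : Function.Surjective (Points.map w) := (AlgSp.h5_repWith_surjective_iff w hs.rep).1 hs
    exact AlgSp.h5_isQuasiCompactSp_of_surjective hW' _
      (AlgSp.h5_surjective_of_isPullback sq2.flip hsurj) hqc

end Groth.Agent.S9917
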