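import Groth.Statements.S10273
import Mathlib
import Groth.Agent.Lib.helper5.AlgSpLft3
import Groth.Agent.Lib.helper5.AlgSpDiag
import Groth.Agent.S9903
import Groth.Agent.S9917
import Groth.Agent.S9923

set_option autoImplicit false
universe u
open CategoryTheory CategoryTheory.Limits AlgebraicGeometry
open AlgSp

namespace Groth.Agent.S10273

/-- (1) ⇔ (3): properness of a morphism of algebraic spaces can be tested after base change to affine
schemes over the target. -/
theorem result {S : Scheme.{u}} {X Y : AlgSp.Space S} (f : X ⟶ Y) :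
    AlgSp.IsProperMor f.hom ↔
      ∀ (Z : Over S), IsAffine Z.left → ∀ (g : (AlgSp.yon S).obj Z ⟶ Y.obj) (P : AlgSp.Sp S) (fst : P ⟶ X.obj)
        (snd : P ⟶ (AlgSp.yon S).obj Z), IsPullback fst snd f.hom g → AlgSp.IsProperMor snd := by
  constructor
  · intro hf Z hZ g P fst snd sq
    obtain ⟨hsep, ⟨hlft, hqc⟩, huc⟩ := hf
    refine ⟨?_, ⟨AlgSp.h5_locP_lft_baseChange X.property Y.property (AlgSp.IsAlgSpace.yon_obj Z)
      sq hlft, ?_⟩, ?_⟩
    · exact MorphismProperty.of_isPullback (P := AlgSp.RepWith @IsClosedImmersion)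
        (AlgSp.h5_isPullback_diagonal_baseChange sq) hsep
    · intro T T' hT hTqc g₂ fst₂ snd₂ sqP
      exact hqc hT hTqc (g₂ ≫ g) (fst₂ ≫ fst) snd₂ (sqP.paste_horiz sq)
    · intro T T' hT g₂ fst₂ snd₂ sqP
      exact huc hT (g₂ ≫ g) (fst₂ ≫ fst) snd₂ (sqP.paste_horiz sq)
  · intro H
    refine ⟨(Groth.Agent.S9903.result f).1.2 (fun Z hZ g P fst snd sq => (H Z hZ g P fst snd sq).1),
      ⟨?_, ?_⟩, ?_⟩
    · apply AlgSp.h5_locP_lft_of_affine_baseChange
      intro Z hZ g _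
      exact (H Z hZ g _ _ _ (IsPullback.of_hasPullback f.hom g)).2.1.1
    · refine (Groth.Agent.S9917.result f).2 (fun Z hZ g P fst snd sq => ?_)
      have hq := (H Z hZ g P fst snd sq).2.1.2
      have hZc : CompactSpace ↥Z.left := inferInstance
      have hZqc : AlgSp.IsQuasiCompactSp ((AlgSp.yon S).obj Z) :=
        ⟨Z, 𝟙 _, AlgSp.repWith_id _ Z, AlgSp.repWith_id _ Z, hZc⟩
      exact hq (AlgSp.IsAlgSpace.yon_obj Z) hZqc (𝟙 _) (𝟙 P) snd (IsPullback.id_horiz snd)
    · refine (Groth.Agent.S9923.result f).2 (fun Z hZ g P fst snd sq => ?_)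
      exact (H Z hZ g P fst snd sq).2.2 (AlgSp.IsAlgSpace.yon_obj Z) (𝟙 _) (𝟙 P) snd
        (IsPullback.id_horiz snd)

end Groth.Agent.S10273
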