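import Groth.Statements.S9912
import Mathlib
import Groth.Agent.Lib.helper5.AlgSpUniv3

set_option autoImplicit false
universe u
open CategoryTheory CategoryTheory.Limits AlgebraicGeometry
open AlgSp

namespace Groth.Agent.S9912

/-- For a morphism of algebraic spaces representable by schemes, representable quasi-compactness agrees
with the condition that base changes to quasi-compact algebraic spaces are quasi-compact. -/
theorem result {S : Scheme.{u}} {X Y : AlgSp.Space S} (f : X ⟶ Y)
    (hf : AlgSp.Representable f.hom) :
    AlgSp.RepWith @QuasiCompact f.hom ↔ AlgSp.IsQuasiCompactMor f.hom := by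
  constructor
  · intro h Z Z' hZ hZq g fst snd sq
    exact AlgSp.h5_isQuasiCompactSp_of_repWith_quasiCompact snd
      (MorphismProperty.of_isPullback (P := AlgSp.RepWith @QuasiCompact) sq h) hZq
  · intro h
    refine MorphismProperty.relative.of_exists ?_
    intro V g
    refine ⟨hf.pullback g, hf.fst g, hf.snd g, hf.isPullback g, ?_⟩
    show QuasiCompact (hf.snd g).left
    rw [quasiCompact_iff_forall_isAffineOpen]
    intro U hU
    -- the affine open as an object over S
    let ι := AlgSp.h5_openOverι V U
    have hqcU : AlgSp.IsQuasiCompactSp ((AlgSp.yon S).obj (AlgSp.h5_openOver V U)) := by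
      refine ⟨AlgSp.h5_openOver V U, 𝟙 _, ?_, ?_, ?_⟩
      · rw [← (AlgSp.yon S).map_id]
        exact (AlgSp.repWith_yon_map_iff _ _).2 (by dsimp; infer_instance)
      · rw [← (AlgSp.yon S).map_id]
        exact (AlgSp.repWith_yon_map_iff _ _).2 (by dsimp; infer_instance)
      · have : IsAffine (U : Scheme) := hU
        show CompactSpace ↥(U : Scheme)
        infer_instance
    let g' := (AlgSp.yon S).map ι ≫ g
    have sq' := hf.isPullback g'
    have hq' := h (AlgSp.IsAlgSpace.yon_obj _) hqcU g' _ _ sq'
    -- compactness of the scheme W'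
    have hcW' : CompactSpace ↥(hf.pullback g').left := by
      obtain ⟨T, p, he, hs, hT⟩ := hq'
      obtain ⟨p', rfl⟩ := (AlgSp.yon S).map_surjective p
      have hsurj : Surjective p'.left := (AlgSp.repWith_yon_map_iff _ _).1 hs
      have hT' : CompactSpace ↥T.left := hT
      rw [← isCompact_univ_iff, ← hsurj.1.range_eq]
      exact isCompact_range p'.left.continuous
    -- the comparison map W' ⟶ W
    have sq := hf.isPullback g
    obtain ⟨r, hr⟩ := (AlgSp.yon S).map_surjective
      (sq.lift (hf.fst g') ((AlgSp.yon S).map (hf.snd g') ≫ (AlgSp.yon S).map ι)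
        (by rw [sq'.w, Category.assoc]))
    have hr1 : (AlgSp.yon S).map r ≫ hf.fst g = hf.fst g' := by rw [hr, sq.lift_fst]
    have hr2 : (AlgSp.yon S).map r ≫ (AlgSp.yon S).map (hf.snd g) =
        (AlgSp.yon S).map (hf.snd g') ≫ (AlgSp.yon S).map ι := by rw [hr, sq.lift_snd]
    have sqL : IsPullback ((AlgSp.yon S).map r) ((AlgSp.yon S).map (hf.snd g'))
        ((AlgSp.yon S).map (hf.snd g)) ((AlgSp.yon S).map ι) := by
      refine IsPullback.of_right ?_ hr2 sq
      rw [hr1]
      exact sq'
    have sqO : IsPullback r (hf.snd g') (hf.snd g) ι := IsPullback.of_map (AlgSp.yon S) (by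
      apply (AlgSp.yon S).map_injective
      simp only [Functor.map_comp]
      exact hr2) sqL
    have sqS : IsPullback r.left (hf.snd g').left (hf.snd g).left ι.left :=
      sqO.map (Over.forget S)
    have hrange : Set.range r.left = (hf.snd g).left ⁻¹' Set.range ι.left := by
      rw [← Scheme.Pullback.range_fst, ← sqS.isoPullback_hom_fst]
      ext x
      constructor
      · rintro ⟨y, rfl⟩
        exact ⟨sqS.isoPullback.hom y, rfl⟩
      · rintro ⟨y, rfl⟩
        refine ⟨sqS.isoPullback.inv y, ?_⟩
        rw [← Scheme.Hom.comp_apply, ← Category.assoc, Iso.inv_hom_id, Category.id_comp]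
    have hιr : Set.range ι.left = (U : Set V.left) := by
      show Set.range U.ι = _
      simp
    rw [hιr] at hrange
    show IsCompact ((hf.snd g).left ⁻¹' (U : Set V.left))
    rw [← hrange]
    exact isCompact_range r.left.continuous

end Groth.Agent.S9912
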