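import Groth.Statements.S10271
import Mathlib
import Groth.Agent.S10273
import Groth.Agent.S10275
import Groth.Agent.S9912
import Groth.Agent.Lib.helper5.AlgSpUniv3
import Groth.Agent.Lib.helper5.AlgSpEt

set_option autoImplicit false
universe u
open CategoryTheory CategoryTheory.Limits AlgebraicGeometry
open AlgSp

namespace Groth.Agent.S10271

theorem h5_univClosed_yon_map_iff {S : Scheme.{u}} {W Z : Over S} (i : W ⟶ Z) :
    UniversallyClosed i.left ↔ AlgSp.IsUnivClosedMor ((AlgSp.yon S).map i) := by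
  have h1 := AlgSp.h5_repWith_universally_iff (S := S) (fun f => IsClosedMap f)
    (fun f => IsClosedMap f)
    (fun eA eB φ φ' h => AlgSp.h5_transfer_isClosedMap eA eB φ φ' h)
    (fun sq hq h => AlgSp.h5_isClosedMap_of_quotient_base_change sq hq h)
    ((AlgSp.yon S).map i) (AlgSp.representable_yon_map i)
  rw [← universallyClosed_eq, AlgSp.repWith_yon_map_iff] at h1
  exact h1

theorem h5_isProperMor_yon_map_iff {S : Scheme.{u}} {W Z : Over S} (i : W ⟶ Z) :
    AlgSp.IsProperMor ((AlgSp.yon S).map i) ↔ IsProper i.left := by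
  have hqc : AlgSp.IsQuasiCompactMor ((AlgSp.yon S).map i) ↔ QuasiCompact i.left := by
    have h1 := Groth.Agent.S9912.result
      (X := ⟨(AlgSp.yon S).obj W, AlgSp.IsAlgSpace.yon_obj W⟩)
      (Y := ⟨(AlgSp.yon S).obj Z, AlgSp.IsAlgSpace.yon_obj Z⟩)
      (ObjectProperty.homMk ((AlgSp.yon S).map i)) (AlgSp.representable_yon_map i)
    exact h1.symm.trans (AlgSp.repWith_yon_map_iff _ i)
  constructor
  · rintro ⟨hsep, ⟨hlft, _⟩, huc⟩
    haveI : IsSeparated i.left := (AlgSp.isSeparatedMor_yon_map_iff i).1 hsep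
    haveI : LocallyOfFiniteType i.left := AlgSp.locP_yon_map hlft
    haveI : UniversallyClosed i.left := (h5_univClosed_yon_map_iff i).2 huc
    exact {}
  · intro h
    refine ⟨(AlgSp.isSeparatedMor_yon_map_iff i).2 inferInstance, ⟨?_, hqc.2 inferInstance⟩,
      (h5_univClosed_yon_map_iff i).1 inferInstance⟩
    exact AlgSp.h5_locP_of_repWith @LocallyOfFiniteType
      (fun _ _ g (hg : Etale g) => (inferInstance : LocallyOfFiniteType g)) _
      ((AlgSp.repWith_yon_map_iff _ i).2 inferInstance)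

/-- A morphism of algebraic spaces is finite if and only if it is affine and proper. -/
theorem result {S : Scheme.{u}} {X Y : AlgSp.Space S} (f : X ⟶ Y) :
    AlgSp.IsFiniteMor f.hom ↔ (AlgSp.IsAffineMor f.hom ∧ AlgSp.IsProperMor f.hom) := by
  constructor
  · intro hf
    refine ⟨fun Z hZ g => ?_, ?_⟩
    · obtain ⟨W, i, fst, sq, hW, -⟩ := hf hZ g
      exact ⟨W, i, fst, sq, hW⟩
    · rw [Groth.Agent.S10273.result]
      intro Z hZ g P fst snd sqP
      obtain ⟨W, i, fst', sq', hW, hi⟩ := hf hZ g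
      haveI := hi
      have hpr : AlgSp.IsProperMor ((AlgSp.yon S).map i) :=
        (h5_isProperMor_yon_map_iff i).2 inferInstance
      have he := IsPullback.isoIsPullback_hom_snd _ _ sqP sq'
      have sqB : IsPullback (IsPullback.isoIsPullback _ _ sqP sq').hom snd ((AlgSp.yon S).map i)
          (𝟙 ((AlgSp.yon S).obj Z)) :=
        IsPullback.of_horiz_isIso ⟨by rw [he]; exact (Category.comp_id _).symm⟩
      exact Groth.Agent.S10275.result
        (X := ⟨(AlgSp.yon S).obj W, AlgSp.IsAlgSpace.yon_obj W⟩)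
        (Y := ⟨(AlgSp.yon S).obj Z, AlgSp.IsAlgSpace.yon_obj Z⟩)
        (Y' := ⟨(AlgSp.yon S).obj Z, AlgSp.IsAlgSpace.yon_obj Z⟩)
        (X' := ⟨P, AlgSp.IsAlgSpace.of_iso (AlgSp.IsAlgSpace.yon_obj W)
          (IsPullback.isoIsPullback _ _ sqP sq').symm⟩)
        (ObjectProperty.homMk ((AlgSp.yon S).map i)) (𝟙 _)
        (ObjectProperty.homMk (IsPullback.isoIsPullback _ _ sqP sq').hom)
        (ObjectProperty.homMk snd)
        sqB hpr
  · rintro ⟨haff, hpr⟩ Z hZ g
    obtain ⟨W, i, fst, sq, hW⟩ := haff hZ g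
    refine ⟨W, i, fst, sq, hW, ?_⟩
    haveI : IsAffine W.left := hW
    haveI : IsAffine Z.left := hZ
    have h1 : AlgSp.IsProperMor ((AlgSp.yon S).map i) :=
      Groth.Agent.S10275.result
        (Y' := ⟨(AlgSp.yon S).obj Z, AlgSp.IsAlgSpace.yon_obj Z⟩)
        (X' := ⟨(AlgSp.yon S).obj W, AlgSp.IsAlgSpace.yon_obj W⟩)
        f (ObjectProperty.homMk g) (ObjectProperty.homMk fst)
        (ObjectProperty.homMk ((AlgSp.yon S).map i)) sq hpr
    haveI : IsProper i.left := (h5_isProperMor_yon_map_iff i).1 h1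
    haveI : IsAffineHom i.left := inferInstance
    exact IsFinite.iff_isProper_and_isAffineHom.2 ⟨inferInstance, inferInstance⟩

end Groth.Agent.S10271
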