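import Groth.Statements.S10272
import Mathlib
import Groth.Agent.Lib.helper5.AlgSpGraph

set_option autoImplicit false
universe u
open CategoryTheory CategoryTheory.Limits AlgebraicGeometry
open AlgSp

namespace Groth.Agent.S10272

/-- If g is separated and the composite of f and g is finite (resp. integral) then f is finite (resp.
integral). -/
theorem result {S : Scheme.{u}} {X Y Z : AlgSp.Space S} (f : X ⟶ Y) (g : Y ⟶ Z)
    (hg : AlgSp.IsSeparatedMor g.hom) :
    (AlgSp.IsFiniteMor (f ≫ g).hom → AlgSp.IsFiniteMor f.hom) ∧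
    (AlgSp.IsIntegralMor (f ≫ g).hom → AlgSp.IsIntegralMor f.hom) := by
  have key : ∀ (Q : MorphismProperty Scheme.{u}) [Q.IsStableUnderComposition]
      (_ : (@IsClosedImmersion : MorphismProperty Scheme.{u}) ≤ Q),
      (∀ ⦃T : Over S⦄, IsAffine T.left → ∀ (t : (AlgSp.yon S).obj T ⟶ Z.obj),
        ∃ (W : Over S) (i : W ⟶ T) (fst : (AlgSp.yon S).obj W ⟶ X.obj),
          IsPullback fst ((AlgSp.yon S).map i) (f ≫ g).hom t ∧ IsAffine W.left ∧ Q i.left) →
      (∀ ⦃T : Over S⦄, IsAffine T.left → ∀ (t : (AlgSp.yon S).obj T ⟶ Y.obj),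
        ∃ (W : Over S) (i : W ⟶ T) (fst : (AlgSp.yon S).obj W ⟶ X.obj),
          IsPullback fst ((AlgSp.yon S).map i) f.hom t ∧ IsAffine W.left ∧ Q i.left) := by
    intro Q _ hQ h T hT t
    obtain ⟨W1, i1, fst1, sq1, hW1, hi1⟩ := h hT (t ≫ g.hom)
    have sq1' : IsPullback fst1 ((AlgSp.yon S).map i1) (f.hom ≫ g.hom) (t ≫ g.hom) := sq1
    have sq2 := hg.rep.isPullback (pullback.lift (fst1 ≫ f.hom) ((AlgSp.yon S).map i1 ≫ t)
      (by simpa using sq1'.w))
    have hci : IsClosedImmersion (hg.rep.snd (pullback.lift (fst1 ≫ f.hom)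
      ((AlgSp.yon S).map i1 ≫ t) (by simpa using sq1'.w))).left := hg.property_snd _
    have sq3 := AlgSp.h5_isPullback_graph sq1' sq2
    rw [← (AlgSp.yon S).map_comp] at sq3
    refine ⟨_, _, _, sq3, ?_, ?_⟩
    · haveI := hW1
      exact isAffine_of_isAffineHom (hg.rep.snd (pullback.lift (fst1 ≫ f.hom)
        ((AlgSp.yon S).map i1 ≫ t) (by simpa using sq1'.w))).left
    · rw [Over.comp_left]
      exact Q.comp_mem _ _ (hQ _ _ _ hci) hi1
  refine ⟨fun h => ?_, fun h => ?_⟩
  · exact key @IsFinite (fun _ _ i (hi : IsClosedImmersion i) => by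
      show IsFinite i
      infer_instance) h
  · exact key @IsIntegralHom (fun _ _ i (hi : IsClosedImmersion i) => by
      show IsIntegralHom i
      infer_instance) h

end Groth.Agent.S10272
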