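import Groth.Statements.S9904
import Mathlib
import Groth.Agent.Lib.helper5.AlgSpDiag

set_option autoImplicit false
universe u
open CategoryTheory CategoryTheory.Limits AlgebraicGeometry
open AlgSp

namespace Groth.Agent.S9904

/-- (5) ⇒ (1): separatedness (resp. quasi-separatedness) of a morphism of algebraic spaces descends
along one surjective etale base change from a scheme. -/
theorem result {S : Scheme.{u}} {X Y : AlgSp.Space S} (f : X ⟶ Y) (V : Over S)
    (p : (AlgSp.yon S).obj V ⟶ Y.obj) (hp : AlgSp.RepWith @Etale p) (hps : AlgSp.RepWith @Surjective p)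
    {P : AlgSp.Sp S} (fst : P ⟶ X.obj) (snd : P ⟶ (AlgSp.yon S).obj V) (sq : IsPullback fst snd f.hom p) :
    (AlgSp.IsSeparatedMor snd → AlgSp.IsSeparatedMor f.hom) ∧
    (AlgSp.IsQuasiSeparatedMor snd → AlgSp.IsQuasiSeparatedMor f.hom) := by
  have hd := AlgSp.h5_diagonal_props X.property f.hom
  have sq1 := AlgSp.h5_isPullback_diagonal_baseChange sq
  have sq2 := AlgSp.h5_isPullback_map_baseChange sq
  have he : AlgSp.RepWith @Etale (pullback.map snd snd f.hom f.hom fst fst p sq.w.symm sq.w.symm) :=
    MorphismProperty.of_isPullback (P := AlgSp.RepWith @Etale) sq2.flip hp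
  have hsj : AlgSp.RepWith @Surjective
      (pullback.map snd snd f.hom f.hom fst fst p sq.w.symm sq.w.symm) :=
    MorphismProperty.of_isPullback (P := AlgSp.RepWith @Surjective) sq2.flip hps
  haveI := AlgSp.h5_isLocallySurjective_of_etale_surjective _ he hsj
  exact ⟨fun h => AlgSp.h5_repWith_descend _ hd.1 _ _ _ sq1 @IsClosedImmersion h,
    fun h => AlgSp.h5_repWith_descend _ hd.1 _ _ _ sq1 @QuasiCompact h⟩

end Groth.Agent.S9904
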