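import Groth.Statements.S9949
import Mathlib
import Groth.Agent.Lib.helper5.AlgSpEt
import Groth.Agent.Lib.helper5.SchDescent

set_option autoImplicit false
universe u
open CategoryTheory CategoryTheory.Limits AlgebraicGeometry
open AlgSp

namespace Groth.Agent.S9949

/-- (5) ⇒ (1): being locally of finite type descends along a surjective etale base change from a scheme. -/
theorem result {S : Scheme.{u}} {X Y : AlgSp.Space S} (f : X ⟶ Y) (V : Over S)
    (p : (AlgSp.yon S).obj V ⟶ Y.obj) (hp : AlgSp.RepWith @Etale p) (hps : AlgSp.RepWith @Surjective p)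
    {P : AlgSp.Sp S} (fst : P ⟶ X.obj) (snd : P ⟶ (AlgSp.yon S).obj V) (sq : IsPullback fst snd f.hom p)
    (h : AlgSp.LocP @LocallyOfFiniteType snd) : AlgSp.LocP @LocallyOfFiniteType f.hom := by
  intro U V' a b h' ha hb comm
  have sq1 := hp.rep.isPullback b
  haveI e1 : Etale (hp.rep.snd b).left := hp.property_snd b
  haveI s1 : Surjective (hp.rep.snd b).left := hps.property_snd b
  obtain ⟨v, hv⟩ := (AlgSp.yon S).map_surjective (hp.rep.fst b)
  have sq2 : IsPullback (pullback.fst h' (hp.rep.snd b)) (pullback.snd h' (hp.rep.snd b)) h'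
      (hp.rep.snd b) := IsPullback.of_hasPullback _ _
  have sq2y := sq2.map (AlgSp.yon S)
  have big := sq2y.flip.paste_horiz sq1
  rw [← comm] at big
  have hw : ((AlgSp.yon S).map (pullback.fst h' (hp.rep.snd b)) ≫ a) ≫ f.hom =
      ((AlgSp.yon S).map (pullback.snd h' (hp.rep.snd b)) ≫ hp.rep.fst b) ≫ p := by
    rw [Category.assoc, Category.assoc]
    exact big.w.symm
  have sq3 : IsPullback (sq.lift _ _ hw) ((AlgSp.yon S).map (pullback.fst h' (hp.rep.snd b)))
      fst a :=
    IsPullback.of_right (by rw [sq.lift_snd]; exact big) (by rw [sq.lift_fst]) sq.flip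
  have hl : AlgSp.RepWith @Etale (sq.lift _ _ hw) :=
    MorphismProperty.of_isPullback (P := AlgSp.RepWith @Etale) sq3.flip ha
  have hcomm : sq.lift _ _ hw ≫ snd =
      (AlgSp.yon S).map (pullback.snd h' (hp.rep.snd b) ≫ v) ≫ 𝟙 _ := by
    rw [sq.lift_snd, Category.comp_id, Functor.map_comp, hv]
  have h1 : LocallyOfFiniteType (pullback.snd h' (hp.rep.snd b) ≫ v).left :=
    h _ (𝟙 _) _ hl (AlgSp.repWith_id _ V) hcomm
  rw [Over.comp_left] at h1
  have h2 : LocallyOfFiniteType (pullback.snd h' (hp.rep.snd b)).left :=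
    locallyOfFiniteType_of_comp _ v.left
  have sqL := (sq2.map (Over.forget S)).flip
  have hfl : Flat (hp.rep.snd b).left := inferInstance
  have hlfp : LocallyOfFinitePresentation (hp.rep.snd b).left := inferInstance
  exact MorphismProperty.of_isPullback_of_descendsAlong (P := @LocallyOfFiniteType)
    (Q := Groth.Agent.Lib.helper5.h5Fppf.{u}) sqL ⟨⟨s1, hfl⟩, hlfp⟩ h2

end Groth.Agent.S9949
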