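import Groth.Statements.S10279
import Mathlib
import Groth.Agent.Lib.helper5.AlgSpQc2

set_option autoImplicit false
universe u
open CategoryTheory CategoryTheory.Limits AlgebraicGeometry
open AlgSp

namespace Groth.Agent.S10279

/-- The target of a surjective morphism over B from a space universally closed over B is universally
closed over B (hence proper over B as soon as it is also separated and of finite type over B, by
definition). -/
theorem result {S : Scheme.{u}} {X Y B : AlgSp.Space S} (f : X ⟶ Y) (p : X ⟶ B)
    (q : Y ⟶ B) (comm : f ≫ q = p) (hp : AlgSp.IsUnivClosedMor p.hom) (hf : AlgSp.IsSurjectiveMor f.hom) :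
    AlgSp.IsUnivClosedMor q.hom := by
  intro W W' hW g fst snd sq
  have sq2 : IsPullback (pullback.snd fst f.hom) (pullback.fst fst f.hom) f.hom fst :=
    (IsPullback.of_hasPullback fst f.hom).flip
  have sq3 := sq2.paste_vert sq
  have hp' : p.hom = f.hom ≫ q.hom := by rw [← comm]; rfl
  rw [← hp'] at sq3
  have hcl : IsClosedMap (Points.map (pullback.fst fst f.hom ≫ snd)) := hp hW g _ _ sq3
  have hsurj := AlgSp.h5_surjective_of_isPullback sq2 hf
  intro C hC
  have : Points.map snd '' C =
      Points.map (pullback.fst fst f.hom ≫ snd) '' (Points.map (pullback.fst fst f.hom) ⁻¹' C) := by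
    ext z
    constructor
    · rintro ⟨c, hc, rfl⟩
      obtain ⟨d, rfl⟩ := hsurj c
      exact ⟨d, hc, Points.map_comp _ _ d⟩
    · rintro ⟨d, hd, rfl⟩
      exact ⟨_, hd, (Points.map_comp _ _ d).symm⟩
  rw [this]
  exact hcl _ (hC.preimage (Points.continuous_map _))

end Groth.Agent.S10279
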