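import Groth.Statements.S10280
import Mathlib
import Groth.Agent.Lib.helper5.AlgSpEt
import Groth.Agent.S9922
import Groth.Agent.S9936

set_option autoImplicit false
universe u
open CategoryTheory CategoryTheory.Limits AlgebraicGeometry
open AlgSp

namespace Groth.Agent.S10280

/-- F is separated if and only if its diagonal is universally closed, if and only if its diagonal is
proper. -/
theorem result {S : Scheme.{u}} {X Y : AlgSp.Space S} (f : X ⟶ Y) :
    (AlgSp.IsSeparatedMor f.hom ↔ AlgSp.IsUnivClosedMor (pullback.diagonal f.hom)) ∧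
    (AlgSp.IsSeparatedMor f.hom ↔ AlgSp.IsProperMor (pullback.diagonal f.hom)) := by
  have hd := AlgSp.h5_diagonal_props X.property f.hom
  let P : AlgSp.Space S := ⟨pullback f.hom f.hom,
    AlgSp.h5_isAlgSpace_of_isPullback Y.property.diag X.property X.property
      (IsPullback.of_hasPullback f.hom f.hom)⟩
  let δ : X ⟶ P := ObjectProperty.homMk (pullback.diagonal f.hom)
  have huc : AlgSp.RepWith @UniversallyClosed (pullback.diagonal f.hom) ↔
      AlgSp.IsUnivClosedMor (pullback.diagonal f.hom) := Groth.Agent.S9922.result δ hd.1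
  have h1 : AlgSp.IsSeparatedMor f.hom ↔
      AlgSp.RepWith @UniversallyClosed (pullback.diagonal f.hom) := by
    constructor
    · intro h
      exact AlgSp.h5_repWith_mono
        (fun _ _ g (hg : IsClosedImmersion g) => (inferInstance : UniversallyClosed g)) h
    · intro h
      refine AlgSp.h5_repWith_mono
        (P := @UniversallyClosed ⊓ (@LocallyOfFiniteType ⊓ MorphismProperty.monomorphisms Scheme.{u}))
        ?_ (AlgSp.h5_repWith_inf h (AlgSp.h5_repWith_inf hd.2.1 hd.2.2))
      rintro _ _ g ⟨h1, h2, h3⟩
      haveI : UniversallyClosed g := h1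
      haveI : LocallyOfFiniteType g := h2
      haveI : Mono g := h3
      show IsClosedImmersion g
      rw [IsClosedImmersion.iff_isProper_and_mono]
      exact ⟨{ }, inferInstance⟩
  have h2 : AlgSp.IsSeparatedMor f.hom ↔ AlgSp.IsUnivClosedMor (pullback.diagonal f.hom) :=
    h1.trans huc
  refine ⟨h2, ⟨fun h => ⟨?_, ⟨?_, ?_⟩, h2.1 h⟩, fun h => h2.2 h.2.2⟩⟩
  · haveI : IsIso (pullback.diagonal (pullback.diagonal f.hom)) :=
      (pullback.isIso_diagonal_iff _).2 inferInstance
    exact AlgSp.h5_repWith_of_isIso @IsClosedImmersion _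
  · exact AlgSp.h5_locP_of_repWith @LocallyOfFiniteType
      (fun _ _ g (hg : Etale g) => (inferInstance : LocallyOfFiniteType g)) _ hd.2.1
  · exact Groth.Agent.S9936.result δ h

end Groth.Agent.S10280
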