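import Groth.Statements.S10290
import Mathlib
import Groth.Agent.Lib.helper5.AlgSpPts

set_option autoImplicit false
universe u
open CategoryTheory CategoryTheory.Limits AlgebraicGeometry
open AlgSp

namespace Groth.Agent.S10290

/-- A separated morphism of algebraic spaces satisfies the uniqueness part of the valuative criterion. -/
theorem result {S : Scheme.{u}} {X Y : AlgSp.Space S} (f : X ⟶ Y)
    (hf : AlgSp.IsSeparatedMor f.hom) : AlgSp.UniqVC f.hom := by
  intro sq l l' h1 h2 h3 h4
  have hf' : AlgSp.RepWith @IsClosedImmersion (pullback.diagonal f.hom) := hf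
  let d : (AlgSp.yon S).obj sq.ptA ⟶ pullback f.hom f.hom :=
    pullback.lift l l' (h2.trans h4.symm)
  have hd1 : d ≫ pullback.fst f.hom f.hom = l := pullback.lift_fst _ _ _
  have hd2 : d ≫ pullback.snd f.hom f.hom = l' := pullback.lift_snd _ _ _
  have psq := hf'.rep.isPullback d
  have hci : IsClosedImmersion (hf'.rep.snd d).left := hf'.property_snd d
  -- the generic point factors through the closed subscheme
  have hw : sq.top ≫ pullback.diagonal f.hom = (AlgSp.yon S).map sq.j ≫ d := by
    apply pullback.hom_ext
    · rw [Category.assoc, pullback.diagonal_fst, Category.comp_id, Category.assoc, hd1, h1]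
    · rw [Category.assoc, pullback.diagonal_snd, Category.comp_id, Category.assoc, hd2, h3]
  obtain ⟨k, hk⟩ := (AlgSp.yon S).map_surjective (psq.lift sq.top ((AlgSp.yon S).map sq.j) hw)
  have hk2 : k ≫ hf'.rep.snd d = sq.j := by
    apply (AlgSp.yon S).map_injective
    rw [Functor.map_comp, hk, psq.lift_snd]
  have hk3 : k.left ≫ (hf'.rep.snd d).left =
      Spec.map (CommRingCat.ofHom (algebraMap sq.A sq.K)) := by
    rw [← Over.comp_left, hk2]
    rfl
  have haff : IsAffine (sq.ptA).left := by
    show IsAffine (Spec (CommRingCat.of sq.A))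
    infer_instance
  have hinj : Function.Injective (hf'.rep.snd d).left.appTop := by
    have h5 : Function.Injective (k.left ≫ (hf'.rep.snd d).left).appTop := by
      rw [hk3]
      have h6 : Function.Injective (CommRingCat.ofHom (algebraMap sq.A sq.K)) :=
        IsFractionRing.injective sq.A sq.K
      have h7 := Scheme.ΓSpecIso_inv_naturality (CommRingCat.ofHom (algebraMap sq.A sq.K))
      have h8 : (Spec.map (CommRingCat.ofHom (algebraMap sq.A sq.K))).appTop =
          (Scheme.ΓSpecIso _).hom ≫ CommRingCat.ofHom (algebraMap sq.A sq.K) ≫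
            (Scheme.ΓSpecIso _).inv := by
        rw [h7, Iso.hom_inv_id_assoc]
      rw [h8]
      simp only [CommRingCat.hom_comp, RingHom.coe_comp]
      exact ((ConcreteCategory.bijective_of_isIso (Scheme.ΓSpecIso _).inv).1.comp h6).comp
        (ConcreteCategory.bijective_of_isIso (Scheme.ΓSpecIso _).hom).1
    rw [Scheme.Hom.comp_appTop] at h5
    simp only [CommRingCat.hom_comp, RingHom.coe_comp] at h5
    exact Function.Injective.of_comp h5
  have hiso : IsIso (hf'.rep.snd d).left :=
    IsClosedImmersion.isIso_of_injective_of_isAffine hinj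
  have hiso' : IsIso (hf'.rep.snd d) := (isIso_iff_of_reflects_iso _ (Over.forget S)).1 hiso
  have hd : d = inv ((AlgSp.yon S).map (hf'.rep.snd d)) ≫ hf'.rep.fst d ≫
      pullback.diagonal f.hom := by
    rw [psq.w, IsIso.inv_hom_id_assoc]
  rw [← hd1, ← hd2, hd]
  simp only [Category.assoc, pullback.diagonal_fst, pullback.diagonal_snd]

end Groth.Agent.S10290
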