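import Groth.Statements.S10302
import Mathlib
import Groth.Agent.Lib.helper5.AlgSpEtDim
import Groth.Agent.Lib.helper5.AlgSpPb

set_option autoImplicit false
universe u
open CategoryTheory CategoryTheory.Limits AlgebraicGeometry
open AlgSp

namespace Groth.Agent.S10302

/-- A flat morphism of algebraic spaces maps points of codimension 0 to points of codimension 0. -/
theorem result {S : Scheme.{u}} {X Y : AlgSp.Space S} (f : X ⟶ Y) (hf : AlgSp.LocP @Flat f.hom)
    (x : AlgSp.Points X.obj) (hx : AlgSp.HasAt (fun U u => ringKrullDim ↥(U.presheaf.stalk u) = 0) X.obj x) :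
    AlgSp.HasAt (fun U u => ringKrullDim ↥(U.presheaf.stalk u) = 0) Y.obj (AlgSp.Points.map f.hom x) := by
  obtain ⟨U0, a0, u0, he0, hx0, hd0⟩ := hx
  obtain ⟨V, pV, heV, hsV⟩ := Y.property.atlas
  have sqA := IsPullback.of_hasPullback f.hom pV
  have hA : AlgSp.IsAlgSpace (pullback f.hom pV) :=
    AlgSp.h5_isAlgSpace_of_isPullback Y.property.diag X.property (AlgSp.IsAlgSpace.yon_obj V) sqA
  obtain ⟨U, pA, heA, hsA⟩ := hA.atlas
  obtain ⟨h, hh⟩ := (AlgSp.yon S).map_surjective (pA ≫ pullback.snd f.hom pV)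
  have ha0e : AlgSp.RepWith @Etale (pullback.fst f.hom pV) :=
    MorphismProperty.of_isPullback (P := AlgSp.RepWith @Etale) sqA.flip heV
  have ha0s : AlgSp.RepWith @Surjective (pullback.fst f.hom pV) :=
    MorphismProperty.of_isPullback (P := AlgSp.RepWith @Surjective) sqA.flip hsV
  have hae : AlgSp.RepWith @Etale (pA ≫ pullback.fst f.hom pV) :=
    (AlgSp.RepWith @Etale).comp_mem _ _ heA ha0e
  have has : AlgSp.RepWith @Surjective (pA ≫ pullback.fst f.hom pV) :=
    (AlgSp.RepWith @Surjective).comp_mem _ _ hsA ha0s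
  have hcomm : (pA ≫ pullback.fst f.hom pV) ≫ f.hom = (AlgSp.yon S).map h ≫ pV := by
    rw [hh, Category.assoc, Category.assoc, pullback.condition]
  haveI hflat : Flat h.left := hf _ pV h hae heV hcomm
  obtain ⟨u, hu⟩ := AlgSp.h5_surjective_ofPt _ has x
  have hdu : ringKrullDim ↥(U.left.presheaf.stalk u) = 0 := by
    rw [← hd0]
    exact AlgSp.h5_ringKrullDim_stalk_chart_indep _ a0 hae he0 u u0 (hu.trans hx0.symm)
  refine ⟨V, pV, h.left u, heV, ?_, ?_⟩
  · rw [← hu, AlgSp.Points.map_ofPt, hcomm, AlgSp.h5_ofPt_map_comp]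
  · show ringKrullDim ↥(V.left.presheaf.stalk (h.left u)) = 0
    rw [AlgebraicGeometry.ringKrullDim_stalk_eq_coheight] at hdu ⊢
    have hcu : Order.coheight u = 0 := by exact_mod_cast hdu
    have hmax : IsMax u := Order.coheight_eq_zero.1 hcu
    have hmaxv : IsMax (h.left u) := by
      intro b hb
      have hb' : b ⤳ h.left u := hb
      obtain ⟨u', hu', rfl⟩ := Flat.generalizingMap h.left hb'
      have h1 : u' ≤ u := hmax hu'
      have h1' : u ⤳ u' := h1
      exact h1'.map h.left.continuous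
    have : Order.coheight (h.left u) = 0 := Order.coheight_eq_zero.2 hmaxv
    rw [this]
    rfl

end Groth.Agent.S10302
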