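import Groth.Statements.S10326
import Mathlib
import Groth.Agent.Lib.helper5.SchSrcDesc

set_option autoImplicit false
universe u
open CategoryTheory CategoryTheory.Limits AlgebraicGeometry
open AlgSp

namespace Groth.Agent.S10326

/-- Every scheme etale over a locally Noetherian algebraic space has quasi-compact opens with finitely
many irreducible components. -/
theorem result {S : Scheme.{u}} (X : AlgSp.Space S)
    (hX : AlgSp.IsLocNoethSp X.obj) (U : Over S) (a : (AlgSp.yon S).obj U ⟶ X.obj) (ha : AlgSp.RepWith @Etale a)
    (W : U.left.Opens) (hW : IsCompact (W : Set ↥U.left)) : (irreducibleComponents ↥W).Finite := by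
  obtain ⟨U₀, p, hpe, hps, hU₀⟩ := hX
  have sq := hpe.rep.isPullback a
  haveI e1 : Etale (hpe.rep.snd a).left := hpe.property_snd a
  haveI s1 : Surjective (hpe.rep.snd a).left := hps.property_snd a
  obtain ⟨k, hk⟩ := (AlgSp.yon S).map_surjective (hpe.rep.fst a)
  haveI hke : Etale k.left := by
    have h1 := MorphismProperty.of_isPullback (P := AlgSp.RepWith @Etale) sq.flip ha
    rw [← hk] at h1
    exact (AlgSp.repWith_yon_map_iff _ _).1 h1
  haveI : IsLocallyNoetherian U₀.left := hU₀
  haveI : IsLocallyNoetherian (hpe.rep.pullback a).left :=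
    LocallyOfFiniteType.isLocallyNoetherian k.left
  haveI : IsLocallyNoetherian U.left :=
    Groth.Agent.Lib.helper5.h5_isLocallyNoetherian_of_flat_surjective (hpe.rep.snd a).left
      (hpe.rep.snd a).left.isOpenMap
  haveI : IsLocallyNoetherian W.toScheme := isLocallyNoetherian_of_isOpenImmersion W.ι
  haveI : CompactSpace ↥W.toScheme := isCompact_iff_compactSpace.mp hW
  haveI : IsNoetherian W.toScheme := {}
  exact finite_irreducibleComponents_of_isNoetherian (X := W.toScheme)

end Groth.Agent.S10326
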