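import Groth.Statements.S10341
import Mathlib
import Groth.Agent.Lib.helper5.AlgSpDecent

set_option autoImplicit false
universe u
open CategoryTheory CategoryTheory.Limits AlgebraicGeometry Topology TopologicalSpace
open AlgSp

namespace Groth.Agent.S10341

/-- Let X be an algebraic space over a scheme S and x a point of |X| such that for every affine scheme V
and every representable etale h_V ⟶ X the fibre of |V| → |X| over x is finite. If a : h_U ⟶ X is
representable etale from a scheme U and u, u' are points of U over x with u' specializing to u, then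
u = u'. -/
theorem result {S : Scheme.{u}} (X : AlgSp.Space S) (x : AlgSp.Points X.obj)
    (hx : ∀ (V : Over S) (b : (AlgSp.yon S).obj V ⟶ X.obj), IsAffine V.left → AlgSp.RepWith @Etale b →
      (AlgSp.Points.ofPt b ⁻¹' {x}).Finite)
    {U : Over S} (a : (AlgSp.yon S).obj U ⟶ X.obj) (ha : AlgSp.RepWith @Etale a) (u u' : ↥U.left)
    (hu : AlgSp.Points.ofPt a u = x) (hu' : AlgSp.Points.ofPt a u' = x) (hs : u' ⤳ u) : u = u' := by
  have lqf : ∀ {A B : Scheme.{u}} (f : A ⟶ B) [Etale f], LocallyQuasiFinite f := by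
    intro A B f _
    rw [HasRingHomProperty.iff_appLE (P := @LocallyQuasiFinite)]
    intro U V e
    have h : RingHom.Etale (f.appLE U V e).hom := HasRingHomProperty.appLE @Etale f ‹_› U V e
    algebraize [(f.appLE U V e).hom]
    show Algebra.QuasiFinite _ _
    infer_instance
  -- reduce to an affine open neighbourhood of `u`
  obtain ⟨W, hW, huW, -⟩ := (U.left.isBasis_affineOpens).exists_subset_of_mem_open
    (Set.mem_univ u) isOpen_univ
  obtain ⟨W0, hW0, rfl⟩ := hW
  let W' : U.left.Opens := W0
  have hW' : IsAffineOpen W' := hW0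
  have hu'W : u' ∈ W' := hs.mem_open W'.isOpen huW
  let U' := AlgSp.h5_openOver U W'
  let a' := (AlgSp.yon S).map (AlgSp.h5_openOverι U W') ≫ a
  have ha' : AlgSp.RepWith @Etale a' :=
    AlgSp.h5_repWith_comp_yon_map _ _ (show Etale W'.ι from inferInstance) a ha
  have haff : IsAffine U'.left := hW'
  have hFfin := hx U' a' haff ha'
  have hofPt : ∀ w : ↥U'.left, AlgSp.Points.ofPt a' w = AlgSp.Points.ofPt a (W'.ι w) :=
    fun w => AlgSp.h5_ofPt_openOver W' a w
  -- the relation
  have sq := ha'.rep.isPullback' a'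
  have hes : Etale (ha'.rep.snd a').left := ha'.property_snd a'
  have het : Etale (ha'.rep.fst' a').left := ha'.property a' _ _ sq.flip
  have hlqf : LocallyQuasiFinite (ha'.rep.snd a').left := lqf _
  set s := ha'.rep.snd a' with hsdef
  set t := ha'.rep.fst' a' with htdef
  let F : Set ↥U'.left := AlgSp.Points.ofPt a' ⁻¹' {x}
  let B : Set ↥U'.left := {w' | w' ∈ F ∧ ∃ w ∈ F, w' ⤳ w ∧ w' ≠ w}
  have hB : B = ∅ := by
    apply _root_.h5_no_descent (fun a b : ↥U'.left => a ⤳ b) (fun a b c => Specializes.trans)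
      (fun a b hab hba => (hab.antisymm hba).eq) F hFfin B (fun w hw => hw.1)
    rintro w' ⟨hw'F, w, hwF, hspec, hne⟩
    -- a point of the relation from `w'` to `w`
    have hw'x : AlgSp.Points.ofPt a' w' = x := hw'F
    have hwx : AlgSp.Points.ofPt a' w = x := hwF
    obtain ⟨r, hr1, hr2⟩ := AlgSp.h5_exists_of_ofPt_eq sq w w' (hwx.trans hw'x.symm)
    -- t r = w, s r = w'
    obtain ⟨r', hr's, hr't⟩ := (Flat.generalizingMap t.left) (a := r) (b := w')
      (by rw [hr1]; exact hspec)
    have hsr' : s.left r' ⤳ w' := by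
      rw [← hr2]
      exact hr's.map s.left.continuous
    have hsr'F : s.left r' ∈ F := by
      show AlgSp.Points.ofPt a' (s.left r') = x
      rw [← AlgSp.h5_ofPt_map_comp, ← sq.w, AlgSp.h5_ofPt_map_comp, hr't, hw'x]
    have hsr'ne : s.left r' ≠ w' := by
      intro heq
      have hdisc := s.left.isDiscrete_preimage_singleton w'
      have hr'mem : r' ∈ s.left ⁻¹' {w'} := heq
      have hrmem : r ∈ s.left ⁻¹' {w'} := hr2
      have hspec' : (⟨r', hr'mem⟩ : ↥(s.left ⁻¹' {w'})) ⤳ ⟨r, hrmem⟩ :=
        Topology.IsInducing.subtypeVal.specializes_iff.1 hr's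
      have hdt : DiscreteTopology ↥(s.left ⁻¹' {w'}) := hdisc.to_subtype
      have := (specializes_iff_eq.1 hspec')
      have hrr' : r' = r := congrArg Subtype.val this
      apply hne
      rw [← hr't, hrr', hr1]
    exact ⟨s.left r', ⟨hsr'F, w', hw'F, hsr', hsr'ne⟩, hsr', hsr'ne⟩
  -- conclude
  by_contra hne
  have hmem : (⟨u', hu'W⟩ : ↥U'.left) ∈ B := by
    refine ⟨?_, ⟨u, huW⟩, ?_, ?_, ?_⟩
    · show AlgSp.Points.ofPt a' _ = x
      rw [hofPt]
      exact hu'
    · show AlgSp.Points.ofPt a' _ = x
      rw [hofPt]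
      exact hu
    · exact Topology.IsInducing.subtypeVal.specializes_iff.1 hs
    · intro h
      exact hne (congrArg Subtype.val h).symm
  rw [hB] at hmem
  exact hmem

end Groth.Agent.S10341
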