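import Groth.Statements.S10340
import Mathlib
import Groth.Agent.S10341
import Groth.Agent.Lib.helper5.AlgSpPts
import Groth.Agent.Lib.helper5.SchSrcDesc5

set_option autoImplicit false
universe u
open CategoryTheory CategoryTheory.Limits AlgebraicGeometry Topology TopologicalSpace
open AlgSp

namespace Groth.Agent.S10340

/-- Let S be a scheme, X a decent algebraic space over S, and a : h_U ⟶ X a representable etale map from
a scheme U. If two points u, u' of U have the same image in |X| and u' specializes to u, then u =
u'. -/
theorem result {S : Scheme.{u}} (X : AlgSp.Space S) (hX : AlgSp.IsDecent X.obj)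
    {U : Over S} (a : (AlgSp.yon S).obj U ⟶ X.obj) (ha : AlgSp.RepWith @Etale a) (u u' : ↥U.left)
    (he : AlgSp.Points.ofPt a u = AlgSp.Points.ofPt a u') (hs : u' ⤳ u) : u = u' := by
  refine Groth.Agent.S10341.result X (AlgSp.Points.ofPt a u) ?_ a ha u u' rfl he.symm hs
  intro V b hV hb
  obtain ⟨p, hp, hm, hq⟩ := hX (AlgSp.Points.ofPt a u)
  haveI : Subsingleton ↥p.pt.left := inferInstanceAs (Subsingleton (PrimeSpectrum p.K))
  haveI : Nonempty ↥p.pt.left := inferInstanceAs (Nonempty (PrimeSpectrum p.K))
  have sq := hq.rep.isPullback b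
  obtain ⟨fst0, hfst0⟩ := (AlgSp.yon S).map_surjective (hq.rep.fst b)
  rw [← hfst0] at sq
  haveI hqc : QuasiCompact (hq.rep.snd b).left := hq.property_snd b
  haveI het : Etale fst0.left := by
    have := MorphismProperty.of_isPullback (P := AlgSp.RepWith @Etale) sq.flip hb
    exact (AlgSp.repWith_yon_map_iff _ _).1 this
  haveI : IsAffine V.left := hV
  haveI : CompactSpace ↥(hq.rep.pullback b).left :=
    QuasiCompact.compactSpace_of_compactSpace (hq.rep.snd b).left
  haveI : Finite ↥(hq.rep.pullback b).left := by
    haveI := Groth.Agent.Lib.helper5.h5_lqf_of_etale fst0.left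
    have y : ↥p.pt.left := Classical.arbitrary _
    have hd := fst0.left.isDiscrete_preimage_singleton y
    have hu : (fst0.left ⁻¹' {y} : Set ↥(hq.rep.pullback b).left) = Set.univ := by
      ext z
      simp only [Set.mem_preimage, Set.mem_singleton_iff, Set.mem_univ, iff_true]
      exact Subsingleton.elim _ _
    rw [hu] at hd
    haveI : DiscreteTopology ↥(hq.rep.pullback b).left := isDiscrete_univ_iff.mp hd
    exact finite_of_compact_of_discrete
  have hpre : AlgSp.Points.ofPt b ⁻¹' {AlgSp.Points.ofPt a u} =
      Set.range (hq.rep.snd b).left := by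
    have h1 := AlgSp.h5_preimage_image_ofPt sq Set.univ
    rw [Set.preimage_univ, Set.image_univ, Set.image_univ] at h1
    rw [← h1]
    congr 1
    ext x
    simp only [Set.mem_singleton_iff, Set.mem_range]
    constructor
    · rintro rfl
      exact ⟨(Classical.arbitrary ↥p.pt.left), (AlgSp.Points.ofPt_toHom p _).trans hp⟩
    · rintro ⟨s, rfl⟩
      exact (AlgSp.Points.ofPt_toHom p s).trans hp
  rw [hpre]
  exact Set.finite_range _

end Groth.Agent.S10340
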