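import Groth.Statements.S10338
import Mathlib
import Groth.Agent.S10340
import Groth.Agent.Lib.helper5.AlgSpDecFin

set_option autoImplicit false
universe u
open CategoryTheory CategoryTheory.Limits AlgebraicGeometry Topology TopologicalSpace
open AlgSp

namespace Groth.Agent.S10338

/-- For a decent algebraic space X over a scheme S the topological space |X| is Kolmogorov (T0). -/
theorem result {S : Scheme.{u}} (X : AlgSp.Space S) (hX : AlgSp.IsDecent X.obj) :
    T0Space (AlgSp.Points X.obj) := by
  rw [t0Space_iff_inseparable]
  intro x x' hxx'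
  obtain ⟨U, a, hae, has⟩ := X.property.atlas
  obtain ⟨u, rfl⟩ := AlgSp.h5_surjective_ofPt a has x
  obtain ⟨u', hu', hs1⟩ := AlgSp.h5_exists_specializes_of_mem_closure hX a hae x' u
    (specializes_iff_mem_closure.mp hxx'.specializes')
  subst hu'
  obtain ⟨u'', hu'', hs2⟩ := AlgSp.h5_exists_specializes_of_mem_closure hX a hae
    (AlgSp.Points.ofPt a u) u' (specializes_iff_mem_closure.mp hxx'.specializes)
  have e : u = u'' := Groth.Agent.S10340.result X hX a hae u u'' hu''.symm (hs2.trans hs1)
  subst e
  have : u = u' := (hs2.antisymm hs1).eq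
  rw [this]

end Groth.Agent.S10338
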