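import Groth.Statements.S10343
import Mathlib
import Groth.Agent.Lib.helper5.AlgSpDecent
import Groth.Agent.Lib.helper5.QcClosure

set_option autoImplicit false
universe u
open CategoryTheory CategoryTheory.Limits AlgebraicGeometry Topology TopologicalSpace
open AlgSp

namespace Groth.Agent.S10343

/-- Let X be an algebraic space over a scheme S and x' ⤳ x a specialization in |X|, where x' is
represented by a monomorphism Spec k ⟶ X which is representable quasi-compact. Then for every
representable etale a : h_U ⟶ X from a scheme U and every point u of U over x there is a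
generization u' of u in U mapping to x'. -/
theorem result {S : Scheme.{u}} (X : AlgSp.Space S) (x x' : AlgSp.Points X.obj)
    (h : x' ⤳ x)
    (hx' : ∃ p : AlgSp.FieldPt X.obj, AlgSp.Points.mk p = x' ∧ Mono p.toHom ∧ AlgSp.RepWith @QuasiCompact p.toHom)
    {U : Over S} (a : (AlgSp.yon S).obj U ⟶ X.obj) (ha : AlgSp.RepWith @Etale a) (u : ↥U.left)
    (hu : AlgSp.Points.ofPt a u = x) :
    ∃ u' : ↥U.left, u' ⤳ u ∧ AlgSp.Points.ofPt a u' = x' := by
  obtain ⟨p, hp, -, hq⟩ := hx'
  have sq := hq.rep.isPullback a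
  have hqc : QuasiCompact (hq.rep.snd a).left := hq.property_snd a
  -- points of `U` over `x'` are the image of the fibre
  have hrange : ∀ u'' : ↥U.left, AlgSp.Points.ofPt a u'' = x' →
      u'' ∈ Set.range (hq.rep.snd a).left := by
    intro u'' hu''
    have e : AlgSp.Points.map p.toHom
        (AlgSp.Points.ofScheme p.pt (IsLocalRing.closedPoint p.K)) = AlgSp.Points.ofPt a u'' := by
      rw [← AlgSp.Points.ofPt_eq_map_ofScheme, AlgSp.Points.ofPt_toHom, hp, hu'']
    obtain ⟨v, -, hv⟩ := AlgSp.h5_exists_of_map_eq_ofPt sq _ u'' e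
    exact ⟨v, hv⟩
  have hmem : ∀ v : ↥(hq.rep.pullback a).left,
      AlgSp.Points.ofPt a ((hq.rep.snd a).left v) = x' := by
    intro v
    rw [← AlgSp.h5_ofPt_of_comm sq.w v]
    obtain ⟨s, hs⟩ := (AlgSp.Points.schemeHomeo p.pt).surjective (AlgSp.Points.ofPt (hq.rep.fst a) v)
    rw [← hs]
    show AlgSp.Points.map p.toHom (AlgSp.Points.ofScheme p.pt s) = x'
    rw [← AlgSp.Points.ofPt_eq_map_ofScheme, AlgSp.Points.ofPt_toHom, hp]
  have hcl : u ∈ closure (Set.range (hq.rep.snd a).left) := by
    rw [mem_closure_iff]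
    intro N hN huN
    have hopen := AlgSp.h5_isOpenMap_ofPt_of_etale a ha N hN
    have hxmem : x ∈ AlgSp.Points.ofPt a '' N := ⟨u, huN, hu⟩
    have hx'mem : x' ∈ AlgSp.Points.ofPt a '' N := h.mem_open hopen hxmem
    obtain ⟨u'', hu''N, hu''⟩ := hx'mem
    exact ⟨u'', hu''N, hrange u'' hu''⟩
  obtain ⟨v, hv⟩ := Groth.Agent.Lib.helper5.h5_exists_specializes_of_mem_closure_range (hq.rep.snd a).left u hcl
  exact ⟨(hq.rep.snd a).left v, hv, hmem v⟩

end Groth.Agent.S10343
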