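import Groth.Statements.S10344
import Mathlib
import Groth.Agent.Lib.helper5.AlgSpDecent
import Groth.Agent.S10343

set_option autoImplicit false
universe u
open CategoryTheory CategoryTheory.Limits AlgebraicGeometry Topology TopologicalSpace
open AlgSp

namespace Groth.Agent.S10344

/-- Let S be a scheme, Y and X algebraic spaces over S, and f : Y ⟶ X a flat morphism, and let x' ⤳ x be
a specialization in |X|, where x' is represented by a monomorphism Spec k ⟶ X which is representable
quasi-compact (for instance X decent). Then generalizations lift along f at x: every y ∈ |Y| over x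
has a generization y' over x'. -/
theorem result {S : Scheme.{u}} {X Y : AlgSp.Space S} (f : Y ⟶ X)
    (hf : AlgSp.LocP @Flat f.hom) (x x' : AlgSp.Points X.obj) (h : x' ⤳ x)
    (hx' : ∃ p : AlgSp.FieldPt X.obj, AlgSp.Points.mk p = x' ∧ Mono p.toHom ∧ AlgSp.RepWith @QuasiCompact p.toHom)
    (y : AlgSp.Points Y.obj) (hy : AlgSp.Points.map f.hom y = x) :
    ∃ y' : AlgSp.Points Y.obj, y' ⤳ y ∧ AlgSp.Points.map f.hom y' = x' := by
  obtain ⟨U, a, hae, has⟩ := X.property.atlas
  obtain ⟨u, hu⟩ := AlgSp.h5_surjective_ofPt a has x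
  -- the fibre product and its atlas
  have sqP : IsPullback (pullback.fst f.hom a) (pullback.snd f.hom a) f.hom a :=
    IsPullback.of_hasPullback _ _
  have hP : AlgSp.IsAlgSpace (pullback f.hom a) :=
    AlgSp.h5_isAlgSpace_of_isPullback X.property.diag Y.property (AlgSp.IsAlgSpace.yon_obj U) sqP
  obtain ⟨V, b, hbe, hbs⟩ := hP.atlas
  obtain ⟨hh, hhh⟩ := (AlgSp.yon S).map_surjective (b ≫ pullback.snd f.hom a)
  have hpr1 : AlgSp.RepWith @Etale (pullback.fst f.hom a) :=
    MorphismProperty.of_isPullback (P := AlgSp.RepWith @Etale) sqP.flip hae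
  have ha' : AlgSp.RepWith @Etale (b ≫ pullback.fst f.hom a) :=
    (AlgSp.RepWith (S := S) @Etale).comp_mem _ _ hbe hpr1
  have hcomm : (b ≫ pullback.fst f.hom a) ≫ f.hom = (AlgSp.yon S).map hh ≫ a := by
    rw [Category.assoc, sqP.w, ← Category.assoc, hhh]
  have hflat : Flat hh.left := hf (b ≫ pullback.fst f.hom a) a hh ha' hae hcomm
  -- lift the point
  obtain ⟨pt, hpt1, hpt2⟩ := AlgSp.h5_points_exists_of_isPullback sqP y
    (AlgSp.Points.ofScheme U u) (by rw [hy, ← AlgSp.Points.ofPt_eq_map_ofScheme, hu])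
  obtain ⟨v, hv⟩ := AlgSp.h5_surjective_ofPt b hbs pt
  have hhv : hh.left v = u := by
    apply (AlgSp.Points.schemeEquiv U).injective
    show AlgSp.Points.ofScheme U (hh.left v) = AlgSp.Points.ofScheme U u
    rw [← hpt2, ← hv, AlgSp.Points.map_ofPt, ← hhh, ← Category.comp_id ((AlgSp.yon S).map hh),
      AlgSp.h5_ofPt_map_comp]
  obtain ⟨u', hu's, hu'x⟩ := Groth.Agent.S10343.result X x x' h hx' a hae u hu
  obtain ⟨v', hv's, hv'u⟩ := (Flat.generalizingMap hh.left) (a := v) (b := u') (by rw [hhv]; exact hu's)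
  refine ⟨AlgSp.Points.ofPt (b ≫ pullback.fst f.hom a) v', ?_, ?_⟩
  · have hyv : y = AlgSp.Points.ofPt (b ≫ pullback.fst f.hom a) v := by
      rw [← AlgSp.Points.map_ofPt, hv, hpt1]
    rw [hyv]
    exact hv's.map (AlgSp.Points.continuous_ofPt _)
  · rw [AlgSp.Points.map_ofPt, hcomm, AlgSp.h5_ofPt_map_comp, hv'u, hu'x]

end Groth.Agent.S10344
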