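import Groth.Statements.S9929
import Mathlib
import Groth.Agent.Lib.helper5.AlgSpLob

set_option autoImplicit false
universe u
open CategoryTheory CategoryTheory.Limits AlgebraicGeometry
open AlgSp

namespace Groth.Agent.S9929

/-- A monomorphism from an algebraic space to the spectrum of a field is either the empty space or an
isomorphism. -/
theorem result {S : Scheme.{u}} {k : Type u} [Field k] (str : Spec (CommRingCat.of k) ⟶ S)
    (Z : AlgSp.Space S) (f : Z ⟶ (AlgSp.ofScheme S).obj (Over.mk str)) [Mono f.hom] :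
    IsEmpty (AlgSp.Points Z.obj) ∨ IsIso f := by
  by_cases hne : IsEmpty (AlgSp.Points Z.obj)
  · exact Or.inl hne
  right
  rw [not_isEmpty_iff] at hne
  obtain ⟨z⟩ := hne
  obtain ⟨U, p, hpe, hps⟩ := Z.property.atlas
  obtain ⟨u, hu⟩ := AlgSp.h5_surjective_ofPt p hps z
  obtain ⟨u0, hu0⟩ := (AlgSp.yon S).map_surjective (p ≫ f.hom)
  have sq := hpe.rep.isPullback p
  obtain ⟨r1, hr1⟩ := (AlgSp.yon S).map_surjective (hpe.rep.fst p)
  have hr2 : Etale (hpe.rep.snd p).left := hpe.property_snd p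
  rw [← hr1] at sq
  have sq' : IsPullback ((AlgSp.yon S).map r1) ((AlgSp.yon S).map (hpe.rep.snd p))
      ((AlgSp.yon S).map u0) ((AlgSp.yon S).map u0) := by
    rw [hu0]; exact AlgSp.h5_isPullback_comp_mono f.hom sq
  have sqO : IsPullback r1 (hpe.rep.snd p) u0 u0 := by
    refine IsPullback.of_map (AlgSp.yon S) ?_ sq'
    apply (AlgSp.yon S).map_injective
    rw [(AlgSp.yon S).map_comp, (AlgSp.yon S).map_comp]
    exact sq'.w
  have sqS := sqO.map (Over.forget S)
  obtain ⟨U0, hU0, huU0⟩ : ∃ V : U.left.Opens, IsAffineOpen V ∧ u ∈ V := by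
    obtain ⟨_, ⟨V, hV, rfl⟩, huV, -⟩ := U.left.isBasis_affineOpens.exists_subset_of_mem_open
      (Set.mem_univ u) isOpen_univ
    exact ⟨V, hV, huV⟩
  haveI : IsAffine U0.toScheme := hU0
  have big := (IsPullback.of_hasPullback (hpe.rep.snd p).left U0.ι).paste_horiz sqS
  haveI hss : Subsingleton ↥(Spec (CommRingCat.of k)) :=
    inferInstanceAs (Subsingleton (PrimeSpectrum k))
  let c : U0.toScheme ⟶ Spec (CommRingCat.of k) := U0.ι ≫ u0.left
  have hflat : Flat c := inferInstance
  have hsurj : Surjective c :=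
    ⟨fun x => ⟨⟨u, huU0⟩, Subsingleton.elim _ _⟩⟩
  have hqc : QuasiCompact c := inferInstance
  have het : Etale u0.left :=
    MorphismProperty.of_isPullback_of_descendsAlong (P := @Etale) (Q := AlgSp.h5Fpqc.{u})
      big.flip ⟨⟨hsurj, hflat⟩, hqc⟩
      (inferInstanceAs (Etale (pullback.snd (hpe.rep.snd p).left U0.ι)))
  have hsj : Surjective u0.left :=
    ⟨fun x => ⟨u, @Subsingleton.elim ↥(Spec (CommRingCat.of k)) hss _ _⟩⟩
  have hls : Sheaf.IsLocallySurjective ((AlgSp.yon S).map u0) :=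
    AlgSp.h5_isLocallySurjective_of_etale_surjective _
      ((AlgSp.repWith_yon_map_iff _ _).2 het) ((AlgSp.repWith_yon_map_iff _ _).2 hsj)
  have hepi0 : Epi ((AlgSp.yon S).map u0) := (Sheaf.isLocallySurjective_iff_epi _).1 hls
  rw [hu0] at hepi0
  have hepi : Epi (p ≫ f.hom) := hepi0
  have hepi' : Epi f.hom := epi_of_epi p f.hom
  have hiso : IsIso f.hom := isIso_of_mono_of_epi f.hom
  exact ⟨⟨ObjectProperty.homMk (inv f.hom), by ext; simp, by ext; simp⟩⟩

end Groth.Agent.S9929
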