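import Groth.Statements.S10362
import Mathlib
import Groth.Agent.Lib.helper5.AlgSpLob
import Groth.Agent.S9929

set_option autoImplicit false
universe u
open CategoryTheory CategoryTheory.Limits AlgebraicGeometry Topology TopologicalSpace
open AlgSp

namespace Groth.Agent.S10362

/-- (4) ⇒ (6): let X be an algebraic space over a scheme S and x ∈ |X| a point represented by a
monomorphism Spec k ⟶ X which is representable quasi-compact. Then every morphism Spec k' ⟶ X in the
class of x, where k' is a field, is representable quasi-compact. -/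
theorem result {S : Scheme.{u}} (X : AlgSp.Space S)
    (p q : AlgSp.FieldPt X.obj) (hm : Mono p.toHom) (hp : AlgSp.RepWith @QuasiCompact p.toHom)
    (h : AlgSp.Points.mk q = AlgSp.Points.mk p) : AlgSp.RepWith @QuasiCompact q.toHom := by
  let P : AlgSp.Space S := ⟨pullback q.toHom p.toHom,
    AlgSp.h5_isAlgSpace_of_isPullback X.property.diag (AlgSp.IsAlgSpace.yon_obj _)
      (AlgSp.IsAlgSpace.yon_obj _) (IsPullback.of_hasPullback q.toHom p.toHom)⟩
  let g : P ⟶ (AlgSp.ofScheme S).obj (Over.mk q.str) :=
    ObjectProperty.homMk (pullback.fst q.toHom p.toHom)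
  haveI : Mono g.hom := (inferInstance : Mono (pullback.fst q.toHom p.toHom))
  have hpt : AlgSp.Points.map q.toHom (AlgSp.Points.ofScheme _ (IsLocalRing.closedPoint q.K)) =
      AlgSp.Points.map p.toHom (AlgSp.Points.ofScheme _ (IsLocalRing.closedPoint p.K)) := by
    rw [← AlgSp.Points.ofPt_eq_map_ofScheme, ← AlgSp.Points.ofPt_eq_map_ofScheme,
      AlgSp.Points.ofPt_toHom, AlgSp.Points.ofPt_toHom, h]
  obtain ⟨z, -, -⟩ := AlgSp.h5_points_exists_of_isPullback
    (IsPullback.of_hasPullback q.toHom p.toHom) _ _ hpt
  rcases Groth.Agent.S9929.result q.str P g with hemp | hiso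
  · exact (hemp.false z).elim
  · have hiso' : IsIso (pullback.fst q.toHom p.toHom) :=
      Functor.map_isIso (ObjectProperty.ι (AlgSp.IsAlgSpace (S := S))) g
    have e : q.toHom = (inv (pullback.fst q.toHom p.toHom) ≫ pullback.snd q.toHom p.toHom) ≫
        p.toHom := by
      rw [Category.assoc, ← pullback.condition, IsIso.inv_hom_id_assoc]
    rw [e]
    refine (AlgSp.RepWith (S := S) @QuasiCompact).comp_mem _ _ ?_ hp
    obtain ⟨c, hc⟩ := (AlgSp.yon S).map_surjective
      (inv (pullback.fst q.toHom p.toHom) ≫ pullback.snd q.toHom p.toHom)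
    rw [← hc, AlgSp.repWith_yon_map_iff]
    have : IsAffineHom c.left := by
      have : IsAffine (Over.mk q.str).left := inferInstanceAs (IsAffine (Spec _))
      have : IsAffine (Over.mk p.str).left := inferInstanceAs (IsAffine (Spec _))
      infer_instance
    infer_instance

end Groth.Agent.S10362
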