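import Groth.Statements.S10367
import Mathlib
import Groth.Agent.Lib.helper5.AlgSpFieldPt

set_option autoImplicit false
universe u
open CategoryTheory CategoryTheory.Limits AlgebraicGeometry Topology TopologicalSpace
open AlgSp

namespace Groth.Agent.S10367

/-- (2) ⇒ (3): if an algebraic space Z over a scheme S admits a surjective flat morphism Spec k ⟶ Z with
k a field, then it also admits such a morphism which is moreover locally of finite type. -/
theorem result {S : Scheme.{u}} (Z : AlgSp.Space S)
    (k : Type u) [Field k] (str : Spec (CommRingCat.of k) ⟶ S) (p : (AlgSp.yon S).obj (Over.mk str) ⟶ Z.obj)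
    (hpf : AlgSp.LocP @Flat p) (hps : AlgSp.IsSurjectiveMor p) :
    ∃ (k' : Type u) (_ : Field k') (str' : Spec (CommRingCat.of k') ⟶ S) (q : (AlgSp.yon S).obj (Over.mk str') ⟶ Z.obj),
      AlgSp.LocP @LocallyOfFiniteType q ∧ AlgSp.LocP @Flat q ∧ AlgSp.IsSurjectiveMor q := by
  haveI := AlgSp.h5_subsingleton_points_of_field_cover k str p hps
  obtain ⟨V, b, hbe, hbs⟩ := Z.property.atlas
  obtain ⟨x⟩ := AlgSp.h5_nonempty_points_field k str
  obtain ⟨v, hv⟩ := AlgSp.h5_surjective_ofPt b hbs (AlgSp.Points.map p x)
  have hfield := fun v' => AlgSp.h5_isField_stalk_of_field_cover k str p hpf hps b hbe v'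
  haveI : T1Space V.left := Groth.Agent.Lib.helper5.h5_t1Space_of_isField_stalk V.left hfield
  have hcl : IsClosed ({v} : Set V.left) := isClosed_singleton
  haveI : IsClosedImmersion (V.left.fromSpecResidueField v) :=
    isClosed_singleton_iff_isClosedImmersion.mp hcl
  refine ⟨V.left.residueField v, inferInstance, V.left.fromSpecResidueField v ≫ V.hom,
    (AlgSp.yon S).map (AlgSp.h5_resOverι V v) ≫ b, ?_, ?_, ?_⟩
  · exact AlgSp.h5_locP_of_target_chart (P := @LocallyOfFiniteType)
      (fun f hf => inferInstance) b _ hbe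
      (inferInstanceAs (LocallyOfFiniteType (V.left.fromSpecResidueField v)))
  · exact AlgSp.h5_locP_flat_of_field_cover k str p hpf hps _
  · exact AlgSp.h5_isSurjectiveMor_of_subsingleton _ (AlgSp.h5_nonempty_points_field _ _)

end Groth.Agent.S10367
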