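import Groth.Statements.S10368
import Mathlib
import Groth.Agent.Lib.helper5.AlgSpFieldPt2

set_option autoImplicit false
universe u
open CategoryTheory CategoryTheory.Limits AlgebraicGeometry Topology TopologicalSpace
open AlgSp

namespace Groth.Agent.S10368

/-- An algebraic space Z over a scheme S is reduced, locally Noetherian and has |Z| a single point if
and only if there is a locally finitely presented, flat, surjective morphism Spec k ⟶ Z from the
spectrum of a field. -/
theorem result {S : Scheme.{u}} (Z : AlgSp.Space S) :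
    (AlgSp.EtaleLocally (fun U => IsReduced U) Z.obj ∧ AlgSp.IsLocNoethSp Z.obj ∧ Nonempty (AlgSp.Points Z.obj) ∧ Subsingleton (AlgSp.Points Z.obj)) ↔
      ∃ (k : Type u) (_ : Field k) (str : Spec (CommRingCat.of k) ⟶ S) (p : (AlgSp.yon S).obj (Over.mk str) ⟶ Z.obj),
        AlgSp.LocP @LocallyOfFinitePresentation p ∧ AlgSp.LocP @Flat p ∧ AlgSp.IsSurjectiveMor p := by
  constructor
  · rintro ⟨hred, hnoeth, hne, hsub⟩
    haveI := hsub
    obtain ⟨k, _, str, p, hpf, hps⟩ := AlgSp.h5_exists_field_cover_of_reduced hred hne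
    obtain ⟨V, b, hbe, hbs, hV⟩ := hnoeth
    haveI : IsLocallyNoetherian V.left := hV
    obtain ⟨x⟩ := AlgSp.h5_nonempty_points_field k str
    obtain ⟨v, hv⟩ := AlgSp.h5_surjective_ofPt b hbs (AlgSp.Points.map p x)
    have hfield := fun v' => AlgSp.h5_isField_stalk_of_field_cover k str p hpf hps b hbe v'
    haveI : T1Space V.left := Groth.Agent.Lib.helper5.h5_t1Space_of_isField_stalk V.left hfield
    have hcl : IsClosed ({v} : Set V.left) := isClosed_singleton
    haveI : IsClosedImmersion (V.left.fromSpecResidueField v) :=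
      isClosed_singleton_iff_isClosedImmersion.mp hcl
    refine ⟨V.left.residueField v, inferInstance, V.left.fromSpecResidueField v ≫ V.hom,
      (AlgSp.yon S).map (AlgSp.h5_resOverι V v) ≫ b, ?_, ?_, ?_⟩
    · exact AlgSp.h5_locP_of_target_chart (P := @LocallyOfFinitePresentation)
        (fun f hf => inferInstance) b _ hbe
        (inferInstanceAs (LocallyOfFinitePresentation (V.left.fromSpecResidueField v)))
    · exact AlgSp.h5_locP_flat_of_field_cover k str p hpf hps _
    · exact AlgSp.h5_isSurjectiveMor_of_subsingleton _ (AlgSp.h5_nonempty_points_field _ _)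
  · rintro ⟨k, _, str, p, hpp, hpf, hps⟩
    obtain ⟨hred, hne, hsub⟩ := AlgSp.h5_reduced_of_field_cover Z.property k str p hpf hps
    refine ⟨hred, ?_, hne, hsub⟩
    obtain ⟨V, b, hbe, hbs⟩ := Z.property.atlas
    refine ⟨V, b, hbe, hbs, ?_⟩
    obtain ⟨W, a, b', ha, sq, -⟩ := AlgSp.h5_chart_square p b hbe
    haveI hfl : Flat b'.left :=
      hpf ((AlgSp.yon S).map a) b b' ((AlgSp.repWith_yon_map_iff _ _).2 ha) hbe sq.w.symm
    haveI hfp : LocallyOfFinitePresentation b'.left :=
      hpp ((AlgSp.yon S).map a) b b' ((AlgSp.repWith_yon_map_iff _ _).2 ha) hbe sq.w.symm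
    have sq' : IsPullback ((AlgSp.yon S).map b') ((AlgSp.yon S).map a) b (𝟙 _ ≫ p) := by
      rw [Category.id_comp]; exact sq
    haveI hsurj : Surjective b'.left :=
      AlgSp.h5_chart_square_surjective p hps (𝟙 _) (AlgSp.repWith_id _ _) b sq'
    haveI : Etale a.left := ha
    haveI : IsLocallyNoetherian (Spec (CommRingCat.of k)) := inferInstance
    haveI : IsLocallyNoetherian W.left :=
      LocallyOfFiniteType.isLocallyNoetherian (Y := Spec (CommRingCat.of k)) a.left
    exact Groth.Agent.Lib.helper5.h5_isLocallyNoetherian_of_flat_surjective b'.left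
      (b'.left.isOpenMap)

end Groth.Agent.S10368
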