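import Groth.Statements.S10369
import Mathlib
import Groth.Agent.Lib.helper5.AlgSpLob
import Groth.Agent.S9929

set_option autoImplicit false
universe u
open CategoryTheory CategoryTheory.Limits AlgebraicGeometry Topology TopologicalSpace
open AlgSp

namespace Groth.Agent.S10369

/-- Let S be a scheme, Z' and Z algebraic spaces over S, and Z' ⟶ Z a monomorphism, and suppose there is
a locally finitely presented, flat, surjective morphism Spec k ⟶ Z from the spectrum of a field.
Then Z' is empty or Z' ⟶ Z is an isomorphism. -/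
theorem result {S : Scheme.{u}} {Z' Z : AlgSp.Space S} (f : Z' ⟶ Z)
    [Mono f.hom]
    (hZ : ∃ (k : Type u) (_ : Field k) (str : Spec (CommRingCat.of k) ⟶ S) (p : (AlgSp.yon S).obj (Over.mk str) ⟶ Z.obj),
        AlgSp.LocP @LocallyOfFinitePresentation p ∧ AlgSp.LocP @Flat p ∧ AlgSp.IsSurjectiveMor p) :
    IsEmpty (AlgSp.Points Z'.obj) ∨ IsIso f := by
  obtain ⟨k, hk, str, p, hlfp, hflat, hsurj⟩ := hZ
  let P : AlgSp.Space S := ⟨pullback f.hom p,
    AlgSp.h5_isAlgSpace_of_isPullback Z.property.diag Z'.property (AlgSp.IsAlgSpace.yon_obj _)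
      (IsPullback.of_hasPullback f.hom p)⟩
  let g : P ⟶ (AlgSp.ofScheme S).obj (Over.mk str) := ObjectProperty.homMk (pullback.snd f.hom p)
  haveI : Mono g.hom := (inferInstance : Mono (pullback.snd f.hom p))
  rcases Groth.Agent.S9929.result str P g with hemp | hiso
  · left
    have hs : Function.Surjective (AlgSp.Points.map (pullback.fst f.hom p)) :=
      AlgSp.h5_surjective_of_isPullback (IsPullback.of_hasPullback f.hom p).flip hsurj
    exact ⟨fun x => by obtain ⟨y, _⟩ := hs x; exact hemp.false y⟩
  · right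
    have hiso' : IsIso (pullback.snd f.hom p) :=
      Functor.map_isIso (ObjectProperty.ι (AlgSp.IsAlgSpace (S := S))) g
    -- p is an epimorphism of sheaves
    have hepi_p : Epi p := by
      obtain ⟨V, b, hbe, hbs⟩ := Z.property.atlas
      have hp_rep : AlgSp.Representable p := Z.property.representable_from_yon p
      have sq := hp_rep.isPullback b
      obtain ⟨a, ha⟩ := (AlgSp.yon S).map_surjective (hp_rep.fst b)
      rw [← ha] at sq
      have hae : Etale a.left := hbe.property p _ a sq.flip
      have hae' : AlgSp.RepWith @Etale ((AlgSp.yon S).map a) := (AlgSp.repWith_yon_map_iff _ _).2 hae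
      have h1 : Flat (hp_rep.snd b).left := hflat _ b _ hae' hbe sq.w
      have h2 : LocallyOfFinitePresentation (hp_rep.snd b).left := hlfp _ b _ hae' hbe sq.w
      have h3 : AlgSp.RepWith @Surjective ((AlgSp.yon S).map (hp_rep.snd b)) :=
        (AlgSp.h5_repWith_surjective_iff _ (AlgSp.representable_yon_map _)).2
          (AlgSp.h5_surjective_of_isPullback sq hsurj)
      have hls := AlgSp.h5_isLocallySurjective_of_repWith ((AlgSp.yon S).map (hp_rep.snd b))
        ((AlgSp.repWith_yon_map_iff _ _).2 h1) ((AlgSp.repWith_yon_map_iff _ _).2 h2) h3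
      have e1 : Epi ((AlgSp.yon S).map (hp_rep.snd b)) := (Sheaf.isLocallySurjective_iff_epi _).1 hls
      have e2 : Epi b := AlgSp.h5_epi_of_repWith_etale_surjective b hbe hbs
      have e3 : Epi ((AlgSp.yon S).map a ≫ p) := by
        rw [sq.w]; exact epi_comp _ _
      exact epi_of_epi ((AlgSp.yon S).map a) p
    have hfac : (inv (pullback.snd f.hom p) ≫ pullback.fst f.hom p) ≫ f.hom = p := by
      rw [Category.assoc, pullback.condition, IsIso.inv_hom_id_assoc]
    have hepi : Epi ((inv (pullback.snd f.hom p) ≫ pullback.fst f.hom p) ≫ f.hom) := by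
      rw [hfac]; exact hepi_p
    have hepi' : Epi f.hom :=
      @epi_of_epi _ _ _ _ _ (inv (pullback.snd f.hom p) ≫ pullback.fst f.hom p) f.hom hepi
    have hiso2 : IsIso f.hom := isIso_of_mono_of_epi f.hom
    exact ⟨⟨ObjectProperty.homMk (inv f.hom), by ext; simp, by ext; simp⟩⟩

end Groth.Agent.S10369
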