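import Groth.Statements.S10401
import Mathlib
import Groth.Agent.Lib.helper5.AlgSpChartSq

set_option autoImplicit false
universe u
open CategoryTheory CategoryTheory.Limits AlgebraicGeometry Topology TopologicalSpace
open AlgSp

namespace Groth.Agent.S10401

/-- If Y is a Jacobson algebraic space and X is an algebraic space that is locally of finite type over
Y, then X is Jacobson. -/
theorem result {S : Scheme.{u}} {X Y : AlgSp.Space S} (hX : AlgSp.EtaleLocally (fun U => JacobsonSpace ↥U) X.obj)
    (f : Y ⟶ X) (hf : AlgSp.LocP @LocallyOfFiniteType f.hom) : AlgSp.EtaleLocally (fun U => JacobsonSpace ↥U) Y.obj := by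
  obtain ⟨U, p, hpe, hps, hU⟩ := hX
  obtain ⟨V, q, hqe, hqs⟩ := Y.property.atlas
  obtain ⟨W, a, b, hae, sq, has⟩ := AlgSp.h5_chart_square (q ≫ f.hom) p hpe
  have has' := has hps
  have hchart : AlgSp.RepWith @Etale ((AlgSp.yon S).map a ≫ q) :=
    (AlgSp.RepWith @Etale).comp_mem _ _ ((AlgSp.repWith_yon_map_iff _ _).2 hae) hqe
  have hchart' : AlgSp.RepWith @Surjective ((AlgSp.yon S).map a ≫ q) :=
    (AlgSp.RepWith @Surjective).comp_mem _ _ ((AlgSp.repWith_yon_map_iff _ _).2 has') hqs
  refine ⟨W, (AlgSp.yon S).map a ≫ q, hchart, hchart', ?_⟩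
  haveI : LocallyOfFiniteType b.left :=
    hf _ p b hchart hpe (by rw [Category.assoc]; exact sq.w.symm)
  haveI : JacobsonSpace ↥U.left := hU
  exact LocallyOfFiniteType.jacobsonSpace b.left

end Groth.Agent.S10401
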