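import Groth.Statements.S10413
import Mathlib
import Groth.Agent.Lib.helper5.AlgSpDecent

set_option autoImplicit false
universe u
open CategoryTheory CategoryTheory.Limits AlgebraicGeometry Topology TopologicalSpace
open AlgSp

namespace Groth.Agent.S10413

/-- Let S be a scheme, X and Y algebraic spaces over S, and X ⟶ Y a representable morphism. If every
point of Y can be represented by a monomorphism into Y from the spectrum of a field, then every
point of X can likewise be represented by such a monomorphism into X. -/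
theorem result {S : Scheme.{u}} {X Y : AlgSp.Space S} (f : X ⟶ Y) (hf : AlgSp.Representable f.hom)
    (hY : ∀ y : AlgSp.Points Y.obj, ∃ q : AlgSp.FieldPt Y.obj, AlgSp.Points.mk q = y ∧ Mono q.toHom)
    (x : AlgSp.Points X.obj) : ∃ p : AlgSp.FieldPt X.obj, AlgSp.Points.mk p = x ∧ Mono p.toHom := by
  obtain ⟨q, hq1, hq2⟩ := hY (AlgSp.Points.map f.hom x)
  have sq := hf.isPullback q.toHom
  have hm : Mono (hf.fst q.toHom) := sq.mono_fst_of_mono
  have hx : AlgSp.Points.map f.hom x =
      AlgSp.Points.ofPt q.toHom (IsLocalRing.closedPoint q.K) := by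
    rw [AlgSp.Points.ofPt_toHom, hq1]
  obtain ⟨e, he, -⟩ := AlgSp.h5_exists_of_map_eq_ofPt sq x _ hx
  refine ⟨AlgSp.FieldPt.ofPt (hf.fst q.toHom) e, he, ?_⟩
  rw [AlgSp.FieldPt.toHom_ofPt]
  have : Mono ((AlgSp.yon S).map
      (Over.homMk ((hf.pullback q.toHom).left.fromSpecResidueField e) rfl :
        Over.mk ((hf.pullback q.toHom).left.fromSpecResidueField e ≫ (hf.pullback q.toHom).hom) ⟶
          hf.pullback q.toHom)) :=
    AlgSp.h5_mono_yon_map _ (by dsimp; infer_instance)
  exact @mono_comp _ _ _ _ _ _ this _ hm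

end Groth.Agent.S10413
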