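import Groth.Statements.S10474
import Mathlib
import Groth.Agent.S10222
import Groth.Agent.Lib.helper5.AlgSpPts

set_option autoImplicit false
universe u
open CategoryTheory CategoryTheory.Limits AlgebraicGeometry Topology TopologicalSpace
open AlgSp

namespace Groth.Agent.S10474

theorem h5_bc_square {k : Type u} [Field k] {W U : Over (Spec (CommRingCat.of k))} (h : W ⟶ U)
    [Etale h.left] (K : Type u) [Field K] [Algebra k K] :
    ∃ hK : FBase.bc W.hom K ⟶ FBase.bc U.hom K, Etale hK ∧
      IsPullback hK (FBase.bcπ W.hom K) (FBase.bcπ U.hom K) h.left := by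
  let φ := Spec.map (CommRingCat.ofHom (algebraMap k K))
  let hK : pullback W.hom φ ⟶ pullback U.hom φ :=
    pullback.map W.hom φ U.hom φ h.left (𝟙 _) (𝟙 _)
      (by rw [Category.comp_id, Over.w]) (by rw [Category.comp_id, Category.id_comp])
  have sq : IsPullback hK (pullback.fst W.hom φ) (pullback.fst U.hom φ) h.left := by
    refine IsPullback.of_right ?_ (pullback.lift_fst _ _ _) (IsPullback.of_hasPullback U.hom φ).flip
    have e1 : hK ≫ pullback.snd U.hom φ = pullback.snd W.hom φ := by
      rw [pullback.lift_snd, Category.comp_id]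
    rw [e1, Over.w h]
    exact (IsPullback.of_hasPullback W.hom φ).flip
  exact ⟨hK, MorphismProperty.of_isPullback (P := @Etale) sq.flip inferInstance, sq⟩

theorem h5_geomRed_iff_of_etale {k : Type u} [Field k] {W U : Over (Spec (CommRingCat.of k))}
    (h : W ⟶ U) [Etale h.left] (w : W.left) :
    FBase.IsGeomReducedAt W.hom w ↔ FBase.IsGeomReducedAt U.hom (h.left w) := by
  constructor
  · intro hW K _ _ y' hy'
    obtain ⟨hK, hKe, sq⟩ := h5_bc_square h K
    obtain ⟨x', hx1, hx2⟩ := AlgebraicGeometry.Scheme.exists_preimage_of_isPullback sq.flip w y' hy'.symm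
    have hred := hW K x' hx1
    have := Groth.Agent.S10222.h5_isReduced_stalk_of_flat hK x' hred
    rw [show hK x' = y' from hx2] at this
    exact this
  · intro hU K _ _ x' hx'
    obtain ⟨hK, hKe, sq⟩ := h5_bc_square h K
    have hy : (FBase.bcπ U.hom K) (hK x') = h.left w := by
      rw [← Scheme.Hom.comp_apply, sq.w, Scheme.Hom.comp_apply]
      exact congrArg _ hx'
    have hred := hU K (hK x') hy
    exact Groth.Agent.S10222.h5_isReduced_stalk_of_etale hK x' hred

/-- (2) ⇒ (3): let k be a field and X an algebraic space over k. If some surjective etale chart U ⟶ X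
from a scheme has U geometrically reduced over k, then every scheme etale over X is geometrically
reduced over k. -/
theorem result (k : Type u) [Field k] (X : AlgSp.Space (Spec (CommRingCat.of k)))
    (U : Over (Spec (CommRingCat.of k))) (a : (AlgSp.yon (Spec (CommRingCat.of k))).obj U ⟶ X.obj) (ha : AlgSp.RepWith @Etale a)
    (hs : AlgSp.RepWith @Surjective a) (hU : ∀ u : ↥U.left, FBase.IsGeomReducedAt U.hom u)
    (V : Over (Spec (CommRingCat.of k))) (b : (AlgSp.yon (Spec (CommRingCat.of k))).obj V ⟶ X.obj) (hb : AlgSp.RepWith @Etale b) (v : ↥V.left) :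
    FBase.IsGeomReducedAt V.hom v := by
  obtain ⟨u, hu⟩ := AlgSp.h5_surjective_ofPt a hs (AlgSp.Points.ofPt b v)
  have sq := ha.rep.isPullback' b
  obtain ⟨w, hw1, hw2⟩ := AlgSp.h5_exists_of_ofPt_eq sq u v hu
  haveI : Etale (ha.rep.snd b).left := ha.property_snd _
  haveI : Etale (ha.rep.fst' b).left := by
    have h1 : AlgSp.RepWith @Etale ((AlgSp.yon _).map (ha.rep.fst' b)) :=
      MorphismProperty.of_isPullback (P := AlgSp.RepWith @Etale) sq.flip hb
    exact (AlgSp.repWith_yon_map_iff _ _).1 h1
  have h1 := (h5_geomRed_iff_of_etale (ha.rep.fst' b) w).2 (by rw [hw1]; exact hU u)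
  have h2 := (h5_geomRed_iff_of_etale (ha.rep.snd b) w).1 h1
  rw [hw2] at h2
  exact h2

end Groth.Agent.S10474
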