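import Groth.Statements.S10473
import Mathlib
import Groth.Agent.S10474
import Groth.Agent.Lib.helper5.AlgSpPts

set_option autoImplicit false
universe u
open CategoryTheory CategoryTheory.Limits AlgebraicGeometry Topology TopologicalSpace
open AlgSp

namespace Groth.Agent.S10473

/-- (2) ⇔ (3): let k be a field, X an algebraic space over k and x a point of X. Then some etale
neighbourhood (U, u) of (X, x) with U a scheme is geometrically reduced at u, if and only if every
such etale neighbourhood is geometrically reduced at its point over x. -/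
theorem result (k : Type u) [Field k] (X : AlgSp.Space (Spec (CommRingCat.of k))) (x : AlgSp.Points X.obj) :
    (∃ (U : Over (Spec (CommRingCat.of k))) (a : (AlgSp.yon (Spec (CommRingCat.of k))).obj U ⟶ X.obj) (u : ↥U.left),
      AlgSp.RepWith @Etale a ∧ AlgSp.Points.ofPt a u = x ∧ FBase.IsGeomReducedAt U.hom u) ↔
      ∀ (U : Over (Spec (CommRingCat.of k))) (a : (AlgSp.yon (Spec (CommRingCat.of k))).obj U ⟶ X.obj) (u : ↥U.left),
        AlgSp.RepWith @Etale a → AlgSp.Points.ofPt a u = x → FBase.IsGeomReducedAt U.hom u := by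
  constructor
  · rintro ⟨U, a, u, ha, hu, hred⟩ U' a' u' ha' hu'
    have sq := ha.rep.isPullback' a'
    obtain ⟨w, hw1, hw2⟩ := AlgSp.h5_exists_of_ofPt_eq sq u u' (hu.trans hu'.symm)
    haveI : Etale (ha.rep.snd a').left := ha.property_snd _
    haveI : Etale (ha.rep.fst' a').left := by
      have h1 : AlgSp.RepWith @Etale ((AlgSp.yon _).map (ha.rep.fst' a')) :=
        MorphismProperty.of_isPullback (P := AlgSp.RepWith @Etale) sq.flip ha'
      exact (AlgSp.repWith_yon_map_iff _ _).1 h1
    have h1 := (Groth.Agent.S10474.h5_geomRed_iff_of_etale (ha.rep.fst' a') w).2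
      (by rw [hw1]; exact hred)
    have h2 := (Groth.Agent.S10474.h5_geomRed_iff_of_etale (ha.rep.snd a') w).1 h1
    rw [hw2] at h2
    exact h2
  · intro h
    obtain ⟨U, p, hpe, hps⟩ := X.property.atlas
    obtain ⟨u, hu⟩ := AlgSp.h5_surjective_ofPt p hps x
    exact ⟨U, p, u, hpe, hu, h U p u hpe hu⟩

end Groth.Agent.S10473
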