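import Groth.Statements.S10480
import Mathlib
import Groth.Agent.S10473
import Groth.Agent.Lib.helper5.AlgSpPts

set_option autoImplicit false
universe u
open CategoryTheory CategoryTheory.Limits AlgebraicGeometry Topology TopologicalSpace
open AlgSp

namespace Groth.Agent.S10480

/-- Let k be a field and f : X ⟶ Y a surjective etale morphism of algebraic spaces over k. Then X is
geometrically reduced over k if and only if Y is geometrically reduced over k. -/
theorem result (k : Type u) [Field k] {X Y : AlgSp.Space (Spec (CommRingCat.of k))} (f : X ⟶ Y)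
    (he : AlgSp.IsEtaleMor f.hom) (hs : AlgSp.IsSurjectiveMor f.hom) :
    (∀ x : AlgSp.Points X.obj, (∃ (U : Over (Spec (CommRingCat.of k))) (a : (AlgSp.yon (Spec (CommRingCat.of k))).obj U ⟶ X.obj) (u : ↥U.left),
      AlgSp.RepWith @Etale a ∧ AlgSp.Points.ofPt a u = x ∧ FBase.IsGeomReducedAt U.hom u)) ↔
      ∀ y : AlgSp.Points Y.obj, (∃ (U : Over (Spec (CommRingCat.of k))) (a : (AlgSp.yon (Spec (CommRingCat.of k))).obj U ⟶ Y.obj) (u : ↥U.left),
      AlgSp.RepWith @Etale a ∧ AlgSp.Points.ofPt a u = y ∧ FBase.IsGeomReducedAt U.hom u) := by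
  constructor
  · intro h y
    obtain ⟨x, rfl⟩ := hs y
    obtain ⟨U, a, u, ha, hu, hred⟩ := h x
    exact ⟨U, a ≫ f.hom, u, he a ha, by rw [← AlgSp.Points.map_ofPt, hu], hred⟩
  · intro h x
    obtain ⟨V, b, v, hb, hv, hred⟩ := h (AlgSp.Points.map f.hom x)
    obtain ⟨U, p, hpe, hps⟩ := X.property.atlas
    obtain ⟨u, hu⟩ := AlgSp.h5_surjective_ofPt p hps x
    refine ⟨U, p, u, hpe, hu, ?_⟩
    exact (Groth.Agent.S10473.result k Y (AlgSp.Points.map f.hom x)).1 ⟨V, b, v, hb, hv, hred⟩
      U (p ≫ f.hom) u (he p hpe) (by rw [← AlgSp.Points.map_ofPt, hu])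

end Groth.Agent.S10480
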