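import Groth.Statements.S10481
import Mathlib
import Groth.Agent.S10473
import Groth.Agent.Lib.helper5.AlgSpQc

set_option autoImplicit false
universe u
open CategoryTheory CategoryTheory.Limits AlgebraicGeometry Topology TopologicalSpace
open AlgSp

namespace Groth.Agent.S10481

/-- Let k be a field, f : X ⟶ Y a morphism of algebraic spaces over k and x a point of X at which f is
etale. Then X is geometrically reduced at x if and only if Y is geometrically reduced at the image
of x. -/
theorem result (k : Type u) [Field k] {X Y : AlgSp.Space (Spec (CommRingCat.of k))} (f : X ⟶ Y)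
    (x : AlgSp.Points X.obj)
    (he : AlgSp.HasAtMor (fun U _ h u => ∃ W : U.Opens, u ∈ W ∧ Etale (W.ι ≫ h)) f.hom x) :
    (∃ (U : Over (Spec (CommRingCat.of k))) (a : (AlgSp.yon (Spec (CommRingCat.of k))).obj U ⟶ X.obj) (u : ↥U.left),
      AlgSp.RepWith @Etale a ∧ AlgSp.Points.ofPt a u = x ∧ FBase.IsGeomReducedAt U.hom u) ↔ (∃ (U : Over (Spec (CommRingCat.of k))) (a : (AlgSp.yon (Spec (CommRingCat.of k))).obj U ⟶ Y.obj) (u : ↥U.left),
      AlgSp.RepWith @Etale a ∧ AlgSp.Points.ofPt a u = (AlgSp.Points.map f.hom x) ∧ FBase.IsGeomReducedAt U.hom u) := by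
  obtain ⟨U, V, a, b, h, u, ha, hb, hcomm, hu, W, huW, hWe⟩ := he
  have hfx : AlgSp.Points.ofPt b (h.left u) = AlgSp.Points.map f.hom x := by
    rw [← AlgSp.h5_ofPt_map_comp, ← hcomm, ← AlgSp.Points.map_ofPt, hu]
  haveI : Etale (AlgSp.h5_openOverι U W).left := (show Etale W.ι from inferInstance)
  haveI : Etale (AlgSp.h5_openOverι U W ≫ h).left := hWe
  have e1 := Groth.Agent.S10474.h5_geomRed_iff_of_etale (AlgSp.h5_openOverι U W)
    (⟨u, huW⟩ : (AlgSp.h5_openOver U W).left)
  have e2 := Groth.Agent.S10474.h5_geomRed_iff_of_etale (AlgSp.h5_openOverι U W ≫ h)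
    (⟨u, huW⟩ : (AlgSp.h5_openOver U W).left)
  have hU : FBase.IsGeomReducedAt U.hom u ↔ FBase.IsGeomReducedAt V.hom (h.left u) :=
    e1.symm.trans e2
  constructor
  · intro hx
    have := (Groth.Agent.S10473.result k X x).1 hx U a u ha hu
    exact ⟨V, b, h.left u, hb, hfx, hU.1 this⟩
  · intro hy
    have := (Groth.Agent.S10473.result k Y _).1 hy V b (h.left u) hb hfx
    exact ⟨U, a, u, ha, hu, hU.2 this⟩

end Groth.Agent.S10481
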