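import Groth.Statements.S10491
import Mathlib
import Groth.Agent.Lib.helper5.AlgSpPts

set_option autoImplicit false
universe u
open CategoryTheory CategoryTheory.Limits AlgebraicGeometry Topology TopologicalSpace
open AlgSp

namespace Groth.Agent.S10491

theorem h5_isIrreducible_preimage_val {B : Type*} [TopologicalSpace B] {T R : Set B}
    (hRT : R ⊆ T) (hR : IsIrreducible R) :
    IsIrreducible (((↑) : ↥T → B) ⁻¹' R) := by
  refine ⟨?_, ?_⟩
  · obtain ⟨r, hr⟩ := hR.1
    exact ⟨⟨r, hRT hr⟩, hr⟩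
  · intro u v hu hv hxu hyv
    obtain ⟨x, hxE, hxu⟩ := hxu
    obtain ⟨y, hyE, hyv⟩ := hyv
    obtain ⟨u', hu', rfl⟩ := isOpen_induced_iff.1 hu
    obtain ⟨v', hv', rfl⟩ := isOpen_induced_iff.1 hv
    obtain ⟨r, hr, hru, hrv⟩ := hR.2 u' v' hu' hv' ⟨x.1, hxE, hxu⟩ ⟨y.1, hyE, hyv⟩
    exact ⟨⟨r, hRT hr⟩, hr, hru, hrv⟩

theorem h5_finite_components_meeting {A B : Type*} [TopologicalSpace A] [TopologicalSpace B]
    [NoetherianSpace A] (q : A → B) (hqc : Continuous q) (hqo : IsOpenMap q) (T : Set B)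
    (hT : IsClosed T) :
    {Z : ↥(irreducibleComponents ↥T) |
      ((((↑) : ↥T → B) '' (Z : Set ↥T)) ∩ Set.range q).Nonempty}.Finite := by
  classical
  obtain ⟨Sf, hSfin, hSc, hSi, hSu⟩ :=
    NoetherianSpace.exists_finite_set_isClosed_irreducible (hT.preimage hqc)
  have key : ∀ Z : ↥(irreducibleComponents ↥T),
      ((((↑) : ↥T → B) '' (Z : Set ↥T)) ∩ Set.range q).Nonempty →
      ∃ C ∈ Sf, ((↑) : ↥T → B) ⁻¹' closure (q '' C) = (Z : Set ↥T) := by
    intro Z hZne
    have hZirr : IsIrreducible (Z : Set ↥T) := Z.2.1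
    have hZ'irr : IsIrreducible (((↑) : ↥T → B) '' (Z : Set ↥T)) :=
      hZirr.image _ continuous_subtype_val.continuousOn
    let t : Finset (Set B) :=
      insert (Set.range q)ᶜ (hSfin.toFinset.image (fun C => closure (q '' C)))
    have htc : ∀ z ∈ t, IsClosed z := by
      intro z hz
      rcases Finset.mem_insert.1 hz with rfl | hz
      · exact hqo.isOpen_range.isClosed_compl
      · obtain ⟨C, -, rfl⟩ := Finset.mem_image.1 hz
        exact isClosed_closure
    have hcov : ((↑) : ↥T → B) '' (Z : Set ↥T) ⊆ ⋃₀ (↑t : Set (Set B)) := by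
      rintro _ ⟨z, hz, rfl⟩
      by_cases hb : (z : B) ∈ Set.range q
      · obtain ⟨a, ha⟩ := hb
        have haT : a ∈ q ⁻¹' T := by
          change q a ∈ T
          rw [ha]; exact z.2
        rw [hSu] at haT
        obtain ⟨C, hC, haC⟩ := haT
        refine ⟨closure (q '' C), ?_, subset_closure ⟨a, haC, ha⟩⟩
        exact Finset.mem_coe.2 (Finset.mem_insert_of_mem
          (Finset.mem_image.2 ⟨C, hSfin.mem_toFinset.2 hC, rfl⟩))
      · exact ⟨(Set.range q)ᶜ, Finset.mem_coe.2 (Finset.mem_insert_self _ _), hb⟩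
    obtain ⟨z, hzt, hZz⟩ := isIrreducible_iff_sUnion_isClosed.1 hZ'irr t htc hcov
    rcases Finset.mem_insert.1 hzt with rfl | hz
    · exfalso
      obtain ⟨b, hb1, hb2⟩ := hZne
      exact hZz hb1 hb2
    · obtain ⟨C, hC, rfl⟩ := Finset.mem_image.1 hz
      have hC' : C ∈ Sf := hSfin.mem_toFinset.1 hC
      refine ⟨C, hC', ?_⟩
      have hCT : closure (q '' C) ⊆ T := by
        apply closure_minimal _ hT
        rintro _ ⟨a, ha, rfl⟩
        have : a ∈ q ⁻¹' T := by rw [hSu]; exact ⟨C, hC', ha⟩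
        exact this
      have hRirr : IsIrreducible (closure (q '' C)) :=
        ((hSi C hC').image q hqc.continuousOn).closure
      have hEirr := h5_isIrreducible_preimage_val hCT hRirr
      have hZE : (Z : Set ↥T) ⊆ ((↑) : ↥T → B) ⁻¹' closure (q '' C) :=
        fun z hz => hZz ⟨z, hz, rfl⟩
      exact Set.Subset.antisymm (Z.2.2 hEirr hZE) hZE
  apply Set.Finite.subset ((hSfin.image
    (fun C => ((↑) : ↥T → B) ⁻¹' closure (q '' C))).preimage Subtype.val_injective.injOn)
  intro Z hZ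
  obtain ⟨C, hC, e⟩ := key Z hZ
  exact ⟨C, hC, e⟩

/-- Let X be an algebraic space over a scheme S which is locally Noetherian, and T ⊂ |X| a closed
subset. Then every point of |X| has a neighbourhood meeting only finitely many irreducible
components of T. -/
theorem result {S : Scheme.{u}} (X : AlgSp.Space S)
    (hX : AlgSp.IsLocNoethSp X.obj) (T : Set (AlgSp.Points X.obj)) (hT : IsClosed T) :
    LocallyFinite (fun Z : ↥(irreducibleComponents ↥T) => ((↑) : ↥T → AlgSp.Points X.obj) '' (Z : Set ↥T)) := by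
  obtain ⟨U, p, hpe, hps, hU⟩ := hX
  haveI : IsLocallyNoetherian U.left := hU
  intro x
  obtain ⟨u, rfl⟩ := AlgSp.h5_surjective_ofPt p hps x
  obtain ⟨_, ⟨V, hV, rfl⟩, huV, -⟩ := U.left.isBasis_affineOpens.exists_subset_of_mem_open
    (Set.mem_univ u) isOpen_univ
  haveI : IsNoetherianRing Γ(U.left, V) := IsLocallyNoetherian.component_noetherian ⟨V, hV⟩
  haveI : NoetherianSpace ↥V := noetherianSpace_of_isAffineOpen V hV
  let q : ↥V → AlgSp.Points X.obj := fun v => AlgSp.Points.ofPt p v.1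
  have hqc : Continuous q := (AlgSp.Points.continuous_ofPt p).comp continuous_subtype_val
  have hqo : IsOpenMap q :=
    (AlgSp.h5_isOpenMap_ofPt_of_etale p hpe).comp V.isOpen.isOpenMap_subtype_val
  refine ⟨Set.range q, (hqo.isOpen_range).mem_nhds ⟨⟨u, huV⟩, rfl⟩, ?_⟩
  exact h5_finite_components_meeting q hqc hqo T hT

end Groth.Agent.S10491
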