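import Groth.Statements.S10494
import Mathlib
import Groth.Agent.S10242

set_option autoImplicit false
universe u
open CategoryTheory CategoryTheory.Limits AlgebraicGeometry Topology TopologicalSpace
open AlgSp

namespace Groth.Agent.S10494

/-- Let X be an integral algebraic space over a scheme S. Then Γ(X, O_X) is a domain. -/
theorem result {S : Scheme.{u}} (X : AlgSp.Space S)
    (hX : AlgSp.IsIntegralSp X.obj) : IsDomain ↥(AlgSp.gsectEt (AlgSp.OEt X.obj)) := by
  obtain ⟨hred, hdec, hirr⟩ := hX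
  have hres := Groth.Agent.S10242.result X hred
  haveI := hirr
  -- the non-vanishing locus of a global section on a chart
  let D : ↥(AlgSp.gsectEt (AlgSp.OEt X.obj)) → (E : AlgSp.EtOver X.obj) → E.obj.left.left.Opens :=
    fun f E =>
      E.obj.left.left.basicOpen ((limit.π (AlgSp.OEt X.obj).obj (Opposite.op E)) f).down
  let W : ↥(AlgSp.gsectEt (AlgSp.OEt X.obj)) → Set (AlgSp.Points X.obj) := fun f =>
    ⋃ E : AlgSp.EtOver X.obj, AlgSp.Points.ofPt E.obj.hom '' ((D f E : E.obj.left.left.Opens) : Set _)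
  have hWopen : ∀ f, IsOpen (W f) := by
    intro f
    apply isOpen_iUnion
    intro E
    exact AlgSp.h5_isOpenMap_ofPt_of_etale E.obj.hom E.property _ (D f E).isOpen
  have hcompat : ∀ (f : ↥(AlgSp.gsectEt (AlgSp.OEt X.obj))) {E E' : AlgSp.EtOver X.obj}
      (g : E ⟶ E'), D f E = g.hom.left.left ⁻¹ᵁ D f E' := by
    intro f E E' g
    have h1 : (limit.π (AlgSp.OEt X.obj).obj (Opposite.op E)) f =
        (AlgSp.OEt X.obj).obj.map g.op
          ((limit.π (AlgSp.OEt X.obj).obj (Opposite.op E')) f) := by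
      rw [← limit.w (AlgSp.OEt X.obj).obj g.op]
      rfl
    change E.obj.left.left.basicOpen _ = g.hom.left.left ⁻¹ᵁ E'.obj.left.left.basicOpen _
    rw [h1, AlgSp.OEt_map]
    exact (Scheme.preimage_basicOpen_top g.hom.left.left _).symm
  have hmul : ∀ (f g : ↥(AlgSp.gsectEt (AlgSp.OEt X.obj))) (E : AlgSp.EtOver X.obj),
      D (f * g) E = D f E ⊓ D g E := by
    intro f g E
    change E.obj.left.left.basicOpen _ =
      E.obj.left.left.basicOpen _ ⊓ E.obj.left.left.basicOpen _
    rw [map_mul]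
    exact Scheme.basicOpen_mul _ _ _
  have hD0 : ∀ (E : AlgSp.EtOver X.obj), D 0 E = ⊥ := by
    intro E
    change E.obj.left.left.basicOpen _ = ⊥
    rw [map_zero]
    exact Scheme.basicOpen_zero _ _
  have hD1 : ∀ (E : AlgSp.EtOver X.obj), D 1 E = ⊤ := by
    intro E
    change E.obj.left.left.basicOpen _ = ⊤
    rw [map_one]
    exact Scheme.basicOpen_one _
  have hdisj : ∀ f g : ↥(AlgSp.gsectEt (AlgSp.OEt X.obj)), f * g = 0 → W f ∩ W g = ∅ := by
    intro f g hfg
    rw [Set.eq_empty_iff_forall_notMem]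
    rintro x ⟨hxf, hxg⟩
    obtain ⟨E, e, he, rfl⟩ := Set.mem_iUnion.1 hxf
    obtain ⟨E', e', he', heq⟩ := Set.mem_iUnion.1 hxg
    have sq := E'.property.1.isPullback' E.obj.hom
    obtain ⟨v, hv1, hv2⟩ := AlgSp.h5_exists_of_ofPt_eq sq e' e heq
    have h1 : v ∈ D f (AlgSp.EtOver.prodObj E E') := by
      rw [hcompat f (AlgSp.EtOver.prodFst E E')]
      change (E'.property.1.snd E.obj.hom).left v ∈ D f E
      rw [hv2]; exact he
    have h2 : v ∈ D g (AlgSp.EtOver.prodObj E E') := by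
      rw [hcompat g (AlgSp.EtOver.prodSnd E E')]
      change (E'.property.1.fst' E.obj.hom).left v ∈ D g E'
      rw [hv1]; exact he'
    have h3 : v ∈ D (f * g) (AlgSp.EtOver.prodObj E E') := by rw [hmul]; exact ⟨h1, h2⟩
    rw [hfg, hD0] at h3
    exact h3
  have hzero : ∀ f : ↥(AlgSp.gsectEt (AlgSp.OEt X.obj)), W f = ∅ → f = 0 := by
    intro f hf
    apply hres.2
    intro E
    rw [eq_bot_iff]
    intro e he
    have : AlgSp.Points.ofPt E.obj.hom e ∈ W f := Set.mem_iUnion.2 ⟨E, e, he, rfl⟩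
    rw [hf] at this
    exact this.elim
  haveI : Nontrivial ↥(AlgSp.gsectEt (AlgSp.OEt X.obj)) := by
    obtain ⟨V, p, hpe, hps, hV⟩ := hred
    obtain ⟨x⟩ := (inferInstance : Nonempty (AlgSp.Points X.obj))
    obtain ⟨v, hv⟩ := AlgSp.h5_surjective_ofPt p hps x
    refine ⟨⟨1, 0, fun h => ?_⟩⟩
    have h1 : v ∈ D 1 (AlgSp.EtOver.mk p hpe) := by
      rw [hD1]; trivial
    rw [h, hD0] at h1
    exact h1
  haveI : NoZeroDivisors ↥(AlgSp.gsectEt (AlgSp.OEt X.obj)) := by
    refine ⟨fun {f g} hfg => ?_⟩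
    by_contra hne
    push Not at hne
    have hf : (W f).Nonempty := by
      rw [Set.nonempty_iff_ne_empty]; exact fun h => hne.1 (hzero f h)
    have hg : (W g).Nonempty := by
      rw [Set.nonempty_iff_ne_empty]; exact fun h => hne.2 (hzero g h)
    have := nonempty_preirreducible_inter (hWopen f) (hWopen g) hf hg
    rw [hdisj f g hfg] at this
    exact Set.not_nonempty_empty this
  exact NoZeroDivisors.to_isDomain _

end Groth.Agent.S10494
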