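import Groth.Statements.S10505
import Mathlib
import Groth.Agent.Lib.helper5.AlgSpLocPInst2
import Groth.Agent.Lib.helper5.AlgSpLocPInst
import Groth.Agent.Lib.helper5.AlgSpQc
import Groth.Agent.Lib.helper5.AlgSpPts

set_option autoImplicit false
universe u
open CategoryTheory CategoryTheory.Limits AlgebraicGeometry
open AlgSp

namespace Groth.Agent.S10505

/-- An fppf covering of an algebraic space `X` over `S` by algebraic spaces (each member flat and
locally of finite presentation etale locally on source and target, the family jointly surjective on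
points) is an fpqc covering of `X` (each member flat, and every morphism from an affine scheme to
`X` admits a standard fpqc covering of the affine scheme whose members lift through members of the
family). -/
theorem result {S : Scheme.{u}} (X : AlgSp.Space S) {ι : Type u}
    (Xi : ι → AlgSp.Space S) (g : ∀ i, Xi i ⟶ X)
    (h : AlgSp.IsFppfCover (fun i => (Xi i).obj) (fun i => (g i).hom)) :
    AlgSp.IsFpqcCover (fun i => (Xi i).obj) (fun i => (g i).hom) := by
  obtain ⟨hmem, hsurj⟩ := h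
  refine ⟨fun i => (hmem i).1, ?_⟩
  intro Z hZ t
  have key : ∀ i, ∃ (U : Over S) (a : (AlgSp.yon S).obj U ⟶ pullback (g i).hom t),
      AlgSp.RepWith @Etale a ∧ AlgSp.RepWith @Surjective a := fun i =>
    (AlgSp.h5_isAlgSpace_of_isPullback X.property.diag (Xi i).property
      (AlgSp.IsAlgSpace.yon_obj Z) (IsPullback.of_hasPullback (g i).hom t)).atlas
  choose U a hae has using key
  have key2 : ∀ i, ∃ c : U i ⟶ Z, (AlgSp.yon S).map c = a i ≫ pullback.snd (g i).hom t :=
    fun i => (AlgSp.yon S).map_surjective _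
  choose c hc using key2
  have hflat : ∀ i, Flat (c i).left := fun i =>
    (AlgSp.h5_locP_baseChange AlgSp.h5_good_flat (Xi i).property X.property
      (AlgSp.IsAlgSpace.yon_obj Z) (IsPullback.of_hasPullback (g i).hom t) (hmem i).1)
      (a i) (𝟙 _) (c i) (hae i) (AlgSp.repWith_id _ _) (by rw [hc, Category.comp_id])
  have hlfp : ∀ i, LocallyOfFinitePresentation (c i).left := fun i =>
    (AlgSp.h5_locP_baseChange AlgSp.h5_good_lfp (Xi i).property X.property
      (AlgSp.IsAlgSpace.yon_obj Z) (IsPullback.of_hasPullback (g i).hom t) (hmem i).2)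
      (a i) (𝟙 _) (c i) (hae i) (AlgSp.repWith_id _ _) (by rw [hc, Category.comp_id])
  have hcov : ∀ z : Z.left, ∃ (i : ι) (u : (U i).left), (c i).left u = z := by
    intro z
    obtain ⟨i, y, hy⟩ := hsurj (AlgSp.Points.ofPt t z)
    rw [AlgSp.Points.ofPt_eq_map_ofScheme] at hy
    obtain ⟨w, hw1, hw2⟩ := AlgSp.h5_points_exists_of_isPullback
      (IsPullback.of_hasPullback (g i).hom t) y (AlgSp.Points.ofScheme Z z) hy
    obtain ⟨u, hu⟩ := AlgSp.h5_surjective_ofPt (a i) (has i) w
    refine ⟨i, u, ?_⟩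
    apply (AlgSp.Points.schemeEquiv Z).injective
    change AlgSp.Points.ofScheme Z _ = AlgSp.Points.ofScheme Z _
    rw [← AlgSp.h5_map_ofScheme, ← AlgSp.Points.ofPt_eq_map_ofScheme, hc, ← AlgSp.Points.map_ofPt,
      hu, hw2]
  -- affine neighbourhoods
  have key3 : ∀ k : Σ i, (U i).left, ∃ W : (U k.1).left.Opens, IsAffineOpen W ∧ k.2 ∈ W := by
    intro k
    obtain ⟨_, ⟨W, hW, rfl⟩, hkW, -⟩ :=
      (U k.1).left.isBasis_affineOpens.exists_subset_of_mem_open (Set.mem_univ k.2) isOpen_univ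
    exact ⟨W, hW, hkW⟩
  choose Wk hWk hkWk using key3
  haveI : CompactSpace ↥Z.left := by
    haveI : IsAffine Z.left := hZ
    infer_instance
  have hopen : ∀ k : Σ i, (U i).left, IsOpen ((c k.1).left '' (Wk k : Set (U k.1).left)) := by
    intro k
    haveI := hflat k.1
    haveI := hlfp k.1
    exact (c k.1).left.isOpenMap _ (Wk k).2
  have hcovK : (Set.univ : Set Z.left) ⊆ ⋃ k : Σ i, (U i).left,
      (c k.1).left '' (Wk k : Set (U k.1).left) := by
    intro z _
    obtain ⟨i, u, hu⟩ := hcov z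
    exact Set.mem_iUnion.2 ⟨⟨i, u⟩, u, hkWk ⟨i, u⟩, hu⟩
  obtain ⟨s, hs⟩ := isCompact_univ.elim_finite_subcover _ hopen hcovK
  let Wfun : (Σ i, (U i).left) → Over S := fun k => AlgSp.h5_openOver (U k.1) (Wk k)
  let cfun : ∀ k : Σ i, (U i).left, Wfun k ⟶ Z := fun k => AlgSp.h5_openOverι (U k.1) (Wk k) ≫ c k.1
  have haff : ∀ k, IsAffine (Wfun k).left := fun k => hWk k
  have hfl : ∀ k, Flat (cfun k).left := fun k => by
    haveI := hflat k.1
    change Flat ((Wk k).ι ≫ (c k.1).left)
    infer_instance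
  have hlift : ∀ k : Σ i, (U i).left, ∃ (i : ι) (l : (AlgSp.yon S).obj (Wfun k) ⟶ (Xi i).obj),
      l ≫ (g i).hom = (AlgSp.yon S).map (cfun k) ≫ t := fun k =>
    ⟨k.1, (AlgSp.yon S).map (AlgSp.h5_openOverι (U k.1) (Wk k)) ≫ a k.1 ≫
      pullback.fst (g k.1).hom t, by
      rw [Category.assoc, Category.assoc, pullback.condition, ← Category.assoc (a k.1), ← hc,
        ← Category.assoc, ← Functor.map_comp]⟩
  let e := s.equivFin
  refine ⟨s.card, fun j => Wfun (e.symm j).1, fun j => cfun (e.symm j).1,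
    fun j => haff _, fun j => hfl _, ?_, fun j => hlift _⟩
  intro z
  obtain ⟨k, hk, w, hw, hwz⟩ : ∃ k ∈ s, ∃ w ∈ (Wk k : Set (U k.1).left), (c k.1).left w = z := by
    have := hs (Set.mem_univ z)
    simp only [Set.mem_iUnion, Set.mem_image, exists_prop] at this
    obtain ⟨k, hk, w, hw, hwz⟩ := this
    exact ⟨k, hk, w, hw, hwz⟩
  refine ⟨e ⟨k, hk⟩, ?_⟩
  have hkey : ∀ (k' : s), k'.1 = k → z ∈ Set.range ⇑(cfun k'.1).left := by
    rintro ⟨k', hk'⟩ rfl
    exact ⟨⟨w, hw⟩, hwz⟩
  exact hkey (e.symm (e ⟨k, hk⟩)) (by rw [Equiv.symm_apply_apply])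

end Groth.Agent.S10505
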