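import Groth.Statements.S10506
import Mathlib
import Groth.Agent.Lib.helper5.AlgSpLocPInst

set_option autoImplicit false
universe u
open CategoryTheory CategoryTheory.Limits AlgebraicGeometry
open AlgSp

namespace Groth.Agent.S10506

/-- The base change of an fpqc covering of an algebraic space `X` by algebraic spaces along a morphism
of algebraic spaces `X' ⟶ X` is an fpqc covering of `X'`; the base changes `X' ×_X X_i ⟶ X'` are
given as pullback squares of sheaves whose corners `X'_i` are algebraic spaces. -/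
theorem result {S : Scheme.{u}} {X X' : AlgSp.Space S} (a : X' ⟶ X) {ι : Type u}
    (Xi : ι → AlgSp.Space S) (g : ∀ i, Xi i ⟶ X) (Xi' : ι → AlgSp.Space S) (q : ∀ i, Xi' i ⟶ X')
    (p : ∀ i, Xi' i ⟶ Xi i) (sq : ∀ i, IsPullback (q i).hom (p i).hom a.hom (g i).hom)
    (h : AlgSp.IsFpqcCover (fun i => (Xi i).obj) (fun i => (g i).hom)) :
    AlgSp.IsFpqcCover (fun i => (Xi' i).obj) (fun i => (q i).hom) := by
  obtain ⟨hfl, hcov⟩ := h
  refine ⟨fun i => AlgSp.h5_locP_baseChange AlgSp.h5_good_flat (Xi i).property X.property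
    X'.property (sq i).flip (hfl i), ?_⟩
  intro Z hZ t
  obtain ⟨m, W, c, hWaff, hflat, hsurj, hlift⟩ := hcov Z hZ (t ≫ a.hom)
  refine ⟨m, W, c, hWaff, hflat, hsurj, fun j => ?_⟩
  obtain ⟨i, l, hl⟩ := hlift j
  refine ⟨i, (sq i).lift ((AlgSp.yon S).map (c j) ≫ t) l (by rw [Category.assoc]; exact hl.symm), ?_⟩
  exact (sq i).lift_fst _ _ _

end Groth.Agent.S10506
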