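import Groth.Statements.S10507
import Mathlib
import Groth.Agent.Lib.helper5.AlgSpLocPInst

set_option autoImplicit false
universe u
open CategoryTheory CategoryTheory.Limits AlgebraicGeometry
open AlgSp

namespace Groth.Agent.S10507

/-- If `{X_i ⟶ X}` is an fpqc covering of the algebraic space `X` by algebraic spaces and each `X_i` has
an fpqc covering `{X_ij ⟶ X_i}` by algebraic spaces, then the composites `X_ij ⟶ X_i ⟶ X`, indexed
by the pairs `(i, j)`, form an fpqc covering of `X`. -/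
theorem result {S : Scheme.{u}} (X : AlgSp.Space S) {ι : Type u}
    (Xi : ι → AlgSp.Space S) (g : ∀ i, Xi i ⟶ X) (κ : ι → Type u) (Xij : ∀ i, κ i → AlgSp.Space S)
    (gij : ∀ i j, Xij i j ⟶ Xi i)
    (h : AlgSp.IsFpqcCover (fun i => (Xi i).obj) (fun i => (g i).hom))
    (hij : ∀ i, AlgSp.IsFpqcCover (fun j => (Xij i j).obj) (fun j => (gij i j).hom)) :
    AlgSp.IsFpqcCover (fun r : Σ i, κ i => (Xij r.1 r.2).obj) (fun r => (gij r.1 r.2 ≫ g r.1).hom) := by
  obtain ⟨hfl, hcov⟩ := h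
  refine ⟨fun r => ?_, ?_⟩
  · change AlgSp.LocP @Flat ((gij r.1 r.2).hom ≫ (g r.1).hom)
    exact AlgSp.h5_locP_comp AlgSp.h5_good_flat (Xij r.1 r.2).property (Xi r.1).property
      X.property _ _ ((hij r.1).1 r.2) (hfl r.1)
  intro Z hZ t
  obtain ⟨m, W, c, hWaff, hflat, hsurj, hlift⟩ := hcov Z hZ t
  choose i l hl using hlift
  choose mm W' c' hW'aff hflat' hsurj' hlift' using
    fun j => (hij (i j)).2 (W j) (hWaff j) (l j)
  choose k l' hl' using hlift'
  obtain ⟨M, ⟨e⟩⟩ := Finite.exists_equiv_fin (Σ j : Fin m, Fin (mm j))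
  refine ⟨M, fun r => W' (e.symm r).1 (e.symm r).2,
    fun r => c' (e.symm r).1 (e.symm r).2 ≫ c (e.symm r).1, fun r => hW'aff _ _, fun r => ?_,
    fun z => ?_, fun r => ?_⟩
  · haveI := hflat' (e.symm r).1 (e.symm r).2
    haveI := hflat (e.symm r).1
    rw [Over.comp_left]
    infer_instance
  · obtain ⟨j, x, hx⟩ := hsurj z
    obtain ⟨j', x', hx'⟩ := hsurj' j x
    have key : ∀ r' : (Σ j : Fin m, Fin (mm j)), r' = ⟨j, j'⟩ →
        z ∈ Set.range ⇑((c' r'.1 r'.2 ≫ c r'.1).left) := by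
      rintro _ rfl
      refine ⟨x', ?_⟩
      rw [Over.comp_left, Scheme.Hom.comp_apply, hx', hx]
    exact ⟨e ⟨j, j'⟩, key _ (e.symm_apply_apply _)⟩
  · refine ⟨⟨i (e.symm r).1, k (e.symm r).1 (e.symm r).2⟩, l' (e.symm r).1 (e.symm r).2, ?_⟩
    change l' (e.symm r).1 (e.symm r).2 ≫ (gij _ _).hom ≫ (g _).hom = _
    rw [← Category.assoc, hl', Category.assoc, hl, Functor.map_comp, Category.assoc]

end Groth.Agent.S10507
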