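import Groth.Statements.S10508
import Mathlib
import Mathlib
import Groth.Agent.S10505
import Groth.Agent.S10506
import Groth.Agent.S10507
import Groth.Agent.S10530
import Groth.Agent.Lib.helper5.AlgSpEt
import Groth.Agent.Lib.helper5.AlgSpPts
import Groth.Agent.Lib.helper5.AlgSpMono

set_option autoImplicit false
universe u
open CategoryTheory CategoryTheory.Limits AlgebraicGeometry
open AlgSp

namespace Groth.Agent.S10508

/-- Let `X` be an algebraic space over `S`, `{X_i ⟶ X}` a family of morphisms of algebraic spaces and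
`h_U ⟶ X` a representable etale, representable surjective map from a scheme `U` over `S`, with
pullback squares of sheaves exhibiting algebraic spaces `U_i` as `U ×_X X_i`. Then `{X_i ⟶ X}` is an
fpqc covering of `X` if and only if `{U_i ⟶ h_U}` is an fpqc covering of `h_U`. -/
theorem result {S : Scheme.{u}} (X : AlgSp.Space S) {ι : Type u}
    (Xi : ι → AlgSp.Space S) (g : ∀ i, Xi i ⟶ X) {U : Over S} (p : (AlgSp.yon S).obj U ⟶ X.obj)
    (hp : AlgSp.RepWith @Etale p) (hps : AlgSp.RepWith @Surjective p)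
    (Ui : ι → AlgSp.Space S) (q : ∀ i, (Ui i).obj ⟶ (AlgSp.yon S).obj U) (p' : ∀ i, Ui i ⟶ Xi i)
    (sq : ∀ i, IsPullback (q i) (p' i).hom p (g i).hom) :
    AlgSp.IsFpqcCover (fun i => (Xi i).obj) (fun i => (g i).hom) ↔
      AlgSp.IsFpqcCover (fun i => (Ui i).obj) q := by
  have hyU : AlgSp.IsAlgSpace ((AlgSp.yon S).obj U) := AlgSp.IsAlgSpace.yon_obj U
  let YU : AlgSp.Space S := ⟨(AlgSp.yon S).obj U, hyU⟩
  let pp : YU ⟶ X := ObjectProperty.homMk p
  let qq : ∀ i, Ui i ⟶ YU := fun i => ObjectProperty.homMk (q i)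
  constructor
  · intro h
    exact Groth.Agent.S10506.result pp Xi g Ui qq p' sq h
  · intro hU
    have hpflat : AlgSp.LocP @Flat p :=
      AlgSp.h5_locP_of_repWith _ AlgSp.h5_etale_le_flat p
        (AlgSp.h5_repWith_mono AlgSp.h5_etale_le_flat hp)
    have hplfp : AlgSp.LocP @LocallyOfFinitePresentation p :=
      AlgSp.h5_locP_of_repWith _ AlgSp.h5_etale_le_lfp p
        (AlgSp.h5_repWith_mono AlgSp.h5_etale_le_lfp hp)
    have hpsurj : Function.Surjective (AlgSp.Points.map p) :=
      (AlgSp.h5_repWith_surjective_iff p hp.rep).1 hps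
    have hpcov : AlgSp.IsFpqcCover (fun _ : PUnit.{u+1} => YU.obj) (fun _ => pp.hom) :=
      Groth.Agent.S10505.result X (fun _ : PUnit.{u+1} => YU) (fun _ => pp)
        ⟨fun _ => ⟨hpflat, hplfp⟩, fun x => ⟨PUnit.unit, hpsurj x⟩⟩
    refine ⟨fun i => ?_, ?_⟩
    · have := Groth.Agent.S10530.result S (fun _ : PUnit.{u+1} => YU.obj) (fun _ => pp.hom)
        X.property (fun _ => hyU) hpcov (g i).hom (Xi i).property (fun _ => (Ui i).obj)
        (fun _ => q i) (fun _ => (p' i).hom) (fun _ => (Ui i).property) (fun _ => (sq i).flip)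
      exact this.2 (fun _ => hU.1 i)
    · intro Z hZ h
      have hcomp := Groth.Agent.S10507.result X (fun _ : PUnit.{u+1} => YU) (fun _ => pp)
        (fun _ => ι) (fun _ i => Ui i) (fun _ i => qq i) hpcov (fun _ => hU)
      obtain ⟨m, W, c, hWaff, hflat, hsurj, hlift⟩ := hcomp.2 Z hZ h
      refine ⟨m, W, c, hWaff, hflat, hsurj, fun j => ?_⟩
      obtain ⟨r, l, hl⟩ := hlift j
      refine ⟨r.2, l ≫ (p' r.2).hom, ?_⟩
      rw [Category.assoc, ← (sq r.2).w]
      exact hl

end Groth.Agent.S10508
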