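import Groth.Statements.S10510
import Mathlib
import Groth.Agent.Lib.helper5.AlgSpLocPInst2
import Groth.Agent.Lib.helper5.AlgSpLocPInst
import Groth.Agent.Lib.helper5.AlgSpQc
import Groth.Agent.Lib.helper5.AlgSpPts

set_option autoImplicit false
universe u
open CategoryTheory CategoryTheory.Limits AlgebraicGeometry
open AlgSp

namespace Groth.Agent.S10510

/-- An fppf covering `{X_i ⟶ X}` of an algebraic space `X` over `S` by algebraic spaces is jointly
surjective as a family of maps of fppf sheaves: every `h_T ⟶ X` from a scheme `T` over `S` lifts,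
locally for the fppf topology on `T`, through members of the family. -/
theorem result {S : Scheme.{u}} (X : AlgSp.Space S) {ι : Type u}
    (Xi : ι → AlgSp.Space S) (g : ∀ i, Xi i ⟶ X)
    (h : AlgSp.IsFppfCover (fun i => (Xi i).obj) (fun i => (g i).hom))
    (T : Over S) (t : (AlgSp.yon S).obj T ⟶ X.obj) :
    ∃ (κ : Type u) (Tk : κ → Over S) (c : ∀ k, Tk k ⟶ T),
      Sieve.ofArrows Tk c ∈ AlgSp.J S T ∧
      ∀ k, ∃ (i : ι) (l : (AlgSp.yon S).obj (Tk k) ⟶ (Xi i).obj), l ≫ (g i).hom = (AlgSp.yon S).map (c k) ≫ t := by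
  obtain ⟨hmem, hsurj⟩ := h
  have key : ∀ i, ∃ (U : Over S) (a : (AlgSp.yon S).obj U ⟶ pullback (g i).hom t),
      AlgSp.RepWith @Etale a ∧ AlgSp.RepWith @Surjective a := fun i =>
    (AlgSp.h5_isAlgSpace_of_isPullback X.property.diag (Xi i).property
      (AlgSp.IsAlgSpace.yon_obj T) (IsPullback.of_hasPullback (g i).hom t)).atlas
  choose U a hae has using key
  have key2 : ∀ i, ∃ c : U i ⟶ T, (AlgSp.yon S).map c = a i ≫ pullback.snd (g i).hom t :=
    fun i => (AlgSp.yon S).map_surjective _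
  choose c hc using key2
  have hflat : ∀ i, Flat (c i).left := fun i =>
    (AlgSp.h5_locP_baseChange AlgSp.h5_good_flat (Xi i).property X.property
      (AlgSp.IsAlgSpace.yon_obj T) (IsPullback.of_hasPullback (g i).hom t) (hmem i).1)
      (a i) (𝟙 _) (c i) (hae i) (AlgSp.repWith_id _ _) (by rw [hc, Category.comp_id])
  have hlfp : ∀ i, LocallyOfFinitePresentation (c i).left := fun i =>
    (AlgSp.h5_locP_baseChange AlgSp.h5_good_lfp (Xi i).property X.property
      (AlgSp.IsAlgSpace.yon_obj T) (IsPullback.of_hasPullback (g i).hom t) (hmem i).2)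
      (a i) (𝟙 _) (c i) (hae i) (AlgSp.repWith_id _ _) (by rw [hc, Category.comp_id])
  have hcov : ∀ z : T.left, ∃ (i : ι) (u : (U i).left), (c i).left u = z := by
    intro z
    obtain ⟨i, y, hy⟩ := hsurj (AlgSp.Points.ofPt t z)
    rw [AlgSp.Points.ofPt_eq_map_ofScheme] at hy
    obtain ⟨w, hw1, hw2⟩ := AlgSp.h5_points_exists_of_isPullback
      (IsPullback.of_hasPullback (g i).hom t) y (AlgSp.Points.ofScheme T z) hy
    obtain ⟨u, hu⟩ := AlgSp.h5_surjective_ofPt (a i) (has i) w
    refine ⟨i, u, ?_⟩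
    apply (AlgSp.Points.schemeEquiv T).injective
    change AlgSp.Points.ofScheme T _ = AlgSp.Points.ofScheme T _
    rw [← AlgSp.h5_map_ofScheme, ← AlgSp.Points.ofPt_eq_map_ofScheme, hc, ← AlgSp.Points.map_ofPt,
      hu, hw2]
  refine ⟨ι, U, c, ?_, fun i => ⟨i, a i ≫ pullback.fst (g i).hom t, ?_⟩⟩
  · rw [GrothendieckTopology.mem_over_iff, Sieve.overEquiv_ofArrows]
    apply Precoverage.generate_mem_toGrothendieck
    show Presieve.ofArrows _ _ ∈
      Scheme.precoverage (@Flat ⊓ @LocallyOfFinitePresentation) T.left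
    rw [Scheme.ofArrows_mem_precoverage_iff]
    exact ⟨fun z => by obtain ⟨i, u, hu⟩ := hcov z; exact ⟨i, u, hu⟩,
      fun i => ⟨hflat i, hlfp i⟩⟩
  · rw [Category.assoc, pullback.condition, ← Category.assoc, ← hc]

end Groth.Agent.S10510
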