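import Groth.Statements.S1053
import Mathlib

set_option autoImplicit false
universe w v u
open CategoryTheory CategoryTheory.Limits
open CohDer

namespace Groth.Agent.S1053

/-- Let P and K be cochain complexes in an abelian category with P bounded, consisting of projective
objects and zero in degrees below n, and with Hⁱ(K) = 0 for all i ≥ n. Then every morphism P ⟶ K in
the homotopy category and every morphism P ⟶ K in the derived category is zero. -/
theorem result {A : Type u} [Category.{v} A] [Abelian A] [HasDerivedCategory.{w} A]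
    (P K : CochainComplex A ℤ) (n b : ℤ) [P.IsStrictlyGE n] [P.IsStrictlyLE b] (hP : ∀ i : ℤ, Projective (P.X i))
    (hK : ∀ i : ℤ, n ≤ i → IsZero (K.homology i)) :
    (∀ φ : (HomotopyCategory.quotient A (ComplexShape.up ℤ)).obj P ⟶ (HomotopyCategory.quotient A (ComplexShape.up ℤ)).obj K, φ = 0) ∧
    (∀ φ : DerivedCategory.Q.obj P ⟶ DerivedCategory.Q.obj K, φ = 0) := by
  haveI : ∀ i, Projective (P.X i) := hP
  haveI : P.IsKProjective := CochainComplex.isKProjective_of_projective P b
  haveI : K.IsLE (n - 1) := by
    rw [CochainComplex.isLE_iff]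
    intro i hi
    rw [HomologicalComplex.exactAt_iff_isZero_homology]
    exact hK i (by omega)
  haveI : QuasiIso (K.ιTruncLE (n - 1)) := (K.quasiIso_ιTruncLE_iff (n - 1)).2 inferInstance
  have hz : ∀ f : P ⟶ K.truncLE (n - 1), f = 0 := by
    intro f
    ext i
    by_cases hi : i < n
    · exact (P.isZero_of_isStrictlyGE n i hi).eq_of_src _ _
    · exact ((K.truncLE (n - 1)).isZero_of_isStrictlyLE (n - 1) i (by omega)).eq_of_tgt _ _
  let e := DerivedCategory.quotientCompQhIso A
  have hD : ∀ φ : DerivedCategory.Q.obj P ⟶ DerivedCategory.Q.obj K, φ = 0 := by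
    intro φ
    obtain ⟨g, hg⟩ := (CochainComplex.IsKProjective.Qh_map_bijective P
      ((HomotopyCategory.quotient _ _).obj (K.truncLE (n - 1)))).2
        (e.hom.app P ≫ φ ≫ inv (DerivedCategory.Q.map (K.ιTruncLE (n - 1))) ≫
          e.inv.app (K.truncLE (n - 1)))
    obtain ⟨f, rfl⟩ := (HomotopyCategory.quotient _ _).map_surjective g
    rw [hz f, Functor.map_zero, Functor.map_zero] at hg
    have h2 := congrArg (fun x => e.inv.app P ≫ x ≫ e.hom.app (K.truncLE (n - 1)) ≫
      DerivedCategory.Q.map (K.ιTruncLE (n - 1))) hg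
    simp only [zero_comp, comp_zero, Category.assoc, Iso.inv_hom_id_app_assoc,
      Iso.inv_hom_id_app, IsIso.inv_hom_id, Category.comp_id] at h2
    simpa using h2.symm
  refine ⟨fun φ => ?_, hD⟩
  apply (CochainComplex.IsKProjective.Qh_map_bijective P
      ((HomotopyCategory.quotient _ _).obj K)).1
  rw [Functor.map_zero]
  have h3 := hD (e.inv.app P ≫ DerivedCategory.Qh.map φ ≫ e.hom.app K)
  have h4 := congrArg (fun x => e.hom.app P ≫ x ≫ e.inv.app K) h3
  simp only [zero_comp, comp_zero, Category.assoc, Iso.hom_inv_id_app_assoc,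
      Iso.hom_inv_id_app, Category.comp_id] at h4
  simpa using h4

end Groth.Agent.S1053
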