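import Groth.Statements.S10546
import Mathlib
import Groth.Agent.Lib.helper5.AlgSpLob

set_option autoImplicit false
universe u
open CategoryTheory CategoryTheory.Limits AlgebraicGeometry
open AlgSp

namespace Groth.Agent.S10546

/-- The property of morphisms of algebraic spaces over S given by f is a monomorphism (of fppf sheaves,
equivalently of algebraic spaces) is fpqc local on the base: for an fpqc covering of an algebraic
space Y by algebraic spaces Y_i, a morphism f : X ⟶ Y of algebraic spaces and cartesian squares X_i
= Y_i ×_Y X, f has the property if and only if every X_i ⟶ Y_i has it. -/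
theorem result (S : Scheme.{u}) :
    AlgSp.IsLocalOnBase (AlgSp.IsFpqcCover (S := S)) (MorphismProperty.monomorphisms (AlgSp.Sp S)) := by
  intro ι Y Yi g hY hYi hcov X f hX Xi p q hXi hsq
  have key := AlgSp.h5_isLocalOnBase_diagonal (S := S) (MorphismProperty.isomorphisms Scheme.{u})
    (fun e _ W c hT hW hfl hs h => AlgSp.h5_of_finite_fpqc_family _ e W c hT hW hfl hs h)
    Yi g hY hYi hcov f hX Xi p q hXi hsq
  show Mono f ↔ ∀ i, Mono (p i)
  rw [AlgSp.h5_mono_iff_repWith_iso_diagonal f]
  refine key.trans ?_
  exact forall_congr' (fun i => (AlgSp.h5_mono_iff_repWith_iso_diagonal (p i)).symm)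

end Groth.Agent.S10546
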