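import Groth.Statements.S10548
import Mathlib
import Groth.Agent.Lib.helper5.AlgSpLocPInst
import Groth.Agent.Lib.helper5.AlgSpQc
import Groth.Agent.Lib.helper5.SchFlatSrc

set_option autoImplicit false
universe u
open CategoryTheory CategoryTheory.Limits AlgebraicGeometry
open AlgSp

namespace Groth.Agent.S10548

open Groth.Agent.Lib.helper5 in
theorem flat_stalk_of_comp {X Y Z : Scheme.{u}} (p : X ⟶ Y) (g : Y ⟶ Z) [Flat p]
    [Flat (p ≫ g)] (x : X) : (g.stalkMap (p x)).hom.Flat := by
  have h1 : ((p ≫ g).stalkMap x).hom.Flat := Flat.stalkMap (p ≫ g) x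
  rw [Scheme.Hom.stalkMap_comp] at h1
  have h2 : (p.stalkMap x).hom.Flat := Flat.stalkMap p x
  have h3 : (p.stalkMap x).hom.FaithfullyFlat := by
    algebraize [(p.stalkMap x).hom]
    exact @Module.FaithfullyFlat.of_flat_of_isLocalHom _ _ _ _ _ _ _ h2 (p.toLRSHom.prop x)
  exact h5_ringHom_flat_of_comp _ _ h3 h1


/-- The property of morphisms of algebraic spaces over S given by f is flat (on etale charts) is fpqc
local on the source: for a morphism f : X ⟶ Y of algebraic spaces and a fpqc covering of X by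
algebraic spaces X_i, f has the property if and only if every composite X_i ⟶ X ⟶ Y has it. -/
theorem result (S : Scheme.{u}) :
    AlgSp.IsLocalOnSource (AlgSp.IsFpqcCover (S := S)) (AlgSp.LocP @Flat) := by
  intro ι X Xi g hX hXi hcov Y f hY
  obtain ⟨hfl, hc⟩ := hcov
  constructor
  · intro hf i
    exact AlgSp.h5_locP_comp AlgSp.h5_good_flat (hXi i) hX hY (g i) f (hfl i) hf
  · intro hgf U V a b h ha hb comm
    have key : ∀ u : ↥U.left, ∃ (U' : Scheme.{u}) (p : U' ⟶ U.left) (u' : ↥U'),
        p u' = u ∧ Flat p ∧ Flat (p ≫ h.left) := by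
      intro u
      obtain ⟨W0, hW0mem, huW0, -⟩ := (U.left.isBasis_affineOpens).exists_subset_of_mem_open
        (Set.mem_univ u) isOpen_univ
      obtain ⟨Z0, hZ0, rfl⟩ := hW0mem
      let Z' : U.left.Opens := Z0
      have hZaff : IsAffine (AlgSp.h5_openOver U Z').left := hZ0
      obtain ⟨m, W, c, hWaff, hflat, hsurj, hlift⟩ := hc (AlgSp.h5_openOver U Z') hZaff
        ((AlgSp.yon S).map (AlgSp.h5_openOverι U Z') ≫ a)
      obtain ⟨j, w, hw⟩ := hsurj ⟨u, huW0⟩
      obtain ⟨i, l, hl⟩ := hlift j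
      have sqi := IsPullback.of_hasPullback a (g i)
      have hUi : AlgSp.IsAlgSpace (pullback a (g i)) :=
        AlgSp.h5_isAlgSpace_of_isPullback hX.diag (AlgSp.IsAlgSpace.yon_obj U) (hXi i) sqi
      obtain ⟨U', ai, haie, hais⟩ := hUi.atlas
      obtain ⟨p, hp⟩ := (AlgSp.yon S).map_surjective (ai ≫ pullback.fst a (g i))
      have hπ₁ : AlgSp.LocP @Flat (pullback.fst a (g i)) :=
        AlgSp.h5_locP_baseChange AlgSp.h5_good_flat (hXi i) hX (AlgSp.IsAlgSpace.yon_obj U)
          sqi.flip (hfl i)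
      have hpflat : Flat p.left :=
        hπ₁ ai (𝟙 _) p haie (AlgSp.repWith_id _ U) (by rw [hp, Category.comp_id])
      have hπ₂ : AlgSp.RepWith @Etale (pullback.snd a (g i)) :=
        MorphismProperty.of_isPullback (P := AlgSp.RepWith @Etale) sqi ha
      have ha' : AlgSp.RepWith @Etale (ai ≫ pullback.snd a (g i)) :=
        (AlgSp.RepWith @Etale).comp_mem _ _ haie hπ₂
      have hphflat : Flat (p.left ≫ h.left) := by
        have e1 : pullback.snd a (g i) ≫ g i ≫ f =
            pullback.fst a (g i) ≫ (AlgSp.yon S).map h ≫ b := by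
          rw [← Category.assoc, ← sqi.w, Category.assoc, comm]
        have := hgf i (ai ≫ pullback.snd a (g i)) b (p ≫ h) ha' hb (by
          rw [Category.assoc, e1, (AlgSp.yon S).map_comp, hp]
          simp only [Category.assoc])
        exact this
      obtain ⟨q, hq⟩ : ∃ q : W j ⟶ U, q = c j ≫ AlgSp.h5_openOverι U Z' := ⟨_, rfl⟩
      have hcomm : (AlgSp.yon S).map q ≫ a = l ≫ g i := by
        rw [hq, (AlgSp.yon S).map_comp, Category.assoc]; exact hl.symm
      obtain ⟨lam, hlam1, -⟩ : ∃ lam : (AlgSp.yon S).obj (W j) ⟶ pullback a (g i),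
          lam ≫ pullback.fst a (g i) = (AlgSp.yon S).map q ∧ lam ≫ pullback.snd a (g i) = l :=
        ⟨sqi.lift _ _ hcomm, sqi.lift_fst _ _ _, sqi.lift_snd _ _ _⟩
      have hs := hais.rep.isPullback lam
      have hss : Surjective (hais.rep.snd lam).left := hais.property_snd _
      obtain ⟨r, hr⟩ := (AlgSp.yon S).map_surjective (hais.rep.fst lam)
      have hrp : r ≫ p = hais.rep.snd lam ≫ q := by
        apply (AlgSp.yon S).map_injective
        rw [(AlgSp.yon S).map_comp, (AlgSp.yon S).map_comp (hais.rep.snd lam),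
          hr, hp, ← Category.assoc, hs.w, Category.assoc, hlam1]
      obtain ⟨w'', hw''⟩ := hss.surj w
      refine ⟨U'.left, p.left, r.left w'', ?_, hpflat, hphflat⟩
      have e := congrArg (fun q => q.left w'') hrp
      simp only [Over.comp_left, Scheme.Hom.comp_apply] at e
      rw [e, hw'', hq]
      simp only [Over.comp_left, Scheme.Hom.comp_apply]
      rw [hw]
      rfl
    rw [Flat.iff_flat_stalkMap]
    intro u
    obtain ⟨U', p, u', rfl, hp, hph⟩ := key u
    exact flat_stalk_of_comp p h.left u'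

end Groth.Agent.S10548
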