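import Groth.Statements.S10552
import Mathlib
import Groth.Agent.Lib.helper5.AlgSpFlatOpen

set_option autoImplicit false
universe u
open CategoryTheory CategoryTheory.Limits AlgebraicGeometry
open AlgSp

namespace Groth.Agent.S10552

/-- The property of morphisms of algebraic spaces over S given by f is universally open (every base
change along a morphism from an algebraic space is open on points) is fppf local on the source: for
a morphism f : X ⟶ Y of algebraic spaces and a fppf covering of X by algebraic spaces X_i, f has the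
property if and only if every composite X_i ⟶ X ⟶ Y has it. -/
theorem result (S : Scheme.{u}) :
    AlgSp.IsLocalOnSource (AlgSp.IsFppfCover (S := S)) AlgSp.IsUnivOpenMor := by
  intro ι X Xi g hX hXi hcov Y f hY
  obtain ⟨hP, hsurj⟩ := hcov
  constructor
  · intro hf i Z Z' hZ t fst snd sq0
    have hu := AlgSp.h5_isUnivOpenMor_of_flat_lfp (hXi i) hX (g i) (hP i).1 (hP i).2
    have sq1 := IsPullback.of_hasPullback f t
    have hZ1 : AlgSp.IsAlgSpace (pullback f t) :=
      AlgSp.h5_isAlgSpace_of_isPullback hY.diag hX hZ sq1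
    have hw : (fst ≫ g i) ≫ f = snd ≫ t := by rw [Category.assoc]; exact sq0.w
    have hl1 : sq1.lift (fst ≫ g i) snd hw ≫ pullback.fst f t = fst ≫ g i := sq1.lift_fst _ _ _
    have hl2 : sq1.lift (fst ≫ g i) snd hw ≫ pullback.snd f t = snd := sq1.lift_snd _ _ _
    have sq2 : IsPullback (sq1.lift (fst ≫ g i) snd hw) fst (pullback.fst f t) (g i) := by
      refine IsPullback.of_right ?_ hl1 sq1.flip
      rw [hl2]
      exact sq0.flip
    have ho1 : IsOpenMap (AlgSp.Points.map (sq1.lift (fst ≫ g i) snd hw)) :=
      hu hZ1 _ _ _ sq2.flip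
    have ho2 : IsOpenMap (AlgSp.Points.map (pullback.snd f t)) := hf hZ t _ _ sq1
    show IsOpenMap (AlgSp.Points.map snd)
    have e : AlgSp.Points.map snd = AlgSp.Points.map (pullback.snd f t) ∘
        AlgSp.Points.map (sq1.lift (fst ≫ g i) snd hw) := by
      have e0 := funext (AlgSp.Points.map_comp (sq1.lift (fst ≫ g i) snd hw) (pullback.snd f t))
      rw [hl2] at e0
      exact e0
    rw [e]
    exact IsOpenMap.comp ho2 ho1
  · intro h Z Z1 hZ t p1 p2 sq
    have hopen : ∀ i, IsOpenMap (AlgSp.Points.map (pullback.snd (g i) p1 ≫ p2)) := by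
      intro i
      have sqi := (IsPullback.of_hasPullback (g i) p1).flip.paste_horiz sq.flip
      exact h i hZ t _ _ sqi.flip
    intro W hW
    have e : AlgSp.Points.map p2 '' W = ⋃ i, AlgSp.Points.map (pullback.snd (g i) p1 ≫ p2) ''
        (AlgSp.Points.map (pullback.snd (g i) p1) ⁻¹' W) := by
      ext y
      simp only [Set.mem_image, Set.mem_iUnion, Set.mem_preimage]
      constructor
      · rintro ⟨z1, hz1, rfl⟩
        obtain ⟨i, xi, hxi⟩ := hsurj (AlgSp.Points.map p1 z1)
        obtain ⟨p, -, hp⟩ := AlgSp.h5_points_exists_of_isPullback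
          (IsPullback.of_hasPullback (g i) p1) xi z1 hxi
        refine ⟨i, p, by rw [hp]; exact hz1, ?_⟩
        rw [AlgSp.Points.map_comp, hp]
      · rintro ⟨i, p, hp, rfl⟩
        exact ⟨_, hp, (AlgSp.Points.map_comp _ _ _).symm⟩
    rw [e]
    exact isOpen_iUnion fun i => hopen i _ (hW.preimage (AlgSp.Points.continuous_map _))

end Groth.Agent.S10552
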