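import Groth.Statements.S10561
import Mathlib
import Groth.Agent.Lib.helper5.SchReduced
import Groth.Agent.Lib.helper5.AlgSpChartSq
import Groth.Agent.Lib.helper5.SchSrcDesc

set_option autoImplicit false
universe u
open CategoryTheory CategoryTheory.Limits AlgebraicGeometry
open AlgSp

namespace Groth.Agent.S10561

/-- Let f : X ⟶ Y be a flat and surjective morphism of algebraic spaces over S. If X is reduced then Y
is reduced. -/
theorem result {S : Scheme.{u}} {X Y : AlgSp.Space S} (f : X ⟶ Y)
    (hfl : AlgSp.LocP @Flat f.hom) (hs : AlgSp.IsSurjectiveMor f.hom) (hX : AlgSp.IsReducedSp X.obj) :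
    AlgSp.IsReducedSp Y.obj := by
  obtain ⟨U, p, hpe, hps, hU⟩ := hX
  obtain ⟨V, q, hqe, hqs⟩ := Y.property.atlas
  refine ⟨V, q, hqe, hqs, ?_⟩
  obtain ⟨W, a, b, hae, sq, -⟩ := AlgSp.h5_chart_square (p ≫ f.hom) q hqe
  haveI := hae
  haveI : IsReduced U.left := hU
  haveI : IsReduced W.left := Groth.Agent.Lib.helper5.h5_isReduced_of_smooth_hom a.left
  haveI : Flat b.left :=
    hfl ((AlgSp.yon S).map a ≫ p) q b
      ((AlgSp.RepWith @Etale).comp_mem _ _ ((AlgSp.repWith_yon_map_iff _ _).2 hae) hpe) hqe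
      (by rw [Category.assoc]; exact sq.w.symm)
  haveI : Surjective b.left := AlgSp.h5_chart_square_surjective f.hom hs p hps q sq
  exact Groth.Agent.Lib.helper5.h5_isReduced_of_flat_surjective b.left

end Groth.Agent.S10561
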