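import Groth.Statements.S10562
import Mathlib
import Groth.Agent.Lib.helper5.SchReduced
import Groth.Agent.Lib.helper5.AlgSpChartSq
import Groth.Agent.Lib.helper5.SchSrcDesc

set_option autoImplicit false
universe u
open CategoryTheory CategoryTheory.Limits AlgebraicGeometry
open AlgSp

namespace Groth.Agent.S10562

/-- Let f : X ⟶ Y be a morphism of algebraic spaces over S which is locally of finite presentation, flat
and surjective. If X is locally Noetherian then Y is locally Noetherian. -/
theorem result {S : Scheme.{u}} {X Y : AlgSp.Space S} (f : X ⟶ Y)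
    (hfp : AlgSp.LocP @LocallyOfFinitePresentation f.hom) (hfl : AlgSp.LocP @Flat f.hom)
    (hs : AlgSp.IsSurjectiveMor f.hom) (hX : AlgSp.IsLocNoethSp X.obj) :
    AlgSp.IsLocNoethSp Y.obj := by
  obtain ⟨U, p, hpe, hps, hU⟩ := hX
  obtain ⟨V, q, hqe, hqs⟩ := Y.property.atlas
  refine ⟨V, q, hqe, hqs, ?_⟩
  obtain ⟨W, a, b, hae, sq, -⟩ := AlgSp.h5_chart_square (p ≫ f.hom) q hqe
  haveI := hae
  haveI : IsLocallyNoetherian U.left := hU
  haveI : IsLocallyNoetherian W.left := LocallyOfFiniteType.isLocallyNoetherian a.left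
  have hchart : AlgSp.RepWith @Etale ((AlgSp.yon S).map a ≫ p) :=
    (AlgSp.RepWith @Etale).comp_mem _ _ ((AlgSp.repWith_yon_map_iff _ _).2 hae) hpe
  have hcomm : ((AlgSp.yon S).map a ≫ p) ≫ f.hom = (AlgSp.yon S).map b ≫ q := by
    rw [Category.assoc]; exact sq.w.symm
  haveI : Flat b.left := hfl _ q b hchart hqe hcomm
  haveI : LocallyOfFinitePresentation b.left := hfp _ q b hchart hqe hcomm
  haveI : Surjective b.left := AlgSp.h5_chart_square_surjective f.hom hs p hps q sq
  exact Groth.Agent.Lib.helper5.h5_isLocallyNoetherian_of_flat_surjective b.left b.left.isOpenMap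

end Groth.Agent.S10562
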