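import Groth.Statements.S10564
import Mathlib
import Groth.Agent.Lib.helper5.SchReduced
import Groth.Agent.Lib.helper5.AlgSpChartSq
import Groth.Agent.Lib.helper5.SchSrcDesc

set_option autoImplicit false
universe u
open CategoryTheory CategoryTheory.Limits AlgebraicGeometry
open AlgSp

namespace Groth.Agent.S10564

/-- For a smooth morphism f : X ⟶ Y of algebraic spaces over S, reducedness of Y implies reducedness of
X, and when f is moreover surjective, reducedness of X implies reducedness of Y. -/
theorem result {S : Scheme.{u}} {X Y : AlgSp.Space S} (f : X ⟶ Y) (hf : AlgSp.LocP @Smooth f.hom) :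
    (AlgSp.IsReducedSp Y.obj → AlgSp.IsReducedSp X.obj) ∧
    (AlgSp.IsSurjectiveMor f.hom → AlgSp.IsReducedSp X.obj → AlgSp.IsReducedSp Y.obj) := by
  constructor
  · rintro ⟨V, q, hqe, hqs, hV⟩
    obtain ⟨U, p, hpe, hps⟩ := X.property.atlas
    refine ⟨U, p, hpe, hps, ?_⟩
    obtain ⟨W, a, b, hae, sq, has⟩ := AlgSp.h5_chart_square (p ≫ f.hom) q hqe
    haveI := hae
    haveI := has hqs
    haveI : IsReduced V.left := hV
    haveI : Smooth b.left :=
      hf ((AlgSp.yon S).map a ≫ p) q b
        ((AlgSp.RepWith @Etale).comp_mem _ _ ((AlgSp.repWith_yon_map_iff _ _).2 hae) hpe) hqe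
        (by rw [Category.assoc]; exact sq.w.symm)
    haveI : IsReduced W.left := Groth.Agent.Lib.helper5.h5_isReduced_of_smooth_hom b.left
    exact Groth.Agent.Lib.helper5.h5_isReduced_of_flat_surjective a.left
  · rintro hs ⟨U, p, hpe, hps, hU⟩
    obtain ⟨V, q, hqe, hqs⟩ := Y.property.atlas
    refine ⟨V, q, hqe, hqs, ?_⟩
    obtain ⟨W, a, b, hae, sq, -⟩ := AlgSp.h5_chart_square (p ≫ f.hom) q hqe
    haveI := hae
    haveI : IsReduced U.left := hU
    haveI : IsReduced W.left := Groth.Agent.Lib.helper5.h5_isReduced_of_smooth_hom a.left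
    haveI : Smooth b.left :=
      hf ((AlgSp.yon S).map a ≫ p) q b
        ((AlgSp.RepWith @Etale).comp_mem _ _ ((AlgSp.repWith_yon_map_iff _ _).2 hae) hpe) hqe
        (by rw [Category.assoc]; exact sq.w.symm)
    haveI : Surjective b.left := AlgSp.h5_chart_square_surjective f.hom hs p hps q sq
    exact Groth.Agent.Lib.helper5.h5_isReduced_of_flat_surjective b.left

end Groth.Agent.S10564
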