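import Groth.Statements.S10573
import Mathlib
import Groth.Agent.Lib.helper5.AlgSpFpqc

set_option autoImplicit false
universe u
open CategoryTheory CategoryTheory.Limits AlgebraicGeometry
open AlgSp

namespace Groth.Agent.S10573

/-- Let {g_i : T_i ⟶ T} be a family of algebraic spaces over S forming an fpqc covering, and let W_i ⊂
|T_i| be open subsets (open subspaces) such that for all i, j the two projections T_i ×_T T_j ⟶ T_i,
T_j pull W_i and W_j back to the same subset of |T_i ×_T T_j|. Then there is a unique open subset W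
⊂ |T| with g_i⁻¹(W) = W_i for every i. -/
theorem result {S : Scheme.{u}} {ι : Type u} {T : AlgSp.Space S}
    (Ti : ι → AlgSp.Space S) (g : ∀ i, Ti i ⟶ T)
    (hg : AlgSp.IsFpqcCover (fun i => (Ti i).obj) (fun i => (g i).hom))
    (Wi : ∀ i, Set (AlgSp.Points (Ti i).obj)) (hW : ∀ i, IsOpen (Wi i))
    (hc : ∀ i j, AlgSp.Points.map (pullback.fst (g i).hom (g j).hom) ⁻¹' Wi i =
      AlgSp.Points.map (pullback.snd (g i).hom (g j).hom) ⁻¹' Wi j) :
    ∃! W : TopologicalSpace.Opens (AlgSp.Points T.obj), ∀ i, AlgSp.Points.map (g i).hom ⁻¹' (W : Set (AlgSp.Points T.obj)) = Wi i := by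
  obtain ⟨κ, Tk, t, hsub, -, hl⟩ := AlgSp.h5_exists_submFam_of_isFpqcCover
    (fun i => (Ti i).obj) (fun i => (g i).hom) hg T.property (𝟙 T.obj)
  let W : Set (AlgSp.Points T.obj) := ⋃ i, AlgSp.Points.map (g i).hom '' Wi i
  have h1 : ∀ i, AlgSp.Points.map (g i).hom ⁻¹' W = Wi i := by
    intro i
    apply Set.Subset.antisymm
    · intro ti hti
      obtain ⟨j, tj, htj, e⟩ := Set.mem_iUnion.1 hti
      obtain ⟨z, hz1, hz2⟩ := AlgSp.h5_points_exists_of_isPullback
        (IsPullback.of_hasPullback (g i).hom (g j).hom) ti tj e.symm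
      have hz : z ∈ AlgSp.Points.map (pullback.snd (g i).hom (g j).hom) ⁻¹' Wi j := by
        change AlgSp.Points.map _ z ∈ Wi j
        rw [hz2]; exact htj
      rw [← hc i j] at hz
      change AlgSp.Points.map _ z ∈ Wi i at hz
      rwa [hz1] at hz
    · intro ti hti
      exact Set.mem_iUnion.2 ⟨i, ti, hti, rfl⟩
  have hWopen : IsOpen W := by
    apply hsub.2
    intro a
    obtain ⟨i, l, hla⟩ := hl a
    rw [Category.comp_id] at hla
    have e : AlgSp.Points.map (t a) ⁻¹' W = AlgSp.Points.map l ⁻¹' (Wi i) := by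
      rw [← hla, ← h1 i]
      ext x
      simp only [Set.mem_preimage, AlgSp.Points.map_comp]
    rw [e]
    exact (hW i).preimage (AlgSp.Points.continuous_map l)
  have hsurj : ∀ z : AlgSp.Points T.obj, ∃ i ti, AlgSp.Points.map (g i).hom ti = z := by
    intro z
    obtain ⟨a, x, rfl⟩ := hsub.1 z
    obtain ⟨i, l, hla⟩ := hl a
    rw [Category.comp_id] at hla
    exact ⟨i, AlgSp.Points.map l x, by rw [← AlgSp.Points.map_comp, hla]⟩
  refine ⟨⟨W, hWopen⟩, h1, ?_⟩
  intro W' hW'
  ext z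
  obtain ⟨i, ti, rfl⟩ := hsurj z
  have e1 : AlgSp.Points.map (g i).hom ti ∈ (W' : Set (AlgSp.Points T.obj)) ↔ ti ∈ Wi i := by
    rw [← hW' i]; rfl
  have e2 : AlgSp.Points.map (g i).hom ti ∈ W ↔ ti ∈ Wi i := by
    rw [← h1 i]; rfl
  exact e1.trans e2.symm

end Groth.Agent.S10573
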