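import Groth.Statements.S10659
import Mathlib
import Groth.Agent.Lib.helper5.AlgSpChartSq

set_option autoImplicit false
universe u
open CategoryTheory CategoryTheory.Limits AlgebraicGeometry
open AlgSp

namespace Groth.Agent.S10659

theorem h5_P_of_etale_surjective (P : MorphismProperty Scheme.{u})
    [P.IsLocalAtTarget Scheme.etalePrecoverage]
    {W' V' V'' : Scheme.{u}} (s : W' ⟶ V') (a : V'' ⟶ V') [Etale a] [Surjective a]
    (h : P (pullback.snd s a)) : P s := by
  refine MorphismProperty.IsLocalAtTarget.of_forall_pullbackSnd (K := Scheme.etalePrecoverage)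
    (R := Presieve.singleton a) ?_ ?_
  · rw [Scheme.etalePrecoverage, Scheme.singleton_mem_precoverage_iff]
    exact ⟨a.surjective, inferInstance⟩
  · intro U g _ hg
    obtain ⟨⟩ := hg
    exact h

theorem h5_P_pullbackSnd_of_etale (P : MorphismProperty Scheme.{u})
    [P.IsLocalAtTarget Scheme.etalePrecoverage]
    {W V V'' : Scheme.{u}} (s : W ⟶ V) (c : V'' ⟶ V) [Etale c] (h : P s) :
    P (pullback.snd s c) := by
  refine MorphismProperty.IsLocalAtTarget.pullbackSnd (K := Scheme.etalePrecoverage)
    (R := Presieve.ofArrows (fun b : Bool => cond b V'' V)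
      (fun b => Bool.rec (motive := fun b => cond b V'' V ⟶ V) (𝟙 V) c b)) ?_ ?_ h
  · rw [Scheme.etalePrecoverage, Scheme.ofArrows_mem_precoverage_iff]
    refine ⟨fun x => ⟨false, x, rfl⟩, fun b => ?_⟩
    cases b
    · exact (inferInstance : Etale (𝟙 V))
    · exact (inferInstance : Etale c)
  · exact Presieve.ofArrows.mk (Y := fun b : Bool => cond b V'' V)
      (f := fun b => Bool.rec (motive := fun b => cond b V'' V ⟶ V) (𝟙 V) c b) true

theorem h5_P_of_isPullback_etale (P : MorphismProperty Scheme.{u})
    [P.IsLocalAtTarget Scheme.etalePrecoverage]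
    {A W V V'' : Scheme.{u}} {p : A ⟶ W} {q : A ⟶ V''} {s : W ⟶ V} {c : V'' ⟶ V}
    (sq : IsPullback p q s c) [Etale c] (h : P s) : P q := by
  rw [← sq.isoPullback_hom_snd]
  exact (P.cancel_left_of_respectsIso _ _).2 (h5_P_pullbackSnd_of_etale P s c h)

theorem h5_P_of_isPullback_etale_surjective (P : MorphismProperty Scheme.{u})
    [P.IsLocalAtTarget Scheme.etalePrecoverage]
    {A W V V'' : Scheme.{u}} {p : A ⟶ W} {q : A ⟶ V''} {s : W ⟶ V} {c : V'' ⟶ V}
    (sq : IsPullback p q s c) [Etale c] [Surjective c] (h : P q) : P s := by
  apply h5_P_of_etale_surjective P s c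
  rw [← sq.isoPullback_hom_snd] at h
  exact (P.cancel_left_of_respectsIso _ _).1 h

/-- For a property P of morphisms of schemes that is etale local on the target (local for the etale
precoverage) and a representable morphism f : X ⟶ Y of algebraic spaces over S: if for one scheme V
with a representable etale surjective b : h_V ⟶ Y and one pullback square of f along b with corner
h_W the projection W ⟶ V has P, then f has P etale locally on the target in the representable sense,
i.e. every such projection along every etale h_V ⟶ Y has P. (The published statement also asserts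
the converse direction and that, for X and Y representable, the condition is equivalent to f having
P; this row states only that one surjective etale chart suffices.) -/
theorem result {S : Scheme.{u}} (P : MorphismProperty Scheme.{u}) [P.IsLocalAtTarget Scheme.etalePrecoverage]
    {X Y : AlgSp.Space S} (f : X ⟶ Y) (hf : AlgSp.Representable f.hom)
    {V W : Over S} (b : (AlgSp.yon S).obj V ⟶ Y.obj) (hb1 : AlgSp.RepWith @Etale b) (hb2 : AlgSp.RepWith @Surjective b)
    (fst : (AlgSp.yon S).obj W ⟶ X.obj) (snd : W ⟶ V)
    (sq : IsPullback fst ((AlgSp.yon S).map snd) f.hom b) (hP : P snd.left) :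
    AlgSp.RepLocT P f.hom := by
  refine ⟨hf, fun V' W' b' fst' snd' hb' sq' => ?_⟩
  obtain ⟨V'', a, c, hae, sqV, has⟩ := AlgSp.h5_chart_square b' b hb1
  haveI := hae
  haveI : Surjective a.left := has hb2
  haveI hce : Etale c.left := hb'.property b _ _ sqV.flip
  haveI : Etale ((Over.forget S).map c) := hce
  haveI : Etale ((Over.forget S).map a) := hae
  haveI : Surjective ((Over.forget S).map a) := has hb2
  have sq1 : IsPullback (pullback.fst snd c) (pullback.snd snd c) snd c :=
    IsPullback.of_hasPullback _ _
  have sq2 : IsPullback (pullback.fst snd' a) (pullback.snd snd' a) snd' a :=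
    IsPullback.of_hasPullback _ _
  have big1 := (sq1.map (AlgSp.yon S)).paste_horiz sq
  have big2 := (sq2.map (AlgSp.yon S)).paste_horiz sq'
  rw [sqV.w] at big1
  have he := IsPullback.isoIsPullback_hom_snd _ _ big1 big2
  set e := IsPullback.isoIsPullback _ _ big1 big2 with he_def
  have he' : ((AlgSp.yon S).preimageIso e).hom ≫ pullback.snd snd' a = pullback.snd snd c := by
    apply (AlgSp.yon S).map_injective
    rw [CategoryTheory.Functor.map_comp, Functor.preimageIso_hom, Functor.map_preimage]
    exact he
  have h1 : P (pullback.snd snd c).left :=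
    h5_P_of_isPullback_etale P (p := (pullback.fst snd c).left) (q := (pullback.snd snd c).left)
      (s := snd.left) (c := c.left) (sq1.map (Over.forget S)) hP
  have h2 : P (pullback.snd snd' a).left := by
    rw [← he', Over.comp_left] at h1
    haveI : IsIso ((AlgSp.yon S).preimageIso e).hom.left :=
      (inferInstance : IsIso ((Over.forget S).map ((AlgSp.yon S).preimageIso e).hom))
    exact (P.cancel_left_of_respectsIso _ _).1 h1
  exact h5_P_of_isPullback_etale_surjective P (p := (pullback.fst snd' a).left)
    (q := (pullback.snd snd' a).left) (s := snd'.left) (c := a.left) (sq2.map (Over.forget S)) h2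

end Groth.Agent.S10659
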