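import Groth.Statements.S10702
import Mathlib
import Mathlib
import Groth.Agent.Lib.helper5.AlgSpPts
import Groth.Agent.Lib.helper5.AlgSpMono
import Groth.Agent.Lib.helper5.AlgSpPb

set_option autoImplicit false
universe u
open CategoryTheory CategoryTheory.Limits AlgebraicGeometry
open AlgSp

namespace Groth.Agent.S10702

variable {S : Scheme.{u}}

theorem h5_epi_baseChange {B D : AlgSp.Sp S} (hB : AlgSp.IsAlgSpace B) (bd : B ⟶ D)
    (hs : AlgSp.IsSurjectiveMor bd) (he : AlgSp.IsEtaleMor bd) {W Q : AlgSp.Sp S} (w : W ⟶ D)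
    (p1 : Q ⟶ W) (p2 : Q ⟶ B) (sq : IsPullback p1 p2 w bd) : Epi p1 := by
  obtain ⟨U, φ, hφe, hφs⟩ := hB.atlas
  have h1 : AlgSp.RepWith @Etale (φ ≫ bd) := he φ hφe
  have hφsurj : Function.Surjective (AlgSp.Points.map φ) :=
    (AlgSp.h5_repWith_surjective_iff φ hφe.rep).1 hφs
  have h2 : AlgSp.RepWith @Surjective (φ ≫ bd) := by
    rw [AlgSp.h5_repWith_surjective_iff _ h1.rep]
    intro y
    obtain ⟨b, rfl⟩ := hs y
    obtain ⟨x, rfl⟩ := hφsurj b
    exact ⟨x, AlgSp.Points.map_comp φ bd x⟩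
  have sq' := IsPullback.of_hasPullback w (φ ≫ bd)
  have h3 : AlgSp.RepWith @Etale (pullback.fst w (φ ≫ bd)) :=
    MorphismProperty.of_isPullback (P := AlgSp.RepWith @Etale) sq'.flip h1
  have h4 : AlgSp.RepWith @Surjective (pullback.fst w (φ ≫ bd)) :=
    MorphismProperty.of_isPullback (P := AlgSp.RepWith @Surjective) sq'.flip h2
  haveI : Epi (pullback.fst w (φ ≫ bd)) := AlgSp.h5_epi_of_repWith_etale_surjective _ h3 h4
  have hfac : sq.lift (pullback.fst w (φ ≫ bd)) (pullback.snd w (φ ≫ bd) ≫ φ)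
      (by rw [Category.assoc]; exact sq'.w) ≫ p1 = pullback.fst w (φ ≫ bd) := sq.lift_fst _ _ _
  exact epi_of_epi_fac hfac

/-- Consider a commutative diagram of algebraic spaces over `S` with top row `A → C → E`, bottom row `B
→ D → F` and vertical maps `A → B`, `C → D`, `E → F`. If the left square and the outer rectangle are
cartesian and `B → D` is surjective etale, then the right square is cartesian. -/
theorem result {S : Scheme.{u}} {A B C D E F : AlgSp.Space S} (ac : A ⟶ C) (ab : A ⟶ B)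
    (cd : C ⟶ D) (bd : B ⟶ D) (ce : C ⟶ E) (df : D ⟶ F) (ef : E ⟶ F)
    (hl : IsPullback ac.hom ab.hom cd.hom bd.hom) (hcomm : cd ≫ df = ce ≫ ef)
    (hout : IsPullback (ac ≫ ce).hom ab.hom ef.hom (bd ≫ df).hom) (hsurj : AlgSp.IsSurjectiveMor bd.hom)
    (het : AlgSp.IsEtaleMor bd.hom) : IsPullback ce.hom cd.hom ef.hom df.hom := by
  have hw : ce.hom ≫ ef.hom = cd.hom ≫ df.hom := by
    have := congrArg (fun m => m.hom) hcomm
    exact this.symm
  let k : C.obj ⟶ pullback ef.hom df.hom := pullback.lift ce.hom cd.hom hw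
  have hk1 : k ≫ pullback.fst ef.hom df.hom = ce.hom := pullback.lift_fst _ _ _
  have hk2 : k ≫ pullback.snd ef.hom df.hom = cd.hom := pullback.lift_snd _ _ _
  have hace : (ac ≫ ce).hom = ac.hom ≫ ce.hom := rfl
  have hbdf : (bd ≫ df).hom = bd.hom ≫ df.hom := rfl
  -- mono
  have hmono : Mono k := by
    constructor
    intro W x y hxy
    have h1 : x ≫ ce.hom = y ≫ ce.hom := by
      rw [← hk1, ← Category.assoc, hxy, Category.assoc]
    have h2 : x ≫ cd.hom = y ≫ cd.hom := by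
      rw [← hk2, ← Category.assoc, hxy, Category.assoc]
    have sqQ := IsPullback.of_hasPullback (x ≫ cd.hom) bd.hom
    haveI : Epi (pullback.fst (x ≫ cd.hom) bd.hom) :=
      h5_epi_baseChange B.property bd.hom hsurj het _ _ _ sqQ
    obtain ⟨x', hx1, hx2⟩ : ∃ l : pullback (x ≫ cd.hom) bd.hom ⟶ A.obj,
        l ≫ ac.hom = pullback.fst (x ≫ cd.hom) bd.hom ≫ x ∧
        l ≫ ab.hom = pullback.snd (x ≫ cd.hom) bd.hom :=
      ⟨hl.lift (pullback.fst (x ≫ cd.hom) bd.hom ≫ x) (pullback.snd (x ≫ cd.hom) bd.hom)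
        (by rw [Category.assoc]; exact sqQ.w), hl.lift_fst _ _ _, hl.lift_snd _ _ _⟩
    obtain ⟨y', hy1, hy2⟩ : ∃ l : pullback (x ≫ cd.hom) bd.hom ⟶ A.obj,
        l ≫ ac.hom = pullback.fst (x ≫ cd.hom) bd.hom ≫ y ∧
        l ≫ ab.hom = pullback.snd (x ≫ cd.hom) bd.hom :=
      ⟨hl.lift (pullback.fst (x ≫ cd.hom) bd.hom ≫ y) (pullback.snd (x ≫ cd.hom) bd.hom)
        (by rw [Category.assoc, ← h2]; exact sqQ.w), hl.lift_fst _ _ _, hl.lift_snd _ _ _⟩
    have hxy' : x' = y' := by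
      apply hout.hom_ext
      · rw [hace, ← Category.assoc, hx1, ← Category.assoc, hy1, Category.assoc, Category.assoc, h1]
      · rw [hx2, hy2]
    rw [← cancel_epi (pullback.fst (x ≫ cd.hom) bd.hom), ← hx1, ← hy1, hxy']
  -- epi
  have hepi : Epi k := by
    have sqQ := IsPullback.of_hasPullback (pullback.snd ef.hom df.hom) bd.hom
    haveI : Epi (pullback.fst (pullback.snd ef.hom df.hom) bd.hom) :=
      h5_epi_baseChange B.property bd.hom hsurj het _ _ _ sqQ
    obtain ⟨a, ha1, ha2⟩ : ∃ l : pullback (pullback.snd ef.hom df.hom) bd.hom ⟶ A.obj,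
        l ≫ (ac ≫ ce).hom = pullback.fst (pullback.snd ef.hom df.hom) bd.hom ≫
          pullback.fst ef.hom df.hom ∧
        l ≫ ab.hom = pullback.snd (pullback.snd ef.hom df.hom) bd.hom :=
      ⟨hout.lift (pullback.fst (pullback.snd ef.hom df.hom) bd.hom ≫ pullback.fst ef.hom df.hom)
        (pullback.snd (pullback.snd ef.hom df.hom) bd.hom)
        (by rw [Category.assoc, pullback.condition, hbdf, ← Category.assoc, sqQ.w,
          Category.assoc]), hout.lift_fst _ _ _, hout.lift_snd _ _ _⟩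
    have hfac : (a ≫ ac.hom) ≫ k = pullback.fst (pullback.snd ef.hom df.hom) bd.hom := by
      apply pullback.hom_ext
      · rw [Category.assoc, Category.assoc, hk1, ← ha1, hace]
      · rw [Category.assoc, Category.assoc, hk2, hl.w, ← Category.assoc, ha2, sqQ.w]
    exact epi_of_epi_fac hfac
  haveI : IsIso k := Balanced.isIso_of_mono_of_epi k
  exact IsPullback.of_iso_pullback ⟨hw⟩ (asIso k) hk1 hk2

end Groth.Agent.S10702
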