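import Groth.Statements.S10825
import Mathlib
import Groth.Agent.Lib.helper5.TopDim2

set_option autoImplicit false
universe u
open Topology
open CAlg

namespace Groth.Agent.S10825

/-- Let A → B be an injective integral homomorphism of integral domains with fraction fields K and L, L
a finite extension of K, and A integrally closed. For b in B the norm N_{L/K}(b) lies in A; if a
denotes this element of A, then the image of the closed set V(b) of Spec B under Spec B → Spec A is
exactly V(a), and V(b) and V(a) have the same dimension. -/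
theorem result
    (A B K L : Type u) [CommRing A] [IsDomain A] [CommRing B] [IsDomain B] [Algebra A B]
    [Field K] [Field L] [Algebra A K] [IsFractionRing A K] [Algebra B L] [IsFractionRing B L]
    [Algebra A L] [Algebra K L] [IsScalarTower A B L] [IsScalarTower A K L]
    [FiniteDimensional K L] [Algebra.IsIntegral A B] [IsIntegrallyClosed A]
    (hinj : Function.Injective (algebraMap A B))
    (b : B) (a : A) (ha : algebraMap A K a = Algebra.norm K (algebraMap B L b)) :
    PrimeSpectrum.comap (algebraMap A B) '' PrimeSpectrum.zeroLocus ({b} : Set B) =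
        PrimeSpectrum.zeroLocus ({a} : Set A) ∧
      topologicalKrullDim ↥(PrimeSpectrum.zeroLocus ({b} : Set B)) =
        topologicalKrullDim ↥(PrimeSpectrum.zeroLocus ({a} : Set A)) := by
  classical
  have hinjK : Function.Injective (algebraMap A K) := IsFractionRing.injective A K
  -- norms of elements of `B` come from `A`
  have hnormA : ∀ c : B, ∃ a' : A, algebraMap A K a' = Algebra.norm K (algebraMap B L c) := by
    intro c
    have hc : IsIntegral A (algebraMap B L c) :=
      (Algebra.IsIntegral.isIntegral (R := A) c).algebraMap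
    have := Algebra.isIntegral_norm K hc
    exact IsIntegrallyClosed.isIntegral_iff.mp this
  -- `a ∈ bB`
  have hab : algebraMap A B a ∈ Ideal.span ({b} : Set B) := by
    have hb_int : IsIntegral A b := Algebra.IsIntegral.isIntegral b
    set x : L := algebraMap B L b with hx
    have hxK : IsIntegral K x := (hb_int.algebraMap (B := L)).tower_top
    have hmin : minpoly K x = (minpoly A b).map (algebraMap A K) :=
      minpoly.isIntegrallyClosed_eq_field_fractions K L hb_int
    have h1 := Algebra.norm_eq_norm_adjoin K x
    have h2 := Algebra.PowerBasis.norm_gen_eq_coeff_zero_minpoly (IntermediateField.adjoin.powerBasis hxK)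
    rw [IntermediateField.adjoin.powerBasis_gen, IntermediateField.minpoly_gen, hmin,
      Polynomial.coeff_map] at h2
    rw [h2] at h1
    set m := Module.finrank (IntermediateField.adjoin K {x}) L with hm
    set d := (IntermediateField.adjoin.powerBasis hxK).dim with hd
    set c0 := (minpoly A b).coeff 0 with hc0
    have hmpos : 0 < m := Module.finrank_pos
    have ha' : a = ((-1) ^ d * c0) ^ m := by
      apply hinjK
      rw [ha, h1, map_pow, map_mul, map_pow, map_neg, map_one]
    have hc0mem : algebraMap A B c0 ∈ Ideal.span ({b} : Set B) := by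
      have h3 : Polynomial.aeval b (minpoly A b) = 0 := minpoly.aeval A b
      have h4 := Polynomial.divX_mul_X_add (minpoly A b)
      rw [← h4, map_add, map_mul, Polynomial.aeval_X, Polynomial.aeval_C] at h3
      rw [Ideal.mem_span_singleton']
      refine ⟨- Polynomial.aeval b (minpoly A b).divX, ?_⟩
      rw [← hc0] at h3
      linear_combination (-1 : B) * h3
    rw [ha']
    obtain ⟨m', hm'⟩ := Nat.exists_eq_succ_of_ne_zero hmpos.ne'
    rw [hm', pow_succ, map_mul, map_mul (algebraMap A B) ((-1) ^ d) c0]
    exact Ideal.mul_mem_left _ _ (Ideal.mul_mem_left _ _ hc0mem)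
  -- `bB ∩ A ⊆ p` for primes `p ∋ a`
  have hcomap : ∀ p : Ideal A, p.IsPrime → a ∈ p →
      (Ideal.span ({b} : Set B)).comap (algebraMap A B) ≤ p := by
    intro p hp hap y hy
    rw [Ideal.mem_comap, Ideal.mem_span_singleton'] at hy
    obtain ⟨c, hc⟩ := hy
    obtain ⟨a', ha'⟩ := hnormA c
    have h1 : Algebra.norm K (algebraMap B L (algebraMap A B y)) =
        (algebraMap A K y) ^ Module.finrank K L := by
      rw [← IsScalarTower.algebraMap_apply A B L, IsScalarTower.algebraMap_apply A K L,
        Algebra.norm_algebraMap]
    have h2 : y ^ Module.finrank K L = a' * a := by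
      apply hinjK
      rw [map_pow, ← h1, ← hc, map_mul, map_mul, map_mul, ha, ha']
    have h3 : y ^ Module.finrank K L ∈ p := by
      rw [h2]; exact Ideal.mul_mem_left _ _ hap
    exact hp.mem_of_pow_mem _ h3
  have hsurj : ∀ p : PrimeSpectrum A, p ∈ PrimeSpectrum.zeroLocus ({a} : Set A) →
      ∃ q : PrimeSpectrum B, q ∈ PrimeSpectrum.zeroLocus ({b} : Set B) ∧
        PrimeSpectrum.comap (algebraMap A B) q = p := by
    intro p hp
    have hap : a ∈ p.asIdeal := by
      rw [PrimeSpectrum.mem_zeroLocus] at hp
      exact hp (Set.mem_singleton a)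
    obtain ⟨Q, hQ, hQp, hQc⟩ := Ideal.exists_ideal_over_prime_of_isIntegral p.asIdeal
      (Ideal.span ({b} : Set B)) (hcomap p.asIdeal p.isPrime hap)
    refine ⟨⟨Q, hQp⟩, ?_, ?_⟩
    · rw [PrimeSpectrum.mem_zeroLocus, Set.singleton_subset_iff]
      exact hQ (Ideal.subset_span (Set.mem_singleton b))
    · ext1
      exact hQc
  have hmaps : Set.MapsTo (PrimeSpectrum.comap (algebraMap A B))
      (PrimeSpectrum.zeroLocus ({b} : Set B)) (PrimeSpectrum.zeroLocus ({a} : Set A)) := by
    intro q hq
    rw [PrimeSpectrum.mem_zeroLocus, Set.singleton_subset_iff] at hq ⊢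
    change algebraMap A B a ∈ q.asIdeal
    have : Ideal.span ({b} : Set B) ≤ q.asIdeal := by
      rw [Ideal.span_le, Set.singleton_subset_iff]; exact hq
    exact this hab
  refine ⟨?_, ?_⟩
  · apply Set.Subset.antisymm
    · rintro _ ⟨q, hq, rfl⟩
      exact hmaps hq
    · intro p hp
      obtain ⟨q, hq, rfl⟩ := hsurj p hp
      exact ⟨q, hq, rfl⟩
  · set f := hmaps.restrict with hf
    have hfc : Continuous f :=
      (PrimeSpectrum.continuous_comap (algebraMap A B)).restrict hmaps
    haveI : QuasiSober ↥(PrimeSpectrum.zeroLocus ({a} : Set A)) :=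
      (PrimeSpectrum.isClosed_zeroLocus _).isClosedEmbedding_subtypeVal.quasiSober
    haveI : QuasiSober ↥(PrimeSpectrum.zeroLocus ({b} : Set B)) :=
      (PrimeSpectrum.isClosed_zeroLocus _).isClosedEmbedding_subtypeVal.quasiSober
    apply le_antisymm
    · refine Groth.Agent.Lib.helper5.h5_dim_le_of_incomparable f hfc ?_
      intro x x' hsp hfx
      rw [subtype_specializes_iff] at hsp ⊢
      rw [← PrimeSpectrum.le_iff_specializes] at hsp
      have hle : x'.1.asIdeal ≤ x.1.asIdeal := hsp
      have hcm : x'.1.asIdeal.comap (algebraMap A B) = x.1.asIdeal.comap (algebraMap A B) := by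
        have := congrArg (fun z : ↥(PrimeSpectrum.zeroLocus ({a} : Set A)) => z.1.asIdeal) hfx
        exact this
      have heq : x'.1.asIdeal = x.1.asIdeal := by
        by_contra hne
        have hlt : x'.1.asIdeal < x.1.asIdeal := lt_of_le_of_ne hle hne
        haveI := x'.1.isPrime
        have := Ideal.IsIntegral.comap_lt_comap (R := A) hlt
        rw [hcm] at this
        exact lt_irrefl _ this
      have : x'.1 = x.1 := PrimeSpectrum.ext heq
      rw [this]
    · refine Groth.Agent.Lib.helper5.h5_dim_le_of_specializing f ?_ ?_ hfc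
      · rintro ⟨p, hp⟩
        obtain ⟨q, hq, hqp⟩ := hsurj p hp
        exact ⟨⟨q, hq⟩, Subtype.ext hqp⟩
      · intro x y hxy
        change f x ⤳ y at hxy
        change ∃ a', x ⤳ a' ∧ f a' = y
        rw [subtype_specializes_iff, ← PrimeSpectrum.le_iff_specializes] at hxy
        have hle : x.1.asIdeal.comap (algebraMap A B) ≤ y.1.asIdeal := hxy
        haveI := x.1.isPrime
        haveI := y.1.isPrime
        obtain ⟨Q, hQ, hQp, hQc⟩ := Ideal.exists_ideal_over_prime_of_isIntegral_of_isPrime
          y.1.asIdeal x.1.asIdeal hle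
        have hbQ : (⟨Q, hQp⟩ : PrimeSpectrum B) ∈ PrimeSpectrum.zeroLocus ({b} : Set B) := by
          have hx := x.2
          rw [PrimeSpectrum.mem_zeroLocus, Set.singleton_subset_iff] at hx ⊢
          exact hQ hx
        refine ⟨⟨⟨Q, hQp⟩, hbQ⟩, ?_, ?_⟩
        · rw [subtype_specializes_iff, ← PrimeSpectrum.le_iff_specializes]
          exact hQ
        · apply Subtype.ext
          apply PrimeSpectrum.ext
          exact hQc

end Groth.Agent.S10825
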