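import Groth.Statements.S10830
import Mathlib

set_option autoImplicit false
universe u
open Topology TopologicalSpace
open TopDim

namespace Groth.Agent.S10830

/-- In an irreducible topological space X of finite Krull dimension, every proper closed subset Y has
strictly smaller Krull dimension than X. -/
theorem result (X : Type u) [TopologicalSpace X]
    [IrreducibleSpace X] (hfin : topologicalKrullDim X ≠ ⊤) (Y : Set X) (hY : IsClosed Y) (hYX : Y ≠ Set.univ) :
    topologicalKrullDim ↥Y < topologicalKrullDim X := by
  let top : TopologicalSpace.IrreducibleCloseds X :=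
    ⟨Set.univ, IrreducibleSpace.isIrreducible_univ X, isClosed_univ⟩
  have key : ∀ l : LTSeries (TopologicalSpace.IrreducibleCloseds ↥Y),
      ((l.length + 1 : ℕ) : WithBot ℕ∞) ≤ topologicalKrullDim X := by
    intro l
    have hg : StrictMono (TopologicalSpace.IrreducibleCloseds.map (Subtype.val : Y → X)
        continuous_subtype_val) :=
      TopologicalSpace.IrreducibleCloseds.map_strictMono_of_isInducing
        Topology.IsInducing.subtypeVal
    let l' : LTSeries (TopologicalSpace.IrreducibleCloseds X) := l.map _ hg
    have hsub : ((l'.last : TopologicalSpace.IrreducibleCloseds X) : Set X) ⊆ Y := by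
      have : (l'.last : Set X) = closure (Subtype.val '' (l.last : Set ↥Y)) := rfl
      rw [this]
      refine closure_minimal ?_ hY
      rintro _ ⟨y, -, rfl⟩
      exact y.2
    have hlt : l'.last < top := by
      refine lt_of_le_of_ne (fun x _ => Set.mem_univ x) ?_
      intro h
      apply hYX
      have h2 : (l'.last : Set X) = Set.univ := congrArg (fun Z : TopologicalSpace.IrreducibleCloseds X => (Z : Set X)) h
      rw [h2] at hsub
      exact Set.eq_univ_of_univ_subset hsub
    have := Order.LTSeries.length_le_krullDim (l'.snoc top hlt)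
    rw [topologicalKrullDim]
    simpa [l'] using this
  have hnb : topologicalKrullDim X ≠ ⊥ := by
    rw [topologicalKrullDim, Ne, Order.krullDim_eq_bot_iff, not_isEmpty_iff]; exact ⟨top⟩
  obtain ⟨m, hm⟩ := WithBot.ne_bot_iff_exists.1 hnb
  have hmt : m ≠ ⊤ := by rintro rfl; exact hfin hm.symm
  obtain ⟨n, rfl⟩ := ENat.ne_top_iff_exists.1 hmt
  rw [← hm]
  have hgoal : topologicalKrullDim ↥Y < ((n : ℕ) : WithBot ℕ∞) := by
    rw [topologicalKrullDim, Order.krullDim_lt_coe_iff]
    intro l
    have h1 := key l
    rw [← hm] at h1
    have h2 : ((l.length + 1 : ℕ) : WithBot ℕ∞) ≤ ((n : ℕ) : WithBot ℕ∞) := h1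
    have h3 : l.length + 1 ≤ n := by exact_mod_cast h2
    omega
  exact hgoal

end Groth.Agent.S10830
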