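import Groth.Statements.S10831
import Mathlib

set_option autoImplicit false
universe u
open Topology TopologicalSpace
open TopDim

namespace Groth.Agent.S10831

/-- The Krull dimension of a topological space is the supremum of the Krull dimensions of its
irreducible components. -/
theorem result (X : Type u) [TopologicalSpace X] :
    topologicalKrullDim X = ⨆ Y ∈ irreducibleComponents X, topologicalKrullDim ↥Y := by
  apply le_antisymm
  · rw [topologicalKrullDim, Order.krullDim]
    refine iSup_le fun l => ?_
    obtain ⟨C, hCpre, hlC, hCmax⟩ := exists_preirreducible (l.last : Set X)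
      l.last.isIrreducible.isPreirreducible
    have hCirr : IsIrreducible C := ⟨l.last.isIrreducible.nonempty.mono hlC, hCpre⟩
    have hCmem : C ∈ irreducibleComponents X := by
      refine ⟨hCirr, fun u hu hCu => ?_⟩
      exact (hCmax u hu.isPreirreducible hCu).le
    have hsub : ∀ i, ((l i : TopologicalSpace.IrreducibleCloseds X) : Set X) ⊆ C := fun i =>
      Set.Subset.trans (show ((l i : TopologicalSpace.IrreducibleCloseds X) : Set X) ⊆
        (l.last : Set X) from l.monotone (Fin.le_last i)) hlC
    have hirr : ∀ i, IsIrreducible ((Subtype.val : C → X) ⁻¹' (l i : Set X)) := by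
      intro i
      constructor
      · obtain ⟨z, hz⟩ := (l i).isIrreducible.nonempty
        exact ⟨⟨z, hsub i hz⟩, hz⟩
      · rintro u' v' ⟨u, hu, rfl⟩ ⟨v, hv, rfl⟩ ⟨a, ha1, ha2⟩ ⟨b, hb1, hb2⟩
        obtain ⟨z, hz1, hz2, hz3⟩ := (l i).isIrreducible.isPreirreducible u v hu hv
          ⟨a.1, ha1, ha2⟩ ⟨b.1, hb1, hb2⟩
        exact ⟨⟨z, hsub i hz1⟩, hz1, hz2, hz3⟩
    let lC : LTSeries (TopologicalSpace.IrreducibleCloseds ↥C) :=
      { length := l.length
        toFun := fun i => ⟨(Subtype.val : C → X) ⁻¹' (l i : Set X), hirr i,
          (l i).isClosed.preimage continuous_subtype_val⟩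
        step := by
          intro i
          have hstep : l i.castSucc < l i.succ := l.step i
          show (_ : TopologicalSpace.IrreducibleCloseds ↥C) < _
          refine lt_of_le_of_ne ?_ ?_
          · intro z hz
            exact hstep.le hz
          · intro heq
            have h1 : (Subtype.val : C → X) ⁻¹' (l i.castSucc : Set X) =
                (Subtype.val : C → X) ⁻¹' (l i.succ : Set X) :=
              congrArg (fun Z : TopologicalSpace.IrreducibleCloseds ↥C => (Z : Set ↥C)) heq
            have h2 : (l i.succ : Set X) ⊆ (l i.castSucc : Set X) := by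
              intro z hz
              have : (⟨z, hsub _ hz⟩ : C) ∈ (Subtype.val : C → X) ⁻¹' (l i.succ : Set X) := hz
              rw [← h1] at this
              exact this
            exact absurd (lt_of_lt_of_le hstep h2) (lt_irrefl _) }
    have h1 : (l.length : WithBot ℕ∞) ≤ topologicalKrullDim ↥C := by
      rw [topologicalKrullDim]
      exact Order.LTSeries.length_le_krullDim lC
    exact le_iSup₂_of_le C hCmem h1
  · exact iSup₂_le fun Y _ => topologicalKrullDim_subspace_le X Y

end Groth.Agent.S10831
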