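import Groth.Statements.S10832
import Mathlib
import Groth.Agent.Lib.helper5.ZeroDim2
import Groth.Agent.Lib.helper5.FibreClosed2

set_option autoImplicit false
universe u
open CategoryTheory AlgebraicGeometry Topology
open Variety

namespace Groth.Agent.S10832

open CategoryTheory AlgebraicGeometry in
lemma h5_germ_bijective_of_discrete (X : Scheme.{u}) [DiscreteTopology X] :
    Function.Bijective (fun s : Γ(X, ⊤) => fun x : X => X.presheaf.germ ⊤ x trivial s) := by
  constructor
  · intro s t hst
    apply TopCat.Presheaf.section_ext X.sheaf ⊤ s t
    intro x hx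
    exact congrFun hst x
  · intro a
    let V : X → X.Opens := fun x => ⟨{x}, isOpen_discrete _⟩
    have hmem : ∀ x : X, x ∈ V x := fun x => rfl
    have hrep : ∀ x : X, ∃ t : Γ(X, V x), X.presheaf.germ (V x) x (hmem x) t = a x := by
      intro x
      obtain ⟨U, hxU, t, ht⟩ := X.presheaf.exists_germ_eq (a x)
      have hle : V x ≤ U := by
        intro z hz
        have : z = x := hz
        rw [this]
        exact hxU
      refine ⟨X.presheaf.map (homOfLE hle).op t, ?_⟩
      rw [← ht]
      exact X.presheaf.germ_res_apply (homOfLE hle) x (hmem x) t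
    choose t ht using hrep
    have hsub : ∀ W : X.Opens, W = ⊥ → Subsingleton Γ(X, W) := by
      rintro _ rfl
      infer_instance
    have hcompat : TopCat.Presheaf.IsCompatible X.presheaf V t := by
      intro x y
      by_cases hxy : x = y
      · subst hxy
        have : TopologicalSpace.Opens.infLELeft (V x) (V x) =
            TopologicalSpace.Opens.infLERight (V x) (V x) := Subsingleton.elim _ _
        rw [this]
      · have hbot : V x ⊓ V y = ⊥ := by
          ext z
          simp only [V, TopologicalSpace.Opens.coe_inf, TopologicalSpace.Opens.coe_mk,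
            Set.mem_inter_iff, Set.mem_singleton_iff, TopologicalSpace.Opens.coe_bot,
            Set.mem_empty_iff_false, iff_false, not_and]
          intro h1 h2
          exact hxy (h1.symm.trans h2)
        haveI : Subsingleton Γ(X, V x ⊓ V y) := hsub _ hbot
        exact Subsingleton.elim _ _
    obtain ⟨s, hs, -⟩ := X.sheaf.existsUnique_gluing' V ⊤ (fun x => homOfLE le_top)
      (fun x _ => TopologicalSpace.Opens.mem_iSup.mpr ⟨x, hmem x⟩) t hcompat
    refine ⟨s, funext fun x => ?_⟩
    have h1 := hs x
    change X.presheaf.germ ⊤ x trivial s = a x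
    rw [← ht x, ← h1]
    exact (X.presheaf.germ_res_apply (homOfLE le_top) x (hmem x) s).symm

/-- For a nonempty scheme X of finite type over a field k the following are equivalent: X has Krull
dimension 0; X is affine with ring of global sections finite over k and equal to the product of all
its local rings via the germ maps; the underlying space of X is discrete; the underlying space of X
is finite. -/
theorem result (k : Type u) [Field k] {X : Scheme.{u}} [Nonempty X]
    (f : X ⟶ Spec (CommRingCat.of k)) [LocallyOfFiniteType f] [QuasiCompact f] :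
    [topologicalKrullDim ↥X = 0,
      IsAffine X ∧ f.appTop.hom.Finite ∧
        Function.Bijective (fun s : Γ(X, ⊤) => fun x : X => X.presheaf.germ ⊤ x trivial s),
      DiscreteTopology ↥X,
      Finite ↥X].TFAE := by
  have hLN : IsLocallyNoetherian X := LocallyOfFiniteType.isLocallyNoetherian f
  haveI : CompactSpace X := QuasiCompact.compactSpace_of_compactSpace f
  tfae_have 1 → 3 := by
    intro h
    haveI : IsLocallyArtinian X := IsLocallyArtinian.of_topologicalKrullDim_le_zero h.le
    infer_instance
  tfae_have 3 → 4 := by
    intro h
    exact finite_of_compact_of_discrete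
  tfae_have 4 → 1 := by
    intro hfin
    haveI : JacobsonSpace X := LocallyOfFiniteType.jacobsonSpace f
    have hcl : IsClosed (closedPoints X) := by
      have h1 : closedPoints X = ⋃ x ∈ closedPoints X, {x} := (Set.biUnion_of_singleton _).symm
      rw [h1]
      exact Set.Finite.isClosed_biUnion (Set.toFinite _) (fun x hx => hx)
    have h2 : closedPoints X = Set.univ := by
      have h3 := JacobsonSpace.closure_inter_closedPoints (X := X) isClosed_univ
      rw [Set.univ_inter, hcl.closure_eq] at h3
      exact h3
    have hT1 : ∀ z z' : X, z ⤳ z' → z = z' := by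
      intro z z' hzz
      have hz : IsClosed ({z} : Set X) := by
        have : z ∈ closedPoints X := h2 ▸ Set.mem_univ z
        exact this
      have : z' ∈ closure ({z} : Set X) := hzz.mem_closure
      rw [hz.closure_eq] at this
      exact this.symm
    apply le_antisymm (H5FibreClosed.dim_le_zero_of_t1 X hT1)
    obtain ⟨x⟩ := ‹Nonempty X›
    haveI : Nonempty (TopologicalSpace.IrreducibleCloseds X) :=
      ⟨⟨closure {x}, isIrreducible_singleton.closure, isClosed_closure⟩⟩
    exact Order.krullDim_nonneg
  tfae_have 3 → 2 := by
    intro h
    haveI : LocallyQuasiFinite f := by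
      rw [locallyQuasiFinite_iff_isDiscrete_preimage_singleton]
      intro y
      exact IsDiscrete.univ.mono (Set.subset_univ _)
    haveI : IsLocallyArtinian (Spec (CommRingCat.of k)) :=
      Scheme.isLocallyArtinianScheme_Spec.mpr (inferInstanceAs (IsArtinianRing k))
    haveI : IsFinite f := IsFinite.of_locallyQuasiFinite f
    refine ⟨isAffine_of_isAffineHom f, ?_, h5_germ_bijective_of_discrete X⟩
    exact Scheme.Hom.finite_appTop f
  tfae_have 2 → 4 := by
    rintro ⟨haff, hfin, -⟩
    haveI : IsArtinianRing Γ(Spec (CommRingCat.of k), ⊤) :=
      (Scheme.ΓSpecIso (CommRingCat.of k)).symm.commRingCatIsoToRingEquiv.isArtinianRing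
    letI := f.appTop.hom.toAlgebra
    haveI : Module.Finite Γ(Spec (CommRingCat.of k), ⊤) Γ(X, ⊤) := hfin
    haveI : IsArtinianRing Γ(X, ⊤) := IsArtinianRing.of_finite Γ(Spec (CommRingCat.of k), ⊤) _
    haveI : Finite (PrimeSpectrum Γ(X, ⊤)) := inferInstance
    exact Finite.of_equiv _ X.isoSpec.hom.homeomorph.symm.toEquiv
  tfae_finish

end Groth.Agent.S10832
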