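import Groth.Statements.S10836
import Mathlib

set_option autoImplicit false
universe u
open Coh

namespace Groth.Agent.S10836

/-- Let A be a commutative ring, M a finitely generated projective A-module whose rank at every prime is
r, and Z a finite set of prime ideals of A. Then there is an element s of A outside every prime of Z
such that the localized module M_s has a basis of r elements over A_s. (The published statement is
for a finite locally free module of constant rank r on a scheme and a finite set of points inside an
affine open Spec A, and produces a basic open D(s) containing the points on which the module is free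
of rank r; its argument begins by replacing the scheme with Spec A, and this row states that case.) -/
theorem result (A : Type u) [CommRing A]
    (M : Type u) [AddCommGroup M] [Module A M] [Module.Finite A M] [Module.Projective A M] (r : ℕ)
    (hr : ∀ p : PrimeSpectrum A, Module.rankAtStalk M p = r)
    (Z : Set (PrimeSpectrum A)) (hZ : Z.Finite) :
    ∃ s : A, (∀ p ∈ Z, s ∉ p.asIdeal) ∧
      Nonempty (Module.Basis (Fin r) (Localization.Away s) (LocalizedModule (Submonoid.powers s) M)) := by
  classical
  -- the submonoid
  let S : Submonoid A := ⨅ p : Z, (p.1.asIdeal.primeCompl)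
  have hS : ∀ s : A, s ∈ S ↔ ∀ p ∈ Z, s ∉ p.asIdeal := by
    intro s
    simp only [S, Submonoid.mem_iInf, Subtype.forall]
    rfl
  let R' := Localization S
  let M' := LocalizedModule S M
  -- finitely many maximal ideals
  have hfin : Finite (MaximalSpectrum R') := by
    have key : ∀ P : MaximalSpectrum R', ∃ q : Z, P.asIdeal = Ideal.map (algebraMap A R') q.1.asIdeal := by
      intro P
      have hPprime : P.asIdeal.IsPrime := P.isMaximal.isPrime
      have hdisj : Disjoint (S : Set A) (P.asIdeal.comap (algebraMap A R') : Set A) :=
        ((IsLocalization.isPrime_iff_isPrime_disjoint S R' P.asIdeal).mp hPprime).2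
      have hsub : ((P.asIdeal.comap (algebraMap A R') : Ideal A) : Set A) ⊆
          ⋃ q ∈ hZ.toFinset, (q.asIdeal : Set A) := by
        intro a ha
        by_contra hcon
        simp only [Set.mem_iUnion, not_exists] at hcon
        have : a ∈ S := (hS a).mpr (fun p hp hap => hcon p ((hZ.mem_toFinset).mpr hp) hap)
        exact Set.disjoint_left.mp hdisj this ha
      let P0 : PrimeSpectrum A := ⟨P.asIdeal.comap (algebraMap A R'), inferInstance⟩
      obtain ⟨q, hq, hle⟩ := (Ideal.subset_union_prime (s := hZ.toFinset)
        (f := fun q => q.asIdeal) P0 P0 (fun q _ _ _ => q.isPrime)).mp hsub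
      have hqZ : q ∈ Z := (hZ.mem_toFinset).mp hq
      refine ⟨⟨q, hqZ⟩, ?_⟩
      have hle' : P.asIdeal ≤ Ideal.map (algebraMap A R') q.asIdeal := by
        rw [← IsLocalization.map_comap S R' P.asIdeal]
        exact Ideal.map_mono hle
      have hd : Disjoint (S : Set A) (q.asIdeal : Set A) := by
        rw [Set.disjoint_left]
        intro x hx hxq
        exact ((hS x).mp hx) q hqZ hxq
      have hne : Ideal.map (algebraMap A R') q.asIdeal ≠ ⊤ :=
        (IsLocalization.isPrime_of_isPrime_disjoint S R' q.asIdeal q.isPrime hd).ne_top
      exact P.isMaximal.eq_of_le hne hle'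
    choose φ hφ using key
    have : Finite Z := hZ.to_subtype
    refine Finite.of_injective φ ?_
    intro P Q h
    ext1
    rw [hφ P, hφ Q, h]
  have rk : ∀ P : MaximalSpectrum R', Module.finrank (R' ⧸ P.1) (TensorProduct R' (R' ⧸ P.1) M') = r := by
    intro P
    letI := Ideal.Quotient.field P.1
    have h1 := congr_fun (Module.rankAtStalk_eq_finrank_of_free (R := R' ⧸ P.1)
      (M := TensorProduct R' (R' ⧸ P.1) M')) ⊥
    simp only [Pi.natCast_apply, Nat.cast_id] at h1
    rw [← h1, Module.rankAtStalk_baseChange,
      Module.rankAtStalk_isBaseChange (IsLocalizedModule.isBaseChange S R'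
        (LocalizedModule.mkLinearMap S M)), hr]
  obtain ⟨b⟩ := Module.nonempty_basis_of_flat_of_finrank_eq R' M' r rk
  have : Module.FinitePresentation A M := Module.finitePresentation_of_projective A M
  obtain ⟨s, hs, b', -⟩ := Module.FinitePresentation.exists_basis_localizedModule_powers S
    (LocalizedModule.mkLinearMap S M) R' b
  exact ⟨s, (hS s).mp hs, ⟨b'⟩⟩

end Groth.Agent.S10836
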