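import Groth.Statements.S10839
import Mathlib

set_option autoImplicit false
universe u
open CategoryTheory AlgebraicGeometry Topology
open Variety

namespace Groth.Agent.S10839

/-- A closed immersion i : Y → X into an integral scheme X with dim X = dim Y < ∞ is an isomorphism. -/
theorem result {X Y : Scheme.{u}} (i : Y ⟶ X)
    [IsClosedImmersion i] [IsIntegral X] (hfin : topologicalKrullDim ↥X ≠ ⊤)
    (hdim : topologicalKrullDim ↥X = topologicalKrullDim ↥Y) : IsIso i := by
  classical
  have hemb : Topology.IsClosedEmbedding i.base := i.isClosedEmbedding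
  by_cases hsurj : Function.Surjective i.base
  · haveI : Surjective i := ⟨hsurj⟩
    exact isIso_of_isClosedImmersion_of_surjective i
  · exfalso
    obtain ⟨x₀, hx₀⟩ : ∃ x₀ : X, x₀ ∉ Set.range i.base := by
      by_contra h
      simp only [not_exists, not_not] at h
      exact hsurj h
    let T : TopologicalSpace.IrreducibleCloseds X :=
      ⟨Set.univ, (irreducibleSpace_def X).mp inferInstance, isClosed_univ⟩
    have key : ∀ p : LTSeries (TopologicalSpace.IrreducibleCloseds Y),
        ((p.length + 1 : ℕ) : WithBot ℕ∞) ≤ topologicalKrullDim X := by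
      intro p
      have hlt : (p.map (TopologicalSpace.IrreducibleCloseds.map i.base hemb.continuous)
          (TopologicalSpace.IrreducibleCloseds.map_strictMono_of_isInducing
            hemb.isInducing)).last < T := by
        rw [SetLike.lt_iff_le_and_exists]
        refine ⟨fun _ _ => Set.mem_univ _, x₀, Set.mem_univ _, ?_⟩
        intro hx
        rw [LTSeries.last_map] at hx
        have h1 : closure (i.base '' (p.last : Set Y)) ⊆ Set.range i.base :=
          closure_minimal (Set.image_subset_range _ _) hemb.isClosed_range
        exact hx₀ (h1 hx)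
      have := Order.LTSeries.length_le_krullDim
        ((p.map (TopologicalSpace.IrreducibleCloseds.map i.base hemb.continuous)
          (TopologicalSpace.IrreducibleCloseds.map_strictMono_of_isInducing
            hemb.isInducing)).snoc T hlt)
      unfold topologicalKrullDim
      simpa using this
    haveI : Nonempty (TopologicalSpace.IrreducibleCloseds X) := ⟨T⟩
    have h0 : (0 : WithBot ℕ∞) ≤ topologicalKrullDim X := Order.krullDim_nonneg
    obtain ⟨n, hn⟩ : ∃ n : ℕ, topologicalKrullDim Y = n := by
      have h1 : topologicalKrullDim Y ≠ ⊤ := hdim ▸ hfin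
      have h2 : topologicalKrullDim Y ≠ ⊥ := by
        intro h
        rw [hdim, h] at h0
        exact absurd h0 (by simp)
      obtain ⟨m, hm⟩ := WithBot.ne_bot_iff_exists.mp h2
      have hmt : m ≠ ⊤ := by
        rintro rfl
        exact h1 hm.symm
      obtain ⟨n, rfl⟩ := ENat.ne_top_iff_exists.mp hmt
      exact ⟨n, hm.symm⟩
    obtain ⟨l, hl⟩ := (Order.le_krullDim_iff (α := TopologicalSpace.IrreducibleCloseds Y)
      (n := n)).mp (le_of_eq hn.symm)
    have h3 := key l
    rw [hdim, hn, hl] at h3
    have : n + 1 ≤ n := by exact_mod_cast h3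
    omega

end Groth.Agent.S10839
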