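import Groth.Statements.S10842
import Mathlib

set_option autoImplicit false
universe u
open CategoryTheory AlgebraicGeometry
open Variety

namespace Groth.Agent.S10842

/-- A quasi-compact scheme whose local rings at all closed points are integrally closed domains is
normal, i.e. all of its local rings are integrally closed domains. -/
theorem result (X : Scheme.{u}) [CompactSpace ↥X]
    (h : ∀ x : X, IsClosed ({x} : Set X) →
      IsDomain (X.presheaf.stalk x) ∧ IsIntegrallyClosed (X.presheaf.stalk x)) :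
    Pi1.IsNormalScheme X := by
  intro x
  obtain ⟨y, hy, hyc⟩ := (isClosed_closure (s := ({x} : Set X))).exists_closed_singleton
    ⟨x, subset_closure rfl⟩
  have hxy : x ⤳ y := specializes_iff_mem_closure.mpr hy
  obtain ⟨hdom, hic⟩ := h y hyc
  obtain ⟨U, hU, hyU, -⟩ := exists_isAffineOpen_mem_and_subset (X := X) (x := y) (U := ⊤) trivial
  have hxU : x ∈ U := hxy.mem_open U.2 hyU
  letI a1 : Algebra Γ(X, U) (X.presheaf.stalk y) :=
    TopCat.Presheaf.algebra_section_stalk X.presheaf ⟨y, hyU⟩
  letI a2 : Algebra Γ(X, U) (X.presheaf.stalk x) :=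
    TopCat.Presheaf.algebra_section_stalk X.presheaf ⟨x, hxU⟩
  haveI l1 := hU.isLocalization_stalk ⟨y, hyU⟩
  haveI l2 := hU.isLocalization_stalk ⟨x, hxU⟩
  letI a3 : Algebra (X.presheaf.stalk y) (X.presheaf.stalk x) :=
    (X.presheaf.stalkSpecializes hxy).hom.toAlgebra
  haveI : IsScalarTower Γ(X, U) (X.presheaf.stalk y) (X.presheaf.stalk x) :=
    IsScalarTower.of_algebraMap_eq (fun r => by
      show X.presheaf.germ U x hxU r =
        (X.presheaf.stalkSpecializes hxy).hom (X.presheaf.germ U y hyU r)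
      rw [← TopCat.Presheaf.germ_stalkSpecializes X.presheaf hyU hxy]
      rfl)
  have hle : (hU.primeIdealOf ⟨y, hyU⟩).asIdeal.primeCompl ≤
      (hU.primeIdealOf ⟨x, hxU⟩).asIdeal.primeCompl := by
    intro r hr
    have h1 : IsUnit (algebraMap Γ(X, U) (X.presheaf.stalk y) r) :=
      IsLocalization.map_units _ ⟨r, hr⟩
    have h2 : IsUnit (algebraMap Γ(X, U) (X.presheaf.stalk x) r) := by
      rw [IsScalarTower.algebraMap_apply Γ(X, U) (X.presheaf.stalk y) (X.presheaf.stalk x)]
      exact h1.map _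
    exact (IsLocalization.AtPrime.isUnit_to_map_iff (X.presheaf.stalk x)
      (hU.primeIdealOf ⟨x, hxU⟩).asIdeal r).mp h2
  haveI l3 := IsLocalization.isLocalization_of_submonoid_le (X.presheaf.stalk y)
    (X.presheaf.stalk x) _ _ hle
  have hN' : ((hU.primeIdealOf ⟨x, hxU⟩).asIdeal.primeCompl.map
      (algebraMap Γ(X, U) (X.presheaf.stalk y))) ≤ nonZeroDivisors (X.presheaf.stalk y) := by
    rintro _ ⟨r, hr, rfl⟩
    apply mem_nonZeroDivisors_of_ne_zero
    intro h0
    have h2 : IsUnit (algebraMap Γ(X, U) (X.presheaf.stalk x) r) :=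
      IsLocalization.map_units _ ⟨r, hr⟩
    rw [IsScalarTower.algebraMap_apply Γ(X, U) (X.presheaf.stalk y) (X.presheaf.stalk x)] at h2
    have h3 : (algebraMap Γ(X, U) (X.presheaf.stalk y)) r = 0 := h0
    rw [h3, map_zero] at h2
    exact not_isUnit_zero h2
  exact ⟨IsLocalization.isDomain_of_le_nonZeroDivisors (X.presheaf.stalk x) hN',
    isIntegrallyClosed_of_isLocalization (X.presheaf.stalk x) _ hN'⟩

end Groth.Agent.S10842
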