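import Groth.Statements.S10851
import Mathlib
-- import your own Groth.Agent.* helpers here

set_option autoImplicit false
universe u
open Mero

namespace Groth.Agent.S10851



open AlgebraicGeometry in
/-- Let X be a locally Noetherian scheme and D a divisor on X (a global section of K_X^×/O_X^×). Then
the support of D has codimension at least 1 in X: for every point z at which the germ of D is
non-trivial, the local ring O_{X,z} has Krull dimension at least 1. -/
theorem result {X : Scheme.{u}} [IsLocallyNoetherian X]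
    (D : Mero.Divisor X) (z : X) (hz : z ∈ Mero.supp D) :
    (1 : WithBot ℕ∞) ≤ ringKrullDim (X.presheaf.stalk z) := by
  by_contra hcon
  apply hz
  have hle : ringKrullDim (X.presheaf.stalk z) ≤ 0 := by
    have hlt := not_le.1 hcon
    generalize ringKrullDim (X.presheaf.stalk z) = d at hlt ⊢
    induction d using WithBot.recBotCoe with
    | bot => exact bot_le
    | coe n =>
      have h1 : n < 1 := by exact_mod_cast hlt
      rw [ENat.lt_one_iff_eq_zero] at h1
      rw [h1]
      rfl
  haveI : Ring.KrullDimLE 0 (X.presheaf.stalk z) := Ring.krullDimLE_iff.2 (by simpa using hle)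
  have hunit : ∀ s ∈ nonZeroDivisors (X.presheaf.stalk z), IsUnit s := by
    intro s hs
    by_contra hnu
    have hnil : IsNilpotent s := Ring.KrullDimLE.isNilpotent_iff_mem_nonunits.2 hnu
    obtain ⟨n, hn⟩ := hnil
    have h0 : (s ^ n) ∈ nonZeroDivisors (X.presheaf.stalk z) := pow_mem hs n
    exact nonZeroDivisors.ne_zero h0 hn
  have hsurj : Function.Surjective (algebraMap (X.presheaf.stalk z) (Mero.KStalk X z)) := by
    intro q
    obtain ⟨a, s, rfl⟩ := IsLocalization.exists_mk'_eq (Mero.regStalk X z) q
    obtain ⟨u, hu⟩ := hunit s (Mero.regStalk_le_nonZeroDivisors z s.2)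
    refine ⟨a * ((u⁻¹ : (X.presheaf.stalk z)ˣ) : X.presheaf.stalk z), ?_⟩
    rw [eq_comm, IsLocalization.mk'_eq_iff_eq_mul, ← map_mul, mul_assoc, ← hu, Units.inv_mul,
      mul_one]
  obtain ⟨g, hg⟩ := QuotientGroup.mk_surjective (D.1 z)
  rw [← hg]
  apply (QuotientGroup.eq_one_iff g).2
  obtain ⟨r, hr⟩ := hsurj (g : Mero.KStalk X z)
  obtain ⟨r', hr'⟩ := hsurj ((g⁻¹ : (Mero.KStalk X z)ˣ) : Mero.KStalk X z)
  have hinj := Mero.algebraMap_KStalk_injective (X := X) z
  have hrr : r * r' = 1 := by
    apply hinj
    rw [map_mul, hr, hr', map_one, Units.mul_inv]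
  exact ⟨⟨r, r', hrr, by rw [mul_comm]; exact hrr⟩, Units.ext hr⟩

end Groth.Agent.S10851
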