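import Groth.Statements.S10856
import Mathlib
import Groth.Agent.S12513
-- import your own Groth.Agent.* helpers here

set_option autoImplicit false
universe u
open Mero

namespace Groth.Agent.S10856



open AlgebraicGeometry CategoryTheory TopologicalSpace in
/-- Let X be a scheme and f a global section of the sheaf of meromorphic functions K_X. The domain of
definition of f, i.e. the set of points x whose value f_x ∈ K_{X,x} lies in the image of the local
ring O_{X,x}, is the underlying set of an open subscheme D of X, and D is schematically dense in X: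
for every open subset V of X the restriction map from sections of O_X over V to sections over V ∩ D
is injective. -/
theorem result {X : Scheme.{u}} (f : Γ(Mero.kmod X, ⊤)) :
    ∃ D : X.Opens,
      (D : Set X) = {x | f.1 ⟨x, Opens.mem_top x⟩ ∈ (algebraMap (X.presheaf.stalk x) (Mero.KStalk X x)).range} ∧
        ∀ V : X.Opens, Function.Injective (X.presheaf.map (homOfLE (inf_le_left : V ⊓ D ≤ V)).op) := by
  classical
  have mk1 : ∀ (x : X) (g : X.presheaf.stalk x),
      algebraMap (X.presheaf.stalk x) (Mero.KStalk X x) g = LocalizedModule.mk g 1 := by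
    intro x g
    exact (Localization.mk_one_eq_algebraMap g).symm
  have hopen : IsOpen {x : X | f.1 ⟨x, Opens.mem_top x⟩ ∈
      (algebraMap (X.presheaf.stalk x) (Mero.KStalk X x)).range} := by
    rw [isOpen_iff_forall_mem_open]
    intro x hx
    obtain ⟨g, hg⟩ := hx
    obtain ⟨W₁, hxW₁, r, hr⟩ := TopCat.Presheaf.exists_germ_eq X.presheaf (x := x) g
    obtain ⟨W₀, hxW₀, i, a, b, hab⟩ := f.2 ⟨x, trivial⟩
    have h0 := hab ⟨x, hxW₀⟩
    have h1 : (LocalizedModule.mk (X.presheaf.germ W₀ x hxW₀ a) (Mero.regGerm ⟨x, hxW₀⟩ b) :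
        Mero.KStalk X x) = LocalizedModule.mk g 1 := by
      rw [← mk1, hg]
      exact h0.symm
    rw [LocalizedModule.mk_eq] at h1
    obtain ⟨c, hc⟩ := h1
    simp only [Submonoid.smul_def, smul_eq_mul, one_mul, Submonoid.coe_one] at hc
    have hc1 := Mero.regStalk_le_nonZeroDivisors x c.2
    have h2 : X.presheaf.germ W₀ x hxW₀ a = X.presheaf.germ W₀ x hxW₀ b.1 * g := by
      have h20 : (c : X.presheaf.stalk x) *
          (X.presheaf.germ W₀ x hxW₀ a - X.presheaf.germ W₀ x hxW₀ b.1 * g) = 0 := by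
        rw [mul_sub, hc]
        exact sub_self _
      exact sub_eq_zero.1 ((mul_left_mem_nonZeroDivisors_eq_zero_iff hc1).1 h20)
    obtain ⟨W, hW⟩ : ∃ W : X.Opens, W = W₀ ⊓ W₁ := ⟨_, rfl⟩
    have hxW : x ∈ W := by rw [hW]; exact ⟨hxW₀, hxW₁⟩
    have hW0 : W ≤ W₀ := by rw [hW]; exact inf_le_left
    have hW1 : W ≤ W₁ := by rw [hW]; exact inf_le_right
    obtain ⟨e, he⟩ : ∃ e : Γ(X, W), e = X.presheaf.map (homOfLE hW0).op a -
        X.presheaf.map (homOfLE hW0).op b.1 * X.presheaf.map (homOfLE hW1).op r := ⟨_, rfl⟩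
    have hex : X.presheaf.germ W x hxW e = 0 := by
      rw [he, map_sub, map_mul, TopCat.Presheaf.germ_res_apply, TopCat.Presheaf.germ_res_apply,
        TopCat.Presheaf.germ_res_apply, hr, h2, sub_self]
    obtain ⟨W', hxW', i₁, i₂, heq⟩ := TopCat.Presheaf.germ_eq X.presheaf x hxW hxW e 0
      (by rw [hex, map_zero])
    refine ⟨(W' : Set X), ?_, W'.2, hxW'⟩
    intro y hyW'
    have hyW : y ∈ W := i₁.le hyW'
    have hey : X.presheaf.germ W y hyW e = 0 := by
      have h5 := congrArg (X.presheaf.germ W' y hyW') heq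
      rwa [TopCat.Presheaf.germ_res_apply, map_zero, map_zero] at h5
    have h3 : X.presheaf.germ W₀ y (hW0 hyW) a =
        X.presheaf.germ W₀ y (hW0 hyW) b.1 * X.presheaf.germ W₁ y (hW1 hyW) r := by
      rw [he, map_sub, map_mul, TopCat.Presheaf.germ_res_apply, TopCat.Presheaf.germ_res_apply,
        TopCat.Presheaf.germ_res_apply] at hey
      exact sub_eq_zero.1 hey
    refine ⟨X.presheaf.germ W₁ y (hW1 hyW) r, ?_⟩
    rw [mk1]
    have h4 : f.1 ⟨y, Opens.mem_top y⟩ = LocalizedModule.mk (X.presheaf.germ W₀ y (hW0 hyW) a)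
        (Mero.regGerm ⟨y, hW0 hyW⟩ b) := hab ⟨y, hW0 hyW⟩
    rw [h4]
    symm
    rw [LocalizedModule.mk_eq]
    refine ⟨1, ?_⟩
    simp only [one_smul, Submonoid.smul_def, smul_eq_mul, Submonoid.coe_one, one_mul]
    exact h3
  refine ⟨⟨_, hopen⟩, rfl, ?_⟩
  intro V
  rw [injective_iff_map_eq_zero]
  intro c hc
  apply TopCat.Presheaf.section_ext X.sheaf V c 0
  intro x hxV
  change X.presheaf.germ V x hxV c = X.presheaf.germ V x hxV 0
  rw [map_zero]
  obtain ⟨W₀, hxW₀, i, a, b, hab⟩ := f.2 ⟨x, trivial⟩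
  obtain ⟨W, hWaff, hxW, hWsub⟩ := AlgebraicGeometry.exists_isAffineOpen_mem_and_subset
    (show x ∈ W₀ ⊓ V from ⟨hxW₀, hxV⟩)
  have hW0 : W ≤ W₀ := fun y hy => (hWsub hy).1
  have hWV : W ≤ V := fun y hy => (hWsub hy).2
  obtain ⟨b', hb'⟩ : ∃ b' : Γ(X, W), b' = X.presheaf.map (homOfLE hW0).op b.1 := ⟨_, rfl⟩
  obtain ⟨c', hc'⟩ : ∃ c' : Γ(X, W), c' = X.presheaf.map (homOfLE hWV).op c := ⟨_, rfl⟩
  have hb'reg : b' ∈ Mero.regSub X W := by
    rw [hb']
    exact Mero.regSub_res _ b.2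
  have hb'nz : b' ∈ nonZeroDivisors Γ(X, W) := by
    rw [← Groth.Agent.S12513.result X W hWaff]
    exact hb'reg
  have hsubD : ∀ y, y ∈ X.basicOpen b' → f.1 ⟨y, Opens.mem_top y⟩ ∈
      (algebraMap (X.presheaf.stalk y) (Mero.KStalk X y)).range := by
    intro y hy
    have hyW : y ∈ W := X.basicOpen_le b' hy
    have hu : IsUnit (X.presheaf.germ W y hyW b') := (X.mem_basicOpen b' y hyW).1 hy
    obtain ⟨u, hu'⟩ := hu
    refine ⟨X.presheaf.germ W₀ y (hW0 hyW) a *
      ((u⁻¹ : (X.presheaf.stalk y)ˣ) : X.presheaf.stalk y), ?_⟩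
    rw [mk1]
    have h4 : f.1 ⟨y, Opens.mem_top y⟩ = LocalizedModule.mk (X.presheaf.germ W₀ y (hW0 hyW) a)
        (Mero.regGerm ⟨y, hW0 hyW⟩ b) := hab ⟨y, hW0 hyW⟩
    rw [h4]
    symm
    rw [LocalizedModule.mk_eq]
    refine ⟨1, ?_⟩
    simp only [one_smul, Submonoid.smul_def, smul_eq_mul, Submonoid.coe_one, one_mul]
    have hb_y : X.presheaf.germ W₀ y (hW0 hyW) b.1 = (u : X.presheaf.stalk y) := by
      rw [hu', hb', TopCat.Presheaf.germ_res_apply]
    rw [hb_y, mul_left_comm, Units.mul_inv, mul_one]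
  have hres : X.presheaf.map (homOfLE (X.basicOpen_le b')).op c' = 0 := by
    apply TopCat.Presheaf.section_ext X.sheaf (X.basicOpen b')
    intro y hy
    change X.presheaf.germ (X.basicOpen b') y hy
        (X.presheaf.map (homOfLE (X.basicOpen_le b')).op c') =
      X.presheaf.germ (X.basicOpen b') y hy 0
    have hyW : y ∈ W := X.basicOpen_le b' hy
    have hyVD : y ∈ V ⊓ (⟨_, hopen⟩ : X.Opens) := ⟨hWV hyW, hsubD y hy⟩
    rw [map_zero, TopCat.Presheaf.germ_res_apply, hc', TopCat.Presheaf.germ_res_apply]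
    have h6 := congrArg (X.presheaf.germ (V ⊓ ⟨_, hopen⟩) y hyVD) hc
    rwa [TopCat.Presheaf.germ_res_apply, map_zero] at h6
  obtain ⟨n, hn⟩ :=
    AlgebraicGeometry.exists_pow_mul_eq_zero_of_res_basicOpen_eq_zero_of_isAffineOpen X hWaff c' b'
      hres
  have hc'0 : c' = 0 := (mul_left_mem_nonZeroDivisors_eq_zero_iff (pow_mem hb'nz n)).1 hn
  have h7 : X.presheaf.germ V x hxV c = X.presheaf.germ W x hxW c' := by
    rw [hc', TopCat.Presheaf.germ_res_apply]
  rw [h7, hc'0, map_zero]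

end Groth.Agent.S10856
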