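import Groth.Statements.S10868
import Mathlib

set_option autoImplicit false
universe u
open Mor

namespace Groth.Agent.S10868

open CategoryTheory AlgebraicGeometry in
/-- f : X → Y is a finite morphism exactly when it is proper and quasi-affine (quasi-compact, with the
inverse image of every affine open subscheme of Y a quasi-affine scheme). -/
theorem result {X Y : Scheme.{u}} (f : X ⟶ Y) :
    IsFinite f ↔ IsProper f ∧ Mor2.IsQuasiAffine f := by
  constructor
  · intro hf
    haveI := hf
    refine ⟨inferInstance, inferInstance, fun V hV => ?_⟩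
    haveI : IsAffine (f ⁻¹ᵁ V : Scheme.{u}) := hV.preimage f
    infer_instance
  · rintro ⟨hprop, hqc, hqa⟩
    haveI := hprop
    rw [IsFinite.iff_isProper_and_isAffineHom]
    refine ⟨hprop, ⟨fun V hV => ?_⟩⟩
    haveI : IsAffine (V : Scheme.{u}) := hV
    haveI : Scheme.IsQuasiAffine (f ⁻¹ᵁ V : Scheme.{u}) := hqa V hV
    set X' : Scheme.{u} := (f ⁻¹ᵁ V : Scheme.{u}) with hX'
    let f' : X' ⟶ (V : Scheme.{u}) := f ∣_ V
    haveI : IsProper f' := IsZariskiLocalAtTarget.restrict (P := @IsProper) hprop V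
    let q : Spec Γ(X', ⊤) ⟶ (V : Scheme.{u}) :=
      Spec.map f'.appTop ≫ inv (V : Scheme.{u}).toSpecΓ
    have hq : X'.toSpecΓ ≫ q = f' := by
      change X'.toSpecΓ ≫ Spec.map f'.appTop ≫ inv (V : Scheme.{u}).toSpecΓ = f'
      rw [← Category.assoc, ← Scheme.toSpecΓ_naturality, Category.assoc, IsIso.hom_inv_id,
        Category.comp_id]
    haveI : IsProper (X'.toSpecΓ ≫ q) := by rw [hq]; infer_instance
    haveI : IsProper X'.toSpecΓ := IsProper.of_comp X'.toSpecΓ q
    have hcl : IsClosed (Set.range X'.toSpecΓ) := X'.toSpecΓ.isClosedMap.isClosed_range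
    haveI : IsClosedImmersion X'.toSpecΓ := IsClosedImmersion.of_isPreimmersion _ hcl
    exact isAffine_of_isAffineHom X'.toSpecΓ

end Groth.Agent.S10868
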