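import Groth.Statements.S10871
import Mathlib

set_option autoImplicit false
universe u
open AlgebraicGeometry
open Curves

namespace Groth.Agent.S10871

lemma h5_alg (A : Type u) [CommRing A] [IsDedekindDomain A] (I x : Ideal A) [x.IsPrime]
    (hIx : I ≤ x) : ∃ g : A, g ∉ x ∧ ∃ h ∈ I, ∀ i ∈ I, g * i ∈ Ideal.span {h} := by
  classical
  by_cases hI : I = ⊥
  · subst hI
    refine ⟨1, ?_, 0, Ideal.zero_mem _, ?_⟩
    · exact (Ideal.ne_top_iff_one x).mp (Ideal.IsPrime.ne_top ‹_›)
    · intro i hi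
      rw [Ideal.mem_bot.mp hi, mul_zero]
      exact Ideal.zero_mem _
  · have h1 : x * I ≠ I := by
      intro heq
      have h2 : x * I = ⊤ * I := by rw [heq, Ideal.top_mul]
      have h3 : x = ⊤ := mul_right_cancel₀ hI h2
      exact Ideal.IsPrime.ne_top ‹_› h3
    have h2 : x * I < I := lt_of_le_of_ne Ideal.mul_le_right h1
    obtain ⟨h, hhI, hhx⟩ := SetLike.exists_of_lt h2
    have h3 : Ideal.span {h} ≤ I := (Ideal.span_singleton_le_iff_mem I).mpr hhI
    obtain ⟨J', hJ'⟩ := Ideal.dvd_iff_le.mpr h3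
    have h4 : ¬ J' ≤ x := by
      intro hle
      apply hhx
      have : Ideal.span {h} ≤ x * I := by
        rw [hJ', mul_comm]
        exact Ideal.mul_mono_left hle
      exact this (Ideal.mem_span_singleton_self h)
    obtain ⟨g, hgJ, hgx⟩ := SetLike.not_le_iff_exists.mp h4
    refine ⟨g, hgx, h, hhI, fun i hi => ?_⟩
    rw [hJ', mul_comm g i]
    exact Ideal.mul_mem_mul hi hgJ

/-- Every open subscheme of the spectrum of a Dedekind domain is affine. -/
theorem result (A : Type u) [CommRing A] [IsDedekindDomain A]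
    (U : (Spec (CommRingCat.of A)).Opens) : IsAffineOpen U := by
  classical
  let U' : Set (PrimeSpectrum A) := (U : Set (Spec (CommRingCat.of A)))
  obtain ⟨I, hI⟩ : ∃ I : Ideal A, U'ᶜ = PrimeSpectrum.zeroLocus I :=
    (PrimeSpectrum.isClosed_iff_zeroLocus_ideal _).mp U.2.isClosed_compl
  have hbasic : ∀ f : A, IsAffineOpen (X := Spec (CommRingCat.of A)) (PrimeSpectrum.basicOpen f) := by
    intro f
    have h1 := basicOpen_eq_of_affine (R := CommRingCat.of A) f
    have h2 := (isAffineOpen_top (Spec (CommRingCat.of A))).basicOpen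
      ((Scheme.ΓSpecIso (CommRingCat.of A)).inv f)
    rw [h1] at h2
    exact h2
  have hmemU : ∀ q : PrimeSpectrum A, q ∈ U ↔ ¬ I ≤ q.asIdeal := by
    intro q
    have h1 : q ∈ U'ᶜ ↔ q ∈ PrimeSpectrum.zeroLocus (I : Set A) := by
      rw [hI]
    rw [Set.mem_compl_iff, PrimeSpectrum.mem_zeroLocus] at h1
    constructor
    · intro hq hle
      exact (h1.mpr hle) hq
    · intro hq
      by_contra hnot
      exact hq (h1.mp hnot)
  have key : ∀ x : Spec (CommRingCat.of A), ∃ g : A, x ∈ (PrimeSpectrum.basicOpen g : (Spec (CommRingCat.of A)).Opens) ∧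
      ∃ k : A, U ⊓ (PrimeSpectrum.basicOpen g : (Spec (CommRingCat.of A)).Opens) = PrimeSpectrum.basicOpen k := by
    intro x
    by_cases hx : x ∈ U
    · obtain ⟨_, ⟨g, rfl⟩, hxg, hgU⟩ :=
        PrimeSpectrum.isTopologicalBasis_basic_opens.exists_subset_of_mem_open hx U.2
      refine ⟨g, hxg, g, ?_⟩
      exact inf_eq_right.mpr hgU
    · have hIx : I ≤ (x : PrimeSpectrum A).asIdeal := by
        by_contra hnot
        exact hx ((hmemU x).mpr hnot)
      haveI : (x : PrimeSpectrum A).asIdeal.IsPrime := (x : PrimeSpectrum A).2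
      obtain ⟨g, hgx, h, hhI, hgI⟩ := h5_alg A I (x : PrimeSpectrum A).asIdeal hIx
      refine ⟨g, hgx, g * h, ?_⟩
      ext q
      change (q ∈ U ∧ g ∉ (q : PrimeSpectrum A).asIdeal) ↔ g * h ∉ (q : PrimeSpectrum A).asIdeal
      have hq := hmemU q
      constructor
      · rintro ⟨hqU, hgq⟩ hgh
        have hIq := hq.mp hqU
        obtain ⟨i, hiI, hiq⟩ := SetLike.not_le_iff_exists.mp hIq
        have hh : h ∈ (q : PrimeSpectrum A).asIdeal :=
          ((q : PrimeSpectrum A).2.mem_or_mem hgh).resolve_left hgq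
        obtain ⟨b, hb⟩ := Ideal.mem_span_singleton'.mp (hgI i hiI)
        have : g * i ∈ (q : PrimeSpectrum A).asIdeal := by
          rw [← hb]
          exact Ideal.mul_mem_left _ _ hh
        rcases (q : PrimeSpectrum A).2.mem_or_mem this with h1 | h1
        · exact hgq h1
        · exact hiq h1
      · intro hgh
        refine ⟨hq.mpr fun hle => hgh (Ideal.mul_mem_left _ _ (hle hhI)), fun hgq => hgh ?_⟩
        exact Ideal.mul_mem_right _ _ hgq
  haveI : IsAffineHom U.ι := by
    apply isAffineHom_of_forall_exists_isAffineOpen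
    intro x
    obtain ⟨g, hxg, k, hk⟩ := key x
    refine ⟨PrimeSpectrum.basicOpen g, hxg, hbasic g, ?_⟩
    rw [← Scheme.Hom.isAffineOpen_iff_of_isOpenImmersion U.ι]
    have h1 : U.ι ''ᵁ (U.ι ⁻¹ᵁ (PrimeSpectrum.basicOpen g : (Spec (CommRingCat.of A)).Opens)) =
        U ⊓ (PrimeSpectrum.basicOpen g : (Spec (CommRingCat.of A)).Opens) := by
      rw [Scheme.Hom.image_preimage_eq_opensRange_inf, Scheme.Opens.opensRange_ι]
    rw [h1, hk]
    exact hbasic k
  exact isAffine_of_isAffineHom U.ι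

end Groth.Agent.S10871
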