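import Groth.Statements.S10877
import Mathlib

set_option autoImplicit false
universe u
open CategoryTheory AlgebraicGeometry
open FlatMor

namespace Groth.Agent.S10877

open AlgebraicGeometry CategoryTheory CategoryTheory.Limits in
private theorem apply_eq_of_isDominant_of_isSeparated {W X Y Z : Scheme.{u}} {f g : X ⟶ Y}
    (s : Y ⟶ Z) [IsSeparated s] (h : f ≫ s = g ≫ s)
    (ι : W ⟶ X) [IsDominant ι] (hU : ι ≫ f = ι ≫ g) (x : X) : f x = g x := by
  let X' : Over Z := Over.mk (f ≫ s)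
  let Y' : Over Z := Over.mk s
  let U' : Over Z := Over.mk (ι ≫ f ≫ s)
  let f' : X' ⟶ Y' := Over.homMk f
  let g' : X' ⟶ Y' := Over.homMk g
  let ι' : U' ⟶ X' := Over.homMk ι
  have : IsSeparated Y'.hom := ‹_›
  have : IsDominant (equalizer.ι f' g').left := by
    apply +allowSynthFailures IsDominant.of_comp (equalizer.lift ι' ?_).left
    · rwa [← Over.comp_left, equalizer.lift_ι]
    · ext1; exact hU
  have : Surjective (equalizer.ι f' g').left :=
    surjective_of_isDominant_of_isClosed_range _ (Scheme.Hom.isClosedEmbedding _).isClosed_range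
  obtain ⟨e, rfl⟩ := (equalizer.ι f' g').left.surjective x
  have h2 : (equalizer.ι f' g').left ≫ f = (equalizer.ι f' g').left ≫ g :=
    congr($(equalizer.condition f' g').left)
  rw [← Scheme.Hom.comp_apply, ← Scheme.Hom.comp_apply, h2]

/-- A separated morphism f : X → Y, with X having finitely many irreducible components, which restricts
to an open immersion on each member of a cover of X by dense open subsets, is an open immersion. -/
theorem result {X Y : Scheme.{u}} (f : X ⟶ Y) [IsSeparated f]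
    (hfin : (irreducibleComponents (X : Type u)).Finite) {ι : Type u} (U : ι → X.Opens)
    (hU : ⨆ i, U i = ⊤) (hd : ∀ i, Dense (U i : Set X)) (h : ∀ i, IsOpenImmersion ((U i).ι ≫ f)) :
    IsOpenImmersion f := by
  classical
  haveI hoi : ∀ i, IsOpenImmersion ((U i).ι ≫ f) := h
  have hcov : ∀ x : X, ∃ i, x ∈ U i := by
    intro x
    have : x ∈ (⨆ i, U i : X.Opens) := by rw [hU]; trivial
    exact TopologicalSpace.Opens.mem_iSup.mp this
  have hinj : Function.Injective f := by
    intro x x' hxx'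
    obtain ⟨i, hxi⟩ := hcov x
    obtain ⟨j, hxj⟩ := hcov x'
    let fi := (U i).ι ≫ f
    let fj := (U j).ι ≫ f
    let V : Y.Opens := fi.opensRange ⊓ fj.opensRange
    have hyV : f x ∈ V := ⟨⟨⟨x, hxi⟩, rfl⟩, ⟨⟨x', hxj⟩, hxx'.symm⟩⟩
    have hVi : Set.range V.ι ⊆ Set.range fi := by
      rw [Scheme.Opens.range_ι]; exact fun y hy => hy.1
    have hVj : Set.range V.ι ⊆ Set.range fj := by
      rw [Scheme.Opens.range_ι]; exact fun y hy => hy.2
    let li : V.toScheme ⟶ (U i).toScheme := IsOpenImmersion.lift fi V.ι hVi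
    let lj : V.toScheme ⟶ (U j).toScheme := IsOpenImmersion.lift fj V.ι hVj
    have hli : li ≫ fi = V.ι := IsOpenImmersion.lift_fac _ _ _
    have hlj : lj ≫ fj = V.ι := IsOpenImmersion.lift_fac _ _ _
    let gi : V.toScheme ⟶ X := li ≫ (U i).ι
    let gj : V.toScheme ⟶ X := lj ≫ (U j).ι
    have hgi : gi ≫ f = V.ι := by rw [Category.assoc]; exact hli
    have hgj : gj ≫ f = V.ι := by rw [Category.assoc]; exact hlj
    let W' : X.Opens := U i ⊓ U j ⊓ f ⁻¹ᵁ V
    have hW'V : Set.range (W'.ι ≫ f) ⊆ Set.range V.ι := by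
      rintro _ ⟨w, rfl⟩
      rw [Scheme.Opens.range_ι]
      exact w.2.2
    let ι : W'.toScheme ⟶ V.toScheme := IsOpenImmersion.lift V.ι (W'.ι ≫ f) hW'V
    have hι : ι ≫ V.ι = W'.ι ≫ f := IsOpenImmersion.lift_fac _ _ _
    have hιi : ι ≫ gi = W'.ι := by
      have : ι ≫ li = X.homOfLE (show W' ≤ U i from inf_le_left.trans inf_le_left) := by
        rw [← cancel_mono fi, Category.assoc, hli, hι, ← Category.assoc, X.homOfLE_ι]
      rw [← Category.assoc, this, X.homOfLE_ι]
    have hιj : ι ≫ gj = W'.ι := by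
      have : ι ≫ lj = X.homOfLE (show W' ≤ U j from inf_le_left.trans inf_le_right) := by
        rw [← cancel_mono fj, Category.assoc, hlj, hι, ← Category.assoc, X.homOfLE_ι]
      rw [← Category.assoc, this, X.homOfLE_ι]
    haveI : IsDominant ι := by
      constructor
      rw [DenseRange, dense_iff_inter_open]
      intro N hN hNne
      obtain ⟨v, hvN⟩ := hNne
      have hN' : IsOpen (V.ι '' N) := V.ι.isOpenEmbedding.isOpenMap N hN
      obtain ⟨u, hu⟩ : ∃ u : U i, fi u = V.ι v := v.2.1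
      have hO : IsOpen ((U i : Set X) ∩ f ⁻¹' (V.ι '' N)) :=
        (U i).2.inter (hN'.preimage f.continuous)
      obtain ⟨w, ⟨hwi, hwN⟩, hwj⟩ := (hd j).inter_open_nonempty _ hO
        ⟨u.1, u.2, ⟨v, hvN, hu.symm⟩⟩
      obtain ⟨n, hnN, hn⟩ := hwN
      have hwW' : w ∈ W' := ⟨⟨hwi, hwj⟩, by show f w ∈ V; rw [← hn]; exact n.2⟩
      refine ⟨n, hnN, ⟨w, hwW'⟩, ?_⟩
      apply V.ι.isOpenEmbedding.injective
      rw [← Scheme.Hom.comp_apply, hι, hn]
      rfl
    have key := apply_eq_of_isDominant_of_isSeparated f (hgi.trans hgj.symm) ι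
      (hιi.trans hιj.symm) ⟨f x, hyV⟩
    have h1 : gi ⟨f x, hyV⟩ = x := by
      have h3 : fi (li ⟨f x, hyV⟩) = fi ⟨x, hxi⟩ := by
        rw [← Scheme.Hom.comp_apply, hli]; rfl
      have h4 := fi.isOpenEmbedding.injective h3
      show (U i).ι (li ⟨f x, hyV⟩) = x
      rw [h4]; rfl
    have h2 : gj ⟨f x, hyV⟩ = x' := by
      have h3 : fj (lj ⟨f x, hyV⟩) = fj ⟨x', hxj⟩ := by
        rw [← Scheme.Hom.comp_apply, hlj]; exact hxx'
      have h4 := fj.isOpenEmbedding.injective h3
      show (U j).ι (lj ⟨f x, hyV⟩) = x'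
      rw [h4]; rfl
    rw [← h1, ← h2, key]
  have hopen : IsOpenMap f := by
    intro O hO
    have : f '' O = ⋃ i, ((U i).ι ≫ f) '' ((U i).ι ⁻¹' O) := by
      ext y
      constructor
      · rintro ⟨x, hxO, rfl⟩
        obtain ⟨i, hxi⟩ := hcov x
        exact Set.mem_iUnion.mpr ⟨i, ⟨x, hxi⟩, hxO, rfl⟩
      · intro hy
        obtain ⟨i, u, huO, rfl⟩ := Set.mem_iUnion.mp hy
        exact ⟨(U i).ι u, huO, rfl⟩
    rw [this]
    exact isOpen_iUnion fun i =>
      ((U i).ι ≫ f).isOpenEmbedding.isOpenMap _ (hO.preimage (U i).ι.continuous)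
  have hemb : Topology.IsOpenEmbedding f :=
    .of_continuous_injective_isOpenMap f.continuous hinj hopen
  haveI : ∀ x, IsIso (f.stalkMap x) := by
    intro x
    obtain ⟨i, hxi⟩ := hcov x
    have h1 : IsIso (((U i).ι ≫ f).stalkMap ⟨x, hxi⟩) := inferInstance
    rw [Scheme.Hom.stalkMap_comp] at h1
    exact @IsIso.of_isIso_comp_right _ _ _ _ _ (f.stalkMap ((U i).ι ⟨x, hxi⟩))
      ((U i).ι.stalkMap ⟨x, hxi⟩) inferInstance h1
  exact IsOpenImmersion.of_isIso_stalkMap f hemb

end Groth.Agent.S10877
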