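import Groth.Statements.S10878
import Mathlib

set_option autoImplicit false
universe u
open CategoryTheory AlgebraicGeometry
open FlatMor

namespace Groth.Agent.S10878
open scoped Set.Notation

open scoped Set.Notation in
theorem h5_isEmbedding_of_cover {X Y ι : Type*} [TopologicalSpace X] [TopologicalSpace Y]
    (f : X → Y) (hf : Continuous f) (U : ι → Set X) (V : ι → Set Y) (hV : ∀ i, IsOpen (V i))
    (hcov : ∀ x, ∃ i, x ∈ U i) (hpre : ∀ i, f ⁻¹' V i = U i)
    (hemb : ∀ i, Topology.IsEmbedding (fun u : U i => f u)) : Topology.IsEmbedding f := by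
  have hinj : Function.Injective f := by
    intro x x' hxx'
    obtain ⟨i, hxi⟩ := hcov x
    have hx' : x' ∈ U i := by
      rw [← hpre i, Set.mem_preimage, ← hxx']
      show x ∈ f ⁻¹' V i
      rw [hpre i]; exact hxi
    have := (hemb i).injective (a₁ := ⟨x, hxi⟩) (a₂ := ⟨x', hx'⟩) hxx'
    exact congrArg Subtype.val this
  refine ⟨⟨?_⟩, hinj⟩
  apply TopologicalSpace.ext
  funext s
  apply propext
  rw [isOpen_induced_iff]
  constructor
  · intro hs
    have h1 : ∀ i, ∃ t : Set Y, IsOpen t ∧ (fun u : U i => f u) ⁻¹' t = Subtype.val ⁻¹' s := by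
      intro i
      have h2 : IsOpen (Subtype.val ⁻¹' s : Set (U i)) := hs.preimage continuous_subtype_val
      rw [(hemb i).isInducing.isOpen_iff] at h2
      exact h2
    choose t ht1 ht2 using h1
    refine ⟨⋃ i, t i ∩ V i, isOpen_iUnion fun i => (ht1 i).inter (hV i), ?_⟩
    ext x
    simp only [Set.mem_preimage, Set.mem_iUnion, Set.mem_inter_iff]
    constructor
    · rintro ⟨i, hxt, hxV⟩
      have hxi : x ∈ U i := by rw [← hpre i]; exact hxV
      have : (⟨x, hxi⟩ : U i) ∈ (fun u : U i => f u) ⁻¹' t i := hxt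
      rw [ht2 i] at this
      exact this
    · intro hxs
      obtain ⟨i, hxi⟩ := hcov x
      refine ⟨i, ?_, ?_⟩
      · have : (⟨x, hxi⟩ : U i) ∈ (fun u : U i => f u) ⁻¹' t i := by
          rw [ht2 i]; exact hxs
        exact this
      · show x ∈ f ⁻¹' V i
        rw [hpre i]; exact hxi
  · rintro ⟨t, ht, rfl⟩
    exact ht.preimage hf

theorem h5_preimage_coborderRange {X Y : Scheme.{u}} (f : X ⟶ Y) [IsSeparated f] (U : X.Opens)
    (hd : Dense (U : Set X)) [IsImmersion (U.ι ≫ f)] :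
    f ⁻¹ᵁ (U.ι ≫ f).coborderRange = U := by
  have hUW : U ≤ f ⁻¹ᵁ (U.ι ≫ f).coborderRange := by
    intro x hx
    show f x ∈ coborder (Set.range (U.ι ≫ f))
    exact subset_coborder ⟨⟨x, hx⟩, rfl⟩
  apply le_antisymm _ hUW
  have hj : X.homOfLE hUW ≫ (f ∣_ (U.ι ≫ f).coborderRange) = (U.ι ≫ f).liftCoborder := by
    rw [← cancel_mono (U.ι ≫ f).coborderRange.ι, Category.assoc, morphismRestrict_ι,
      ← Category.assoc, X.homOfLE_ι, Scheme.Hom.liftCoborder_ι]
  haveI : IsClosedImmersion (X.homOfLE hUW ≫ (f ∣_ (U.ι ≫ f).coborderRange)) := by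
    rw [hj]; infer_instance
  haveI : IsSeparated (f ∣_ (U.ι ≫ f).coborderRange) := inferInstance
  haveI : IsClosedImmersion (X.homOfLE hUW) :=
    IsClosedImmersion.of_comp (X.homOfLE hUW) (f ∣_ (U.ι ≫ f).coborderRange)
  haveI : IsDominant (X.homOfLE hUW) := by
    constructor
    rw [DenseRange, dense_iff_inter_open]
    rintro N hN ⟨w, hw⟩
    have hN' : IsOpen ((f ⁻¹ᵁ (U.ι ≫ f).coborderRange).ι '' N) :=
      (f ⁻¹ᵁ (U.ι ≫ f).coborderRange).ι.isOpenEmbedding.isOpenMap N hN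
    obtain ⟨x, ⟨n, hnN, hn⟩, hxU⟩ := hd.inter_open_nonempty _ hN' ⟨_, w, hw, rfl⟩
    refine ⟨n, hnN, ⟨x, hxU⟩, ?_⟩
    apply (f ⁻¹ᵁ (U.ι ≫ f).coborderRange).ι.isOpenEmbedding.injective
    rw [← Scheme.Hom.comp_apply, X.homOfLE_ι, hn]
    rfl
  haveI : Surjective (X.homOfLE hUW) :=
    surjective_of_isDominant_of_isClosed_range _ (Scheme.Hom.isClosedEmbedding _).isClosed_range
  intro x hx
  obtain ⟨u, hu⟩ := (X.homOfLE hUW).surjective ⟨x, hx⟩
  have h1 : (U.ι u : X) = x := by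
    have h2 := congrArg (f ⁻¹ᵁ (U.ι ≫ f).coborderRange).ι hu
    rw [← Scheme.Hom.comp_apply, X.homOfLE_ι] at h2
    exact h2
  rw [← h1]
  exact u.2

/-- A separated morphism f : X → Y, with X having finitely many irreducible components, which restricts
to an immersion on each member of a cover of X by dense open subsets, is an immersion. -/
theorem result {X Y : Scheme.{u}} (f : X ⟶ Y) [IsSeparated f]
    (hfin : (irreducibleComponents (X : Type u)).Finite) {ι : Type u} (U : ι → X.Opens)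
    (hU : ⨆ i, U i = ⊤) (hd : ∀ i, Dense (U i : Set X)) (h : ∀ i, IsImmersion ((U i).ι ≫ f)) :
    IsImmersion f := by
  classical
  haveI him : ∀ i, IsImmersion ((U i).ι ≫ f) := h
  have hcov : ∀ x : X, ∃ i, x ∈ U i := by
    intro x
    have : x ∈ (⨆ i, U i : X.Opens) := by rw [hU]; trivial
    exact TopologicalSpace.Opens.mem_iSup.mp this
  have hpre : ∀ i, f ⁻¹ᵁ ((U i).ι ≫ f).coborderRange = U i :=
    fun i => h5_preimage_coborderRange f (U i) (hd i)
  have hpre' : ∀ i, f ⁻¹' (((U i).ι ≫ f).coborderRange : Set Y) = (U i : Set X) :=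
    fun i => congrArg (fun O : X.Opens => (O : Set X)) (hpre i)
  have hemb : Topology.IsEmbedding f := by
    refine h5_isEmbedding_of_cover f f.continuous (fun i => (U i : Set X))
      (fun i => (((U i).ι ≫ f).coborderRange : Set Y)) (fun i => (((U i).ι ≫ f).coborderRange).2)
      hcov hpre' (fun i => ?_)
    exact ((U i).ι ≫ f).isEmbedding
  haveI : SurjectiveOnStalks f := by
    refine ⟨fun x => ?_⟩
    obtain ⟨i, hxi⟩ := hcov x
    have h1 : Function.Surjective (((U i).ι ≫ f).stalkMap ⟨x, hxi⟩) :=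
      ((U i).ι ≫ f).stalkMap_surjective ⟨x, hxi⟩
    rw [Scheme.Hom.stalkMap_comp] at h1
    show Function.Surjective (f.stalkMap ((U i).ι ⟨x, hxi⟩))
    intro y
    obtain ⟨z, hz⟩ := h1 ((U i).ι.stalkMap ⟨x, hxi⟩ y)
    refine ⟨z, ?_⟩
    apply (ConcreteCategory.bijective_of_isIso ((U i).ι.stalkMap ⟨x, hxi⟩)).injective
    rw [← hz]
    rfl
  haveI : IsPreimmersion f := ⟨hemb⟩
  refine ⟨?_⟩
  refine ((isLocallyClosed_tfae (Set.range f)).out 0 2).2 ?_
  rintro _ ⟨x, rfl⟩
  obtain ⟨i, hxi⟩ := hcov x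
  refine ⟨(((U i).ι ≫ f).coborderRange : Set Y),
    (((U i).ι ≫ f).coborderRange).2.mem_nhds ?_, ?_⟩
  · show x ∈ f ⁻¹' (((U i).ι ≫ f).coborderRange : Set Y)
    rw [hpre' i]; exact hxi
  · have heq : ((((U i).ι ≫ f).coborderRange : Set Y) ↓∩ Set.range f) =
        ((((U i).ι ≫ f).coborderRange : Set Y) ↓∩ Set.range ((U i).ι ≫ f)) := by
      ext y
      simp only [Set.mem_preimage, Set.mem_range]
      constructor
      · rintro ⟨x', hx'⟩
        have hx'i : x' ∈ U i := by
          rw [← SetLike.mem_coe, ← hpre' i, Set.mem_preimage, hx']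
          exact y.2
        exact ⟨⟨x', hx'i⟩, hx'⟩
      · rintro ⟨u, hu⟩
        exact ⟨(U i).ι u, hu⟩
    rw [heq]
    exact isClosed_preimage_val_coborder

end Groth.Agent.S10878
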