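import Groth.Statements.S10886
import Mathlib

set_option autoImplicit false
universe u
open CategoryTheory AlgebraicGeometry
open Curves

namespace Groth.Agent.S10886

/-- In an irreducible Noetherian scheme of dimension one every constructible subset is either a finite
set of closed points or the complement of such a set; in particular it is open or closed. -/
theorem result {X : Scheme.{u}} [IsNoetherian X]
    [IrreducibleSpace X] (hX : topologicalKrullDim X = 1) (s : Set X) (hs : Topology.IsConstructible s) :
    (s.Finite ∧ (∀ x ∈ s, IsClosed ({x} : Set X))) ∨ (sᶜ.Finite ∧ ∀ x ∈ sᶜ, IsClosed ({x} : Set X)) := by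
  classical
  -- irreducible closed proper subsets are closed points
  have hpt : ∀ T : Set X, IsIrreducible T → IsClosed T → T ≠ Set.univ → ∃ x, T = {x} := by
    intro T hTi hTc hTne
    obtain ⟨x, hx⟩ := QuasiSober.sober hTi hTc
    refine ⟨x, ?_⟩
    apply Set.Subset.antisymm _ (Set.singleton_subset_iff.mpr hx.mem)
    intro y hy
    by_contra hyx
    have hyx' : y ≠ x := hyx
    -- chain closure{y} < T < univ
    let a : TopologicalSpace.IrreducibleCloseds X :=
      ⟨closure {y}, isIrreducible_singleton.closure, isClosed_closure⟩
    let b : TopologicalSpace.IrreducibleCloseds X := ⟨T, hTi, hTc⟩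
    let c : TopologicalSpace.IrreducibleCloseds X :=
      ⟨Set.univ, (irreducibleSpace_def X).mp inferInstance, isClosed_univ⟩
    have hab : a < b := by
      rw [SetLike.lt_iff_le_and_exists]
      refine ⟨closure_minimal (Set.singleton_subset_iff.mpr hy) hTc, x, hx.mem, ?_⟩
      intro hxy
      -- x ∈ closure {y}: then closure{x} ⊆ closure{y} ⊆ T = closure {x}
      have h1 : closure ({y} : Set X) = T := by
        apply Set.Subset.antisymm (closure_minimal (Set.singleton_subset_iff.mpr hy) hTc)
        rw [← hx.def]
        exact closure_minimal (Set.singleton_subset_iff.mpr hxy) isClosed_closure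
      have h2 : IsGenericPoint y T := h1
      exact hyx' (h2.eq hx)
    have hbc : b < c := by
      rw [SetLike.lt_iff_le_and_exists]
      refine ⟨fun _ _ => Set.mem_univ _, ?_⟩
      by_contra hcon
      simp only [not_exists, not_and, not_not] at hcon
      apply hTne
      ext z
      exact ⟨fun _ => Set.mem_univ z, fun hz => hcon z hz⟩
    have := Order.LTSeries.length_le_krullDim
      (((RelSeries.singleton _ a).snoc b (by simpa using hab)).snoc c (by simpa using hbc))
    have h2 : ((2 : ℕ) : WithBot ℕ∞) ≤ ((1 : ℕ) : WithBot ℕ∞) := by
      have h3 : topologicalKrullDim X = ((1 : ℕ) : WithBot ℕ∞) := by rw [hX]; rfl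
      rw [← h3]
      unfold topologicalKrullDim
      simpa using this
    have : 2 ≤ 1 := by exact_mod_cast h2
    omega
  -- proper closed subsets are finite sets of closed points
  have hclosed : ∀ Z : Set X, IsClosed Z → Z ≠ Set.univ →
      Z.Finite ∧ ∀ x ∈ Z, IsClosed ({x} : Set X) := by
    intro Z hZc hZne
    obtain ⟨S, hSf, hSc, hSi, rfl⟩ :=
      TopologicalSpace.NoetherianSpace.exists_finite_set_isClosed_irreducible hZc
    have hTne : ∀ T ∈ S, T ≠ Set.univ := by
      intro T hT hTu
      apply hZne
      rw [Set.eq_univ_iff_forall]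
      intro z
      exact ⟨T, hT, hTu ▸ Set.mem_univ z⟩
    have hTpt : ∀ T ∈ S, ∃ x, T = {x} := fun T hT => hpt T (hSi T hT) (hSc T hT) (hTne T hT)
    constructor
    · apply Set.Finite.sUnion hSf
      intro T hT
      obtain ⟨x, rfl⟩ := hTpt T hT
      exact Set.finite_singleton x
    · rintro z ⟨T, hT, hzT⟩
      obtain ⟨x, rfl⟩ := hTpt T hT
      have : z = x := hzT
      rw [this]
      exact hSc _ hT
  -- closure properties
  have hsub : ∀ s t : Set X, s ⊆ t → (t.Finite ∧ ∀ x ∈ t, IsClosed ({x} : Set X)) →
      (s.Finite ∧ ∀ x ∈ s, IsClosed ({x} : Set X)) := fun s t hst h =>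
    ⟨h.1.subset hst, fun x hx => h.2 x (hst hx)⟩
  induction hs using Topology.IsConstructible.empty_union_induction with
  | open_retrocompact U hUo hUc =>
    by_cases hU : U = ∅
    · left
      rw [hU]
      exact ⟨Set.finite_empty, fun x hx => absurd hx (Set.notMem_empty x)⟩
    · right
      apply hclosed _ hUo.isClosed_compl
      intro h
      apply hU
      rw [← compl_compl U, h, Set.compl_univ]
  | union s hs t ht ihs iht =>
    rcases ihs with h1 | h1
    · rcases iht with h2 | h2
      · left
        refine ⟨h1.1.union h2.1, ?_⟩
        rintro x (hx | hx)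
        · exact h1.2 x hx
        · exact h2.2 x hx
      · right
        exact hsub _ _ (Set.compl_subset_compl.mpr Set.subset_union_right) h2
    · right
      exact hsub _ _ (Set.compl_subset_compl.mpr Set.subset_union_left) h1
  | compl s hs ih =>
    rcases ih with h | h
    · right; rwa [compl_compl]
    · left; exact h

end Groth.Agent.S10886
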