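import Groth.Statements.S10891
import Mathlib

set_option autoImplicit false
universe u
open CAlg

namespace Groth.Agent.S10891

/-- Let k be a field containing a primitive r-th root of unity ζ and 0 < a < r. The cyclic group of r-th
roots of unity acts on k[X, Y] through the generator X ↦ ζ⁻¹ X, Y ↦ ζ^(−a) Y, and the ring of
invariants of this action is generated as a k-algebra by the monomials X^i Y^j with 0 ≤ i, j ≤ r,
(i, j) ≠ (r, r) and i + a·j ≡ 0 (mod r). (The printed statement writes n for the order of the group,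
which the surrounding section calls r.) -/
theorem result (k : Type u) [Field k] (r a : ℕ) (ha : 0 < a) (har : a < r)
    (ζ : k) (hζ : IsPrimitiveRoot ζ r) (p : MvPolynomial (Fin 2) k) :
    MvPolynomial.aeval (fun i : Fin 2 => if i = 0 then MvPolynomial.C ζ⁻¹ * MvPolynomial.X 0
        else MvPolynomial.C (ζ⁻¹ ^ a) * (MvPolynomial.X 1 : MvPolynomial (Fin 2) k)) p = p ↔
      p ∈ Algebra.adjoin k {q : MvPolynomial (Fin 2) k | ∃ i j : ℕ, i ≤ r ∧ j ≤ r ∧ ¬ (i = r ∧ j = r) ∧
        r ∣ i + a * j ∧ q = MvPolynomial.X 0 ^ i * MvPolynomial.X 1 ^ j} := by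
  classical
  have hr0 : 0 < r := lt_trans ha har
  set σ := MvPolynomial.aeval (R := k) (fun i : Fin 2 => if i = 0 then MvPolynomial.C ζ⁻¹ * MvPolynomial.X 0
        else MvPolynomial.C (ζ⁻¹ ^ a) * (MvPolynomial.X 1 : MvPolynomial (Fin 2) k)) with hσ
  set G : Set (MvPolynomial (Fin 2) k) := {q : MvPolynomial (Fin 2) k | ∃ i j : ℕ, i ≤ r ∧ j ≤ r ∧
        ¬ (i = r ∧ j = r) ∧ r ∣ i + a * j ∧ q = MvPolynomial.X 0 ^ i * MvPolynomial.X 1 ^ j} with hG
  -- action on monomials
  have hmon : ∀ (i j : ℕ), σ (MvPolynomial.X 0 ^ i * MvPolynomial.X 1 ^ j) =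
      MvPolynomial.C (ζ⁻¹ ^ (i + a * j)) * (MvPolynomial.X 0 ^ i * MvPolynomial.X 1 ^ j) := by
    intro i j
    rw [map_mul, map_pow, map_pow, hσ, MvPolynomial.aeval_X, MvPolynomial.aeval_X]
    simp only [if_true, Fin.isValue, one_ne_zero, if_false]
    rw [mul_pow, mul_pow, ← map_pow, ← map_pow, ← pow_mul, pow_add, map_mul]
    ring
  have hmonomial : ∀ (m : Fin 2 →₀ ℕ) (c : k), MvPolynomial.monomial m c =
      MvPolynomial.C c * (MvPolynomial.X 0 ^ (m 0) * MvPolynomial.X 1 ^ (m 1)) := by
    intro m c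
    rw [MvPolynomial.monomial_eq, Finsupp.prod_fintype _ _ (fun i => by simp), Fin.prod_univ_two]
  have hσmonomial : ∀ (m : Fin 2 →₀ ℕ) (c : k), σ (MvPolynomial.monomial m c) =
      MvPolynomial.monomial m (c * ζ⁻¹ ^ (m 0 + a * m 1)) := by
    intro m c
    rw [hmonomial, hmonomial, map_mul, hmon, map_mul, MvPolynomial.algHom_C]
    simp only [MvPolynomial.algebraMap_eq]
    ring
  have hcoeff : ∀ (q : MvPolynomial (Fin 2) k) (m : Fin 2 →₀ ℕ),
      MvPolynomial.coeff m (σ q) = MvPolynomial.coeff m q * ζ⁻¹ ^ (m 0 + a * m 1) := by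
    intro q m
    conv_lhs => rw [q.as_sum, map_sum]
    simp_rw [hσmonomial]
    rw [MvPolynomial.coeff_sum]
    simp_rw [MvPolynomial.coeff_monomial]
    rw [Finset.sum_ite_eq']
    split_ifs with hm
    · rfl
    · rw [MvPolynomial.notMem_support_iff.mp hm, zero_mul]
  have hζinv : ∀ e : ℕ, ζ⁻¹ ^ e = 1 ↔ r ∣ e := by
    intro e
    rw [inv_pow, inv_eq_one]
    exact hζ.pow_eq_one_iff_dvd e
  -- monomials in the adjoin
  have hXr : (MvPolynomial.X 0 : MvPolynomial (Fin 2) k) ^ r ∈ Algebra.adjoin k G := by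
    apply Algebra.subset_adjoin
    refine ⟨r, 0, le_rfl, Nat.zero_le _, ?_, ?_, ?_⟩
    · rintro ⟨-, h⟩; omega
    · simp
    · simp
  have hYr : (MvPolynomial.X 1 : MvPolynomial (Fin 2) k) ^ r ∈ Algebra.adjoin k G := by
    apply Algebra.subset_adjoin
    refine ⟨0, r, Nat.zero_le _, le_rfl, ?_, ?_, ?_⟩
    · rintro ⟨h, -⟩; omega
    · simp
    · simp
  have hmem : ∀ N i j : ℕ, i + j ≤ N → r ∣ i + a * j →
      (MvPolynomial.X 0 ^ i * MvPolynomial.X 1 ^ j : MvPolynomial (Fin 2) k) ∈ Algebra.adjoin k G := by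
    intro N
    induction N with
    | zero =>
      intro i j hij _
      have hi : i = 0 := by omega
      have hj : j = 0 := by omega
      subst hi; subst hj
      simp only [pow_zero, mul_one]
      exact one_mem _
    | succ N ih =>
      intro i j hij hdvd
      by_cases hi : r ≤ i
      · obtain ⟨i', rfl⟩ := Nat.exists_eq_add_of_le hi
        have hd' : r ∣ i' + a * j := by
          have : r + i' + a * j = r + (i' + a * j) := by ring
          rw [this] at hdvd
          exact (Nat.dvd_add_right (dvd_refl r)).mp hdvd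
        have := ih i' j (by omega) hd'
        rw [pow_add, mul_assoc]
        exact mul_mem hXr this
      · by_cases hj : r ≤ j
        · obtain ⟨j', rfl⟩ := Nat.exists_eq_add_of_le hj
          have hd' : r ∣ i + a * j' := by
            have : i + a * (r + j') = r * a + (i + a * j') := by ring
            rw [this] at hdvd
            exact (Nat.dvd_add_right (dvd_mul_right r a)).mp hdvd
          have := ih i j' (by omega) hd'
          rw [pow_add]
          have e : (MvPolynomial.X 0 ^ i * (MvPolynomial.X 1 ^ r * MvPolynomial.X 1 ^ j') :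
              MvPolynomial (Fin 2) k) = MvPolynomial.X 1 ^ r * (MvPolynomial.X 0 ^ i * MvPolynomial.X 1 ^ j') := by
            ring
          rw [e]
          exact mul_mem hYr this
        · apply Algebra.subset_adjoin
          exact ⟨i, j, by omega, by omega, by omega, hdvd, rfl⟩
  constructor
  · intro hp
    rw [p.as_sum]
    refine Subalgebra.sum_mem _ (fun m hm => ?_)
    rw [hmonomial]
    refine mul_mem (Subalgebra.algebraMap_mem _ _) ?_
    refine hmem _ _ _ le_rfl ?_
    have h1 := hcoeff p m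
    rw [hp] at h1
    have hne : MvPolynomial.coeff m p ≠ 0 := MvPolynomial.mem_support_iff.mp hm
    have h2 : ζ⁻¹ ^ (m 0 + a * m 1) = 1 := by
      have : MvPolynomial.coeff m p * 1 = MvPolynomial.coeff m p * ζ⁻¹ ^ (m 0 + a * m 1) := by
        rw [mul_one]; exact h1
      exact (mul_left_cancel₀ hne this).symm
    exact (hζinv _).mp h2
  · intro hp
    induction hp using Algebra.adjoin_induction with
    | mem x hx =>
      obtain ⟨i, j, -, -, -, hdvd, rfl⟩ := hx
      rw [hmon, (hζinv _).mpr hdvd, map_one, one_mul]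
    | algebraMap c => exact AlgHom.commutes _ _
    | add x y _ _ hx hy => rw [map_add, hx, hy]
    | mul x y _ _ hx hy => rw [map_mul, hx, hy]

end Groth.Agent.S10891
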