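import Groth.Statements.S10895
import Mathlib
import Groth.Agent.Lib.helper5.FlatClosed
import Groth.Agent.Lib.helper5.StalkDict

set_option autoImplicit false
universe u
open CategoryTheory AlgebraicGeometry
open FlatMor

namespace Groth.Agent.S10895

/-- A closed immersion of finite presentation which is flat at a point x is an isomorphism over some
open neighbourhood of the image of x. -/
theorem result {X Y : Scheme.{u}} (f : X ⟶ Y) [IsClosedImmersion f]
    [LocallyOfFinitePresentation f] (x : X) (hflat : (f.stalkMap x).hom.Flat) :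
    ∃ V : Y.Opens, f.base x ∈ V ∧ IsIso (f ∣_ V) := by
  classical
  obtain ⟨V, hV', hxV, -⟩ := TopologicalSpace.Opens.isBasis_iff_nbhd.mp
    Y.isBasis_affineOpens (TopologicalSpace.Opens.mem_top (f x))
  have hV : IsAffineOpen V := hV'
  have hU : IsAffineOpen (f ⁻¹ᵁ V) := hV.preimage f
  have hxU : x ∈ f ⁻¹ᵁ V := hxV
  letI alg : Algebra Γ(Y, V) Γ(X, f ⁻¹ᵁ V) := (f.appLE V (f ⁻¹ᵁ V) le_rfl).hom.toAlgebra
  have hsurj : Function.Surjective (algebraMap Γ(Y, V) Γ(X, f ⁻¹ᵁ V)) := by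
    have := f.app_surjective V hV
    rwa [Scheme.Hom.app_eq_appLE] at this
  haveI hfp : Algebra.FinitePresentation Γ(Y, V) Γ(X, f ⁻¹ᵁ V) := by
    have := HasRingHomProperty.appLE (P := @LocallyOfFinitePresentation) f inferInstance
      ⟨V, hV⟩ ⟨f ⁻¹ᵁ V, hU⟩ le_rfl
    exact this
  have hfg : (RingHom.ker (algebraMap Γ(Y, V) Γ(X, f ⁻¹ᵁ V))).FG :=
    Algebra.FinitePresentation.ker_fG_of_surjective (Algebra.ofId Γ(Y, V) Γ(X, f ⁻¹ᵁ V)) hsurj
  haveI hfl : Module.Flat Γ(Y, V) (Localization.AtPrime (hU.primeIdealOf ⟨x, hxU⟩).asIdeal) :=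
    (H5Stalk.flat_iff f V hV (f ⁻¹ᵁ V) hU le_rfl hxU).mpr hflat
  obtain ⟨g, hgq, hgk⟩ := H5FC.exists_mul_ker_eq_zero hfg (hU.primeIdealOf ⟨x, hxU⟩).asIdeal
  have hpre : f ⁻¹ᵁ (Y.basicOpen g) = X.basicOpen (algebraMap Γ(Y, V) Γ(X, f ⁻¹ᵁ V) g) := by
    rw [Scheme.preimage_basicOpen, Scheme.Hom.app_eq_appLE]
    rfl
  have hxg : x ∈ X.basicOpen (algebraMap Γ(Y, V) Γ(X, f ⁻¹ᵁ V) g) :=
    H5Stalk.mem_basicOpen_of_notMem_primeIdealOf (f ⁻¹ᵁ V) hU hxU _ hgq
  refine ⟨Y.basicOpen g, ?_, ?_⟩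
  · show x ∈ f ⁻¹ᵁ (Y.basicOpen g)
    rw [hpre]; exact hxg
  · have hV'a : IsAffineOpen (Y.basicOpen g) := hV.basicOpen g
    haveI : IsAffine (Y.basicOpen g).toScheme := hV'a
    haveI : IsClosedImmersion (f ∣_ Y.basicOpen g) :=
      MorphismProperty.of_isPullback (P := @IsClosedImmersion)
        (isPullback_morphismRestrict f _).flip inferInstance
    refine IsClosedImmersion.isIso_of_injective_of_isAffine ?_
    have hWle : X.basicOpen (algebraMap Γ(Y, V) Γ(X, f ⁻¹ᵁ V) g) ≤ f ⁻¹ᵁ Y.basicOpen g := hpre.ge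
    have hWU : f ⁻¹ᵁ Y.basicOpen g ≤ f ⁻¹ᵁ V := f.preimage_mono (Y.basicOpen_le g)
    have key : Function.Injective
        (f.appLE (Y.basicOpen g) (f ⁻¹ᵁ Y.basicOpen g) le_rfl).hom := by
      haveI locY : IsLocalization.Away g Γ(Y, Y.basicOpen g) := hV.isLocalization_basicOpen g
      haveI locX : IsLocalization.Away (algebraMap Γ(Y, V) Γ(X, f ⁻¹ᵁ V) g)
          Γ(X, X.basicOpen (algebraMap Γ(Y, V) Γ(X, f ⁻¹ᵁ V) g)) :=
        hU.isLocalization_basicOpen _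
      rw [injective_iff_map_eq_zero]
      intro a' ha'
      obtain ⟨n, a, hna⟩ := IsLocalization.Away.surj g a'
      have e1 : Y.presheaf.map (homOfLE (Y.basicOpen_le g)).op ≫
          f.appLE (Y.basicOpen g) (f ⁻¹ᵁ Y.basicOpen g) le_rfl =
          f.appLE V (f ⁻¹ᵁ Y.basicOpen g) hWU := Scheme.Hom.map_appLE f le_rfl _
      have e2 : f.appLE V (f ⁻¹ᵁ V) le_rfl ≫ X.presheaf.map (homOfLE hWU).op =
          f.appLE V (f ⁻¹ᵁ Y.basicOpen g) hWU := Scheme.Hom.appLE_map f le_rfl _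
      have hnat : (f.appLE (Y.basicOpen g) (f ⁻¹ᵁ Y.basicOpen g) le_rfl).hom
          (algebraMap Γ(Y, V) Γ(Y, Y.basicOpen g) a) =
          (X.presheaf.map (homOfLE hWU).op).hom (algebraMap Γ(Y, V) Γ(X, f ⁻¹ᵁ V) a) := by
        have := congrArg (fun ψ => ψ.hom a) (e1.trans e2.symm)
        simp only [CommRingCat.hom_comp, RingHom.comp_apply] at this
        exact this
      have h0 : (X.presheaf.map (homOfLE hWU).op).hom
          (algebraMap Γ(Y, V) Γ(X, f ⁻¹ᵁ V) a) = 0 := by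
        rw [← hnat, ← hna, map_mul, ha', zero_mul]
      have h0' : algebraMap Γ(X, f ⁻¹ᵁ V)
          Γ(X, X.basicOpen (algebraMap Γ(Y, V) Γ(X, f ⁻¹ᵁ V) g))
          (algebraMap Γ(Y, V) Γ(X, f ⁻¹ᵁ V) a) = 0 := by
        have hcomp : algebraMap Γ(X, f ⁻¹ᵁ V)
            Γ(X, X.basicOpen (algebraMap Γ(Y, V) Γ(X, f ⁻¹ᵁ V) g)) =
            (X.presheaf.map (homOfLE hWU).op ≫ X.presheaf.map (homOfLE hWle).op).hom := by
          rw [← Functor.map_comp]; rfl
        rw [hcomp, CommRingCat.hom_comp, RingHom.comp_apply, h0, map_zero]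
      obtain ⟨⟨_, m, rfl⟩, hm⟩ := (IsLocalization.map_eq_zero_iff
        (Submonoid.powers (algebraMap Γ(Y, V) Γ(X, f ⁻¹ᵁ V) g)) _ _).mp h0'
      have hker : g ^ m * a ∈ RingHom.ker (algebraMap Γ(Y, V) Γ(X, f ⁻¹ᵁ V)) := by
        rw [RingHom.mem_ker, map_mul, map_pow]; exact hm
      have h2 := hgk _ hker
      have hunit : IsUnit (algebraMap Γ(Y, V) Γ(Y, Y.basicOpen g) g) :=
        IsLocalization.Away.algebraMap_isUnit g
      have h3 : algebraMap Γ(Y, V) Γ(Y, Y.basicOpen g) a = 0 := by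
        have : algebraMap Γ(Y, V) Γ(Y, Y.basicOpen g) g ^ (m + 1) *
            algebraMap Γ(Y, V) Γ(Y, Y.basicOpen g) a = 0 := by
          rw [← map_pow, ← map_mul, pow_succ', mul_assoc, h2, map_zero]
        exact (hunit.pow (m + 1)).mul_right_eq_zero.mp this
      rw [h3] at hna
      exact (hunit.pow n).mul_left_eq_zero.mp hna
    have h1 : (f ∣_ Y.basicOpen g).appTop = (Y.basicOpen g).topIso.hom ≫
        f.appLE (Y.basicOpen g) (f ⁻¹ᵁ Y.basicOpen g) le_rfl ≫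
          (f ⁻¹ᵁ Y.basicOpen g).topIso.inv := by
      rw [← Scheme.Hom.resLE_eq_morphismRestrict]
      exact Scheme.Hom.resLE_app_top f le_rfl
    rw [h1]
    simp only [CommRingCat.hom_comp, RingHom.coe_comp]
    exact ((ConcreteCategory.bijective_of_isIso _).injective.comp key).comp
      (ConcreteCategory.bijective_of_isIso _).injective

end Groth.Agent.S10895
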