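import Groth.Statements.S10898
import Mathlib

set_option autoImplicit false
universe u
open Polynomial
open WDiv

namespace Groth.Agent.S10898

/-- Let A be a Noetherian integral domain and P a prime ideal of height 1 of the polynomial ring A[X].
Then either P meets A in 0 only, or its contraction p = P ∩ A is a prime of height 1 of A and P is
the extension p·A[X]. (The published lemma also assumes A regular in codimension 1; that hypothesis
is not used for this assertion.) -/
theorem result (A : Type u) [CommRing A] [IsDomain A]
    [IsNoetherianRing A] (P : Ideal A[X]) [P.IsPrime] (hP : P.height = 1) :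
    P.comap (C : A →+* A[X]) = ⊥ ∨
      ((P.comap (C : A →+* A[X])).height = 1 ∧ P = (P.comap (C : A →+* A[X])).map C) := by
  classical
  set p := P.comap (C : A →+* A[X]) with hp
  haveI hpprime : p.IsPrime := Ideal.comap_isPrime _ _
  by_cases hp0 : p = ⊥
  · exact Or.inl hp0
  · right
    haveI : P.FiniteHeight := ⟨Or.inr (by rw [hP]; exact ENat.one_ne_top)⟩
    have hcomap_map : ∀ q : Ideal A, (q.map (C : A →+* A[X])).comap C = q := by
      intro q
      ext a
      rw [Ideal.mem_comap, Ideal.mem_map_C_iff]
      constructor
      · intro h
        simpa using h 0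
      · intro h n
        rw [Polynomial.coeff_C]
        split_ifs
        · exact h
        · exact q.zero_mem
    have hbot : (⊥ : Ideal A[X]).comap (C : A →+* A[X]) = ⊥ :=
      Ideal.comap_bot_of_injective _ Polynomial.C_injective
    have hle : p.map C ≤ P := Ideal.map_comap_le
    have hne : p.map (C : A →+* A[X]) ≠ ⊥ := by
      intro h
      apply hp0
      rw [← hcomap_map p, h, hbot]
    haveI hmp : (p.map (C : A →+* A[X])).IsPrime := Ideal.isPrime_map_C_of_isPrime
    have heq : p.map C = P := by
      haveI : (p.map (C : A →+* A[X])).FiniteHeight :=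
        Ideal.finiteHeight_of_le hle Ideal.IsPrime.ne_top'
      apply Ideal.eq_of_le_of_height_le _ hle
      rw [hP, ENat.one_le_iff_ne_zero, Ne, Ideal.height_eq_zero_iff_eq_bot]
      exact hne
    refine ⟨?_, heq.symm⟩
    apply le_antisymm
    · rw [show (1 : ℕ∞) = ((1 : ℕ) : ℕ∞) from rfl, Ideal.height_le_iff]
      intro q hq hqp
      haveI := hq
      have hlt : q.map (C : A →+* A[X]) < P := by
        rw [← heq]
        refine lt_of_le_of_ne (Ideal.map_mono hqp.le) ?_
        intro h
        have := congrArg (Ideal.comap (C : A →+* A[X])) h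
        rw [hcomap_map, hcomap_map] at this
        exact hqp.ne this
      haveI : (q.map (C : A →+* A[X])).IsPrime := Ideal.isPrime_map_C_of_isPrime
      have h1 := Ideal.height_strict_mono_of_isPrime_of_isPrime hlt
      rw [hP] at h1
      have h2 : (q.map (C : A →+* A[X])).height = 0 := ENat.lt_one_iff_eq_zero.mp h1
      rw [Ideal.height_eq_zero_iff_eq_bot] at h2
      have hq0 : q = ⊥ := by rw [← hcomap_map q, h2, hbot]
      rw [hq0, Ideal.height_bot]
      exact zero_lt_one
    · rw [ENat.one_le_iff_ne_zero, Ne, Ideal.height_eq_zero_iff_eq_bot]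
      exact hp0

end Groth.Agent.S10898
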