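import Groth.Statements.S10944
import Mathlib

set_option autoImplicit false
universe u
open CategoryTheory AlgebraicGeometry
open FlatMor

namespace Groth.Agent.S10944

lemma exists_maximal_generization {X : Type*} [TopologicalSpace X] [QuasiSober X] [T0Space X]
    (x0 : X) :
    ∃ ξ : X, ξ ⤳ x0 ∧ (∀ z, z ⤳ ξ → z = ξ) ∧ closure {ξ} ∈ irreducibleComponents X := by
  have hZ := irreducibleComponent_mem_irreducibleComponents x0
  have hZirr : IsIrreducible (irreducibleComponent x0) := hZ.1
  have hZcl : IsClosed (irreducibleComponent x0) := isClosed_of_mem_irreducibleComponents _ hZ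
  obtain ⟨ξ, hξ⟩ := QuasiSober.sober hZirr hZcl
  refine ⟨ξ, ?_, ?_, ?_⟩
  · rw [specializes_iff_mem_closure, hξ.def]
    exact mem_irreducibleComponent
  · intro z hz
    have h1 : closure {ξ} ⊆ closure {z} := specializes_iff_closure_subset.mp hz
    have h2 : IsIrreducible (closure {z}) := isIrreducible_singleton.closure
    rw [hξ.def] at h1
    have h3 : closure {z} = irreducibleComponent x0 := le_antisymm (hZ.2 h2 h1) h1
    exact IsGenericPoint.eq h3 hξ
  · rw [hξ.def]
    exact hZ

lemma max_of_closure_mem {X : Type*} [TopologicalSpace X] [T0Space X] (y : X)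
    (h : closure {y} ∈ irreducibleComponents X) : ∀ z, z ⤳ y → z = y := by
  intro z hz
  have h1 : closure {y} ⊆ closure {z} := specializes_iff_closure_subset.mp hz
  have h2 : IsIrreducible (closure {z}) := isIrreducible_singleton.closure
  have h3 : closure {z} = closure {y} := le_antisymm (h.2 h2 h1) h1
  exact IsGenericPoint.eq h3 isGenericPoint_closure

/-- Let f : X → Y be a flat morphism of Noetherian schemes and Y' an irreducible component of Y. Then
f⁻¹(Y') is the union of the irreducible components Z of X with f(Z) ⊆ Y'. -/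
theorem result {X Y : Scheme.{u}}
    [IsNoetherian X] [IsNoetherian Y] (f : X ⟶ Y) [Flat f]
    (Y' : Set ↥Y) (hY' : Y' ∈ irreducibleComponents ↥Y) :
    f.base ⁻¹' Y' = ⋃₀ {Z : Set ↥X | Z ∈ irreducibleComponents ↥X ∧ f.base '' Z ⊆ Y'} := by
  apply Set.Subset.antisymm
  · intro x hx
    have hcl : IsClosed Y' := isClosed_of_mem_irreducibleComponents _ hY'
    obtain ⟨η', hη'⟩ := QuasiSober.sober hY'.1 hcl
    have h1 : η' ⤳ f.base x := by
      rw [specializes_iff_mem_closure, hη'.def]
      exact hx
    obtain ⟨x', hx'1, hx'2⟩ := (Flat.generalizingMap f) h1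
    obtain ⟨ξ, hξ1, hξ2, hξ3⟩ := exists_maximal_generization x'
    have hη'max : ∀ z, z ⤳ η' → z = η' := max_of_closure_mem η' (by rw [hη'.def]; exact hY')
    have h2 : f.base ξ = η' := hη'max _ (by rw [← hx'2]; exact hξ1.map f.continuous)
    refine ⟨closure {ξ}, ⟨hξ3, ?_⟩, ?_⟩
    · calc f.base '' closure {ξ} ⊆ closure (f.base '' {ξ}) :=
            image_closure_subset_closure_image f.continuous
        _ = closure {η'} := by rw [Set.image_singleton, h2]
        _ = Y' := hη'.def
    · exact specializes_iff_mem_closure.mp (hξ1.trans hx'1)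
  · rintro x ⟨Z, ⟨hZ, hfZ⟩, hxZ⟩
    exact hfZ ⟨x, hxZ, rfl⟩

end Groth.Agent.S10944
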