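import Groth.Statements.S10956
import Mathlib
-- import your own Groth.Agent.* helpers here

set_option autoImplicit false
universe u
open scoped TensorProduct
open CAlg

namespace Groth.Agent.S10956
open TensorProduct KaehlerDifferential

section aux
variable (R A B : Type u) [CommRing R] [CommRing A] [CommRing B] [Algebra R A] [Algebra R B]

/-- the bilinear map `(a, b) ↦ (1 ⊗ b) ⊗ da` -/
noncomputable def bil : A →ₗ[R] B →ₗ[R] ((A ⊗[R] B) ⊗[A] Ω[A⁄R]) :=
  LinearMap.mk₂ R (fun a b => ((1 : A) ⊗ₜ[R] b) ⊗ₜ[A] KaehlerDifferential.D R A a)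
    (fun a a' b => by
      simp only [map_add, TensorProduct.tmul_add])
    (fun c a b => by
      rw [Derivation.map_smul, TensorProduct.tmul_smul])
    (fun a b b' => by
      simp only [TensorProduct.tmul_add, TensorProduct.add_tmul])
    (fun c a b => by
      rw [TensorProduct.tmul_smul, ← TensorProduct.smul_tmul'])

/-- the `R`-linear map underlying the derivation -/
noncomputable def dlin : (A ⊗[R] B) →ₗ[R] ((A ⊗[R] B) ⊗[A] Ω[A⁄R]) :=
  TensorProduct.lift (bil R A B)

lemma dlin_tmul (a : A) (b : B) :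
    dlin R A B (a ⊗ₜ[R] b) = ((1 : A) ⊗ₜ[R] b) ⊗ₜ[A] KaehlerDifferential.D R A a := by
  unfold dlin bil
  rw [TensorProduct.lift.tmul, LinearMap.mk₂_apply]

lemma dlin_leibniz (x y : A ⊗[R] B) :
    dlin R A B (x * y) = x • dlin R A B y + y • dlin R A B x := by
  induction x using TensorProduct.induction_on with
  | zero => simp
  | add x₁ x₂ h₁ h₂ =>
    rw [add_mul, map_add, h₁, h₂, add_smul, map_add, smul_add]
    abel
  | tmul a b =>
    induction y using TensorProduct.induction_on with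
    | zero => simp
    | add y₁ y₂ h₁ h₂ =>
      rw [mul_add, map_add, h₁, h₂, map_add, smul_add, add_smul]
      abel
    | tmul a' b' =>
      rw [Algebra.TensorProduct.tmul_mul_tmul, dlin_tmul, dlin_tmul, dlin_tmul,
        Derivation.leibniz, TensorProduct.tmul_add, TensorProduct.tmul_smul,
        TensorProduct.tmul_smul, TensorProduct.smul_tmul', TensorProduct.smul_tmul',
        TensorProduct.smul_tmul', TensorProduct.smul_tmul', TensorProduct.smul_tmul',
        TensorProduct.smul_tmul', smul_eq_mul, smul_eq_mul, smul_eq_mul, smul_eq_mul,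
        Algebra.TensorProduct.tmul_mul_tmul, Algebra.TensorProduct.tmul_mul_tmul, mul_one,
        mul_one, mul_comm b' b]

/-- the derivation `a ⊗ b ↦ (1 ⊗ b) ⊗ da` -/
noncomputable def der : Derivation R (A ⊗[R] B) ((A ⊗[R] B) ⊗[A] Ω[A⁄R]) :=
  Derivation.mk' (dlin R A B) (dlin_leibniz R A B)

/-- the retraction -/
noncomputable def retr : Ω[(A ⊗[R] B)⁄R] →ₗ[A ⊗[R] B] ((A ⊗[R] B) ⊗[A] Ω[A⁄R]) :=
  (der R A B).liftKaehlerDifferential

lemma retr_D (a : A) (b : B) :
    retr R A B (KaehlerDifferential.D R (A ⊗[R] B) (a ⊗ₜ[R] b)) =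
      ((1 : A) ⊗ₜ[R] b) ⊗ₜ[A] KaehlerDifferential.D R A a := by
  unfold retr
  rw [Derivation.liftKaehlerDifferential_comp_D]
  exact dlin_tmul R A B a b

lemma retr_mapBaseChange (z : (A ⊗[R] B) ⊗[A] Ω[A⁄R]) :
    retr R A B (KaehlerDifferential.mapBaseChange R A (A ⊗[R] B) z) = z := by
  induction z using TensorProduct.induction_on with
  | zero => simp
  | add z₁ z₂ h₁ h₂ => rw [map_add, map_add, h₁, h₂]
  | tmul t ω =>
    have hω : ω ∈ Submodule.span A (Set.range (KaehlerDifferential.D R A)) := by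
      rw [KaehlerDifferential.span_range_derivation]
      exact Submodule.mem_top
    revert t
    induction hω using Submodule.span_induction with
    | mem ω hω =>
      obtain ⟨a, rfl⟩ := hω
      intro t
      rw [KaehlerDifferential.mapBaseChange_tmul, map_smul, KaehlerDifferential.map_D,
        Algebra.TensorProduct.algebraMap_apply, Algebra.algebraMap_self_apply, retr_D,
        TensorProduct.smul_tmul', smul_eq_mul, ← Algebra.TensorProduct.one_def, mul_one]
    | zero =>
      intro t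
      simp
    | add ω₁ ω₂ _ _ h₁ h₂ =>
      intro t
      rw [TensorProduct.tmul_add, map_add, map_add, h₁, h₂]
    | smul a ω _ h =>
      intro t
      rw [← TensorProduct.smul_tmul]
      exact h (a • t)

end aux


/-- Let R be a commutative ring, A and B commutative R-algebras and T = A ⊗_R B, an A-algebra through
the left factor. There is a T-linear map r from Ω_{T/R} to T ⊗_A Ω_{A/R} sending d(a ⊗ b) to (1 ⊗ b)
⊗ da for all a in A and b in B, and together with the canonical map Ω_{T/R} → Ω_{T/A} it identifies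
Ω_{T/R} with the product (T ⊗_A Ω_{A/R}) × Ω_{T/A}. (The published statement is the isomorphism of
(Ω_{A/R} ⊗_R B) ⊕ (A ⊗_R Ω_{B/R}) with Ω_{T/R} matching the exterior differentials; it is stated
here through the canonical identifications T ⊗_A Ω_{A/R} = Ω_{A/R} ⊗_R B and Ω_{T/A} = A ⊗_R
Ω_{B/R}.) -/
theorem result (R A B : Type u) [CommRing R] [CommRing A] [CommRing B]
    [Algebra R A] [Algebra R B] :
    ∃ r : Ω[(A ⊗[R] B)⁄R] →ₗ[A ⊗[R] B] ((A ⊗[R] B) ⊗[A] Ω[A⁄R]),
      (∀ (a : A) (b : B), r (KaehlerDifferential.D R (A ⊗[R] B) (a ⊗ₜ[R] b)) =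
          ((1 : A) ⊗ₜ[R] b) ⊗ₜ[A] KaehlerDifferential.D R A a) ∧
        Function.Bijective (fun ω : Ω[(A ⊗[R] B)⁄R] =>
          (r ω, KaehlerDifferential.map R A (A ⊗[R] B) (A ⊗[R] B) ω)) := by
  refine ⟨retr R A B, fun a b => retr_D R A B a b, ?_, ?_⟩
  · intro ω₁ ω₂ h
    have h1 : retr R A B ω₁ = retr R A B ω₂ := congrArg Prod.fst h
    have h2 : KaehlerDifferential.map R A (A ⊗[R] B) (A ⊗[R] B) ω₁ =
        KaehlerDifferential.map R A (A ⊗[R] B) (A ⊗[R] B) ω₂ := congrArg Prod.snd h
    have h3 : KaehlerDifferential.map R A (A ⊗[R] B) (A ⊗[R] B) (ω₁ - ω₂) = 0 := by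
      rw [map_sub, h2, sub_self]
    obtain ⟨z, hz⟩ := (KaehlerDifferential.exact_mapBaseChange_map R A (A ⊗[R] B) (ω₁ - ω₂)).1 h3
    have h4 : retr R A B (ω₁ - ω₂) = z := by
      rw [← hz]
      exact retr_mapBaseChange R A B z
    rw [map_sub, h1, sub_self] at h4
    rw [← h4, map_zero] at hz
    exact sub_eq_zero.1 hz.symm
  · rintro ⟨z, η⟩
    obtain ⟨ω₀, hω₀⟩ := KaehlerDifferential.map_surjective R A (A ⊗[R] B) η
    refine ⟨ω₀ + KaehlerDifferential.mapBaseChange R A (A ⊗[R] B) (z - retr R A B ω₀), ?_⟩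
    have h1 : KaehlerDifferential.map R A (A ⊗[R] B) (A ⊗[R] B)
        (KaehlerDifferential.mapBaseChange R A (A ⊗[R] B) (z - retr R A B ω₀)) = 0 :=
      (KaehlerDifferential.exact_mapBaseChange_map R A (A ⊗[R] B) _).2 ⟨_, rfl⟩
    show (retr R A B (ω₀ + _), KaehlerDifferential.map R A (A ⊗[R] B) (A ⊗[R] B) (ω₀ + _)) = (z, η)
    rw [map_add, map_add, h1, add_zero, hω₀, retr_mapBaseChange]
    congr 1
    abel

end Groth.Agent.S10956
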