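import Groth.Statements.S10967
import Mathlib
import Groth.Agent.S2338

set_option autoImplicit false
set_option linter.style.haveILetI false
universe u
open CategoryTheory AlgebraicGeometry TopologicalSpace
open MoreMor

namespace Groth.Agent.S10967

/-- Quasi-affine over an affine base: call a morphism f : X → Y quasi-affine when Y has a cover by
affine opens V_i whose preimages f⁻¹(V_i) are quasi-affine schemes (quasi-compact open subschemes of
affine schemes; equivalently quasi-compact with X → Spec Γ(X, O_X) an immersion). If Y is affine and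
f is quasi-affine in this sense, then X is a quasi-affine scheme. -/
theorem result {X Y : Scheme.{u}} [IsAffine Y]
    (f : X ⟶ Y) {ι : Type u} (V : ι → Y.Opens) (hV : iSup V = ⊤) (hVa : ∀ i, IsAffineOpen (V i))
    (hq : ∀ i, Scheme.IsQuasiAffine (↑(f ⁻¹ᵁ V i) : Scheme.{u})) :
    X.IsQuasiAffine := by
  have hcov : ∀ y : Y, ∃ i, y ∈ V i := by
    intro y
    have : y ∈ (iSup V : Y.Opens) := by rw [hV]; trivial
    exact Opens.mem_iSup.mp this
  have hcpt : ∀ i, IsCompact ((f ⁻¹ᵁ V i : X.Opens) : Set X) := fun i =>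
    isCompact_iff_compactSpace.mpr (hq i).toCompactSpace
  haveI : CompactSpace X := by
    obtain ⟨s, hs⟩ := (isCompact_univ (X := Y)).elim_finite_subcover (fun i => (V i : Set Y))
      (fun i => (V i).2) (fun y _ => by
        obtain ⟨i, hi⟩ := hcov y
        exact Set.mem_iUnion.mpr ⟨i, hi⟩)
    constructor
    have hX : (Set.univ : Set X) = ⋃ i ∈ s, ((f ⁻¹ᵁ V i : X.Opens) : Set X) := by
      apply Set.eq_of_subset_of_subset _ (Set.subset_univ _)
      intro x _
      have := hs (Set.mem_univ (f x))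
      simp only [Set.mem_iUnion] at this ⊢
      obtain ⟨i, hi, hxi⟩ := this
      exact ⟨i, hi, hxi⟩
    rw [hX]
    exact s.isCompact_biUnion (fun i _ => hcpt i)
  apply Groth.Agent.S2338.quasiAffine_of_cover
  intro x
  obtain ⟨i, hi⟩ := hcov (f x)
  obtain ⟨r, hr1, hr2⟩ : ∃ r : Γ(Y, ⊤), Y.basicOpen r ≤ V i ∧ f x ∈ Y.basicOpen r :=
    (isAffineOpen_top Y).exists_basicOpen_le ⟨f x, hi⟩ trivial
  refine ⟨f.appTop r, ?_, ?_⟩
  · have hle : X.basicOpen (f.appTop r) ≤ f ⁻¹ᵁ V i := by
      rw [← Scheme.preimage_basicOpen_top]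
      exact fun z hz => hr1 hz
    haveI := hq i
    haveI : CompactSpace (X.basicOpen (f.appTop r) : Scheme.{u}) := by
      apply isCompact_iff_compactSpace.mp
      have h1 := (isRetrocompact_basicOpen (f.appTop r)) (hcpt i) (f ⁻¹ᵁ V i).2
      rwa [Set.inter_eq_left.mpr (show ((X.basicOpen (f.appTop r) : X.Opens) : Set X) ⊆ _ from hle)] at h1
    exact Scheme.IsQuasiAffine.of_isImmersion (X.homOfLE hle)
  · rw [← Scheme.preimage_basicOpen_top]
    exact hr2

end Groth.Agent.S10967
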