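import Groth.Statements.S10969
import Mathlib
import Groth.Agent.Lib.lead.FF8
-- import your own Groth.Agent.* helpers here

set_option autoImplicit false
open FunFld

namespace Groth.Agent.S10969
open Groth.Agent.Lib.lead.FF Groth.Agent.Lib.lead.FF4 Groth.Agent.Lib.lead.FF5 Groth.Agent.Lib.lead.FF6 Groth.Agent.Lib.lead.FF7 Groth.Agent.Lib.lead.FF8


/-- For `x` transcendental over `k` in a function field of one variable `K/k`, the degree of the divisor
of zeros of `x` equals `[K : k(x)]`. -/
theorem result (k K : Type*) [Field k] [Field K] [Algebra k K]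
    (hK : FunFld.IsFunctionField k K) (x : K) (hx : Transcendental k x) :
    (∑ P ∈ (FunFld.div k x).support with 0 < FunFld.div k x P,
        FunFld.div k x P * (P.deg : ℤ)) =
      Module.finrank (IntermediateField.adjoin k ({x} : Set K)) K := by
  have hx0 := ne_zero_of_transcendental hx
  have h3 : (∑ P ∈ (FunFld.div k x).support with 0 < FunFld.div k x P,
      FunFld.div k x P * (P.deg : ℤ)) =
      ∑ P ∈ (FunFld.div k x).support with 0 < FunFld.div k x P, P.ord x * (P.deg : ℤ) :=
    Finset.sum_congr rfl (fun P _ => by rw [div_apply hK])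
  rw [h3]
  apply sum_zeros_eq hK hx
  intro P
  rw [Finset.mem_filter, Finsupp.mem_support_iff, div_apply hK, ← ord_pos_iff P hx0]
  constructor
  · exact fun h => h.2
  · exact fun h => ⟨h.ne', h⟩

end Groth.Agent.S10969
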