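import Groth.Statements.S10973
import Mathlib
import Groth.Agent.Lib.lead.FF4
-- import your own Groth.Agent.* helpers here

set_option autoImplicit false
open FunFld

namespace Groth.Agent.S10973
open Groth.Agent.Lib.lead.FF Groth.Agent.Lib.lead.FF3 Groth.Agent.Lib.lead.FF4


/-- Two nonzero elements of a function field of one variable with the same principal divisor differ by a
constant multiple. -/
theorem result (k K : Type*) [Field k] [Field K] [Algebra k K]
    (hK : FunFld.IsFunctionField k K) (x y : K) (hx : x ≠ 0) (hy : y ≠ 0)
    (h : ∀ P : FunFld.Place k K, P.ord x = P.ord y) : ∃ c : k, x = c • y := by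
  have hz : x / y ∈ Set.range (algebraMap k K) := by
    apply mem_range_of_forall_le_one hK
    intro P
    rw [map_div₀, val_eq_exp P hx, val_eq_exp P hy, h P, div_self WithZero.exp_ne_zero]
  obtain ⟨c, hc⟩ := hz
  refine ⟨c, ?_⟩
  rw [Algebra.smul_def, hc, div_mul_cancel₀ _ hy]

end Groth.Agent.S10973
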