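import Groth.Statements.S10986
import Mathlib
-- import your own Groth.Agent.* helpers here

set_option autoImplicit false
open FunFld

namespace Groth.Agent.S10986

/-- `L(D) · W(C) ⊆ W(C - D)`: if `x ∈ L(D)` and `ω` vanishes on `A(C) + K` then `xω` vanishes on `A(C -
D) + K`. -/
theorem result (k K : Type*) [Field k] [Field K] [Algebra k K]
    (C D : FunFld.Divisor k K) (x : K) (hxD : x ∈ FunFld.L D)
    (hx : ∀ a ∈ FunFld.adele k K, x • a ∈ FunFld.adele k K)
    (ω : Module.Dual k (FunFld.adele k K)) (hω : ω ∈ FunFld.WD C) :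
    FunFld.mulW x hx ω ∈ FunFld.WD (C - D) := by
  rw [FunFld.WD, Submodule.mem_dualAnnihilator]
  intro a ha
  have hω' := (Submodule.mem_dualAnnihilator _).mp hω
  have hm : FunFld.mulW x hx ω a = ω ⟨x • (a : FunFld.Place k K → K), hx _ a.2⟩ := rfl
  rw [hm]
  apply hω'
  have ha' : (a : FunFld.Place k K → K) ∈ FunFld.AD (C - D) ⊔ LinearMap.range (FunFld.diag k K) := ha
  show x • (a : FunFld.Place k K → K) ∈ FunFld.AD C ⊔ LinearMap.range (FunFld.diag k K)
  obtain ⟨b, hb, c, ⟨y, rfl⟩, hbc⟩ := Submodule.mem_sup.mp ha'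
  rw [← hbc, smul_add]
  refine Submodule.add_mem_sup ?_ ⟨x * y, ?_⟩
  · intro P
    show P.1 (x * b P) ≤ _
    rw [map_mul]
    have h1 : P.1 x ≤ WithZero.exp (D P) := hxD P
    have h2 : P.1 (b P) ≤ WithZero.exp ((C - D) P) := hb P
    calc P.1 x * P.1 (b P) ≤ WithZero.exp (D P) * WithZero.exp ((C - D) P) := mul_le_mul' h1 h2
      _ = WithZero.exp (C P) := by
        rw [← WithZero.exp_add, Finsupp.sub_apply]
        congr 1
        ring
  · funext P
    simp [FunFld.diag]

end Groth.Agent.S10986
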