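import Groth.Statements.S10998
import Mathlib
import Groth.Agent.Lib.lead.FF15
-- import your own Groth.Agent.* helpers here

set_option autoImplicit false
open FunFld

namespace Groth.Agent.S10998
open FunFld Groth.Agent.Lib.lead.FF Groth.Agent.Lib.lead.FF2 Groth.Agent.Lib.lead.FF4 Groth.Agent.Lib.lead.FF5 Groth.Agent.Lib.lead.FF6 Groth.Agent.Lib.lead.FF7 Groth.Agent.Lib.lead.FF8 Groth.Agent.Lib.lead.FF9 Groth.Agent.Lib.lead.FF10 Groth.Agent.Lib.lead.FF11 Groth.Agent.Lib.lead.FF12 Groth.Agent.Lib.lead.FF13 Groth.Agent.Lib.lead.FF14 Groth.Agent.Lib.lead.FF15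


/-- A genus-one function field with a place `P₀` of degree one is `k(x, y)` with `x ∈ L(2P₀)`, `y ∈
L(3P₀)` of pole orders `2` and `3`, and `y² + f(x) y + g(x) = 0` for polynomials `f` of degree `≤ 1`
and `g` of degree `3`. -/
theorem result (k K : Type*) [Field k] [Field K] [Algebra k K]
    (hK : FunFld.IsFunctionField k K) (hg : FunFld.genus k K = 1) (P₀ : FunFld.Place k K) (hP : P₀.deg = 1) :
    ∃ x y : K, x ∈ FunFld.L (Finsupp.single P₀ 2) ∧ y ∈ FunFld.L (Finsupp.single P₀ 3) ∧
      P₀.ord x = -2 ∧ P₀.ord y = -3 ∧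
      IntermediateField.adjoin k ({x, y} : Set K) = ⊤ ∧
      ∃ f g : Polynomial k, f.natDegree ≤ 1 ∧ g.natDegree = 3 ∧
        y ^ 2 + Polynomial.aeval x f * y + Polynomial.aeval x g = 0 := by
  classical
  obtain ⟨x, hx1, hx2⟩ := exists_mem_not_mem hK hg hP 1 le_rfl
  obtain ⟨y, hy1, hy2⟩ := exists_mem_not_mem hK hg hP 2 (by norm_num)
  have e12 : (1 : ℤ) + 1 = 2 := by norm_num
  have e23 : (2 : ℤ) + 1 = 3 := by norm_num
  obtain ⟨hx0, hxord⟩ := ord_eq_of_mem_not_mem hx1 hx2
  obtain ⟨hy0, hyord⟩ := ord_eq_of_mem_not_mem hy1 hy2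
  rw [e12] at hx1 hxord
  rw [e23] at hy1 hyord
  have hxx : x * x ∈ FunFld.L (Finsupp.single P₀ 4) := mul_mem_L_single hx1 hx1 (by norm_num)
  have hx3 : x * x * x ∈ FunFld.L (Finsupp.single P₀ 6) := mul_mem_L_single hxx hx1 (by norm_num)
  have hyy : y * y ∈ FunFld.L (Finsupp.single P₀ 6) := mul_mem_L_single hy1 hy1 (by norm_num)
  have hxy : x * y ∈ FunFld.L (Finsupp.single P₀ 5) := mul_mem_L_single hx1 hy1 (by norm_num)
  have hxx0 : x * x ≠ 0 := mul_ne_zero hx0 hx0
  have hx30 : x * x * x ≠ 0 := mul_ne_zero hxx0 hx0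
  have hxy0 : x * y ≠ 0 := mul_ne_zero hx0 hy0
  have oxx : P₀.ord (x * x) = -4 := by rw [ord_mul P₀ hx0 hx0, hxord]; norm_num
  have ox3 : P₀.ord (x * x * x) = -6 := by rw [ord_mul P₀ hxx0 hx0, oxx, hxord]; norm_num
  have oxy : P₀.ord (x * y) = -5 := by rw [ord_mul P₀ hx0 hy0, hxord, hyord]; norm_num
  have oyy : P₀.ord (y * y) = -6 := by rw [ord_mul P₀ hy0 hy0, hyord]; norm_num
  obtain ⟨γ₆, h6⟩ := reduce_step hK hP hyy hx3 hx30 ox3
  have hγ₆ : γ₆ ≠ 0 := by
    rintro rfl
    rw [zero_smul, add_zero] at h6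
    have h := ord_ge_of_mem_L_single h6 (mul_ne_zero hy0 hy0)
    rw [oyy] at h
    omega
  rw [show (6 : ℤ) - 1 = 5 by norm_num] at h6
  obtain ⟨γ₅, h5⟩ := reduce_step hK hP h6 hxy hxy0 oxy
  rw [show (5 : ℤ) - 1 = 4 by norm_num] at h5
  obtain ⟨γ₄, h4⟩ := reduce_step hK hP h5 hxx hxx0 oxx
  rw [show (4 : ℤ) - 1 = 3 by norm_num] at h4
  obtain ⟨γ₃, h3⟩ := reduce_step hK hP h4 hy1 hy0 hyord
  rw [show (3 : ℤ) - 1 = 2 by norm_num] at h3
  obtain ⟨γ₂, h2⟩ := reduce_step hK hP h3 hx1 hx0 hxord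
  rw [show (2 : ℤ) - 1 = 1 by norm_num] at h2
  haveI := L_finite hK (Finsupp.single P₀ (1 : ℤ))
  have hdim1 : Module.finrank k ↥(FunFld.L (Finsupp.single P₀ (1 : ℤ) : FunFld.Divisor k K)) ≤ 1 := by
    have h := ell_single_genus_one hK hg hP 1 le_rfl
    have h' : (Module.finrank k ↥(FunFld.L (Finsupp.single P₀ (1 : ℤ) : FunFld.Divisor k K)) : ℤ)
        ≤ 1 := by rw [h]
    exact_mod_cast h'
  obtain ⟨c, hc⟩ := dependent_of_finrank_le_one hdim1 h2
    (one_mem_L_single hK P₀ (by norm_num)) one_ne_zero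
  refine ⟨x, y, hx1, hy1, hxord, hyord, ?_, ?_⟩
  · have hxtr : Transcendental k x := by
      intro halg
      obtain ⟨c', hc'⟩ := hK.2 x halg
      rw [← hc', ord_algebraMap] at hxord
      omega
    haveI := finite_of_transcendental hK hxtr
    have hle2 := finrank_le_deg hK hxtr (Finsupp.single P₀ 2)
      (by
        intro R
        rw [Finsupp.zero_apply, Finsupp.single_apply]
        split_ifs <;> norm_num) hx1
    rw [deg_single, hP] at hle2
    have hyF : y ∉ IntermediateField.adjoin k ({x} : Set K) := by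
      intro hmem
      rw [← adjoin_inv] at hmem
      have ht : P₀.1 x⁻¹ < 1 := by
        rw [← ord_pos_iff P₀ (inv_ne_zero hx0), ord_inv, hxord]; norm_num
      rcases val_adjoin_eq_pow P₀.1 P₀.2.1 ht (inv_ne_zero hx0) hmem hy0 with ⟨n, hn⟩ | ⟨n, hn⟩
      · have h1 : P₀.ord y = n * P₀.ord x⁻¹ := by
          unfold FunFld.Place.ord
          rw [hn, WithZero.log_pow, nsmul_eq_mul]
          ring
        rw [hyord, ord_inv, hxord] at h1
        omega
      · have h1 : P₀.ord y = -(n * P₀.ord x⁻¹) := by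
          unfold FunFld.Place.ord
          rw [hn, WithZero.log_inv, WithZero.log_pow, nsmul_eq_mul]
          ring
        rw [hyord, ord_inv, hxord] at h1
        omega
    have hF2 : Module.finrank (IntermediateField.adjoin k ({x} : Set K)) K = 2 := by
      have hpos : 0 < Module.finrank (IntermediateField.adjoin k ({x} : Set K)) K :=
        Module.finrank_pos
      have hne1 : Module.finrank (IntermediateField.adjoin k ({x} : Set K)) K ≠ 1 := by
        intro h1
        rw [IntermediateField.finrank_eq_one_iff_eq_top] at h1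
        apply hyF
        rw [h1]
        exact IntermediateField.mem_top
      omega
    have hsimple := IntermediateField.isSimpleOrder_of_finrank_prime
      (IntermediateField.adjoin k ({x} : Set K)) K (by rw [hF2]; exact Nat.prime_two)
    have hne : IntermediateField.adjoin (IntermediateField.adjoin k ({x} : Set K)) ({y} : Set K)
        ≠ ⊥ := by
      intro hbot
      have hmem : y ∈ IntermediateField.adjoin (IntermediateField.adjoin k ({x} : Set K))
          ({y} : Set K) := IntermediateField.mem_adjoin_simple_self _ y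
      rw [hbot, IntermediateField.mem_bot] at hmem
      obtain ⟨z, hz⟩ := hmem
      apply hyF
      rw [← hz]
      exact z.2
    have htop := (hsimple.eq_bot_or_eq_top _).resolve_left hne
    have h := IntermediateField.adjoin_adjoin_left k ({x} : Set K) ({y} : Set K)
    rw [htop, IntermediateField.restrictScalars_top, Set.singleton_union] at h
    exact h.symm
  · refine ⟨Polynomial.C γ₅ * Polynomial.X + Polynomial.C γ₃,
      Polynomial.C γ₆ * Polynomial.X ^ 3 + Polynomial.C γ₄ * Polynomial.X ^ 2 +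
        Polynomial.C γ₂ * Polynomial.X + Polynomial.C (-c),
      Polynomial.natDegree_linear_le, Polynomial.natDegree_cubic hγ₆, ?_⟩
    simp only [map_add, map_mul, map_pow, Polynomial.aeval_C, Polynomial.aeval_X, map_neg]
    simp only [Algebra.smul_def, mul_one] at hc
    linear_combination hc

end Groth.Agent.S10998
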