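import Groth.Statements.S11005
import Mathlib
import Groth.Agent.Lib.lead.Ext
-- import your own Groth.Agent.* helpers here

set_option autoImplicit false
universe u v
open FunFld

namespace Groth.Agent.S11005
open FunFld TensorProduct


/-- An intermediate field `K₀` of a geometric function field of one variable `K/k` that is
transcendental over `k` is again a geometric function field of one variable over `k`. -/
theorem result (k : Type u) (K : Type v) [Field k] [Field K] [Algebra k K]
    (hK : FunFld.IsFunctionField k K) (hg : FunFld.IsGeometric k K) (K₀ : IntermediateField k K)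
    (h₀ : ∃ x ∈ K₀, Transcendental k x) : FunFld.IsFunctionField k K₀ ∧ FunFld.IsGeometric k K₀ := by
  obtain ⟨x, hxK₀, hxtr⟩ := h₀
  constructor
  · refine ⟨⟨⟨x, hxK₀⟩, ?_, ?_⟩, ?_⟩
    · exact (transcendental_algebraMap_iff (S := K₀) (A := K) (algebraMap K₀ K).injective).1 hxtr
    · haveI := Groth.Agent.Lib.lead.FF.finite_of_transcendental hK hxtr
      have h1 := Groth.Agent.Lib.lead.Ext.finrank_tower (k := k) (K := K₀) (K' := K)
        (⟨x, hxK₀⟩ : K₀)
      have h2 : 0 < Module.finrank (IntermediateField.adjoin k ({x} : Set K)) K :=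
        Module.finrank_pos
      have h3 : Module.finrank (IntermediateField.adjoin k ({x} : Set K)) K =
          Module.finrank (IntermediateField.adjoin k ({(⟨x, hxK₀⟩ : K₀)} : Set K₀)) K₀ *
            Module.finrank K₀ K := h1
      have h4 : 0 < Module.finrank (IntermediateField.adjoin k ({(⟨x, hxK₀⟩ : K₀)} : Set K₀)) K₀ := by
        rcases Nat.eq_zero_or_pos
          (Module.finrank (IntermediateField.adjoin k ({(⟨x, hxK₀⟩ : K₀)} : Set K₀)) K₀) with h | h
        · rw [h, zero_mul] at h3
          omega
        · exact h
      exact Module.finite_of_finrank_pos h4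
    · intro y hy
      have h1 : IsAlgebraic k (algebraMap K₀ K y) :=
        (isAlgebraic_algebraMap_iff (algebraMap K₀ K).injective).2 hy
      obtain ⟨c, hc⟩ := hK.2 _ h1
      exact ⟨c, Subtype.ext hc⟩
  · intro k' _ _ hfin
    haveI := hfin
    have hfield := hg k' hfin
    -- `K ⊗ k'` is a field
    have hfield' : IsField (K ⊗[k] k') :=
      MulEquiv.isField hfield (Algebra.TensorProduct.comm k K k').toRingEquiv.toMulEquiv
    haveI : IsDomain (K ⊗[k] k') := hfield'.isDomain
    have hinj : Function.Injective
        (Algebra.TensorProduct.map (K₀.val) (AlgHom.id k k') : K₀ ⊗[k] k' →ₐ[k] K ⊗[k] k') := by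
      have h1 := TensorProduct.map_injective_of_flat_flat' (R := k) (K₀.val.toLinearMap)
        (LinearMap.id : k' →ₗ[k] k') (Subtype.val_injective) Function.injective_id
      exact h1
    haveI : IsDomain (K₀ ⊗[k] k') :=
      Function.Injective.isDomain
        (Algebra.TensorProduct.map (K₀.val) (AlgHom.id k k') :
          K₀ ⊗[k] k' →ₐ[k] K ⊗[k] k').toRingHom hinj
    have hfield₀ : IsField (K₀ ⊗[k] k') :=
      isField_of_isIntegral_of_isField' (R := K₀) (S := K₀ ⊗[k] k') (Field.toIsField K₀)
    exact MulEquiv.isField hfield₀ (Algebra.TensorProduct.comm k k' K₀).toRingEquiv.toMulEquiv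

end Groth.Agent.S11005
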