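import Groth.Statements.S11013
import Mathlib
import Groth.Agent.Lib.lead.Loc
-- import your own Groth.Agent.* helpers here

set_option autoImplicit false
open FunFld

namespace Groth.Agent.S11013
open FunFld Groth.Agent.Lib.lead.FF Groth.Agent.Lib.lead.FF2 Groth.Agent.Lib.lead.FF3 Groth.Agent.Lib.lead.FF4 Groth.Agent.Lib.lead.FF5 Groth.Agent.Lib.lead.FF6 Groth.Agent.Lib.lead.FF7 Groth.Agent.Lib.lead.FF8 Groth.Agent.Lib.lead.FF9 Groth.Agent.Lib.lead.FF10 Groth.Agent.Lib.lead.FF11 Groth.Agent.Lib.lead.FF12 Groth.Agent.Lib.lead.FF13 Groth.Agent.Lib.lead.FF14 Groth.Agent.Lib.lead.FF15 Groth.Agent.Lib.lead.FF16 Groth.Agent.Lib.lead.FF17 Groth.Agent.Lib.lead.Loc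


/-- In a finite Galois extension `K'/K` of a geometric function field of one variable, the Galois group
acts transitively on the places of `K'` above a given place of `K`. -/
theorem result (k K K' : Type*) [Field k] [Field K] [Field K'] [Algebra k K] [Algebra K K'] [Algebra k K']
    [IsScalarTower k K K'] [FiniteDimensional K K'] (hK : FunFld.IsFunctionField k K) (hg : FunFld.IsGeometric k K) [IsGalois K K']
    (Q₁ Q₂ : FunFld.Place k K')
    (h : (Q₁.1.comap (algebraMap K K')).IsEquiv (Q₂.1.comap (algebraMap K K'))) :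
    ∃ σ : K' ≃ₐ[K] K', Q₁.1.comap (σ : K' →+* K') = Q₂.1 := by
  classical
  by_contra hno
  push Not at hno
  have hk : ∀ (σ : K' ≃ₐ[K] K') (c : k), σ (algebraMap k K' c) = algebraMap k K' c := by
    intro σ c
    rw [IsScalarTower.algebraMap_apply k K K', σ.commutes]
  let cP : (K' ≃ₐ[K] K') → FunFld.Place k K' → FunFld.Place k K' := fun σ Q =>
    ⟨Q.1.comap (σ : K' →+* K'), by
      constructor
      · intro c
        show Q.1 (σ (algebraMap k K' c)) ≤ 1
        rw [hk]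
        exact Q.2.1 c
      · intro γ
        obtain ⟨x, hx⟩ := Q.2.2 γ
        refine ⟨σ.symm x, ?_⟩
        show Q.1 (σ (σ.symm x)) = γ
        rw [σ.apply_symm_apply]
        exact hx⟩
  have hcP : ∀ (σ : K' ≃ₐ[K] K') (Q : FunFld.Place k K') (x : K'), (cP σ Q).1 x = Q.1 (σ x) :=
    fun σ Q x => rfl
  have hexp : (WithZero.exp (-((1 : ℕ) : ℤ)) : WithZero (Multiplicative ℤ)) < 1 := by
    rw [← WithZero.exp_zero, WithZero.exp_lt_exp]
    norm_num
  obtain ⟨a, ha⟩ : ∃ a : FunFld.Place k K' → K', a = fun R => if ∃ τ, R = cP τ Q₁ then 1 else 0 :=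
    ⟨_, rfl⟩
  obtain ⟨S, hS⟩ : ∃ S : Finset (FunFld.Place k K'),
      S = Finset.univ.image (fun σ => cP σ Q₁) ∪ Finset.univ.image (fun σ => cP σ Q₂) := ⟨_, rfl⟩
  obtain ⟨y, hy⟩ := exists_approx S a 1
  have h1 : ∀ σ : K' ≃ₐ[K] K', Q₁.1 (σ y) = 1 := by
    intro σ
    have hmem : cP σ Q₁ ∈ S := by
      rw [hS]
      exact Finset.mem_union_left _ (Finset.mem_image_of_mem _ (Finset.mem_univ σ))
    have h2 := hy _ hmem
    have haσ : a (cP σ Q₁) = 1 := by
      rw [ha]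
      exact if_pos ⟨σ, rfl⟩
    rw [haσ, hcP, map_sub, map_one] at h2
    have hlt : Q₁.1 (σ y - 1) < Q₁.1 (1 : K') := by
      rw [map_one]
      exact lt_of_le_of_lt h2 hexp
    have h3 := Valuation.map_add_eq_of_lt_left Q₁.1 hlt
    rwa [add_sub_cancel, map_one] at h3
  have h2 : ∀ σ : K' ≃ₐ[K] K', Q₂.1 (σ y) < 1 := by
    intro σ
    have hmem : cP σ Q₂ ∈ S := by
      rw [hS]
      exact Finset.mem_union_right _ (Finset.mem_image_of_mem _ (Finset.mem_univ σ))
    have h2 := hy _ hmem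
    have haσ : a (cP σ Q₂) = 0 := by
      rw [ha]
      apply if_neg
      rintro ⟨τ, hτ⟩
      apply hno (σ.symm.trans τ)
      apply Valuation.ext
      intro w
      show Q₁.1 (τ (σ.symm w)) = Q₂.1 w
      have h3 := congrArg (fun R : FunFld.Place k K' => R.1 (σ.symm w)) hτ
      simp only [hcP] at h3
      rw [σ.apply_symm_apply] at h3
      exact h3.symm
    rw [haσ, sub_zero, hcP] at h2
    exact lt_of_le_of_lt h2 hexp
  have hN := Algebra.norm_eq_prod_automorphisms K y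
  have hQ1 : Q₁.1 (algebraMap K K' (Algebra.norm K y)) = 1 := by
    rw [hN, map_prod]
    exact Finset.prod_eq_one fun σ _ => h1 σ
  have hQ2 : Q₂.1 (algebraMap K K' (Algebra.norm K y)) < 1 := by
    rw [hN, map_prod, ← Finset.mul_prod_erase Finset.univ _ (Finset.mem_univ (1 : K' ≃ₐ[K] K'))]
    calc Q₂.1 ((1 : K' ≃ₐ[K] K') y) * ∏ σ ∈ Finset.univ.erase (1 : K' ≃ₐ[K] K'), Q₂.1 (σ y)
        ≤ Q₂.1 ((1 : K' ≃ₐ[K] K') y) * 1 :=
          mul_le_mul' le_rfl (Finset.prod_le_one' fun σ _ => (h2 σ).le)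
      _ = Q₂.1 ((1 : K' ≃ₐ[K] K') y) := mul_one _
      _ < 1 := h2 1
  have h3 := (h.eq_one_iff_eq_one (x := Algebra.norm K y)).1 hQ1
  exact absurd h3 (ne_of_lt hQ2)

end Groth.Agent.S11013
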