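import Groth.Statements.S11016
import Mathlib
import Groth.Agent.Lib.lead.FF7
-- import your own Groth.Agent.* helpers here

set_option autoImplicit false
open FunFld

namespace Groth.Agent.S11016
open Groth.Agent.Lib.lead.FF Groth.Agent.Lib.lead.FF4 Groth.Agent.Lib.lead.FF5 Groth.Agent.Lib.lead.FF6 Groth.Agent.Lib.lead.FF7


/-- `L(D) ≠ 0` iff there is an effective divisor linearly equivalent to `D`. -/
theorem result (k K : Type*) [Field k] [Field K] [Algebra k K]
    (hK : FunFld.IsFunctionField k K) (D : FunFld.Divisor k K) :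
    FunFld.L D ≠ ⊥ ↔ ∃ x : K, x ≠ 0 ∧ 0 ≤ D + FunFld.div k x := by
  rw [Submodule.ne_bot_iff]
  constructor
  · rintro ⟨x, hxL, hx0⟩
    refine ⟨x, hx0, fun P => ?_⟩
    have h1 := (val_le_exp_iff P hx0 (D P)).1 ((mem_L_iff _ _).1 hxL P)
    show (0 : FunFld.Divisor k K) P ≤ (D + FunFld.div k x) P
    rw [Finsupp.zero_apply, Finsupp.add_apply, div_apply hK]
    omega
  · rintro ⟨x, hx0, h⟩
    refine ⟨x, (mem_L_iff _ _).2 fun P => ?_, hx0⟩
    have h1 : (0 : FunFld.Divisor k K) P ≤ (D + FunFld.div k x) P := h P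
    rw [Finsupp.zero_apply, Finsupp.add_apply, div_apply hK] at h1
    exact (val_le_exp_iff P hx0 (D P)).2 (by omega)

end Groth.Agent.S11016
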