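import Groth.Statements.S11017
import Mathlib
-- import your own Groth.Agent.* helpers here

set_option autoImplicit false
open FunFld

namespace Groth.Agent.S11017

/-- For a Weil differential `ω` with divisor `C`, `ord_P [ω] ≥ e` iff `ω` kills every repartition
concentrated at `P` with `P`-component of order at least `-e`. -/
theorem result (k K : Type*) [Field k] [Field K] [Algebra k K] (ω : Module.Dual k (FunFld.adele k K)) (C : FunFld.Divisor k K) (hω : FunFld.IsDivOf ω C)
    (P : FunFld.Place k K) (e : ℤ) :
    e ≤ C P ↔ ∀ (a : FunFld.Place k K → K) (ha : a ∈ FunFld.adele k K),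
      (∀ Q, Q ≠ P → a Q = 0) → P.1 (a P) ≤ WithZero.exp e → ω ⟨a, ha⟩ = 0 := by
  classical
  constructor
  · intro he a ha hconc hval
    have h1 : ω ∈ FunFld.WD C := (hω C).mpr le_rfl
    rw [FunFld.WD, Submodule.mem_dualAnnihilator] at h1
    apply h1
    show a ∈ FunFld.AD C ⊔ LinearMap.range (FunFld.diag k K)
    apply Submodule.mem_sup_left
    intro Q
    by_cases hQ : Q = P
    · subst hQ
      exact hval.trans (WithZero.exp_le_exp.mpr he)
    · rw [hconc Q hQ]
      simp
  · intro h
    by_contra hlt
    rw [not_le] at hlt
    have hE : ω ∈ FunFld.WD (C + Finsupp.single P (e - C P)) := by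
      have hC : ω ∈ FunFld.WD C := (hω C).mpr le_rfl
      rw [FunFld.WD, Submodule.mem_dualAnnihilator] at hC ⊢
      intro a ha
      have ha' : (a : FunFld.Place k K → K) ∈
          FunFld.AD (C + Finsupp.single P (e - C P)) ⊔ LinearMap.range (FunFld.diag k K) := ha
      obtain ⟨b, hb, c, ⟨y, rfl⟩, hbc⟩ := Submodule.mem_sup.mp ha'
      have hbQ : ∀ Q, Q.1 (b Q) ≤ WithZero.exp ((C + Finsupp.single P (e - C P)) Q) := hb
      have hEP : (C + Finsupp.single P (e - C P)) P = e := by
        simp
      have hEQ : ∀ Q, Q ≠ P → (C + Finsupp.single P (e - C P)) Q = C Q := by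
        intro Q hQ
        simp [Finsupp.single_apply, Ne.symm hQ]
      have hb'ad : (fun Q => if Q = P then b P else 0) ∈ FunFld.adele k K := by
        show ∀ᶠ Q : FunFld.Place k K in Filter.cofinite, Q.1 (if Q = P then b P else 0) ≤ 1
        rw [Filter.eventually_cofinite]
        apply (Set.finite_singleton P).subset
        intro Q hQ
        by_contra hne
        apply hQ
        have hne' : Q ≠ P := fun h => hne (by rw [h]; rfl)
        show Q.1 (if Q = P then b P else 0) ≤ 1
        rw [if_neg hne']
        simp
      have hrest : (a : FunFld.Place k K → K) - (fun Q => if Q = P then b P else 0) ∈ FunFld.adele k K :=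
        Submodule.sub_mem _ a.2 hb'ad
      have hsplit : a = ⟨fun Q => if Q = P then b P else 0, hb'ad⟩ +
          ⟨(a : FunFld.Place k K → K) - (fun Q => if Q = P then b P else 0), hrest⟩ := by
        apply Subtype.ext
        show (a : FunFld.Place k K → K) = (fun Q => if Q = P then b P else 0) +
          ((a : FunFld.Place k K → K) - (fun Q => if Q = P then b P else 0))
        abel
      rw [hsplit, map_add]
      have h1 : ω ⟨fun Q => if Q = P then b P else 0, hb'ad⟩ = 0 := by
        apply h _ hb'ad
        · intro Q hQ
          exact if_neg hQ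
        · rw [if_pos rfl]
          have := hbQ P
          rwa [hEP] at this
      have h2 : ω ⟨(a : FunFld.Place k K → K) - (fun Q => if Q = P then b P else 0), hrest⟩ = 0 := by
        apply hC
        show (a : FunFld.Place k K → K) - (fun Q => if Q = P then b P else 0) ∈
          FunFld.AD C ⊔ LinearMap.range (FunFld.diag k K)
        rw [← hbc]
        have h3 : b + (FunFld.diag k K) y - (fun Q => if Q = P then b P else 0) =
            (fun Q => if Q = P then 0 else b Q) + (FunFld.diag k K) y := by
          funext Q
          simp only [Pi.add_apply, Pi.sub_apply]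
          by_cases hQ : Q = P
          · subst hQ
            simp
          · simp [hQ]
        rw [h3]
        refine Submodule.add_mem_sup ?_ ⟨y, rfl⟩
        intro Q
        show Q.1 (if Q = P then 0 else b Q) ≤ _
        by_cases hQ : Q = P
        · rw [if_pos hQ]
          simp
        · rw [if_neg hQ]
          have := hbQ Q
          rwa [hEQ Q hQ] at this
      rw [h1, h2, add_zero]
    have hle := (hω _).mp hE
    have := hle P
    simp at this
    omega

end Groth.Agent.S11017
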