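import Groth.Statements.S11043
import Mathlib
-- import your own Groth.Agent.* helpers here

set_option autoImplicit false
open FunFld

namespace Groth.Agent.S11043
theorem prod_roots_eq_range {n : ℕ} (hn : 0 < n) {ζ : ℂ} (hζ : IsPrimitiveRoot ζ n) (f : ℂ → ℂ) :
    ∏ θ ∈ Polynomial.nthRootsFinset n (1 : ℂ), f θ = ∏ k ∈ Finset.range n, f (ζ ^ k) := by
  classical
  have : NeZero n := ⟨hn.ne'⟩
  have himg : Polynomial.nthRootsFinset n (1:ℂ) = (Finset.range n).image (fun k => ζ ^ k) := by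
    ext θ
    rw [Polynomial.mem_nthRootsFinset hn, Finset.mem_image]
    constructor
    · intro h
      obtain ⟨i, hi, rfl⟩ := hζ.eq_pow_of_pow_eq_one h
      exact ⟨i, Finset.mem_range.2 hi, rfl⟩
    · rintro ⟨i, _, rfl⟩
      rw [← pow_mul, mul_comm, pow_mul, hζ.pow_eq_one, one_pow]
  rw [himg, Finset.prod_image]
  intro i hi j hj hij
  exact hζ.pow_inj (Finset.mem_range.1 hi) (Finset.mem_range.1 hj) hij

theorem prod_periodic (g : ℕ → ℂ) (m : ℕ) (hg : ∀ k, g (k + m) = g k) (e : ℕ) :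
    ∏ k ∈ Finset.range (e * m), g k = (∏ r ∈ Finset.range m, g r) ^ e := by
  have hper : ∀ q r : ℕ, g (q * m + r) = g r := by
    intro q
    induction q with
    | zero => intro r; simp
    | succ q ihq =>
      intro r
      have : (q + 1) * m + r = (q * m + r) + m := by ring
      rw [this, hg, ihq]
  induction e with
  | zero => simp
  | succ q ih =>
    rw [add_one_mul, Finset.prod_range_add, ih, pow_succ]
    congr 1
    exact Finset.prod_congr rfl fun r _ => hper q r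

theorem eval_identity (n d : ℕ) (hn : 0 < n) (hd : 0 < d) (t : ℂ) :
    (1 - t ^ (n * d / Nat.gcd n d)) ^ Nat.gcd n d =
      ∏ θ ∈ Polynomial.nthRootsFinset n (1 : ℂ), (1 - θ ^ d * t ^ d) := by
  have he_pos : 0 < Nat.gcd n d := Nat.gcd_pos_of_pos_left d hn
  obtain ⟨m, hm⟩ := Nat.gcd_dvd_left n d
  have hm_pos : 0 < m := by
    rcases Nat.eq_zero_or_pos m with h | h
    · rw [h, mul_zero] at hm; omega
    · exact h
  have hexp : n * d / Nat.gcd n d = m * d := by
    apply Nat.div_eq_of_eq_mul_right he_pos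
    rw [← mul_assoc, ← hm]
  have hζ : IsPrimitiveRoot (Complex.exp (2 * Real.pi * Complex.I / n)) n :=
    Complex.isPrimitiveRoot_exp n hn.ne'
  generalize Complex.exp (2 * Real.pi * Complex.I / n) = ζ at hζ
  have hω : IsPrimitiveRoot (ζ ^ d) m := by
    rw [IsPrimitiveRoot.iff_orderOf, orderOf_pow' ζ hd.ne', ← hζ.eq_orderOf]
    exact Nat.div_eq_of_eq_mul_right he_pos hm
  have hg : ∀ k, (fun k => 1 - (ζ ^ d) ^ k * t ^ d) (k + m) =
      (fun k => 1 - (ζ ^ d) ^ k * t ^ d) k := by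
    intro k
    show 1 - (ζ ^ d) ^ (k + m) * t ^ d = 1 - (ζ ^ d) ^ k * t ^ d
    rw [pow_add, hω.pow_eq_one, mul_one]
  calc (1 - t ^ (n * d / Nat.gcd n d)) ^ Nat.gcd n d
      = (1 - (t ^ d) ^ m) ^ Nat.gcd n d := by rw [hexp, mul_comm m d, pow_mul]
    _ = (∏ θ ∈ Polynomial.nthRootsFinset m (1:ℂ), (1 - θ * t ^ d)) ^ Nat.gcd n d := by
        rw [← hω.pow_sub_pow_eq_prod_sub_mul 1 (t ^ d) hm_pos, one_pow]
    _ = (∏ r ∈ Finset.range m, (1 - (ζ ^ d) ^ r * t ^ d)) ^ Nat.gcd n d := by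
        rw [prod_roots_eq_range hm_pos hω (fun θ => 1 - θ * t ^ d)]
    _ = ∏ k ∈ Finset.range (Nat.gcd n d * m), (1 - (ζ ^ d) ^ k * t ^ d) :=
        (prod_periodic (fun k => 1 - (ζ ^ d) ^ k * t ^ d) m hg (Nat.gcd n d)).symm
    _ = ∏ k ∈ Finset.range n, (1 - (ζ ^ k) ^ d * t ^ d) := by
        rw [← hm]
        exact Finset.prod_congr rfl fun k _ => by rw [← pow_mul, ← pow_mul, mul_comm d k]
    _ = ∏ θ ∈ Polynomial.nthRootsFinset n (1 : ℂ), (1 - θ ^ d * t ^ d) :=
        (prod_roots_eq_range hn hζ (fun θ => 1 - θ ^ d * t ^ d)).symm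


/-- For positive integers `n`, `d` with `e = gcd(n, d)`, in `ℂ[t]` one has `(1 - t^{nd/e})^e = ∏_{θⁿ =
1} (1 - (θ t)^d)`, the product over the complex `n`-th roots of unity. -/
theorem result (n d : ℕ) (hn : 0 < n) (hd : 0 < d) :
    ((1 : Polynomial ℂ) - Polynomial.X ^ (n * d / Nat.gcd n d)) ^ Nat.gcd n d =
      ∏ θ ∈ Polynomial.nthRootsFinset n (1 : ℂ),
        (1 - Polynomial.C (θ ^ d) * Polynomial.X ^ d) := by
  apply Polynomial.funext
  intro t
  simp only [Polynomial.eval_pow, Polynomial.eval_sub, Polynomial.eval_one, Polynomial.eval_X,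
    Polynomial.eval_prod, Polynomial.eval_mul, Polynomial.eval_C]
  exact eval_identity n d hn hd t

end Groth.Agent.S11043
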