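import Groth.Statements.S11044
import Mathlib
import Groth.Agent.Lib.lead.Gaps
-- import your own Groth.Agent.* helpers here

set_option autoImplicit false
open FunFld

namespace Groth.Agent.S11044
open FunFld Groth.Agent.Lib.lead.FF Groth.Agent.Lib.lead.FF2 Groth.Agent.Lib.lead.FF4 Groth.Agent.Lib.lead.FF5 Groth.Agent.Lib.lead.FF6 Groth.Agent.Lib.lead.FF7 Groth.Agent.Lib.lead.FF8 Groth.Agent.Lib.lead.FF9 Groth.Agent.Lib.lead.FF10 Groth.Agent.Lib.lead.FF11 Groth.Agent.Lib.lead.FF12 Groth.Agent.Lib.lead.FF13 Groth.Agent.Lib.lead.FF14 Groth.Agent.Lib.lead.FF15 Groth.Agent.Lib.lead.FF16 Groth.Agent.Lib.lead.FF17 Groth.Agent.Lib.lead.Gaps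


/-- Over an algebraically closed constant field, if the genus `g` is positive and `D` has degree at
least `2g` or is canonical, then `ℓ(D - P) < ℓ(D)` for every place `P`; that is, `D` is the divisor
of the projective map given by `L(D)`. -/
theorem result
    (k K : Type*) [Field k] [IsAlgClosed k] [Field K] [Algebra k K]
    (hK : FunFld.IsFunctionField k K) (hg : 0 < FunFld.genus k K)
    (D : FunFld.Divisor k K)
    (hD : 2 * (FunFld.genus k K : ℤ) ≤ D.deg ∨ FunFld.IsCanonical k K D) (P : FunFld.Place k K) :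
    FunFld.ell (D - Finsupp.single P 1) < FunFld.ell D := by
  have hP1 : P.deg = 1 := deg_eq_one hK P
  have hdegsub : FunFld.Divisor.deg (D - Finsupp.single P 1) = D.deg - 1 := by
    rw [deg_sub, deg_single, hP1]
    simp
  rcases hD with hD | hC
  · have h1 := ell_eq_of_deg_ge hK D (by linarith)
    have h2 := ell_eq_of_deg_ge hK (D - Finsupp.single P 1) (by rw [hdegsub]; linarith)
    rw [hdegsub] at h2
    have h3 : (FunFld.ell (D - Finsupp.single P 1) : ℤ) < FunFld.ell D := by
      rw [h1, h2]
      linarith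
    exact_mod_cast h3
  · obtain ⟨hl, hd⟩ := canonical_ell_deg hK hC
    have h2 := riemann_roch hK hC (D - Finsupp.single P 1)
    have hsub : D - (D - Finsupp.single P 1) = Finsupp.single P 1 := sub_sub_cancel _ _
    rw [hsub, hdegsub, hd] at h2
    haveI : Module.Finite k ↥(FunFld.L (Finsupp.single P (1 : ℤ) : FunFld.Divisor k K)) :=
      L_finite hK _
    have h3 := finrank_le_one_of_genus_pos hK hg 1 (Finsupp.single P 1)
      (by rw [deg_single, hP1]; simp) (FunFld.L (Finsupp.single P (1 : ℤ))) P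
    rw [Nat.cast_one, sub_self, Finsupp.single_zero, sub_zero, inf_idem] at h3
    have h4 : FunFld.ell (Finsupp.single P (1 : ℤ) : FunFld.Divisor k K) ≤ 1 := h3
    have h5 : (FunFld.ell (D - Finsupp.single P 1) : ℤ) < FunFld.ell D := by
      rw [hl, h2]
      have : (FunFld.ell (Finsupp.single P (1 : ℤ) : FunFld.Divisor k K) : ℤ) ≤ 1 := by
        exact_mod_cast h4
      linarith
    exact_mod_cast h5

end Groth.Agent.S11044
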