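import Groth.Statements.S11047
import Mathlib
import Groth.Agent.Lib.lead.Loc
-- import your own Groth.Agent.* helpers here

set_option autoImplicit false
open FunFld

namespace Groth.Agent.S11047
open FunFld Groth.Agent.Lib.lead.FF Groth.Agent.Lib.lead.FF2 Groth.Agent.Lib.lead.FF3 Groth.Agent.Lib.lead.FF4 Groth.Agent.Lib.lead.FF5 Groth.Agent.Lib.lead.FF6 Groth.Agent.Lib.lead.FF7 Groth.Agent.Lib.lead.FF8 Groth.Agent.Lib.lead.FF9 Groth.Agent.Lib.lead.FF10 Groth.Agent.Lib.lead.FF11 Groth.Agent.Lib.lead.FF12 Groth.Agent.Lib.lead.FF13 Groth.Agent.Lib.lead.FF14 Groth.Agent.Lib.lead.FF15 Groth.Agent.Lib.lead.FF16 Groth.Agent.Lib.lead.FF17 Groth.Agent.Lib.lead.Loc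


/-- Over an algebraically closed constant field, a `k`-automorphism of a function field of one variable
of genus `g` that fixes more than `2g + 2` places is the identity. -/
theorem result
    (k K : Type*) [Field k] [IsAlgClosed k] [Field K] [Algebra k K]
    (hK : FunFld.IsFunctionField k K) (σ : K ≃ₐ[k] K)
    (h : ((2 * FunFld.genus k K + 2 : ℕ) : ℕ∞) <
      Set.encard {P : FunFld.Place k K | ∀ x : K, P.1 x < 1 → P.1 (σ x) < 1}) :
    σ = 1 := by
  classical
  by_contra hσ
  obtain ⟨x₀, hx₀⟩ : ∃ x₀, σ x₀ ≠ x₀ := by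
    by_contra hall
    push Not at hall
    exact hσ (AlgEquiv.ext fun a => hall a)
  have hy₀ : x₀ - σ x₀ ≠ 0 := sub_ne_zero.2 (Ne.symm hx₀)
  have hnonfix : ∃ P : FunFld.Place k K, ¬ (∀ x : K, P.1 x < 1 → P.1 (σ x) < 1) := by
    by_contra hall
    push Not at hall
    haveI := infinite_places hK
    have hfin : (Set.univ : Set (FunFld.Place k K)).Finite := by
      refine Set.Finite.subset ((finite_support_ord hK x₀).union
        (finite_support_ord hK (x₀ - σ x₀))) ?_
      intro Q _
      by_cases hQx : Q.1 x₀ ≤ 1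
      · right
        rw [Function.mem_support]
        have h1 := fix_sub_lt hK σ (hall Q) hQx
        have h2 := (ord_pos_iff Q hy₀).2 h1
        omega
      · left
        rw [Function.mem_support]
        have hx₀0 : x₀ ≠ 0 := by
          rintro rfl
          rw [map_zero] at hQx
          exact hQx zero_le'
        have h2 := (ord_neg_iff Q hx₀0).2 (not_le.1 hQx)
        omega
    exact Set.infinite_univ hfin
  obtain ⟨P, hP⟩ := hnonfix
  obtain ⟨x, hxL, hxc⟩ := exists_nonconst hK P
  -- x has a pole at P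
  have hxR : ∀ R : FunFld.Place k K, R ≠ P → R.1 x ≤ 1 := by
    intro R hR
    have h1 := (mem_L_iff _ _).1 hxL R
    rwa [Finsupp.single_apply, if_neg (Ne.symm hR), WithZero.exp_zero] at h1
  have hpole : 1 < P.1 x := by
    by_contra hnp
    rw [not_lt] at hnp
    apply hxc
    have hx0 : x ∈ FunFld.L (0 : FunFld.Divisor k K) := by
      refine (mem_L_iff _ _).2 fun R => ?_
      rw [Finsupp.zero_apply, WithZero.exp_zero]
      by_cases hR : R = P
      · rw [hR]; exact hnp
      · exact hxR R hR
    rw [L_zero hK, Submodule.mem_one] at hx0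
    exact hx0
  have hg0 : (0 : ℤ) ≤ (FunFld.genus k K : ℤ) + 1 := by positivity
  -- σ x lies in L((g+1) P')
  have hσxL : σ x ∈ FunFld.L (Finsupp.single (comapP σ.symm P) ((FunFld.genus k K : ℤ) + 1)) := by
    refine (mem_L_iff _ _).2 fun R => ?_
    have h1 := (mem_L_iff _ _).1 hxL (comapP σ R)
    rw [comapP_apply] at h1
    refine h1.trans ?_
    rw [WithZero.exp_le_exp]
    by_cases hR : comapP σ R = P
    · have hR' := eq_comapP_symm σ hR
      rw [hR, Finsupp.single_eq_same, ← hR', Finsupp.single_eq_same]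
    · rw [Finsupp.single_apply, if_neg (Ne.symm hR), Finsupp.single_apply]
      split_ifs
      · exact hg0
      · exact le_rfl
  have hy0 : x - σ x ≠ 0 := by
    intro h0
    have hσx : σ x = x := (sub_eq_zero.1 h0).symm
    apply hP
    have hcomap : comapP σ P = P := by
      by_contra hne
      have h1 := hxR (comapP σ P) hne
      rw [comapP_apply, hσx] at h1
      exact absurd hpole (not_lt.2 h1)
    intro z hz
    have h2 : (comapP σ P).1 z = P.1 z := by rw [hcomap]
    rw [comapP_apply] at h2
    rw [h2]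
    exact hz
  have hP' : ¬ (∀ x : K, (comapP σ.symm P).1 x < 1 → (comapP σ.symm P).1 (σ x) < 1) := by
    intro hfix
    apply hP
    intro z hz
    have h1 := hfix (σ z)
    rw [comapP_apply, comapP_apply, σ.symm_apply_apply, σ.symm_apply_apply] at h1
    exact h1 hz
  -- the finite set T of fixed places
  obtain ⟨T, hTsub, hTcard⟩ := Set.exists_subset_encard_eq (Order.add_one_le_of_lt h)
  have hT' : T.encard = ((2 * FunFld.genus k K + 3 : ℕ) : ℕ∞) := by
    rw [hTcard]
    push_cast
    ring
  have hfin : T.Finite := Set.finite_of_encard_eq_coe hT'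
  have hcardT : hfin.toFinset.card = 2 * FunFld.genus k K + 3 := by
    have h1 := hfin.encard_eq_coe_toFinset_card
    rw [hT'] at h1
    exact_mod_cast h1.symm
  have hyL : x - σ x ∈ FunFld.L (Finsupp.single P ((FunFld.genus k K : ℤ) + 1) +
      Finsupp.single (comapP σ.symm P) ((FunFld.genus k K : ℤ) + 1)) := by
    refine Submodule.sub_mem _ (L_mono ?_ hxL) (L_mono ?_ hσxL)
    · intro R
      rw [Finsupp.add_apply]
      have : (0 : ℤ) ≤ (Finsupp.single (comapP σ.symm P) ((FunFld.genus k K : ℤ) + 1)) R := by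
        rw [Finsupp.single_apply]
        split_ifs
        · exact hg0
        · exact le_rfl
      linarith
    · intro R
      rw [Finsupp.add_apply]
      have : (0 : ℤ) ≤ (Finsupp.single P ((FunFld.genus k K : ℤ) + 1)) R := by
        rw [Finsupp.single_apply]
        split_ifs
        · exact hg0
        · exact le_rfl
      linarith
  have hyT := mem_L_sub_sum _ hfin.toFinset hyL (by
    intro Q hQ
    have hQfix : ∀ x : K, Q.1 x < 1 → Q.1 (σ x) < 1 := hTsub (hfin.mem_toFinset.1 hQ)
    have hQP : Q ≠ P := by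
      rintro rfl
      exact hP hQfix
    have hQP' : Q ≠ comapP σ.symm P := by
      rintro rfl
      exact hP' hQfix
    refine ⟨?_, fix_sub_lt hK σ hQfix (hxR Q hQP)⟩
    rw [Finsupp.add_apply, Finsupp.single_apply, Finsupp.single_apply, if_neg (Ne.symm hQP),
      if_neg (Ne.symm hQP'), add_zero])
  rw [L_eq_bot_of_deg_neg hK _ (by
    rw [deg_sub, deg_add, deg_single, deg_single, deg_eq_one hK, deg_eq_one hK,
      deg_sum_single hK, hcardT]
    push_cast
    linarith), Submodule.mem_bot] at hyT
  exact hy0 hyT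

end Groth.Agent.S11047
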