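import Groth.Statements.S11049
import Mathlib
-- import your own Groth.Agent.* helpers here

set_option autoImplicit false
open CAlg

namespace Groth.Agent.S11049



/-- For `k`-algebras `S ⊆ R` with `R` an integral domain and a nonzero `x ∈ S`, if `R/S` and `R/Rx` are
finite-dimensional over `k` then `dim_k R/Rx = dim_k S/Sx`. (The published statement allows `x = 0`;
then `R` is a field finite over `k` and the two sides are `dim_k R` and `dim_k S`, which differ for
`S = k ⊊ R`; the published proof multiplies by `x` as an injection, so `x ≠ 0` is assumed here.) -/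
theorem result
    (k R : Type*) [Field k] [CommRing R]
    [IsDomain R] [Algebra k R] (S : Subalgebra k R) (x : S) (hx : (x : R) ≠ 0)
    [Module.Finite k (R ⧸ Subalgebra.toSubmodule S)]
    [Module.Finite k (R ⧸ Ideal.span {(x : R)})] :
    Module.finrank k (R ⧸ Ideal.span {(x : R)}) = Module.finrank k (S ⧸ Ideal.span {x}) := by
  classical
  let A : Submodule k R := Subalgebra.toSubmodule S
  let mulx : R →ₗ[k] R := LinearMap.mulLeft k (x : R)
  have hinj : Function.Injective mulx := by
    intro a b hab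
    have h1 : (x : R) * a = (x : R) * b := hab
    exact mul_left_cancel₀ hx h1
  let C : Submodule k R := A.map mulx
  let g : R →ₗ[k] (R ⧸ C) := C.mkQ.comp mulx
  let h : S →ₗ[k] (R ⧸ C) := C.mkQ.comp S.val.toLinearMap
  let q : R →ₗ[k] (R ⧸ Ideal.span {(x : R)}) :=
    (Submodule.mkQ (Ideal.span {(x : R)})).restrictScalars k
  have hCq : C ≤ LinearMap.ker q := by
    rintro _ ⟨s, hs, rfl⟩
    rw [LinearMap.mem_ker]
    have h1 : (Submodule.Quotient.mk (mulx s) : R ⧸ Ideal.span {(x : R)}) = 0 := by
      rw [Submodule.Quotient.mk_eq_zero]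
      exact Ideal.mul_mem_right s _ (Ideal.mem_span_singleton_self _)
    exact h1
  have hCA : C ≤ LinearMap.ker A.mkQ := by
    rw [Submodule.ker_mkQ]
    rintro _ ⟨s, hs, rfl⟩
    exact (Subalgebra.mem_toSubmodule S).2 (S.mul_mem x.2 ((Subalgebra.mem_toSubmodule S).1 hs))
  let f₁ : (R ⧸ C) →ₗ[k] (R ⧸ Ideal.span {(x : R)}) := C.liftQ q hCq
  let f₂ : (R ⧸ C) →ₗ[k] (R ⧸ A) := C.liftQ A.mkQ hCA
  have hsurj1 : Function.Surjective f₁ := by
    intro y
    obtain ⟨r, rfl⟩ := Submodule.Quotient.mk_surjective _ y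
    exact ⟨Submodule.Quotient.mk r, rfl⟩
  have hsurj2 : Function.Surjective f₂ := by
    intro y
    obtain ⟨r, rfl⟩ := Submodule.Quotient.mk_surjective _ y
    exact ⟨Submodule.Quotient.mk r, rfl⟩
  have hkg : LinearMap.ker g = A := by
    ext r
    rw [LinearMap.mem_ker]
    constructor
    · intro hr
      have hr' : mulx r ∈ C := (Submodule.Quotient.mk_eq_zero C).1 hr
      obtain ⟨s, hs, hsr⟩ := Submodule.mem_map.1 hr'
      have := hinj hsr
      rw [← this]; exact hs
    · intro hr
      exact (Submodule.Quotient.mk_eq_zero C).2 (Submodule.mem_map.2 ⟨r, hr, rfl⟩)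
  have hkf1 : LinearMap.ker f₁ = LinearMap.range g := by
    ext v
    obtain ⟨r, rfl⟩ := Submodule.Quotient.mk_surjective C v
    rw [LinearMap.mem_ker, LinearMap.mem_range]
    constructor
    · intro hv
      have hv' : (Submodule.Quotient.mk r : R ⧸ Ideal.span {(x : R)}) = 0 := hv
      have hr : r ∈ Ideal.span {(x : R)} := (Submodule.Quotient.mk_eq_zero _).1 hv'
      obtain ⟨t, rfl⟩ := Ideal.mem_span_singleton'.1 hr
      refine ⟨t, ?_⟩
      show (Submodule.Quotient.mk ((x : R) * t) : R ⧸ C) = Submodule.Quotient.mk (t * (x : R))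
      rw [mul_comm]
    · rintro ⟨t, ht⟩
      rw [← ht]
      have h1 : (Submodule.Quotient.mk ((x : R) * t) : R ⧸ Ideal.span {(x : R)}) = 0 := by
        rw [Submodule.Quotient.mk_eq_zero]
        exact Ideal.mul_mem_right t _ (Ideal.mem_span_singleton_self _)
      exact h1
  have hkf2 : LinearMap.ker f₂ = LinearMap.range h := by
    ext v
    obtain ⟨r, rfl⟩ := Submodule.Quotient.mk_surjective C v
    rw [LinearMap.mem_ker, LinearMap.mem_range]
    constructor
    · intro hv
      have hv' : (Submodule.Quotient.mk r : R ⧸ A) = 0 := hv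
      have hr : r ∈ A := (Submodule.Quotient.mk_eq_zero A).1 hv'
      exact ⟨⟨r, (Subalgebra.mem_toSubmodule S).1 hr⟩, rfl⟩
    · rintro ⟨s, hs⟩
      rw [← hs]
      have h1 : (Submodule.Quotient.mk (s : R) : R ⧸ A) = 0 :=
        (Submodule.Quotient.mk_eq_zero A).2 ((Subalgebra.mem_toSubmodule S).2 s.2)
      exact h1
  have hkh : LinearMap.ker h = (Ideal.span {x}).restrictScalars k := by
    ext s
    rw [LinearMap.mem_ker, Submodule.restrictScalars_mem]
    constructor
    · intro hs
      have hs' : (s : R) ∈ C := (Submodule.Quotient.mk_eq_zero C).1 hs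
      obtain ⟨t, ht, hts⟩ := Submodule.mem_map.1 hs'
      refine Ideal.mem_span_singleton'.2 ⟨⟨t, (Subalgebra.mem_toSubmodule S).1 ht⟩, ?_⟩
      apply Subtype.ext
      show t * (x : R) = (s : R)
      rw [mul_comm]; exact hts
    · intro hs
      obtain ⟨t, rfl⟩ := Ideal.mem_span_singleton'.1 hs
      refine (Submodule.Quotient.mk_eq_zero C).2 (Submodule.mem_map.2 ⟨(t : R), (Subalgebra.mem_toSubmodule S).2 t.2, ?_⟩)
      show (x : R) * (t : R) = (t : R) * (x : R)
      rw [mul_comm]
  -- finiteness
  have hfin_g : Module.Finite k (R ⧸ LinearMap.ker g) := by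
    rw [hkg]; infer_instance
  have hfin_rg : Module.Finite k (LinearMap.range g) :=
    Module.Finite.equiv g.quotKerEquivRange
  have hfin_k1 : Module.Finite k (LinearMap.ker f₁) := by
    rw [hkf1]; infer_instance
  have hfin_q1 : Module.Finite k ((R ⧸ C) ⧸ LinearMap.ker f₁) :=
    Module.Finite.equiv (f₁.quotKerEquivOfSurjective hsurj1).symm
  have hfinV : Module.Finite k (R ⧸ C) := Module.Finite.of_submodule_quotient (LinearMap.ker f₁)
  -- rank computations
  have r1 := LinearMap.finrank_range_add_finrank_ker f₁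
  have r2 := LinearMap.finrank_range_add_finrank_ker f₂
  have t1 : Module.finrank k (LinearMap.range f₁) = Module.finrank k (R ⧸ Ideal.span {(x : R)}) := by
    rw [LinearMap.range_eq_top.2 hsurj1, finrank_top]
  have t2 : Module.finrank k (LinearMap.range f₂) = Module.finrank k (R ⧸ A) := by
    rw [LinearMap.range_eq_top.2 hsurj2, finrank_top]
  have k1 : Module.finrank k (LinearMap.ker f₁) = Module.finrank k (R ⧸ A) := by
    rw [hkf1, ← g.quotKerEquivRange.finrank_eq, hkg]
  have k2 : Module.finrank k (LinearMap.ker f₂) = Module.finrank k (S ⧸ Ideal.span {x}) := by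
    rw [hkf2]
    have e := (Submodule.Quotient.restrictScalarsEquiv k (Ideal.span {x})).symm ≪≫ₗ
      (Submodule.quotEquivOfEq _ _ hkh.symm) ≪≫ₗ h.quotKerEquivRange
    exact e.finrank_eq.symm
  rw [t1, k1] at r1
  rw [t2, k2] at r2
  omega

end Groth.Agent.S11049
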