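import Groth.Statements.S11055
import Mathlib
import Groth.Agent.Lib.lead.NS2
-- import your own Groth.Agent.* helpers here

set_option autoImplicit false
open FunFld

namespace Groth.Agent.S11055
open FunFld Groth.Agent.Lib.lead.FF Groth.Agent.Lib.lead.FF2 Groth.Agent.Lib.lead.FF3 Groth.Agent.Lib.lead.FF4 Groth.Agent.Lib.lead.FF5 Groth.Agent.Lib.lead.FF6 Groth.Agent.Lib.lead.FF7 Groth.Agent.Lib.lead.FF8 Groth.Agent.Lib.lead.FF9 Groth.Agent.Lib.lead.FF10 Groth.Agent.Lib.lead.FF11 Groth.Agent.Lib.lead.FF12 Groth.Agent.Lib.lead.FF13 Groth.Agent.Lib.lead.FF14 Groth.Agent.Lib.lead.FF15 Groth.Agent.Lib.lead.FF16 Groth.Agent.Lib.lead.FF17 Groth.Agent.Lib.lead.Loc Groth.Agent.Lib.lead.Emb Groth.Agent.Lib.lead.Emb2 Groth.Agent.Lib.lead.NS Groth.Agent.Lib.lead.NS2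


/-- Over an algebraically closed constant field, a projective map `φ = (φ₀, …, φₙ)`, `n ≥ 1`, with span
`W` and divisor `[φ]` is nonsingular at the place `P` if and only if `W ∩ L([φ] - P - Q)` has
codimension `2` in `W` for every place `Q`. Here a projective map is nonsingular at a place when its
local ring there (quotients of polynomials over `k` in the ratios `φᵢ/φⱼ`, `φⱼ` of least order at
the place, with denominator a unit there) is the whole valuation ring. (The published statement is
for any projective map; the published proof uses the finiteness property of the local ring that is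
established for birational maps, so `φ` is taken birational here: the ratios `φᵢ/φ₀` generate `K`
over `k`.) -/
theorem result
    (k K : Type*) [Field k] [IsAlgClosed k] [Field K] [Algebra k K]
    (hK : FunFld.IsFunctionField k K) {n : ℕ} (hn : 1 ≤ n)
    (φ : Fin (n + 1) → K) (hφ : LinearIndependent k φ)
    (hbir : IntermediateField.adjoin k (Set.range fun i => φ i / φ 0) = ⊤) (P : FunFld.Place k K) :
    FunFld.IsNonsingularAt φ P ↔ ∀ Q : FunFld.Place k K,
      Module.finrank k ↥(Submodule.span k (Set.range φ) ⊓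
          FunFld.L (FunFld.mapDiv k φ - Finsupp.single P 1 - Finsupp.single Q 1)) + 2 =
        Module.finrank k ↥(Submodule.span k (Set.range φ)) := by
  classical
  have hφ0 : ∀ i, φ i ≠ 0 := fun i => hφ.ne_zero i
  obtain ⟨M, hM⟩ : ∃ M : Divisor k K, M = mapDiv k φ := ⟨_, rfl⟩
  rw [← hM]
  obtain ⟨V, hVdef⟩ : ∃ V : Submodule k K, V = Submodule.span k (Set.range φ) := ⟨_, rfl⟩
  rw [← hVdef]
  haveI : Module.Finite k ↥V := by
    rw [hVdef]
    exact FiniteDimensional.span_of_finite k (Set.finite_range φ)
  have hVM : V ≤ L M := by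
    rw [hVdef, hM]
    exact span_le_L_mapDiv hK φ hφ0
  have hV : V ⊓ L M = V := inf_eq_left.2 hVM
  have s1 := step_le hK V M P
  rw [hV] at s1
  constructor
  · intro hns Q
    obtain ⟨H1, H2⟩ := loc_of_nonsing P φ hns
    obtain ⟨t, htV, ht1, ht2⟩ := sep_of_loc hK φ hφ P H1 H2 Q
    rw [← hM] at ht1 ht2
    rw [← hVdef] at htV
    have s2 := step_le hK V (M - Finsupp.single P 1) Q
    obtain ⟨i, hi⟩ := exists_val_eq_mapDiv hK φ hφ0 P
    rw [← hM] at hi
    have hiV : φ i ∈ V := by
      rw [hVdef]
      exact Submodule.subset_span ⟨i, rfl⟩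
    have hlt1 : V ⊓ L (M - Finsupp.single P 1) < V := by
      refine lt_of_le_of_ne inf_le_left ?_
      intro heq
      have hmem : φ i ∈ V ⊓ L (M - Finsupp.single P 1) := by
        rw [heq]
        exact hiV
      have h2 := (mem_L_iff _ _).1 (Submodule.mem_inf.1 hmem).2 P
      rw [hi] at h2
      have h3 : (M - Finsupp.single P 1 : Divisor k K) P = M P - 1 := by
        rw [Finsupp.sub_apply, Finsupp.single_eq_same]
      rw [h3, WithZero.exp_le_exp] at h2
      omega
    haveI : Module.Finite k ↥(V ⊓ L (M - Finsupp.single P 1)) :=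
      Submodule.finiteDimensional_of_le inf_le_left
    have hlt2 : V ⊓ L (M - Finsupp.single P 1 - Finsupp.single Q 1) <
        V ⊓ L (M - Finsupp.single P 1) := by
      refine lt_of_le_of_ne (inf_le_inf_left V (L_mono (sub_le_self _ (single_one_nonneg Q)))) ?_
      intro heq
      have hmem : t ∈ V ⊓ L (M - Finsupp.single P 1) := Submodule.mem_inf.2 ⟨htV, ht1⟩
      rw [← heq] at hmem
      exact ht2 (Submodule.mem_inf.1 hmem).2
    have f1 := Submodule.finrank_lt_finrank_of_lt hlt1
    have f2 := Submodule.finrank_lt_finrank_of_lt hlt2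
    omega
  · intro hcod
    apply nonsing_of_sep hK hn φ hφ P
    intro Q
    rw [← hM, ← hVdef]
    by_contra hcon
    push Not at hcon
    have hle : V ⊓ L (M - Finsupp.single P 1) ≤
        V ⊓ L (M - Finsupp.single P 1 - Finsupp.single Q 1) := by
      intro t ht
      obtain ⟨h1, h2⟩ := Submodule.mem_inf.1 ht
      exact Submodule.mem_inf.2 ⟨h1, hcon t h1 h2⟩
    have s2 := step_le hK V (M - Finsupp.single P 1) Q
    haveI : Module.Finite k ↥(V ⊓ L (M - Finsupp.single P 1 - Finsupp.single Q 1)) :=
      Submodule.finiteDimensional_of_le inf_le_left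
    have f := Submodule.finrank_mono hle
    have := hcod Q
    omega

end Groth.Agent.S11055
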