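import Groth.Statements.S11056
import Mathlib
import Groth.Agent.Lib.lead.Emb
-- import your own Groth.Agent.* helpers here

set_option autoImplicit false
open FunFld

namespace Groth.Agent.S11056
open FunFld Groth.Agent.Lib.lead.FF Groth.Agent.Lib.lead.FF2 Groth.Agent.Lib.lead.FF3 Groth.Agent.Lib.lead.FF4 Groth.Agent.Lib.lead.FF5 Groth.Agent.Lib.lead.FF6 Groth.Agent.Lib.lead.FF7 Groth.Agent.Lib.lead.FF8 Groth.Agent.Lib.lead.FF9 Groth.Agent.Lib.lead.FF10 Groth.Agent.Lib.lead.FF11 Groth.Agent.Lib.lead.FF12 Groth.Agent.Lib.lead.FF13 Groth.Agent.Lib.lead.FF14 Groth.Agent.Lib.lead.FF15 Groth.Agent.Lib.lead.FF16 Groth.Agent.Lib.lead.FF17 Groth.Agent.Lib.lead.Loc Groth.Agent.Lib.lead.Emb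


/-- Over an algebraically closed constant field, if `deg D ≥ 2g + 1` then the projective map given by a
basis of `L(D)` is an embedding, i.e. nonsingular at every place. Here a projective map is
nonsingular at a place when its local ring there (quotients of polynomials over `k` in the ratios
`φᵢ/φⱼ`, `φⱼ` of least order at the place, with denominator a unit there) is the whole valuation
ring. -/
theorem result
    (k K : Type*) [Field k] [IsAlgClosed k] [Field K] [Algebra k K]
    (hK : FunFld.IsFunctionField k K) (D : FunFld.Divisor k K)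
    (hD : 2 * (FunFld.genus k K : ℤ) + 1 ≤ D.deg) {n : ℕ} (φ : Fin (n + 1) → K)
    (hφ : LinearIndependent k φ) (hspan : Submodule.span k (Set.range φ) = FunFld.L D)
    (P : FunFld.Place k K) : FunFld.IsNonsingularAt φ P := by
  intro z hz
  have hg0 : (0 : ℤ) ≤ FunFld.genus k K := Nat.cast_nonneg _
  obtain ⟨j, hjmax⟩ := exists_max_index P φ
  have hφ0 : ∀ i, φ i ≠ 0 := fun i => hφ.ne_zero i
  have hj0 := hφ0 j
  have hφL : ∀ i, φ i ∈ FunFld.L D := fun i => by
    rw [← hspan]
    exact Submodule.subset_span ⟨i, rfl⟩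
  obtain ⟨E, hE⟩ : ∃ E : FunFld.Divisor k K, E = D + FunFld.div k (φ j) := ⟨_, rfl⟩
  have hLE : ∀ y, y ∈ FunFld.L E ↔ φ j * y ∈ FunFld.L D := fun y => by
    rw [hE, mul_mem_L_iff hK D hj0]
  have h1E : (1 : K) ∈ FunFld.L E := by
    rw [hLE, mul_one]
    exact hφL j
  have hE0 : 0 ≤ E := by
    intro R
    have := (mem_L_iff _ _).1 h1E R
    rw [map_one, ← WithZero.exp_zero, WithZero.exp_le_exp] at this
    simpa using this
  have hEdeg : E.deg = D.deg := by rw [hE, deg_add, deg_div hK, add_zero]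
  have hEP : E P = 0 := by
    obtain ⟨y, hy, hyn⟩ := ell_sub_single_lt hK D (by linarith) P
    have hyv := val_eq_of_mem_not_mem hy hyn
    rw [← hspan] at hy
    obtain ⟨c, hc⟩ := (Submodule.mem_span_range_iff_exists_fun k).1 hy
    have hle : P.1 y ≤ P.1 (φ j) := by
      rw [← hc]
      apply Valuation.map_sum_le
      intro i _
      rw [Algebra.smul_def, map_mul]
      calc P.1 (algebraMap k K (c i)) * P.1 (φ i) ≤ 1 * P.1 (φ j) :=
            mul_le_mul' (P.2.1 _) (hjmax i)
        _ = P.1 (φ j) := one_mul _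
    have hge : P.1 (φ j) ≤ WithZero.exp (D P) := (mem_L_iff _ _).1 (hφL j) P
    rw [hyv] at hle
    have hval : P.1 (φ j) = WithZero.exp (D P) := le_antisymm hge hle
    rw [hE, Finsupp.add_apply, div_apply hK]
    rw [val_eq_exp P hj0] at hval
    have h1 := WithZero.exp_le_exp.1 hval.le
    have h2 := WithZero.exp_le_exp.1 hval.ge
    omega
  have hAP : ∀ a ∈ Algebra.adjoin k (Set.range fun i => φ i / φ j), P.1 a ≤ 1 := by
    intro a ha
    induction ha using Algebra.adjoin_induction with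
    | mem x hx =>
      obtain ⟨i, rfl⟩ := hx
      exact (val_div_le_one_iff P hj0).2 (hjmax i)
    | algebraMap c => exact P.2.1 c
    | add x y _ _ hx hy => exact Valuation.map_add_le _ hx hy
    | mul x y _ _ hx hy =>
      rw [map_mul]
      exact mul_le_one' hx hy
  have hLA : ∀ y ∈ FunFld.L E, y ∈ Algebra.adjoin k (Set.range fun i => φ i / φ j) := by
    intro y hy
    rw [hLE, ← hspan] at hy
    obtain ⟨c, hc⟩ := (Submodule.mem_span_range_iff_exists_fun k).1 hy
    have hy' : y = ∑ i, c i • (φ i / φ j) := by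
      rw [sum_smul_div, hc, mul_div_cancel_left₀ _ hj0]
    rw [hy']
    exact Subalgebra.sum_mem _ fun i _ => Subalgebra.smul_mem _
      (Algebra.subset_adjoin (show φ i / φ j ∈ Set.range fun i => φ i / φ j from ⟨i, rfl⟩)) _
  obtain ⟨u, hu, w, hw, hw1, hzw⟩ := emb hK E P hE0 hEP (by rw [hEdeg]; exact hD)
    (Algebra.adjoin k (Set.range fun i => φ i / φ j)) hLA hAP z hz
  exact ⟨j, hj0, hjmax, u, hu, w, hw, hw1, hzw⟩

end Groth.Agent.S11056
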