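import Groth.Statements.S11057
import Mathlib
import Groth.Agent.Lib.lead.Emb2
-- import your own Groth.Agent.* helpers here

set_option autoImplicit false
open FunFld

namespace Groth.Agent.S11057
open FunFld Groth.Agent.Lib.lead.FF Groth.Agent.Lib.lead.FF2 Groth.Agent.Lib.lead.FF3 Groth.Agent.Lib.lead.FF4 Groth.Agent.Lib.lead.FF5 Groth.Agent.Lib.lead.FF6 Groth.Agent.Lib.lead.FF7 Groth.Agent.Lib.lead.FF8 Groth.Agent.Lib.lead.FF9 Groth.Agent.Lib.lead.FF10 Groth.Agent.Lib.lead.FF11 Groth.Agent.Lib.lead.FF12 Groth.Agent.Lib.lead.FF13 Groth.Agent.Lib.lead.FF14 Groth.Agent.Lib.lead.FF15 Groth.Agent.Lib.lead.FF16 Groth.Agent.Lib.lead.FF17 Groth.Agent.Lib.lead.Loc Groth.Agent.Lib.lead.Emb Groth.Agent.Lib.lead.Emb2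


/-- Over an algebraically closed constant field, if `K` has degree at least `3` over every subfield
`k(x)` generated by a nonconstant element, then the canonical map (given by a basis of `L(D)` for a
canonical divisor `D`) is an embedding, i.e. nonsingular at every place. Here a projective map is
nonsingular at a place when its local ring there (quotients of polynomials over `k` in the ratios
`φᵢ/φⱼ`, `φⱼ` of least order at the place, with denominator a unit there) is the whole valuation
ring. -/
theorem result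
    (k K : Type*) [Field k] [IsAlgClosed k] [Field K] [Algebra k K]
    (hK : FunFld.IsFunctionField k K)
    (h2 : ∀ x : K, Transcendental k x →
      2 < Module.finrank (IntermediateField.adjoin k ({x} : Set K)) K)
    (D : FunFld.Divisor k K) (hD : FunFld.IsCanonical k K D) {n : ℕ} (φ : Fin (n + 1) → K)
    (hφ : LinearIndependent k φ) (hspan : Submodule.span k (Set.range φ) = FunFld.L D)
    (P : FunFld.Place k K) : FunFld.IsNonsingularAt φ P := by
  intro z hz
  have hg0 : (0 : ℤ) ≤ FunFld.genus k K := Nat.cast_nonneg _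
  -- non-hyperelliptic: ℓ(Q+R) = 1
  have hPR : ∀ Q R : FunFld.Place k K,
      FunFld.ell (Finsupp.single Q 1 + Finsupp.single R 1 : FunFld.Divisor k K) = 1 := by
    intro Q R
    have hnn : (0 : FunFld.Divisor k K) ≤ Finsupp.single Q 1 + Finsupp.single R 1 :=
      add_nonneg (single_one_nonneg Q) (single_one_nonneg R)
    have h1 : 1 ≤ FunFld.ell (Finsupp.single Q 1 + Finsupp.single R 1 : FunFld.Divisor k K) := by
      have := ell_mono hK hnn
      rwa [ell_zero hK] at this
    by_contra hne
    have h3 : 2 ≤ FunFld.ell (Finsupp.single Q 1 + Finsupp.single R 1 : FunFld.Divisor k K) := by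
      omega
    have hex : ∃ x ∈ FunFld.L (Finsupp.single Q 1 + Finsupp.single R 1 : FunFld.Divisor k K),
        x ∉ Set.range (algebraMap k K) := by
      by_contra hall
      push Not at hall
      have hle : FunFld.L (Finsupp.single Q 1 + Finsupp.single R 1 : FunFld.Divisor k K) ≤
          FunFld.L (0 : FunFld.Divisor k K) := by
        intro x hx
        rw [L_zero hK, Submodule.mem_one]
        exact hall x hx
      haveI := L_finite hK (0 : FunFld.Divisor k K)
      have h4 : FunFld.ell (Finsupp.single Q 1 + Finsupp.single R 1 : FunFld.Divisor k K) ≤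
          FunFld.ell (0 : FunFld.Divisor k K) := Submodule.finrank_mono hle
      rw [ell_zero hK] at h4
      omega
    obtain ⟨x, hxL, hxc⟩ := hex
    have hxtr : Transcendental k x := fun halg => hxc (hK.2 x halg)
    have h4 := finrank_le_deg hK hxtr _ hnn hxL
    rw [deg_add, deg_single, deg_single, deg_eq_one hK, deg_eq_one hK] at h4
    have h5 := h2 x hxtr
    norm_num at h4
    omega
  have hg2 : (2 : ℤ) ≤ FunFld.genus k K := by
    have h1 := (riemann hK).1 (Finsupp.single P 1 + Finsupp.single P 1)
    rw [deg_add, deg_single, deg_eq_one hK, hPR P P] at h1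
    norm_num at h1
    linarith
  obtain ⟨hCl, hCd⟩ := canonical_ell_deg hK hD
  have hR1 : ∀ R : FunFld.Place k K,
      FunFld.ell (Finsupp.single R 1 : FunFld.Divisor k K) = 1 := by
    intro R
    have h1 : 1 ≤ FunFld.ell (Finsupp.single R 1 : FunFld.Divisor k K) := by
      have := ell_mono hK (single_one_nonneg R)
      rwa [ell_zero hK] at this
    have h3 := ell_mono hK (le_add_of_nonneg_right (single_one_nonneg R) :
      (Finsupp.single R 1 : FunFld.Divisor k K) ≤ Finsupp.single R 1 + Finsupp.single R 1)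
    rw [hPR R R] at h3
    omega
  obtain ⟨j, hjmax⟩ := exists_max_index P φ
  have hφ0 : ∀ i, φ i ≠ 0 := fun i => hφ.ne_zero i
  have hj0 := hφ0 j
  have hφL : ∀ i, φ i ∈ FunFld.L D := fun i => by
    rw [← hspan]
    exact Submodule.subset_span ⟨i, rfl⟩
  obtain ⟨E, hE⟩ : ∃ E : FunFld.Divisor k K, E = D + FunFld.div k (φ j) := ⟨_, rfl⟩
  have hLE : ∀ y, y ∈ FunFld.L E ↔ φ j * y ∈ FunFld.L D := fun y => by
    rw [hE, mul_mem_L_iff hK D hj0]
  have h1E : (1 : K) ∈ FunFld.L E := by
    rw [hLE, mul_one]
    exact hφL j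
  have hE0 : 0 ≤ E := by
    intro R
    have := (mem_L_iff _ _).1 h1E R
    rw [map_one, ← WithZero.exp_zero, WithZero.exp_le_exp] at this
    simpa using this
  have hEdeg : E.deg = 2 * (FunFld.genus k K : ℤ) - 2 := by
    rw [hE, deg_add, deg_div hK, add_zero, hCd]
  have hEell : FunFld.ell E = FunFld.genus k K := by
    rw [hE, ell_add_div hK D hj0, hCl]
  have hEcan : FunFld.IsCanonical k K E := canonical_of_ell_deg hK hEell hEdeg
  have hAP : ∀ a ∈ Algebra.adjoin k (Set.range fun i => φ i / φ j), P.1 a ≤ 1 := by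
    intro a ha
    induction ha using Algebra.adjoin_induction with
    | mem x hx =>
      obtain ⟨i, rfl⟩ := hx
      exact (val_div_le_one_iff P hj0).2 (hjmax i)
    | algebraMap c => exact P.2.1 c
    | add x y _ _ hx hy => exact Valuation.map_add_le _ hx hy
    | mul x y _ _ hx hy =>
      rw [map_mul]
      exact mul_le_one' hx hy
  have hLA : ∀ y ∈ FunFld.L E, y ∈ Algebra.adjoin k (Set.range fun i => φ i / φ j) := by
    intro y hy
    rw [hLE, ← hspan] at hy
    obtain ⟨c, hc⟩ := (Submodule.mem_span_range_iff_exists_fun k).1 hy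
    have hy' : y = ∑ i, c i • (φ i / φ j) := by
      rw [sum_smul_div, hc, mul_div_cancel_left₀ _ hj0]
    rw [hy']
    exact Subalgebra.sum_mem _ fun i _ => Subalgebra.smul_mem _
      (Algebra.subset_adjoin (show φ i / φ j ∈ Set.range fun i => φ i / φ j from ⟨i, rfl⟩)) _
  -- dimensions
  have hdegER : ∀ R : FunFld.Place k K,
      FunFld.Divisor.deg (E - Finsupp.single R 1) = 2 * (FunFld.genus k K : ℤ) - 3 := by
    intro R
    rw [deg_sub, deg_single, deg_eq_one hK, hEdeg]
    norm_num
    ring
  have hellER : ∀ R : FunFld.Place k K,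
      (FunFld.ell (E - Finsupp.single R 1) : ℤ) = (FunFld.genus k K : ℤ) - 1 := by
    intro R
    have h1 := riemann_roch hK hEcan (E - Finsupp.single R 1)
    rw [sub_sub_cancel, hdegER, hR1 R] at h1
    rw [h1]
    push_cast
    ring
  have hb1 : ∀ R : FunFld.Place k K, ∃ t ∈ FunFld.L E, t ∉ FunFld.L (E - Finsupp.single R 1) := by
    intro R
    apply exists_of_ell_lt hK
    have h1 := hellER R
    have h3 : (FunFld.ell (E - Finsupp.single R 1) : ℤ) < FunFld.ell E := by
      rw [h1, hEell]
      linarith
    exact_mod_cast h3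
  have hEP : E P = 0 := by
    obtain ⟨t, ht, htn⟩ := hb1 P
    have h1 := val_eq_of_mem_not_mem ht htn
    have h3 := hAP t (hLA t ht)
    rw [h1, ← WithZero.exp_zero, WithZero.exp_le_exp] at h3
    have h4 := hE0 P
    have h5 : (0 : ℤ) ≤ E P := by simpa using h4
    omega
  have hb2 : ∀ R : FunFld.Place k K, ∃ t ∈ FunFld.L (E - Finsupp.single P 1),
      t ∉ FunFld.L (E - Finsupp.single P 1 - Finsupp.single R 1) := by
    intro R
    apply exists_of_ell_lt hK
    have h1 := riemann_roch hK hEcan (E - Finsupp.single P 1 - Finsupp.single R 1)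
    have hsub : E - (E - Finsupp.single P 1 - Finsupp.single R 1) =
        Finsupp.single P 1 + Finsupp.single R 1 := by abel
    rw [hsub, hPR P R, deg_sub, hdegER, deg_single, deg_eq_one hK] at h1
    have h3 : (FunFld.ell (E - Finsupp.single P 1 - Finsupp.single R 1) : ℤ) <
        FunFld.ell (E - Finsupp.single P 1) := by
      rw [h1, hellER P]
      push_cast
      linarith
    exact_mod_cast h3
  obtain ⟨u, hu, w, hw, hw1, hzw⟩ := emb_gen hK E P hE0 hEP (by rw [hEdeg]; linarith) hb1 hb2 3
    (by rw [hEdeg]; push_cast; linarith) (by rw [hEdeg]; push_cast; linarith)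
    (Algebra.adjoin k (Set.range fun i => φ i / φ j)) hLA hAP z hz
  exact ⟨j, hj0, hjmax, u, hu, w, hw, hw1, hzw⟩

end Groth.Agent.S11057
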