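import Groth.Statements.S11064
import Mathlib
import Groth.Agent.Lib.lead.Loc
-- import your own Groth.Agent.* helpers here

set_option autoImplicit false
open FunFld

namespace Groth.Agent.S11064
open FunFld Groth.Agent.Lib.lead.FF Groth.Agent.Lib.lead.FF2 Groth.Agent.Lib.lead.FF3 Groth.Agent.Lib.lead.FF4 Groth.Agent.Lib.lead.FF5 Groth.Agent.Lib.lead.FF6 Groth.Agent.Lib.lead.FF7 Groth.Agent.Lib.lead.FF8 Groth.Agent.Lib.lead.FF9 Groth.Agent.Lib.lead.FF10 Groth.Agent.Lib.lead.FF11 Groth.Agent.Lib.lead.FF12 Groth.Agent.Lib.lead.FF13 Groth.Agent.Lib.lead.FF14 Groth.Agent.Lib.lead.FF15 Groth.Agent.Lib.lead.FF16 Groth.Agent.Lib.lead.FF17 Groth.Agent.Lib.lead.Loc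


/-- Over an algebraically closed constant field, a projective map `φ = (φ₀, …, φₙ)` that is nonsingular
at some place is birational, i.e. the ratios `φᵢ/φ₀` generate `K` over `k`. Here the local ring of a
projective map at a place consists of the quotients of polynomials over `k` in the ratios `φᵢ/φⱼ`,
`φⱼ` of least order at the place, with denominator a unit there; the map is nonsingular at the place
when this ring is the whole valuation ring. -/
theorem result
    (k K : Type*) [Field k] [IsAlgClosed k] [Field K] [Algebra k K]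
    (hK : FunFld.IsFunctionField k K) {n : ℕ} (φ : Fin (n + 1) → K)
    (h0 : φ 0 ≠ 0) (P : FunFld.Place k K) (h : FunFld.IsNonsingularAt φ P) :
    IntermediateField.adjoin k (Set.range fun i => φ i / φ 0) = ⊤ := by
  have hmem : ∀ z : K, P.1 z ≤ 1 →
      z ∈ IntermediateField.adjoin k (Set.range fun i => φ i / φ 0) := by
    intro z hz
    obtain ⟨j, hj0, hjmax, u, hu, w, hw, hw1, hzw⟩ := h z hz
    have hsub : Algebra.adjoin k (Set.range fun i => φ i / φ j) ≤
        (IntermediateField.adjoin k (Set.range fun i => φ i / φ 0)).toSubalgebra := by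
      apply Algebra.adjoin_le
      rintro _ ⟨i, rfl⟩
      show φ i / φ j ∈ IntermediateField.adjoin k (Set.range fun i => φ i / φ 0)
      have hi : φ i / φ 0 ∈ IntermediateField.adjoin k (Set.range fun i => φ i / φ 0) :=
        IntermediateField.subset_adjoin k _ ⟨i, rfl⟩
      have hj : φ j / φ 0 ∈ IntermediateField.adjoin k (Set.range fun i => φ i / φ 0) :=
        IntermediateField.subset_adjoin k _ ⟨j, rfl⟩
      rw [← div_div_div_cancel_right₀ h0 (φ i) (φ j)]
      exact div_mem hi hj
    have hu' : u ∈ IntermediateField.adjoin k (Set.range fun i => φ i / φ 0) := hsub hu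
    have hw' : w ∈ IntermediateField.adjoin k (Set.range fun i => φ i / φ 0) := hsub hw
    have hw0 : w ≠ 0 := by
      rintro rfl
      rw [map_zero] at hw1
      exact zero_ne_one hw1
    have hz' : z = u / w := by
      rw [← hzw, mul_div_assoc, div_self hw0, mul_one]
    rw [hz']
    exact div_mem hu' hw'
  rw [eq_top_iff]
  intro z _
  rcases Valuation.val_le_one_or_val_inv_le_one P.1 z with hz | hz
  · exact hmem z hz
  · have h1 := hmem z⁻¹ hz
    have h2 := inv_mem h1
    rwa [inv_inv] at h2

end Groth.Agent.S11064
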