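import Groth.Statements.S11066
import Mathlib
import Groth.Agent.Lib.lead.Loc
-- import your own Groth.Agent.* helpers here

set_option autoImplicit false
open FunFld

namespace Groth.Agent.S11066
open FunFld Groth.Agent.Lib.lead.FF Groth.Agent.Lib.lead.FF2 Groth.Agent.Lib.lead.FF3 Groth.Agent.Lib.lead.FF4 Groth.Agent.Lib.lead.FF5 Groth.Agent.Lib.lead.FF6 Groth.Agent.Lib.lead.FF7 Groth.Agent.Lib.lead.FF8 Groth.Agent.Lib.lead.FF9 Groth.Agent.Lib.lead.FF10 Groth.Agent.Lib.lead.FF11 Groth.Agent.Lib.lead.FF12 Groth.Agent.Lib.lead.FF13 Groth.Agent.Lib.lead.FF14 Groth.Agent.Lib.lead.FF15 Groth.Agent.Lib.lead.FF16 Groth.Agent.Lib.lead.FF17 Groth.Agent.Lib.lead.Loc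


/-- Over an algebraically closed constant field, for an effective projective map `φ` normalized at the
place `P` (`1` in the span of the entries, all entries integral at `P`), the local ring of `φ` at
`P` has an element of order one at `P` (a local parameter) exactly when the span of the entries has
one. The local ring consists of the quotients of polynomials over `k` in the ratios `φᵢ/φⱼ`, `φⱼ` of
least order at `P`, with denominator a unit at `P`. -/
theorem result
    (k K : Type*) [Field k] [IsAlgClosed k] [Field K] [Algebra k K]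
    (hK : FunFld.IsFunctionField k K) {n : ℕ} (φ : Fin (n + 1) → K)
    (P : FunFld.Place k K) (heff : (1 : K) ∈ Submodule.span k (Set.range φ))
    (hnorm : ∀ i, P.1 (φ i) ≤ 1) :
    (∃ t : K, FunFld.InLocRing φ P t ∧ P.1 t = WithZero.exp (-1)) ↔
      ∃ t ∈ Submodule.span k (Set.range φ), P.1 t = WithZero.exp (-1) := by
  constructor
  · rintro ⟨t, ⟨j, hj0, hjmax, u, hu, w, hw, hw1, htw⟩, ht⟩
    have hP1 := deg_eq_one hK P
    have hφj : P.1 (φ j) = 1 := max_val_eq_one P φ heff hnorm hjmax
    have hxP : ∀ i, P.1 (φ i / φ j) ≤ 1 := fun i => (val_div_le_one_iff P hj0).2 (hjmax i)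
    choose c hc using fun i => exists_const_sub_lt P hP1 (hxP i)
    have hPu : P.1 u = WithZero.exp (-1) := by rw [← htw, map_mul, hw1, mul_one, ht]
    by_cases hex : ∃ i, P.1 (φ i / φ j - algebraMap k K (c i)) = WithZero.exp (-1)
    · obtain ⟨i, hi⟩ := hex
      refine ⟨φ i - c i • φ j, ?_, ?_⟩
      · exact Submodule.sub_mem _ (Submodule.subset_span ⟨i, rfl⟩)
          (Submodule.smul_mem _ _ (Submodule.subset_span ⟨j, rfl⟩))
      · have hid : φ i - c i • φ j = φ j * (φ i / φ j - algebraMap k K (c i)) := by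
          rw [Algebra.smul_def, mul_sub, mul_div_cancel₀ _ hj0]
          ring
        rw [hid, map_mul, hφj, one_mul, hi]
    · exfalso
      push Not at hex
      have h2 : ∀ i, P.1 (φ i / φ j - algebraMap k K (c i)) ≤ WithZero.exp (-2) := by
        intro i
        by_cases h0 : φ i / φ j - algebraMap k K (c i) = 0
        · rw [h0, map_zero]; exact zero_le'
        · have h1 := (ord_pos_iff P h0).2 (hc i)
          have h3 : P.ord (φ i / φ j - algebraMap k K (c i)) ≠ 1 := by
            intro h1'
            apply hex i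
            rw [val_eq_exp P h0, h1']
          rw [val_le_exp_iff P h0]
          omega
      obtain ⟨b, hb⟩ := adjoin_mod_sq P _ c h2 hu
      have hb0 : b = 0 := by
        apply (val_lt_one_iff_const P (lt_of_le_of_lt hb hexp2)).1
        rw [hPu]; exact hexp1
      rw [hb0, map_zero, sub_zero, hPu, WithZero.exp_le_exp] at hb
      omega
  · rintro ⟨t, ht, htv⟩
    obtain ⟨j, hjmax⟩ := exists_max_index P φ
    have hφj : P.1 (φ j) = 1 := max_val_eq_one P φ heff hnorm hjmax
    have hj0 : φ j ≠ 0 := by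
      intro h
      rw [h, map_zero] at hφj
      exact zero_ne_one hφj
    obtain ⟨a, ha⟩ := (Submodule.mem_span_range_iff_exists_fun k).1 ht
    obtain ⟨d, hd⟩ := (Submodule.mem_span_range_iff_exists_fun k).1 heff
    have h1 : ∑ i, d i • (φ i / φ j) = 1 / φ j := by rw [sum_smul_div, hd]
    have h2 : ∑ i, a i • (φ i / φ j) = t / φ j := by rw [sum_smul_div, ha]
    refine ⟨t, ⟨j, hj0, hjmax, ∑ i, a i • (φ i / φ j), ?_, ∑ i, d i • (φ i / φ j), ?_, ?_, ?_⟩, htv⟩
    · exact Subalgebra.sum_mem _ (fun i _ => Subalgebra.smul_mem _ (Algebra.subset_adjoin (show φ i / φ j ∈ Set.range fun i => φ i / φ j from ⟨i, rfl⟩)) _)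
    · exact Subalgebra.sum_mem _ (fun i _ => Subalgebra.smul_mem _ (Algebra.subset_adjoin (show φ i / φ j ∈ Set.range fun i => φ i / φ j from ⟨i, rfl⟩)) _)
    · rw [h1, map_div₀, map_one, hφj, div_one]
    · rw [h1, h2, mul_one_div]

end Groth.Agent.S11066
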