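import Groth.Statements.S11075
import Mathlib
import Groth.Agent.Lib.lead.Loc
-- import your own Groth.Agent.* helpers here

set_option autoImplicit false
open FunFld

namespace Groth.Agent.S11075
open FunFld Groth.Agent.Lib.lead.FF Groth.Agent.Lib.lead.FF2 Groth.Agent.Lib.lead.FF3 Groth.Agent.Lib.lead.FF4 Groth.Agent.Lib.lead.FF5 Groth.Agent.Lib.lead.FF6 Groth.Agent.Lib.lead.FF7 Groth.Agent.Lib.lead.FF8 Groth.Agent.Lib.lead.FF9 Groth.Agent.Lib.lead.FF10 Groth.Agent.Lib.lead.FF11 Groth.Agent.Lib.lead.FF12 Groth.Agent.Lib.lead.FF13 Groth.Agent.Lib.lead.FF14 Groth.Agent.Lib.lead.FF15 Groth.Agent.Lib.lead.FF16 Groth.Agent.Lib.lead.FF17 Groth.Agent.Lib.lead.Loc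


/-- Over an algebraically closed constant field, let `φ = (φ₀, …, φₙ)`, `n ≥ 1`, be a projective map
onto the curve `V`. (a) A homogeneous `g` not vanishing identically on `V` vanishes at the image
point of only finitely many places (so a closed set not containing `V` meets `V` in a finite set);
(b) each fibre of `φ` is finite. Here `g` vanishes at `φ(P)` when `g(φ₀/φⱼ, …, φₙ/φⱼ)` lies in the
maximal ideal of `P` for an entry `φⱼ` of least order at `P`. Two places have the same image point
when some entry `φⱼ` has least order at both and each `φᵢ/φⱼ` is congruent to one constant modulo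
both maximal ideals. -/
theorem result (k K : Type*) [Field k] [IsAlgClosed k] [Field K] [Algebra k K]
    (hK : FunFld.IsFunctionField k K) {n : ℕ} (hn : 1 ≤ n)
    (φ : Fin (n + 1) → K) (hφ : LinearIndependent k φ) :
    (∀ g : MvPolynomial (Fin (n + 1)) k, g.IsHomogeneous g.totalDegree →
      MvPolynomial.aeval φ g ≠ 0 →
        {P : FunFld.Place k K | ∃ j, φ j ≠ 0 ∧ (∀ i, P.1 (φ i) ≤ P.1 (φ j)) ∧
          P.1 (MvPolynomial.aeval (fun i => φ i / φ j) g) < 1}.Finite) ∧
    ∀ P : FunFld.Place k K, {Q : FunFld.Place k K | FunFld.SameImage φ P Q}.Finite := by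
  have hφ0 : ∀ i, φ i ≠ 0 := fun i => hφ.ne_zero i
  refine ⟨?_, ?_⟩
  · intro g hg hne
    refine Set.Finite.subset ((Set.finite_iUnion fun i => finite_support_ord hK (φ i)).union
      (finite_support_ord hK (MvPolynomial.aeval φ g))) ?_
    rintro P ⟨j, hj0, hjmax, hlt⟩
    by_contra hnot
    rw [Set.mem_union, Set.mem_iUnion, not_or, not_exists] at hnot
    obtain ⟨h1, h2⟩ := hnot
    have hord : ∀ i, P.ord (φ i) = 0 := fun i => by
      have := h1 i
      rwa [Function.mem_support, not_not] at this
    have hordg : P.ord (MvPolynomial.aeval φ g) = 0 := by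
      rwa [Function.mem_support, not_not] at h2
    have hval : ∀ x : K, x ≠ 0 → P.ord x = 0 → P.1 x = 1 := fun x hx h0 => by
      rw [val_eq_exp P hx, h0, neg_zero, WithZero.exp_zero]
    have hfun : (fun i => φ i / φ j) = fun i => (φ j)⁻¹ * φ i := by
      funext i
      rw [div_eq_inv_mul]
    rw [hfun, aeval_scale g hg, map_mul, map_pow, map_inv₀, hval _ hj0 (hord j),
      hval _ hne hordg, inv_one, one_pow, one_mul] at hlt
    exact lt_irrefl _ hlt
  · intro P
    have hother : ∀ j : Fin (n + 1), ∃ i, i ≠ j := by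
      intro j
      by_cases h : j = 0
      · refine ⟨Fin.last n, ?_⟩
        rw [h]
        intro h'
        have := congrArg Fin.val h'
        rw [Fin.val_last, Fin.val_zero] at this
        omega
      · exact ⟨0, fun h' => h h'.symm⟩
    choose ι hι using hother
    have hS : ∀ j, {Q : FunFld.Place k K | ∃ c : k,
        P.1 (φ (ι j) / φ j - algebraMap k K c) < 1 ∧
          Q.1 (φ (ι j) / φ j - algebraMap k K c) < 1}.Finite := by
      intro j
      by_cases hex : ∃ c₀ : k, P.1 (φ (ι j) / φ j - algebraMap k K c₀) < 1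
      · obtain ⟨c₀, hc₀⟩ := hex
        have hne : φ (ι j) / φ j - algebraMap k K c₀ ≠ 0 := by
          intro h0
          have h1 : φ (ι j) = c₀ • φ j := by
            rw [sub_eq_zero, div_eq_iff (hφ0 j)] at h0
            rw [h0, Algebra.smul_def]
          have h2 := hφ.notMem_span_image (s := {j}) (x := ι j) (by simpa using hι j)
          apply h2
          rw [Set.image_singleton, h1]
          exact Submodule.smul_mem _ _ (Submodule.subset_span rfl)
        refine Set.Finite.subset (finite_support_ord hK (φ (ι j) / φ j - algebraMap k K c₀)) ?_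
        rintro Q ⟨c, hcP, hcQ⟩
        have hcc : c = c₀ := const_unique P hcP hc₀
        rw [hcc] at hcQ
        rw [Function.mem_support]
        have := (ord_pos_iff Q hne).2 hcQ
        omega
      · refine Set.Finite.subset Set.finite_empty ?_
        rintro Q ⟨c, hcP, -⟩
        exact (hex ⟨c, hcP⟩).elim
    refine Set.Finite.subset (Set.finite_iUnion hS) ?_
    rintro Q ⟨j, hj0, hPj, hQj, hc⟩
    exact Set.mem_iUnion.2 ⟨j, hc (ι j)⟩

end Groth.Agent.S11075
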