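import Groth.Statements.S11078
import Mathlib
import Groth.Agent.Lib.lead.Loc
-- import your own Groth.Agent.* helpers here

set_option autoImplicit false
open FunFld

namespace Groth.Agent.S11078
open FunFld Groth.Agent.Lib.lead.FF Groth.Agent.Lib.lead.FF2 Groth.Agent.Lib.lead.FF3 Groth.Agent.Lib.lead.FF4 Groth.Agent.Lib.lead.FF5 Groth.Agent.Lib.lead.FF6 Groth.Agent.Lib.lead.FF7 Groth.Agent.Lib.lead.FF8 Groth.Agent.Lib.lead.FF9 Groth.Agent.Lib.lead.FF10 Groth.Agent.Lib.lead.FF11 Groth.Agent.Lib.lead.FF12 Groth.Agent.Lib.lead.FF13 Groth.Agent.Lib.lead.FF14 Groth.Agent.Lib.lead.FF15 Groth.Agent.Lib.lead.FF16 Groth.Agent.Lib.lead.FF17 Groth.Agent.Lib.lead.Loc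


/-- Over an algebraically closed constant field, for a projective map `φ = (φ₀, …, φₙ)`, `n ≥ 1`, and a
point `a = φ(P)` with local ring `O_a`, the fibre `φ⁻¹(a)` consists of the places `Q` with `O_a ⊆
O_Q` and `m_Q ∩ O_a` equal to the maximal ideal of `O_a` (which is `m_P ∩ O_a`). Here `O_a` consists
of the quotients of polynomials over `k` in the ratios `φᵢ/φⱼ`, `φⱼ` of least order at `P`, with
denominator a unit at `P`; and `Q` has the same image point as `P` when some entry has least order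
at both places and the ratios are congruent to common constants modulo both maximal ideals. -/
theorem result
    (k K : Type*) [Field k] [IsAlgClosed k] [Field K] [Algebra k K]
    (hK : FunFld.IsFunctionField k K) {n : ℕ} (hn : 1 ≤ n) (φ : Fin (n + 1) → K)
    (hφ : LinearIndependent k φ) (P Q : FunFld.Place k K) :
    FunFld.SameImage φ P Q ↔
      ∀ z : K, FunFld.InLocRing φ P z → (Q.1 z ≤ 1 ∧ (Q.1 z < 1 ↔ P.1 z < 1)) := by
  constructor
  · rintro ⟨j, hj0, hPj, hQj, hc⟩ z ⟨j', hj'0, hPj', u, hu, w, hw, hw1, hzw⟩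
    choose c hcP hcQ using hc
    have hjj' : P.1 (φ j' / φ j) = 1 := by
      rw [map_div₀, le_antisymm (hPj j') (hPj' j)]
      exact div_self (val_ne_zero P hj0)
    have hcj' : c j' ≠ 0 := by
      intro h0
      have := (val_lt_one_iff_const P (hcP j')).2 h0
      rw [hjj'] at this
      exact lt_irrefl _ this
    have hres : ∀ i, P.1 (φ i / φ j' - algebraMap k K (c i / c j')) < 1 ∧
        Q.1 (φ i / φ j' - algebraMap k K (c i / c j')) < 1 := by
      intro i
      rw [← div_div_div_cancel_right₀ hj0 (φ i) (φ j')]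
      exact ⟨div_sub_const P hcj' (hcP i) (hcP j'), div_sub_const Q hcj' (hcQ i) (hcQ j')⟩
    obtain ⟨bu, hbuP, hbuQ⟩ := adjoin_residue P Q (fun i => φ i / φ j') (fun i => c i / c j')
      (fun i => (hres i).1) (fun i => (hres i).2) hu
    obtain ⟨bw, hbwP, hbwQ⟩ := adjoin_residue P Q (fun i => φ i / φ j') (fun i => c i / c j')
      (fun i => (hres i).1) (fun i => (hres i).2) hw
    have hbw0 : bw ≠ 0 := by
      intro h0
      have := (val_lt_one_iff_const P hbwP).2 h0
      rw [hw1] at this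
      exact lt_irrefl _ this
    have hQw : Q.1 w = 1 := val_eq_one_of_const_ne Q hbwQ hbw0
    have hQz : Q.1 z = Q.1 u := by rw [← hzw, map_mul, hQw, mul_one]
    have hPz : P.1 z = P.1 u := by rw [← hzw, map_mul, hw1, mul_one]
    refine ⟨?_, ?_⟩
    · rw [hQz]
      exact val_le_one_of_sub_const Q hbuQ
    · rw [hQz, hPz, val_lt_one_iff_const Q hbuQ, val_lt_one_iff_const P hbuP]
  · intro H
    have hne : ∀ i, φ i ≠ 0 := fun i => hφ.ne_zero i
    obtain ⟨j, hj⟩ := exists_max_index P φ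
    have hj0 := hne j
    have hP1 : P.deg = 1 := deg_eq_one hK P
    have hxP : ∀ i, P.1 (φ i / φ j) ≤ 1 := fun i => (val_div_le_one_iff P hj0).2 (hj i)
    have hin : ∀ u ∈ Algebra.adjoin k (Set.range fun i => φ i / φ j), FunFld.InLocRing φ P u :=
      fun u hu => ⟨j, hj0, hj, u, hu, 1, Subalgebra.one_mem _, map_one _, mul_one u⟩
    have hQmax : ∀ i, Q.1 (φ i) ≤ Q.1 (φ j) := by
      intro i
      have h1 := (H _ (hin _ (Algebra.subset_adjoin ⟨i, rfl⟩))).1
      exact (val_div_le_one_iff Q hj0).1 h1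
    refine ⟨j, hj0, hj, hQmax, fun i => ?_⟩
    obtain ⟨b, hb⟩ := exists_const_sub_lt P hP1 (hxP i)
    refine ⟨b, hb, ?_⟩
    have hmem : φ i / φ j - algebraMap k K b ∈ Algebra.adjoin k (Set.range fun i => φ i / φ j) :=
      Subalgebra.sub_mem _ (Algebra.subset_adjoin ⟨i, rfl⟩) (Subalgebra.algebraMap_mem _ b)
    exact (H _ (hin _ hmem)).2.2 hb

end Groth.Agent.S11078
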