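import Groth.Statements.S11076
import Mathlib
import Groth.Agent.Lib.lead.NS2
import Groth.Agent.S11078
import Groth.Agent.S11075
-- import your own Groth.Agent.* helpers here

set_option autoImplicit false
open FunFld

namespace Groth.Agent.S11076
open FunFld Groth.Agent.Lib.lead.FF Groth.Agent.Lib.lead.FF2 Groth.Agent.Lib.lead.FF3 Groth.Agent.Lib.lead.FF4 Groth.Agent.Lib.lead.FF5 Groth.Agent.Lib.lead.FF6 Groth.Agent.Lib.lead.FF7 Groth.Agent.Lib.lead.FF8 Groth.Agent.Lib.lead.FF9 Groth.Agent.Lib.lead.FF10 Groth.Agent.Lib.lead.FF11 Groth.Agent.Lib.lead.FF12 Groth.Agent.Lib.lead.FF13 Groth.Agent.Lib.lead.FF14 Groth.Agent.Lib.lead.FF15 Groth.Agent.Lib.lead.FF16 Groth.Agent.Lib.lead.FF17 Groth.Agent.Lib.lead.Loc Groth.Agent.Lib.lead.Emb Groth.Agent.Lib.lead.Emb2 Groth.Agent.Lib.lead.NS Groth.Agent.Lib.lead.NS2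


/-- Over an algebraically closed constant field, a projective curve (given by a birational projective
map `φ = (φ₀, …, φₙ)`, `n ≥ 1`) is nonsingular at the point `a = φ(P)` if and only if some
hyperplane `∑ cᵢ Xᵢ` has intersection multiplicity `1` with it at `a`: the sum over the places `Q`
of the fibre of `a` of `[φ](Q) + ord_Q(∑ cᵢ φᵢ)` is `1`. Nonsingular at `P` means that the local
ring of `φ` at `P` (quotients of polynomials over `k` in the `φᵢ/φⱼ`, `φⱼ` of least order at `P`,
denominator a unit at `P`) is the whole valuation ring. Two places have the same image point when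
some entry `φⱼ` has least order at both and each `φᵢ/φⱼ` is congruent to one constant modulo both
maximal ideals. -/
theorem result (k K : Type*) [Field k] [IsAlgClosed k] [Field K] [Algebra k K]
    (hK : FunFld.IsFunctionField k K) {n : ℕ} (hn : 1 ≤ n)
    (φ : Fin (n + 1) → K) (hφ : LinearIndependent k φ)
    (hbir : IntermediateField.adjoin k (Set.range fun i => φ i / φ 0) = ⊤)
    (P : FunFld.Place k K) :
    FunFld.IsNonsingularAt φ P ↔ ∃ c : Fin (n + 1) → k, ∑ i, c i • φ i ≠ 0 ∧
      ∑ᶠ Q ∈ {Q : FunFld.Place k K | FunFld.SameImage φ P Q},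
        ((FunFld.mapDiv k φ) Q + Q.ord (∑ i, c i • φ i)) = 1 := by
  classical
  have hφ0 : ∀ i, φ i ≠ 0 := fun i => hφ.ne_zero i
  obtain ⟨M, hM⟩ : ∃ M : Divisor k K, M = mapDiv k φ := ⟨_, rfl⟩
  rw [← hM]
  have hVM : Submodule.span k (Set.range φ) ≤ L M := by
    rw [hM]
    exact span_le_L_mapDiv hK φ hφ0
  have hself : SameImage φ P P := by
    obtain ⟨j, hjmax⟩ := exists_max_index P φ
    have hj0 := hφ0 j
    refine ⟨j, hj0, hjmax, hjmax, fun i => ?_⟩
    obtain ⟨c, hc⟩ := exists_const_sub_lt P (deg_eq_one hK P)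
      ((val_div_le_one_iff P hj0).2 (hjmax i))
    exact ⟨c, hc, hc⟩
  constructor
  · intro hns
    obtain ⟨H1, H2⟩ := loc_of_nonsing P φ hns
    have hfib : {Q : Place k K | SameImage φ P Q} = {P} := by
      ext Q
      rw [Set.mem_setOf_eq, Set.mem_singleton_iff]
      constructor
      · intro hQ
        by_contra hne
        obtain ⟨z, hz, hz1⟩ := H1 Q hne
        exact absurd (((Groth.Agent.S11078.result k K hK hn φ hφ P Q).1 hQ) z hz).1 (not_le.2 hz1)
      · intro hQP
        rw [hQP]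
        exact hself
    obtain ⟨t, htV, ht1, ht2⟩ := sep_of_loc hK φ hφ P H1 H2 P
    rw [← hM] at ht1 ht2
    obtain ⟨c, hc⟩ := (Submodule.mem_span_range_iff_exists_fun k).1 htV
    have ht0 : t ≠ 0 := by
      rintro rfl
      exact ht2 (Submodule.zero_mem _)
    refine ⟨c, ?_, ?_⟩
    · rw [hc]
      exact ht0
    · rw [hfib, finsum_mem_singleton, hc]
      have hv := val_eq_of_mem_not_mem ht1 ht2
      rw [val_eq_exp P ht0, WithZero.exp_inj, Finsupp.sub_apply, Finsupp.single_eq_same] at hv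
      omega
  · rintro ⟨c, hh0, hsum⟩
    obtain ⟨h, hh⟩ : ∃ h : K, h = ∑ i, c i • φ i := ⟨_, rfl⟩
    rw [← hh] at hh0 hsum
    have hhV : h ∈ Submodule.span k (Set.range φ) := by
      rw [hh]
      exact Submodule.sum_mem _ fun i _ => Submodule.smul_mem _ _ (Submodule.subset_span ⟨i, rfl⟩)
    have hhL : h ∈ L M := hVM hhV
    have hf0 : ∀ Q : Place k K, 0 ≤ M Q + Q.ord h := by
      intro Q
      have := (val_le_exp_iff Q hh0 (M Q)).1 ((mem_L_iff _ _).1 hhL Q)
      linarith
    have hmem : ∀ j, φ j ≠ 0 → h / φ j ∈ Algebra.adjoin k (Set.range fun i => φ i / φ j) := by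
      intro j hj0
      have he : h / φ j = ∑ i, c i • (φ i / φ j) := by
        rw [hh, Finset.sum_div]
        exact Finset.sum_congr rfl fun i _ => smul_div_assoc _ _ _
      rw [he]
      exact Subalgebra.sum_mem _ fun i _ => Subalgebra.smul_mem _
        (Algebra.subset_adjoin (show φ i / φ j ∈ Set.range (fun i => φ i / φ j) from ⟨i, rfl⟩)) _
    have hratio : ∀ (R : Place k K) {j : Fin (n + 1)}, φ j ≠ 0 → (∀ i, R.1 (φ i) ≤ R.1 (φ j)) →
        (R.1 (h / φ j) < 1 ↔ 1 ≤ M R + R.ord h) := by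
      intro R j hj0 hjmax
      have h1 : R.1 (h / φ j) = WithZero.exp (-(M R + R.ord h)) := by
        rw [map_div₀, val_max_eq_mapDiv hK φ hφ0 R hjmax, ← hM, val_eq_exp R hh0,
          ← WithZero.exp_sub]
        congr 1
        ring
      rw [h1, ← WithZero.exp_zero, WithZero.exp_lt_exp]
      constructor <;> intro hx <;> omega
    have claimA : ∀ Q, SameImage φ P Q → (1 ≤ M P + P.ord h ↔ 1 ≤ M Q + Q.ord h) := by
      rintro Q ⟨j, hj0, hPj, hQj, hc'⟩
      choose c' hcP hcQ using hc'
      obtain ⟨b, hbP, hbQ⟩ := adjoin_residue P Q (fun i => φ i / φ j) c' hcP hcQ (hmem j hj0)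
      rw [← hratio P hj0 hPj, ← hratio Q hj0 hQj, val_lt_one_iff_const P hbP,
        val_lt_one_iff_const Q hbQ]
    have hfin : {Q : Place k K | SameImage φ P Q}.Finite :=
      (Groth.Agent.S11075.result k K hK hn φ hφ).2 P
    rw [finsum_mem_eq_finite_toFinset_sum _ hfin] at hsum
    have hPs : P ∈ hfin.toFinset := (Set.Finite.mem_toFinset hfin).2 hself
    have hfP : 1 ≤ M P + P.ord h := by
      by_contra hlt
      have hall : ∀ Q ∈ hfin.toFinset, M Q + Q.ord h = 0 := by
        intro Q hQ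
        have hQ' : SameImage φ P Q := (Set.Finite.mem_toFinset hfin).1 hQ
        have h1 := hf0 Q
        have h2 : ¬ 1 ≤ M Q + Q.ord h := fun h3 => hlt ((claimA Q hQ').2 h3)
        omega
      rw [Finset.sum_eq_zero hall] at hsum
      exact zero_ne_one hsum
    have hsplit : (M P + P.ord h) + ∑ Q ∈ hfin.toFinset.erase P, (M Q + Q.ord h) =
        ∑ Q ∈ hfin.toFinset, (M Q + Q.ord h) :=
      Finset.add_sum_erase hfin.toFinset (fun Q : Place k K => M Q + Q.ord h) hPs
    have hrest0 : 0 ≤ ∑ Q ∈ hfin.toFinset.erase P, (M Q + Q.ord h) :=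
      Finset.sum_nonneg fun Q _ => hf0 Q
    have hfibre : ∀ Q, SameImage φ P Q → Q = P := by
      intro Q hQ
      by_contra hne
      have hQe : Q ∈ hfin.toFinset.erase P :=
        Finset.mem_erase.2 ⟨hne, (Set.Finite.mem_toFinset hfin).2 hQ⟩
      have h1 : 1 ≤ M Q + Q.ord h := (claimA Q hQ).1 hfP
      have h2 : M Q + Q.ord h ≤ ∑ Q ∈ hfin.toFinset.erase P, (M Q + Q.ord h) :=
        Finset.single_le_sum (f := fun Q : Place k K => M Q + Q.ord h)
          (fun Q _ => hf0 Q) hQe
      omega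
    have hfP1 : M P + P.ord h = 1 := by
      omega
    -- H2
    have H2 : ∃ t : K, InLocRing φ P t ∧ P.1 t = WithZero.exp (-1) := by
      obtain ⟨j, hjmax⟩ := exists_max_index P φ
      have hj0 := hφ0 j
      refine ⟨h / φ j, ⟨j, hj0, hjmax, h / φ j, hmem j hj0, 1, Subalgebra.one_mem _, map_one _,
        mul_one _⟩, ?_⟩
      rw [map_div₀, val_max_eq_mapDiv hK φ hφ0 P hjmax, ← hM, val_eq_exp P hh0, ← WithZero.exp_sub,
        WithZero.exp_inj]
      omega
    have H1 : ∀ Q : Place k K, Q ≠ P → ∃ z : K, InLocRing φ P z ∧ 1 < Q.1 z := by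
      intro Q hne
      by_contra hcon
      push Not at hcon
      have key : ∀ z, InLocRing φ P z → Q.1 z < 1 → P.1 z < 1 := by
        intro z hz hQz
        by_contra hPz
        have hP1 : P.1 z = 1 := le_antisymm (inLoc_val_le_one hz) (not_lt.1 hPz)
        have hz0 : z ≠ 0 := by
          rintro rfl
          rw [map_zero] at hP1
          exact zero_ne_one hP1
        have h1 := hcon z⁻¹ (inLoc_inv hz hP1)
        rw [map_inv₀] at h1
        have h2 : 1 < (Q.1 z)⁻¹ := (one_lt_inv₀ (zero_lt_iff.2 (val_ne_zero Q hz0))).2 hQz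
        exact absurd h1 (not_le.2 h2)
      apply hne
      apply hfibre
      rw [Groth.Agent.S11078.result k K hK hn φ hφ P Q]
      intro z hz
      refine ⟨hcon z hz, key z hz, ?_⟩
      intro hPz
      by_contra hQz
      obtain ⟨c0, hc0⟩ := exists_const_sub_lt Q (deg_eq_one hK Q) (hcon z hz)
      have hc00 : c0 ≠ 0 := fun h0 => hQz ((val_lt_one_iff_const Q hc0).2 h0)
      have hz' := inLoc_sub_const hz c0
      have hP1 : P.1 (z - algebraMap k K c0) = 1 := by
        apply val_eq_one_of_const_ne P (b := -c0) _ (neg_ne_zero.2 hc00)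
        rw [map_neg, sub_neg_eq_add, sub_add_cancel]
        exact hPz
      have := key _ hz' hc0
      rw [hP1] at this
      exact lt_irrefl _ this
    exact nonsing_of_sep hK hn φ hφ P (fun Q => sep_of_loc hK φ hφ P H1 H2 Q)

end Groth.Agent.S11076
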