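import Groth.Statements.S11091
import Mathlib
import Groth.Agent.Lib.helper1.HenselPair

set_option autoImplicit false
universe u
attribute [local instance] FractionRing.liftAlgebra
open CAlg

namespace Groth.Agent.S11091

open Polynomial


/-- Let A be a complete discrete valuation ring and B a Dedekind domain which is a finite torsion-free
A-algebra whose fraction field is separable over that of A (the integral closure of A in a finite
separable extension E of the fraction field F). Then B has exactly one maximal ideal; equivalently,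
since the discrete valuations of E extending a multiple of the valuation of F correspond to the
nonzero primes of B, the valuation of F extends uniquely to E, and B is a complete discrete
valuation ring. -/
theorem result (A B : Type u) [CommRing A] [IsDomain A] [IsDiscreteValuationRing A]
    [IsAdicComplete (IsLocalRing.maximalIdeal A) A]
    [CommRing B] [IsDedekindDomain B] [Algebra A B] [Module.Finite A B] [Module.IsTorsionFree A B]
    [Algebra.IsSeparable (FractionRing A) (FractionRing B)] :
    ∃! M : Ideal B, M.IsMaximal := by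
  classical
  set m := IsLocalRing.maximalIdeal A with hm
  haveI : HenselianRing A m := inferInstance
  have hG : Helper1.GabberCond m := Helper1.gabberCond_of_henselianRing m
  letI : Field (A ⧸ m) := Ideal.Quotient.field m
  obtain ⟨M₀, hM₀⟩ := Ideal.exists_maximal B
  refine ⟨M₀, hM₀, ?_⟩
  intro M₁ hM₁
  by_contra hne
  -- both contain m
  have hcontain : ∀ M : Ideal B, M.IsMaximal → m ≤ M.comap (algebraMap A B) := by
    intro M hM
    haveI := hM
    have h1 : (M.comap (algebraMap A B)).IsMaximal :=
      Ideal.isMaximal_comap_of_isIntegral_of_isMaximal M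
    rw [IsLocalRing.eq_maximalIdeal h1]
  have hsup : M₁ ⊔ M₀ = ⊤ := Ideal.IsMaximal.coprime_of_ne hM₁ hM₀ hne
  obtain ⟨b, hb, c, hc, hbc⟩ := Submodule.mem_sup.mp ((Ideal.eq_top_iff_one _).mp hsup)
  have hbint : IsIntegral A b := Algebra.IsIntegral.isIntegral b
  set f := minpoly A b with hf
  have hfm : f.Monic := minpoly.monic hbint
  have hfb : aeval b f = 0 := minpoly.aeval A b
  set fb : (A ⧸ m)[X] := f.map (Ideal.Quotient.mk m) with hfbdef
  have hfbm : fb.Monic := hfm.map _
  have hfb0 : fb ≠ 0 := hfbm.ne_zero
  -- evaluation identity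
  have heval : ∀ (M : Ideal B) (hM : M.IsMaximal),
      fb.eval₂ (Ideal.quotientMap M (algebraMap A B) (hcontain M hM)) (Ideal.Quotient.mk M b) = 0 := by
    intro M hM
    rw [hfbdef, Polynomial.eval₂_map]
    have hcomp : (Ideal.quotientMap M (algebraMap A B) (hcontain M hM)).comp (Ideal.Quotient.mk m) =
        (Ideal.Quotient.mk M).comp (algebraMap A B) := by
      ext a
      simp
    rw [hcomp, ← Polynomial.hom_eval₂]
    have : f.eval₂ (algebraMap A B) b = 0 := hfb
    rw [this, map_zero]
  -- factor out the power of X
  obtain ⟨h₀, hfac, hndvd⟩ := Polynomial.exists_eq_pow_rootMultiplicity_mul_and_not_dvd fb hfb0 0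
  rw [C_0, sub_zero] at hfac hndvd
  set a := fb.rootMultiplicity 0 with ha
  have hh₀m : h₀.Monic := (monic_X_pow a).of_mul_monic_left (hfac ▸ hfbm)
  have hcop : IsCoprime (X ^ a : (A ⧸ m)[X]) h₀ :=
    IsCoprime.pow_left ((irreducible_X).coprime_iff_not_dvd.mpr hndvd)
  obtain ⟨g, h, hgm, hhm, hfgh, hgmap, hhmap⟩ :=
    Helper1.monic_factor_lift_of_gabber m hG f hfm (X ^ a) h₀ (monic_X_pow a) hh₀m hcop hfac
  -- B is a domain: one of the factors kills b
  have hprod : aeval b g * aeval b h = 0 := by rw [← map_mul, ← hfgh]; exact hfb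
  have hdeg : f.natDegree = g.natDegree + h.natDegree := by
    rw [hfgh]; exact hgm.natDegree_mul hhm
  rcases mul_eq_zero.mp hprod with hg0 | hh0
  · -- g kills b, so h = 1, so fb = X ^ a
    have h1 : f.natDegree ≤ g.natDegree :=
      natDegree_le_natDegree (minpoly.min A b hgm hg0)
    have hh1 : h = 1 := (Polynomial.Monic.natDegree_eq_zero hhm).mp (by omega)
    have hh₀1 : h₀ = 1 := by rw [← hhmap, hh1, Polynomial.map_one]
    have e := heval M₀ hM₀
    rw [hfac, hh₀1, mul_one, eval₂_X_pow] at e
    have hb1 : Ideal.Quotient.mk M₀ b = 1 := by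
      have : b = 1 - c := by rw [← hbc]; ring
      rw [this, map_sub, map_one, Ideal.Quotient.eq_zero_iff_mem.mpr hc, sub_zero]
    rw [hb1, one_pow] at e
    haveI : Nontrivial (B ⧸ M₀) := Ideal.Quotient.nontrivial_iff.mpr hM₀.ne_top
    exact one_ne_zero e
  · -- h kills b, so g = 1, so a = 0; but 0 is a root of fb
    have h1 : f.natDegree ≤ h.natDegree :=
      natDegree_le_natDegree (minpoly.min A b hhm hh0)
    have hg1 : g = 1 := (Polynomial.Monic.natDegree_eq_zero hgm).mp (by omega)
    have ha0 : a = 0 := by
      have h2 : (X ^ a : (A ⧸ m)[X]) = 1 := by rw [← hgmap, hg1, Polynomial.map_one]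
      have h3 := congrArg Polynomial.natDegree h2
      rwa [natDegree_X_pow, natDegree_one] at h3
    have hroot : fb.IsRoot 0 := by
      have e := heval M₁ hM₁
      rw [Ideal.Quotient.eq_zero_iff_mem.mpr hb] at e
      haveI : Nontrivial (B ⧸ M₁) := Ideal.Quotient.nontrivial_iff.mpr hM₁.ne_top
      have hinjχ : Function.Injective (Ideal.quotientMap M₁ (algebraMap A B) (hcontain M₁ hM₁)) :=
        RingHom.injective _
      apply hinjχ
      rw [map_zero, ← e]
      show (Ideal.quotientMap M₁ (algebraMap A B) (hcontain M₁ hM₁)) (eval 0 fb) = _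
      rw [← Polynomial.eval₂_hom, map_zero]
    have hpos := (Polynomial.rootMultiplicity_pos hfb0).mpr hroot
    rw [← ha, ha0] at hpos
    exact lt_irrefl 0 hpos

end Groth.Agent.S11091
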