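import Groth.Statements.S11142
import Mathlib

set_option autoImplicit false
set_option linter.style.haveILetI false
universe u
open CategoryTheory AlgebraicGeometry
open FlatMor

namespace Groth.Agent.S11142

/-- For a flat morphism f : X → Y between locally Noetherian schemes, the preimage under f of any dense
open subset of Y is dense in X. -/
theorem result (X Y : Scheme.{u}) [IsLocallyNoetherian X]
    [IsLocallyNoetherian Y] (f : X ⟶ Y) [Flat f] (U : Y.Opens) (hU : Dense (U : Set Y)) :
    Dense ((f ⁻¹ᵁ U : X.Opens) : Set X) := by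
  intro x
  obtain ⟨_, ⟨W, hW, rfl⟩, hyW, -⟩ := Y.isBasis_affineOpens.exists_subset_of_mem_open
    (Set.mem_univ (f x)) isOpen_univ
  haveI : IsNoetherianRing Γ(Y, W) := IsLocallyNoetherian.component_noetherian ⟨W, hW⟩
  let y' : W := ⟨f x, hyW⟩
  have hZ := irreducibleComponent_mem_irreducibleComponents y'
  obtain ⟨o, ho, hone, hoZ⟩ :=
    @TopologicalSpace.NoetherianSpace.exists_isOpen_nonempty_subset_irreducibleComponent W _
      (noetherianSpace_of_isAffineOpen W hW) _ hZ
  have hU' : Dense ((Subtype.val : W → Y) ⁻¹' (U : Set Y)) :=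
    hU.preimage W.2.isOpenMap_subtype_val
  obtain ⟨z, hzo, hzU⟩ := hU'.inter_open_nonempty o ho hone
  have hirr : IsIrreducible (irreducibleComponent y') := isIrreducible_irreducibleComponent
  have hcl : IsClosed (irreducibleComponent y') := isClosed_irreducibleComponent
  obtain ⟨η, hgen⟩ : ∃ η : W, IsGenericPoint η (irreducibleComponent y') :=
    @QuasiSober.sober W _ (inferInstanceAs (QuasiSober (W : Scheme.{u}))) _ hirr hcl
  have hηU : η ∈ (Subtype.val : W → Y) ⁻¹' (U : Set Y) :=
    (hgen.mem_open_set_iff (U.2.preimage continuous_subtype_val)).2 ⟨z, hoZ hzo, hzU⟩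
  have hspec : η ⤳ y' := hgen.specializes mem_irreducibleComponent
  have hspecY : (η : Y) ⤳ f x := hspec.map continuous_subtype_val
  obtain ⟨x', hx', hfx'⟩ := (Flat.generalizingMap f) hspecY
  have hx'U : x' ∈ ((f ⁻¹ᵁ U : X.Opens) : Set X) := by
    show f x' ∈ U
    rw [hfx']
    exact hηU
  exact closure_mono (Set.singleton_subset_iff.mpr hx'U) (specializes_iff_mem_closure.mp hx')

end Groth.Agent.S11142
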