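import Groth.Statements.S11223
import Mathlib

set_option autoImplicit false
universe u
open CAlg

namespace Groth.Agent.S11223


attribute [local instance] MvPolynomial.gradedAlgebra

theorem key {k : Type*} [Field k] {n : ℕ} (R : Subalgebra k (MvPolynomial (Fin n) k))
    (N : ℕ) {m : ℕ} (z : Fin m → MvPolynomial (Fin n) k) (d : Fin m → ℕ)
    (hd : ∀ i, 0 < d i) (hzR : ∀ i, z i ∈ R)
    (hsplit : ∀ j : Fin n, ∃ g : Fin m → MvPolynomial (Fin n) k,
      (∀ i, d i ≤ N → (g i).IsHomogeneous (N - d i)) ∧ (∀ i, ¬ d i ≤ N → g i = 0) ∧
      (MvPolynomial.X j : MvPolynomial (Fin n) k) ^ N = ∑ i, g i * z i) :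
    Module.Finite R (MvPolynomial (Fin n) k) := by
  classical
  obtain ⟨T, hTfg, hsmall⟩ : ∃ T : Submodule R (MvPolynomial (Fin n) k), T.FG ∧
      ∀ a : Fin n →₀ ℕ, (∀ j, a j < N) → MvPolynomial.monomial a (1:k) ∈ T := by
    refine ⟨Submodule.span R (↑((Fintype.piFinset (fun _ : Fin n => Finset.range N)).image
      (fun f => MvPolynomial.monomial (Finsupp.equivFunOnFinite.symm f) (1:k))) :
        Set (MvPolynomial (Fin n) k)), Submodule.fg_span (Finset.finite_toSet _), ?_⟩
    intro a ha
    apply Submodule.subset_span
    rw [Finset.mem_coe, Finset.mem_image]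
    exact ⟨⇑a, Fintype.mem_piFinset.2 (fun j => Finset.mem_range.2 (ha j)),
      by rw [Finsupp.equivFunOnFinite_symm_coe]⟩
  have hmulR : ∀ r ∈ R, ∀ t ∈ T, r * t ∈ T := by
    intro r hr t ht
    have h := T.smul_mem ⟨r, hr⟩ ht
    exact h
  have hC : ∀ (c : k), ∀ t ∈ T, MvPolynomial.C c * t ∈ T := by
    intro c t ht
    exact hmulR _ (R.algebraMap_mem c) t ht
  have hhom : ∀ e : ℕ, ∀ f : MvPolynomial (Fin n) k, f.IsHomogeneous e → f ∈ T := by
    intro e
    induction e using Nat.strong_induction_on with
    | _ e ih =>
      intro f hf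
      rw [← MvPolynomial.support_sum_monomial_coeff f]
      apply T.sum_mem
      intro a ha
      have hdeg : a.degree = e := by
        by_contra hne
        exact (MvPolynomial.mem_support_iff.1 ha) (hf.coeff_eq_zero hne)
      have hmon : MvPolynomial.monomial a (1:k) ∈ T := by
        by_cases hall : ∀ j, a j < N
        · exact hsmall a hall
        · obtain ⟨j, hj⟩ := not_forall.1 hall
          have hj' : N ≤ a j := not_lt.1 hj
          obtain ⟨g, hg1, hg2, hg3⟩ := hsplit j
          have hab : a = (a - Finsupp.single j N) + Finsupp.single j N := by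
            ext i
            simp only [Finsupp.coe_add, Finsupp.coe_tsub, Pi.add_apply, Pi.sub_apply,
              Finsupp.single_apply]
            split_ifs with h
            · subst h; omega
            · omega
          obtain ⟨b, hb⟩ : ∃ b, a = b + Finsupp.single j N := ⟨_, hab⟩
          subst hb
          have hbdeg : b.degree + N = e := by
            rw [← hdeg, map_add, Finsupp.degree_single]
          rw [MvPolynomial.monomial_add_single, hg3, Finset.mul_sum]
          apply T.sum_mem
          intro i _
          have hrew : MvPolynomial.monomial b (1:k) * (g i * z i) =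
              z i * (MvPolynomial.monomial b (1:k) * g i) := by ring
          rw [hrew]
          apply hmulR _ (hzR i)
          by_cases hi : d i ≤ N
          · have hh : (MvPolynomial.monomial b (1:k) * g i).IsHomogeneous
                (b.degree + (N - d i)) :=
              (MvPolynomial.isHomogeneous_monomial (1:k) rfl).mul (hg1 i hi)
            have hdi := hd i
            exact ih (b.degree + (N - d i)) (by omega) _ hh
          · rw [hg2 i hi, mul_zero]; exact T.zero_mem
      have hrw : MvPolynomial.monomial a (MvPolynomial.coeff a f) =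
          MvPolynomial.C (MvPolynomial.coeff a f) * MvPolynomial.monomial a (1:k) := by
        rw [MvPolynomial.C_mul_monomial, mul_one]
      rw [hrw]
      exact hC _ _ hmon
  have hT : T = ⊤ := by
    rw [eq_top_iff]
    intro f _
    rw [← MvPolynomial.sum_homogeneousComponent f]
    apply T.sum_mem
    intro e _
    exact hhom e _ (MvPolynomial.homogeneousComponent_isHomogeneous e f)
  exact ⟨by rw [← hT]; exact hTfg⟩


/-- Let k be a field, let z_1, ..., z_m be homogeneous polynomials of positive degree in the polynomial
ring k[x_1, ..., x_n], and suppose the radical of the ideal (z_1, ..., z_m) is the ideal (x_1, ...,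
x_n) generated by the variables. Then the polynomial ring is integral over the subalgebra generated
by z_1, ..., z_m. (The published statement is over an algebraically closed field; this row takes any
field, which its proof allows.) -/
theorem result (k : Type u) [Field k] (n m : ℕ)
    (z : Fin m → MvPolynomial (Fin n) k) (d : Fin m → ℕ) (hd : ∀ i, 0 < d i)
    (hz : ∀ i, (z i).IsHomogeneous (d i))
    (hrad : (Ideal.span (Set.range z)).radical =
      Ideal.span (Set.range (MvPolynomial.X : Fin n → MvPolynomial (Fin n) k))) :
    Algebra.IsIntegral (Algebra.adjoin k (Set.range z)) (MvPolynomial (Fin n) k) := by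
  classical
  have hpow : ∀ j : Fin n, ∃ Nj : ℕ,
      (MvPolynomial.X j : MvPolynomial (Fin n) k) ^ Nj ∈ Ideal.span (Set.range z) := by
    intro j
    have h1 : (MvPolynomial.X j : MvPolynomial (Fin n) k) ∈ (Ideal.span (Set.range z)).radical := by
      rw [hrad]; exact Ideal.subset_span ⟨j, rfl⟩
    exact Ideal.mem_radical_iff.1 h1
  choose Nf hNf using hpow
  obtain ⟨N, hN⟩ : ∃ N : ℕ, ∀ j : Fin n,
      (MvPolynomial.X j : MvPolynomial (Fin n) k) ^ N ∈ Ideal.span (Set.range z) := by
    refine ⟨Finset.univ.sup Nf, fun j => ?_⟩
    have hle : Nf j ≤ Finset.univ.sup Nf := Finset.le_sup (Finset.mem_univ j)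
    obtain ⟨t, ht⟩ := Nat.exists_eq_add_of_le hle
    rw [ht, pow_add]
    exact Ideal.mul_mem_right _ _ (hNf j)
  have hsplit : ∀ j : Fin n, ∃ g : Fin m → MvPolynomial (Fin n) k,
      (∀ i, d i ≤ N → (g i).IsHomogeneous (N - d i)) ∧ (∀ i, ¬ d i ≤ N → g i = 0) ∧
      (MvPolynomial.X j : MvPolynomial (Fin n) k) ^ N = ∑ i, g i * z i := by
    intro j
    obtain ⟨c, hc⟩ := Ideal.mem_span_range_iff_exists_fun.1 (hN j)
    obtain ⟨g, hgdef⟩ : ∃ g : Fin m → MvPolynomial (Fin n) k, ∀ i, g i =
        if d i ≤ N then
          ((DirectSum.decompose (MvPolynomial.homogeneousSubmodule (Fin n) k) (c i) (N - d i) :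
            MvPolynomial.homogeneousSubmodule (Fin n) k (N - d i)) : MvPolynomial (Fin n) k)
        else 0 := ⟨fun i => _, fun i => rfl⟩
    refine ⟨g, ?_, ?_, ?_⟩
    · intro i hi
      rw [hgdef, if_pos hi]
      exact (MvPolynomial.mem_homogeneousSubmodule _ _).1
        (DirectSum.decompose (MvPolynomial.homogeneousSubmodule (Fin n) k) (c i) (N - d i)).2
    · intro i hi
      rw [hgdef, if_neg hi]
    · have hX : (MvPolynomial.X j : MvPolynomial (Fin n) k) ^ N ∈
          MvPolynomial.homogeneousSubmodule (Fin n) k N := by
        have h := (MvPolynomial.isHomogeneous_X k j).pow N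
        rw [one_mul] at h
        exact (MvPolynomial.mem_homogeneousSubmodule _ _).2 h
      have h1 := DirectSum.decompose_of_mem_same (MvPolynomial.homogeneousSubmodule (Fin n) k) hX
      have h2 : (MvPolynomial.X j : MvPolynomial (Fin n) k) ^ N =
          GradedRing.proj (MvPolynomial.homogeneousSubmodule (Fin n) k) N (∑ i, c i * z i) := by
        rw [hc, GradedRing.proj_apply]; exact h1.symm
      rw [h2, map_sum]
      apply Finset.sum_congr rfl
      intro i _
      rw [GradedRing.proj_apply, hgdef]
      by_cases hi : d i ≤ N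
      · rw [if_pos hi]
        exact DirectSum.coe_decompose_mul_of_right_mem_of_le
          (MvPolynomial.homogeneousSubmodule (Fin n) k)
          ((MvPolynomial.mem_homogeneousSubmodule _ _).2 (hz i)) hi
      · rw [if_neg hi, zero_mul]
        exact DirectSum.coe_decompose_mul_of_right_mem_of_not_le
          (MvPolynomial.homogeneousSubmodule (Fin n) k)
          ((MvPolynomial.mem_homogeneousSubmodule _ _).2 (hz i)) hi
  haveI : Module.Finite (Algebra.adjoin k (Set.range z)) (MvPolynomial (Fin n) k) :=
    key (Algebra.adjoin k (Set.range z)) N z d hd (fun i => Algebra.subset_adjoin ⟨i, rfl⟩) hsplit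
  infer_instance

end Groth.Agent.S11223
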