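import Groth.Statements.S11233
-- import your own Groth.Agent.* helpers here
import Mathlib

set_option autoImplicit false
universe u
open CAlg

namespace Groth.Agent.S11233


lemma aeval_vecMul {A : Type*} [CommRing A] {m : ℕ} (φ : Fin m → MvPolynomial (Fin m) A)
    (T : Matrix (Fin m) (Fin m) A) (s : Fin m) :
    MvPolynomial.aeval φ (Matrix.vecMul (MvPolynomial.X : Fin m → MvPolynomial (Fin m) A)
      (T.map MvPolynomial.C) s) = Matrix.vecMul φ (T.map MvPolynomial.C) s := by
  simp [Matrix.vecMul, dotProduct, Matrix.map_apply, MvPolynomial.algebraMap_eq]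

lemma eval_vecMul {A : Type*} [CommRing A] {m : ℕ} (x : Fin m → A)
    (T : Matrix (Fin m) (Fin m) A) (s : Fin m) :
    MvPolynomial.eval x (Matrix.vecMul (MvPolynomial.X : Fin m → MvPolynomial (Fin m) A)
      (T.map MvPolynomial.C) s) = Matrix.vecMul x T s := by
  simp [Matrix.vecMul, dotProduct, Matrix.map_apply]

/-- Let k be an algebraically closed field, A an integral domain which is a k-algebra, T an m by m
matrix over A with invertible determinant, and let the additive group k^m act on the polynomial ring
A[y_1, ..., y_m] by the A-algebra maps y_s ↦ y_s + Σ_r h_r T_rs. Then the only invariant polynomials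
are the constants: a polynomial fixed by all these substitutions lies in A. -/
theorem result (k : Type u) [Field k] [IsAlgClosed k]
    (A : Type u) [CommRing A] [IsDomain A] [Algebra k A] (m : ℕ) (T : Matrix (Fin m) (Fin m) A)
    (hT : IsUnit T.det) (f : MvPolynomial (Fin m) A)
    (hf : ∀ h : Fin m → k, MvPolynomial.aeval
      (fun s : Fin m => MvPolynomial.X s + MvPolynomial.C (∑ r : Fin m, algebraMap k A (h r) * T r s)) f = f) :
    ∃ a : A, f = MvPolynomial.C a := by
  classical
  -- Step A
  have hA : ∀ h : Fin m → k,
      MvPolynomial.eval (Matrix.vecMul (fun r => algebraMap k A (h r)) T) f =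
        MvPolynomial.eval (fun _ : Fin m => (0 : A)) f := by
    intro h
    have h1 := congrArg (MvPolynomial.eval (fun _ : Fin m => (0 : A))) (hf h)
    have h2 : MvPolynomial.eval (fun _ : Fin m => (0 : A))
        (MvPolynomial.aeval (fun s : Fin m => MvPolynomial.X s +
          MvPolynomial.C (∑ r : Fin m, algebraMap k A (h r) * T r s)) f) =
        MvPolynomial.eval (fun s => MvPolynomial.eval (fun _ : Fin m => (0 : A))
          (MvPolynomial.X s + MvPolynomial.C (∑ r : Fin m, algebraMap k A (h r) * T r s))) f :=
      MvPolynomial.eval₂Hom_bind₁ (RingHom.id A) _ _ f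
    have h3 : (fun s => MvPolynomial.eval (fun _ : Fin m => (0 : A))
        (MvPolynomial.X s + MvPolynomial.C (∑ r : Fin m, algebraMap k A (h r) * T r s))) =
        Matrix.vecMul (fun r => algebraMap k A (h r)) T := by
      funext s
      simp [Matrix.vecMul, dotProduct]
    calc MvPolynomial.eval (Matrix.vecMul (fun r => algebraMap k A (h r)) T) f
        = MvPolynomial.eval (fun s => MvPolynomial.eval (fun _ : Fin m => (0 : A))
          (MvPolynomial.X s + MvPolynomial.C (∑ r : Fin m, algebraMap k A (h r) * T r s))) f := by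
          rw [h3]
      _ = MvPolynomial.eval (fun _ : Fin m => (0 : A))
        (MvPolynomial.aeval (fun s : Fin m => MvPolynomial.X s +
          MvPolynomial.C (∑ r : Fin m, algebraMap k A (h r) * T r s)) f) := h2.symm
      _ = MvPolynomial.eval (fun _ : Fin m => (0 : A)) f := h1
  -- Step B
  have hB : MvPolynomial.aeval (Matrix.vecMul (MvPolynomial.X : Fin m → MvPolynomial (Fin m) A)
      (T.map MvPolynomial.C)) f = MvPolynomial.C (MvPolynomial.eval (fun _ : Fin m => (0 : A)) f) := by
    have hinj : Function.Injective (algebraMap k A) := (algebraMap k A).injective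
    haveI : Infinite k := inferInstance
    apply MvPolynomial.funext_set (fun _ : Fin m => Set.range (algebraMap k A))
      (fun _ => Set.infinite_range_of_injective hinj)
    intro x hx
    choose h hh using fun i => hx i (Set.mem_univ i)
    have e1 : MvPolynomial.eval x (MvPolynomial.aeval
        (Matrix.vecMul (MvPolynomial.X : Fin m → MvPolynomial (Fin m) A) (T.map MvPolynomial.C)) f) =
        MvPolynomial.eval (fun s => MvPolynomial.eval x
          (Matrix.vecMul (MvPolynomial.X : Fin m → MvPolynomial (Fin m) A) (T.map MvPolynomial.C) s)) f :=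
      MvPolynomial.eval₂Hom_bind₁ (RingHom.id A) _ _ f
    have e2 : (fun s => MvPolynomial.eval x
        (Matrix.vecMul (MvPolynomial.X : Fin m → MvPolynomial (Fin m) A) (T.map MvPolynomial.C) s)) =
        Matrix.vecMul (fun r => algebraMap k A (h r)) T := by
      funext s
      rw [eval_vecMul]
      have hx' : x = fun r => algebraMap k A (h r) := by
        funext r; exact (hh r).symm
      rw [hx']
    rw [e1, e2, hA h, MvPolynomial.eval_C]
  -- Step C
  refine ⟨MvPolynomial.eval (fun _ : Fin m => (0 : A)) f, ?_⟩
  have hinv : T⁻¹ * T = 1 := Matrix.nonsing_inv_mul T hT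
  have hC := congrArg (MvPolynomial.aeval
    (Matrix.vecMul (MvPolynomial.X : Fin m → MvPolynomial (Fin m) A) (T⁻¹.map MvPolynomial.C))) hB
  have e3 : MvPolynomial.aeval
      (Matrix.vecMul (MvPolynomial.X : Fin m → MvPolynomial (Fin m) A) (T⁻¹.map MvPolynomial.C))
      (MvPolynomial.aeval (Matrix.vecMul (MvPolynomial.X : Fin m → MvPolynomial (Fin m) A)
        (T.map MvPolynomial.C)) f) =
      MvPolynomial.aeval (fun s => MvPolynomial.aeval
        (Matrix.vecMul (MvPolynomial.X : Fin m → MvPolynomial (Fin m) A) (T⁻¹.map MvPolynomial.C))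
        (Matrix.vecMul (MvPolynomial.X : Fin m → MvPolynomial (Fin m) A) (T.map MvPolynomial.C) s)) f :=
    MvPolynomial.aeval_bind₁ _ _ f
  have e4 : (fun s => MvPolynomial.aeval
      (Matrix.vecMul (MvPolynomial.X : Fin m → MvPolynomial (Fin m) A) (T⁻¹.map MvPolynomial.C))
      (Matrix.vecMul (MvPolynomial.X : Fin m → MvPolynomial (Fin m) A) (T.map MvPolynomial.C) s)) =
      (MvPolynomial.X : Fin m → MvPolynomial (Fin m) A) := by
    funext s
    rw [aeval_vecMul, Matrix.vecMul_vecMul, ← Matrix.map_mul, hinv,
      Matrix.map_one _ (map_zero _) (map_one _), Matrix.vecMul_one]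
  rw [e3, e4, MvPolynomial.aeval_X_left_apply, MvPolynomial.aeval_C, MvPolynomial.algebraMap_eq] at hC
  exact hC

end Groth.Agent.S11233
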