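import Groth.Statements.S11235
-- import your own Groth.Agent.* helpers here
import Mathlib

set_option autoImplicit false
universe u
open CAlg

namespace Groth.Agent.S11235

/-- Let k be an algebraically closed field, A a commutative k-algebra, α ∈ k, and M a maximal ideal of
the polynomial ring A[x] containing x - α. Let I ⊆ M be an ideal whose zero set in Spec A[x] is
invariant under the automorphisms x ↦ c·x, c ∈ k nonzero (equivalently: the image of I under each
such A-algebra automorphism has the same radical as I). Then there is a maximal ideal of A[x]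
containing I and x. -/
theorem result (k : Type u) [Field k] [IsAlgClosed k]
    (A : Type u) [CommRing A] [Algebra k A] (α : k)
    (M : Ideal (Polynomial A)) (hM : M.IsMaximal)
    (hα : Polynomial.X - Polynomial.C (algebraMap k A α) ∈ M)
    (I : Ideal (Polynomial A)) (hIM : I ≤ M)
    (hI : ∀ c : kˣ, (I.map (Polynomial.aeval (R := A)
      (algebraMap k A (c : k) • (Polynomial.X : Polynomial A)))).radical = I.radical) :
    ∃ N : Ideal (Polynomial A), N.IsMaximal ∧ I ≤ N ∧ Polynomial.X ∈ N := by
  classical
  haveI := hM
  letI : Field (Polynomial A ⧸ M) := Ideal.Quotient.field M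
  set φ : Polynomial A →+* (Polynomial A ⧸ M) := Ideal.Quotient.mk M with hφ
  set ψ : A →+* (Polynomial A ⧸ M) := φ.comp Polynomial.C with hψ
  have hψC : ∀ a : A, φ (Polynomial.C a) = ψ a := fun a => rfl
  -- φ g = eval₂ ψ (φ X) g
  have hφeval : ∀ g : Polynomial A, φ g = Polynomial.eval₂ ψ (φ Polynomial.X) g := by
    intro g
    have h := Polynomial.hom_eval₂ g Polynomial.C φ Polynomial.X
    rw [Polynomial.eval₂_C_X] at h
    exact h
  have hφX : φ Polynomial.X = ψ (algebraMap k A α) := by
    have h1 : φ (Polynomial.X - Polynomial.C (algebraMap k A α)) = 0 :=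
      Ideal.Quotient.eq_zero_iff_mem.mpr hα
    rw [map_sub, sub_eq_zero] at h1
    exact h1
  -- κ
  set κ : k →+* (Polynomial A ⧸ M) := ψ.comp (algebraMap k A) with hκ
  have hκinj : Function.Injective κ := κ.injective
  -- roots
  have hroot : ∀ (f : Polynomial A), f ∈ I → ∀ c : k, c ≠ 0 →
      (f.map ψ).IsRoot (κ (c * α)) := by
    intro f hf c hc
    have h1 : Polynomial.aeval (R := A)
        (algebraMap k A ((Units.mk0 c hc : kˣ) : k) • (Polynomial.X : Polynomial A)) f ∈ M := by
      have h2 : Polynomial.aeval (R := A)
          (algebraMap k A ((Units.mk0 c hc : kˣ) : k) • (Polynomial.X : Polynomial A)) f ∈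
          (I.map (Polynomial.aeval (R := A)
            (algebraMap k A ((Units.mk0 c hc : kˣ) : k) • (Polynomial.X : Polynomial A)))).radical :=
        Ideal.le_radical (Ideal.mem_map_of_mem _ hf)
      rw [hI (Units.mk0 c hc)] at h2
      exact (hM.isPrime.radical_le_iff.mpr hIM) h2
    have h3 : φ (Polynomial.aeval (R := A)
        (algebraMap k A ((Units.mk0 c hc : kˣ) : k) • (Polynomial.X : Polynomial A)) f) = 0 :=
      Ideal.Quotient.eq_zero_iff_mem.mpr h1
    rw [Polynomial.aeval_def, Polynomial.algebraMap_eq, Polynomial.hom_eval₂,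
      Polynomial.smul_eq_C_mul, map_mul, hψC, hφX, ← map_mul, Units.val_mk0,
      Polynomial.eval₂_eq_eval_map] at h3
    have h4 : ψ (algebraMap k A c * algebraMap k A α) = κ (c * α) := by
      show ψ _ = ψ (algebraMap k A (c * α))
      rw [map_mul (algebraMap k A)]
    rw [h4] at h3
    exact h3
  have hzero : ∀ f : Polynomial A, f ∈ I → (f.map ψ).eval 0 = 0 := by
    intro f hf
    by_cases hα0 : α = 0
    · have h := hroot f hf 1 one_ne_zero
      rw [hα0, mul_zero, map_zero] at h
      exact h
    · have hinf : {x | (f.map ψ).IsRoot x}.Infinite := by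
        have hS : ({c : k | c ≠ 0}).Infinite := by
          have : ({0} : Set k)ᶜ.Infinite := (Set.finite_singleton (0 : k)).infinite_compl
          exact this
        have himg : ((fun c : k => κ (c * α)) '' {c : k | c ≠ 0}).Infinite := by
          apply Set.Infinite.image _ hS
          intro c _ c' _ h
          have := hκinj h
          exact mul_right_cancel₀ hα0 this
        apply himg.mono
        rintro _ ⟨c, hc, rfl⟩
        exact hroot f hf c hc
      rw [Polynomial.eq_zero_of_infinite_isRoot _ hinf, Polynomial.eval_zero]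
  -- the ideal N
  have hsurj : Function.Surjective (Polynomial.eval₂RingHom ψ 0) := by
    intro y
    obtain ⟨g, rfl⟩ := Ideal.Quotient.mk_surjective y
    refine ⟨Polynomial.C (Polynomial.eval (algebraMap k A α) g), ?_⟩
    show Polynomial.eval₂ ψ 0 (Polynomial.C _) = φ g
    rw [Polynomial.eval₂_C, hφeval g, hφX, Polynomial.eval₂_at_apply]
  refine ⟨RingHom.ker (Polynomial.eval₂RingHom ψ 0), RingHom.ker_isMaximal_of_surjective _ hsurj, ?_, ?_⟩
  · intro f hf
    rw [RingHom.mem_ker]
    show Polynomial.eval₂ ψ 0 f = 0
    rw [Polynomial.eval₂_eq_eval_map]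
    exact hzero f hf
  · rw [RingHom.mem_ker]
    show Polynomial.eval₂ ψ 0 Polynomial.X = 0
    rw [Polynomial.eval₂_X]

end Groth.Agent.S11235
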