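import Groth.Statements.S11239
import Mathlib

set_option autoImplicit false
universe u
open AGF

namespace Groth.Agent.S11239

/-- Let X be an m × n matrix over a commutative ring, u an upper triangular n × n matrix with ones on
the diagonal, t a diagonal n × n matrix and p ≤ n. For any choice of p rows, the minor of X·t·u
formed with these rows and the first p columns equals (t_11 ⋯ t_pp) times the corresponding minor of
X: the minors on the first p columns are semi-invariant of weight ω_p under right multiplication by
the upper triangular group. (The published statement is for the generic matrix over an algebraically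
closed field; this row states the identity over any commutative ring.) -/
theorem result (R : Type u) [CommRing R] (m n p : ℕ) (hp : p ≤ n)
    (X : Matrix (Fin m) (Fin n) R) (d : Fin n → R) (u : Matrix (Fin n) (Fin n) R)
    (hu1 : ∀ i, u i i = 1) (hu0 : ∀ i j, j < i → u i j = 0) (I : Fin p → Fin m) :
    ((X * Matrix.diagonal d * u).submatrix I (Fin.castLE hp)).det =
      (∏ i : Fin p, d (Fin.castLE hp i)) * (X.submatrix I (Fin.castLE hp)).det := by
  classical
  set c := Fin.castLE hp with hc
  have hcinj : Function.Injective c := Fin.castLE_injective hp
  have key : (X * Matrix.diagonal d * u).submatrix I c =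
      X.submatrix I c * Matrix.diagonal (fun i => d (c i)) * u.submatrix c c := by
    ext a b
    rw [Matrix.submatrix_apply, Matrix.mul_apply, Matrix.mul_apply]
    simp only [Matrix.mul_diagonal, Matrix.submatrix_apply]
    symm
    refine Finset.sum_of_injOn c (fun x _ y _ h => hcinj h) (fun x _ => Finset.mem_coe.mpr (Finset.mem_univ _)) ?_ ?_
    · intro j _ hj
      have hjp : p ≤ (j : ℕ) := by
        by_contra hlt
        push_neg at hlt
        apply hj
        refine ⟨⟨j, hlt⟩, Finset.mem_coe.mpr (Finset.mem_univ _), ?_⟩
        ext
        simp [hc]
      have : c b < j := by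
        rw [Fin.lt_def]
        have : ((c b : Fin n) : ℕ) = b := by simp [hc]
        rw [this]
        exact lt_of_lt_of_le b.2 hjp
      rw [hu0 j (c b) this, mul_zero]
    · intro j _
      rfl
  rw [key, Matrix.det_mul, Matrix.det_mul, Matrix.det_diagonal,
    Matrix.det_of_isUpperTriangular (M := u.submatrix c c)]
  · have : ∀ i : Fin p, (u.submatrix c c) i i = 1 := fun i => hu1 (c i)
    simp only [this, Finset.prod_const_one, mul_one]
    ring
  · intro i j hij
    simp only [id] at hij
    exact hu0 (c i) (c j) (by
      rw [Fin.lt_def] at hij ⊢
      simpa [hc] using hij)

end Groth.Agent.S11239
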