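import Groth.Statements.S1124
import Mathlib

set_option autoImplicit false
open CategoryTheory CategoryTheory.Limits AlgebraicGeometry Opposite
universe u
open Desc

namespace Groth.Agent.S1124

lemma toImage_ker_eq_bot {X Y : Scheme.{u}} (f : X ⟶ Y) [QuasiCompact f] : f.toImage.ker = ⊥ := by
  rw [← le_bot_iff]
  refine Scheme.IdealSheafData.le_of_iSup_eq_top (ι := Y.affineOpens)
    (fun U => ⟨f.imageι ⁻¹ᵁ U.1, U.2.preimage f.imageι⟩) ?_ ?_
  · rw [eq_top_iff]
    intro x _
    obtain ⟨_, ⟨U, hU, rfl⟩, hxU, -⟩ :=
      Y.isBasis_affineOpens.exists_subset_of_mem_open (Set.mem_univ (f.imageι x)) isOpen_univ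
    exact TopologicalSpace.Opens.mem_iSup.mpr ⟨⟨U, hU⟩, hxU⟩
  · intro U
    refine (Scheme.Hom.ideal_ker_le _ _).trans ?_
    rw [Scheme.IdealSheafData.ideal_bot, Pi.bot_apply, le_bot_iff]
    exact (RingHom.injective_iff_ker_eq_bot _).mp (f.toImage_app_injective U)

theorem qc_of_pullback_fst {X Y Z : Scheme.{u}} (f : X ⟶ Z) (g : Y ⟶ Z) [Surjective f]
    [QuasiCompact f] [QuasiCompact (pullback.fst f g)] : QuasiCompact g := by
  constructor
  intro U hU hUc
  have h1 : IsCompact ((pullback.fst f g) ⁻¹' (f ⁻¹' U)) :=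
    QuasiCompact.isCompact_preimage _ (hU.preimage f.continuous)
      (QuasiCompact.isCompact_preimage _ hU hUc)
  have h2 : g ⁻¹' U = (pullback.snd f g) '' ((pullback.fst f g) ⁻¹' (f ⁻¹' U)) := by
    ext y
    constructor
    · intro hy
      obtain ⟨x, hx⟩ := f.surjective (g y)
      obtain ⟨z, hz1, hz2⟩ := Scheme.Pullback.exists_preimage_pullback (f := f) (g := g) x y hx
      refine ⟨z, ?_, hz2⟩
      simp only [Set.mem_preimage]
      rw [hz1, hx]
      exact hy
    · rintro ⟨z, hz, rfl⟩
      have h3 : f (pullback.fst f g z) = g (pullback.snd f g z) := by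
        rw [← Scheme.Hom.comp_apply, ← Scheme.Hom.comp_apply, pullback.condition]
      simp only [Set.mem_preimage] at hz ⊢
      rw [← h3]
      exact hz
  rw [h2]
  exact h1.image (pullback.snd f g).continuous

theorem openImm_of_dominant_of_comp {A W X : Scheme.{u}} (a : A ⟶ W) (w : W ⟶ X)
    [IsClosedImmersion w] [IsImmersion (a ≫ w)] [QuasiCompact (a ≫ w)] (ha : a.ker = ⊥) :
    IsOpenImmersion a := by
  have hk : (a ≫ w).ker = w.ker := by
    rw [Scheme.Hom.ker_comp, ha, Scheme.IdealSheafData.map_bot]
  have hk1 : w.ker ≤ (a ≫ w).imageι.ker := by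
    rw [Scheme.IdealSheafData.ker_subschemeι, hk]
  have hk2 : (a ≫ w).imageι.ker ≤ w.ker := by
    rw [Scheme.IdealSheafData.ker_subschemeι, hk]
  let m := IsClosedImmersion.lift w (a ≫ w).imageι hk1
  let m' := IsClosedImmersion.lift (a ≫ w).imageι w hk2
  have hm : m ≫ w = (a ≫ w).imageι := IsClosedImmersion.lift_fac _ _ _
  have hm' : m' ≫ (a ≫ w).imageι = w := IsClosedImmersion.lift_fac _ _ _
  haveI : IsIso m := by
    refine ⟨m', ?_, ?_⟩
    · rw [← cancel_mono (a ≫ w).imageι, Category.assoc, hm', hm, Category.id_comp]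
    · rw [← cancel_mono w, Category.assoc, hm, hm', Category.id_comp]
  have e : a = (a ≫ w).toImage ≫ m := by
    rw [← cancel_mono w, Category.assoc, hm, Scheme.Hom.toImage_imageι]
  rw [e]
  infer_instance

/-- If the base change of a morphism of schemes along a quasi-compact, flat, surjective morphism is a
quasi-compact immersion, then the morphism itself is a quasi-compact immersion. (Stated for a single
quasi-compact flat surjective base change; together with Zariski-locality on the target this is fpqc
descent for quasi-compact immersions.) -/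
theorem result :
    MorphismProperty.DescendsAlong (@IsImmersion ⊓ @QuasiCompact : MorphismProperty Scheme.{u})
      (@Surjective ⊓ @Flat ⊓ @QuasiCompact : MorphismProperty Scheme.{u}) := by
  apply MorphismProperty.DescendsAlong.mk'
  intro X Y Z f g _ hf hg
  obtain ⟨⟨hsurj, hflat⟩, hqc⟩ := hf
  obtain ⟨himm, hqc'⟩ := hg
  haveI : Surjective f := hsurj
  haveI : Flat f := hflat
  haveI : QuasiCompact f := hqc
  haveI : IsImmersion (pullback.fst f g) := himm
  haveI : QuasiCompact (pullback.fst f g) := hqc'
  haveI hgqc : QuasiCompact g := qc_of_pullback_fst f g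
  haveI : IsSchemeTheoreticallyDominant g.toImage := ⟨toImage_ker_eq_bot g⟩
  -- pasting
  have s : IsPullback (pullback.snd (pullback.snd f g.imageι) g.toImage)
      (pullback.fst (pullback.snd f g.imageι) g.toImage) g.toImage (pullback.snd f g.imageι) :=
    (IsPullback.of_hasPullback (pullback.snd f g.imageι) g.toImage).flip
  have t : IsPullback (pullback.snd f g.imageι) (pullback.fst f g.imageι) g.imageι f :=
    (IsPullback.of_hasPullback f g.imageι).flip
  have H := (s.paste_vert t).flip
  rw [g.toImage_imageι] at H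
  haveI : IsImmersion (pullback.fst (pullback.snd f g.imageι) g.toImage ≫ pullback.fst f g.imageι) := by
    rw [← H.isoPullback_hom_fst]; infer_instance
  haveI : QuasiCompact (pullback.fst (pullback.snd f g.imageι) g.toImage ≫ pullback.fst f g.imageι) := by
    rw [← H.isoPullback_hom_fst]; infer_instance
  have hopen : IsOpenImmersion (pullback.fst (pullback.snd f g.imageι) g.toImage) :=
    openImm_of_dominant_of_comp _ (pullback.fst f g.imageι)
      (IsSchemeTheoreticallyDominant.ker_eq_bot _)
  have hQ : (@Surjective ⊓ @Flat ⊓ @QuasiCompact : MorphismProperty Scheme.{u})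
      (pullback.snd f g.imageι) := ⟨⟨inferInstance, inferInstance⟩, inferInstance⟩
  haveI : IsOpenImmersion g.toImage :=
    MorphismProperty.of_pullback_fst_of_descendsAlong (P := @IsOpenImmersion)
      (Q := @Surjective ⊓ @Flat ⊓ @QuasiCompact) (f := pullback.snd f g.imageι) hQ hopen
  refine ⟨?_, hgqc⟩
  rw [← g.toImage_imageι]
  infer_instance

end Groth.Agent.S1124
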