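import Groth.Statements.S11240
-- import your own Groth.Agent.* helpers here
import Mathlib

set_option autoImplicit false
universe u
open AGF

namespace Groth.Agent.S11240


lemma submatrix_transvection_mul {R : Type*} [CommRing R] {n m p : ℕ}
    (G : Matrix (Fin n) (Fin m) R) (I : Fin p → Fin n) (hI : Function.Injective I)
    (J : Fin p → Fin m) (u₀ : Fin p) (j : Fin n) (c : R) :
    (Matrix.transvection (I u₀) j c * G).submatrix I J =
      (G.submatrix I J).updateRow u₀ ((G.submatrix I J) u₀ + c • fun v => G j (J v)) := by
  ext u v
  by_cases hu : u = u₀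
  · rw [hu, Matrix.updateRow_self, Matrix.submatrix_apply,
      Matrix.transvection_mul_apply_same]
    simp
  · have hne : I u ≠ I u₀ := fun h => hu (hI h)
    rw [Matrix.updateRow_ne hu, Matrix.submatrix_apply, Matrix.submatrix_apply,
      Matrix.transvection_mul_apply_of_ne _ _ _ _ hne]

noncomputable def genMat (k : Type u) [Field k] (n m : ℕ) :
    Matrix (Fin n) (Fin m) (MvPolynomial (Fin n × Fin m) k) :=
  Matrix.of fun a c => MvPolynomial.X (a, c)

def tmul {R : Type*} [CommRing R] {n m : ℕ} (T : Matrix (Fin n) (Fin n) R)
    (G : Matrix (Fin n) (Fin m) R) : Matrix (Fin n) (Fin m) R := T * G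

lemma frozen_lhs {k : Type u} [Field k] (n m p : ℕ) (i j : Fin n)
    (b : k) (I : Fin p ↪o Fin n) (J : Fin p ↪o Fin m) :
    ((Matrix.transvection i j (MvPolynomial.C b) *
        (Matrix.of fun a c => (MvPolynomial.X (a, c) : MvPolynomial (Fin n × Fin m) k))).submatrix I J).det =
    (Matrix.submatrix (tmul (Matrix.transvection i j (MvPolynomial.C b)) (genMat k n m)) I J).det := rfl

lemma frozen_rhs {k : Type u} [Field k] (n m p : ℕ) (I : Fin p ↪o Fin n) (J : Fin p ↪o Fin m) :
    ((Matrix.of fun a c => (MvPolynomial.X (a, c) : MvPolynomial (Fin n × Fin m) k)).submatrix I J).det =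
    (Matrix.submatrix (genMat k n m) I J).det := rfl

/-- For a single root subgroup: let k be an algebraically closed field and X = (x_ab) the generic n × m
matrix over the polynomial ring k[x_ab]. Let i ≠ j be row indices and let I (rows) and J (columns)
be strictly increasing sequences of length p. The minor of X with rows I and columns J is invariant
under replacing X by (1 + b·E_ij)·X for every b ∈ k (the one-parameter unipotent group adding b
times row j to row i) if and only if j occurs in I whenever i does. (The published statement gives
the criterion for the group generated by several such root subgroups, which is the conjunction of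
these.) -/
theorem result (k : Type u) [Field k] [IsAlgClosed k] (n m p : ℕ)
    (i j : Fin n) (hij : i ≠ j) (I : Fin p ↪o Fin n) (J : Fin p ↪o Fin m) :
    (∀ b : k, ((Matrix.transvection i j (MvPolynomial.C b) *
        (Matrix.of fun a c => (MvPolynomial.X (a, c) : MvPolynomial (Fin n × Fin m) k))).submatrix I J).det =
        ((Matrix.of fun a c => (MvPolynomial.X (a, c) : MvPolynomial (Fin n × Fin m) k)).submatrix I J).det) ↔
      (i ∈ Set.range I → j ∈ Set.range I) := by
  classical
  simp only [frozen_lhs, frozen_rhs, tmul]
  constructor
  · rintro hinv ⟨u₀, hu₀⟩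
    by_contra hj
    have h1 := hinv 1
    rw [map_one, ← hu₀, submatrix_transvection_mul _ I I.injective J u₀ j 1, one_smul,
      Matrix.det_updateRow_add, Matrix.updateRow_eq_self] at h1
    have h2 : (Matrix.updateRow ((genMat k n m).submatrix I J) u₀
        (fun v => (genMat k n m) j (J v))).det = 0 := by
      linear_combination h1
    let I' : Fin p → Fin n := fun u => if u = u₀ then j else I u
    have hI' : Function.Injective I' := by
      intro u u' h
      simp only [I'] at h
      by_cases hu : u = u₀ <;> by_cases hu' : u' = u₀
      · rw [hu, hu']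
      · rw [if_pos hu, if_neg hu'] at h
        exact absurd ⟨u', h.symm⟩ hj
      · rw [if_neg hu, if_pos hu'] at h
        exact absurd ⟨u, h⟩ hj
      · rw [if_neg hu, if_neg hu'] at h
        exact I.injective h
    have hN : Matrix.updateRow ((genMat k n m).submatrix I J) u₀
        (fun v => (genMat k n m) j (J v)) =
        Matrix.of fun u v => (MvPolynomial.X (I' u, J v) : MvPolynomial (Fin n × Fin m) k) := by
      ext u v
      by_cases hu : u = u₀
      · rw [hu, Matrix.updateRow_self]
        simp [I', genMat]
      · rw [Matrix.updateRow_ne hu]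
        simp [I', hu, genMat]
    let pt : Fin n × Fin m → k := fun q => if ∃ u, q = (I' u, J u) then 1 else 0
    have h3 := congrArg (MvPolynomial.eval pt) h2
    rw [hN, RingHom.map_det, map_zero] at h3
    have h4 : (MvPolynomial.eval pt).mapMatrix (Matrix.of fun u v =>
        (MvPolynomial.X (I' u, J v) : MvPolynomial (Fin n × Fin m) k)) =
        (1 : Matrix (Fin p) (Fin p) k) := by
      ext u v
      simp only [RingHom.mapMatrix_apply, Matrix.map_apply, Matrix.of_apply, MvPolynomial.eval_X,
        pt, Matrix.one_apply]
      by_cases huv : u = v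
      · rw [if_pos huv, if_pos ⟨u, by rw [huv]⟩]
      · rw [if_neg huv, if_neg]
        rintro ⟨u', hu'⟩
        rw [Prod.mk.injEq] at hu'
        exact huv ((hI' hu'.1).trans (J.injective hu'.2).symm)
    rw [h4, Matrix.det_one] at h3
    exact one_ne_zero h3
  · intro himp b
    by_cases hi : i ∈ Set.range I
    · obtain ⟨u₀, hu₀⟩ := hi
      obtain ⟨u₁, hu₁⟩ := himp ⟨u₀, hu₀⟩
      have hne : u₀ ≠ u₁ := by
        rintro rfl
        exact hij (hu₀.symm.trans hu₁)
      rw [← hu₀, ← hu₁, submatrix_transvection_mul _ I I.injective J u₀ (I u₁) (MvPolynomial.C b)]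
      exact Matrix.det_updateRow_add_smul_self _ hne _
    · congr 1
      refine Matrix.ext fun u v => ?_
      rw [Matrix.submatrix_apply, Matrix.submatrix_apply]
      exact Matrix.transvection_mul_apply_of_ne i j (I u) (J v) (fun h => hi ⟨u, h⟩)
        (MvPolynomial.C b) (genMat k n m)

end Groth.Agent.S11240
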