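import Groth.Statements.S11243
-- import your own Groth.Agent.* helpers here
import Mathlib

set_option autoImplicit false
universe u v w
open RootD

namespace Groth.Agent.S11243

open Classical in
lemma sum_flipPos_pairing_simple {ι M N : Type*} [AddCommGroup M] [AddCommGroup N]
    (P : RootPairing ι ℤ M N) [Fintype ι] [P.IsReduced] (b : P.Base) (k : ι)
    (hk : k ∈ b.support) :
    (∑ j, if b.flip.IsPos j then P.pairing k j else 0) = 2 := by
  haveI : Module.IsReflexive ℤ N := Module.IsReflexive.of_isPerfPair P.flip.toLinearMap
  haveI : Module.IsReflexive ℤ M := Module.IsReflexive.of_isPerfPair P.toLinearMap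
  rw [← Finset.sum_filter]
  set S := Finset.univ.filter (fun j => b.flip.IsPos j ∧ j ≠ k) with hS
  have hk' : k ∈ b.flip.support := hk
  have hkpos : b.flip.IsPos k := b.flip.isPos_of_mem_support hk'
  have hins : Finset.univ.filter (fun j => b.flip.IsPos j) = insert k S := by
    ext j
    simp only [Finset.mem_filter, Finset.mem_univ, true_and, Finset.mem_insert, hS]
    constructor
    · intro h
      by_cases hjk : j = k
      · exact Or.inl hjk
      · exact Or.inr ⟨h, hjk⟩
    · rintro (h | h)
      · rw [h]; exact hkpos
      · exact h.1
  have hkS : k ∉ S := by simp [hS]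
  have hneg : ¬ b.flip.IsPos (P.reflectionPerm k k) := fun h =>
    ((RootPairing.Base.IsPos.neg_iff_not b.flip k).mp h) hkpos
  have hflip : ∀ j, P.pairing k (P.reflectionPerm k j) = - P.pairing k j := by
    intro j
    rw [P.pairing_reflectionPerm k k j, P.pairing_reflectionPerm_self_left]
  rw [hins, Finset.sum_insert hkS, P.pairing_same]
  have hT : ∑ j ∈ S, P.pairing k j = 0 := by
    apply Finset.sum_involution (fun j _ => P.reflectionPerm k j)
    · intro j _
      rw [hflip j]
      ring
    · intro j _ hne hfix
      apply hne
      have h1 := hflip j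
      rw [hfix] at h1
      linarith
    · intro j hj
      rw [hS, Finset.mem_filter] at hj ⊢
      obtain ⟨-, hpos, hjk⟩ := hj
      refine ⟨Finset.mem_univ _, hpos.reflectionPerm hk' hjk, ?_⟩
      intro hfix
      have hj' : j = P.reflectionPerm k k := by
        have h2 := P.reflectionPerm_self k j
        rw [hfix] at h2
        exact h2.symm
      rw [hj'] at hpos
      exact hneg hpos
    · intro j _
      exact P.reflectionPerm_self k j
  rw [hT, add_zero]

open Classical in
lemma sum_flipPos_pairing {ι M N : Type*} [AddCommGroup M] [AddCommGroup N]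
    (P : RootPairing ι ℤ M N) [Fintype ι] [P.IsReduced] (b : P.Base) (i : ι) :
    (∑ j, if b.flip.IsPos j then P.pairing i j else 0) = 2 * b.height i := by
  obtain ⟨f, hf₀, hf₁, hf₂⟩ := b.exists_root_eq_sum_int i
  rw [RootPairing.Base.height_eq_sum hf₂]
  have hpair : ∀ j, P.pairing i j = ∑ l ∈ b.support, f l * P.pairing l j := by
    intro j
    rw [← P.root_coroot_eq_pairing i j, hf₂]
    simp only [map_sum, map_zsmul, LinearMap.coe_sum, Finset.sum_apply, LinearMap.smul_apply,
      P.root_coroot_eq_pairing, smul_eq_mul]
  have hterm : ∀ j, (if b.flip.IsPos j then P.pairing i j else 0) =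
      ∑ l ∈ b.support, f l * (if b.flip.IsPos j then P.pairing l j else 0) := by
    intro j
    split_ifs
    · exact hpair j
    · simp
  simp_rw [hterm]
  rw [Finset.sum_comm]
  simp_rw [← Finset.mul_sum]
  rw [Finset.mul_sum]
  apply Finset.sum_congr rfl
  intro l hl
  rw [sum_flipPos_pairing_simple P b l hl]; ring

/-- (b), for a connected group, as a statement about its root datum: let P be a finite reduced
crystallographic root pairing over ℤ with weight lattice M, and b a base of P (simple roots,
determining the positive roots). Then there is an additive map h : M → ℤ which is positive on every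
positive root (so that h strictly increases along the dominance order) and non-negative on every
dominant weight, i.e. on every ω ∈ M pairing non-negatively with all simple coroots. (Part (c),
invariance under the component group of a disconnected group, is not stated.) -/
theorem result {ι : Type u} {M : Type v} {N : Type w}
    [Fintype ι] [AddCommGroup M] [AddCommGroup N]
    (P : RootPairing ι ℤ M N) [P.IsReduced] [P.IsCrystallographic] (b : P.Base) :
    ∃ h : M →+ ℤ, (∀ i : ι, b.IsPos i → 0 < h (P.root i)) ∧
      ∀ ω : M, (∀ j ∈ b.support, 0 ≤ P.toLinearMap ω (P.coroot j)) → 0 ≤ h ω := by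
  classical
  haveI : Module.IsReflexive ℤ N := Module.IsReflexive.of_isPerfPair P.flip.toLinearMap
  set ρ : N := ∑ j, if b.flip.IsPos j then P.coroot j else 0 with hρ
  refine ⟨(P.toLinearMap.flip ρ).toAddMonoidHom, ?_, ?_⟩
  · intro i hi
    have hval : (P.toLinearMap.flip ρ).toAddMonoidHom (P.root i) =
        ∑ j, if b.flip.IsPos j then P.pairing i j else 0 := by
      show P.toLinearMap (P.root i) ρ = _
      rw [hρ, map_sum]
      apply Finset.sum_congr rfl
      intro j _
      split_ifs
      · exact P.root_coroot_eq_pairing i j
      · exact map_zero _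
    rw [hval, sum_flipPos_pairing P b i]
    have : 0 < b.height i := hi
    linarith
  · intro ω hω
    show 0 ≤ P.toLinearMap ω ρ
    rw [hρ, map_sum]
    apply Finset.sum_nonneg
    intro j _
    split_ifs with hj
    · obtain ⟨g, hg₀, hg₁, hg₂⟩ := b.flip.exists_root_eq_sum_int j
      have hgpos : 0 < g := by
        refine hg₁.resolve_right ?_
        intro hneg
        have hh : b.flip.height j = ∑ l ∈ b.flip.support, g l :=
          RootPairing.Base.height_eq_sum hg₂
        have hle : b.flip.height j ≤ 0 := by
          rw [hh]; exact Finset.sum_nonpos fun l _ => (hneg.le l)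
        exact absurd hj (not_lt.mpr hle)
      have hc : P.coroot j = ∑ l ∈ b.support, g l • P.coroot l := hg₂
      rw [hc, map_sum]
      apply Finset.sum_nonneg
      intro l hl
      rw [map_zsmul, smul_eq_mul]
      exact mul_nonneg (hgpos.le l) (hω l hl)
    · rw [map_zero]

end Groth.Agent.S11243
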