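import Groth.Statements.S11268
-- import your own Groth.Agent.* helpers here
import Mathlib

set_option autoImplicit false
open W4bk4grassmannian

namespace Groth.Agent.S11268

open W4bk4grassmannian in
/-- Let τ < w in I(d,n), the strictly increasing maps Fin d → Fin n ordered entrywise. Then there is a
Schubert divisor φ of w, i.e. φ < w with Σ_t (φ_t - t) + 1 = Σ_t (w_t - t), such that τ ≤ φ: every
proper Schubert subvariety of X(w) lies in a Schubert divisor of X(w). -/
theorem result (d n : ℕ) (τ w : Idx d n) (h : τ < w) :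
    ∃ φ ∈ divisors w, τ ≤ φ := by
  classical
  have hge : ∀ (f : Fin d → Fin n), StrictMono f → ∀ (k : ℕ) (hk : k < d),
      k ≤ (f ⟨k, hk⟩).val := by
    intro f hf k
    induction k with
    | zero => intro hk; exact Nat.zero_le _
    | succ k ih =>
      intro hk
      have h1 := ih (by omega)
      have h2 : f ⟨k, by omega⟩ < f ⟨k+1, hk⟩ := hf (by simp [Fin.lt_def])
      have h3 : (f ⟨k, by omega⟩).val < (f ⟨k+1, hk⟩).val := h2
      omega
  have hle : ∀ s, τ.1 s ≤ w.1 s := fun s => (le_of_lt h) s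
  have hne : ∃ s, τ.1 s < w.1 s := by
    by_contra hcon
    push Not at hcon
    have : τ = w := Subtype.ext (funext fun s => le_antisymm (hle s) (hcon s))
    exact (ne_of_lt h) this
  obtain ⟨t, ht, hmin⟩ := (wellFounded_lt (α := Fin d)).has_min {s | τ.1 s < w.1 s} hne
  have ht' : (τ.1 t).val < (w.1 t).val := ht
  have heq : ∀ s, s < t → τ.1 s = w.1 s := fun s hs =>
    le_antisymm (hle s) (not_lt.mp (fun hlt => hmin s hlt hs))
  have hτt : t.val ≤ (τ.1 t).val := hge τ.1 τ.2 t.val t.isLt
  obtain ⟨v, hv⟩ : ∃ v : Fin n, v.val = (w.1 t).val - 1 :=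
    ⟨⟨(w.1 t).val - 1, by have := (w.1 t).isLt; omega⟩, rfl⟩
  obtain ⟨φfun, hφt, hφs⟩ : ∃ φfun : Fin d → Fin n, φfun t = v ∧ ∀ s, s ≠ t → φfun s = w.1 s :=
    ⟨fun s => if s = t then v else w.1 s, by simp, fun s hs => by simp [hs]⟩
  have hφ : StrictMono φfun := by
    intro a b hab
    by_cases ha : a = t
    · subst ha
      have hb : b ≠ a := ne_of_gt hab
      rw [hφt, hφs b hb, Fin.lt_def, hv]
      have : (w.1 a).val < (w.1 b).val := w.2 hab
      omega
    · by_cases hb : b = t
      · subst hb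
        rw [hφs a ha, hφt, Fin.lt_def, hv, ← heq a hab]
        have : (τ.1 a).val < (τ.1 b).val := τ.2 hab
        omega
      · rw [hφs a ha, hφs b hb]
        exact w.2 hab
  have hτφ : ∀ s, τ.1 s ≤ φfun s := by
    intro s
    by_cases hs : s = t
    · subst hs
      rw [hφt, Fin.le_def, hv]
      omega
    · rw [hφs s hs]; exact hle s
  have hφw : ∀ s, φfun s ≤ w.1 s := by
    intro s
    by_cases hs : s = t
    · subst hs
      rw [hφt, Fin.le_def, hv]
      omega
    · rw [hφs s hs]
  refine ⟨⟨φfun, hφ⟩, ⟨?_, ?_⟩, Subtype.coe_le_coe.mp (fun s => hτφ s)⟩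
  · rw [lt_iff_le_and_ne]
    refine ⟨Subtype.coe_le_coe.mp (fun s => hφw s), ?_⟩
    intro hcon
    have h1 : φfun t = w.1 t := congrFun (congrArg Subtype.val hcon) t
    rw [hφt] at h1
    have h2 : v.val = (w.1 t).val := congrArg Fin.val h1
    omega
  · unfold codeg
    rw [← Finset.add_sum_erase Finset.univ _ (Finset.mem_univ t),
      ← Finset.add_sum_erase Finset.univ (fun s => (w.1 s).val - s.val) (Finset.mem_univ t)]
    have e1 : ∑ s ∈ Finset.univ.erase t, ((φfun s).val - s.val)
        = ∑ s ∈ Finset.univ.erase t, ((w.1 s).val - s.val) := by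
      refine Finset.sum_congr rfl fun s hs => ?_
      rw [hφs s (Finset.ne_of_mem_erase hs)]
    show ((φfun t).val - t.val) + ∑ s ∈ Finset.univ.erase t, ((φfun s).val - s.val) + 1 = _
    rw [e1, hφt, hv]
    omega

end Groth.Agent.S11268
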