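import Groth.Statements.S11277
import Mathlib

set_option autoImplicit false
universe u v
open W4bk4grassmannian

namespace Groth.Agent.S11277

theorem indep {R : Type*} [CommRing R] {K : Type*} [CommSemiring K] [Algebra K R]
    (𝒜 : ℕ → Submodule K R) [GradedAlgebra 𝒜]
    (S : Finset ℕ) (d : ℕ → ℕ) (hd : Function.Injective d) (f : ℕ → R)
    (hf : ∀ i ∈ S, f i ∈ 𝒜 (d i))
    (h0 : ∑ i ∈ S, f i = 0) : ∀ i ∈ S, f i = 0 := by
  classical
  intro i₀ hi₀
  have h1 := congrArg (GradedRing.proj 𝒜 (d i₀)) h0
  rw [map_sum, map_zero] at h1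
  rw [Finset.sum_eq_single i₀] at h1
  · rwa [GradedRing.proj_apply, DirectSum.decompose_of_mem_same 𝒜 (hf i₀ hi₀)] at h1
  · intro j hj hne
    rw [GradedRing.proj_apply, DirectSum.decompose_of_mem_ne 𝒜 (hf j hj) (fun h => hne (hd h))]
  · intro h; exact absurd hi₀ h


/-- Let K be a field, R = ⊕_{i ≥ 0} R_i an ℕ-graded commutative K-algebra which is an integral domain,
and s ∈ R_e a homogeneous element of degree e > 0. Let R_(s) ⊆ R[1/s] be the homogeneous
localization (fractions f / s^k with f homogeneous of degree k e). Then the image of s in R[1/s] is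
transcendental over R_(s). -/
theorem result (K : Type u) [Field K] (R : Type v) [CommRing R]
    [IsDomain R] [Algebra K R] (𝒜 : ℕ → Submodule K R) [GradedAlgebra 𝒜] (e : ℕ) (he : 0 < e) (s : R)
    (hs : s ∈ 𝒜 e) :
    Transcendental (HomogeneousLocalization.Away 𝒜 s) (algebraMap R (Localization.Away s) s) := by
  classical
  by_cases hs0 : s = 0
  · haveI := HomogeneousLocalization.subsingleton 𝒜 (x := Submonoid.powers s) ⟨1, by simp [hs0]⟩
    haveI := Polynomial.subsingleton_iff_subsingleton.mpr this
    rintro ⟨p, hp, -⟩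
    exact hp (Subsingleton.elim _ _)
  · rintro ⟨p, hp, hpe⟩
    apply hp
    obtain ⟨σ, hσ⟩ : ∃ σ, σ = algebraMap R (Localization.Away s) s := ⟨_, rfl⟩
    rw [← hσ] at hpe
    have hσu : IsUnit σ := by rw [hσ]; exact IsLocalization.Away.algebraMap_isUnit s
    have key : ∀ i, ∃ (k : ℕ) (a : R), a ∈ 𝒜 (k • e) ∧
        (p.coeff i).val * σ ^ k = algebraMap R (Localization.Away s) a := by
      intro i
      obtain ⟨k, a, ha, hk⟩ := HomogeneousLocalization.Away.mk_surjective 𝒜 hs (p.coeff i)
      refine ⟨k, a, ha, ?_⟩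
      rw [← hk, HomogeneousLocalization.Away.val_mk, Localization.mk_eq_mk', hσ, ← map_pow]
      exact IsLocalization.mk'_spec _ _ _
    choose kf af haf hkf using key
    obtain ⟨N, hN⟩ : ∃ N, N = ∑ i ∈ Finset.range (p.natDegree + 1), kf i := ⟨_, rfl⟩
    have hkN : ∀ i ∈ Finset.range (p.natDegree + 1), kf i ≤ N := by
      intro i hi
      rw [hN]
      exact Finset.single_le_sum (fun _ _ => Nat.zero_le _) hi
    have h1 : ∑ i ∈ Finset.range (p.natDegree + 1), (p.coeff i).val * σ ^ i = 0 := by
      have := hpe
      rw [Polynomial.aeval_eq_sum_range] at this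
      simpa only [Algebra.smul_def, HomogeneousLocalization.algebraMap_apply] using this
    have h2 : algebraMap R (Localization.Away s)
        (∑ i ∈ Finset.range (p.natDegree + 1), af i * s ^ (N - kf i + i)) = 0 := by
      rw [map_sum]
      have : ∑ i ∈ Finset.range (p.natDegree + 1),
          algebraMap R (Localization.Away s) (af i * s ^ (N - kf i + i)) =
          σ ^ N * ∑ i ∈ Finset.range (p.natDegree + 1), (p.coeff i).val * σ ^ i := by
        rw [Finset.mul_sum]
        refine Finset.sum_congr rfl fun i hi => ?_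
        rw [map_mul, map_pow, ← hσ, ← hkf i, pow_add]
        have hh : σ ^ N = σ ^ kf i * σ ^ (N - kf i) := by
          rw [← pow_add, Nat.add_sub_cancel' (hkN i hi)]
        rw [hh]; ring
      rw [this, h1, mul_zero]
    obtain ⟨⟨m, j, rfl⟩, hm⟩ := (IsLocalization.map_eq_zero_iff (Submonoid.powers s) _ _).mp h2
    have h3 : ∑ i ∈ Finset.range (p.natDegree + 1), af i * s ^ (N - kf i + i) = 0 := by
      rcases mul_eq_zero.mp hm with h | h
      · exact absurd h (pow_ne_zero j hs0)
      · exact h
    have h4 : ∀ i ∈ Finset.range (p.natDegree + 1), af i * s ^ (N - kf i + i) = 0 := by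
      refine indep 𝒜 _ (fun i => (N + i) • e) ?_ (fun i => af i * s ^ (N - kf i + i)) ?_ h3
      · intro a b hab
        have h' : (N + a) * e = (N + b) * e := hab
        have := Nat.eq_of_mul_eq_mul_right he h'
        omega
      · intro i hi
        have hmem : af i * s ^ (N - kf i + i) ∈ 𝒜 (kf i • e + (N - kf i + i) • e) :=
          SetLike.mul_mem_graded (haf i) (SetLike.pow_mem_graded _ hs)
        have hidx : kf i • e + (N - kf i + i) • e = (N + i) • e := by
          rw [← add_smul]; congr 1; have := hkN i hi; omega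
        show af i * s ^ (N - kf i + i) ∈ 𝒜 ((N + i) • e)
        rw [← hidx]; exact hmem
    have h5 : ∀ i ∈ Finset.range (p.natDegree + 1), p.coeff i = 0 := by
      intro i hi
      have hafi : af i = 0 := by
        rcases mul_eq_zero.mp (h4 i hi) with h | h
        · exact h
        · exact absurd h (pow_ne_zero _ hs0)
      have hv : (p.coeff i).val * σ ^ kf i = 0 := by rw [hkf i, hafi, map_zero]
      have hv2 : (p.coeff i).val = 0 := (hσu.pow _).mul_left_eq_zero.mp hv
      exact HomogeneousLocalization.val_injective _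
        (by rw [hv2, HomogeneousLocalization.val_zero])
    refine Polynomial.ext fun i => ?_
    rw [Polynomial.coeff_zero]
    by_cases hi : i ∈ Finset.range (p.natDegree + 1)
    · exact h5 i hi
    · apply Polynomial.coeff_eq_zero_of_natDegree_lt
      simp only [Finset.mem_range] at hi; omega

end Groth.Agent.S11277
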