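import Groth.Statements.S11288
import Mathlib
import Groth.Agent.S12644

set_option autoImplicit false
universe u
open Deform

namespace Groth.Agent.S11288

/-- Let K be a field, R' a local Artinian K-algebra with residue field K, and t a nonzero element of the
maximal ideal m' of R' with m' t = 0, so that R' → R = R'/(t) is a small extension of R. Then the
extension is trivial, i.e. the projection admits a section which is a K-algebra map, if and only if
t is not in m'^2; equivalently, iff the surjection m'/m'^2 → m_R/m_R^2 induced on cotangent spaces,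
whose kernel is spanned by the class of t, is not bijective. For instance K[t]/(t^(n+1)) →
K[t]/(t^n) is a non-trivial small extension for n ≥ 2. (The published example allows any local
K-algebra with residue field K; the row takes R' Artinian, the case in which the subalgebra
generated by lifts of a basis of the cotangent space maps onto R.) -/
theorem result
    {K : Type u} [Field K]
    {R' : Type u} [CommRing R'] [Algebra K R'] [IsLocalRing R'] [IsArtinianRing R']
    (hres : ∀ a : R', ∃ c : K, a - algebraMap K R' c ∈ IsLocalRing.maximalIdeal R')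
    (t : R') (ht : t ∈ IsLocalRing.maximalIdeal R') (ht0 : t ≠ 0)
    (htm : ∀ a ∈ IsLocalRing.maximalIdeal R', a * t = 0) :
    (∃ s : (R' ⧸ Ideal.span {t}) →ₐ[K] R', ∀ x, Ideal.Quotient.mk (Ideal.span {t}) (s x) = x) ↔
      t ∉ IsLocalRing.maximalIdeal R' ^ 2 := by
  classical
  have htt : t * t = 0 := htm t ht
  constructor
  · rintro ⟨s, hs⟩ hsq
    let π := Ideal.Quotient.mkₐ K (Ideal.span ({t} : Set R'))
    have hπ : ∀ a, π a = Ideal.Quotient.mk _ a := fun a => rfl
    let e : R' →ₐ[K] R' := s.comp π
    have he : ∀ a, ∃ x, e a = a + x * t := by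
      intro a
      have h1 : Ideal.Quotient.mk (Ideal.span ({t} : Set R')) (e a) = Ideal.Quotient.mk _ a :=
        hs (π a)
      rw [Ideal.Quotient.eq, Ideal.mem_span_singleton'] at h1
      obtain ⟨x, hx⟩ := h1
      exact ⟨x, by rw [hx]; ring⟩
    have hprod : ∀ a ∈ IsLocalRing.maximalIdeal R', ∀ b ∈ IsLocalRing.maximalIdeal R',
        e (a * b) = a * b := by
      intro a ha b hb
      obtain ⟨x, hx⟩ := he a
      obtain ⟨y, hy⟩ := he b
      rw [map_mul, hx, hy]
      have h1 := htm a ha
      have h2 := htm b hb
      calc (a + x * t) * (b + y * t)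
          = a * b + y * (a * t) + x * (b * t) + x * y * (t * t) := by ring
        _ = a * b := by rw [h1, h2, htt]; ring
    have hfix : ∀ z ∈ IsLocalRing.maximalIdeal R' * IsLocalRing.maximalIdeal R', e z = z := by
      intro z hz
      have hz' : z ∈ IsLocalRing.maximalIdeal R' • IsLocalRing.maximalIdeal R' := hz
      refine Submodule.smul_induction_on hz' ?_ ?_
      · intro a ha b hb
        exact hprod a ha b hb
      · intro x y hx hy
        rw [map_add, hx, hy]
    have h0 : e t = 0 := by
      show s (π t) = 0
      have h3 : π t = 0 := by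
        rw [hπ]
        exact Ideal.Quotient.eq_zero_iff_mem.mpr (Ideal.subset_span rfl)
      rw [h3, map_zero]
    have h4 := hfix t (by rwa [pow_two] at hsq)
    rw [h0] at h4
    exact ht0 h4.symm
  · intro hsq
    have hsurj : Function.Surjective (algebraMap K (IsLocalRing.ResidueField R')) := by
      intro y
      obtain ⟨a, rfl⟩ := IsLocalRing.residue_surjective y
      obtain ⟨c, hc⟩ := hres a
      refine ⟨c, ?_⟩
      have h1 : IsLocalRing.residue R' (a - algebraMap K R' c) = 0 :=
        (IsLocalRing.residue_eq_zero_iff _).mpr hc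
      rw [map_sub, sub_eq_zero] at h1
      rw [h1]
      exact IsScalarTower.algebraMap_apply K R' (IsLocalRing.ResidueField R') c
    let τ : IsLocalRing.CotangentSpace R' := (IsLocalRing.maximalIdeal R').toCotangent ⟨t, ht⟩
    have hτ : τ ≠ 0 := by
      intro h
      rw [Ideal.toCotangent_eq_zero] at h
      exact hsq h
    obtain ⟨φ0, hφ0⟩ : ∃ φ0 : Module.Dual K (IsLocalRing.CotangentSpace R'), φ0 τ ≠ 0 := by
      by_contra hcon
      push_neg at hcon
      exact hτ ((Module.forall_dual_apply_eq_zero_iff K τ).mp hcon)
    let ℓ : Module.Dual K (IsLocalRing.CotangentSpace R') := (φ0 τ)⁻¹ • φ0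
    have hℓ : ℓ τ = 1 := by
      show (φ0 τ)⁻¹ • φ0 τ = 1
      rw [smul_eq_mul, inv_mul_cancel₀ hφ0]
    obtain ⟨φ, ⟨hφ1, hφ2⟩, -⟩ := Groth.Agent.S12644.result K R' hsurj ℓ
    have hcmem : ∀ a, a - algebraMap K R' (TrivSqZeroExt.fst (φ a)) ∈
        IsLocalRing.maximalIdeal R' := by
      intro a
      rw [← IsLocalRing.residue_eq_zero_iff, map_sub, sub_eq_zero, ← hφ1 a]
      exact IsScalarTower.algebraMap_apply K R' (IsLocalRing.ResidueField R') _
    have hat : ∀ a, a * t = algebraMap K R' (TrivSqZeroExt.fst (φ a)) * t := by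
      intro a
      have h1 := htm _ (hcmem a)
      rw [sub_mul, sub_eq_zero] at h1
      exact h1
    have hdmul : ∀ a b, TrivSqZeroExt.snd (φ (a * b)) =
        TrivSqZeroExt.fst (φ a) * TrivSqZeroExt.snd (φ b) +
          TrivSqZeroExt.fst (φ b) * TrivSqZeroExt.snd (φ a) := by
      intro a b
      rw [map_mul, TrivSqZeroExt.snd_mul, smul_eq_mul, MulOpposite.smul_eq_mul_unop,
        MulOpposite.unop_op, mul_comm (TrivSqZeroExt.snd (φ a))]
    have hdt : TrivSqZeroExt.snd (φ t) = 1 := (hφ2 ⟨t, ht⟩).trans hℓ
    let e : R' →ₐ[K] R' :=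
      { toFun := fun a => a - TrivSqZeroExt.snd (φ a) • t
        map_one' := by
          show (1 : R') - TrivSqZeroExt.snd (φ 1) • t = 1
          rw [map_one, TrivSqZeroExt.snd_one, zero_smul, sub_zero]
        map_mul' := by
          intro a b
          show a * b - TrivSqZeroExt.snd (φ (a * b)) • t =
            (a - TrivSqZeroExt.snd (φ a) • t) * (b - TrivSqZeroExt.snd (φ b) • t)
          have h1 := hat a
          have h2 := hat b
          rw [hdmul]
          simp only [Algebra.smul_def, map_add, map_mul]
          linear_combination (algebraMap K R' (TrivSqZeroExt.snd (φ b))) * h1 +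
            (algebraMap K R' (TrivSqZeroExt.snd (φ a))) * h2 -
            (algebraMap K R' (TrivSqZeroExt.snd (φ a)) *
              algebraMap K R' (TrivSqZeroExt.snd (φ b))) * htt
        map_zero' := by
          show (0 : R') - TrivSqZeroExt.snd (φ 0) • t = 0
          rw [map_zero, TrivSqZeroExt.snd_zero, zero_smul, sub_zero]
        map_add' := by
          intro a b
          show a + b - TrivSqZeroExt.snd (φ (a + b)) • t =
            (a - TrivSqZeroExt.snd (φ a) • t) + (b - TrivSqZeroExt.snd (φ b) • t)
          rw [map_add, TrivSqZeroExt.snd_add, add_smul]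
          abel
        commutes' := by
          intro r
          show algebraMap K R' r - TrivSqZeroExt.snd (φ (algebraMap K R' r)) • t =
            algebraMap K R' r
          rw [AlgHom.commutes, TrivSqZeroExt.algebraMap_eq_inl, TrivSqZeroExt.snd_inl,
            zero_smul, sub_zero] }
    have het : e t = 0 := by
      show t - TrivSqZeroExt.snd (φ t) • t = 0
      rw [hdt, one_smul, sub_self]
    have he0 : ∀ z ∈ Ideal.span ({t} : Set R'), e z = 0 := by
      intro z hz
      obtain ⟨x, rfl⟩ := Ideal.mem_span_singleton'.mp hz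
      rw [map_mul, het, mul_zero]
    refine ⟨Ideal.Quotient.liftₐ (Ideal.span ({t} : Set R')) e he0, ?_⟩
    intro x
    obtain ⟨a, rfl⟩ := Ideal.Quotient.mk_surjective x
    rw [Ideal.Quotient.liftₐ_apply, Ideal.Quotient.lift_mk]
    show Ideal.Quotient.mk _ (a - TrivSqZeroExt.snd (φ a) • t) = Ideal.Quotient.mk _ a
    rw [Ideal.Quotient.eq]
    have h5 : a - TrivSqZeroExt.snd (φ a) • t - a =
        - (algebraMap K R' (TrivSqZeroExt.snd (φ a)) * t) := by
      rw [Algebra.smul_def]
      ring
    rw [h5]
    exact (Ideal.neg_mem_iff _).mpr (Ideal.mul_mem_left _ _ (Ideal.subset_span rfl))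

end Groth.Agent.S11288
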