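import Groth.Statements.S11294
import Mathlib

set_option autoImplicit false
universe u
open Deform

namespace Groth.Agent.S11294


section Helpers
open TrivSqZeroExt
variable {P : Type u} [CommRing P]

theorem L1 (x : DualNumber P) : (DualNumber.eps : DualNumber P) * x = inr x.fst := by
  apply TrivSqZeroExt.ext <;> simp [DualNumber.fst_eps, DualNumber.snd_eps]

theorem L2 (c a b : P) : (inl c : DualNumber P) * (inl a + inr b) = inl (c * a) + inr (c * b) := by
  apply TrivSqZeroExt.ext <;> simp

theorem L3 (a₁ b₁ a₂ b₂ : P) : ((inl a₁ + inr b₁) + (inl a₂ + inr b₂) : DualNumber P) =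
    inl (a₁ + a₂) + inr (b₁ + b₂) := by
  apply TrivSqZeroExt.ext <;> simp <;> ring

theorem L4 (a b b' : P) : ((inl a + inr b) - (inl a + inr b') : DualNumber P) = inr (b - b') := by
  apply TrivSqZeroExt.ext <;> simp

theorem L5 (x : DualNumber P) (a' : P) :
    x - (DualNumber.eps : DualNumber P) * inl a' = inl x.fst + inr (x.snd - a') := by
  apply TrivSqZeroExt.ext <;> simp [DualNumber.fst_eps, DualNumber.snd_eps]

theorem L6 (c : P) (y : DualNumber P) :
    ((inl c : DualNumber P) - (DualNumber.eps : DualNumber P) * y).fst = c := by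
  simp [DualNumber.fst_eps]

theorem L7 (a b₀ b : P) : (inl a + inr b : DualNumber P) = (inl a + inr b₀) + inr (b - b₀) := by
  apply TrivSqZeroExt.ext <;> simp

theorem Lfst (a b : P) : (inl a + inr b : DualNumber P).fst = a := by simp

theorem Lsnd (a b : P) : (inl a + inr b : DualNumber P).snd = b := by simp

/-- the ideal attached to `φ` -/
def idealOf (J : Ideal P) (φ : J →ₗ[P] (P ⧸ J)) : Ideal (DualNumber P) where
  carrier := {x | ∃ h : x.fst ∈ J, Ideal.Quotient.mk J x.snd = φ ⟨x.fst, h⟩}
  add_mem' := by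
    rintro x y ⟨hx, ex⟩ ⟨hy, ey⟩
    refine ⟨by rw [TrivSqZeroExt.fst_add]; exact J.add_mem hx hy, ?_⟩
    have h1 : (⟨(x + y).fst, by rw [TrivSqZeroExt.fst_add]; exact J.add_mem hx hy⟩ : J) =
        ⟨x.fst, hx⟩ + ⟨y.fst, hy⟩ := Subtype.ext (TrivSqZeroExt.fst_add x y)
    rw [h1, map_add, ← ex, ← ey, TrivSqZeroExt.snd_add, map_add]
  zero_mem' := by
    have h0 : (0 : DualNumber P).fst = 0 := rfl
    have hJ : (0 : DualNumber P).fst ∈ J := by rw [h0]; exact J.zero_mem
    refine ⟨hJ, ?_⟩
    have h1 : (⟨(0 : DualNumber P).fst, hJ⟩ : J) = 0 := Subtype.ext h0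
    have h2 : (0 : DualNumber P).snd = 0 := rfl
    rw [h1, map_zero, h2, map_zero]
  smul_mem' := by
    rintro c x ⟨hx, ex⟩
    have hf : (c • x).fst = c.fst * x.fst := by simp
    have hs : (c • x).snd = c.fst * x.snd + c.snd * x.fst := by
      simp [mul_comm]
    refine ⟨by rw [hf]; exact J.mul_mem_left _ hx, ?_⟩
    have h1 : (⟨(c • x).fst, by rw [hf]; exact J.mul_mem_left _ hx⟩ : J) =
        c.fst • ⟨x.fst, hx⟩ := Subtype.ext hf
    have h2 : Ideal.Quotient.mk J (c.snd * x.fst) = 0 :=
      Ideal.Quotient.eq_zero_iff_mem.2 (J.mul_mem_left _ hx)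
    rw [h1, map_smul, ← ex, hs, map_add, h2, add_zero, map_mul]
    rfl

theorem mem_idealOf (J : Ideal P) (φ : J →ₗ[P] (P ⧸ J)) (a b : P) :
    (inl a + inr b : DualNumber P) ∈ idealOf J φ ↔
      ∃ h : a ∈ J, Ideal.Quotient.mk J b = φ ⟨a, h⟩ := by
  constructor
  · rintro ⟨h, e⟩
    have h' : a ∈ J := by rw [← Lfst a b]; exact h
    refine ⟨h', ?_⟩
    have h1 : (⟨a, h'⟩ : J) = ⟨(inl a + inr b : DualNumber P).fst, h⟩ :=
      Subtype.ext (Lfst a b).symm
    rw [h1, ← e, Lsnd]
  · rintro ⟨h, e⟩
    have h' : (inl a + inr b : DualNumber P).fst ∈ J := by rw [Lfst a b]; exact h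
    refine ⟨h', ?_⟩
    have h1 : (⟨(inl a + inr b : DualNumber P).fst, h'⟩ : J) = ⟨a, h⟩ :=
      Subtype.ext (Lfst a b)
    rw [h1, ← e, Lsnd]

end Helpers


open TrivSqZeroExt in
/-- Let P be a commutative ring, J an ideal, and P[ε] the ring of dual numbers over P. First-order
embedded deformations of Spec(P/J) in Spec P, namely ideals J' of P[ε] lifting J (the image of J'
under ε ↦ 0 is J) with P[ε]/J' flat over the dual numbers — flatness being replaced by the condition
that every element of P[ε]/J' annihilated by ε is a multiple of ε (equivalent to flatness over k[ε]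
when P is an algebra over a field k) — are in canonical bijection with Hom_P(J, P/J) =
Hom_{P/J}(J/J^2, P/J), the normal module: to φ corresponds the ideal of all a + εb with a in J and b
reducing to φ(a) modulo J. The first clause says this rule defines exactly one ideal for each φ; the
second says an ideal J' is a flat lift of J precisely when its membership is given by this rule for
some φ. (The published statement is the global one, identifying first-order deformations of a closed
subscheme X of an algebraic scheme Y with H^0(X, N_{X/Y}); this row is the affine computation in its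
proof, valid for every commutative ring P.) -/
theorem result (P : Type u) [CommRing P] (J : Ideal P) :
    (∀ φ : J →ₗ[P] (P ⧸ J), ∃! J' : Ideal (DualNumber P),
        ∀ a b : P, (inl a + inr b : DualNumber P) ∈ J' ↔ ∃ h : a ∈ J, Ideal.Quotient.mk J b = φ ⟨a, h⟩) ∧
    (∀ J' : Ideal (DualNumber P),
      (J'.map (TrivSqZeroExt.fstHom P P P) = J ∧
        ∀ m : DualNumber P ⧸ J', Ideal.Quotient.mk J' DualNumber.eps * m = 0 →
          ∃ m' : DualNumber P ⧸ J', m = Ideal.Quotient.mk J' DualNumber.eps * m') ↔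
      ∃ φ : J →ₗ[P] (P ⧸ J), ∀ a b : P,
        (inl a + inr b : DualNumber P) ∈ J' ↔ ∃ h : a ∈ J, Ideal.Quotient.mk J b = φ ⟨a, h⟩) := by
  classical
  have hext : ∀ (φ : J →ₗ[P] (P ⧸ J)) (J₁ J₂ : Ideal (DualNumber P)),
      (∀ a b : P, (inl a + inr b : DualNumber P) ∈ J₁ ↔
        ∃ h : a ∈ J, Ideal.Quotient.mk J b = φ ⟨a, h⟩) →
      (∀ a b : P, (inl a + inr b : DualNumber P) ∈ J₂ ↔
        ∃ h : a ∈ J, Ideal.Quotient.mk J b = φ ⟨a, h⟩) → J₁ = J₂ := by
    intro φ J₁ J₂ h₁ h₂
    ext x
    rw [← TrivSqZeroExt.inl_fst_add_inr_snd_eq x, h₁, h₂]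
  refine ⟨?_, ?_⟩
  · intro φ
    refine ⟨idealOf J φ, mem_idealOf J φ, ?_⟩
    intro J₂ h₂
    exact hext φ J₂ (idealOf J φ) h₂ (mem_idealOf J φ)
  · intro J'
    have hfsurj : Function.Surjective (TrivSqZeroExt.fstHom P P P) :=
      fun a => ⟨inl a, TrivSqZeroExt.fst_inl P a⟩
    constructor
    · rintro ⟨hmap, htors⟩
      -- W : inr c ∈ J' → c ∈ J
      have W : ∀ c : P, (inr c : DualNumber P) ∈ J' → c ∈ J := by
        intro c hc
        have h0 : Ideal.Quotient.mk J' DualNumber.eps * Ideal.Quotient.mk J' (inl c) = 0 := by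
          rw [← map_mul, L1, TrivSqZeroExt.fst_inl]
          exact Ideal.Quotient.eq_zero_iff_mem.2 hc
        obtain ⟨m', hm'⟩ := htors _ h0
        obtain ⟨y, rfl⟩ := Ideal.Quotient.mk_surjective m'
        rw [← map_mul, Ideal.Quotient.eq] at hm'
        have h1 := Ideal.mem_map_of_mem (TrivSqZeroExt.fstHom P P P) hm'
        rw [hmap] at h1
        have h2 : (TrivSqZeroExt.fstHom P P P) ((inl c : DualNumber P) - DualNumber.eps * y) = c :=
          L6 c y
        rw [h2] at h1
        exact h1
      have hex : ∀ a : J, ∃ b : P, (inl (a : P) + inr b : DualNumber P) ∈ J' := by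
        rintro ⟨a, ha⟩
        rw [← hmap, Ideal.mem_map_iff_of_surjective _ hfsurj] at ha
        obtain ⟨x, hx, hxa⟩ := ha
        refine ⟨x.snd, ?_⟩
        have h1 : x.fst = a := hxa
        show (inl a + inr x.snd : DualNumber P) ∈ J'
        rw [← h1, TrivSqZeroExt.inl_fst_add_inr_snd_eq]
        exact hx
      have V : ∀ j : P, j ∈ J → (inr j : DualNumber P) ∈ J' := by
        intro j hj
        obtain ⟨b, hb⟩ := hex ⟨j, hj⟩
        have h1 := J'.mul_mem_left DualNumber.eps hb
        rw [L1, Lfst] at h1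
        exact h1
      have hwd : ∀ a b b' : P, (inl a + inr b : DualNumber P) ∈ J' →
          (inl a + inr b' : DualNumber P) ∈ J' → Ideal.Quotient.mk J b = Ideal.Quotient.mk J b' := by
        intro a b b' hb hb'
        rw [Ideal.Quotient.eq]
        apply W
        rw [← L4 a b b']
        exact J'.sub_mem hb hb'
      choose β hβ using hex
      let φ : J →ₗ[P] (P ⧸ J) :=
        { toFun := fun a => Ideal.Quotient.mk J (β a)
          map_add' := by
            intro a₁ a₂
            rw [← map_add]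
            apply hwd ((a₁ + a₂ : J) : P) _ _ (hβ (a₁ + a₂))
            have h1 := J'.add_mem (hβ a₁) (hβ a₂)
            rw [L3] at h1
            exact h1
          map_smul' := by
            intro c a
            rw [RingHom.id_apply, Algebra.smul_def, Ideal.Quotient.algebraMap_eq, ← map_mul]
            apply hwd ((c • a : J) : P) _ _ (hβ (c • a))
            have h1 := J'.mul_mem_left (inl c) (hβ a)
            rw [L2] at h1
            exact h1 }
      refine ⟨φ, ?_⟩
      intro a b
      constructor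
      · intro hab
        have ha : a ∈ J := by
          have h1 := Ideal.mem_map_of_mem (TrivSqZeroExt.fstHom P P P) hab
          rw [hmap] at h1
          have h2 : (TrivSqZeroExt.fstHom P P P) (inl a + inr b : DualNumber P) = a := Lfst a b
          rw [h2] at h1
          exact h1
        exact ⟨ha, hwd a b (β ⟨a, ha⟩) hab (hβ ⟨a, ha⟩)⟩
      · rintro ⟨ha, e⟩
        have h1 : b - β ⟨a, ha⟩ ∈ J := by
          rw [← Ideal.Quotient.eq]; exact e
        rw [L7 a (β ⟨a, ha⟩) b]
        exact J'.add_mem (hβ ⟨a, ha⟩) (V _ h1)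
    · rintro ⟨φ, hφ⟩
      constructor
      · ext a
        rw [Ideal.mem_map_iff_of_surjective _ hfsurj]
        constructor
        · rintro ⟨x, hx, rfl⟩
          rw [← TrivSqZeroExt.inl_fst_add_inr_snd_eq x, hφ] at hx
          exact hx.1
        · intro ha
          obtain ⟨b, hb⟩ := Ideal.Quotient.mk_surjective (φ ⟨a, ha⟩)
          exact ⟨inl a + inr b, (hφ a b).2 ⟨ha, hb⟩, Lfst a b⟩
      · intro m hm
        obtain ⟨x, rfl⟩ := Ideal.Quotient.mk_surjective m
        rw [← map_mul, Ideal.Quotient.eq_zero_iff_mem, L1] at hm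
        have h0 : (inr x.fst : DualNumber P) = inl 0 + inr x.fst := by
          apply TrivSqZeroExt.ext <;> simp
        rw [h0, hφ] at hm
        obtain ⟨h00, e0⟩ := hm
        have h1 : (⟨0, h00⟩ : J) = 0 := rfl
        rw [h1, map_zero, Ideal.Quotient.eq_zero_iff_mem] at e0
        obtain ⟨a', ha'⟩ := Ideal.Quotient.mk_surjective
          (Ideal.Quotient.mk J x.snd - φ ⟨x.fst, e0⟩)
        refine ⟨Ideal.Quotient.mk J' (inl a'), ?_⟩
        rw [← map_mul, Ideal.Quotient.eq, L5, hφ]
        refine ⟨e0, ?_⟩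
        rw [map_sub, ha', sub_sub_cancel]

end Groth.Agent.S11294
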