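import Groth.Statements.S11302
import Mathlib
import Groth.Agent.Lib.helper6.RegSeq

set_option autoImplicit false
universe u
open Deform

namespace Groth.Agent.S11302

section aux
variable {A : Type*} [CommRing A] {n : ℕ} (x : Fin n → A)

theorem smul_quot (I : Ideal A) (r : A) (b : A ⧸ I) : r • b = Ideal.Quotient.mk I r * b := by
  obtain ⟨b', rfl⟩ := Ideal.Quotient.mk_surjective b
  rfl

theorem ev_inj {M : Type*} [AddCommGroup M] [Module A M]
    (φ : ↥(Ideal.span (Set.range x)) →ₗ[A] M)
    (h : ∀ i, φ ⟨x i, Ideal.subset_span (Set.mem_range_self i)⟩ = 0) : φ = 0 := by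
  ext z
  obtain ⟨c, hc⟩ := Ideal.mem_span_range_iff_exists_fun.1 z.2
  have hz : z = ∑ i, c i • (⟨x i, Ideal.subset_span (Set.mem_range_self i)⟩ :
      ↥(Ideal.span (Set.range x))) := by
    apply Subtype.ext; rw [← hc]; simp
  rw [hz, map_sum]
  refine Finset.sum_eq_zero fun i _ => ?_
  rw [map_smul, h, smul_zero]

theorem ev_surj (hreg : RingTheory.Sequence.IsWeaklyRegular A (List.ofFn x))
    (t : Fin n → A ⧸ Ideal.span (Set.range x)) :
    ∃ φ : ↥(Ideal.span (Set.range x)) →ₗ[A] (A ⧸ Ideal.span (Set.range x)),
      ∀ i, φ ⟨x i, Ideal.subset_span (Set.mem_range_self i)⟩ = t i := by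
  let π : (Fin n → A) →ₗ[A] A :=
    { toFun := fun a => ∑ i, a i * x i
      map_add' := by intro a b; simp [add_mul, Finset.sum_add_distrib]
      map_smul' := by intro r a; simp [Finset.mul_sum, mul_assoc] }
  let π' : (Fin n → A) →ₗ[A] ↥(Ideal.span (Set.range x)) :=
    π.codRestrict (Ideal.span (Set.range x)) (fun a =>
      show ∑ i, a i * x i ∈ Ideal.span (Set.range x) from Ideal.sum_mem _ fun i _ => Ideal.mul_mem_left _ _ (Ideal.subset_span (Set.mem_range_self i)))
  have hsurj : Function.Surjective π' := by
    intro z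
    obtain ⟨c, hc⟩ := Ideal.mem_span_range_iff_exists_fun.1 z.2
    exact ⟨c, Subtype.ext hc⟩
  let τ : (Fin n → A) →ₗ[A] (A ⧸ Ideal.span (Set.range x)) :=
    { toFun := fun a => ∑ i, a i • t i
      map_add' := by intro a b; simp [add_smul, Finset.sum_add_distrib]
      map_smul' := by intro r a; simp [Finset.smul_sum, mul_smul] }
  have hker : LinearMap.ker π' ≤ LinearMap.ker τ := by
    intro a ha
    rw [LinearMap.mem_ker] at ha ⊢
    have h0 : ∑ i, a i * x i = 0 := congrArg Subtype.val ha
    show ∑ i, a i • t i = 0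
    refine Finset.sum_eq_zero fun i _ => ?_
    have hi := H6Reg.coeff_mem x hreg a h0 i
    rw [Algebra.smul_def, Ideal.Quotient.algebraMap_eq, Ideal.Quotient.eq_zero_iff_mem.2 hi,
      zero_mul]
  let E := π'.quotKerEquivOfSurjective hsurj
  refine ⟨(Submodule.liftQ (LinearMap.ker π') τ hker) ∘ₗ E.symm.toLinearMap, fun i => ?_⟩
  have h1 : E (Submodule.Quotient.mk (Pi.single i 1)) =
      ⟨x i, Ideal.subset_span (Set.mem_range_self i)⟩ := by
    rw [LinearMap.quotKerEquivOfSurjective_apply_mk]
    apply Subtype.ext
    show ∑ j, (Pi.single i (1:A) : Fin n → A) j * x j = x i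
    simp [Pi.single_apply]
  rw [← h1]
  simp only [LinearMap.comp_apply, LinearEquiv.coe_toLinearMap, LinearEquiv.symm_apply_apply,
    Submodule.liftQ_apply]
  show ∑ j, (Pi.single i (1:A) : Fin n → A) j • t j = t i
  simp [Pi.single_apply]

open MvPolynomial in
theorem der_formula {σ : Type*} [Fintype σ] [DecidableEq σ] {R : Type*} [CommRing R]
    {M : Type*} [AddCommGroup M] [Module R M] [Module (MvPolynomial σ R) M]
    [IsScalarTower R (MvPolynomial σ R) M]
    (D : Derivation R (MvPolynomial σ R) M) (p : MvPolynomial σ R) :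
    D p = ∑ j, pderiv j p • D (X j) := by
  induction p using MvPolynomial.induction_on with
  | C a => simp [MvPolynomial.derivation_C]
  | add p q hp hq =>
    rw [map_add, hp, hq, ← Finset.sum_add_distrib]
    refine Finset.sum_congr rfl fun j _ => ?_
    rw [map_add, add_smul]
  | mul_X p i hp =>
    rw [Derivation.leibniz]
    have h1 : ∀ j : σ, pderiv j (p * X i) • D (X j) =
        (X i : MvPolynomial σ R) • (pderiv j p • D (X j)) +
          p • ((if i = j then (1 : MvPolynomial σ R) else 0) • D (X j)) := by
      intro j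
      have hX : pderiv j (X i : MvPolynomial σ R) = if i = j then 1 else 0 := by
        split_ifs with hij
        · subst hij; exact pderiv_X_self _
        · exact pderiv_X_of_ne hij
      rw [Derivation.leibniz, hX, add_smul, smul_eq_mul, smul_eq_mul,
        mul_smul, mul_smul]
      exact add_comm _ _
    rw [Finset.sum_congr rfl (fun j _ => h1 j), Finset.sum_add_distrib, ← Finset.smul_sum,
      ← Finset.smul_sum, ← hp]
    simp only [ite_smul, one_smul, zero_smul, Finset.sum_ite_eq, Finset.mem_univ, if_true]
    exact add_comm _ _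

end aux


open MvPolynomial in
/-- T^1 of a complete intersection; the hypersurface case P/(f, ∂f/∂X_1, ..., ∂f/∂X_d) is n = 1: let k
be an algebraically closed field, P = k[X_1, ..., X_d], f_1, ..., f_n a regular sequence in P (each
f_i a non-zero-divisor modulo the preceding ones), J the ideal they generate and B = P/J. The first
cotangent module T^1_B — the cokernel of Der_k(P, B) → Hom_P(J, B), a derivation being restricted to
J — is isomorphic, as a P-module, to B^n modulo the B-submodule generated by the d columns
(∂f_1/∂X_j, ..., ∂f_n/∂X_j), j = 1, ..., d, of the Jacobian matrix reduced modulo J, through the map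
sending the class of φ : J → B to the class of (φ(f_1), ..., φ(f_n)). (The published formula allows
P to be a localisation of the polynomial ring; this row takes the polynomial ring.) -/
theorem result (k : Type u) [Field k] [IsAlgClosed k] (d n : ℕ)
    (f : Fin n → MvPolynomial (Fin d) k) (hreg : RingTheory.Sequence.IsWeaklyRegular (MvPolynomial (Fin d) k) (List.ofFn f)) :
    ∃ e : ((↥(Ideal.span (Set.range f)) →ₗ[MvPolynomial (Fin d) k] (MvPolynomial (Fin d) k ⧸ Ideal.span (Set.range f))) ⧸
            Submodule.span (MvPolynomial (Fin d) k)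
              {ψ : ↥(Ideal.span (Set.range f)) →ₗ[MvPolynomial (Fin d) k] (MvPolynomial (Fin d) k ⧸ Ideal.span (Set.range f)) |
                ∃ D : Derivation k (MvPolynomial (Fin d) k) (MvPolynomial (Fin d) k ⧸ Ideal.span (Set.range f)), ∀ a : ↥(Ideal.span (Set.range f)), ψ a = D (a : MvPolynomial (Fin d) k)}) ≃ₗ[MvPolynomial (Fin d) k]
          ((Fin n → MvPolynomial (Fin d) k ⧸ Ideal.span (Set.range f)) ⧸
            Submodule.span (MvPolynomial (Fin d) k ⧸ Ideal.span (Set.range f))
              (Set.range fun j : Fin d => fun i : Fin n => Ideal.Quotient.mk (Ideal.span (Set.range f)) (pderiv j (f i)))),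
      ∀ φ : ↥(Ideal.span (Set.range f)) →ₗ[MvPolynomial (Fin d) k] (MvPolynomial (Fin d) k ⧸ Ideal.span (Set.range f)),
        e (Submodule.Quotient.mk φ) =
          Submodule.Quotient.mk (fun i : Fin n => φ ⟨f i, Ideal.subset_span (Set.mem_range_self i)⟩) := by
  classical
  let xi : Fin n → ↥(Ideal.span (Set.range f)) :=
    fun i => ⟨f i, Ideal.subset_span (Set.mem_range_self i)⟩
  let col : Fin d → Fin n → (MvPolynomial (Fin d) k ⧸ Ideal.span (Set.range f)) :=
    fun j i => Ideal.Quotient.mk (Ideal.span (Set.range f)) (pderiv j (f i))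
  let S2 : Submodule (MvPolynomial (Fin d) k ⧸ Ideal.span (Set.range f))
      (Fin n → MvPolynomial (Fin d) k ⧸ Ideal.span (Set.range f)) :=
    Submodule.span _ (Set.range col)
  let g : (↥(Ideal.span (Set.range f)) →ₗ[MvPolynomial (Fin d) k]
        (MvPolynomial (Fin d) k ⧸ Ideal.span (Set.range f))) →ₗ[MvPolynomial (Fin d) k]
      ((Fin n → MvPolynomial (Fin d) k ⧸ Ideal.span (Set.range f)) ⧸ S2) :=
    { toFun := fun φ => Submodule.Quotient.mk (fun i => φ (xi i))
      map_add' := fun φ ψ => rfl
      map_smul' := fun r φ => rfl }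
  have hg : Function.Surjective g := by
    intro y
    obtain ⟨t, rfl⟩ := Submodule.Quotient.mk_surjective _ y
    obtain ⟨φ, hφ⟩ := ev_surj f hreg t
    exact ⟨φ, congrArg Submodule.Quotient.mk (funext hφ)⟩
  have hD : ∀ (D : Derivation k (MvPolynomial (Fin d) k)
      (MvPolynomial (Fin d) k ⧸ Ideal.span (Set.range f))),
      (fun i => D (f i)) = ∑ j, D (X j) • col j := by
    intro D; funext i
    rw [der_formula D (f i)]
    simp only [Finset.sum_apply, Pi.smul_apply, col, smul_eq_mul]
    refine Finset.sum_congr rfl fun j _ => ?_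
    refine (smul_quot _ _ _).trans (mul_comm _ _)
  have hker : Submodule.span (MvPolynomial (Fin d) k)
      {ψ : ↥(Ideal.span (Set.range f)) →ₗ[MvPolynomial (Fin d) k]
          (MvPolynomial (Fin d) k ⧸ Ideal.span (Set.range f)) |
        ∃ D : Derivation k (MvPolynomial (Fin d) k)
            (MvPolynomial (Fin d) k ⧸ Ideal.span (Set.range f)),
          ∀ a : ↥(Ideal.span (Set.range f)), ψ a = D (a : MvPolynomial (Fin d) k)} =
      LinearMap.ker g := by
    apply le_antisymm
    · rw [Submodule.span_le]
      rintro ψ ⟨D, hψ⟩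
      rw [SetLike.mem_coe, LinearMap.mem_ker]
      show Submodule.Quotient.mk (fun i => ψ (xi i)) = 0
      rw [Submodule.Quotient.mk_eq_zero]
      have : (fun i => ψ (xi i)) = ∑ j, D (X j) • col j := by
        rw [← hD D]; funext i; exact hψ (xi i)
      rw [this]
      exact Submodule.sum_mem _ fun j _ =>
        Submodule.smul_mem _ _ (Submodule.subset_span ⟨j, rfl⟩)
    · intro φ hφ
      rw [LinearMap.mem_ker] at hφ
      have hφ' : (fun i => φ (xi i)) ∈ S2 := (Submodule.Quotient.mk_eq_zero S2).1 hφ
      obtain ⟨b, hb⟩ := (Submodule.mem_span_range_iff_exists_fun _).1 hφ'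
      let D : Derivation k (MvPolynomial (Fin d) k)
          (MvPolynomial (Fin d) k ⧸ Ideal.span (Set.range f)) := mkDerivation k b
      have hDX : ∀ j, D (X j) = b j := fun j => mkDerivation_X k b j
      let ψ : ↥(Ideal.span (Set.range f)) →ₗ[MvPolynomial (Fin d) k]
          (MvPolynomial (Fin d) k ⧸ Ideal.span (Set.range f)) :=
        { toFun := fun a => D (a : MvPolynomial (Fin d) k)
          map_add' := fun a a' => map_add D _ _
          map_smul' := fun r a => by
            show D (r * (a : MvPolynomial (Fin d) k)) = r • D a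
            rw [Derivation.leibniz]
            have : (a : MvPolynomial (Fin d) k) • D r = 0 := by
              refine (smul_quot _ _ _).trans ?_
              rw [Ideal.Quotient.eq_zero_iff_mem.2 a.2, zero_mul]
            rw [this, add_zero] }
      have hψφ : φ = ψ := by
        rw [← sub_eq_zero]
        apply ev_inj f
        intro i
        rw [LinearMap.sub_apply, sub_eq_zero]
        have h1 := congrFun (hD D) i
        have h2 := congrFun hb i
        show φ (xi i) = D (f i)
        rw [h1, ← h2]
        simp only [hDX]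
      rw [hψφ]
      exact Submodule.subset_span ⟨D, fun a => rfl⟩
  refine ⟨(Submodule.quotEquivOfEq _ _ hker).trans (g.quotKerEquivOfSurjective hg), fun φ => ?_⟩
  rfl

end Groth.Agent.S11302
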