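import Groth.Statements.S11306
import Mathlib

set_option autoImplicit false
universe u
open TensorProduct
open CAlg

namespace Groth.Agent.S11306

/-- Take a Noetherian local domain A, with residue field k and fraction field K, and let M be a finitely
generated A-module. If k ⊗_A M and K ⊗_A M have the same dimension r (over k and over K
respectively), then M is a free A-module of rank r. -/
theorem result (A : Type u) [CommRing A] [IsDomain A]
    [IsNoetherianRing A] [IsLocalRing A] (M : Type u) [AddCommGroup M] [Module A M] [Module.Finite A M] (r : ℕ)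
    (hk : Module.finrank (IsLocalRing.ResidueField A) (IsLocalRing.ResidueField A ⊗[A] M) = r)
    (hK : Module.finrank (FractionRing A) (FractionRing A ⊗[A] M) = r) :
    Module.Free A M ∧ Module.finrank A M = r := by
  classical
  let b : Module.Basis (Fin r) (IsLocalRing.ResidueField A) (IsLocalRing.ResidueField A ⊗[A] M) :=
    Module.finBasisOfFinrankEq _ _ hk
  have hsurj : Function.Surjective (TensorProduct.mk A (IsLocalRing.ResidueField A) M 1) := by
    intro x
    induction x using TensorProduct.induction_on with
    | zero => exact ⟨0, map_zero _⟩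
    | tmul a m =>
      obtain ⟨a', rfl⟩ := IsLocalRing.residue_surjective a
      refine ⟨a' • m, ?_⟩
      rw [TensorProduct.mk_apply, TensorProduct.tmul_smul, TensorProduct.smul_tmul']
      congr 1
      rw [Algebra.smul_def, mul_one]
      rfl
    | add x y hx hy =>
      obtain ⟨mx, rfl⟩ := hx
      obtain ⟨my, rfl⟩ := hy
      exact ⟨mx + my, map_add _ _ _⟩
  choose f hf using fun i => hsurj (b i)
  have hspan : Submodule.span A (Set.range f) = ⊤ :=
    IsLocalRing.span_eq_top_of_tmul_eq_basis f b hf
  let φ : (Fin r → A) →ₗ[A] M := Fintype.linearCombination A f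
  have hφsurj : Function.Surjective φ := by
    rw [← LinearMap.range_eq_top, Fintype.range_linearCombination, hspan]
  have hφK : Function.Surjective (φ.baseChange (FractionRing A)) :=
    LinearMap.lTensor_surjective _ hφsurj
  have hfr : Module.finrank (FractionRing A) (FractionRing A ⊗[A] (Fin r → A)) =
      Module.finrank (FractionRing A) (FractionRing A ⊗[A] M) := by
    rw [hK, Module.finrank_baseChange, Module.finrank_fin_fun]
  have hφKinj : Function.Injective (φ.baseChange (FractionRing A)) :=
    (LinearMap.injective_iff_surjective_of_finrank_eq_finrank hfr).mpr hφK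
  have hφinj : Function.Injective φ := by
    rw [← LinearMap.ker_eq_bot, LinearMap.ker_eq_bot']
    intro x hx
    have h1 : (φ.baseChange (FractionRing A)) ((1 : FractionRing A) ⊗ₜ[A] x) = 0 := by
      rw [LinearMap.baseChange_tmul, hx, TensorProduct.tmul_zero]
    have h2 : (1 : FractionRing A) ⊗ₜ[A] x = 0 := hφKinj (h1.trans (map_zero _).symm)
    obtain ⟨c, hc⟩ := (IsLocalizedModule.eq_zero_iff (nonZeroDivisors A)
      (TensorProduct.mk A (FractionRing A) (Fin r → A) 1)).mp h2
    have hc0 : (c : A) ≠ 0 := nonZeroDivisors.coe_ne_zero c
    rcases smul_eq_zero.mp (show (c : A) • x = 0 from hc) with h | h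
    · exact absurd h hc0
    · exact h
  let e : (Fin r → A) ≃ₗ[A] M := LinearEquiv.ofBijective φ ⟨hφinj, hφsurj⟩
  refine ⟨Module.Free.of_equiv e, ?_⟩
  rw [← LinearEquiv.finrank_eq e, Module.finrank_fin_fun]

end Groth.Agent.S11306
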