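import Groth.Statements.S11499
import Mathlib

set_option autoImplicit false
universe u
open TensorProduct
open VBPn

namespace Groth.Agent.S11499

/-- Let A be an integral domain with fraction field K and M a finitely generated torsion-free A-module
of rank r (K ⊗_A M is r-dimensional over K). Then there is an injective A-linear map M → A^r. The
published statement is for torsion-free coherent sheaves on a complex manifold, locally near a
point; this row is its statement for one stalk, over any domain. -/
theorem result (A : Type u) [CommRing A] [IsDomain A]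
    (M : Type u) [AddCommGroup M] [Module A M] [Module.Finite A M] [NoZeroSMulDivisors A M] (r : ℕ)
    (hr : Module.finrank (FractionRing A) (FractionRing A ⊗[A] M) = r) :
    ∃ f : M →ₗ[A] (Fin r → A), Function.Injective f := by
  classical
  let e : (FractionRing A ⊗[A] M) ≃ₗ[FractionRing A] (Fin r → FractionRing A) :=
    LinearEquiv.ofFinrankEq _ _ (by rw [hr]; simp)
  let j : M →ₗ[A] FractionRing A ⊗[A] M := TensorProduct.mk A (FractionRing A) M 1
  have hj : Function.Injective j := by
    rw [← LinearMap.ker_eq_bot, LinearMap.ker_eq_bot']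
    intro m hm
    obtain ⟨c, hc⟩ := (IsLocalizedModule.eq_zero_iff (nonZeroDivisors A) j).mp hm
    have hc0 : (c : A) ≠ 0 := nonZeroDivisors.coe_ne_zero c
    rcases smul_eq_zero.mp (show (c : A) • m = 0 from hc) with h | h
    · exact absurd h hc0
    · exact h
  let φ : M →ₗ[A] (Fin r → FractionRing A) := (e.toLinearMap.restrictScalars A).comp j
  have hφ : Function.Injective φ := e.injective.comp hj
  obtain ⟨S, hS⟩ := (Module.Finite.fg_top : (⊤ : Submodule A M).FG)
  obtain ⟨d, hd⟩ := IsLocalization.exist_integer_multiples_of_finset (nonZeroDivisors A)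
    ((S ×ˢ (Finset.univ : Finset (Fin r))).image (fun p => φ p.1 p.2))
  have hd0 : (d : A) ≠ 0 := nonZeroDivisors.coe_ne_zero d
  let ψ : Fin r → M →ₗ[A] FractionRing A := fun l =>
    (d : A) • ((LinearMap.proj l : (Fin r → FractionRing A) →ₗ[A] FractionRing A).comp φ)
  have hψ : ∀ l m, ψ l m ∈ LinearMap.range (Algebra.linearMap A (FractionRing A)) := by
    intro l m
    have hm : m ∈ Submodule.span A (S : Set M) := by rw [hS]; trivial
    induction hm using Submodule.span_induction with
    | mem x hx =>
      obtain ⟨a, ha⟩ := hd (φ x l) (Finset.mem_image.mpr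
        ⟨(x, l), Finset.mem_product.mpr ⟨hx, Finset.mem_univ _⟩, rfl⟩)
      exact ⟨a, ha⟩
    | zero => simp
    | add x y _ _ hx hy => rw [map_add]; exact Submodule.add_mem _ hx hy
    | smul a x _ hx => rw [map_smul]; exact Submodule.smul_mem _ a hx
  have hinj : Function.Injective (Algebra.linearMap A (FractionRing A)) :=
    IsFractionRing.injective A (FractionRing A)
  let E := LinearEquiv.ofInjective (Algebra.linearMap A (FractionRing A)) hinj
  let f : M →ₗ[A] (Fin r → A) :=
    LinearMap.pi (fun l => E.symm.toLinearMap.comp (LinearMap.codRestrict _ (ψ l) (hψ l)))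
  have hf : ∀ m l, algebraMap A (FractionRing A) (f m l) = (d : A) • φ m l := by
    intro m l
    have h0 : (E (f m l) : FractionRing A) = algebraMap A (FractionRing A) (f m l) := rfl
    rw [← h0]
    simp only [f, LinearMap.pi_apply, LinearMap.comp_apply, LinearEquiv.coe_coe,
      LinearEquiv.apply_symm_apply]
    rfl
  refine ⟨f, ?_⟩
  rw [← LinearMap.ker_eq_bot, LinearMap.ker_eq_bot']
  intro m hm
  have h1 : φ ((d : A) • m) = 0 := by
    rw [map_smul]
    ext l
    rw [Pi.smul_apply, ← hf, hm]
    simp
  have h2 := hφ (h1.trans (map_zero φ).symm)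
  rcases smul_eq_zero.mp h2 with h | h
  · exact absurd h hd0
  · exact h

end Groth.Agent.S11499
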