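import Groth.Statements.S1156

set_option autoImplicit false
universe u
open scoped TensorProduct
open Desc

namespace Groth.Agent.S1156

section aux

variable (R A : Type u) [CommRing R] [CommRing A] [Algebra R A]
  (M : Type u) [AddCommGroup M] [Module R M]

/-- `m ↦ 1 ⊗ m`. -/
noncomputable abbrev d0 : M →ₗ[R] A ⊗[R] M := TensorProduct.mk R A M 1

/-- `x ↦ 1 ⊗ x - (a ⊗ m ↦ a ⊗ 1 ⊗ m) x`. -/
noncomputable abbrev d1 : A ⊗[R] M →ₗ[R] A ⊗[R] (A ⊗[R] M) :=
  TensorProduct.mk R A (A ⊗[R] M) 1 - LinearMap.lTensor A (TensorProduct.mk R A M 1)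

/-- contraction `b ⊗ a ⊗ n ↦ ba ⊗ n` -/
noncomputable def contr (N : Type u) [AddCommGroup N] [Module R N] :
    A ⊗[R] (A ⊗[R] N) →ₗ[R] A ⊗[R] N :=
  (LinearMap.rTensor N (LinearMap.mul' R A)) ∘ₗ (TensorProduct.assoc R A A N).symm.toLinearMap

@[simp] lemma contr_tmul (N : Type u) [AddCommGroup N] [Module R N] (b a : A) (n : N) :
    contr R A N (b ⊗ₜ (a ⊗ₜ n)) = (b * a) ⊗ₜ n := by
  simp [contr]

lemma homotopy_id :
    (LinearMap.lTensor A (d0 R A M)) ∘ₗ (contr R A M) +
      (contr R A (A ⊗[R] M)) ∘ₗ (LinearMap.lTensor A (d1 R A M)) = LinearMap.id := by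
  ext b a m
  simp [d0, d1]

lemma exact_d0_d1 [Module.FaithfullyFlat R A] : Function.Exact (d0 R A M) (d1 R A M) := by
  rw [← Module.FaithfullyFlat.lTensor_exact_iff_exact R A]
  intro y
  constructor
  · intro hy
    refine ⟨contr R A M y, ?_⟩
    have := LinearMap.congr_fun (homotopy_id R A M) y
    simp only [LinearMap.add_apply, LinearMap.coe_comp, Function.comp_apply, hy, map_zero,
      add_zero, LinearMap.id_coe, id_eq] at this
    exact this
  · rintro ⟨z, rfl⟩
    induction z using TensorProduct.induction_on with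
    | zero => simp
    | add z w hz hw => simp only [map_add, hz, hw, add_zero]
    | tmul b m => simp [d0, d1]

end aux

/-- Exactness of the extended Amitsur complex in degree 0 (injectivity in degree −1 being standard). Let
R → A be faithfully flat and M an R-module. An element x of A ⊗_R M with 1 ⊗ x = (a ⊗ m ↦ a ⊗ 1 ⊗
m)(x) in A ⊗_R A ⊗_R M lies in the image of m ↦ 1 ⊗ m. -/
theorem result (R A : Type u) [CommRing R] [CommRing A] [Algebra R A] [Module.FaithfullyFlat R A]
    (M : Type u) [AddCommGroup M] [Module R M] (x : A ⊗[R] M)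
    (hx : TensorProduct.mk R A (A ⊗[R] M) 1 x = LinearMap.lTensor A (TensorProduct.mk R A M 1) x) :
    x ∈ LinearMap.range (TensorProduct.mk R A M 1) := by
  have h := (exact_d0_d1 R A M x).mp (by simp [d1, hx])
  exact h

end Groth.Agent.S1156
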