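import Groth.Statements.S12801
import Mathlib


set_option autoImplicit false
open CategoryTheory
universe v₂ u₂ v u
open Stk

namespace Groth.Agent.S12801

/-- the sieves whose image covers form a topology (for `p` fibred in groupoids) -/
def T {C : Type u} [Category.{v} C] {𝒳 : Type u₂} [Category.{v₂} 𝒳] (p : 𝒳 ⥤ C)
    (hp : FibCat.IsFibGrpd p) (J : GrothendieckTopology C) : GrothendieckTopology 𝒳 where
  sieves x := {S | S.functorPushforward p ∈ J (p.obj x)}
  top_mem' x := by
    show (⊤ : Sieve x).functorPushforward p ∈ J (p.obj x)
    rw [Sieve.functorPushforward_top]; exact J.top_mem _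
  pullback_stable' := by
    intro x y S h hS
    show (S.pullback h).functorPushforward p ∈ J (p.obj y)
    refine J.superset_covering ?_ (J.pullback_stable (p.map h) hS)
    intro V g hg
    obtain ⟨z, s, k, hs, hk⟩ := hg
    obtain ⟨z', κ, hκ⟩ := hp.exists_lift k
    have hz' : p.obj z' = V := IsHomLift.domain_eq p k κ
    subst hz'
    have hkκ : k = p.map κ := IsHomLift.eq_of_isHomLift p k κ
    have hsc := hp.isStronglyCartesian h
    haveI : p.IsHomLift (g ≫ p.map h) (κ ≫ s) := by
      rw [hk, hkκ, ← p.map_comp]; infer_instance
    obtain ⟨χ, ⟨hχl, hχc⟩, -⟩ := hsc.universal_property' g (κ ≫ s)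
    have hgχ : g = p.map χ := IsHomLift.eq_of_isHomLift p g χ
    refine ⟨z', χ, 𝟙 _, ?_, ?_⟩
    · show S (χ ≫ h)
      rw [hχc]; exact S.downward_closed hs κ
    · rw [Category.id_comp]; exact hgχ
  transitive' := by
    intro x S hS R hR
    show R.functorPushforward p ∈ J (p.obj x)
    refine J.transitive hS _ ?_
    intro V g hg
    obtain ⟨z, s, k, hs, hk⟩ := hg
    have h1 : (R.pullback s).functorPushforward p ∈ J (p.obj z) := hR hs
    have h2 := J.pullback_stable k h1
    refine J.superset_covering ?_ h2
    intro W t ht
    obtain ⟨w, r, l, hr, hl⟩ := ht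
    refine ⟨w, r ≫ s, l, hr, ?_⟩
    rw [hk, ← Category.assoc, hl, Category.assoc, p.map_comp]


/-- Let `p : 𝒳 ⥤ C` make `𝒳` fibred in groupoids over `C` and let `J` be a Grothendieck topology on `C`.
A sieve `S` on an object `x` of `𝒳` belongs to the topology on `𝒳` generated by the sieves whose
image under `p` generates a covering sieve if and only if the image of `S` under `p` generates a
covering sieve of `p x`: the sieves whose image covers already satisfy the axioms of a topology (the
topology on `𝒳` inherited from `C`). (The published statement is for a fibred category, with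
coverings the families of strongly cartesian morphisms `{x_i ⟶ x}` such that `{p x_i ⟶ p x}` is a
covering; this row is the case of a category fibred in groupoids, where every morphism is strongly
cartesian, in sieve form.) -/
theorem result {C : Type u} [Category.{v} C] {𝒳 : Type u₂} [Category.{v₂} 𝒳] (p : 𝒳 ⥤ C)
    (hp : FibCat.IsFibGrpd p) (J : GrothendieckTopology C) {x : 𝒳} (S : Sieve x) :
    S ∈ p.restrictedTopology J x ↔ S.functorPushforward p ∈ J (p.obj x) := by
  constructor
  · intro hS
    have hle : p.restrictedTopology J ≤ T p hp J := by
      unfold Functor.restrictedTopology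
      rw [Precoverage.toGrothendieck_le_iff_le_toPrecoverage]
      intro y R hR
      rw [Precoverage.mem_comap_iff] at hR
      rw [GrothendieckTopology.mem_toPrecoverage_iff]
      show (Sieve.generate R).functorPushforward p ∈ J (p.obj y)
      rw [← Sieve.generate_map_eq_functorPushforward]
      exact hR
    exact hle x hS
  · exact Functor.mem_restrictedTopology_of_functorPushforward_mem

end Groth.Agent.S12801
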