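import Groth.Statements.S12803
import Mathlib
import Groth.Agent.S12801


set_option autoImplicit false
open CategoryTheory
universe v₂ u₂ v u
open Stk

namespace Groth.Agent.S12803

section helpers

variable {C : Type u} [Category.{v} C] {𝒳 : Type u₂} [Category.{v₂} 𝒳]

lemma full_core (p : 𝒳 ⥤ C) (hp : FibCat.IsFibGrpd p) {x y y' : 𝒳} (α : y ⟶ x) (α' : y' ⟶ x)
    (g : p.obj y ⟶ p.obj y') (hw : g ≫ p.map α' = p.map α) :
    ∃ χ : y ⟶ y', χ ≫ α' = α ∧ p.map χ = g := by
  have hsc := hp.isStronglyCartesian α'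
  haveI : p.IsHomLift (g ≫ p.map α') α := by rw [hw]; infer_instance
  obtain ⟨χ, ⟨hχl, hχc⟩, -⟩ := hsc.universal_property' g α
  exact ⟨χ, hχc, (IsHomLift.eq_of_isHomLift p g χ).symm⟩

lemma faith_core (p : 𝒳 ⥤ C) (hp : FibCat.IsFibGrpd p) {x y y' : 𝒳} (α : y ⟶ x) (α' : y' ⟶ x)
    (χ₁ χ₂ : y ⟶ y') (h1 : χ₁ ≫ α' = α) (h2 : χ₂ ≫ α' = α) (h : p.map χ₁ = p.map χ₂) :
    χ₁ = χ₂ := by
  have hsc := hp.isStronglyCartesian α'
  haveI : p.IsHomLift (p.map χ₁ ≫ p.map α') α := by rw [← p.map_comp, h1]; infer_instance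
  obtain ⟨χ, -, hχu⟩ := hsc.universal_property' (p.map χ₁) α
  have e1 : χ₁ = χ := hχu _ ⟨inferInstance, h1⟩
  have e2 : χ₂ = χ := hχu _ ⟨by rw [h]; infer_instance, h2⟩
  exact e1.trans e2.symm

lemma ess_core (p : 𝒳 ⥤ C) (hp : FibCat.IsFibGrpd p) {x : 𝒳} {V : C} (f : V ⟶ p.obj x) :
    ∃ (y : 𝒳) (φ : y ⟶ x) (hy : p.obj y = V), eqToHom hy ≫ f = p.map φ := by
  obtain ⟨y, φ, hφ⟩ := hp.exists_lift f
  refine ⟨y, φ, IsHomLift.domain_eq p f φ, ?_⟩
  rw [IsHomLift.fac' p f φ]; simp

end helpers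


/-- Let `p : 𝒳 ⥤ C` make `𝒳` fibred in groupoids over `C`, let `J` be a topology on `C` and `x` an
object of `𝒳`. The functor `𝒳/x ⥤ C/p(x)` induced by `p` is an equivalence of categories, and it
identifies the localisation at `x` of the topology on `𝒳` inherited from `J` with the localisation
of `J` at `p x`: a sieve on an object of `𝒳/x` covers if and only if its image covers. -/
theorem result {C : Type u} [Category.{v} C] {𝒳 : Type u₂} [Category.{v₂} 𝒳] (p : 𝒳 ⥤ C)
    (hp : FibCat.IsFibGrpd p) (J : GrothendieckTopology C) (x : 𝒳) :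
    (Over.post p : Over x ⥤ Over (p.obj x)).IsEquivalence ∧
      ∀ (a : Over x) (S : Sieve a), S ∈ (p.restrictedTopology J).over x a ↔
        S.functorPushforward (Over.post p) ∈ (J.over (p.obj x)) ((Over.post p).obj a) := by
  have hfull : (Over.post p : Over x ⥤ Over (p.obj x)).Full := by
    refine ⟨fun {a a'} m => ?_⟩
    obtain ⟨χ, hχc, hχ⟩ := full_core p hp a.hom a'.hom m.left (Over.w m)
    refine ⟨Over.homMk χ hχc, ?_⟩
    ext
    exact hχ
  have hfaith : (Over.post p : Over x ⥤ Over (p.obj x)).Faithful := by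
    refine ⟨fun {a a'} m₁ m₂ h => ?_⟩
    ext
    exact faith_core p hp a.hom a'.hom m₁.left m₂.left (Over.w m₁) (Over.w m₂)
      (congrArg CommaMorphism.left h)
  have hess : (Over.post p : Over x ⥤ Over (p.obj x)).EssSurj := by
    refine ⟨fun b => ?_⟩
    obtain ⟨y, φ, hy, h⟩ := ess_core p hp (x := x) b.hom
    exact ⟨Over.mk φ, ⟨Over.isoMk (eqToIso hy) h⟩⟩
  refine ⟨{ faithful := hfaith, full := hfull, essSurj := hess }, ?_⟩
  intro a S
  rw [GrothendieckTopology.mem_over_iff, GrothendieckTopology.mem_over_iff,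
    Groth.Agent.S12801.result p hp J]
  have E : Sieve.overEquiv ((Over.post p).obj a) (S.functorPushforward (Over.post p)) =
      (Sieve.overEquiv a S).functorPushforward p := by
    show (S.functorPushforward (Over.post p)).functorPushforward (Over.forget _) =
      (S.functorPushforward (Over.forget _)).functorPushforward p
    rw [← Sieve.functorPushforward_comp, ← Sieve.functorPushforward_comp]
    rfl
  rw [E] <;> exact Iff.rfl

end Groth.Agent.S12803
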