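import Groth.Statements.S19333
import Mathlib

set_option autoImplicit false
universe u
open ModPair

namespace Groth.Agent.S19333

/-- Let A → B be any homomorphism of commutative rings. An element x of B is integral over A if and only
if for every field K, every valuation subring R of K and every ring homomorphism φ : B → K which
sends the image of A into R, the element φ(x) lies in R. In other words the integral closure of A in
B is the intersection of the subrings R ×_K B taken over all commutative squares A → R ⊆ K ← B with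
R a valuation ring of the field K. -/
theorem result {A B : Type u} [CommRing A]
    [CommRing B] [Algebra A B] (x : B) :
    x ∈ integralClosure A B ↔
      ∀ (K : Type u) [Field K] (R : ValuationSubring K) (φ : B →+* K),
        (∀ a : A, φ (algebraMap A B a) ∈ R) → φ x ∈ R := by
  constructor
  · intro hx K _ R φ hφ
    have hx' : IsIntegral A x := hx
    obtain ⟨p, hpm, hp⟩ := hx'
    obtain ⟨g', hg'⟩ : ∃ g' : A →+* R, ∀ a, ((g' a : R) : K) = φ (algebraMap A B a) :=
      ⟨RingHom.codRestrict (φ.comp (algebraMap A B)) R hφ, fun a => rfl⟩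
    have hint : IsIntegral R (φ x) := by
      refine ⟨p.map g', hpm.map g', ?_⟩
      rw [Polynomial.eval₂_map]
      have hcomp : (algebraMap R K).comp g' = φ.comp (algebraMap A B) := by
        ext a
        exact hg' a
      rw [hcomp, ← Polynomial.hom_eval₂, hp, map_zero]
    obtain ⟨y, hy⟩ := IsIntegrallyClosed.isIntegral_iff.mp hint
    rw [← hy]
    exact y.2
  · intro h
    by_contra hx
    have hx' : ¬ (algebraMap A B).IsIntegralElem x := hx
    obtain ⟨S, hS⟩ : ∃ S : Submonoid B, ∀ b, b ∈ S ↔
        ∃ p : Polynomial A, p.Monic ∧ Polynomial.eval₂ (algebraMap A B) x p = b :=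
      ⟨{ carrier := {b | ∃ p : Polynomial A, p.Monic ∧
            Polynomial.eval₂ (algebraMap A B) x p = b}
         one_mem' := ⟨1, Polynomial.monic_one, by simp⟩
         mul_mem' := by
           rintro a b ⟨p, hp, rfl⟩ ⟨q, hq, rfl⟩
           exact ⟨p * q, hp.mul hq, Polynomial.eval₂_mul _ _⟩ }, fun b => Iff.rfl⟩
    have hdisj : Disjoint ((⊥ : Ideal B) : Set B) (S : Set B) := by
      rw [Set.disjoint_left]
      intro b hb hbS
      have hb0 : b = 0 := (Ideal.mem_bot).mp hb
      obtain ⟨p, hpm, hp⟩ := (hS b).mp hbS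
      exact hx' ⟨p, hpm, hp.trans hb0⟩
    obtain ⟨q, hqprime, _, hqS⟩ := Ideal.exists_le_prime_disjoint (⊥ : Ideal B) S hdisj
    obtain ⟨φ, hφ⟩ : ∃ φ : B →+* FractionRing (B ⧸ q), ∀ b, φ b = 0 ↔ b ∈ q := by
      refine ⟨(algebraMap (B ⧸ q) (FractionRing (B ⧸ q))).comp (Ideal.Quotient.mk q),
        fun b => ?_⟩
      rw [RingHom.comp_apply,
        map_eq_zero_iff _ (IsFractionRing.injective (B ⧸ q) (FractionRing (B ⧸ q))),
        Ideal.Quotient.eq_zero_iff_mem]
    letI : Algebra A (FractionRing (B ⧸ q)) := (φ.comp (algebraMap A B)).toAlgebra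
    have hnot : φ x ∉ (integralClosure A (FractionRing (B ⧸ q))).toSubring := by
      intro hmem
      have hint : IsIntegral A (φ x) := hmem
      obtain ⟨p, hpm, hp⟩ := hint
      have h1 : φ (Polynomial.eval₂ (algebraMap A B) x p) = 0 := by
        rw [Polynomial.hom_eval₂]; exact hp
      have h2 := (hφ _).mp h1
      exact Set.disjoint_left.mp hqS h2 ((hS _).mpr ⟨p, hpm, rfl⟩)
    obtain ⟨V, hV, hxV⟩ := Subring.exists_le_valuationSubring_of_isIntegrallyClosedIn hnot
    apply hxV
    refine h (FractionRing (B ⧸ q)) V φ (fun a => hV ?_)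
    exact (integralClosure A (FractionRing (B ⧸ q))).algebraMap_mem a

end Groth.Agent.S19333
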