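import Groth.Statements.S1199
import Mathlib

set_option autoImplicit false
universe u
open FlatMor

namespace Groth.Agent.S1199

open scoped TensorProduct

theorem univInj_of_fg {R S : Type u} [CommRing R] [CommRing S] [Algebra R S] [IsNoetherianRing R]
    [IsNoetherianRing S] (I : Ideal R)
    (N : Type u) [AddCommGroup N] [Module S N] [Module R N] [IsScalarTower R S N] [Module.Finite S N]
    (Q : Type u) [AddCommGroup Q] [Module R Q] [Module.Finite R Q]
    (h : ∀ q ∈ associatedPrimes S (N ⊗[R] Q), I.map (algebraMap R S) ⊔ q ≠ ⊤) :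
    Function.Injective ((AdicCompletion.of I N).lTensor Q) := by
  have hadd : ∀ (g₁ g₂ : N →ₗ[R] Q ⊗[R] N) (z : AdicCompletion I N),
      AdicCompletion.map I (g₁ + g₂) z = AdicCompletion.map I g₁ z + AdicCompletion.map I g₂ z := by
    intro g₁ g₂ z
    apply AdicCompletion.ext
    intro n
    rw [AdicCompletion.val_add_apply, AdicCompletion.map_val_apply, AdicCompletion.map_val_apply,
      AdicCompletion.map_val_apply]
    obtain ⟨m, hm⟩ := Submodule.Quotient.mk_surjective _ (z.val n)
    rw [← hm, LinearMap.reduceModIdeal_apply, LinearMap.reduceModIdeal_apply,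
      LinearMap.reduceModIdeal_apply, LinearMap.add_apply, Submodule.Quotient.mk_add]
  have hsmul : ∀ (r : R) (g : N →ₗ[R] Q ⊗[R] N) (z : AdicCompletion I N),
      AdicCompletion.map I (r • g) z = r • AdicCompletion.map I g z := by
    intro r g z
    apply AdicCompletion.ext
    intro n
    rw [AdicCompletion.val_smul_apply, AdicCompletion.map_val_apply, AdicCompletion.map_val_apply]
    obtain ⟨m, hm⟩ := Submodule.Quotient.mk_surjective _ (z.val n)
    rw [← hm, LinearMap.reduceModIdeal_apply, LinearMap.reduceModIdeal_apply,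
      LinearMap.smul_apply, Submodule.Quotient.mk_smul]
  let B : Q →ₗ[R] AdicCompletion I N →ₗ[R] AdicCompletion I (Q ⊗[R] N) :=
    LinearMap.mk₂ R (fun q z => AdicCompletion.map I (TensorProduct.mk R Q N q) z)
      (fun q₁ q₂ z => by rw [map_add]; exact hadd _ _ z)
      (fun r q z => by rw [map_smul]; exact hsmul r _ z)
      (fun q z₁ z₂ => map_add _ z₁ z₂)
      (fun r q z => (LinearMap.restrictScalars R
        (AdicCompletion.map I (TensorProduct.mk R Q N q))).map_smul r z)
  have hΨ : ∀ x : Q ⊗[R] N, TensorProduct.lift B ((AdicCompletion.of I N).lTensor Q x) =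
      AdicCompletion.of I (Q ⊗[R] N) x := by
    intro x
    induction x with
    | zero => simp
    | tmul q n =>
      rw [LinearMap.lTensor_tmul, TensorProduct.lift.tmul]
      show AdicCompletion.map I (TensorProduct.mk R Q N q) (AdicCompletion.of I N n) = _
      rw [AdicCompletion.map_of]
      rfl
    | add x y hx hy => rw [map_add, map_add, hx, hy, map_add]
  rw [injective_iff_map_eq_zero]
  intro x hx
  have h0 : AdicCompletion.of I (Q ⊗[R] N) x = 0 := by rw [← hΨ, hx, map_zero]
  have hmem : ∀ n, x ∈ (I ^ n • ⊤ : Submodule R (Q ⊗[R] N)) := by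
    intro n
    have h1 : (AdicCompletion.of I (Q ⊗[R] N) x).val n = 0 := by rw [h0]; rfl
    rw [AdicCompletion.of_apply, Submodule.mkQ_apply, Submodule.Quotient.mk_eq_zero] at h1
    exact h1
  obtain ⟨x', hx'def⟩ : ∃ x', x' = TensorProduct.comm R Q N x := ⟨_, rfl⟩
  have hmem' : ∀ n, x' ∈ ((I.map (algebraMap R S)) ^ n • ⊤ : Submodule S (N ⊗[R] Q)) := by
    intro n
    rw [hx'def]
    refine Submodule.smul_induction_on (p := fun y => TensorProduct.comm R Q N y ∈
      ((I.map (algebraMap R S)) ^ n • ⊤ : Submodule S (N ⊗[R] Q))) (hmem n) ?_ ?_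
    · intro r hr y _
      rw [map_smul, ← algebraMap_smul S r (TensorProduct.comm R Q N y)]
      apply Submodule.smul_mem_smul _ Submodule.mem_top
      rw [← Ideal.map_pow]
      exact Ideal.mem_map_of_mem _ hr
    · intro y z hy hz
      rw [map_add]
      exact Submodule.add_mem _ hy hz
  haveI : Module.Finite S (N ⊗[R] Q) :=
    Module.Finite.equiv (TensorProduct.AlgebraTensorModule.cancelBaseChange R S S N Q)
  have hmemInf : x' ∈ (⨅ i : ℕ, (I.map (algebraMap R S)) ^ i • ⊤ : Submodule S (N ⊗[R] Q)) := by
    rw [Submodule.mem_iInf]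
    exact hmem'
  have hx'0 : x' = 0 := by
    by_contra hne
    obtain ⟨q, hq, hle⟩ := exists_le_isAssociatedPrime_of_isNoetherianRing S x' hne
    obtain ⟨⟨r, hr⟩, hrx⟩ :=
      (Ideal.mem_iInf_smul_pow_eq_bot_iff (I.map (algebraMap R S)) x').mp hmemInf
    change r • x' = x' at hrx
    have h1r : (1 - r) ∈ q := by
      apply hle
      rw [Submodule.mem_colon_singleton, Submodule.mem_bot, sub_smul, one_smul, hrx, sub_self]
    apply h q hq
    rw [Ideal.eq_top_iff_one]
    have h1 : (1 : S) = r + (1 - r) := by ring
    rw [h1]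
    exact Submodule.add_mem_sup hr h1r
  rw [hx'def] at hx'0
  exact (LinearEquiv.map_eq_zero_iff _).mp hx'0


open TensorProduct in
/-- Let R → S be a map of Noetherian rings, I an ideal of R and N a finite S-module. Assume that for
every finite R-module Q and every associated prime q of the S-module N ⊗_R Q the ideal IS + q is
proper. Then the canonical map from N to its I-adic completion is universally injective as a map of
R-modules. -/
theorem result {R S : Type u} [CommRing R] [CommRing S] [Algebra R S] [IsNoetherianRing R] [IsNoetherianRing S] (I : Ideal R)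
    (N : Type u) [AddCommGroup N] [Module S N] [Module R N] [IsScalarTower R S N] [Module.Finite S N]
    (h : ∀ (Q : Type u) [AddCommGroup Q] [Module R Q], Module.Finite R Q →
      ∀ q ∈ associatedPrimes S (N ⊗[R] Q), I.map (algebraMap R S) ⊔ q ≠ ⊤) :
    FlatCA.UnivInj R (AdicCompletion.of I N) := by
  intro Q _ _
  rw [injective_iff_map_eq_zero]
  intro x hx
  obtain ⟨Q₀, hQ₀, y, rfl⟩ := Submodule.exists_fg_le_eq_rTensor_subtype x
  have hcomm : ∀ (K : Submodule R Q) (w : K ⊗[R] N),
      (AdicCompletion.of I N).lTensor Q (K.subtype.rTensor N w) =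
      K.subtype.rTensor (AdicCompletion I N) ((AdicCompletion.of I N).lTensor K w) := by
    intro K w
    induction w with
    | zero => simp
    | tmul q n => rfl
    | add a b ha hb => rw [map_add, map_add, ha, hb, map_add, map_add]
  rw [hcomm] at hx
  have hx' : Q₀.subtype.rTensor (AdicCompletion I N) ((AdicCompletion.of I N).lTensor Q₀ y) =
      Q₀.subtype.rTensor (AdicCompletion I N) 0 := by rw [hx, map_zero]
  obtain ⟨Q₁, hQ₁, hle, heq⟩ := hQ₀.exists_rTensor_fg_inclusion_eq hx'
  rw [map_zero] at heq
  have hcomm2 : ∀ (w : Q₀ ⊗[R] N),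
      (AdicCompletion.of I N).lTensor Q₁ ((Submodule.inclusion hle).rTensor N w) =
      (Submodule.inclusion hle).rTensor (AdicCompletion I N)
        ((AdicCompletion.of I N).lTensor Q₀ w) := by
    intro w
    induction w with
    | zero => simp
    | tmul q n => rfl
    | add a b ha hb => rw [map_add, map_add, ha, hb, map_add, map_add]
  haveI : Module.Finite R Q₁ := Module.Finite.iff_fg.mpr hQ₁
  have hinj := univInj_of_fg (S := S) I N Q₁ (h Q₁ inferInstance)
  have hz : (Submodule.inclusion hle).rTensor N y = 0 := by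
    apply hinj
    rw [hcomm2, heq, map_zero]
  have hfin : Q₀.subtype.rTensor N y =
      Q₁.subtype.rTensor N ((Submodule.inclusion hle).rTensor N y) := by
    rw [← LinearMap.rTensor_comp_apply]
    rfl
  rw [hfin, hz, map_zero]

end Groth.Agent.S1199
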