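import Groth.Statements.S12067
import Mathlib
import Groth.Prelude.Def_ComodSub
import Groth.Agent.Lib.helper9.ComodHom

set_option autoImplicit false
universe u
open TensorProduct
open SGA3t2b

namespace Groth.Agent.S12067

open scoped TensorProduct

theorem mem_range_rTensor_comap {k : Type u} [Field k] {V Q : Type u}
    [AddCommGroup V] [Module k V] [AddCommGroup Q] [Module k Q]
    (f : V →ₗ[k] Q) (U : Submodule k Q) (E : Type u) [AddCommGroup E] [Module k E]
    (z : V ⊗[k] E) (h : f.rTensor E z ∈ LinearMap.range (U.subtype.rTensor E)) :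
    z ∈ LinearMap.range ((U.comap f).subtype.rTensor E) := by
  classical
  let 𝒞 := Module.Basis.ofVectorSpace k E
  rw [H9Comod.mem_range_rTensor_iff 𝒞]
  intro b
  rw [Submodule.mem_comap, ← H9Comod.equivFinsupp_rTensor]
  exact (H9Comod.mem_range_rTensor_iff 𝒞 U _).1 h b

theorem finrank_comap_mkQ {k : Type u} {V : Type u} [Field k] [AddCommGroup V] [Module k V]
    [Module.Finite k V] (S : Submodule k V) (U : Submodule k (V ⧸ S)) :
    Module.finrank k ↥(U.comap S.mkQ) = Module.finrank k ↥U + Module.finrank k ↥S := by
  have h1 := LinearMap.finrank_range_add_finrank_ker (S.mkQ.domRestrict (U.comap S.mkQ))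
  rw [LinearMap.range_domRestrict, LinearMap.ker_domRestrict, Submodule.ker_mkQ,
    Submodule.map_comap_eq_of_surjective (Submodule.mkQ_surjective S)] at h1
  have hle : S ≤ U.comap S.mkQ := by
    intro s hs
    rw [Submodule.mem_comap, Submodule.mkQ_apply, (Submodule.Quotient.mk_eq_zero S).2 hs]
    exact U.zero_mem
  have h2 : Module.finrank k ↥(Submodule.comap (U.comap S.mkQ).subtype S) =
      Module.finrank k ↥S :=
    LinearEquiv.finrank_eq (Submodule.comapSubtypeEquivOfLe hle)
  rw [h2] at h1
  exact h1.symm

theorem aux (k : Type u) [Field k] (A : Type u) [CommRing A] [HopfAlgebra k A]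
    (hU : HopfRep.IsUnipotent k A) :
    ∀ (n : ℕ) (V : Type u) [AddCommGroup V] [Module k V] [HopfRep.Comod k A V]
      [Module.Finite k V], Module.finrank k V = n →
      ∃ G : ℕ → Submodule k V, Monotone G ∧
        (∀ i, HopfRep.IsSubcomod (k := k) (A := A) (G i)) ∧
        (∀ i, i ≤ n → Module.finrank k (G i) = i) ∧
        ∀ i, ∀ v ∈ G (i + 1),
          HopfRep.Comod.coact (k := k) (A := A) v - v ⊗ₜ[k] (1 : A) ∈
            LinearMap.range ((G i).subtype.rTensor A) := by
  intro n
  induction n using Nat.strong_induction_on with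
  | _ n ih =>
    intro V _ _ _ _ hn
    by_cases hV : Nontrivial V
    · have hfix : HopfRep.fixedPts k A V ≠ ⊥ := hU V inferInstance hV
      obtain ⟨v₀, hv₀, hv₀ne⟩ := (Submodule.ne_bot_iff _).1 hfix
      have hSle : Submodule.span k {v₀} ≤ HopfRep.fixedPts k A V :=
        Submodule.span_le.2 (Set.singleton_subset_iff.2 hv₀)
      have hSsub : HopfRep.IsSubcomod (k := k) (A := A) (Submodule.span k {v₀}) := by
        intro w hw
        have hw' : HopfRep.Comod.coact (k := k) (A := A) w = w ⊗ₜ[k] (1 : A) := hSle hw
        exact ⟨(⟨w, hw⟩ : Submodule.span k {v₀}) ⊗ₜ[k] (1 : A), by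
          rw [LinearMap.rTensor_tmul, hw']; rfl⟩
      have hS1 : Module.finrank k ↥(Submodule.span k {v₀}) = 1 := finrank_span_singleton hv₀ne
      letI cQ : HopfRep.Comod k A (V ⧸ Submodule.span k {v₀}) :=
        ComodSub.Comod.quot inferInstance (Submodule.span k {v₀}) hSsub
      have hmk : Hoch.IsComodHom A (Submodule.span k {v₀}).mkQ :=
        ComodSub.isComodHom_mkQ inferInstance (Submodule.span k {v₀}) hSsub
      have hQ : Module.finrank k (V ⧸ Submodule.span k {v₀}) + 1 = n := by
        have h0 := Submodule.finrank_quotient_add_finrank (Submodule.span k {v₀})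
        omega
      obtain ⟨G', hmono, hGsub, hGrk, hGgr⟩ :=
        ih (Module.finrank k (V ⧸ Submodule.span k {v₀})) (by omega)
          (V ⧸ Submodule.span k {v₀}) rfl
      have hG0 : G' 0 = ⊥ := Submodule.finrank_eq_zero.1 (hGrk 0 (Nat.zero_le _))
      let G : ℕ → Submodule k V :=
        fun i => Nat.rec ⊥ (fun j _ => (G' j).comap (Submodule.span k {v₀}).mkQ) i
      have hG0' : G 0 = ⊥ := rfl
      have hGs : ∀ j, G (j + 1) = (G' j).comap (Submodule.span k {v₀}).mkQ := fun j => rfl
      refine ⟨G, ?_, ?_, ?_, ?_⟩
      · apply monotone_nat_of_le_succ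
        intro i
        cases i with
        | zero => rw [hG0']; exact bot_le
        | succ j => rw [hGs, hGs]; exact Submodule.comap_mono (hmono (Nat.le_succ j))
      · intro i
        cases i with
        | zero => rw [hG0']; exact H9Comod.isSubcomod_bot
        | succ j => rw [hGs]; exact H9Comod.isSubcomod_comap hmk (hGsub j)
      · intro i hi
        cases i with
        | zero =>
          show Module.finrank k ↥(⊥ : Submodule k V) = 0
          exact finrank_bot k V
        | succ j =>
          show Module.finrank k ↥((G' j).comap (Submodule.span k {v₀}).mkQ) = j + 1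
          rw [finrank_comap_mkQ, hS1, hGrk j (by omega)]
      · intro i v hv
        cases i with
        | zero =>
          rw [hGs, hG0, Submodule.comap_bot, Submodule.ker_mkQ] at hv
          have hv' : HopfRep.Comod.coact (k := k) (A := A) v = v ⊗ₜ[k] (1 : A) := hSle hv
          rw [hv', sub_self]
          exact Submodule.zero_mem _
        | succ j =>
          have hv2 : (Submodule.span k {v₀}).mkQ v ∈ G' (j + 1) := hv
          have h1 := hGgr j ((Submodule.span k {v₀}).mkQ v) hv2
          rw [H9Comod.isComodHom_apply hmk v] at h1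
          show HopfRep.Comod.coact (k := k) (A := A) v - v ⊗ₜ[k] (1 : A) ∈
            LinearMap.range (((G' j).comap (Submodule.span k {v₀}).mkQ).subtype.rTensor A)
          apply mem_range_rTensor_comap
          rw [map_sub, LinearMap.rTensor_tmul]
          exact h1
    · have hS : Subsingleton V := not_nontrivial_iff_subsingleton.1 hV
      refine ⟨fun _ => ⊥, monotone_const, fun _ => H9Comod.isSubcomod_bot, ?_, ?_⟩
      · intro i hi
        have hn0 : n = 0 := by rw [← hn]; exact Module.finrank_zero_of_subsingleton
        have hi0 : i = 0 := by omega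
        rw [hi0]
        exact finrank_bot k V
      · intro i v _
        rw [Subsingleton.elim v 0, map_zero, TensorProduct.zero_tmul, sub_self]
        exact Submodule.zero_mem _


/-- In Hopf-algebra form, let k be a field and A a finitely generated commutative Hopf algebra over k
(an affine algebraic group G) which is unipotent: every nonzero finite-dimensional comodule has a
nonzero fixed vector. Then every finite-dimensional comodule V (a finite-dimensional representation
of G), of dimension n, has a flag of subcomodules 0 = V_0 ⊂ V_1 ⊂ ⋯ ⊂ V_n = V with one-dimensional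
successive quotients on which G acts trivially: for v ∈ V_(i+1) the coaction of v is congruent to v
⊗ 1 modulo V_i ⊗ A. -/
theorem result (k : Type u) [Field k] (A : Type u) [CommRing A]
    [HopfAlgebra k A] [Algebra.FiniteType k A] (hU : HopfRep.IsUnipotent k A)
    (V : Type u) [AddCommGroup V] [Module k V] [HopfRep.Comod k A V] [Module.Finite k V] :
    ∃ F : Fin (Module.finrank k V + 1) → Submodule k V,
      F 0 = ⊥ ∧ F (Fin.last _) = ⊤ ∧
      (∀ i : Fin (Module.finrank k V + 1), HopfRep.IsSubcomod (k := k) (A := A) (F i)) ∧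
      ∀ i : Fin (Module.finrank k V), F i.castSucc ≤ F i.succ ∧
        Module.finrank k ↥(F i.succ) = Module.finrank k ↥(F i.castSucc) + 1 ∧
        ∀ v ∈ F i.succ, HopfRep.Comod.coact (k := k) (A := A) v - v ⊗ₜ[k] (1 : A) ∈
          LinearMap.range ((F i.castSucc).subtype.rTensor A) := by
  obtain ⟨G, hmono, hsub, hrk, hgr⟩ := aux k A hU (Module.finrank k V) V rfl
  refine ⟨fun i => G i.val, ?_, ?_, fun i => hsub i.val, ?_⟩
  · exact Submodule.finrank_eq_zero.1 (hrk 0 (Nat.zero_le _))
  · exact Submodule.eq_top_of_finrank_eq (hrk (Module.finrank k V) le_rfl)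
  · intro i
    refine ⟨?_, ?_, ?_⟩
    · exact hmono (Nat.le_succ i.val)
    · show Module.finrank k ↥(G (i.val + 1)) = Module.finrank k ↥(G i.val) + 1
      rw [hrk (i.val + 1) (by have := i.isLt; omega), hrk i.val (by have := i.isLt; omega)]
    · intro v hv
      exact hgr i.val v hv

end Groth.Agent.S12067
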