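import Groth.Statements.S12071
import Mathlib

set_option autoImplicit false
open RootD

namespace Groth.Agent.S12071

/-- `ZMod 0` is definitionally `ℤ`. -/
def toZ (i : ZMod 0) : ℤ := i
/-- `ZMod 0` is definitionally `ℤ`. -/
def ofZ (i : ℤ) : ZMod 0 := i

theorem ofZ_toZ (i : ZMod 0) : ofZ (toZ i) = i := rfl
theorem toZ_ofZ (i : ℤ) : toZ (ofZ i) = i := rfl
theorem ofZ_add (a b : ℤ) : ofZ (a + b) = ofZ a + ofZ b := rfl
theorem ofZ_neg (a : ℤ) : ofZ (-a) = -ofZ a := rfl
theorem ofZ_zero : ofZ 0 = 0 := rfl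
theorem ofZ_one : ofZ 1 = 1 := rfl
theorem ofZ_sub (a b : ℤ) : ofZ (a - b) = ofZ a - ofZ b := rfl
theorem ofZ_mul_cast (n : ℕ) (k : ℤ) :
    ofZ ((n : ℤ) * k) = (Nat.cast n : ZMod 0) * (Int.cast k : ZMod 0) := rfl
theorem ofZ_injective : Function.Injective ofZ := fun _ _ h => h


/-- Let G be the group generated by two elements x, y subject to x² = y² = 1 (the infinite dihedral
group; here Mathlib's DihedralGroup 0 with x = sr 0 and y = sr 1, so that x y = r 1). Then every
normal subgroup of G containing neither x nor y is generated by an element (x y)^n with n > 0; such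
a subgroup is cyclic, generated by r n. (The published statement does not exclude the trivial
subgroup, for which no n > 0 works; this row assumes the subgroup nontrivial.) -/
theorem result (N : Subgroup (DihedralGroup 0)) [N.Normal]
    (hN : N ≠ ⊥) (hx : DihedralGroup.sr (0 : ZMod 0) ∉ N) (hy : DihedralGroup.sr (1 : ZMod 0) ∉ N) :
    ∃ n : ℕ, 0 < n ∧ N = Subgroup.zpowers (DihedralGroup.r (n : ZMod 0)) := by
  classical
  -- no reflection lies in N
  have hsr : ∀ i : ZMod 0, DihedralGroup.sr i ∉ N := by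
    intro i hi
    have hconj : ∀ j : ZMod 0, DihedralGroup.sr (i - j - j) ∈ N := by
      intro j
      have := ‹N.Normal›.conj_mem _ hi (DihedralGroup.r j)
      rwa [DihedralGroup.r_mul_sr, DihedralGroup.inv_r, DihedralGroup.sr_mul_r,
        ← sub_eq_add_neg] at this
    rcases Int.even_or_odd' (toZ i) with ⟨j, hj | hj⟩
    · apply hx
      have := hconj (ofZ j)
      have h0 : i - ofZ j - ofZ j = 0 := by
        rw [← ofZ_toZ i, ← ofZ_sub, ← ofZ_sub, ← ofZ_zero]
        congr 1
        omega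
      rwa [h0] at this
    · apply hy
      have := hconj (ofZ j)
      have h0 : i - ofZ j - ofZ j = 1 := by
        rw [← ofZ_toZ i, ← ofZ_sub, ← ofZ_sub, ← ofZ_one]
        congr 1
        omega
      rwa [h0] at this
  let H : AddSubgroup ℤ :=
    { carrier := {i | DihedralGroup.r (ofZ i) ∈ N}
      add_mem' := by
        intro a b ha hb
        have := N.mul_mem ha hb
        rwa [DihedralGroup.r_mul_r, ← ofZ_add] at this
      zero_mem' := by
        show DihedralGroup.r (ofZ 0) ∈ N
        rw [ofZ_zero, DihedralGroup.r_zero]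
        exact N.one_mem
      neg_mem' := by
        intro a ha
        have := N.inv_mem ha
        rwa [DihedralGroup.inv_r, ← ofZ_neg] at this }
  have hH : ∀ i : ℤ, i ∈ H ↔ DihedralGroup.r (ofZ i) ∈ N := fun i => Iff.rfl
  obtain ⟨a, ha⟩ := Int.subgroup_cyclic H
  rw [← AddSubgroup.zmultiples_eq_closure] at ha
  have ha0 : a ≠ 0 := by
    rintro rfl
    apply hN
    rw [eq_bot_iff]
    intro g hg
    rw [Subgroup.mem_bot]
    cases g with
    | r i =>
      have h1 : toZ i ∈ H := (hH _).mpr (by rw [ofZ_toZ]; exact hg)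
      rw [ha, Int.mem_zmultiples_iff, zero_dvd_iff] at h1
      rw [← ofZ_toZ i, h1, ofZ_zero, DihedralGroup.r_zero]
    | sr i => exact absurd hg (hsr i)
  refine ⟨a.natAbs, Int.natAbs_pos.mpr ha0, ?_⟩
  ext g
  rw [Subgroup.mem_zpowers_iff]
  cases g with
  | r i =>
    have h1 : DihedralGroup.r i ∈ N ↔ toZ i ∈ H := by rw [hH, ofZ_toZ]
    rw [h1, ha, Int.mem_zmultiples_iff]
    constructor
    · intro hdvd
      have hdvd' : (a.natAbs : ℤ) ∣ toZ i := Int.natAbs_dvd.mpr hdvd
      obtain ⟨k, hk⟩ := hdvd'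
      refine ⟨k, ?_⟩
      rw [DihedralGroup.r_zpow, ← ofZ_mul_cast, ← hk, ofZ_toZ]
    · rintro ⟨k, hk⟩
      rw [DihedralGroup.r_zpow, ← ofZ_mul_cast] at hk
      have hk' : ofZ ((a.natAbs : ℤ) * k) = ofZ (toZ i) := by
        rw [ofZ_toZ]; exact DihedralGroup.r.inj hk
      rw [← ofZ_injective hk']
      exact Dvd.dvd.mul_right (Int.dvd_natAbs.mpr dvd_rfl) k
  | sr i =>
    constructor
    · intro h
      exact absurd h (hsr i)
    · rintro ⟨k, hk⟩
      rw [DihedralGroup.r_zpow] at hk
      cases hk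

end Groth.Agent.S12071
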