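import Groth.Statements.S12076
-- import your own Groth.Agent.* helpers here
import Mathlib

set_option autoImplicit false
open RootD

namespace Groth.Agent.S12076

section aux
variable {ι M N : Type*} [AddCommGroup M] [AddCommGroup N] (P : RootPairing ι ℤ M N)
  (b : P.Base)

noncomputable def ht (x : ↥(P.rootSpan ℤ)) : ℤ :=
  ∑ k : ↥b.support, b.toWeightBasisInt.repr x k

noncomputable def ww (x : ↥(P.rootSpan ℤ)) : Fin (Fintype.card ↥b.support + 1) → ℤ :=
  fun i => Fin.cases (ht P b x)
    (fun k => b.toWeightBasisInt.repr x ((Fintype.equivFin ↥b.support).symm k)) i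

noncomputable def vv (x : ↥(P.rootSpan ℤ)) : Lex (Fin (Fintype.card ↥b.support + 1) → ℤ) :=
  toLex (ww P b x)

lemma ht_add (x y : ↥(P.rootSpan ℤ)) : ht P b (x + y) = ht P b x + ht P b y := by
  simp [ht, Finset.sum_add_distrib]

lemma ht_neg (x : ↥(P.rootSpan ℤ)) : ht P b (-x) = - ht P b x := by
  simp [ht]

lemma ht_zero : ht P b 0 = 0 := by
  simp [ht]

lemma ww_add (x y : ↥(P.rootSpan ℤ)) : ww P b (x + y) = ww P b x + ww P b y := by
  funext i
  refine Fin.cases ?_ (fun k => ?_) i
  · simp [ww, ht_add]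
  · simp [ww]

lemma ww_neg (x : ↥(P.rootSpan ℤ)) : ww P b (-x) = - ww P b x := by
  funext i
  refine Fin.cases ?_ (fun k => ?_) i
  · simp [ww, ht_neg]
  · simp [ww]

lemma ww_zero : ww P b 0 = 0 := by
  funext i
  refine Fin.cases ?_ (fun k => ?_) i
  · simp [ww, ht_zero]
  · simp [ww]

lemma vv_add (x y : ↥(P.rootSpan ℤ)) : vv P b (x + y) = vv P b x + vv P b y := by
  show toLex (ww P b (x + y)) = toLex (ww P b x) + toLex (ww P b y)
  rw [ww_add]; rfl

lemma vv_neg (x : ↥(P.rootSpan ℤ)) : vv P b (-x) = - vv P b x := by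
  show toLex (ww P b (-x)) = - toLex (ww P b x)
  rw [ww_neg]; rfl

lemma vv_zero : vv P b 0 = 0 := by
  show toLex (ww P b 0) = 0
  rw [ww_zero]; rfl

lemma vv_inj (x : ↥(P.rootSpan ℤ)) (h : vv P b x = 0) : x = 0 := by
  have hw : ww P b x = 0 := h
  have hrepr : b.toWeightBasisInt.repr x = 0 := by
    ext k
    have := congrFun hw (Fin.succ (Fintype.equivFin ↥b.support k))
    simpa [ww] using this
  exact (LinearEquiv.map_eq_zero_iff _).mp hrepr

lemma vv_head (x : ↥(P.rootSpan ℤ)) (h : 0 < vv P b x) : 0 ≤ ht P b x := by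
  obtain ⟨i, hi1, hi2⟩ := h
  by_cases h0 : i = 0
  · subst h0
    have : (0 : ℤ) < ht P b x := hi2
    exact this.le
  · have hpos : (0 : Fin (Fintype.card ↥b.support + 1)) < i := Fin.pos_iff_ne_zero.mpr h0
    have : (0 : ℤ) = ht P b x := hi1 0 hpos
    exact this.le

lemma vv_head' (x : ↥(P.rootSpan ℤ)) (h : 0 < ht P b x) : 0 < vv P b x :=
  ⟨0, fun j hj => absurd hj (Fin.not_lt_zero j), h⟩

lemma ht_root (i : ι) : ht P b (P.rootSpanMem ℤ i) = b.height i := by
  classical
  have h1 : ∑ k : ↥b.support, b.toWeightBasisInt.repr (P.rootSpanMem ℤ i) k • b.toWeightBasisInt k =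
      P.rootSpanMem ℤ i := b.toWeightBasisInt.sum_repr _
  have h2 : P.root i = ∑ k : ↥b.support,
      b.toWeightBasisInt.repr (P.rootSpanMem ℤ i) k • P.root k := by
    have := congrArg Subtype.val h1
    simpa using this.symm
  let f : ι → ℤ := fun j => if h : j ∈ b.support then
    b.toWeightBasisInt.repr (P.rootSpanMem ℤ i) ⟨j, h⟩ else 0
  have hf : ∀ k : ↥b.support, f k = b.toWeightBasisInt.repr (P.rootSpanMem ℤ i) k := by
    intro k
    simp only [f, dif_pos k.2, Subtype.coe_eta]
  have h3 : P.root i = ∑ j ∈ b.support, f j • P.root j := by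
    rw [← Finset.sum_coe_sort b.support (fun j => f j • P.root j), h2]
    exact Finset.sum_congr rfl (fun k _ => by rw [hf k])
  rw [RootPairing.Base.height_eq_sum h3, ← Finset.sum_coe_sort b.support f]
  exact Finset.sum_congr rfl (fun k _ => (hf k).symm)

lemma ht_phi (φ : ↥(P.rootSpan ℤ) →+ ℤ)
    (h : ∀ j ∈ b.support, φ (P.rootSpanMem ℤ j) = 1) (x : ↥(P.rootSpan ℤ)) :
    φ x = ht P b x := by
  have hB : ∀ k : ↥b.support, b.toWeightBasisInt k = P.rootSpanMem ℤ k :=
    fun k => Subtype.ext (b.coe_toWeightBasisInt_apply k)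
  conv_lhs => rw [← b.toWeightBasisInt.sum_repr x]
  rw [map_sum]
  unfold ht
  apply Finset.sum_congr rfl
  intro k _
  rw [map_zsmul, hB k, h k k.2, smul_eq_mul, mul_one]

end aux

/-- Let Δ be a system of simple roots (a base b of a root pairing P over ℤ) and Γ₀ the subgroup
generated by the roots. Then Γ₀ has a structure of totally ordered group for which the roots > 0 are
exactly the positive roots defined by Δ and for which the height (the additive function with value 1
on each simple root) is monotone. The order is given here by its positive cone C ⊆ Γ₀: 0 ∉ C, C + C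
⊆ C, and for every x ≠ 0 exactly one of x, −x lies in C (x < y meaning y − x ∈ C). -/
theorem result {ι M N : Type*} [AddCommGroup M] [AddCommGroup N]
    (P : RootPairing ι ℤ M N) [Finite ι] (b : P.Base) :
    ∃ C : Set ↥(Submodule.span ℤ (Set.range P.root)),
      0 ∉ C ∧ (∀ x ∈ C, ∀ y ∈ C, x + y ∈ C) ∧ (∀ x, x ≠ 0 → (x ∈ C ∨ -x ∈ C)) ∧ (∀ x ∈ C, -x ∉ C) ∧
      (∀ i : ι, (⟨P.root i, Submodule.subset_span (Set.mem_range_self i)⟩ : ↥(Submodule.span ℤ (Set.range P.root))) ∈ C ↔
        b.IsPos i) ∧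
      ∀ φ : ↥(Submodule.span ℤ (Set.range P.root)) →+ ℤ,
        (∀ j ∈ b.support, φ ⟨P.root j, Submodule.subset_span (Set.mem_range_self j)⟩ = 1) →
        ∀ x y : ↥(Submodule.span ℤ (Set.range P.root)), y - x ∈ C → φ x ≤ φ y := by
  refine ⟨{x | 0 < vv P b x}, ?_, ?_, ?_, ?_, ?_, ?_⟩
  · intro h
    have h' : 0 < vv P b 0 := h
    rw [vv_zero] at h'
    exact lt_irrefl _ h'
  · intro x hx y hy
    show 0 < vv P b (x + y)
    rw [vv_add]
    exact add_pos hx hy
  · intro x hx
    have hne : vv P b x ≠ 0 := fun h => hx (vv_inj P b x h)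
    rcases lt_or_gt_of_ne hne with h | h
    · right
      show 0 < vv P b (-x)
      rw [vv_neg]
      exact neg_pos.mpr h
    · left
      exact h
  · intro x hx hnx
    have h' : 0 < vv P b (-x) := hnx
    rw [vv_neg, neg_pos] at h'
    exact lt_asymm hx h'
  · intro i
    constructor
    · intro h
      have h1 := vv_head P b _ h
      rw [ht_root] at h1
      exact b.isPos_iff'.mpr h1
    · intro h
      apply vv_head' P b
      rw [ht_root]
      exact h
  · intro φ hφ x y hxy
    have h1 := vv_head P b _ hxy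
    rw [← ht_phi P b φ hφ, map_sub] at h1
    linarith

end Groth.Agent.S12076
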