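import Groth.Statements.S12078
import Mathlib

set_option autoImplicit false
universe u
open CAlg

namespace Groth.Agent.S12078

/-- An elementary divisor domain is Bézout. Here `R` is a domain such that for all `n, m ≥ 1` and every
`n × m` matrix `A` there are invertible matrices `U` (`n × n`) and `V` (`m × m`) with `U * A * V`
zero off the diagonal and with diagonal entries `f 0 ∣ f 1 ∣ f 2 ∣ …`; the conclusion is that every
finitely generated ideal of `R` is principal. -/
theorem result (R : Type u) [CommRing R] [IsDomain R]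
    (hR : ∀ n m : ℕ, 1 ≤ n → 1 ≤ m → ∀ A : Matrix (Fin n) (Fin m) R,
      ∃ (U : (Matrix (Fin n) (Fin n) R)ˣ) (V : (Matrix (Fin m) (Fin m) R)ˣ) (f : ℕ → R),
        (∀ k : ℕ, f k ∣ f (k + 1)) ∧
        ∀ (i : Fin n) (j : Fin m), ((U : Matrix (Fin n) (Fin n) R) * A * (V : Matrix (Fin m) (Fin m) R)) i j =
          if (i : ℕ) = (j : ℕ) then f i else 0) :
    IsBezout R := by
  classical
  rw [IsBezout.iff_span_pair_isPrincipal]
  intro x y
  obtain ⟨U, V, f, -, hf⟩ := hR 1 2 le_rfl (by norm_num) (Matrix.of ![![x, y]])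
  have hU : IsUnit ((U : Matrix (Fin 1) (Fin 1) R) 0 0) := by
    have := (Matrix.isUnit_iff_isUnit_det _).mp U.isUnit
    rwa [Matrix.det_fin_one] at this
  have e0 : ∀ j, ((U : Matrix (Fin 1) (Fin 1) R) * Matrix.of ![![x, y]] *
      (V : Matrix (Fin 2) (Fin 2) R)) 0 j =
      (U : Matrix (Fin 1) (Fin 1) R) 0 0 * (x * (V : Matrix (Fin 2) (Fin 2) R) 0 j +
        y * (V : Matrix (Fin 2) (Fin 2) R) 1 j) := by
    intro j
    simp [Matrix.mul_apply, Fin.sum_univ_two]
    ring
  have h01 := hf 0 1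
  rw [e0] at h01
  simp only [Fin.val_zero, Fin.val_one, zero_ne_one, if_false] at h01
  have hh : x * (V : Matrix (Fin 2) (Fin 2) R) 0 1 + y * (V : Matrix (Fin 2) (Fin 2) R) 1 1 = 0 :=
    (hU.mul_right_eq_zero).mp h01
  have hVW : (V : Matrix (Fin 2) (Fin 2) R) * ((V⁻¹ : (Matrix (Fin 2) (Fin 2) R)ˣ) : Matrix (Fin 2) (Fin 2) R) = 1 := by
    rw [← Units.val_mul, mul_inv_cancel, Units.val_one]
  set Vm := (V : Matrix (Fin 2) (Fin 2) R) with hVm
  set W := ((V⁻¹ : (Matrix (Fin 2) (Fin 2) R)ˣ) : Matrix (Fin 2) (Fin 2) R) with hW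
  have w00 := congrFun (congrFun hVW 0) 0
  have w01 := congrFun (congrFun hVW 0) 1
  have w10 := congrFun (congrFun hVW 1) 0
  have w11 := congrFun (congrFun hVW 1) 1
  simp only [Matrix.mul_apply, Fin.sum_univ_two, Matrix.one_apply_eq, Matrix.one_apply_ne,
    ne_eq, zero_ne_one, one_ne_zero, not_false_eq_true, Fin.isValue] at w00 w01 w10 w11
  refine ⟨⟨x * Vm 0 0 + y * Vm 1 0, ?_⟩⟩
  apply le_antisymm
  · rw [Submodule.span_le]
    intro z hz
    rcases hz with rfl | hz
    · refine Submodule.mem_span_singleton.mpr ⟨W 0 0, ?_⟩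
      rw [smul_eq_mul]
      linear_combination z * w00 + y * w10 - W 1 0 * hh
    · rw [Set.mem_singleton_iff] at hz
      subst hz
      refine Submodule.mem_span_singleton.mpr ⟨W 0 1, ?_⟩
      rw [smul_eq_mul]
      linear_combination x * w01 + z * w11 - W 1 1 * hh
  · rw [Submodule.span_le]
    intro z hz
    rw [Set.mem_singleton_iff] at hz
    subst hz
    exact Ideal.mem_span_pair.mpr ⟨Vm 0 0, Vm 1 0, by ring⟩

end Groth.Agent.S12078
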