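import Groth.Statements.S12079
import Mathlib
import Groth.Agent.S6293

set_option autoImplicit false
universe u
open TensorProduct
open CAlg

namespace Groth.Agent.S12079


section Helpers
variable {R : Type u} [CommRing R]

theorem hom_exact {G F M N : Type u} [AddCommGroup G] [Module R G] [AddCommGroup F] [Module R F]
    [AddCommGroup M] [Module R M] [AddCommGroup N] [Module R N]
    (u : G →ₗ[R] F) (π : F →ₗ[R] M) (hπ : Function.Surjective π) (hex : Function.Exact u π) :
    Function.Exact (LinearMap.lcomp R N π) (LinearMap.lcomp R N u) := by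
  intro h
  constructor
  · intro hh
    have hle : LinearMap.ker π ≤ LinearMap.ker h := by
      intro x hx
      obtain ⟨y, rfl⟩ := (hex x).1 hx
      exact LinearMap.congr_fun hh y
    refine ⟨((LinearMap.ker π).liftQ h hle) ∘ₗ
      (π.quotKerEquivOfSurjective hπ).symm.toLinearMap, ?_⟩
    refine LinearMap.ext fun x => ?_
    show ((LinearMap.ker π).liftQ h hle) ((π.quotKerEquivOfSurjective hπ).symm (π x)) = h x
    rw [LinearMap.quotKerEquivOfSurjective_symm_apply]
    rfl
  · rintro ⟨g, rfl⟩
    refine LinearMap.ext fun y => ?_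
    show g (π (u y)) = 0
    rw [hex.apply_apply_eq_zero, map_zero]

theorem theta_nat {X Y N L : Type u} [AddCommGroup X] [Module R X] [AddCommGroup Y] [Module R Y]
    [AddCommGroup N] [Module R N] [AddCommGroup L] [Module R L]
    (g : X →ₗ[R] Y) (ξ : (Y →ₗ[R] N) ⊗[R] L) :
    TensorProduct.rTensorHomToHomRTensor (RingHom.id R) X N L
        (LinearMap.rTensor L (LinearMap.lcomp R N g) ξ) =
      (TensorProduct.rTensorHomToHomRTensor (RingHom.id R) Y N L ξ) ∘ₗ g := by
  induction ξ using TensorProduct.induction_on with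
  | zero => simp
  | tmul f l =>
    refine LinearMap.ext fun x => ?_
    rw [LinearMap.rTensor_tmul]
    rfl
  | add a b ha hb => rw [map_add, map_add, ha, hb, map_add, LinearMap.add_comp]

end Helpers


/-- For a finitely presented `R`-module `M`, any `R`-module `N` and a flat `R`-module `L`, the canonical
map `Hom_R(M, N) ⊗_R L → Hom_R(M, N ⊗_R L)` sending `f ⊗ l` to `m ↦ f m ⊗ l` is bijective. -/
theorem result (R : Type u) [CommRing R]
    (M N L : Type u) [AddCommGroup M] [Module R M] [AddCommGroup N] [Module R N] [AddCommGroup L] [Module R L]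
    [Module.FinitePresentation R M] [Module.Flat R L] :
    Function.Bijective (TensorProduct.rTensorHomToHomRTensor (RingHom.id R) M N L) := by
  obtain ⟨n, m, π, u, hπ, hex⟩ := Module.FinitePresentation.exists_fin' R M
  have hF := Groth.Agent.S6293.result R L (Fin n → R) N
  have hG := Groth.Agent.S6293.result R L (Fin m → R) N
  have hHex := hom_exact (N := N) u π hπ hex
  have hTex := Module.Flat.rTensor_exact L hHex
  have hπinj : Function.Injective (LinearMap.lcomp R N π) := by
    intro g₁ g₂ h
    refine LinearMap.ext fun y => ?_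
    obtain ⟨x, rfl⟩ := hπ y
    exact LinearMap.congr_fun h x
  have hTinj := Module.Flat.rTensor_preserves_injective_linearMap (M := L) _ hπinj
  constructor
  · rw [injective_iff_map_eq_zero]
    intro ξ hξ
    apply hTinj
    rw [map_zero]
    apply hF.1
    rw [theta_nat, hξ, map_zero, LinearMap.zero_comp]
  · intro φ
    obtain ⟨ζ, hζ⟩ := hF.2 (φ ∘ₗ π)
    have h1 : LinearMap.rTensor L (LinearMap.lcomp R N u) ζ = 0 := by
      apply hG.1
      rw [theta_nat, hζ, map_zero, LinearMap.comp_assoc]
      have h0 : π ∘ₗ u = 0 := LinearMap.ext fun y => hex.apply_apply_eq_zero y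
      rw [h0, LinearMap.comp_zero]
    obtain ⟨η, hη⟩ := (hTex ζ).1 h1
    refine ⟨η, ?_⟩
    refine LinearMap.ext fun y => ?_
    obtain ⟨x, rfl⟩ := hπ y
    have h2 := theta_nat (N := N) (L := L) π η
    rw [hη, hζ] at h2
    exact (LinearMap.congr_fun h2 x).symm

end Groth.Agent.S12079
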