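import Groth.Statements.S12081
import Mathlib

set_option autoImplicit false
universe u
open TensorProduct
open EtAlg

namespace Groth.Agent.S12081

/-- Let `B' = B ×_A A'` be a fibre square of rings with `A' → A` surjective with kernel `I`, let `J =
Ker(B' → B)`, let `D'` be a `B'`-algebra and `C' = D' ⊗_{B'} A'`. Then the ideal `I C'` is, as a
subset of `C'`, the image of the ideal `J D'` under `D' → C'`; that is, the map `J D' → I C'` is
surjective. -/
theorem result (B' B A' A : Type u) [CommRing B'] [CommRing B] [CommRing A'] [CommRing A]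
    [Algebra B' B] [Algebra B' A'] [Algebra B A] [Algebra A' A] [Algebra B' A] [IsScalarTower B' B A] [IsScalarTower B' A' A]
    (hsq : EtMil.IsFibreSquare B' B A' A)
    (D' C' : Type u) [CommRing D'] [CommRing C'] [Algebra B' D'] [Algebra A' C']
    [Algebra D' C'] [Algebra B' C'] [IsScalarTower B' A' C'] [IsScalarTower B' D' C'] [Algebra.IsPushout B' A' D' C'] :
    (algebraMap D' C') '' ((RingHom.ker (algebraMap B' B)).map (algebraMap B' D') : Set D') =
      ((RingHom.ker (algebraMap A' A)).map (algebraMap A' C') : Set C') := by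
  obtain ⟨hsurj, hfib⟩ := hsq
  set J := RingHom.ker (algebraMap B' B) with hJ
  set I := RingHom.ker (algebraMap A' A) with hI
  have hJI : ∀ j ∈ J, algebraMap B' A' j ∈ I := by
    intro j hj
    have hj0 : algebraMap B' B j = 0 := RingHom.mem_ker.mp hj
    rw [hI, RingHom.mem_ker, ← IsScalarTower.algebraMap_apply B' A' A,
      IsScalarTower.algebraMap_apply B' B A, hj0, map_zero]
  have hIJ : ∀ i ∈ I, ∃ j ∈ J, algebraMap B' A' j = i := by
    intro i hi
    have hi0 : algebraMap A' A i = 0 := RingHom.mem_ker.mp hi
    obtain ⟨j, ⟨hj1, hj2⟩, _⟩ := hfib 0 i (by rw [map_zero, hi0])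
    exact ⟨j, RingHom.mem_ker.mpr hj1, hj2⟩
  apply Set.Subset.antisymm
  · rintro _ ⟨d, hd, rfl⟩
    have h1 : algebraMap D' C' d ∈ (J.map (algebraMap B' D')).map (algebraMap D' C') :=
      Ideal.mem_map_of_mem _ hd
    rw [Ideal.map_map, ← IsScalarTower.algebraMap_eq B' D' C',
      IsScalarTower.algebraMap_eq B' A' C', ← Ideal.map_map] at h1
    have h2 : J.map (algebraMap B' A') ≤ I := by
      rw [Ideal.map_le_iff_le_comap]
      intro j hj
      exact Ideal.mem_comap.mpr (hJI j hj)
    exact Ideal.map_mono h2 h1
  · intro x hx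
    set T : Submodule D' C' :=
      Submodule.map (Algebra.linearMap D' C') (J.map (algebraMap B' D')) with hT
    have hpush : IsBaseChange D' (IsScalarTower.toAlgHom B' A' C').toLinearMap :=
      (Algebra.IsPushout.symm (inferInstance : Algebra.IsPushout B' A' D' C')).out
    have claimA : ∀ c : C', ∀ i ∈ I, c * algebraMap A' C' i ∈ T := by
      intro c
      refine hpush.inductionOn c (fun c => ∀ i ∈ I, c * algebraMap A' C' i ∈ T) ?_ ?_ ?_ ?_
      · intro i _
        rw [zero_mul]
        exact T.zero_mem
      · intro a' i hi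
        obtain ⟨j, hj, hji⟩ := hIJ (a' * i) (I.mul_mem_left a' hi)
        rw [hT, Submodule.mem_map]
        refine ⟨algebraMap B' D' j, Ideal.mem_map_of_mem _ hj, ?_⟩
        show algebraMap D' C' (algebraMap B' D' j) = algebraMap A' C' a' * algebraMap A' C' i
        rw [← IsScalarTower.algebraMap_apply B' D' C', IsScalarTower.algebraMap_apply B' A' C',
          hji, map_mul]
      · intro s n hn i hi
        rw [smul_mul_assoc]
        exact T.smul_mem s (hn i hi)
      · intro n₁ n₂ h1 h2 i hi
        rw [add_mul]
        exact T.add_mem (h1 i hi) (h2 i hi)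
    have hall : ∀ c : C', c * x ∈ T := by
      have hx' : x ∈ Ideal.span ((algebraMap A' C') '' (I : Set A')) := hx
      refine Submodule.span_induction (p := fun x _ => ∀ c : C', c * x ∈ T) ?_ ?_ ?_ ?_ hx'
      · rintro _ ⟨i, hi, rfl⟩ c
        exact claimA c i hi
      · intro c
        rw [mul_zero]
        exact T.zero_mem
      · intro x y _ _ hx hy c
        rw [mul_add]
        exact T.add_mem (hx c) (hy c)
      · intro r x _ hx c
        rw [smul_eq_mul, ← mul_assoc]
        exact hx (c * r)
    have h1 := hall 1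
    rw [one_mul, hT, Submodule.mem_map] at h1
    obtain ⟨d, hd, hdx⟩ := h1
    exact ⟨d, hd, hdx⟩

end Groth.Agent.S12081
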