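import Groth.Statements.S12099
import Mathlib


set_option autoImplicit false
universe v u
open CategoryTheory CategoryTheory.Limits
open PCoh

namespace Groth.Agent.S12099

/-- Punctual site: let C be an abelian category and C₀ a strictly full additive subcategory,
quasi-liftable in C. For an exact sequence F → G → H → 0 with F of C₀-finite type and G precoherent
relative to C₀ (every morphism from a C₀-object into G has kernel of C₀-finite type), H is
precoherent relative to C₀. -/
theorem result {C : Type u} [Category.{v} C] [Abelian C]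
    (P : ObjectProperty C) [P.IsClosedUnderIsomorphisms] [P.ContainsZero] (hsum : ∀ X Y : C, P X → P Y → P (X ⨯ Y))
    (hql : PCoh.IsQuasiLiftable P)
    (S : ShortComplex C) (hS : S.Exact) (hg : Epi S.g)
    (hF : PCoh.IsOfFiniteType P S.X₁) (hG : ∀ (E : C) (u : E ⟶ S.X₂), P E → PCoh.IsOfFiniteType P (kernel u)) :
    ∀ (E : C) (u : E ⟶ S.X₃), P E → PCoh.IsOfFiniteType P (kernel u) := by
  intro E u hPE
  haveI := hg
  obtain ⟨EF, πF, hPEF, hπF⟩ := hF
  obtain ⟨E', v, hPE', hv⟩ := hql _ _ (pullback.snd S.g u) inferInstance hPE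
  obtain ⟨ρ, hρ⟩ : ∃ ρ : E' ⟶ E, ρ = v ≫ pullback.snd S.g u := ⟨_, rfl⟩
  obtain ⟨t, ht⟩ : ∃ t : E' ⟶ S.X₂, t = v ≫ pullback.fst S.g u := ⟨_, rfl⟩
  haveI : Epi ρ := by rw [hρ]; exact hv
  have htρ : t ≫ S.g = ρ ≫ u := by
    rw [ht, hρ, Category.assoc, Category.assoc, pullback.condition]
  obtain ⟨w, hw_def⟩ : ∃ w : E' ⨯ EF ⟶ S.X₂, w = prod.fst ≫ t + prod.snd ≫ πF ≫ S.f :=
    ⟨_, rfl⟩
  have hw : w ≫ S.g = prod.fst ≫ ρ ≫ u := by
    rw [hw_def, Preadditive.add_comp, Category.assoc, htρ, Category.assoc, Category.assoc,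
      S.zero, comp_zero, comp_zero, add_zero]
  obtain ⟨E₂, τ, hPE₂, hτ⟩ := hG (E' ⨯ EF) w (hsum _ _ hPE' hPEF)
  have hθz : (kernel.ι w ≫ prod.fst ≫ ρ) ≫ u = 0 := by
    rw [Category.assoc, Category.assoc, ← hw, ← Category.assoc, kernel.condition, zero_comp]
  refine ⟨E₂, τ ≫ kernel.lift u _ hθz, hPE₂, ?_⟩
  haveI : Epi (kernel.lift u _ hθz) := by
    rw [epi_iff_surjective_up_to_refinements]
    intro T x
    obtain ⟨Ta, πa, hπa, e', he'⟩ := surjective_up_to_refinements_of_epi ρ (x ≫ kernel.ι u)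
    have he't : (e' ≫ t) ≫ S.g = 0 := by
      rw [Category.assoc, htρ, ← Category.assoc, ← he', Category.assoc, Category.assoc,
        kernel.condition, comp_zero, comp_zero]
    obtain ⟨Tb, πb, hπb, y, hy⟩ := hS.exact_up_to_refinements _ he't
    obtain ⟨Tc, πc, hπc, eF, heF⟩ := surjective_up_to_refinements_of_epi πF y
    have hzw : prod.lift (πc ≫ πb ≫ e') (-eF) ≫ w = 0 := by
      rw [hw_def, Preadditive.comp_add, prod.lift_fst_assoc, prod.lift_snd_assoc,
        Preadditive.neg_comp, ← Category.assoc eF, ← heF]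
      simp only [Category.assoc]
      rw [hy]
      simp
    refine ⟨Tc, πc ≫ πb ≫ πa, inferInstance, kernel.lift w _ hzw, ?_⟩
    rw [← cancel_mono (kernel.ι u)]
    simp only [Category.assoc]
    rw [kernel.lift_ι, kernel.lift_ι_assoc, prod.lift_fst_assoc]
    simp only [Category.assoc]
    rw [he']
  exact epi_comp _ _

end Groth.Agent.S12099
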