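import Groth.Statements.S12118
import Mathlib

set_option autoImplicit false
universe u v
open EGA41

namespace Groth.Agent.S12118

/-- Let A be a commutative ring, M an A-module, (M_k)_{k ≥ 0} a decreasing filtration of M by submodules
with M_0 = M and ⋂_k M_k = 0, and f an element of A which is a non-zero-divisor on every graded
piece M_k/M_{k+1} (equivalently on the associated graded module). Then (i) f is a non-zero-divisor
on M, and (ii) M_k ∩ fM = fM_k for every k ≥ 0. -/
theorem result {A : Type u} [CommRing A] {M : Type v} [AddCommGroup M] [Module A M]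
    (F : ℕ → Submodule A M) (hanti : Antitone F) (h0 : F 0 = ⊤) (hsep : ⨅ k, F k = ⊥) (f : A)
    (hreg : ∀ k : ℕ, IsSMulRegular (↥(F k) ⧸ Submodule.comap (F k).subtype (F (k + 1))) f) :
    IsSMulRegular M f ∧ ∀ k : ℕ, F k ⊓ (Ideal.span {f} • (⊤ : Submodule A M)) = Ideal.span {f} • F k := by
  classical
  -- key: if `f • m ∈ F (j+1)` and `m ∈ F j` then `m ∈ F (j+1)`
  have key : ∀ (j : ℕ) (m : M), m ∈ F j → f • m ∈ F (j + 1) → m ∈ F (j + 1) := by
    intro j m hm hfm
    have h1 : f • (Submodule.Quotient.mk (⟨m, hm⟩ : F j) :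
        ↥(F j) ⧸ Submodule.comap (F j).subtype (F (j + 1))) = f • 0 := by
      rw [smul_zero, ← Submodule.Quotient.mk_smul, Submodule.Quotient.mk_eq_zero,
        Submodule.mem_comap]
      exact hfm
    have h2 := hreg j h1
    rw [Submodule.Quotient.mk_eq_zero, Submodule.mem_comap] at h2
    exact h2
  -- hence: if `f • m ∈ F k` then `m ∈ F k`
  have key2 : ∀ (k : ℕ) (m : M), f • m ∈ F k → m ∈ F k := by
    intro k
    induction k with
    | zero => intro m _; rw [h0]; trivial
    | succ j ih =>
      intro m hfm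
      exact key j m (ih m (hanti (Nat.le_succ j) hfm)) hfm
  constructor
  · intro x y hxy
    have hz : f • (x - y) = 0 := by
      have hxy' : f • x = f • y := hxy
      rw [smul_sub, hxy', sub_self]
    have hmem : x - y ∈ ⨅ k, F k := by
      rw [Submodule.mem_iInf]
      intro k
      apply key2
      rw [hz]
      exact Submodule.zero_mem _
    rw [hsep, Submodule.mem_bot] at hmem
    exact sub_eq_zero.mp hmem
  · intro k
    rw [Submodule.ideal_span_singleton_smul, Submodule.ideal_span_singleton_smul]
    apply le_antisymm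
    · rintro x ⟨hxk, hxf⟩
      obtain ⟨m, -, rfl⟩ := (Submodule.mem_smul_pointwise_iff_exists _ _ _).mp hxf
      exact (Submodule.mem_smul_pointwise_iff_exists _ _ _).mpr ⟨m, key2 k m hxk, rfl⟩
    · intro x hx
      obtain ⟨m, hm, rfl⟩ := (Submodule.mem_smul_pointwise_iff_exists _ _ _).mp hx
      exact ⟨Submodule.smul_mem _ _ hm,
        (Submodule.mem_smul_pointwise_iff_exists _ _ _).mpr ⟨m, trivial, rfl⟩⟩

end Groth.Agent.S12118
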