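import Groth.Statements.S1213
import Mathlib

set_option autoImplicit false
universe u
open scoped Classical
open FlatMor

namespace Groth.Agent.S1213

open TensorProduct IsLocalRing in
/-- Let R be a local ring, S an R-algebra and N an S-module which, as an R-module, is an internal direct
sum of finite R-submodules. Then for every R-module M and every prime q of S which is the
annihilator of an element of the S-module N ⊗_R M we have q + 𝔪_R S ≠ S. -/
theorem result {R S : Type u} [CommRing R] [IsLocalRing R] [CommRing S] [Algebra R S]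
    (N : Type u) [AddCommGroup N] [Module S N] [Module R N] [IsScalarTower R S N]
    (ι : Type u) (F : ι → Submodule R N) (hF : DirectSum.IsInternal F) (hfin : ∀ i, Module.Finite R (F i))
    (M : Type u) [AddCommGroup M] [Module R M]
    (q : Ideal S) [q.IsPrime] (hq : q ∈ FlatCA.ass S (N ⊗[R] M)) :
    q ⊔ (maximalIdeal R).map (algebraMap R S) ≠ ⊤ := by
  classical
  intro htop
  obtain ⟨hqp, z, hz⟩ := hq
  have h1 : (1 : S) ∈ q ⊔ (maximalIdeal R).map (algebraMap R S) := by
    rw [htop]; exact Submodule.mem_top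
  obtain ⟨f, hf, e, he, hfe⟩ := Submodule.mem_sup.mp h1
  have hfz : f • z = 0 := by
    rw [hz] at hf
    exact (Submodule.mem_annihilator_span_singleton z f).mp hf
  have hT : ∀ z : N ⊗[R] M, ∃ T : Finset ι,
      z ∈ LinearMap.range ((⨆ i ∈ T, F i).subtype.rTensor M) := by
    intro z
    induction z using TensorProduct.induction_on with
    | zero => exact ⟨∅, Submodule.zero_mem _⟩
    | tmul n m =>
      have hn : n ∈ ⨆ i, F i := by
        rw [hF.submodule_iSup_eq_top]; exact Submodule.mem_top
      obtain ⟨T, hnT⟩ := (Submodule.mem_iSup_iff_exists_finset).mp hn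
      exact ⟨T, ⟨(⟨n, hnT⟩ : ↥(⨆ i ∈ T, F i)) ⊗ₜ m, rfl⟩⟩
    | add z z' hz hz' =>
      obtain ⟨T, w, hw⟩ := hz
      obtain ⟨T', w', hw'⟩ := hz'
      refine ⟨T ∪ T', ?_⟩
      have hle : (⨆ i ∈ T, F i) ≤ ⨆ i ∈ T ∪ T', F i :=
        biSup_mono (fun i hi => Finset.mem_union_left _ hi)
      have hle' : (⨆ i ∈ T', F i) ≤ ⨆ i ∈ T ∪ T', F i :=
        biSup_mono (fun i hi => Finset.mem_union_right _ hi)
      refine ⟨((Submodule.inclusion hle).rTensor M) w +
        ((Submodule.inclusion hle').rTensor M) w', ?_⟩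
      rw [map_add, ← hw, ← hw', ← LinearMap.rTensor_comp_apply, ← LinearMap.rTensor_comp_apply,
        Submodule.subtype_comp_inclusion, Submodule.subtype_comp_inclusion]
  obtain ⟨T, hzT⟩ := hT z
  obtain ⟨FT, hFT⟩ : ∃ FT : Submodule R N, FT = ⨆ i ∈ T, F i := ⟨_, rfl⟩
  obtain ⟨GT, hGT⟩ : ∃ GT : Submodule R N, GT = ⨆ i ∈ ((↑T : Set ι)ᶜ), F i := ⟨_, rfl⟩
  rw [← hFT] at hzT
  obtain ⟨z₀, hz₀⟩ := hzT
  have hcompl : IsCompl FT GT := by
    constructor
    · rw [hFT, hGT]
      exact hF.submodule_iSupIndep.disjoint_biSup_biSup (s := (↑T : Set ι))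
        (t := ((↑T : Set ι)ᶜ)) disjoint_compl_right
    · rw [codisjoint_iff, hFT, hGT]
      have h2 := iSup_split F (fun i => i ∈ (↑T : Set ι))
      rw [hF.submodule_iSup_eq_top] at h2
      exact h2.symm
  obtain ⟨π, hπdef⟩ : ∃ π : N →ₗ[R] FT, π = Submodule.linearProjOfIsCompl FT GT hcompl :=
    ⟨_, rfl⟩
  have hπ : ∀ v : FT, π (v : N) = v := by
    intro v
    rw [hπdef]
    exact Submodule.linearProjOfIsCompl_apply_left hcompl v
  haveI : Module.Finite R FT := by
    rw [Module.Finite.iff_fg, hFT]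
    exact Submodule.fg_biSup T F (fun i _ => Module.Finite.iff_fg.mp (hfin i))
  have hsmul : ∀ (s : S) (w : N ⊗[R] M),
      s • w = (((LinearMap.lsmul S N s).restrictScalars R).rTensor M) w := by
    intro s w
    induction w using TensorProduct.induction_on with
    | zero => simp
    | tmul n m => rfl
    | add w w' hw hw' => rw [smul_add, hw, hw', map_add]
  obtain ⟨f', hf'⟩ : ∃ f' : FT →ₗ[R] FT,
      f' = π ∘ₗ ((LinearMap.lsmul S N f).restrictScalars R) ∘ₗ FT.subtype := ⟨_, rfl⟩
  have he' : e ∈ Submodule.span S ((algebraMap R S) '' (maximalIdeal R : Set R)) := he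
  have hP : ∀ n : N, π (e • n) ∈ (maximalIdeal R) • (⊤ : Submodule R FT) := by
    refine Submodule.span_induction
      (p := fun e _ => ∀ n : N, π (e • n) ∈ (maximalIdeal R) • (⊤ : Submodule R FT))
      ?_ ?_ ?_ ?_ he'
    · rintro _ ⟨x, hx, rfl⟩ n
      rw [algebraMap_smul, map_smul]
      exact Submodule.smul_mem_smul hx Submodule.mem_top
    · intro n
      rw [zero_smul, map_zero]
      exact Submodule.zero_mem _
    · intro a b _ _ ha hb n
      rw [add_smul, map_add]
      exact Submodule.add_mem _ (ha n) (hb n)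
    · intro s a _ ha n
      rw [smul_eq_mul, mul_comm, mul_smul]
      exact ha (s • n)
  have hsurj : Function.Surjective f' := by
    rw [← LinearMap.range_eq_top]
    apply eq_top_iff.mpr
    refine Submodule.le_of_le_smul_of_le_jacobson_bot (Module.Finite.fg_top)
      (IsLocalRing.maximalIdeal_le_jacobson ⊥) ?_
    intro v _
    have h3 : (v : N) = f • (v : N) + e • (v : N) := by rw [← add_smul, hfe, one_smul]
    have hv : v = f' v + π (e • (v : N)) := by
      calc v = π (v : N) := (hπ v).symm
        _ = π (f • (v : N) + e • (v : N)) := congrArg π h3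
        _ = f' v + π (e • (v : N)) := by rw [map_add, hf']; rfl
    rw [hv]
    exact Submodule.add_mem_sup (LinearMap.mem_range_self f' v) (hP v)
  have hinj : Function.Injective f' :=
    OrzechProperty.injective_of_surjective_endomorphism f' hsurj
  let E : FT ≃ₗ[R] FT := LinearEquiv.ofBijective f' ⟨hinj, hsurj⟩
  have hcomp : (E.symm.toLinearMap.rTensor M) ∘ₗ (f'.rTensor M) = LinearMap.id := by
    rw [← LinearMap.rTensor_comp]
    have h4 : E.symm.toLinearMap ∘ₗ f' = LinearMap.id :=
      LinearMap.ext fun v => E.symm_apply_apply v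
    rw [h4, LinearMap.rTensor_id]
  have hz0 : (f'.rTensor M) z₀ = 0 := by
    have h5 : (f'.rTensor M) z₀ = (π.rTensor M)
        ((((LinearMap.lsmul S N f).restrictScalars R).rTensor M)
          ((FT.subtype.rTensor M) z₀)) := by
      rw [hf', LinearMap.rTensor_comp_apply, LinearMap.rTensor_comp_apply]
    rw [h5, hz₀, ← hsmul, hfz, map_zero]
  have hz00 : z₀ = 0 := by
    have h6 := congrArg (E.symm.toLinearMap.rTensor M) hz0
    rw [← LinearMap.comp_apply, hcomp, map_zero] at h6
    exact h6
  have hzz : z = 0 := by rw [← hz₀, hz00, map_zero]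
  apply hqp.ne_top
  rw [hz, hzz, Submodule.span_zero_singleton, Submodule.annihilator_bot]

end Groth.Agent.S1213
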