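import Groth.Statements.S1214
import Mathlib

set_option autoImplicit false
universe u
open FlatMor

namespace Groth.Agent.S1214

open TensorProduct


open TensorProduct in
/-- Let R → S be a ring map, I an ideal of R and N an S-module which is I-adically complete. Then for
every R-module M and every prime q of S which is the annihilator of an element of the S-module N ⊗_R
M we have q + IS ≠ S. -/
theorem result {R S : Type u} [CommRing R] [CommRing S] [Algebra R S] (I : Ideal R)
    (N : Type u) [AddCommGroup N] [Module S N] [Module R N] [IsScalarTower R S N] [IsAdicComplete I N]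
    (M : Type u) [AddCommGroup M] [Module R M]
    (q : Ideal S) [q.IsPrime] (hq : q ∈ FlatCA.ass S (N ⊗[R] M)) :
    q ⊔ I.map (algebraMap R S) ≠ ⊤ := by
  intro htop
  obtain ⟨hqprime, z, hz⟩ := hq
  have h1 : (1 : S) ∈ q ⊔ I.map (algebraMap R S) := by
    rw [htop]
    trivial
  obtain ⟨a, haq, b, hbI, hab⟩ := Submodule.mem_sup.mp h1
  have haz : a • z = 0 := by
    have : a ∈ (Submodule.span S {z}).annihilator := hz ▸ haq
    exact (Submodule.mem_annihilator_span_singleton z a).mp this
  have hz0 : z ≠ 0 := by
    rintro rfl
    apply hqprime.ne_top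
    rw [hz, Submodule.span_singleton_eq_bot.mpr rfl, Submodule.annihilator_bot]
  have hstab : ∀ (K : Ideal R) (t : S) (y : N), y ∈ (K • ⊤ : Submodule R N) →
      t • y ∈ (K • ⊤ : Submodule R N) := by
    intro K t y hy
    refine Submodule.smul_induction_on hy ?_ ?_
    · intro k hk n _
      rw [smul_comm]
      exact Submodule.smul_mem_smul hk trivial
    · intro x y hx hy
      rw [smul_add]
      exact add_mem hx hy
  have hA : ∀ (J : Ideal R) (s : S), s ∈ I.map (algebraMap R S) → ∀ x : N,
      x ∈ (J • ⊤ : Submodule R N) → s • x ∈ ((I * J) • ⊤ : Submodule R N) := by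
    intro J s hs x hx
    refine Submodule.span_induction
      (p := fun s _ => s • x ∈ ((I * J) • ⊤ : Submodule R N)) ?_ ?_ ?_ ?_ hs
    · intro s' hs'
      obtain ⟨i, hi, rfl⟩ := hs'
      rw [algebraMap_smul, Submodule.mul_smul]
      exact Submodule.smul_mem_smul hi hx
    · rw [zero_smul]
      exact zero_mem _
    · intro s t _ _ hs ht
      rw [add_smul]
      exact add_mem hs ht
    · intro t s _ hs
      rw [smul_eq_mul, mul_smul t s x]
      exact hstab (I * J) t (s • x) hs
  have hb_pow : ∀ n (x : N), b ^ n • x ∈ (I ^ n • ⊤ : Submodule R N) := by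
    intro n
    induction n with
    | zero =>
      intro x
      simp only [pow_zero, Ideal.one_eq_top, Submodule.top_smul, Submodule.mem_top]
    | succ n ih =>
      intro x
      rw [pow_succ' b, mul_smul, pow_succ' I]
      exact hA _ b hbI _ (ih x)
  have ha_eq : a = 1 - b := by
    rw [← hab]
    ring
  have hinj : ∀ y : N, a • y = 0 → y = 0 := by
    intro y hy
    have hby : b • y = y := by
      have : (1 - b) • y = 0 := ha_eq ▸ hy
      rw [sub_smul, one_smul, sub_eq_zero] at this
      exact this.symm
    have hbn : ∀ n, b ^ n • y = y := by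
      intro n
      induction n with
      | zero => rw [pow_zero, one_smul]
      | succ n ih => rw [pow_succ, mul_smul, hby, ih]
    apply IsHausdorff.haus (inferInstance : IsHausdorff I N) y
    intro n
    rw [SModEq.zero, ← hbn n]
    exact hb_pow n y
  have hsurj : ∀ x : N, ∃ y : N, a • y = x := by
    intro x
    let f : ℕ → N := fun n => (∑ k ∈ Finset.range n, b ^ k) • x
    have hf : ∀ {m n}, m ≤ n → f m ≡ f n [SMOD (I ^ m • ⊤ : Submodule R N)] := by
      intro m n hmn
      induction n, hmn using Nat.le_induction with
      | base => rfl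
      | succ n hmn ih =>
        refine ih.trans ?_
        rw [SModEq.sub_mem]
        have : f n - f (n + 1) = -(b ^ n • x) := by
          simp only [f, Finset.sum_range_succ, add_smul]
          abel
        rw [this]
        exact neg_mem (Submodule.smul_mono_left (Ideal.pow_le_pow_right hmn) (hb_pow n x))
    obtain ⟨L, hL⟩ := IsPrecomplete.prec (inferInstance : IsPrecomplete I N) hf
    refine ⟨L, ?_⟩
    rw [← sub_eq_zero]
    apply IsHausdorff.haus (inferInstance : IsHausdorff I N)
    intro n
    rw [SModEq.zero]
    have e : a • L - x = a • (L - f n) - b ^ n • x := by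
      have : a • f n = x - b ^ n • x := by
        simp only [f]
        rw [smul_smul, ha_eq, mul_comm (1 - b), geom_sum_mul_neg, sub_smul, one_smul]
      rw [smul_sub, this]
      abel
    rw [e]
    refine sub_mem (hstab _ a _ ?_) (hb_pow n x)
    have h3 := hL n
    rw [SModEq.sub_mem] at h3
    have h2 : L - f n = -(f n - L) := by abel
    rw [h2]
    exact neg_mem h3
  let e : N ≃ₗ[R] N := LinearEquiv.ofBijective ((LinearMap.lsmul S N a).restrictScalars R)
    ⟨fun y y' (h : a • y = a • y') => by
      have := hinj (y - y') (by rw [smul_sub]; exact sub_eq_zero.mpr h)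
      exact sub_eq_zero.mp this, fun x => hsurj x⟩
  have hE : ∀ w : N ⊗[R] M, a • w = TensorProduct.congr e (LinearEquiv.refl R M) w := by
    intro w
    induction w using TensorProduct.induction_on with
    | zero => rw [smul_zero, map_zero]
    | tmul n m =>
      rw [TensorProduct.smul_tmul', TensorProduct.congr_tmul]
      rfl
    | add x y hx hy => rw [smul_add, map_add, hx, hy]
  apply hz0
  have h4 := hE z
  rw [haz] at h4
  exact (LinearEquiv.map_eq_zero_iff _).mp h4.symm

end Groth.Agent.S1214
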