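import Groth.Statements.S12209
import Mathlib

set_option autoImplicit false
universe u
open CAlg

namespace Groth.Agent.S12209

/-- Let (R_i) be a system of commutative rings over a nonempty directed preorder, with colimit R, and
let M be an R-module which is flat as an R_i-module for every i (the R_i-module structure being
restriction of scalars along R_i → R). Then M is flat as an R-module. -/
theorem result {ι : Type u} [Preorder ι] [Nonempty ι] [IsDirectedOrder ι]
    (G : ι → Type u) [∀ i, CommRing (G i)] (f : ∀ i j, i ≤ j → G i →+* G j)
    [DirectedSystem G fun i j h => f i j h]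
    (M : Type u) [AddCommGroup M] [Module (Ring.DirectLimit G fun i j h => f i j h) M]
    (hflat : ∀ i, letI : Module (G i) M := Module.compHom M (Ring.DirectLimit.of G (fun i j h => f i j h) i);
      Module.Flat (G i) M) :
    Module.Flat (Ring.DirectLimit G fun i j h => f i j h) M := by
  classical
  rw [Module.Flat.iff_forall_isTrivialRelation]
  intro l r x hrx
  have hex : ∀ i : Fin l, ∃ (n : ι) (g : G n),
      Ring.DirectLimit.of G (fun i j h => f i j h) n g = r i :=
    fun i => Ring.DirectLimit.exists_of (r i)
  choose n g hg using hex
  obtain ⟨N, hN⟩ := Finset.exists_le (Finset.univ.image n)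
  have hnN : ∀ i, n i ≤ N := fun i => hN _ (Finset.mem_image_of_mem _ (Finset.mem_univ _))
  let g' : Fin l → G N := fun i => f (n i) N (hnN i) (g i)
  have hg' : ∀ i, Ring.DirectLimit.of G (fun i j h => f i j h) N (g' i) = r i := by
    intro i
    rw [← hg i]
    exact Ring.DirectLimit.of_f (G := G) (f := fun i j h => f i j h) (hnN i) (g i)
  letI modN : Module (G N) M :=
    Module.compHom M (Ring.DirectLimit.of G (fun i j h => f i j h) N)
  have hflatN : Module.Flat (G N) M := hflat N
  have hrel : ∑ i, g' i • x i = 0 := by
    rw [← hrx]
    refine Finset.sum_congr rfl fun i _ => ?_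
    show Ring.DirectLimit.of G (fun i j h => f i j h) N (g' i) • x i = r i • x i
    rw [hg' i]
  obtain ⟨k, a, y, hxy, haz⟩ := (Module.Flat.iff_forall_isTrivialRelation.mp hflatN) hrel
  refine ⟨k, fun i j => Ring.DirectLimit.of G (fun i j h => f i j h) N (a i j), y, ?_, ?_⟩
  · intro i
    rw [hxy i]
    rfl
  · intro j
    have := congrArg (Ring.DirectLimit.of G (fun i j h => f i j h) N) (haz j)
    rw [map_sum, map_zero] at this
    rw [← this]
    refine Finset.sum_congr rfl fun i _ => ?_
    rw [map_mul, hg' i]

end Groth.Agent.S12209
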