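import Groth.Statements.S12249
import Groth.Agent.Lib.helper6.ArtTangent
import Groth.Agent.Lib.helper6.ArtVersal
import Groth.Prelude.Def_ArtFun5

set_option autoImplicit false
universe u v
open CategoryTheory
open Deform

namespace Groth.Agent.S12249

/-- Let k be an algebraically closed field and F a set-valued functor on local Artinian k-algebras with
residue field k such that F(k) is a single point. If F has a semiuniversal formal element and its
tangent space F(k[ε]) is reduced to one element, then F(A) consists of exactly one element for every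
A: F is the constant one-point functor h_k. -/
theorem result
    {k : Type u} [Field k] [IsAlgClosed k]
    (F : ArtFun.Art k k ⥤ Type v) (h0 : ArtFun.H0 F) (hF : ArtFun.HasHull F)
    (ht : Subsingleton (ArtFun.TangentSpace F)) (A : ArtFun.Art k k) :
    Nonempty (F.obj A) ∧ Subsingleton (F.obj A) := by
  obtain ⟨H⟩ := hF
  set R := H.ring with hR
  set ξ := H.family with hξdef
  have hξ : ArtFun.IsMiniversal ξ := H.miniversal
  have hsurj := H6Art.surjective_app_of_isVersal_of_h0 ξ hξ.1 h0
  -- the tangent space of `h_R` is a subsingleton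
  have htR : Subsingleton (ArtFun.HomSet R.carrier R.res (ArtFun.Art.dual k k)) := by
    refine ⟨fun a b => hξ.2.1 ?_⟩
    exact ht.elim (α := ArtFun.TangentSpace F) _ _
  -- hence the maximal ideal of `R` is zero
  have hm : IsLocalRing.maximalIdeal R.carrier = ⊥ := by
    by_cases hmm : IsLocalRing.maximalIdeal R.carrier ≤ IsLocalRing.maximalIdeal R.carrier ^ 2
    · apply Submodule.eq_bot_of_le_smul_of_le_jacobson_bot (IsLocalRing.maximalIdeal R.carrier)
        (IsLocalRing.maximalIdeal R.carrier) (IsNoetherian.noetherian _)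
      · rw [smul_eq_mul, ← pow_two]
        exact hmm
      · exact (IsLocalRing.jacobson_eq_maximalIdeal ⊥ bot_ne_top).ge
    · exfalso
      obtain ⟨z, hzm, hz2⟩ := SetLike.not_le_iff_exists.1 hmm
      set C := R.trunc 1 with hC
      have hm2 : IsLocalRing.maximalIdeal C ^ 2 = ⊥ := by
        rw [← le_bot_iff]
        calc IsLocalRing.maximalIdeal (R.carrier ⧸ R.mpow 1) ^ (1 + 1)
            ≤ ((IsLocalRing.maximalIdeal R.carrier).map (Ideal.Quotient.mk (R.mpow 1))) ^ (1 + 1) :=
              Ideal.pow_right_mono (ArtFun.CRing.maximalIdeal_quot_le R 1) _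
          _ = (R.mpow 1).map (Ideal.Quotient.mk (R.mpow 1)) := by rw [← Ideal.map_pow]
          _ = ⊥ := Ideal.map_quotient_self _
          _ ≤ ⊥ := le_rfl
      set zb : C := (R.truncHom 1).1 z with hzb
      have hzbm : zb ∈ IsLocalRing.maximalIdeal C := by
        rw [ArtFun.Art.mem_maximalIdeal_iff]
        have e1 : C.res ((R.truncHom 1).1 z) = R.res z :=
          congrArg (fun g : R.carrier →ₐ[k] k => g z) (R.truncHom 1).2
        rw [hzb, e1]
        exact (ArtFun.CRing.mem_maximalIdeal_iff R z).1 hzm
      have hzb2 : zb ∉ IsLocalRing.maximalIdeal C ^ 2 := by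
        rw [hm2, Ideal.mem_bot]
        intro h0'
        apply hz2
        have : Ideal.Quotient.mk (R.mpow 1) z = 0 := h0'
        rw [Ideal.Quotient.eq_zero_iff_mem] at this
        exact this
      obtain ⟨τ, hτ⟩ := H6Art.exists_tangentHom_snd_ne_zero C zb hzbm hzb2
      let φ₁ : ArtFun.HomSet R.carrier R.res (ArtFun.Art.dual k k) :=
        ArtFun.HomSet.map τ (R.truncHom 1)
      let φ₂ : ArtFun.HomSet R.carrier R.res (ArtFun.Art.dual k k) :=
        ArtFun.HomSet.map (ArtFun.Art.toBase C ≫ ArtFun.Art.baseToDual) (R.truncHom 1)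
      have h12 : φ₁ = φ₂ := htR.elim _ _
      have h3 : φ₁.1 z = φ₂.1 z := by rw [h12]
      apply hτ
      have h4 : τ zb = φ₂.1 z := h3
      rw [h4]
      rfl
  have hdecomp : ∀ r : R.carrier, r = algebraMap k R.carrier (R.res r) := by
    intro r
    have h1 : r - algebraMap k R.carrier (R.res r) ∈ IsLocalRing.maximalIdeal R.carrier := by
      rw [ArtFun.CRing.mem_maximalIdeal_iff, map_sub, AlgHom.commutes]
      exact sub_self _
    rw [hm, Ideal.mem_bot, sub_eq_zero] at h1
    exact h1
  have hsub : Subsingleton (ArtFun.HomSet R.carrier R.res A) := by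
    refine ⟨fun a b => Subtype.ext (AlgHom.ext fun r => ?_)⟩
    rw [hdecomp r, AlgHom.commutes, AlgHom.commutes]
  have hne : Nonempty (ArtFun.HomSet R.carrier R.res A) := by
    refine ⟨⟨(Algebra.ofId k A).comp R.res, AlgHom.ext fun r => ?_⟩⟩
    change A.res (algebraMap k A (R.res r)) = R.res r
    rw [AlgHom.commutes]
    rfl
  obtain ⟨φ₀⟩ := hne
  refine ⟨⟨ξ.app A φ₀⟩, ⟨fun x y => ?_⟩⟩
  obtain ⟨a, rfl⟩ := hsurj A x
  obtain ⟨b, rfl⟩ := hsurj A y
  rw [hsub.elim a b]

end Groth.Agent.S12249
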