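import Groth.Statements.S1227


set_option autoImplicit false
universe u
open FlatMor

namespace Groth.Agent.S1227

open TensorProduct in
/-- Let u be a surjective linear map from a projective A-module M to an A-module N. Then there is an
ideal I of A such that for every A-algebra B, the base change u ⊗ 1 from B ⊗ M to B ⊗ N is bijective
if and only if the image of I in B is zero. -/
theorem result {A : Type u} [CommRing A] {M N : Type u} [AddCommGroup M] [Module A M] [Module.Projective A M]
    [AddCommGroup N] [Module A N] (u : M →ₗ[A] N) (hu : Function.Surjective u) :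
    ∃ I : Ideal A, ∀ (B : Type u) [CommRing B] [Algebra A B],
      Function.Bijective (u.baseChange B) ↔ I.map (algebraMap A B) = ⊥ := by
  refine ⟨⨆ φ : M →ₗ[A] A, Submodule.map φ (LinearMap.ker u), ?_⟩
  intro B _ _
  have hkey : (⨆ φ : M →ₗ[A] A, Submodule.map φ (LinearMap.ker u) : Ideal A).map
      (algebraMap A B) = ⊥ ↔
      ∀ (φ : M →ₗ[A] A) (k : M), u k = 0 → algebraMap A B (φ k) = 0 := by
    rw [Ideal.map_eq_bot_iff_le_ker]
    constructor
    · intro h φ k hk
      have h1 : φ k ∈ (⨆ φ : M →ₗ[A] A, Submodule.map φ (LinearMap.ker u) : Ideal A) :=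
        (le_iSup (fun φ : M →ₗ[A] A => Submodule.map φ (LinearMap.ker u)) φ) ⟨k, hk, rfl⟩
      exact h h1
    · intro h
      refine iSup_le fun φ => ?_
      rintro _ ⟨k, hk, rfl⟩
      exact h φ k hk
  rw [hkey]
  constructor
  · intro hbij φ k hk
    have h1 : (u.baseChange B) ((1 : B) ⊗ₜ[A] k) = 0 := by
      rw [LinearMap.baseChange_tmul, hk, TensorProduct.tmul_zero]
    have h2 : (1 : B) ⊗ₜ[A] k = 0 := hbij.1 (by rw [h1, map_zero])
    have h3 : (φ.baseChange B) ((1 : B) ⊗ₜ[A] k) = 0 := by rw [h2, map_zero]
    rw [LinearMap.baseChange_tmul] at h3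
    have h4 := congrArg (TensorProduct.rid A B) h3
    rw [TensorProduct.rid_tmul, map_zero] at h4
    rw [Algebra.algebraMap_eq_smul_one]
    exact h4
  · intro h
    obtain ⟨s, hs⟩ := Module.projective_def'.mp (inferInstance : Module.Projective A M)
    have hzero : ∀ (b : B) (k : M), u k = 0 → b ⊗ₜ[A] k = (0 : B ⊗[A] M) := by
      intro b k hk
      have hk' : b ⊗ₜ[A] k = b ⊗ₜ[A] (Finsupp.linearCombination A id (s k)) := by
        rw [← LinearMap.comp_apply, hs, LinearMap.id_apply]
      rw [hk', Finsupp.linearCombination_apply, Finsupp.sum, TensorProduct.tmul_sum]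
      refine Finset.sum_eq_zero fun m _ => ?_
      have h5 : algebraMap A B ((s k) m) = 0 := h (Finsupp.lapply m ∘ₗ s) k hk
      rw [TensorProduct.tmul_smul, TensorProduct.smul_tmul', Algebra.smul_def, h5, zero_mul,
        TensorProduct.zero_tmul]
    have hall : ∀ w : B ⊗[A] (LinearMap.ker u),
        ((LinearMap.ker u).subtype.lTensor B) w = 0 := by
      intro w
      induction w using TensorProduct.induction_on with
      | zero => exact map_zero _
      | tmul b k => rw [LinearMap.lTensor_tmul]; exact hzero b k.1 k.2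
      | add w₁ w₂ h₁ h₂ => rw [map_add, h₁, h₂, add_zero]
    constructor
    · rw [← LinearMap.ker_eq_bot, LinearMap.ker_eq_bot']
      intro z hz
      have hex : Function.Exact ((LinearMap.ker u).subtype.lTensor B) (u.lTensor B) :=
        lTensor_exact B (LinearMap.exact_subtype_ker_map u) hu
      have hz' : (u.lTensor B) z = 0 := hz
      obtain ⟨w, rfl⟩ := (hex z).mp hz'
      exact hall w
    · rw [LinearMap.baseChange_eq_ltensor]
      exact LinearMap.lTensor_surjective B hu

end Groth.Agent.S1227
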