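import Groth.Statements.S12299
import Groth.Agent.Lib.helper6.ArtTangent

set_option autoImplicit false
universe u v
open CategoryTheory
open ArtFun

namespace Groth.Agent.S12299

/-- Let k be an algebraically closed field, F a set-valued functor on local Artinian k-algebras with
residue field k, and (R, ξ) a miniversal family for F, with R a complete local Noetherian k-algebra
with residue field k: the morphism h_R → F has the lifting property along surjections and is
bijective on the dual numbers. Let S be a complete local Noetherian k-algebra with residue field k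
and g₁, g₂ : R → S two k-algebra maps compatible with the augmentations along which ξ induces the
same formal family over S (the same compatible sequence in the F(S/m^(n+1))). Then g₁ and g₂ induce
the same map R → S/m_S², so the map R/m_R² → S/m_S² attached to a formal family over S is well
defined. (Coefficient rings are taken Noetherian here.) -/
theorem result
    {k : Type u} [Field k] [IsAlgClosed k] {F : ArtFun.Art k k ⥤ Type v}
    (R : ArtFun.CRing k k) (ξ : ArtFun.Family R.carrier R.res F) (hξ : ArtFun.IsMiniversal ξ)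
    (S : ArtFun.CRing k k) (g₁ g₂ : R.carrier →ₐ[k] S.carrier)
    (hg₁ : S.res.comp g₁ = R.res) (hg₂ : S.res.comp g₂ = R.res)
    (h : (ξ.along g₁ hg₁).toFormalElt = (ξ.along g₂ hg₂).toFormalElt) :
    (S.truncHom 1).1.comp g₁ = (S.truncHom 1).1.comp g₂ := by
  set C := S.trunc 1 with hC
  let φ₁ : ArtFun.HomSet R.carrier R.res C := ⟨(S.truncHom 1).1.comp g₁, by
    rw [← AlgHom.comp_assoc, (S.truncHom 1).2, hg₁]⟩
  let φ₂ : ArtFun.HomSet R.carrier R.res C := ⟨(S.truncHom 1).1.comp g₂, by
    rw [← AlgHom.comp_assoc, (S.truncHom 1).2, hg₂]⟩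
  have h1 : ξ.app C φ₁ = ξ.app C φ₂ := congrArg (fun u => u.elt 1) h
  have hm2 : IsLocalRing.maximalIdeal C ^ 2 = ⊥ := by
    rw [← le_bot_iff]
    calc IsLocalRing.maximalIdeal (S.carrier ⧸ S.mpow 1) ^ (1 + 1)
        ≤ ((IsLocalRing.maximalIdeal S.carrier).map (Ideal.Quotient.mk (S.mpow 1))) ^ (1 + 1) :=
          Ideal.pow_right_mono (ArtFun.CRing.maximalIdeal_quot_le S 1) _
      _ = (S.mpow 1).map (Ideal.Quotient.mk (S.mpow 1)) := by rw [← Ideal.map_pow]
      _ = ⊥ := Ideal.map_quotient_self _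
      _ ≤ ⊥ := le_rfl
  by_contra hne
  have hne' : ∃ r, φ₁.1 r ≠ φ₂.1 r := by
    by_contra hall
    push Not at hall
    exact hne (AlgHom.ext hall)
  obtain ⟨r, hr⟩ := hne'
  set z := φ₁.1 r - φ₂.1 r with hz
  have hzm : z ∈ IsLocalRing.maximalIdeal C := by
    rw [ArtFun.Art.mem_maximalIdeal_iff, hz, map_sub]
    have e1 : C.res (φ₁.1 r) = R.res r := congrArg (fun g : R.carrier →ₐ[k] k => g r) φ₁.2
    have e2 : C.res (φ₂.1 r) = R.res r := congrArg (fun g : R.carrier →ₐ[k] k => g r) φ₂.2
    rw [e1, e2, sub_self]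
  have hz2 : z ∉ IsLocalRing.maximalIdeal C ^ 2 := by
    rw [hm2, Ideal.mem_bot]
    intro h0
    exact hr (sub_eq_zero.1 h0)
  obtain ⟨τ, hτ⟩ := H6Art.exists_tangentHom_snd_ne_zero C z hzm hz2
  have h2 : ArtFun.HomSet.map τ φ₁ = ArtFun.HomSet.map τ φ₂ := by
    apply hξ.2.1
    rw [ξ.natural, ξ.natural, h1]
  have h3 : τ (φ₁.1 r) = τ (φ₂.1 r) :=
    congrArg (fun g : ArtFun.HomSet R.carrier R.res (ArtFun.Art.dual k k) => g.1 r) h2
  apply hτ
  have h4 : τ z = 0 := by
    rw [hz]
    have : τ (φ₁.1 r - φ₂.1 r) = τ (φ₁.1 r) - τ (φ₂.1 r) := map_sub τ.toAlgHom _ _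
    rw [this, h3, sub_self]
  rw [h4]
  rfl

end Groth.Agent.S12299
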