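import Groth.Statements.S12315
import Groth.Agent.Lib.helper6.ArtMinVersal

set_option autoImplicit false
universe u v
open CategoryTheory
open SGA7

namespace Groth.Agent.S12315

/-- Let Λ be a complete Noetherian local ring with residue field k (the map Λ → k surjective), and
consider functors on the category of local Artinian Λ-algebras with residue field k. Let F be such a
functor, R a complete local Noetherian Λ-algebra with residue field k, and ξ a family of F over R (a
morphism h_R → F) which is injective on k[ε]: distinct augmented Λ-algebra maps R → k[ε] give
distinct elements of F(k[ε]). Then every endomorphism of the pair (R, ξ), that is every Λ-algebra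
map α : R → R compatible with the augmentation such that transporting ξ along α gives back ξ, is an
automorphism of R. (The published statement is for formal objects of a cofibred groupoid; this row
is the case of a set-valued functor.) -/
theorem result (Λ k : Type u) [CommRing Λ] [IsLocalRing Λ] [IsNoetherianRing Λ]
    [IsAdicComplete (IsLocalRing.maximalIdeal Λ) Λ] [Field k] [Algebra Λ k]
    (hk : Function.Surjective (algebraMap Λ k))
    (F : ArtFun.Art Λ k ⥤ Type v) (R : ArtFun.CRing Λ k) (ξ : ArtFun.Family R.carrier R.res F)
    (hinj : Function.Injective (ξ.app (ArtFun.Art.dual Λ k)))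
    (α : R.carrier →ₐ[Λ] R.carrier) (hα : R.res.comp α = R.res) (hξ : ξ.along α hα = ξ) :
    Function.Bijective α := by
  have e1 : ∀ φ : ArtFun.HomSet R.carrier R.res (ArtFun.Art.dual Λ k),
      ξ.app _ φ = (ξ.along α hα).app _ φ := fun φ => by rw [hξ]
  have hs : Function.Surjective α := by
    apply H6Art.surjective_of_homSet_dual_injective R R α hα
    intro φ ψ h
    apply hinj
    rw [e1 φ, e1 ψ]
    change ξ.app _ ⟨φ.1.comp α, _⟩ = ξ.app _ ⟨ψ.1.comp α, _⟩
    congr 1
    exact Subtype.ext h
  exact ⟨H6Loc.injective_of_surjective_ringEnd (α : R.carrier →+* R.carrier) hs, hs⟩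

end Groth.Agent.S12315
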