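import Groth.Statements.S12316
import Groth.Agent.Lib.helper6.ArtSmooth

set_option autoImplicit false
universe u v
open CategoryTheory
open SGA7

namespace Groth.Agent.S12316

/-- Suppose Λ is a Noetherian local ring, complete for its maximal ideal, whose residue field is k (so Λ
→ k is surjective), and work with functors defined on the category of local Artinian Λ-algebras
having residue field k. Take morphisms φ : F → G and ψ : G → H of such functors. Assume that each of
F(k), G(k), H(k) consists of a single point; that for G the comparison map on fibre products A₁ ×_A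
A₂ is surjective as soon as A₂ → A is surjective, and is bijective for products of the form A' ×_k
k[ε]; that for H the comparison map is bijective on every fibre product A₁ ×_A A₂ with A₂ → A
surjective; and that the induced map on tangent spaces G(k[ε]) → H(k[ε]) coming from ψ is injective.
Under these assumptions, φ ≫ ψ is smooth if and only if both φ and ψ are smooth. (The published
statement is for functors of cofibred groupoids with G semi-homogeneous and H homogeneous; this row
is the case of set-valued functors.) -/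
theorem result (Λ k : Type u) [CommRing Λ] [IsLocalRing Λ] [IsNoetherianRing Λ]
    [IsAdicComplete (IsLocalRing.maximalIdeal Λ) Λ] [Field k] [Algebra Λ k]
    (hk : Function.Surjective (algebraMap Λ k))
    {F G H : ArtFun.Art Λ k ⥤ Type v} (φ : F ⟶ G) (ψ : G ⟶ H)
    (hF : ArtFun.H0 F) (hG : ArtFun.H0 G ∧ ArtFun.S1 G ∧ ArtFun.Heps G) (hH0 : ArtFun.H0 H)
    (hH : ∀ ⦃B A A' A'' : ArtFun.Art Λ k⦄ (p' : B ⟶ A') (p'' : B ⟶ A'') (f' : A' ⟶ A) (f'' : A'' ⟶ A)
      (h : ArtFun.Art.IsFibreProd p' p'' f' f''), Function.Surjective f'' → Function.Bijective (ArtFun.cmp H h))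
    (hψ : Function.Injective (ArtFun.TangentSpace.map ψ)) :
    ArtFun.IsSmooth (φ ≫ ψ) ↔ (ArtFun.IsSmooth φ ∧ ArtFun.IsSmooth ψ) := by
  haveI : Module.Finite Λ k := Module.Finite.of_surjective (Algebra.linearMap Λ k) hk
  constructor
  · intro hs
    have hφ : ArtFun.IsSmooth φ := by
      apply H6Art.isSmooth_of_smallExt
      intro B A μ hμ y
      obtain ⟨⟨x, g⟩, hxg⟩ := y
      have hxg' : φ.app A x = G.map μ g := hxg
      obtain ⟨w₀, hw₀⟩ := hs μ hμ.1 ⟨(x, ψ.app B g), by
        change ψ.app A (φ.app A x) = H.map μ (ψ.app B g)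
        rw [hxg', NatTrans.naturality_apply]⟩
      have hw₀1 : F.map μ w₀ = x := congrArg (fun t => t.1.1) hw₀
      have hw₀2 : ψ.app B (φ.app B w₀) = ψ.app B g := congrArg (fun t => t.1.2) hw₀
      have heq : φ.app B w₀ = g := by
        refine H6Art.GNat.eq_of_smallExt (H6Art.GNat.ofNatTrans ψ) hG.2.1
          (fun _ _ p' p'' h => (hG.2.2 p' p'' h).1)
          (fun _ _ _ _ p' p'' f' f'' h hs' => (hH p' p'' f' f'' h hs').1)
          hψ μ hμ _ _ ?_ hw₀2
        rw [← NatTrans.naturality_apply, hw₀1, hxg']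
      exact ⟨w₀, Subtype.ext (Prod.ext hw₀1 heq)⟩
    refine ⟨hφ, ?_⟩
    have hsurj : ∀ A : ArtFun.Art Λ k, Function.Surjective (φ.app A) := by
      intro A y
      obtain ⟨x0⟩ := hF.1
      have hx0 : φ.app (ArtFun.Art.base Λ k) x0 = G.map (ArtFun.Art.toBase A) y :=
        hG.1.2.elim _ _
      have hsb : Function.Surjective (ArtFun.Art.toBase A) := A.res_surjective
      obtain ⟨w, hw⟩ := hφ (ArtFun.Art.toBase A) hsb ⟨(x0, y), hx0⟩
      exact ⟨w, congrArg (fun t => t.1.2) hw⟩
    intro B A μ hμ y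
    obtain ⟨⟨g, z⟩, hgz⟩ := y
    have hgz' : ψ.app A g = H.map μ z := hgz
    obtain ⟨x, hx⟩ := hsurj A g
    have hx' : (φ ≫ ψ).app A x = H.map μ z := by
      change ψ.app A (φ.app A x) = H.map μ z
      rw [hx, hgz']
    obtain ⟨w, hw⟩ := hs μ hμ ⟨(x, z), hx'⟩
    have hw1 : F.map μ w = x := congrArg (fun t => t.1.1) hw
    have hw2 : ψ.app B (φ.app B w) = z := congrArg (fun t => t.1.2) hw
    refine ⟨φ.app B w, Subtype.ext (Prod.ext ?_ hw2)⟩
    change G.map μ (φ.app B w) = g
    rw [← NatTrans.naturality_apply φ μ w, hw1, hx]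
  · rintro ⟨hφ, hψs⟩
    intro B A μ hμ y
    obtain ⟨⟨x, z⟩, hxz⟩ := y
    have hxz' : ψ.app A (φ.app A x) = H.map μ z := hxz
    obtain ⟨g, hg⟩ := hψs μ hμ ⟨(φ.app A x, z), hxz'⟩
    have hg1 : G.map μ g = φ.app A x := congrArg (fun t => t.1.1) hg
    have hg2 : ψ.app B g = z := congrArg (fun t => t.1.2) hg
    obtain ⟨w, hw⟩ := hφ μ hμ ⟨(x, g), hg1.symm⟩
    have hw1 : F.map μ w = x := congrArg (fun t => t.1.1) hw
    have hw2 : φ.app B w = g := congrArg (fun t => t.1.2) hw
    refine ⟨w, Subtype.ext (Prod.ext hw1 ?_)⟩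
    change ψ.app B (φ.app B w) = z
    rw [hw2, hg2]

end Groth.Agent.S12316
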