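import Groth.Statements.S12320
import Groth.Agent.Lib.helper6.ArtDual
import Groth.Agent.Lib.helper6.ArtTorsor

set_option autoImplicit false
universe u v
open CategoryTheory
open SGA7

namespace Groth.Agent.S12320

/-- Suppose Λ is a Noetherian local ring, complete for its maximal ideal, whose residue field is k (so
that Λ → k is onto), and work with functors defined on the category of local Artinian Λ-algebras
having residue field k. Take such a functor F for which F(k) is a singleton, for which the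
comparison map F(A₁ ×_A A₂) → F(A₁) ×_{F(A)} F(A₂) is surjective as soon as A₂ → A is surjective,
and for which this map is bijective in the case A' ×_k k[ε]. Call an element a ∈ F(R) versal for
small prolongations of the base point when, given any object R₀ whose augmentation R₀ → k is a small
extension and any b ∈ F(R₀), some morphism R → R₀ sends a to b. Assume a ∈ F(R) has this versality
property, that π₁ : R₁ → R is a small extension together with a₁ ∈ F(R₁) whose image is a, and that
g : R' → R is a morphism together with a' ∈ F(R') whose image is a. Then a morphism f : R' → R₁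
satisfying f ≫ π₁ = g and sending a' to a₁ exists exactly when some morphism f : R' → R₁ satisfying
f ≫ π₁ = g exists at all. (The published statement concerns semi-homogeneous cofibred groupoids;
this row treats only the set-valued functor case.) -/
theorem result (Λ k : Type u) [CommRing Λ] [IsLocalRing Λ] [IsNoetherianRing Λ]
    [IsAdicComplete (IsLocalRing.maximalIdeal Λ) Λ] [Field k] [Algebra Λ k]
    (hk : Function.Surjective (algebraMap Λ k))
    (F : ArtFun.Art Λ k ⥤ Type v) (hF : ArtFun.H0 F ∧ ArtFun.S1 F ∧ ArtFun.Heps F)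
    {R R₁ R' : ArtFun.Art Λ k} (π₁ : R₁ ⟶ R) (hπ : ArtFun.Art.IsSmallExt π₁) (g : R' ⟶ R)
    (a : F.obj R) (a₁ : F.obj R₁) (a' : F.obj R') (h₁ : F.map π₁ a₁ = a) (h' : F.map g a' = a)
    (hvers : ∀ (R₀ : ArtFun.Art Λ k), ArtFun.Art.IsSmallExt (ArtFun.Art.toBase R₀) →
      ∀ b : F.obj R₀, ∃ φ : R ⟶ R₀, F.map φ a = b) :
    (∃ f : R' ⟶ R₁, f ≫ π₁ = g ∧ F.map f a' = a₁) ↔ (∃ f : R' ⟶ R₁, f ≫ π₁ = g) := by
  haveI : Module.Finite Λ k := Module.Finite.of_surjective (Algebra.linearMap Λ k) hk
  constructor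
  · rintro ⟨f, hf, -⟩; exact ⟨f, hf⟩
  · rintro ⟨f, hf⟩
    obtain ⟨h0, hS1, hEps⟩ := hF
    set P := H6Art.fibreProd π₁ π₁ hπ.1 with hPdef
    set p₁ : P ⟶ R₁ := H6Art.fibreProdFst π₁ π₁ hπ.1 with hp₁
    set p₂ : P ⟶ R₁ := H6Art.fibreProdSnd π₁ π₁ hπ.1 with hp₂
    have hP : ArtFun.Art.IsFibreProd p₁ p₂ π₁ π₁ := H6Art.isFibreProd_fibreProd π₁ π₁ hπ.1
    obtain ⟨δ, hδ, -⟩ := H6Art.exists_delta hπ hP
    set b₁ := F.map f a' with hb₁
    have hb₁a : F.map π₁ b₁ = a := by rw [hb₁, ← Functor.map_comp_apply, hf, h']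
    obtain ⟨z, hz⟩ := hS1 p₁ p₂ π₁ π₁ hP hπ.1 ⟨(b₁, a₁), by rw [hb₁a, h₁]⟩
    have hz1 : F.map p₁ z = b₁ := congrArg (fun t => t.1.1) hz
    have hz2 : F.map p₂ z = a₁ := congrArg (fun t => t.1.2) hz
    obtain ⟨φ, hφ⟩ := hvers (ArtFun.Art.dual Λ k) H6Art.isSmallExt_toBase_dual (F.map δ z)
    obtain ⟨h, hh1, hh2⟩ := H6Art.IsFibreProd.exists_lift hδ f (g ≫ φ)
      (by rw [ArtFun.Art.eq_toBase (f ≫ _), ArtFun.Art.eq_toBase ((g ≫ φ) ≫ _)])
    refine ⟨h ≫ p₂, ?_, ?_⟩
    · rw [Category.assoc, ← hP.w, ← Category.assoc, hh1, hf]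
    · have hz' : F.map h a' = z := by
        apply (hEps p₁ δ hδ).1
        apply Subtype.ext
        apply Prod.ext
        · change F.map p₁ (F.map h a') = F.map p₁ z
          rw [← Functor.map_comp_apply, hh1, hz1]
        · change F.map δ (F.map h a') = F.map δ z
          rw [← Functor.map_comp_apply, hh2, Functor.map_comp_apply, h', hφ]
      rw [Functor.map_comp_apply, hz', hz2]

end Groth.Agent.S12320
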