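import Groth.Statements.S12417
import Mathlib

set_option autoImplicit false
universe u
open CategoryTheory AlgebraicGeometry
open Props

namespace Groth.Agent.S12417

theorem step_fin {X : Scheme.{u}} (P : X.Opens → Prop)
    (hb : ∀ (U : X.Opens) (n : ℕ) (V : Fin n → X.Opens), IsCompact (U : Set X) →
      (∀ i, IsAffineOpen (V i)) → ⨆ i, V i = U → (∀ i j, P (V i ⊓ V j)) → P U)
    (U : X.Opens) (hU : IsCompact (U : Set X)) {ι : Type*} (t : Finset ι) (V : ι → X.Opens)
    (hV : ∀ i ∈ t, IsAffineOpen (V i)) (hsup : ⨆ i ∈ t, V i = U)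
    (hP : ∀ i ∈ t, ∀ j ∈ t, P (V i ⊓ V j)) : P U := by
  classical
  let e := t.equivFin
  refine hb U t.card (fun k => V (e.symm k).1) hU (fun k => hV _ (e.symm k).2) ?_
    (fun k l => hP _ (e.symm k).2 _ (e.symm l).2)
  rw [← hsup]
  apply le_antisymm
  · refine iSup_le fun k => ?_
    exact le_iSup₂ (f := fun i _ => V i) (e.symm k).1 (e.symm k).2
  · refine iSup₂_le fun i hi => ?_
    have := le_iSup (fun k => V (e.symm k).1) (e ⟨i, hi⟩)
    simpa using this

theorem step1 {X : Scheme.{u}} (P : X.Opens → Prop) (ha : ∀ U : X.Opens, IsAffineOpen U → P U)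
    (hb : ∀ (U : X.Opens) (n : ℕ) (V : Fin n → X.Opens), IsCompact (U : Set X) →
      (∀ i, IsAffineOpen (V i)) → ⨆ i, V i = U → (∀ i j, P (V i ⊓ V j)) → P U)
    (W : X.Opens) (hW : IsAffineOpen W) (U : X.Opens) (hU : IsCompact (U : Set X))
    (hUW : U ≤ W) : P U := by
  classical
  have h1 : ∀ x : U, ∃ f : Γ(X, W), X.basicOpen f ≤ U ∧ (x : X) ∈ X.basicOpen f :=
    fun x => hW.exists_basicOpen_le x (hUW x.2)
  choose f hf1 hf2 using h1
  obtain ⟨t, ht⟩ := hU.elim_finite_subcover (fun x : U => (X.basicOpen (f x) : Set X))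
    (fun x => (X.basicOpen (f x)).2) (fun y hy => Set.mem_iUnion.mpr ⟨⟨y, hy⟩, hf2 ⟨y, hy⟩⟩)
  refine step_fin P hb U hU t (fun x => X.basicOpen (f x)) (fun x _ => hW.basicOpen (f x)) ?_ ?_
  · apply le_antisymm
    · exact iSup₂_le fun x _ => hf1 x
    · intro y hy
      have := ht hy
      simp only [Set.mem_iUnion] at this
      obtain ⟨x, hx, hyx⟩ := this
      exact (le_iSup₂ (f := fun x (_ : x ∈ t) => X.basicOpen (f x)) x hx) hyx
  · intro x _ y _
    rw [← Scheme.basicOpen_mul]
    exact ha _ (hW.basicOpen _)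

/-- Let X be a quasi-compact quasi-separated scheme and P a property of opens of X such that (a) P holds
for every affine open, and (b) whenever a quasi-compact open U has a finite affine open covering U =
V_1 ∪ … ∪ V_n with P holding for every intersection V_i ∩ V_j, P holds for U. Then P holds for every
quasi-compact open of X. -/
theorem result (X : Scheme.{u}) [CompactSpace X] [QuasiSeparatedSpace X]
    (P : X.Opens → Prop) (ha : ∀ U : X.Opens, IsAffineOpen U → P U)
    (hb : ∀ (U : X.Opens) (n : ℕ) (V : Fin n → X.Opens), IsCompact (U : Set X) →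
      (∀ i, IsAffineOpen (V i)) → ⨆ i, V i = U → (∀ i j, P (V i ⊓ V j)) → P U)
    (U : X.Opens) (hU : IsCompact (U : Set X)) : P U := by
  classical
  obtain ⟨s, hs, hUs⟩ :=
    (isCompact_and_isOpen_iff_finite_and_eq_biUnion_affineOpens).mp ⟨hU, U.2⟩
  refine step_fin P hb U hU hs.toFinset (fun W : X.affineOpens => W.1) (fun W _ => W.2) ?_ ?_
  · apply TopologicalSpace.Opens.ext
    rw [hUs]
    simp
  · intro V _ W _
    refine step1 P ha hb V.1 V.2 _ ?_ inf_le_left
    exact QuasiSeparatedSpace.inter_isCompact _ _ V.1.2 V.2.isCompact W.1.2 W.2.isCompact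

end Groth.Agent.S12417
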