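import Groth.Statements.S12421
import Mathlib

set_option autoImplicit false
universe u
open TensorProduct
open Desc

namespace Groth.Agent.S12421

/-- Let R → R' be faithfully flat and M an R-module. With δ¹ : M ⊗ R' → M ⊗ (R' ⊗ R'), m ⊗ r ↦ m ⊗ (1 ⊗
r) − m ⊗ (r ⊗ 1), and δ² : M ⊗ (R' ⊗ R') → M ⊗ (R' ⊗ (R' ⊗ R')), m ⊗ x ↦ m ⊗ (1 ⊗ x) − m ⊗ (ins₁ x)
+ m ⊗ (ins₂ x), where ins₁ (r₁ ⊗ r₂) = r₁ ⊗ (1 ⊗ r₂) and ins₂ (r₁ ⊗ r₂) = r₁ ⊗ (r₂ ⊗ 1), the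
sequence M ⊗ R' → M ⊗ R'^{⊗2} → M ⊗ R'^{⊗3} is exact: the kernel of δ² is the image of δ¹. (The
published statement asserts exactness of the whole complex; this row states exactness at M ⊗ R′ ⊗ R′
only.) -/
theorem result (R R' : Type u) [CommRing R] [CommRing R'] [Algebra R R']
    [Module.FaithfullyFlat R R'] (M : Type u) [AddCommGroup M] [Module R M] :
    Function.Exact
      (LinearMap.lTensor M (Algebra.TensorProduct.includeRight : R' →ₐ[R] R' ⊗[R] R').toLinearMap -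
        LinearMap.lTensor M
          (Algebra.TensorProduct.includeLeft : R' →ₐ[R] R' ⊗[R] R').toLinearMap)
      (LinearMap.lTensor M
          (Algebra.TensorProduct.includeRight : R' ⊗[R] R' →ₐ[R] R' ⊗[R] (R' ⊗[R] R')).toLinearMap -
        LinearMap.lTensor M
          (Algebra.TensorProduct.map (AlgHom.id R R')
            (Algebra.TensorProduct.includeRight : R' →ₐ[R] R' ⊗[R] R')).toLinearMap +
        LinearMap.lTensor M
          (Algebra.TensorProduct.map (AlgHom.id R R')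
            (Algebra.TensorProduct.includeLeft : R' →ₐ[R] R' ⊗[R] R')).toLinearMap) := by
  classical
  set δ1 : M ⊗[R] R' →ₗ[R] M ⊗[R] (R' ⊗[R] R') :=
    LinearMap.lTensor M (Algebra.TensorProduct.includeRight : R' →ₐ[R] R' ⊗[R] R').toLinearMap -
      LinearMap.lTensor M
        (Algebra.TensorProduct.includeLeft : R' →ₐ[R] R' ⊗[R] R').toLinearMap with hδ1def
  set δ2 : M ⊗[R] (R' ⊗[R] R') →ₗ[R] M ⊗[R] (R' ⊗[R] (R' ⊗[R] R')) :=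
    LinearMap.lTensor M
        (Algebra.TensorProduct.includeRight : R' ⊗[R] R' →ₐ[R] R' ⊗[R] (R' ⊗[R] R')).toLinearMap -
      LinearMap.lTensor M
        (Algebra.TensorProduct.map (AlgHom.id R R')
          (Algebra.TensorProduct.includeRight : R' →ₐ[R] R' ⊗[R] R')).toLinearMap +
      LinearMap.lTensor M
        (Algebra.TensorProduct.map (AlgHom.id R R')
          (Algebra.TensorProduct.includeLeft : R' →ₐ[R] R' ⊗[R] R')).toLinearMap with hδ2def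
  have hδ1 : ∀ (m : M) (r : R'), δ1 (m ⊗ₜ[R] r) =
      m ⊗ₜ[R] ((1 : R') ⊗ₜ[R] r) - m ⊗ₜ[R] (r ⊗ₜ[R] (1 : R')) := fun m r => rfl
  have hδ2 : ∀ (m : M) (r₁ r₂ : R'), δ2 (m ⊗ₜ[R] (r₁ ⊗ₜ[R] r₂)) =
      m ⊗ₜ[R] ((1 : R') ⊗ₜ[R] (r₁ ⊗ₜ[R] r₂)) - m ⊗ₜ[R] (r₁ ⊗ₜ[R] ((1 : R') ⊗ₜ[R] r₂)) +
        m ⊗ₜ[R] (r₁ ⊗ₜ[R] (r₂ ⊗ₜ[R] (1 : R'))) := fun m r₁ r₂ => rfl
  -- the composite vanishes
  have hcomp0 : δ2 ∘ₗ δ1 = 0 := by
    apply TensorProduct.ext'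
    intro m r
    rw [LinearMap.comp_apply, hδ1, map_sub, hδ2, hδ2, LinearMap.zero_apply]
    abel
  -- the contracting homotopy
  obtain ⟨μ2, hμ2⟩ : ∃ μ2 : R' ⊗[R] (R' ⊗[R] R') →ₗ[R] R' ⊗[R] R',
      ∀ r₀ r₁ r₂ : R', μ2 (r₀ ⊗ₜ[R] (r₁ ⊗ₜ[R] r₂)) = (r₀ * r₁) ⊗ₜ[R] r₂ :=
    ⟨LinearMap.rTensor R' (LinearMap.mul' R R') ∘ₗ (TensorProduct.assoc R R' R' R').symm.toLinearMap,
      fun _ _ _ => rfl⟩
  obtain ⟨μ3, hμ3⟩ : ∃ μ3 : R' ⊗[R] (R' ⊗[R] (R' ⊗[R] R')) →ₗ[R] R' ⊗[R] (R' ⊗[R] R'),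
      ∀ (r₀ r₁ : R') (z : R' ⊗[R] R'), μ3 (r₀ ⊗ₜ[R] (r₁ ⊗ₜ[R] z)) = (r₀ * r₁) ⊗ₜ[R] z :=
    ⟨LinearMap.rTensor (R' ⊗[R] R') (LinearMap.mul' R R') ∘ₗ
      (TensorProduct.assoc R R' R' (R' ⊗[R] R')).symm.toLinearMap, fun _ _ _ => rfl⟩
  obtain ⟨h2, hh2⟩ : ∃ h2 : R' ⊗[R] (M ⊗[R] (R' ⊗[R] R')) →ₗ[R] R' ⊗[R] (M ⊗[R] R'),
      ∀ (r₀ : R') (m : M) (r₁ r₂ : R'), h2 (r₀ ⊗ₜ[R] (m ⊗ₜ[R] (r₁ ⊗ₜ[R] r₂))) =
        (r₀ * r₁) ⊗ₜ[R] (m ⊗ₜ[R] r₂) :=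
    ⟨(TensorProduct.leftComm R M R' R').toLinearMap ∘ₗ LinearMap.lTensor M μ2 ∘ₗ
      (TensorProduct.leftComm R R' M (R' ⊗[R] R')).toLinearMap, fun r₀ m r₁ r₂ => by
        simp only [LinearMap.comp_apply, LinearEquiv.coe_coe, TensorProduct.leftComm_tmul,
          LinearMap.lTensor_tmul, hμ2]⟩
  obtain ⟨h3, hh3⟩ : ∃ h3 : R' ⊗[R] (M ⊗[R] (R' ⊗[R] (R' ⊗[R] R'))) →ₗ[R]
      R' ⊗[R] (M ⊗[R] (R' ⊗[R] R')),
      ∀ (r₀ : R') (m : M) (r₁ : R') (z : R' ⊗[R] R'),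
        h3 (r₀ ⊗ₜ[R] (m ⊗ₜ[R] (r₁ ⊗ₜ[R] z))) = (r₀ * r₁) ⊗ₜ[R] (m ⊗ₜ[R] z) :=
    ⟨(TensorProduct.leftComm R M R' (R' ⊗[R] R')).toLinearMap ∘ₗ LinearMap.lTensor M μ3 ∘ₗ
      (TensorProduct.leftComm R R' M (R' ⊗[R] (R' ⊗[R] R'))).toLinearMap, fun r₀ m r₁ z => by
        simp only [LinearMap.comp_apply, LinearEquiv.coe_coe, TensorProduct.leftComm_tmul,
          LinearMap.lTensor_tmul, hμ3]⟩
  have hH : ∀ y : R' ⊗[R] (M ⊗[R] (R' ⊗[R] R')),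
      LinearMap.lTensor R' δ1 (h2 y) + h3 (LinearMap.lTensor R' δ2 y) = y := by
    intro y
    induction y using TensorProduct.induction_on with
    | zero => simp
    | add y₁ y₂ e₁ e₂ =>
      rw [map_add, map_add, map_add, map_add]
      rw [← e₁, ← e₂] at *
      conv_rhs => rw [← e₁, ← e₂]
      abel
    | tmul r₀ z =>
      induction z using TensorProduct.induction_on with
      | zero => simp
      | add z₁ z₂ e₁ e₂ =>
        rw [TensorProduct.tmul_add, map_add, map_add, map_add, map_add]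
        conv_rhs => rw [← e₁, ← e₂]
        abel
      | tmul m w =>
        induction w using TensorProduct.induction_on with
        | zero => simp
        | add w₁ w₂ e₁ e₂ =>
          rw [TensorProduct.tmul_add, TensorProduct.tmul_add, map_add, map_add, map_add, map_add]
          conv_rhs => rw [← e₁, ← e₂]
          abel
        | tmul r₁ r₂ =>
          rw [hh2, LinearMap.lTensor_tmul, LinearMap.lTensor_tmul, hδ1, hδ2,
            TensorProduct.tmul_sub, TensorProduct.tmul_add, TensorProduct.tmul_sub,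
            map_add, map_sub, hh3, hh3, hh3, mul_one]
          abel
  apply Module.FaithfullyFlat.lTensor_reflects_exact R R'
  intro y
  constructor
  · intro hy
    refine ⟨h2 y, ?_⟩
    have h := hH y
    rw [hy, map_zero, add_zero] at h
    exact h
  · rintro ⟨x, rfl⟩
    rw [← LinearMap.comp_apply, ← LinearMap.lTensor_comp, hcomp0, LinearMap.lTensor_zero,
      LinearMap.zero_apply]

end Groth.Agent.S12421
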