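import Groth.Statements.S12498
import Mathlib

set_option autoImplicit false
universe u
open Deform

namespace Groth.Agent.S12498

/-- Let k be an algebraically closed field, A a local Artinian k-algebra with residue field k, and t a
nonzero element of the maximal ideal m_A annihilated by m_A, so that A → A/tA is a small extension.
Let B be a flat A-algebra (a deformation over A of its closed fibre B_0 = B/m_A B), and σ an
A-algebra automorphism of B/tB inducing the identity on B_0. Fix an A-algebra automorphism τ of B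
inducing σ (so τ induces the identity on B_0). Then the A-algebra automorphisms η of B inducing σ
correspond bijectively to the k-derivations d of B_0 through the rule η = τ + t·d, meaning η(b) =
τ(b) + t b′ for all b ∈ B and all b′ ∈ B lifting d applied to the image of b in B_0: every such η
determines a unique d, and every d comes from some such η. (The published statement phrases the
conclusion as a free and transitive action of Der_k(B_0, B_0) on the nonempty set of lifts of σ; the
condition that σ induces the identity on B_0 is expressed here through the chosen lift τ.) -/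
theorem result
    {k : Type u} [Field k] [IsAlgClosed k]
    {A : Type u} [CommRing A] [Algebra k A] [IsLocalRing A] [IsArtinianRing A]
    (hres : ∀ a : A, ∃ c : k, a - algebraMap k A c ∈ IsLocalRing.maximalIdeal A)
    (t : A) (ht : t ∈ IsLocalRing.maximalIdeal A) (ht0 : t ≠ 0)
    (htm : ∀ a ∈ IsLocalRing.maximalIdeal A, a * t = 0)
    {B : Type u} [CommRing B] [Algebra A B] [Module.Flat A B] [Algebra k B] [IsScalarTower k A B]
    (σ : (B ⧸ Ideal.span {algebraMap A B t}) ≃ₐ[A] (B ⧸ Ideal.span {algebraMap A B t}))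
    (τ : B ≃ₐ[A] B)
    (hτ : ∀ b : B, Ideal.Quotient.mk (Ideal.span {algebraMap A B t}) (τ b) =
      σ (Ideal.Quotient.mk (Ideal.span {algebraMap A B t}) b))
    (hτ0 : ∀ b : B, τ b - b ∈ (IsLocalRing.maximalIdeal A).map (algebraMap A B)) :
    (∀ η : B ≃ₐ[A] B, (∀ b : B, Ideal.Quotient.mk (Ideal.span {algebraMap A B t}) (η b) =
        σ (Ideal.Quotient.mk (Ideal.span {algebraMap A B t}) b)) →
      ∃! d : Derivation k (B ⧸ (IsLocalRing.maximalIdeal A).map (algebraMap A B))
          (B ⧸ (IsLocalRing.maximalIdeal A).map (algebraMap A B)),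
        ∀ b b' : B, Ideal.Quotient.mk ((IsLocalRing.maximalIdeal A).map (algebraMap A B)) b' =
            d (Ideal.Quotient.mk ((IsLocalRing.maximalIdeal A).map (algebraMap A B)) b) →
          η b = τ b + algebraMap A B t * b') ∧
    (∀ d : Derivation k (B ⧸ (IsLocalRing.maximalIdeal A).map (algebraMap A B))
        (B ⧸ (IsLocalRing.maximalIdeal A).map (algebraMap A B)),
      ∃ η : B ≃ₐ[A] B, (∀ b : B, Ideal.Quotient.mk (Ideal.span {algebraMap A B t}) (η b) =
          σ (Ideal.Quotient.mk (Ideal.span {algebraMap A B t}) b)) ∧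
        ∀ b b' : B, Ideal.Quotient.mk ((IsLocalRing.maximalIdeal A).map (algebraMap A B)) b' =
            d (Ideal.Quotient.mk ((IsLocalRing.maximalIdeal A).map (algebraMap A B)) b) →
          η b = τ b + algebraMap A B t * b') := by
  classical
  set T : B := algebraMap A B t with hT
  set mB : Ideal B := (IsLocalRing.maximalIdeal A).map (algebraMap A B) with hmB
  have hTmB : T ∈ mB := Ideal.mem_map_of_mem _ ht
  have hTT : T * T = 0 := by
    rw [hT, ← map_mul, htm t ht, map_zero]
  have hK1' : mB ≤ LinearMap.ker (LinearMap.mul B B T) := by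
    rw [hmB, Ideal.map_le_iff_le_comap]
    intro a ha
    show LinearMap.mul B B T (algebraMap A B a) = 0
    rw [LinearMap.mul_apply', hT, ← map_mul, mul_comm, htm a ha, map_zero]
  have K1 : ∀ x ∈ mB, T * x = 0 := fun x hx => by
    have h := hK1' hx
    rwa [LinearMap.mem_ker, LinearMap.mul_apply'] at h
  have K2 : ∀ b : B, T * b = 0 → b ∈ mB := by
    intro b hb
    have hrel : ∑ i : Fin 1, (fun _ : Fin 1 => t) i • (fun _ : Fin 1 => b) i = 0 := by
      rw [Fin.sum_univ_one]
      show t • b = 0
      rw [Algebra.smul_def]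
      exact hb
    obtain ⟨κ, a, y, hxy, haz⟩ :=
      (Module.Flat.iff_forall_isTrivialRelation.mp (inferInstance : Module.Flat A B)) hrel
    have hb' : b = ∑ j, a 0 j • y j := hxy 0
    rw [hb']
    refine Ideal.sum_mem _ fun j _ => ?_
    have haj : a 0 j ∈ IsLocalRing.maximalIdeal A := by
      by_contra hnot
      have hu : IsUnit (a 0 j) := IsLocalRing.notMem_maximalIdeal.mp hnot
      have h0 : t * a 0 j = 0 := by
        have h := haz j
        rwa [Fin.sum_univ_one] at h
      exact ht0 (hu.mul_left_eq_zero.mp h0)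
    rw [Algebra.smul_def]
    exact Ideal.mul_mem_right _ _ (Ideal.mem_map_of_mem _ haj)
  have hres' : ∀ a : A, ∃ c : k,
      Ideal.Quotient.mk mB (algebraMap A B a) = algebraMap k (B ⧸ mB) c := by
    intro a
    obtain ⟨c, hc⟩ := hres a
    refine ⟨c, ?_⟩
    have h1 : algebraMap A B (a - algebraMap k A c) ∈ mB := Ideal.mem_map_of_mem _ hc
    rw [map_sub, ← Ideal.Quotient.eq] at h1
    rw [h1, ← IsScalarTower.algebraMap_apply k A B c]
    rfl
  have hπτ : ∀ x, Ideal.Quotient.mk mB (τ x) = Ideal.Quotient.mk mB x :=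
    fun x => Ideal.Quotient.eq.mpr (hτ0 x)
  have hsurj : Function.Surjective (Ideal.Quotient.mk mB) := Ideal.Quotient.mk_surjective
  obtain ⟨s, hs⟩ : ∃ s : B ⧸ mB → B, ∀ β, Ideal.Quotient.mk mB (s β) = β :=
    ⟨Function.surjInv hsurj, Function.surjInv_eq hsurj⟩
  have hηk : ∀ (φ : B ≃ₐ[A] B) (c : k) (x : B), φ (c • x) = c • φ x := fun φ c x => by
    rw [algebra_compatible_smul A c x, map_smul, ← algebra_compatible_smul A c (φ x)]
  constructor
  · intro η hη
    have hE : ∀ b, ∃ b', η b = τ b + T * b' := by
      intro b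
      have h1 : Ideal.Quotient.mk (Ideal.span {T}) (η b) =
          Ideal.Quotient.mk (Ideal.span {T}) (τ b) := by
        rw [hη b, hτ b]
      rw [Ideal.Quotient.eq, Ideal.mem_span_singleton'] at h1
      obtain ⟨b', hb'⟩ := h1
      exact ⟨b', by linear_combination (-1 : B) * hb'⟩
    choose δ' hδ' using hE
    have huniq : ∀ b b', η b = τ b + T * b' →
        Ideal.Quotient.mk mB b' = Ideal.Quotient.mk mB (δ' b) := by
      intro b b' h
      rw [Ideal.Quotient.eq]
      apply K2
      have h2 := hδ' b
      rw [h] at h2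
      have h3 : T * b' = T * δ' b := add_left_cancel h2
      rw [mul_sub, h3, sub_self]
    have hadd : ∀ x y, Ideal.Quotient.mk mB (δ' (x + y)) =
        Ideal.Quotient.mk mB (δ' x) + Ideal.Quotient.mk mB (δ' y) := by
      intro x y
      have h := huniq (x + y) (δ' x + δ' y) (by
        rw [map_add, map_add, hδ' x, hδ' y]
        ring)
      rw [← h, map_add]
    have hsmul : ∀ (c : k) x, Ideal.Quotient.mk mB (δ' (c • x)) =
        c • Ideal.Quotient.mk mB (δ' x) := by
      intro c x
      have h := huniq (c • x) (c • δ' x) (by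
        rw [hηk η, hηk τ, hδ' x, smul_add, mul_smul_comm])
      rw [← h]
      exact map_smul (Ideal.Quotient.mkₐ k mB) c (δ' x)
    have hmul : ∀ x y, Ideal.Quotient.mk mB (δ' (x * y)) =
        Ideal.Quotient.mk mB x * Ideal.Quotient.mk mB (δ' y) +
          Ideal.Quotient.mk mB y * Ideal.Quotient.mk mB (δ' x) := by
      intro x y
      have h := huniq (x * y) (τ x * δ' y + δ' x * τ y) (by
        rw [map_mul, map_mul, hδ' x, hδ' y]
        linear_combination (δ' x * δ' y) * hTT)
      rw [← h, map_add, map_mul, map_mul, hπτ x, hπτ y]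
      ring
    have hδalg : ∀ a : A, Ideal.Quotient.mk mB (δ' (algebraMap A B a)) = 0 := by
      intro a
      have h := huniq (algebraMap A B a) 0 (by
        rw [AlgEquiv.commutes, AlgEquiv.commutes, mul_zero, add_zero])
      rw [← h, map_zero]
    let Kd : Ideal B :=
      { carrier := {x | Ideal.Quotient.mk mB x = 0 ∧ Ideal.Quotient.mk mB (δ' x) = 0}
        add_mem' := by
          rintro x y ⟨hx1, hx2⟩ ⟨hy1, hy2⟩
          exact ⟨by rw [map_add, hx1, hy1, add_zero], by rw [hadd, hx2, hy2, add_zero]⟩
        zero_mem' := by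
          refine ⟨map_zero _, ?_⟩
          have h := hδalg 0
          rwa [map_zero] at h
        smul_mem' := by
          rintro c x ⟨hx1, hx2⟩
          refine ⟨?_, ?_⟩
          · show Ideal.Quotient.mk mB (c * x) = 0
            rw [map_mul, hx1, mul_zero]
          · show Ideal.Quotient.mk mB (δ' (c * x)) = 0
            rw [hmul, hx2, hx1, mul_zero, zero_mul, add_zero] }
    have hKd : mB ≤ Kd := by
      rw [hmB, Ideal.map_le_iff_le_comap]
      intro a ha
      show Ideal.Quotient.mk mB (algebraMap A B a) = 0 ∧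
        Ideal.Quotient.mk mB (δ' (algebraMap A B a)) = 0
      exact ⟨Ideal.Quotient.eq_zero_iff_mem.mpr (Ideal.mem_map_of_mem _ ha), hδalg a⟩
    have hΔeq : ∀ x y, x - y ∈ mB →
        Ideal.Quotient.mk mB (δ' x) = Ideal.Quotient.mk mB (δ' y) := by
      intro x y h
      have h1 : Ideal.Quotient.mk mB (δ' (x - y)) = 0 := (hKd h).2
      have h2 := hadd (x - y) y
      rw [sub_add_cancel] at h2
      rw [h2, h1, zero_add]
    obtain ⟨d₀, hd₀⟩ : ∃ d₀ : B ⧸ mB → B ⧸ mB,
        ∀ b, d₀ (Ideal.Quotient.mk mB b) = Ideal.Quotient.mk mB (δ' b) :=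
      ⟨fun β => Ideal.Quotient.mk mB (δ' (s β)),
        fun b => hΔeq _ _ (Ideal.Quotient.eq.mp (hs (Ideal.Quotient.mk mB b)))⟩
    let d : Derivation k (B ⧸ mB) (B ⧸ mB) :=
      { toLinearMap :=
          { toFun := d₀
            map_add' := by
              intro β γ
              obtain ⟨x, rfl⟩ := hsurj β
              obtain ⟨y, rfl⟩ := hsurj γ
              rw [← map_add, hd₀, hd₀, hd₀, hadd]
            map_smul' := by
              intro c β
              obtain ⟨x, rfl⟩ := hsurj β
              have e : c • Ideal.Quotient.mk mB x = Ideal.Quotient.mk mB (c • x) :=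
                (map_smul (Ideal.Quotient.mkₐ k mB) c x).symm
              rw [RingHom.id_apply, e, hd₀, hd₀, hsmul] }
        map_one_eq_zero' := by
          show d₀ 1 = 0
          have e : (1 : B ⧸ mB) = Ideal.Quotient.mk mB 1 := (map_one _).symm
          rw [e, hd₀]
          have h := hδalg 1
          rwa [map_one] at h
        leibniz' := by
          intro β γ
          obtain ⟨x, rfl⟩ := hsurj β
          obtain ⟨y, rfl⟩ := hsurj γ
          show d₀ (Ideal.Quotient.mk mB x * Ideal.Quotient.mk mB y) =
            Ideal.Quotient.mk mB x • d₀ (Ideal.Quotient.mk mB y) +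
              Ideal.Quotient.mk mB y • d₀ (Ideal.Quotient.mk mB x)
          rw [← map_mul, hd₀, hd₀, hd₀, hmul, smul_eq_mul, smul_eq_mul] }
    have hdd : ∀ β, d β = d₀ β := fun β => rfl
    refine ⟨d, ?_, ?_⟩
    · intro b b' hb'
      have h1 : Ideal.Quotient.mk mB b' = Ideal.Quotient.mk mB (δ' b) := by
        rw [hb', hdd, hd₀]
      have h2 : T * b' = T * δ' b := by
        have h := K1 _ (Ideal.Quotient.eq.mp h1)
        rw [mul_sub, sub_eq_zero] at h
        exact h
      rw [h2]
      exact hδ' b
    · intro d₂ hd₂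
      apply Derivation.ext
      intro β
      obtain ⟨b, rfl⟩ := hsurj β
      have h3 := hd₂ b (s (d₂ (Ideal.Quotient.mk mB b))) (hs _)
      have h4 := huniq b _ h3
      rw [hs] at h4
      rw [h4, hdd, hd₀]
  · intro d
    have hL : ∀ b b', Ideal.Quotient.mk mB b' = d (Ideal.Quotient.mk mB b) →
        T * s (d (Ideal.Quotient.mk mB b)) = T * b' := by
      intro b b' h
      have h1 : s (d (Ideal.Quotient.mk mB b)) - b' ∈ mB := by
        rw [← Ideal.Quotient.eq, hs, h]
      have h2 := K1 _ h1
      rw [mul_sub, sub_eq_zero] at h2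
      exact h2
    obtain ⟨Θ, hΘ⟩ : ∃ Θ : B → B, ∀ b b',
        Ideal.Quotient.mk mB b' = d (Ideal.Quotient.mk mB b) → Θ b = T * b' :=
      ⟨fun b => T * s (d (Ideal.Quotient.mk mB b)), hL⟩
    have hΘs : ∀ x, Θ x = T * s (d (Ideal.Quotient.mk mB x)) := fun x => hΘ x _ (hs _)
    have hΘadd : ∀ x y, Θ (x + y) = Θ x + Θ y := by
      intro x y
      rw [hΘs x, hΘs y, hΘ (x + y) (s (d (Ideal.Quotient.mk mB x)) + s (d (Ideal.Quotient.mk mB y)))
        (by simp only [map_add, hs]), mul_add]
    have hΘmul : ∀ x y, Θ (x * y) =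
        T * (x * s (d (Ideal.Quotient.mk mB y)) + y * s (d (Ideal.Quotient.mk mB x))) := by
      intro x y
      exact hΘ (x * y) _ (by
        simp only [map_add, map_mul, hs, Derivation.leibniz, smul_eq_mul])
    have hΘalg : ∀ a : A, Θ (algebraMap A B a) = 0 := by
      intro a
      obtain ⟨c, hc⟩ := hres' a
      rw [hΘ _ 0 (by rw [map_zero, hc, Derivation.map_algebraMap]), mul_zero]
    have hΘ1 : Θ 1 = 0 := by
      have h := hΘalg 1
      rwa [map_one] at h
    have hΘ0 : Θ 0 = 0 := by
      have h := hΘalg 0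
      rwa [map_zero] at h
    have hΘT : ∀ w, Θ (T * w) = 0 := by
      intro w
      have h0 : Ideal.Quotient.mk mB (T * w) = 0 :=
        Ideal.Quotient.eq_zero_iff_mem.mpr (Ideal.mul_mem_right _ _ hTmB)
      rw [hΘ _ 0 (by rw [map_zero, h0, map_zero]), mul_zero]
    have hΘπ : ∀ x y, Ideal.Quotient.mk mB x = Ideal.Quotient.mk mB y → Θ x = Θ y := by
      intro x y h
      rw [hΘs x, hΘ y (s (d (Ideal.Quotient.mk mB x))) (by rw [hs, h])]
    have hτT : ∀ w, τ.symm (T * w) = T * τ.symm w := fun w => by
      rw [map_mul, hT, AlgEquiv.commutes]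
    let η₀ : B →ₐ[A] B :=
      { toFun := fun b => τ b + Θ b
        map_one' := by
          show τ 1 + Θ 1 = 1
          rw [map_one, hΘ1, add_zero]
        map_mul' := by
          intro x y
          show τ (x * y) + Θ (x * y) = (τ x + Θ x) * (τ y + Θ y)
          rw [hΘmul x y, hΘs x, hΘs y, map_mul]
          have h1 := K1 _ (Ideal.mul_mem_right (s (d (Ideal.Quotient.mk mB y))) _ (hτ0 x))
          have h2 := K1 _ (Ideal.mul_mem_right (s (d (Ideal.Quotient.mk mB x))) _ (hτ0 y))
          linear_combination (-1 : B) * h1 + (-1 : B) * h2 -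
            (s (d (Ideal.Quotient.mk mB x)) * s (d (Ideal.Quotient.mk mB y))) * hTT
        map_zero' := by
          show τ 0 + Θ 0 = 0
          rw [map_zero, hΘ0, add_zero]
        map_add' := by
          intro x y
          show τ (x + y) + Θ (x + y) = (τ x + Θ x) + (τ y + Θ y)
          rw [map_add, hΘadd]
          abel
        commutes' := by
          intro a
          show τ (algebraMap A B a) + Θ (algebraMap A B a) = algebraMap A B a
          rw [AlgEquiv.commutes, hΘalg, add_zero] }
    have hinj : Function.Injective η₀ := by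
      rw [injective_iff_map_eq_zero]
      intro b hb
      have hb' : τ b + Θ b = 0 := hb
      have h1 : τ b = T * (-(s (d (Ideal.Quotient.mk mB b)))) := by
        rw [mul_neg, ← hΘs b]
        exact eq_neg_of_add_eq_zero_left hb'
      have h2 : b = T * τ.symm (-(s (d (Ideal.Quotient.mk mB b)))) := by
        have h := congrArg τ.symm h1
        rw [AlgEquiv.symm_apply_apply, hτT] at h
        exact h
      have h3 : Θ b = 0 := by
        rw [h2]
        exact hΘT _
      rw [h3, add_zero] at hb'
      exact τ.injective (hb'.trans (map_zero τ).symm)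
    have hsurjη : Function.Surjective η₀ := by
      intro c
      refine ⟨τ.symm c - τ.symm (Θ (τ.symm c)), ?_⟩
      show τ (τ.symm c - τ.symm (Θ (τ.symm c))) + Θ (τ.symm c - τ.symm (Θ (τ.symm c))) = c
      have h1 : Θ (τ.symm c - τ.symm (Θ (τ.symm c))) = Θ (τ.symm c) := by
        apply hΘπ
        rw [map_sub, hΘs (τ.symm c), hτT, sub_eq_self]
        exact Ideal.Quotient.eq_zero_iff_mem.mpr (Ideal.mul_mem_right _ _ hTmB)
      rw [h1, map_sub, AlgEquiv.apply_symm_apply, AlgEquiv.apply_symm_apply]
      abel
    refine ⟨AlgEquiv.ofBijective η₀ ⟨hinj, hsurjη⟩, ?_, ?_⟩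
    · intro b
      show Ideal.Quotient.mk (Ideal.span {T}) (τ b + Θ b) = _
      rw [map_add, hΘs b, hτ b]
      have h0 : Ideal.Quotient.mk (Ideal.span {T}) (T * s (d (Ideal.Quotient.mk mB b))) = 0 :=
        Ideal.Quotient.eq_zero_iff_mem.mpr (Ideal.mul_mem_right _ _ (Ideal.subset_span rfl))
      rw [h0, add_zero]
    · intro b b' hb'
      show τ b + Θ b = τ b + T * b'
      rw [hΘ b b' hb']

end Groth.Agent.S12498
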