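import Groth.Statements.S12517
import Mathlib.FieldTheory.PrimitiveElement

set_option autoImplicit false
open FunFld

namespace Groth.Agent.S12517

/-- If `k` is perfect of characteristic `2` and `K` is a separable extension of degree `2` of the
rational function field `k(x)`, then `K = k(x)(y)` for some `y` with `y² + y = f(x)`, `f ∈ k(x)`.
The correspondence between such extensions and cosets of `{a² + a}` in `k(x)` is not stated. -/
theorem result (k K : Type*) [Field k] [Field K] [PerfectField k]
    (h2 : ringChar k = 2) [Algebra (RatFunc k) K] (hdeg : Module.finrank (RatFunc k) K = 2)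
    [Algebra.IsSeparable (RatFunc k) K] :
    ∃ (y : K) (f : RatFunc k), y ^ 2 + y = algebraMap (RatFunc k) K f ∧
      IntermediateField.adjoin (RatFunc k) ({y} : Set K) = ⊤ := by
  classical
  haveI hfd : FiniteDimensional (RatFunc k) K := Module.finite_of_finrank_pos (by rw [hdeg]; norm_num)
  have h2k : ((2 : ℕ) : k) = 0 := by
    have := ringChar.Nat.cast_ringChar (R := k)
    rwa [h2] at this
  have h2F : (2 : RatFunc k) = 0 := by
    have := congrArg (algebraMap k (RatFunc k)) h2k
    rw [map_natCast, map_zero] at this
    exact_mod_cast this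
  obtain ⟨α, hα⟩ := Field.exists_primitive_element (RatFunc k) K
  have hdeg2 : (minpoly (RatFunc k) α).natDegree = 2 := by
    rw [(Field.primitive_element_iff_minpoly_natDegree_eq (RatFunc k) α).1 hα, hdeg]
  have hint : IsIntegral (RatFunc k) α := IsIntegral.of_finite (RatFunc k) α
  have hmon := minpoly.monic hint
  have hc2 : (minpoly (RatFunc k) α).coeff 2 = 1 := by
    have := hmon.coeff_natDegree
    rwa [hdeg2] at this
  have hsep : (minpoly (RatFunc k) α).Separable := Algebra.IsSeparable.isSeparable (RatFunc k) α
  have hroot : Polynomial.aeval α (minpoly (RatFunc k) α) = 0 := minpoly.aeval _ α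
  have hder := hsep.aeval_derivative_ne_zero hroot
  set a := (minpoly (RatFunc k) α).coeff 1 with ha
  set b := (minpoly (RatFunc k) α).coeff 0 with hb
  have e1 : algebraMap (RatFunc k) K b + algebraMap (RatFunc k) K a * α + α ^ 2 = 0 := by
    have := Polynomial.aeval_eq_sum_range' (p := minpoly (RatFunc k) α) (n := 3)
      (by rw [hdeg2]; norm_num) α
    rw [hroot, Finset.sum_range_succ, Finset.sum_range_succ, Finset.sum_range_one, hc2] at this
    simp only [Algebra.smul_def, pow_zero, pow_one, mul_one, map_one, one_mul] at this
    rw [← ha, ← hb] at this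
    exact this.symm
  have e2 : Polynomial.aeval α (Polynomial.derivative (minpoly (RatFunc k) α))
      = algebraMap (RatFunc k) K a := by
    have hlt : (Polynomial.derivative (minpoly (RatFunc k) α)).natDegree < 2 := by
      have := Polynomial.natDegree_derivative_lt (p := minpoly (RatFunc k) α)
        (by rw [hdeg2]; norm_num)
      rwa [hdeg2] at this
    rw [Polynomial.aeval_eq_sum_range' hlt α, Finset.sum_range_succ, Finset.sum_range_one,
      Polynomial.coeff_derivative, Polynomial.coeff_derivative, hc2]
    have h11 : ((1 : ℕ) : RatFunc k) + 1 = 0 := by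
      rw [Nat.cast_one, one_add_one_eq_two, h2F]
    rw [h11]
    simp [Algebra.smul_def, ha]
  rw [e2] at hder
  have hA : algebraMap (RatFunc k) K a ≠ 0 := hder
  refine ⟨(algebraMap (RatFunc k) K a)⁻¹ * α, -b / a ^ 2, ?_, ?_⟩
  · rw [map_div₀, map_neg, map_pow]
    field_simp
    linear_combination e1
  · rw [eq_top_iff, ← hα, IntermediateField.adjoin_simple_le_iff]
    have h1 : (algebraMap (RatFunc k) K a)⁻¹ * α ∈
        IntermediateField.adjoin (RatFunc k) ({(algebraMap (RatFunc k) K a)⁻¹ * α} : Set K) :=
      IntermediateField.mem_adjoin_simple_self _ _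
    have h2' := mul_mem (IntermediateField.algebraMap_mem
      (IntermediateField.adjoin (RatFunc k) ({(algebraMap (RatFunc k) K a)⁻¹ * α} : Set K)) a) h1
    rwa [← mul_assoc, mul_inv_cancel₀ hA, one_mul] at h2'


end Groth.Agent.S12517
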