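import Groth.Statements.S12524
import Mathlib

set_option autoImplicit false
universe u v
open CAlg

namespace Groth.Agent.S12524


section Helpers
variable {K : Type u} {A : Type v} [Field K] [CommRing A] [Algebra K A]

theorem mk_aeval_congr (I : Ideal A) (x : A) (hx : x ∈ I) (n : ℕ) (P P' : Polynomial K)
    (h : (Polynomial.X : Polynomial K) ^ n ∣ P - P') :
    Ideal.Quotient.mk (I ^ n) (Polynomial.aeval x P) =
      Ideal.Quotient.mk (I ^ n) (Polynomial.aeval x P') := by
  rw [Ideal.Quotient.eq, ← map_sub]
  obtain ⟨S, hS⟩ := h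
  rw [hS, map_mul, map_pow, Polynomial.aeval_X]
  exact Ideal.mul_mem_right _ _ (Ideal.pow_mem_pow hx n)

theorem X_pow_dvd_sub_trunc (n : ℕ) (T : Polynomial K) :
    (Polynomial.X : Polynomial K) ^ n ∣ T - PowerSeries.trunc n (T : PowerSeries K) := by
  rw [Polynomial.X_pow_dvd_iff]
  intro d hd
  rw [Polynomial.coeff_sub, PowerSeries.coeff_trunc, if_pos hd, Polynomial.coeff_coe, sub_self]

theorem X_pow_dvd_trunc_sub_trunc {m n : ℕ} (hmn : m ≤ n) (p : PowerSeries K) :
    (Polynomial.X : Polynomial K) ^ m ∣ PowerSeries.trunc n p - PowerSeries.trunc m p := by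
  rw [Polynomial.X_pow_dvd_iff]
  intro d hd
  rw [Polynomial.coeff_sub, PowerSeries.coeff_trunc, PowerSeries.coeff_trunc, if_pos hd,
    if_pos (lt_of_lt_of_le hd hmn), sub_self]

noncomputable def fN (I : Ideal A) (x : A) (hx : x ∈ I) (n : ℕ) :
    PowerSeries K →ₐ[K] A ⧸ I ^ n :=
  AlgHom.ofLinearMap
    ((Ideal.Quotient.mkₐ K (I ^ n)).toLinearMap ∘ₗ (Polynomial.aeval x).toLinearMap ∘ₗ
      (PowerSeries.trunc n))
    (by
      show Ideal.Quotient.mk (I ^ n)
        (Polynomial.aeval x (PowerSeries.trunc n (1 : PowerSeries K))) = 1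
      rw [← map_one (Ideal.Quotient.mk (I ^ n)), ← map_one (Polynomial.aeval (R := K) x)]
      apply mk_aeval_congr I x hx
      have h := X_pow_dvd_sub_trunc (K := K) n 1
      rw [Polynomial.coe_one] at h
      exact (dvd_sub_comm).1 h)
    (by
      intro p q
      show Ideal.Quotient.mk (I ^ n) (Polynomial.aeval x (PowerSeries.trunc n (p * q))) =
        Ideal.Quotient.mk (I ^ n) (Polynomial.aeval x (PowerSeries.trunc n p)) *
          Ideal.Quotient.mk (I ^ n) (Polynomial.aeval x (PowerSeries.trunc n q))
      rw [← map_mul, ← map_mul]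
      apply mk_aeval_congr I x hx
      have h := X_pow_dvd_sub_trunc (K := K) n (PowerSeries.trunc n p * PowerSeries.trunc n q)
      rw [Polynomial.coe_mul, PowerSeries.trunc_trunc_mul_trunc] at h
      exact (dvd_sub_comm).1 h)

theorem fN_apply (I : Ideal A) (x : A) (hx : x ∈ I) (n : ℕ) (p : PowerSeries K) :
    fN I x hx n p = Ideal.Quotient.mk (I ^ n) (Polynomial.aeval x (PowerSeries.trunc n p)) := rfl

end Helpers


open IsLocalRing in
/-- Let `A` be a complete discrete valuation ring with maximal ideal `m`, containing a field `K` such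
that `K → A → A/m` is bijective (a coefficient field), and let `x` be any generator of `m`. Then the
`K`-algebra map `K[X] → A`, `X ↦ x`, extends to a bijective `K`-algebra map `φ : K⟦X⟧ → A`,
characterised by `φ(∑ aᵢ Xⁱ) ≡ ∑_{i<n} aᵢ xⁱ (mod mⁿ)` for every `n`. -/
theorem result (K : Type u) (A : Type v) [Field K]
    [CommRing A] [IsDomain A] [IsDiscreteValuationRing A] [Algebra K A]
    [IsAdicComplete (maximalIdeal A) A]
    (hK : Function.Bijective ((residue A).comp (algebraMap K A)))
    (x : A) (hx : maximalIdeal A = Ideal.span {x}) :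
    ∃ φ : PowerSeries K →ₐ[K] A, φ PowerSeries.X = x ∧ Function.Bijective φ ∧
      ∀ (f : PowerSeries K) (n : ℕ),
        φ f - (Finset.range n).sum (fun i => algebraMap K A (PowerSeries.coeff i f) * x ^ i) ∈
          maximalIdeal A ^ n := by
  have hxm : x ∈ IsLocalRing.maximalIdeal A := by
    rw [hx]; exact Ideal.mem_span_singleton_self x
  set I := IsLocalRing.maximalIdeal A with hI
  let f : (n : ℕ) → PowerSeries K →ₐ[K] A ⧸ I ^ n := fun n => fN I x hxm n
  have hf : ∀ {m n : ℕ} (hle : m ≤ n),
      (Ideal.Quotient.factorₐ K (Ideal.pow_le_pow_right hle)).comp (f n) = f m := by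
    intro m n hle
    ext p
    show Ideal.Quotient.mk (I ^ m) (Polynomial.aeval x (PowerSeries.trunc n p)) =
      Ideal.Quotient.mk (I ^ m) (Polynomial.aeval x (PowerSeries.trunc m p))
    exact mk_aeval_congr I x hxm m _ _ (X_pow_dvd_trunc_sub_trunc hle p)
  let φ := IsAdicComplete.liftAlgHom I f hf
  have hφmk : ∀ (n : ℕ) (p : PowerSeries K), Ideal.Quotient.mk (I ^ n) (φ p) =
      Ideal.Quotient.mk (I ^ n) (Polynomial.aeval x (PowerSeries.trunc n p)) :=
    fun n p => IsAdicComplete.mk_liftAlgHom I f hf n p
  have haeval : ∀ (n : ℕ) (p : PowerSeries K), Polynomial.aeval x (PowerSeries.trunc n p) =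
      (Finset.range n).sum (fun i => algebraMap K A (PowerSeries.coeff i p) * x ^ i) := by
    intro n p
    rw [PowerSeries.trunc_apply, map_sum, Finset.range_eq_Ico]
    apply Finset.sum_congr rfl
    intro i _
    rw [Polynomial.aeval_monomial]
  have hcong : ∀ (p : PowerSeries K) (n : ℕ), φ p -
      (Finset.range n).sum (fun i => algebraMap K A (PowerSeries.coeff i p) * x ^ i) ∈ I ^ n := by
    intro p n
    rw [← Ideal.Quotient.eq, hφmk, haeval]
  have hhaus : ∀ y : A, (∀ n, y ∈ I ^ n) → y = 0 := by
    intro y hy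
    exact IsHausdorff.haus (inferInstance : IsHausdorff I A) y (fun n => by
      rw [SModEq.zero, smul_eq_mul, Ideal.mul_top]; exact hy n)
  have hφX : φ PowerSeries.X = x := by
    have h : ∀ n, φ PowerSeries.X - x ∈ I ^ n := by
      intro n
      have h1 := hcong PowerSeries.X (n + 2)
      have h2 : (Finset.range (n + 2)).sum (fun i => algebraMap K A
          (PowerSeries.coeff i (PowerSeries.X : PowerSeries K)) * x ^ i) = x := by
        rw [Finset.sum_eq_single 1]
        · rw [PowerSeries.coeff_one_X, map_one, one_mul, pow_one]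
        · intro i _ hi
          rw [PowerSeries.coeff_X, if_neg hi, map_zero, zero_mul]
        · intro h; exact absurd (Finset.mem_range.2 (by omega)) h
      rw [h2] at h1
      exact Ideal.pow_le_pow_right (by omega : n ≤ n + 2) h1
    exact sub_eq_zero.1 (hhaus _ h)
  refine ⟨φ, hφX, ⟨?_, ?_⟩, hcong⟩
  · rw [injective_iff_map_eq_zero]
    intro p hp
    by_contra hp0
    have hdecomp := PowerSeries.X_pow_order_mul_divXPowOrder (f := p)
    have hu : IsUnit (PowerSeries.divXPowOrder p) := by
      rw [PowerSeries.isUnit_iff_constantCoeff, isUnit_iff_ne_zero, Ne,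
        PowerSeries.constantCoeff_divXPowOrder_eq_zero_iff]
      exact hp0
    rw [← hdecomp, map_mul, map_pow, hφX] at hp
    have hx0 : x ^ p.order.toNat = 0 := ((hu.map φ).mul_left_eq_zero).1 hp
    have hx00 : x = 0 := eq_zero_of_pow_eq_zero hx0
    apply IsDiscreteValuationRing.not_a_field A
    rw [← hI, hx, hx00]
    exact Ideal.span_singleton_eq_bot.2 rfl
  · intro y
    have hstep : ∀ a : A, ∃ cz : K × A, a = algebraMap K A cz.1 + x * cz.2 := by
      intro a
      obtain ⟨c, hc⟩ := hK.2 (IsLocalRing.residue A a)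
      have h1 : a - algebraMap K A c ∈ I := by
        rw [hI, ← IsLocalRing.residue_eq_zero_iff, map_sub, sub_eq_zero]
        exact hc.symm
      rw [hx, Ideal.mem_span_singleton'] at h1
      obtain ⟨z, hz⟩ := h1
      refine ⟨(c, z), ?_⟩
      show a = algebraMap K A c + x * z
      linear_combination -hz
    choose st hst using hstep
    let s : ℕ → A := fun i => (fun a => (st a).2)^[i] y
    let c : ℕ → K := fun i => (st (s i)).1
    have hs_succ : ∀ i, s i = algebraMap K A (c i) + x * s (i + 1) := by
      intro i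
      have h := hst (s i)
      show s i = algebraMap K A (st (s i)).1 + x * ((fun a => (st a).2)^[i + 1] y)
      rw [Function.iterate_succ_apply']
      exact h
    have hsum : ∀ n, y = (Finset.range n).sum (fun i => algebraMap K A (c i) * x ^ i) +
        x ^ n * s n := by
      intro n
      induction n with
      | zero => simp [s]
      | succ n ih =>
        rw [Finset.sum_range_succ]
        linear_combination ih + x ^ n * hs_succ n
    refine ⟨PowerSeries.mk c, ?_⟩
    have h : ∀ n, φ (PowerSeries.mk c) - y ∈ I ^ n := by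
      intro n
      have h1 := hcong (PowerSeries.mk c) n
      simp only [PowerSeries.coeff_mk] at h1
      have h2 : φ (PowerSeries.mk c) - y = (φ (PowerSeries.mk c) -
          (Finset.range n).sum (fun i => algebraMap K A (c i) * x ^ i)) - x ^ n * s n := by
        have h3 := hsum n
        linear_combination -h3
      rw [h2]
      exact Ideal.sub_mem _ h1 (Ideal.mul_mem_right _ _ (Ideal.pow_mem_pow hxm n))
    exact sub_eq_zero.1 (hhaus _ h)

end Groth.Agent.S12524
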