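import Groth.Statements.S12550
import Mathlib

set_option autoImplicit false
universe u
open GIT

namespace Groth.Agent.S12550

/-- Let V be a finite-dimensional vector space over a field K and x_0, …, x_m non-zero vectors, a
configuration of m + 1 points of the projective space P(V). If for every subspace L with 0 ≠ L ≠ V
the number of indices i with x_i ∈ L, multiplied by dim V, is less than dim L · (m + 1) (the
configuration is stable), then no two proper subspaces L', L'' with L' ∩ L'' = 0 contain between
them all the x_i. -/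
theorem result (K : Type u) [Field K]
    (V : Type u) [AddCommGroup V] [Module K V] [FiniteDimensional K V]
    (m : ℕ) (x : Fin (m + 1) → V) (hx : ∀ i, x i ≠ 0)
    (hst : ∀ L : Submodule K V, L ≠ ⊥ → L ≠ ⊤ →
      Set.ncard {i : Fin (m + 1) | x i ∈ L} * Module.finrank K V < Module.finrank K L * (m + 1)) :
    ¬ ∃ L' L'' : Submodule K V, L' ≠ ⊤ ∧ L'' ≠ ⊤ ∧ Disjoint L' L'' ∧ ∀ i, x i ∈ L' ∨ x i ∈ L'' := by
  rintro ⟨L', L'', hL', hL'', hdisj, hcov⟩
  have hunion : {i : Fin (m + 1) | x i ∈ L'} ∪ {i : Fin (m + 1) | x i ∈ L''} = Set.univ := by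
    ext i
    simp only [Set.mem_union, Set.mem_setOf_eq, Set.mem_univ, iff_true]
    exact hcov i
  have hcard : m + 1 ≤ Set.ncard {i : Fin (m + 1) | x i ∈ L'} +
      Set.ncard {i : Fin (m + 1) | x i ∈ L''} := by
    have h1 := Set.ncard_union_le {i : Fin (m + 1) | x i ∈ L'} {i : Fin (m + 1) | x i ∈ L''}
    rw [hunion, Set.ncard_univ, Nat.card_eq_fintype_card, Fintype.card_fin] at h1
    exact h1
  have hdim := Submodule.finrank_add_finrank_le_of_disjoint hdisj
  have hd' : Module.finrank K L' ≤ Module.finrank K V := Submodule.finrank_le L'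
  have hd'' : Module.finrank K L'' ≤ Module.finrank K V := Submodule.finrank_le L''
  have hbot : ∀ L : Submodule K V, L = ⊥ → Set.ncard {i : Fin (m + 1) | x i ∈ L} = 0 := by
    intro L hL
    have h0 : {i : Fin (m + 1) | x i ∈ L} = ∅ := by
      ext i
      simp only [Set.mem_setOf_eq, Set.mem_empty_iff_false, iff_false, hL, Submodule.mem_bot]
      exact hx i
    rw [h0, Set.ncard_empty]
  have hne : ∀ L L₂ : Submodule K V, L₂ = ⊥ → (∀ i, x i ∈ L₂ ∨ x i ∈ L) → L ≠ ⊥ := by
    intro L L₂ hL₂ hc hL
    rcases hc 0 with h | h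
    · rw [hL₂, Submodule.mem_bot] at h; exact hx 0 h
    · rw [hL, Submodule.mem_bot] at h; exact hx 0 h
  by_cases h1 : L' = ⊥
  · have hc0 := hbot L' h1
    have hL''ne : L'' ≠ ⊥ := hne L'' L' h1 hcov
    have hs := hst L'' hL''ne hL''
    rw [hc0, zero_add] at hcard
    have ha : (m + 1) * Module.finrank K V ≤
        Set.ncard {i : Fin (m + 1) | x i ∈ L''} * Module.finrank K V :=
      Nat.mul_le_mul_right _ hcard
    have hb : Module.finrank K L'' * (m + 1) ≤ Module.finrank K V * (m + 1) :=
      Nat.mul_le_mul_right _ hd''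
    have hc : Module.finrank K V * (m + 1) = (m + 1) * Module.finrank K V := Nat.mul_comm _ _
    omega
  · by_cases h2 : L'' = ⊥
    · have hc0 := hbot L'' h2
      have hs := hst L' h1 hL'
      rw [hc0, add_zero] at hcard
      have ha : (m + 1) * Module.finrank K V ≤
          Set.ncard {i : Fin (m + 1) | x i ∈ L'} * Module.finrank K V :=
        Nat.mul_le_mul_right _ hcard
      have hb : Module.finrank K L' * (m + 1) ≤ Module.finrank K V * (m + 1) :=
        Nat.mul_le_mul_right _ hd'
      have hc : Module.finrank K V * (m + 1) = (m + 1) * Module.finrank K V := Nat.mul_comm _ _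
      omega
    · have hs' := hst L' h1 hL'
      have hs'' := hst L'' h2 hL''
      have ha : (m + 1) * Module.finrank K V ≤
          (Set.ncard {i : Fin (m + 1) | x i ∈ L'} + Set.ncard {i : Fin (m + 1) | x i ∈ L''}) *
            Module.finrank K V :=
        Nat.mul_le_mul_right _ hcard
      rw [Nat.add_mul (Set.ncard {i : Fin (m + 1) | x i ∈ L'})
        (Set.ncard {i : Fin (m + 1) | x i ∈ L''}) (Module.finrank K V)] at ha
      have hb : (Module.finrank K L' + Module.finrank K L'') * (m + 1) ≤
          Module.finrank K V * (m + 1) := Nat.mul_le_mul_right _ hdim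
      rw [Nat.add_mul (Module.finrank K L') (Module.finrank K L'') (m + 1)] at hb
      have hc : Module.finrank K V * (m + 1) = (m + 1) * Module.finrank K V := Nat.mul_comm _ _
      omega

end Groth.Agent.S12550
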