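import Groth.Statements.S12557
import Mathlib
import Groth.Agent.Lib.helper9.Reynolds

set_option autoImplicit false
universe u
open TensorProduct
open GIT

namespace Groth.Agent.S12557

/-- Let k be a field, G = Spec A a linearly reductive affine group (A a commutative Hopf algebra whose
finite-dimensional comodules are all semisimple) acting on the affine scheme Spec R, R_0 ⊆ R the
ring of invariants, and (𝔄_i) a family of ideals of R each stable under the coaction. Then the sum
of the 𝔄_i meets R_0 in the sum of the intersections 𝔄_i ∩ R_0. -/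
theorem result (k : Type u) [Field k] (A : Type u) [CommRing A] [HopfAlgebra k A]
    (hG : HopfRep.IsLinearlyReductive k A)
    (R : Type u) [CommRing R] [Algebra k R] [HopfRep.Comod k A R] [GLin.IsCoactAlg k A R]
    (ι : Type u) (𝔄 : ι → Ideal R) (h𝔄 : ∀ i, HopfRep.IsSubcomod (k := k) (A := A) ((𝔄 i).restrictScalars k)) :
    (⨆ i, (𝔄 i).restrictScalars k) ⊓ Subalgebra.toSubmodule (GLin.invariants k A R) =
      ⨆ i, ((𝔄 i).restrictScalars k ⊓ Subalgebra.toSubmodule (GLin.invariants k A R)) := by
  obtain ⟨E, h1, h2, h3⟩ := H9Rey.exists_reynolds (k := k) (A := A) (V := R) hG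
  have hEE : ∀ v, E (E v) = E v := fun v => by rw [← LinearMap.comp_apply, h2]
  apply le_antisymm
  · intro x hx
    obtain ⟨hx1, hx2⟩ := Submodule.mem_inf.mp hx
    have key : ∀ z ∈ (⨆ i, (𝔄 i).restrictScalars k),
        E z ∈ ⨆ i, ((𝔄 i).restrictScalars k ⊓
          Subalgebra.toSubmodule (GLin.invariants k A R)) := by
      intro z hz
      refine Submodule.iSup_induction (fun i => (𝔄 i).restrictScalars k)
        (motive := fun z => E z ∈ ⨆ i, ((𝔄 i).restrictScalars k ⊓
          Subalgebra.toSubmodule (GLin.invariants k A R))) hz ?_ ?_ ?_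
      · intro i y hy
        refine Submodule.mem_iSup_of_mem i (Submodule.mem_inf.mpr ⟨?_, ?_⟩)
        · exact H9Rey.reynolds_mem_subcomod hG E h1 h2 h3 _ (h𝔄 i) y hy
        · exact (h3 (E y)).mp (hEE y)
      · simp
      · intro a b ha hb
        rw [map_add]; exact add_mem ha hb
    have hx2' : x ∈ HopfRep.fixedPts k A R := hx2
    have h5 := key x hx1
    rwa [(h3 x).mpr hx2'] at h5
  · exact iSup_le fun i => inf_le_inf_right _ (le_iSup (fun i => (𝔄 i).restrictScalars k) i)

end Groth.Agent.S12557
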