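import Groth.Statements.S12580
import Mathlib
import Groth.Agent.Lib.lead.FF7
-- import your own Groth.Agent.* helpers here

set_option autoImplicit false
universe u v w
open FunFld

namespace Groth.Agent.S12580
open FunFld


/-- In a function field of one variable `K/k`, `Res_P(u dv) = 0` when `u, v ∈ O_P` (already before the
trace), and for a repartition `α` and `v ∈ K`, `Res_P(α_P dv) = 0` for almost all `P`; residues read
through Laurent expansions over `k` at every place. -/
theorem result (k : Type u) (K : Type v) [Field k] [Field K] [Algebra k K] (hK : FunFld.IsFunctionField k K)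
    (F : FunFld.Place k K → Type w) [∀ P, Field (F P)] [∀ P, Algebra k (F P)] [∀ P, FiniteDimensional k (F P)]
    (φ : ∀ P, K →ₐ[k] LaurentSeries (F P)) (hφ : ∀ P, LocRes.IsExpansionAt P.1 (φ P)) :
    (∀ (P : FunFld.Place k K) (u v : K), P.1 u ≤ 1 → P.1 v ≤ 1 → LocRes.resExp (φ P) u v = 0) ∧
    ∀ (a : FunFld.Place k K → K), a ∈ FunFld.adele k K → ∀ v : K,
      {P : FunFld.Place k K | LocRes.resExp (φ P) (a P) v ≠ 0}.Finite := by
  have part1 : ∀ (P : FunFld.Place k K) (u v : K), P.1 u ≤ 1 → P.1 v ≤ 1 →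
      LocRes.resExp (φ P) u v = 0 := by
    intro P u v hu hv
    obtain ⟨hval, -, -⟩ := hφ P
    have h1 : Valued.v (φ P u) ≤ 1 := by rw [hval]; exact hu
    have h2 : Valued.v (φ P v) ≤ 1 := by rw [hval]; exact hv
    obtain ⟨Y, hY⟩ := (LaurentSeries.val_le_one_iff_eq_coe (F P) (φ P u)).1 h1
    obtain ⟨X', hX⟩ := (LaurentSeries.val_le_one_iff_eq_coe (F P) (φ P v)).1 h2
    unfold LocRes.resExp
    rw [← hY, ← hX, LocRes.D_coe, ← PowerSeries.coe_mul, LocRes.res_apply, PowerSeries.coeff_coe]
    simp
  refine ⟨part1, ?_⟩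
  intro a ha v
  have hfin1 : {P : FunFld.Place k K | ¬ P.1 (a P) ≤ 1}.Finite := Filter.eventually_cofinite.1 ha
  have hfin2 : {P : FunFld.Place k K | 1 < P.1 v}.Finite := by
    by_cases hv : Transcendental k v
    · exact Groth.Agent.Lib.lead.FF7.finite_poles hK hv
    · have hv' : IsAlgebraic k v := not_not.1 hv
      obtain ⟨c, rfl⟩ := hK.2 v hv'
      have : {P : FunFld.Place k K | 1 < P.1 (algebraMap k K c)} = ∅ := by
        ext P
        simp only [Set.mem_setOf_eq, Set.mem_empty_iff_false, iff_false, not_lt]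
        exact P.2.1 c
      rw [this]
      exact Set.finite_empty
  refine (hfin1.union hfin2).subset ?_
  intro P hP
  by_contra hcon
  rw [Set.mem_union, not_or] at hcon
  apply hP
  exact part1 P _ _ (not_not.1 hcon.1) (not_lt.1 hcon.2)

end Groth.Agent.S12580
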