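import Groth.Statements.S12595
import Mathlib
-- import your own Groth.Agent.* helpers here

set_option autoImplicit false
open FunFld

namespace Groth.Agent.S12595
open FunFld


/-- Over an algebraically closed constant field, let `φ` be a birational projective map of the function
field `K` (the ratios `φ i / φ 0` generate `K`), `τ` a `k`-endomorphism of `K` and `H` a total Hasse
derivative. Then the first `τ`-order of `φ` is positive — the column `φ` of `0`-th Hasse derivatives
lies in the `K`-span of the leading column `τ(φ)` — exactly when `τ` is the identity. -/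
theorem result
    (k K : Type*) [Field k] [IsAlgClosed k] [Field K] [Algebra k K]
    (hK : FunFld.IsFunctionField k K) {n : ℕ} (φ : Fin (n + 1) → K) (h0 : φ 0 ≠ 0)
    (hbir : IntermediateField.adjoin k (Set.range fun i => φ i / φ 0) = ⊤)
    (τ : K →ₐ[k] K) (s : K) (H : K →ₐ[k] PowerSeries K) (hH : LocRes.IsHasseFamily s H) :
    ¬ FunFld.IsJump K (FunFld.hcol τ H φ) 1 ↔ τ = AlgHom.id k K := by
  have hc1 : FunFld.hcol τ H φ 1 = φ := by
    funext i
    show LocRes.hasseD H 0 (φ i) = φ i
    rw [LocRes.hasseD_apply, PowerSeries.coeff_zero_eq_constantCoeff_apply, hH.2]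
  have hI : Set.Iio (1 : ℕ) = {0} := by
    ext j
    simp [Nat.lt_one_iff]
  have himg : (FunFld.hcol τ H φ) '' Set.Iio 1 = {fun i => τ (φ i)} := by
    rw [hI, Set.image_singleton]
    rfl
  unfold FunFld.IsJump
  rw [not_not, himg, hc1, Submodule.mem_span_singleton]
  constructor
  · rintro ⟨l, hl⟩
    have hi : ∀ i, l * τ (φ i) = φ i := fun i => congrFun hl i
    have hl0 : l ≠ 0 := by
      intro h
      apply h0
      rw [← hi 0, h, zero_mul]
    have hfix : ∀ i, τ (φ i / φ 0) = φ i / φ 0 := by
      intro i
      calc τ (φ i / φ 0) = τ (φ i) / τ (φ 0) := map_div₀ _ _ _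
        _ = (l * τ (φ i)) / (l * τ (φ 0)) := (mul_div_mul_left _ _ hl0).symm
        _ = φ i / φ 0 := by rw [hi i, hi 0]
    have hone : τ 1 = 1 := map_one τ
    have hzero : τ 0 = 0 := map_zero τ
    let F : IntermediateField k K :=
      { carrier := {x | τ x = x}
        mul_mem' := fun {a b} (ha : τ a = a) (hb : τ b = b) => by
          show τ (a * b) = a * b
          rw [map_mul, ha, hb]
        one_mem' := hone
        add_mem' := fun {a b} (ha : τ a = a) (hb : τ b = b) => by
          show τ (a + b) = a + b
          rw [map_add, ha, hb]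
        zero_mem' := hzero
        algebraMap_mem' := fun c => τ.commutes c
        inv_mem' := fun a (ha : τ a = a) => by
          show τ a⁻¹ = a⁻¹
          rw [map_inv₀, ha] }
    have hle : IntermediateField.adjoin k (Set.range fun i => φ i / φ 0) ≤ F := by
      rw [IntermediateField.adjoin_le_iff]
      rintro _ ⟨i, rfl⟩
      exact hfix i
    rw [hbir] at hle
    apply AlgHom.ext
    intro x
    exact hle (IntermediateField.mem_top (x := x))
  · rintro rfl
    refine ⟨1, ?_⟩
    funext i
    simp

end Groth.Agent.S12595
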