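import Groth.Statements.S12596
import Mathlib
-- import your own Groth.Agent.* helpers here

set_option autoImplicit false
open FunFld

namespace Groth.Agent.S12596
open FunFld

lemma isJump_map {K : Type*} [Field K] {M M' : Type*} [AddCommGroup M] [Module K M]
    [AddCommGroup M'] [Module K M'] (T : M →ₗ[K] M') (hT : Function.Injective T)
    (c : ℕ → M) (j : ℕ) :
    FunFld.IsJump K (fun i => T (c i)) j ↔ FunFld.IsJump K c j := by
  unfold FunFld.IsJump
  have himg : (fun i => T (c i)) '' Set.Iio j = T '' (c '' Set.Iio j) := by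
    rw [Set.image_image]
  rw [himg, Submodule.span_image, not_iff_not]
  constructor
  · intro h
    obtain ⟨v, hv, hTv⟩ := Submodule.mem_map.1 h
    rwa [← hT hTv]
  · intro h
    exact Submodule.mem_map.2 ⟨c j, h, rfl⟩


/-- Over an algebraically closed constant field, replacing a projective map `φ` by `Aφ` for an
invertible matrix `A` over `k` does not change the `τ`-order sequence, and multiplies every
generalized Wronskian determinant `det [τ(φ) | D^(I₁) φ | ⋯ | D^(Iₙ) φ]` (Hasse derivatives taken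
with `H`) by `det A`. -/
theorem result
    (k K : Type*) [Field k] [IsAlgClosed k] [Field K] [Algebra k K]
    (hK : FunFld.IsFunctionField k K) {n : ℕ} (φ : Fin (n + 1) → K) (hφ : LinearIndependent k φ)
    (τ : K →ₐ[k] K) (s : K) (H : K →ₐ[k] PowerSeries K) (hH : LocRes.IsHasseFamily s H)
    (A : Matrix (Fin (n + 1)) (Fin (n + 1)) k) (hA : A.det ≠ 0)
    (φ' : Fin (n + 1) → K) (hφ' : ∀ i, φ' i = ∑ j, A i j • φ j) :
    (∀ J : Fin n → ℕ, FunFld.IsOrders K (FunFld.hcol τ H φ') J ↔ FunFld.IsOrders K (FunFld.hcol τ H φ) J) ∧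
    ∀ I : Fin n → ℕ, (FunFld.wrMat τ H φ' I).det = algebraMap k K A.det * (FunFld.wrMat τ H φ I).det := by
  classical
  obtain ⟨AK, hAK⟩ : ∃ AK : Matrix (Fin (n + 1)) (Fin (n + 1)) K, AK = A.map (algebraMap k K) :=
    ⟨_, rfl⟩
  have hdet : AK.det = algebraMap k K A.det := by
    rw [hAK, RingHom.map_det]
    rfl
  have hdet0 : AK.det ≠ 0 := by
    rw [hdet]
    exact fun h => hA ((map_eq_zero _).1 h)
  have hτ : ∀ i, τ (φ' i) = ∑ j, AK i j * τ (φ j) := by
    intro i
    rw [hφ' i, map_sum]
    refine Finset.sum_congr rfl fun j _ => ?_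
    rw [Algebra.smul_def, map_mul, AlgHom.commutes, hAK, Matrix.map_apply]
  have hD : ∀ (m : ℕ) (i), LocRes.hasseD H m (φ' i) = ∑ j, AK i j * LocRes.hasseD H m (φ j) := by
    intro m i
    rw [LocRes.hasseD_apply, hφ' i, map_sum, map_sum]
    refine Finset.sum_congr rfl fun j _ => ?_
    rw [Algebra.smul_def, map_mul, AlgHom.commutes, PowerSeries.algebraMap_apply,
      PowerSeries.coeff_C_mul, hAK, Matrix.map_apply, LocRes.hasseD_apply]
  have hcol' : FunFld.hcol τ H φ' = fun j => AK.mulVecLin (FunFld.hcol τ H φ j) := by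
    funext j i
    rw [Matrix.mulVecLin_apply]
    cases j with
    | zero =>
      show τ (φ' i) = ∑ j, AK i j * τ (φ j)
      exact hτ i
    | succ m =>
      show LocRes.hasseD H m (φ' i) = ∑ j, AK i j * LocRes.hasseD H m (φ j)
      exact hD m i
  have hinj : Function.Injective AK.mulVecLin := by
    intro v w hvw
    rw [Matrix.mulVecLin_apply, Matrix.mulVecLin_apply] at hvw
    have h1 := congrArg (fun u => AK⁻¹.mulVec u) hvw
    simp only [Matrix.mulVec_mulVec] at h1
    rwa [Matrix.nonsing_inv_mul _ (isUnit_iff_ne_zero.2 hdet0), Matrix.one_mulVec,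
      Matrix.one_mulVec] at h1
  refine ⟨fun J => ?_, fun I => ?_⟩
  · unfold FunFld.IsOrders
    rw [hcol']
    constructor
    · rintro ⟨h1, h2⟩
      exact ⟨h1, fun j => (h2 j).trans (isJump_map AK.mulVecLin hinj _ _)⟩
    · rintro ⟨h1, h2⟩
      exact ⟨h1, fun j => (h2 j).trans (isJump_map AK.mulVecLin hinj _ _).symm⟩
  · have hmat : FunFld.wrMat τ H φ' I = AK * FunFld.wrMat τ H φ I := by
      ext i c
      rw [Matrix.mul_apply]
      refine Fin.cases ?_ (fun l => ?_) c
      · show τ (φ' i) = ∑ j, AK i j * τ (φ j)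
        exact hτ i
      · show LocRes.hasseD H (I l) (φ' i) = ∑ j, AK i j * LocRes.hasseD H (I l) (φ j)
        exact hD (I l) i
    rw [hmat, Matrix.det_mul, hdet]

end Groth.Agent.S12596
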