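import Groth.Statements.S12597
import Mathlib

set_option autoImplicit false
open FunFld

namespace Groth.Agent.S12597

section aux

theorem span_Iio_eq {R M : Type*} [Field R] [AddCommGroup M] [Module R M] (c c' : ℕ → M)
    (d : ℕ → R) (hd : ∀ p, d p ≠ 0)
    (h : ∀ p, c' p - d p • c p ∈ Submodule.span R (c '' Set.Iio p)) :
    ∀ p, Submodule.span R (c' '' Set.Iio p) = Submodule.span R (c '' Set.Iio p) := by
  intro p
  induction p with
  | zero =>
    have : Set.Iio (0 : ℕ) = ∅ := by ext q; simp
    rw [this, Set.image_empty, Set.image_empty]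
  | succ p ih =>
    have hI : Set.Iio (p + 1) = insert p (Set.Iio p) := by
      ext q; simp only [Set.mem_Iio, Set.mem_insert_iff]; omega
    rw [hI, Set.image_insert_eq, Set.image_insert_eq, Submodule.span_insert,
      Submodule.span_insert, ih]
    apply le_antisymm
    · apply sup_le _ le_sup_right
      rw [Submodule.span_singleton_le_iff_mem]
      have : c' p = d p • c p + (c' p - d p • c p) := by abel
      rw [this]
      exact Submodule.add_mem _ (Submodule.smul_mem _ _
        (Submodule.mem_sup_left (Submodule.mem_span_singleton_self _)))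
        (Submodule.mem_sup_right (h p))
    · apply sup_le _ le_sup_right
      rw [Submodule.span_singleton_le_iff_mem]
      have : c p = (d p)⁻¹ • (c' p - (c' p - d p • c p)) := by
        rw [sub_sub_cancel, smul_smul, inv_mul_cancel₀ (hd p), one_smul]
      rw [this]
      exact Submodule.smul_mem _ _ (Submodule.sub_mem _
        (Submodule.mem_sup_left (Submodule.mem_span_singleton_self _))
        (Submodule.mem_sup_right (h p)))

theorem isJump_iff {R M : Type*} [Field R] [AddCommGroup M] [Module R M] (c c' : ℕ → M)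
    (d : ℕ → R) (hd : ∀ p, d p ≠ 0)
    (h : ∀ p, c' p - d p • c p ∈ Submodule.span R (c '' Set.Iio p)) (p : ℕ) :
    FunFld.IsJump R c' p ↔ FunFld.IsJump R c p := by
  unfold FunFld.IsJump
  rw [span_Iio_eq c c' d hd h p]
  have h1 := h p
  constructor
  · intro hc' hc
    apply hc'
    have : c' p = d p • c p + (c' p - d p • c p) := by abel
    rw [this]; exact Submodule.add_mem _ (Submodule.smul_mem _ _ hc) h1
  · intro hc hc'
    apply hc
    have : c p = (d p)⁻¹ • (c' p - (c' p - d p • c p)) := by
      rw [sub_sub_cancel, smul_smul, inv_mul_cancel₀ (hd p), one_smul]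
    rw [this]; exact Submodule.smul_mem _ _ (Submodule.sub_mem _ hc' h1)

theorem col_mem_span {R M : Type*} [Field R] [AddCommGroup M] [Module R M] (c : ℕ → M) {n : ℕ}
    (J : Fin n → ℕ) (hJ : FunFld.IsOrders R c J) (col : Fin (n + 1) → M) (hcol0 : col 0 = c 0)
    (hcolS : ∀ l : Fin n, col l.succ = c (J l + 1)) (l : Fin n) :
    ∀ p, p ≤ J l → c p ∈ Submodule.span R (col '' {m | m < l.succ}) := by
  intro p
  induction p using Nat.strong_induction_on with
  | _ p ih =>
    intro hp
    rcases p with _ | b
    · rw [← hcol0]; exact Submodule.subset_span ⟨0, Fin.succ_pos l, rfl⟩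
    · by_cases hb : b ∈ Set.range J
      · obtain ⟨l', rfl⟩ := hb
        have hl' : l' < l := hJ.1.lt_iff_lt.1 (Nat.lt_of_succ_le hp)
        rw [← hcolS l']
        exact Submodule.subset_span ⟨l'.succ, Fin.succ_lt_succ_iff.2 hl', rfl⟩
      · have hnj : ¬ FunFld.IsJump R c (b + 1) := fun h => hb ((hJ.2 b).2 h)
        unfold FunFld.IsJump at hnj
        rw [not_not] at hnj
        refine Submodule.span_le.2 ?_ hnj
        rintro _ ⟨q, hq, rfl⟩
        exact ih q hq (le_trans (Nat.le_of_lt hq) hp)

theorem hasse_mul {k K : Type*} [Field k] [Field K] [Algebra k K] (H : K →ₐ[k] PowerSeries K)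
    (hH0 : ∀ y, PowerSeries.constantCoeff (H y) = y) (y z : K) (j : ℕ) :
    LocRes.hasseD H j (y * z) = y * LocRes.hasseD H j z +
      ∑ b ∈ Finset.range j, LocRes.hasseD H (j - b) y * LocRes.hasseD H b z := by
  simp only [LocRes.hasseD_apply, map_mul]
  rw [mul_comm (H y) (H z), PowerSeries.coeff_mul,
    Finset.Nat.sum_antidiagonal_eq_sum_range_succ
      (fun a b => PowerSeries.coeff a (H z) * PowerSeries.coeff b (H y)),
    Finset.sum_range_succ, Nat.sub_self, PowerSeries.coeff_zero_eq_constantCoeff_apply, hH0,
    add_comm, mul_comm]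
  congr 1
  exact Finset.sum_congr rfl fun b _ => mul_comm _ _

end aux


/-- Over an algebraically closed constant field, multiplying a projective map `φ = (φ₀, …, φₙ)` by a
nonzero function `y` does not change its `τ`-order sequence `J`, and multiplies the Wronskian `det
[τ(φ) | D^(j₁) φ | ⋯ | D^(jₙ) φ]` taken at that sequence by `τ(y) yⁿ`. -/
theorem result
    (k K : Type*) [Field k] [IsAlgClosed k] [Field K] [Algebra k K]
    (hK : FunFld.IsFunctionField k K) {n : ℕ} (φ : Fin (n + 1) → K) (hφ : LinearIndependent k φ)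
    (τ : K →ₐ[k] K) (s : K) (H : K →ₐ[k] PowerSeries K) (hH : LocRes.IsHasseFamily s H) (y : K) (hy : y ≠ 0) :
    (∀ J : Fin n → ℕ, FunFld.IsOrders K (FunFld.hcol τ H (y • φ)) J ↔ FunFld.IsOrders K (FunFld.hcol τ H φ) J) ∧
    ∀ J : Fin n → ℕ, FunFld.IsOrders K (FunFld.hcol τ H φ) J →
      (FunFld.wrMat τ H (y • φ) J).det = τ y * y ^ n * (FunFld.wrMat τ H φ J).det := by
  classical
  have hτy : τ y ≠ 0 := by
    intro h0
    exact hy ((map_eq_zero_iff τ τ.toRingHom.injective).1 h0)
  set c := FunFld.hcol τ H φ with hc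
  set c' := FunFld.hcol τ H (y • φ) with hc'
  let d : ℕ → K := fun p => Nat.casesOn p (τ y) (fun _ => y)
  have hd : ∀ p, d p ≠ 0 := by
    intro p; cases p with
    | zero => exact hτy
    | succ p => exact hy
  have hc0 : c 0 = fun i => τ (φ i) := rfl
  have hcS : ∀ j, c (j + 1) = fun i => LocRes.hasseD H j (φ i) := fun j => rfl
  have hc'0 : c' 0 = fun i => τ ((y • φ) i) := rfl
  have hc'S : ∀ j, c' (j + 1) = fun i => LocRes.hasseD H j ((y • φ) i) := fun j => rfl
  have hdiff : ∀ j, c' (j + 1) - y • c (j + 1) =
      ∑ b ∈ Finset.range j, LocRes.hasseD H (j - b) y • c (b + 1) := by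
    intro j
    funext i
    rw [Pi.sub_apply, Pi.smul_apply, hc'S, hcS, Finset.sum_apply]
    simp only [Pi.smul_apply, smul_eq_mul, hcS]
    rw [hasse_mul H hH.2 y (φ i) j]
    ring
  have hrel : ∀ p, c' p - d p • c p ∈ Submodule.span K (c '' Set.Iio p) := by
    intro p
    cases p with
    | zero =>
      have : c' 0 - d 0 • c 0 = 0 := by
        funext i
        show τ (y * φ i) - τ y * τ (φ i) = 0
        rw [map_mul, sub_self]
      rw [this]; exact zero_mem _
    | succ j =>
      show c' (j + 1) - y • c (j + 1) ∈ _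
      rw [hdiff j]
      refine Submodule.sum_mem _ fun b hb => Submodule.smul_mem _ _ (Submodule.subset_span ?_)
      exact ⟨b + 1, Nat.succ_lt_succ (Finset.mem_range.1 hb), rfl⟩
  have hjump : ∀ p, FunFld.IsJump K c' p ↔ FunFld.IsJump K c p := isJump_iff c c' d hd hrel
  refine ⟨?_, ?_⟩
  · intro J
    unfold FunFld.IsOrders
    exact and_congr Iff.rfl (forall_congr' fun j => iff_congr Iff.rfl (hjump (j + 1)))
  · intro J hJ
    set M := FunFld.wrMat τ H φ J with hM
    set M' := FunFld.wrMat τ H (y • φ) J with hM'
    let col : Fin (n + 1) → (Fin (n + 1) → K) := fun m i => M i m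
    let col' : Fin (n + 1) → (Fin (n + 1) → K) := fun m i => M' i m
    have hcol0 : col 0 = c 0 := rfl
    have hcolS : ∀ l : Fin n, col l.succ = c (J l + 1) := fun l => rfl
    have hcol'0 : col' 0 = c' 0 := rfl
    have hcol'S : ∀ l : Fin n, col' l.succ = c' (J l + 1) := fun l => rfl
    have hcoef : ∀ l : Fin n, ∃ t : Fin (n + 1) → K, (∀ m, l.succ ≤ m → t m = 0) ∧
        (col' l.succ - y • col l.succ = ∑ m, t m • col m) := by
      intro l
      have hmem : col' l.succ - y • col l.succ ∈
          Submodule.span K (col '' {m | m < l.succ}) := by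
        rw [hcol'S, hcolS, hdiff]
        refine Submodule.sum_mem _ fun b hb => Submodule.smul_mem _ _ ?_
        exact col_mem_span c J hJ col hcol0 hcolS l (b + 1) (Finset.mem_range.1 hb)
      obtain ⟨f, hf, hfx⟩ := (Finsupp.mem_span_image_iff_linearCombination K).1 hmem
      refine ⟨f, fun m hm => ?_, ?_⟩
      · by_contra hne
        have h1 : m ∈ f.support := Finsupp.mem_support_iff.2 hne
        have h2 : m < l.succ := hf h1
        exact absurd h2 (not_lt.2 hm)
      · rw [← hfx, Finsupp.linearCombination_apply, Finsupp.sum_fintype]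
        intro; simp
    choose t ht0 ht using hcoef
    let T : Matrix (Fin (n + 1)) (Fin (n + 1)) K := Matrix.of fun m' m =>
      Fin.cases (motive := fun _ => K) (if m' = 0 then τ y else 0)
        (fun l => t l m' + if m' = l.succ then y else 0) m
    have hT0 : ∀ m', T m' 0 = if m' = 0 then τ y else 0 := fun m' => rfl
    have hTS : ∀ m' (l : Fin n), T m' l.succ = t l m' + if m' = l.succ then y else 0 :=
      fun m' l => rfl
    have hMT : M' = M * T := by
      ext i m
      rw [Matrix.mul_apply]
      refine Fin.cases ?_ (fun l => ?_) m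
      · simp only [hT0, mul_ite, mul_zero, Finset.sum_ite_eq', Finset.mem_univ, if_true]
        show τ (y * φ i) = τ (φ i) * τ y
        rw [map_mul, mul_comm]
      · simp only [hTS, mul_add, mul_ite, mul_zero, Finset.sum_add_distrib, Finset.sum_ite_eq',
          Finset.mem_univ, if_true]
        have h1 := congrFun (ht l) i
        simp only [Pi.sub_apply, Pi.smul_apply, smul_eq_mul, Finset.sum_apply] at h1
        have h2 : M' i l.succ = col' l.succ i := rfl
        have h3 : ∀ m, M i m = col m i := fun m => rfl
        rw [h2, eq_add_of_sub_eq h1]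
        simp only [h3]
        congr 1
        · exact Finset.sum_congr rfl fun m _ => mul_comm _ _
        · exact mul_comm _ _
    have hTtri : T.IsUpperTriangular := by
      intro m' m hlt
      simp only [id] at hlt
      revert hlt
      refine Fin.cases ?_ (fun l => ?_) m
      · intro hlt
        rw [hT0, if_neg (Fin.pos_iff_ne_zero.1 hlt)]
      · intro hlt
        rw [hTS, ht0 l m' (le_of_lt hlt), if_neg (ne_of_gt hlt), add_zero]
    rw [hMT, Matrix.det_mul, Matrix.det_of_isUpperTriangular hTtri, Fin.prod_univ_succ, hT0,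
      if_pos rfl]
    have : ∀ l : Fin n, T l.succ l.succ = y := by
      intro l
      rw [hTS, ht0 l l.succ le_rfl, if_pos rfl, zero_add]
    simp only [this, Finset.prod_const, Finset.card_univ, Fintype.card_fin]
    ring

end Groth.Agent.S12597
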