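import Groth.Statements.S12601
import Mathlib
-- import your own Groth.Agent.* helpers here

set_option autoImplicit false
open FunFld

namespace Groth.Agent.S12601
open FunFld

section aux
variable {K : Type*} [Field K] {M : Type*} [AddCommGroup M] [Module K M]

open Classical in
lemma span_range_eq_span_jumps (c : ℕ → M) (m : ℕ) :
    Submodule.span K (c '' ↑(Finset.range m)) =
      Submodule.span K (c '' ↑((Finset.range m).filter (fun i => FunFld.IsJump K c i))) := by
  induction m with
  | zero => simp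
  | succ m ih =>
    rw [Finset.range_add_one, Finset.filter_insert, Finset.coe_insert, Set.image_insert_eq,
      Submodule.span_insert, ih]
    by_cases hj : FunFld.IsJump K c m
    · rw [if_pos hj, Finset.coe_insert, Set.image_insert_eq, Submodule.span_insert]
    · rw [if_neg hj]
      apply sup_eq_right.2
      rw [Submodule.span_singleton_le_iff_mem, ← ih]
      unfold FunFld.IsJump at hj
      rw [not_not, ← Finset.coe_range] at hj
      exact hj

open Classical in
lemma orders_le (c : ℕ → M) {n : ℕ} (J : Fin n → ℕ) (hJ : FunFld.IsOrders K c J)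
    (J' : Fin n → ℕ) (hJ' : StrictMono J') (idx : Fin (n + 1) → ℕ) (hidx0 : idx 0 = 0)
    (hidxs : ∀ l : Fin n, idx l.succ = J' l + 1)
    (hli : LinearIndependent K (fun i : Fin (n + 1) => c (idx i))) :
    ∀ l, J l ≤ J' l := by
  intro l
  by_contra hlt
  rw [not_le] at hlt
  obtain ⟨m, hm⟩ : ∃ m, m = J' l + 2 := ⟨_, rfl⟩
  obtain ⟨S, hS⟩ : ∃ S : Submodule K M, S = Submodule.span K (c '' ↑(Finset.range m)) :=
    ⟨_, rfl⟩
  haveI : Module.Finite K S := by
    rw [hS]
    exact Module.Finite.span_of_finite K ((Finset.finite_toSet _).image c)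
  have hup : Module.finrank K S ≤ (l : ℕ) + 1 := by
    rw [hS, span_range_eq_span_jumps, ← Finset.coe_image]
    have h1 := finrank_span_finset_le_card (R := K)
      (((Finset.range m).filter (fun i => FunFld.IsJump K c i)).image c)
    unfold Set.finrank at h1
    refine h1.trans ?_
    refine Finset.card_image_le.trans ?_
    have hsub : (Finset.range m).filter (fun i => FunFld.IsJump K c i) ⊆
        insert 0 ((Finset.univ.filter (fun l' : Fin n => l' < l)).image (fun l' => J l' + 1)) := by
      intro i hi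
      rw [Finset.mem_filter, Finset.mem_range] at hi
      obtain ⟨him, hij⟩ := hi
      rw [Finset.mem_insert]
      rcases Nat.eq_zero_or_pos i with h0 | hpos
      · exact Or.inl h0
      · right
        obtain ⟨j, rfl⟩ := Nat.exists_eq_succ_of_ne_zero hpos.ne'
        obtain ⟨l', hl'⟩ := (hJ.2 j).2 hij
        rw [Finset.mem_image]
        refine ⟨l', ?_, by rw [hl']⟩
        rw [Finset.mem_filter]
        refine ⟨Finset.mem_univ _, ?_⟩
        rw [← hJ.1.lt_iff_lt, hl']
        omega
    refine (Finset.card_le_card hsub).trans ?_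
    refine (Finset.card_insert_le _ _).trans ?_
    refine Nat.succ_le_succ (Finset.card_image_le.trans ?_)
    rw [Finset.filter_gt_eq_Iio, Fin.card_Iio]
  have hidxlt : ∀ a : Fin (n + 1), (a : ℕ) ≤ (l : ℕ) + 1 → idx a < m := by
    intro a
    refine Fin.cases ?_ (fun l' => ?_) a
    · intro _
      rw [hidx0, hm]
      omega
    · intro hl'
      rw [hidxs, hm]
      rw [Fin.val_succ] at hl'
      have h2 : l' ≤ l := by
        rw [Fin.le_def]
        omega
      have h3 := hJ'.monotone h2
      omega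
  have hl2 : (l : ℕ) + 2 ≤ n + 1 := by
    have := l.2
    omega
  obtain ⟨ι, hι⟩ : ∃ ι : Fin ((l : ℕ) + 2) → Fin (n + 1), ∀ i, ((ι i : Fin (n + 1)) : ℕ) = i :=
    ⟨fun i => ⟨i, by have := i.2; omega⟩, fun i => rfl⟩
  have hιinj : Function.Injective ι := by
    intro a b h
    apply Fin.ext
    rw [← hι a, ← hι b, h]
  have hmemS : ∀ i : Fin ((l : ℕ) + 2), c (idx (ι i)) ∈ S := by
    intro i
    rw [hS]
    apply Submodule.subset_span
    refine ⟨_, ?_, rfl⟩
    rw [Finset.coe_range, Set.mem_Iio]
    apply hidxlt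
    rw [hι i]
    have := i.2
    omega
  have hv : LinearIndependent K (fun i : Fin ((l : ℕ) + 2) => (⟨c (idx (ι i)), hmemS i⟩ : S)) := by
    apply LinearIndependent.of_comp S.subtype
    exact hli.comp ι hιinj
  have h4 := hv.fintype_card_le_finrank
  rw [Fintype.card_fin] at h4
  omega

end aux


/-- Over an algebraically closed constant field, if `j'₁ < ⋯ < j'ₙ` is a strictly increasing sequence
with `det [τ(φ) | D^(j'₁) φ | ⋯ | D^(j'ₙ) φ] ≠ 0`, then the `τ`-orders `j₁ < ⋯ < jₙ` of `φ` satisfy
`jₗ ≤ j'ₗ` for all `l`. -/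
theorem result
    (k K : Type*) [Field k] [IsAlgClosed k] [Field K] [Algebra k K]
    (hK : FunFld.IsFunctionField k K) {n : ℕ} (φ : Fin (n + 1) → K) (hφ : LinearIndependent k φ)
    (τ : K →ₐ[k] K) (s : K) (H : K →ₐ[k] PowerSeries K) (hH : LocRes.IsHasseFamily s H)
    (J : Fin n → ℕ) (hJ : FunFld.IsOrders K (FunFld.hcol τ H φ) J)
    (J' : Fin n → ℕ) (hJ' : StrictMono J') (hdet : (FunFld.wrMat τ H φ J').det ≠ 0) :
    ∀ l, J l ≤ J' l := by
  classical
  obtain ⟨idx, hidx⟩ : ∃ idx : Fin (n + 1) → ℕ,
      idx = fun i => Fin.cases (motive := fun _ => ℕ) 0 (fun l => J' l + 1) i := ⟨_, rfl⟩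
  have hidx0 : idx 0 = 0 := by rw [hidx]; rfl
  have hidxs : ∀ l : Fin n, idx l.succ = J' l + 1 := fun l => by rw [hidx]; rfl
  have hcols : (fun i : Fin (n + 1) => FunFld.hcol τ H φ (idx i)) = (FunFld.wrMat τ H φ J').col := by
    funext i r
    refine Fin.cases ?_ (fun l => ?_) i
    · rw [hidx0]
      rfl
    · rw [hidxs]
      rfl
  have hli : LinearIndependent K (fun i : Fin (n + 1) => FunFld.hcol τ H φ (idx i)) := by
    rw [hcols]
    exact Matrix.linearIndependent_cols_of_det_ne_zero hdet
  exact orders_le (FunFld.hcol τ H φ) J hJ J' hJ' idx hidx0 hidxs hli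

end Groth.Agent.S12601
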