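import Groth.Statements.S12612
import Mathlib

set_option autoImplicit false
open FunFld

namespace Groth.Agent.S12612

section aux
open MvPolynomial

theorem chain_rule {k S M σ : Type*} [CommRing k] [CommRing S] [Algebra k S] [AddCommGroup M]
    [Module S M] [Module k M] [IsScalarTower k S M] [Fintype σ]
    (D : Derivation k S M) (v : σ → S) (f : MvPolynomial σ k) :
    D (aeval v f) = ∑ i, aeval v (pderiv i f) • D (v i) := by
  classical
  induction f using MvPolynomial.induction_on with
  | C a => simp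
  | add p q hp hq => simp only [map_add, hp, hq, add_smul, Finset.sum_add_distrib]
  | mul_X p j hp =>
    rw [map_mul, aeval_X, Derivation.leibniz, hp]
    have h1 : ∀ i : σ, aeval v (pderiv i (p * X j)) • D (v i) =
        v j • (aeval v (pderiv i p) • D (v i)) +
          (aeval v p) • ((if j = i then (1 : S) else 0) • D (v i)) := by
      intro i
      have hX : pderiv i (X j : MvPolynomial σ k) = if j = i then 1 else 0 := by
        split_ifs with hij
        · subst hij; exact pderiv_X_self _
        · exact pderiv_X_of_ne hij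
      rw [Derivation.leibniz, hX, smul_eq_mul, smul_eq_mul, map_add, map_mul, map_mul, aeval_X,
        add_smul, mul_smul, mul_smul, add_comm]
      congr 2
      split_ifs <;> simp
    rw [Finset.sum_congr rfl (fun i _ => h1 i), Finset.sum_add_distrib, ← Finset.smul_sum,
      ← Finset.smul_sum]
    simp only [ite_smul, one_smul, zero_smul, Finset.sum_ite_eq, Finset.mem_univ, if_true]
    exact add_comm _ _

theorem aeval_smul_homog {k S σ : Type*} [CommRing k] [CommRing S] [Algebra k S] [Fintype σ]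
    {φ : MvPolynomial σ k} {m : ℕ} (h : φ.IsHomogeneous m) (z : S) (v : σ → S) :
    aeval (fun i => z * v i) φ = z ^ m * aeval v φ := by
  rw [aeval_def, aeval_def, eval₂_eq', eval₂_eq', Finset.mul_sum]
  refine Finset.sum_congr rfl fun d hd => ?_
  have hdeg : ∑ i, d i = m := by
    have := h.degree_eq_sum_deg_support hd
    rw [← Finsupp.degree_apply, Finsupp.degree_eq_sum] at this
    exact this.symm
  simp only [mul_pow, Finset.prod_mul_distrib, Finset.prod_pow_eq_pow_sum, hdeg]
  ring

theorem cross_identity {K M : Type*} [Field K] [AddCommGroup M] [Module K M]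
    (a : Fin 3 → Fin 3 → K) (u : Fin 3 → K) (d : Fin 3 → M) (V : Fin 3 → K) (W : Fin 3 → M)
    (hV : ∀ i, V i = ∑ j, a i j * u j) (hW : ∀ i, W i = ∑ j, a i j • d j) :
    (Matrix.of a).det • (u 0 • d 1 - u 1 • d 0) =
      a 0 2 • (V 1 • W 2 - V 2 • W 1) + a 1 2 • (V 2 • W 0 - V 0 • W 2) +
        a 2 2 • (V 0 • W 1 - V 1 • W 0) := by
  simp only [hV, hW, Fin.sum_univ_three, Matrix.det_fin_three, Matrix.of_apply]
  module

end aux


/-- For a plane curve given by a homogeneous `f` of degree `e` with `f(1, x, y) = 0` and a change of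
projective coordinates `X = AX'` (`A` invertible over `k`), with new affine coordinates `x' =
u₁/u₀`, `y' = u₂/u₀`, `z = 1/u₀ = X₀/X₀'` where `u = A⁻¹(1, x, y)ᵗ`, and `f'(X') = f(AX')`, the
differentials satisfy `dx/f̂_y = det(A) z^(e-3) dx'/f̂'_{y'}`, where `f̂_y = (∂f/∂X₂)(1, x, y)` and
`f̂'_{y'} = (∂f'/∂X₂')(1, x', y')` are assumed nonzero. (Stated for any field `K` over `k`
containing such `x`, `y`; the published setting is a plane model of a function field over an
algebraically closed field, and the computation uses only the relation `f(1, x, y) = 0`.) -/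
theorem result
    (k K : Type*) [Field k] [Field K] [Algebra k K]
    (f : MvPolynomial (Fin 3) k) (e : ℕ) (hf : f.IsHomogeneous e)
    (x y : K) (hfxy : MvPolynomial.aeval ![(1 : K), x, y] f = 0)
    (A : Matrix (Fin 3) (Fin 3) k) (hA : A.det ≠ 0)
    (u : Fin 3 → K) (hu : ∀ i, ∑ j, algebraMap k K (A i j) * u j = ![(1 : K), x, y] i)
    (hu0 : u 0 ≠ 0)
    (hfy : MvPolynomial.aeval ![(1 : K), x, y] (MvPolynomial.pderiv 2 f) ≠ 0)
    (hfy' : MvPolynomial.aeval ![(1 : K), u 1 / u 0, u 2 / u 0]
      (MvPolynomial.pderiv 2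
        (MvPolynomial.aeval (fun i : Fin 3 => ∑ j, MvPolynomial.C (A i j) * MvPolynomial.X j) f)) ≠ 0) :
    (MvPolynomial.aeval ![(1 : K), x, y] (MvPolynomial.pderiv 2 f))⁻¹ • KaehlerDifferential.D k K x =
      (algebraMap k K A.det * (u 0)⁻¹ ^ ((e : ℤ) - 3) *
        (MvPolynomial.aeval ![(1 : K), u 1 / u 0, u 2 / u 0]
          (MvPolynomial.pderiv 2
            (MvPolynomial.aeval (fun i : Fin 3 => ∑ j, MvPolynomial.C (A i j) * MvPolynomial.X j) f)))⁻¹) •
        KaehlerDifferential.D k K (u 1 / u 0) := by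
  classical
  obtain ⟨e', rfl⟩ : ∃ e', e = e' + 1 := by
    rcases e with _ | e'
    · exfalso
      apply hfy
      have hC : f = MvPolynomial.C (MvPolynomial.coeff 0 f) := by
        rw [← MvPolynomial.totalDegree_zero_iff_isHomogeneous] at hf
        exact (MvPolynomial.totalDegree_eq_zero_iff_eq_C).1 hf
      rw [hC, MvPolynomial.pderiv_C, map_zero]
    · exact ⟨e', rfl⟩
  set v : Fin 3 → K := ![(1 : K), x, y] with hv
  set D := KaehlerDifferential.D k K with hD
  set g : Fin 3 → K := fun i => MvPolynomial.aeval v (MvPolynomial.pderiv i f) with hg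
  set L : Fin 3 → MvPolynomial (Fin 3) k :=
    fun i => ∑ j, MvPolynomial.C (A i j) * MvPolynomial.X j with hL
  set w : Fin 3 → K := ![(1 : K), u 1 / u 0, u 2 / u 0] with hw
  have hv0 : v 0 = 1 := rfl
  have hv1 : v 1 = x := rfl
  have hv2 : v 2 = y := rfl
  have hEuler : g 0 + x * g 1 + y * g 2 = 0 := by
    have := congrArg (MvPolynomial.aeval v) hf.sum_X_mul_pderiv
    simp only [map_sum, map_add, map_mul, MvPolynomial.aeval_X, Fin.sum_univ_three, map_nsmul, hfxy,
      smul_zero, hv0, hv1, hv2, one_mul] at this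
    exact this
  have hD1 : D (v 0) = 0 := by rw [hv0]; exact Derivation.map_one_eq_zero _
  have hdf : g 1 • D x + g 2 • D y = 0 := by
    have := chain_rule D v f
    rw [hfxy, map_zero, Fin.sum_univ_three, hD1, smul_zero, zero_add, hv1, hv2] at this
    exact this.symm
  have hDv : ∀ i, D (v i) = ∑ j, algebraMap k K (A i j) • D (u j) := by
    intro i
    rw [← hu i, map_sum]
    refine Finset.sum_congr rfl fun j _ => ?_
    rw [Derivation.leibniz, Derivation.map_algebraMap, smul_zero, add_zero]
  have hz : (u 0)⁻¹ ≠ 0 := inv_ne_zero hu0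
  have hwL : ∀ i, MvPolynomial.aeval w (L i) = (u 0)⁻¹ * v i := by
    intro i
    rw [← hu i]
    simp only [L, map_sum, map_add, map_mul, MvPolynomial.aeval_C, MvPolynomial.aeval_X,
      Fin.sum_univ_three]
    have hw0 : w 0 = 1 := rfl
    have hw1 : w 1 = u 1 / u 0 := rfl
    have hw2 : w 2 = u 2 / u 0 := rfl
    rw [hw0, hw1, hw2]
    field_simp
  have hpd : MvPolynomial.pderiv 2 (MvPolynomial.aeval L f) =
      ∑ i, MvPolynomial.aeval L (MvPolynomial.pderiv i f) * MvPolynomial.C (A i 2) := by
    have := chain_rule (MvPolynomial.pderiv (2 : Fin 3) :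
      Derivation k (MvPolynomial (Fin 3) k) (MvPolynomial (Fin 3) k)) L f
    rw [this]
    refine Finset.sum_congr rfl fun i _ => ?_
    rw [smul_eq_mul]; congr 1
    simp [L, Fin.sum_univ_three, MvPolynomial.pderiv_X, Pi.single_apply]
  set G2 : K := ∑ i, g i * algebraMap k K (A i 2) with hG2
  have hG : MvPolynomial.aeval w (MvPolynomial.pderiv 2 (MvPolynomial.aeval L f)) =
      ((u 0)⁻¹) ^ e' * G2 := by
    rw [hpd, map_sum, hG2, Finset.mul_sum]
    refine Finset.sum_congr rfl fun i _ => ?_
    rw [map_mul, MvPolynomial.aeval_C]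
    have h1 : MvPolynomial.aeval w (MvPolynomial.aeval L (MvPolynomial.pderiv i f)) =
        MvPolynomial.aeval (fun i => MvPolynomial.aeval w (L i)) (MvPolynomial.pderiv i f) :=
      MvPolynomial.aeval_bind₁ w L (MvPolynomial.pderiv i f)
    rw [h1]
    simp only [hwL]
    rw [aeval_smul_homog (hf.pderiv (i := i)) _ _]
    simp only [Nat.add_sub_cancel]
    ring
  have hG2ne : G2 ≠ 0 := by
    intro h0
    apply hfy'
    rw [hG, h0, mul_zero]
  -- the key identity
  have hdet : algebraMap k K A.det = (Matrix.of fun i j => algebraMap k K (A i j)).det := by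
    rw [RingHom.map_det]; rfl
  have hcross := cross_identity (fun i j => algebraMap k K (A i j)) u (fun j => D (u j)) v
    (fun i => D (v i)) (fun i => (hu i).symm) hDv
  rw [← hdet, hD1, hv0, hv1, hv2] at hcross
  simp only [smul_zero, zero_sub, sub_zero, one_smul] at hcross
  have hE' : (g 0 + x * g 1 + y * g 2) • D x = 0 := by rw [hEuler, zero_smul]
  have key : G2 • D x = (algebraMap k K A.det * g 2) • (u 0 • D (u 1) - u 1 • D (u 0)) := by
    rw [mul_comm, mul_smul, hcross, hG2, Fin.sum_univ_three]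
    linear_combination (norm := module)
      (algebraMap k K (A 1 2) - algebraMap k K (A 0 2) * x) • hdf +
        algebraMap k K (A 0 2) • hE'
  have hDx : D x = (G2⁻¹ * (algebraMap k K A.det * g 2)) • (u 0 • D (u 1) - u 1 • D (u 0)) := by
    rw [mul_smul, ← key, smul_smul, inv_mul_cancel₀ hG2ne, one_smul]
  have hdiv : D (u 1 / u 0) = ((u 0)⁻¹ ^ 2) • (u 0 • D (u 1) - u 1 • D (u 0)) :=
    Derivation.leibniz_div D (u 1) (u 0)
  have hzp : (u 0)⁻¹ ^ (((e' + 1 : ℕ) : ℤ) - 3) = (u 0)⁻¹ ^ e' / (u 0)⁻¹ ^ 2 := by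
    rw [show (((e' + 1 : ℕ) : ℤ) - 3) = (e' : ℤ) - 2 by push_cast; ring, zpow_sub₀ hz,
      zpow_natCast]
    norm_cast
  have hg2 : g 2 ≠ 0 := hfy
  show (g 2)⁻¹ • D x = _
  rw [hG, hdiv, hzp, hDx, smul_smul, smul_smul]
  congr 1
  field_simp

end Groth.Agent.S12612
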