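import Groth.Statements.S12620
import Mathlib
-- import your own Groth.Agent.* helpers here

set_option autoImplicit false
universe u v w
open LocRes

namespace Groth.Agent.S12620



/-- Let `K` be a field with a valuation `w` into `ℤ ∪ {0}` and `φ : K → F((X))` a `k`-algebra expansion
at `w` in a local parameter (valuation-compatible, valuation ring onto the coefficient field `F`,
`w` normalised). Then for every nonzero `f` the residue of the logarithmic differential `f⁻¹ df`
read through `φ` — the `X⁻¹`-coefficient of `φ(f)⁻¹ · (φ f)′` — is the order of `f` at `w` (the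
integer `n` with `w f = exp (-n)`), viewed in `F`. (The published statement is for a complete field
with a perfect coefficient field and its intrinsic residue; read through an expansion neither
completeness nor perfectness plays a role.) -/
theorem result {k : Type u} {K : Type v} {F : Type w} [CommRing k] [Field K] [Field F]
    [Algebra k K] [Algebra k F]
    (w : Valuation K (WithZero (Multiplicative ℤ))) (φ : K →ₐ[k] LaurentSeries F)
    (hφ : LocRes.IsExpansionAt w φ) (f : K) (hf : f ≠ 0) :
    LocRes.resExp φ f⁻¹ f = ((-WithZero.log (w f) : ℤ) : F) := by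
  classical
  obtain ⟨hv, -, -⟩ := hφ
  obtain ⟨g, hg⟩ : ∃ g, g = φ f := ⟨_, rfl⟩
  have hg0 : g ≠ 0 := by
    rw [hg]
    exact (map_ne_zero_iff _ φ.toRingHom.injective).2 hf
  obtain ⟨m, hm⟩ : ∃ m, m = g.order := ⟨_, rfl⟩
  obtain ⟨U, hU⟩ : ∃ U, U = g.powerSeriesPart := ⟨_, rfl⟩
  have hgU : HahnSeries.single m (1 : F) * (U : LaurentSeries F) = g := by
    rw [hm, hU]
    exact g.single_order_mul_powerSeriesPart
  have hU0 : PowerSeries.constantCoeff U ≠ 0 := by
    rw [hU, ← PowerSeries.coeff_zero_eq_constantCoeff_apply, LaurentSeries.powerSeriesPart_coeff]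
    simp only [Nat.cast_zero, add_zero]
    exact fun h => hg0 (HahnSeries.coeff_order_eq_zero.1 h)
  have hUinv : (U : LaurentSeries F) * ((U⁻¹ : PowerSeries F) : LaurentSeries F) = 1 := by
    rw [← PowerSeries.coe_mul, PowerSeries.mul_inv_cancel U hU0, PowerSeries.coe_one]
  have hvU : Valued.v (U : LaurentSeries F) = 1 := by
    have h1 : Valued.v (U : LaurentSeries F) ≤ 1 :=
      (LaurentSeries.val_le_one_iff_eq_coe F _).2 ⟨U, rfl⟩
    have h2 : Valued.v ((U⁻¹ : PowerSeries F) : LaurentSeries F) ≤ 1 :=
      (LaurentSeries.val_le_one_iff_eq_coe F _).2 ⟨U⁻¹, rfl⟩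
    have h3 : Valued.v (U : LaurentSeries F) * Valued.v ((U⁻¹ : PowerSeries F) : LaurentSeries F)
        = 1 := by
      rw [← map_mul, hUinv, map_one]
    have h4 : 1 ≤ Valued.v (U : LaurentSeries F) := by
      calc (1 : WithZero (Multiplicative ℤ)) = Valued.v (U : LaurentSeries F) *
            Valued.v ((U⁻¹ : PowerSeries F) : LaurentSeries F) := h3.symm
        _ ≤ Valued.v (U : LaurentSeries F) * 1 := mul_le_mul' le_rfl h2
        _ = Valued.v (U : LaurentSeries F) := mul_one _
    exact le_antisymm h1 h4
  have hwf : w f = WithZero.exp (-m) := by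
    rw [← hv, ← hg, ← hgU, map_mul, hvU, mul_one, LaurentSeries.valuation_single_zpow]
  have hginv : g⁻¹ = HahnSeries.single (-m) (1 : F) * ((U⁻¹ : PowerSeries F) : LaurentSeries F) := by
    apply inv_eq_of_mul_eq_one_right
    rw [← hgU]
    calc HahnSeries.single m (1 : F) * (U : LaurentSeries F) *
          (HahnSeries.single (-m) (1 : F) * ((U⁻¹ : PowerSeries F) : LaurentSeries F))
        = (HahnSeries.single m (1 : F) * HahnSeries.single (-m) (1 : F)) *
          ((U : LaurentSeries F) * ((U⁻¹ : PowerSeries F) : LaurentSeries F)) := by ring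
      _ = 1 := by
        rw [hUinv, HahnSeries.single_mul_single, add_neg_cancel, mul_one, mul_one]
        rfl
  have hDg : LocRes.D F g = HahnSeries.single m (1 : F) *
      ((PowerSeries.derivative F U : PowerSeries F) : LaurentSeries F) +
      HahnSeries.single (m - 1) (m • (1 : F)) * (U : LaurentSeries F) := by
    rw [LocRes.D_apply, ← hgU, LocRes.derivative_single_mul, LocRes.derivative_coe]
  have e1 : HahnSeries.single (-m) (1 : F) * HahnSeries.single m (1 : F) =
      (1 : LaurentSeries F) := by
    rw [HahnSeries.single_mul_single, neg_add_cancel, mul_one]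
    rfl
  have e2 : HahnSeries.single (-m) (1 : F) * HahnSeries.single (m - 1) (m • (1 : F)) =
      (HahnSeries.single (-1) (m • (1 : F)) : LaurentSeries F) := by
    rw [HahnSeries.single_mul_single, one_mul]
    congr 1
    ring_nf
  have key : g⁻¹ * LocRes.D F g =
      ((U⁻¹ * PowerSeries.derivative F U : PowerSeries F) : LaurentSeries F) +
        HahnSeries.single (-1) (m • (1 : F)) := by
    rw [hginv, hDg]
    calc HahnSeries.single (-m) (1 : F) * ((U⁻¹ : PowerSeries F) : LaurentSeries F) *
          (HahnSeries.single m (1 : F) *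
            ((PowerSeries.derivative F U : PowerSeries F) : LaurentSeries F) +
          HahnSeries.single (m - 1) (m • (1 : F)) * (U : LaurentSeries F))
        = (HahnSeries.single (-m) (1 : F) * HahnSeries.single m (1 : F)) *
            (((U⁻¹ : PowerSeries F) : LaurentSeries F) *
              ((PowerSeries.derivative F U : PowerSeries F) : LaurentSeries F)) +
          (HahnSeries.single (-m) (1 : F) * HahnSeries.single (m - 1) (m • (1 : F))) *
            ((U : LaurentSeries F) * ((U⁻¹ : PowerSeries F) : LaurentSeries F)) := by ring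
      _ = _ := by
        rw [e1, e2, hUinv, one_mul, mul_one, ← PowerSeries.coe_mul]
  unfold LocRes.resExp
  rw [map_inv₀, ← hg, key, map_add, LocRes.res_apply, LocRes.res_apply, PowerSeries.coeff_coe,
    HahnSeries.coeff_single_same, hwf, WithZero.log_exp]
  simp

end Groth.Agent.S12620
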