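import Groth.Statements.S12708

set_option autoImplicit false
universe u v
open CategoryTheory
open ArtFun

namespace Groth.Agent.S12708

theorem key {Λ : Type u} {k : Type u} [CommRing Λ] [Field k] [Algebra Λ k]
    (A : Type u) [CommRing A] [Algebra Λ A] [IsLocalRing A] [Algebra A k] [IsScalarTower Λ A k]
    (hres : Function.Surjective (algebraMap A k))
    (M : Type v) [AddCommGroup M] [Module A M] (h : IsFiniteLength A M) :
    ∀ [Module Λ M] [IsScalarTower Λ A M],
      Module.length Λ k * Module.length A M = Module.length Λ M := by
  induction h with
  | @of_subsingleton M _ _ _ =>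
    intro _ _
    rw [Module.length_eq_zero (R := A) (M := M), Module.length_eq_zero (R := Λ) (M := M), mul_zero]
  | @of_simple_quotient M _ _ N _ hN ih =>
    intro _ _
    have h1 : Module.length A M = Module.length A N + Module.length A (M ⧸ N) :=
      Module.length_eq_add_of_exact N.subtype N.mkQ N.injective_subtype N.mkQ_surjective
        (LinearMap.exact_subtype_mkQ N)
    have h2 : Module.length Λ M = Module.length Λ N + Module.length Λ (M ⧸ N) :=
      Module.length_eq_add_of_exact (N.subtype.restrictScalars Λ) (N.mkQ.restrictScalars Λ)
        N.injective_subtype N.mkQ_surjective (LinearMap.exact_subtype_mkQ N)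
    have h3 : Module.length A (M ⧸ N) = 1 := Module.length_eq_one _ _
    have h4 : Module.length Λ (M ⧸ N) = Module.length Λ k := by
      obtain ⟨I, hI, ⟨e⟩⟩ := isSimpleModule_iff_quot_maximal.1
        (inferInstance : IsSimpleModule A (M ⧸ N))
      have hker : I = LinearMap.ker (Algebra.linearMap A k) := by
        have hmax : (RingHom.ker (algebraMap A k)).IsMaximal :=
          RingHom.ker_isMaximal_of_surjective _ hres
        rw [IsLocalRing.eq_maximalIdeal hI]
        have := IsLocalRing.eq_maximalIdeal hmax
        rw [← this]
        rfl
      subst hker
      let e2 : (M ⧸ N) ≃ₗ[A] k :=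
        e.trans ((Algebra.linearMap A k).quotKerEquivOfSurjective hres)
      exact (e2.restrictScalars Λ).length_eq
    rw [h1, h2, h3, h4, mul_add, mul_one, ih]


/-- For Λ Noetherian with a finite map to a field k, A a local Λ-algebra whose residue field is k
(through a surjective Λ-algebra map A → k) and M an A-module, the length of M over Λ equals the
degree of k over the image of Λ times the length of M over A. The degree is written as the length of
k as a Λ-module, which is the same number; lengths are in ℕ∞. -/
theorem result {Λ : Type u} {k : Type u} [CommRing Λ] [Field k] [Algebra Λ k]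
    [IsNoetherianRing Λ] [Module.Finite Λ k]
    (A : Type u) [CommRing A] [Algebra Λ A] [IsLocalRing A] [Algebra A k] [IsScalarTower Λ A k]
    (hres : Function.Surjective (algebraMap A k))
    (M : Type v) [AddCommGroup M] [Module A M] [Module Λ M] [IsScalarTower Λ A M] :
    Module.length Λ k * Module.length A M = Module.length Λ M := by
  by_cases hfin : IsFiniteLength A M
  · exact key A hres M hfin
  · have htop : Module.length A M = ⊤ := by
      by_contra h
      exact hfin (Module.length_ne_top_iff.1 h)
    have hle : Module.length A M ≤ Module.length Λ M := by
      rw [← WithBot.coe_le_coe, Module.coe_length, Module.coe_length]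
      exact Order.krullDim_le_of_orderEmbedding (Submodule.restrictScalarsEmbedding Λ A M)
    rw [htop, top_le_iff] at hle
    rw [htop, hle, ENat.mul_top]
    exact (Module.length_pos (R := Λ) (M := k)).ne'


end Groth.Agent.S12708
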