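import Groth.Statements.S12711
import Mathlib

set_option autoImplicit false
universe u v
open CategoryTheory
open ArtFun ArtFun.Art

namespace Groth.Agent.S12711

/-- If B together with p₁ : B → A₁ and p₂ : B → A₂ is the fibre product A₁ ×_A A₂ in the category of
Artinian local Λ-algebras with residue field k, and f₂ : A₂ → A is a small extension, then the
projection p₁ : B → A₁ is a small extension. -/
theorem result {Λ : Type u} {k : Type u} [CommRing Λ] [Field k] [Algebra Λ k]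
    [IsNoetherianRing Λ] [Module.Finite Λ k]
    {B A A₁ A₂ : ArtFun.Art Λ k} {p₁ : B ⟶ A₁} {p₂ : B ⟶ A₂} {f₁ : A₁ ⟶ A} {f₂ : A₂ ⟶ A}
    (h : ArtFun.Art.IsFibreProd p₁ p₂ f₁ f₂) (hf₂ : ArtFun.Art.IsSmallExt f₂) :
    ArtFun.Art.IsSmallExt p₁ := by
  obtain ⟨hsurj, hne, ⟨⟨t, ht⟩⟩, hkill⟩ := hf₂
  have ht' : RingHom.ker f₂.toAlgHom = Ideal.span {t} := ht
  have htker : f₂ t = 0 := by
    have : t ∈ RingHom.ker f₂.toAlgHom := by rw [ht']; exact Ideal.subset_span rfl
    exact this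
  have htne : t ≠ 0 := by
    intro h0
    apply hne
    rw [ht', h0]
    exact Ideal.span_singleton_eq_bot.2 rfl
  -- the generator of the kernel of p₁
  obtain ⟨b₀, hb₀1, hb₀2⟩ := h.surj 0 t (by rw [htker]; exact map_zero f₁.toAlgHom)
  have hmt : ∀ c ∈ IsLocalRing.maximalIdeal A₂, c * t = 0 := by
    intro c hc
    have : c * t ∈ IsLocalRing.maximalIdeal A₂ * RingHom.ker f₂.toAlgHom :=
      Ideal.mul_mem_mul hc (by rw [ht']; exact Ideal.subset_span rfl)
    rw [hkill] at this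
    exact this
  have hker : RingHom.ker p₁.toAlgHom = Ideal.span {b₀} := by
    apply le_antisymm
    · intro x hx
      have hx1 : p₁ x = 0 := hx
      have hx2 : p₂ x ∈ RingHom.ker f₂.toAlgHom := by
        change f₂ (p₂ x) = 0
        rw [← h.w_apply, hx1]
        exact map_zero f₁.toAlgHom
      rw [ht'] at hx2
      obtain ⟨c, hc⟩ := Ideal.mem_span_singleton'.1 hx2
      obtain ⟨b, hb⟩ := B.res_surjective (A₂.res c)
      have hbc : p₂ b - c ∈ IsLocalRing.maximalIdeal A₂ := by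
        rw [ArtFun.Art.mem_maximalIdeal_iff, map_sub, ArtFun.Art.res_app, hb, sub_self]
      have hbt : p₂ b * t = c * t := by
        have := hmt _ hbc
        rw [sub_mul, sub_eq_zero] at this
        exact this
      rw [Ideal.mem_span_singleton']
      refine ⟨b, ?_⟩
      apply h.inj
      · change p₁.toAlgHom (b * b₀) = p₁.toAlgHom x
        rw [map_mul]
        change p₁ b * p₁ b₀ = p₁ x
        rw [hb₀1, hx1, mul_zero]
      · change p₂.toAlgHom (b * b₀) = p₂.toAlgHom x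
        rw [map_mul]
        change p₂ b * p₂ b₀ = p₂ x
        rw [hb₀2, hbt, hc]
    · rw [Ideal.span_le, Set.singleton_subset_iff]
      exact hb₀1
  refine ⟨?_, ?_, ?_, ?_⟩
  · intro a₁
    obtain ⟨a₂, ha₂⟩ := hsurj (f₁ a₁)
    obtain ⟨b, hb, _⟩ := h.surj a₁ a₂ ha₂.symm
    exact ⟨b, hb⟩
  · rw [hker]
    intro h0
    rw [Ideal.span_singleton_eq_bot] at h0
    apply htne
    rw [← hb₀2, h0]
    exact map_zero p₂.toAlgHom
  · rw [hker]
    exact ⟨⟨_, rfl⟩⟩
  · rw [hker, ← le_bot_iff, Ideal.mul_le]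
    intro a ha x hx
    obtain ⟨c, rfl⟩ := Ideal.mem_span_singleton'.1 hx
    rw [Ideal.mem_bot]
    have ha2 : p₂ a ∈ IsLocalRing.maximalIdeal A₂ := by
      rw [ArtFun.Art.mem_maximalIdeal_iff] at ha ⊢
      rw [ArtFun.Art.res_app]
      exact ha
    apply h.inj
    · change p₁.toAlgHom (a * (c * b₀)) = p₁.toAlgHom 0
      rw [map_mul, map_mul, map_zero]
      change p₁ a * (p₁ c * p₁ b₀) = 0
      rw [hb₀1, mul_zero, mul_zero]
    · change p₂.toAlgHom (a * (c * b₀)) = p₂.toAlgHom 0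
      rw [map_mul, map_mul, map_zero]
      change p₂ a * (p₂ c * p₂ b₀) = 0
      rw [hb₀2, mul_left_comm, hmt _ ha2, mul_zero]

end Groth.Agent.S12711
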