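import Groth.Statements.S12713
import Mathlib

set_option autoImplicit false
universe u v
open CategoryTheory
open ArtFun ArtFun.Art

namespace Groth.Agent.S12713

/-- A small extension f : B → A in the category of Artinian local Λ-algebras with residue field k is not
an essential surjection (some morphism g : C → B is non-surjective although the composite C → A is
surjective) if and only if f has a section A → B in the category. -/
theorem result {Λ : Type u} {k : Type u} [CommRing Λ] [Field k] [Algebra Λ k]
    [IsNoetherianRing Λ] [Module.Finite Λ k]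
    {A B : ArtFun.Art Λ k} (f : B ⟶ A) (hf : ArtFun.Art.IsSmallExt f) :
    (∃ (C : ArtFun.Art Λ k) (g : C ⟶ B), Function.Surjective (g ≫ f) ∧ ¬ Function.Surjective g) ↔
      ∃ s : A ⟶ B, s ≫ f = 𝟙 A := by
  obtain ⟨hsurj, hne, ⟨⟨t, ht⟩⟩, hkill⟩ := hf
  have ht' : RingHom.ker f.toAlgHom = Ideal.span {t} := ht
  have htmem : t ∈ RingHom.ker f.toAlgHom := by rw [ht']; exact Ideal.subset_span rfl
  have hmt : ∀ c ∈ IsLocalRing.maximalIdeal B, ∀ x ∈ RingHom.ker f.toAlgHom, c * x = 0 := by
    intro c hc x hx
    have : c * x ∈ IsLocalRing.maximalIdeal B * RingHom.ker f.toAlgHom := Ideal.mul_mem_mul hc hx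
    rw [hkill] at this
    exact this
  constructor
  · rintro ⟨C, g, hgf, hg⟩
    have hgfa : ∀ c : C, (g ≫ f) c = f (g c) := fun _ => rfl
    -- the range of g meets the kernel of f trivially
    have hint : ∀ c : C, f (g c) = 0 → g c = 0 := by
      intro c hc
      by_contra hne0
      apply hg
      -- write g c = u * t with u a unit
      have hc' : g c ∈ RingHom.ker f.toAlgHom := hc
      rw [ht'] at hc'
      obtain ⟨u, hu⟩ := Ideal.mem_span_singleton'.1 hc'
      have huu : IsUnit u := by
        by_contra hnu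
        have : u ∈ IsLocalRing.maximalIdeal B := (IsLocalRing.mem_maximalIdeal u).2 hnu
        exact hne0 (by rw [← hu]; exact hmt u this t htmem)
      obtain ⟨v, hv⟩ := huu.exists_left_inv
      obtain ⟨c', hc'r⟩ := C.res_surjective (B.res v)
      have hc'v : g c' - v ∈ IsLocalRing.maximalIdeal B := by
        rw [ArtFun.Art.mem_maximalIdeal_iff, map_sub, ArtFun.Art.res_app, hc'r, sub_self]
      have htg : t = g (c' * c) := by
        have h1 : (g c' - v) * g c = 0 := hmt _ hc'v _ hc
        have h2 : g (c' * c) = g c' * g c := map_mul g.toAlgHom c' c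
        rw [h2]
        have h3 : v * g c = t := by rw [← hu, ← mul_assoc, hv, one_mul]
        rw [sub_mul, sub_eq_zero] at h1
        rw [h1, h3]
      intro b
      obtain ⟨c₁, hc₁⟩ := hgf (f b)
      have hb : b - g c₁ ∈ RingHom.ker f.toAlgHom := by
        rw [RingHom.mem_ker, map_sub, sub_eq_zero]
        exact hc₁.symm
      rw [ht'] at hb
      obtain ⟨w, hw⟩ := Ideal.mem_span_singleton'.1 hb
      obtain ⟨c₂, hc₂⟩ := C.res_surjective (B.res w)
      have hc₂w : g c₂ - w ∈ IsLocalRing.maximalIdeal B := by
        rw [ArtFun.Art.mem_maximalIdeal_iff, map_sub, ArtFun.Art.res_app, hc₂, sub_self]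
      have h4 : g c₂ * t = w * t := by
        have := hmt _ hc₂w t htmem
        rw [sub_mul, sub_eq_zero] at this
        exact this
      refine ⟨c₁ + c₂ * (c' * c), ?_⟩
      have h5 : g (c₁ + c₂ * (c' * c)) = g c₁ + g c₂ * g (c' * c) := by
        have h6 : g (c₁ + c₂ * (c' * c)) = g c₁ + g (c₂ * (c' * c)) := map_add g.toAlgHom _ _
        have h7 : g (c₂ * (c' * c)) = g c₂ * g (c' * c) := map_mul g.toAlgHom _ _
        rw [h6, h7]
      rw [h5, ← htg, h4, hw]
      ring
    let B' : Subalgebra Λ B := g.toAlgHom.range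
    let φ : B' →ₐ[Λ] A := f.toAlgHom.comp B'.val
    have hφ : Function.Bijective φ := by
      constructor
      · rw [injective_iff_map_eq_zero]
        rintro ⟨x, c, rfl⟩ hx
        apply Subtype.ext
        exact hint c hx
      · intro a
        obtain ⟨c, hc⟩ := hgf a
        exact ⟨⟨g c, c, rfl⟩, hc⟩
    let e : B' ≃ₐ[Λ] A := AlgEquiv.ofBijective φ hφ
    have he : ∀ a : A, f ((e.symm a : B') : B) = a := fun a => e.apply_symm_apply a
    refine ⟨ArtFun.Art.homMk (B'.val.comp (e.symm : A →ₐ[Λ] B')) ?_, ?_⟩
    · apply AlgHom.ext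
      intro a
      change B.res ((e.symm a : B') : B) = A.res a
      rw [← ArtFun.Art.res_app f, he]
    · apply ArtFun.Art.hom_ext
      apply AlgHom.ext
      intro a
      exact he a
  · rintro ⟨s, hs⟩
    refine ⟨A, s, ?_, ?_⟩
    · rw [hs]
      exact Function.surjective_id
    · intro hsurj'
      apply hne
      rw [eq_bot_iff]
      intro x hx
      obtain ⟨a, rfl⟩ := hsurj' x
      have h1 : f (s a) = a := by
        change (s ≫ f) a = a
        rw [hs]
        rfl
      have h2 : f (s a) = 0 := hx
      rw [h1] at h2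
      rw [h2]
      exact map_zero s.toAlgHom

end Groth.Agent.S12713
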