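import Groth.Statements.S12717
import Groth.Agent.Lib.helper6.ArtBasic

set_option autoImplicit false
universe u v
open CategoryTheory
open ArtFun

namespace Groth.Agent.S12717

/-- For functors, a morphism η : F → G of functors on the category of Artinian local Λ-algebras with
residue field k is smooth (F(B) → F(A) ×_{G(A)} G(B) surjective for every surjection B → A) as soon
as this lifting condition holds for all small extensions B → A. -/
theorem result {Λ : Type u} {k : Type u} [CommRing Λ] [Field k] [Algebra Λ k]
    [IsNoetherianRing Λ] [Module.Finite Λ k]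
    {F G : ArtFun.Art Λ k ⥤ Type v} (η : F ⟶ G)
    (h : ∀ ⦃B A : ArtFun.Art Λ k⦄ (μ : B ⟶ A), ArtFun.Art.IsSmallExt μ →
      Function.Surjective (ArtFun.relCmp η μ)) :
    ArtFun.IsSmooth η := by
  intro B A μ hμ
  refine H6Art.surjective_induction_smallExt
    (fun A B μ => Function.Surjective (ArtFun.relCmp η μ)) ?_ ?_ ?_ μ hμ
  · intro A B e he y
    obtain ⟨⟨x, g⟩, hxg⟩ := y
    have hxg' : η.app A x = G.map e g := hxg
    refine ⟨F.map (inv e) x, Subtype.ext (Prod.ext ?_ ?_)⟩
    · change F.map e (F.map (inv e) x) = x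
      rw [← Functor.map_comp_apply, IsIso.inv_hom_id, Functor.map_id_apply]
    · change η.app B (F.map (inv e) x) = g
      rw [NatTrans.naturality_apply η (inv e) x, hxg', ← Functor.map_comp_apply,
        IsIso.hom_inv_id, Functor.map_id_apply]
  · intro A B p hp
    exact h p hp
  · intro A B C p q hp hq y
    obtain ⟨⟨x, g⟩, hxg⟩ := y
    have hxg' : η.app A x = G.map (p ≫ q) g := hxg
    obtain ⟨w1, hw1⟩ := hq ⟨(x, G.map p g), by
      change η.app A x = G.map q (G.map p g)
      rw [hxg', Functor.map_comp_apply]⟩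
    have h11 : F.map q w1 = x := congrArg (fun t => t.1.1) hw1
    have h12 : η.app B w1 = G.map p g := congrArg (fun t => t.1.2) hw1
    obtain ⟨w2, hw2⟩ := hp ⟨(w1, g), h12⟩
    have h21 : F.map p w2 = w1 := congrArg (fun t => t.1.1) hw2
    have h22 : η.app C w2 = g := congrArg (fun t => t.1.2) hw2
    refine ⟨w2, Subtype.ext (Prod.ext ?_ h22)⟩
    change F.map (p ≫ q) w2 = x
    rw [Functor.map_comp_apply, h21, h11]

end Groth.Agent.S12717
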