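import Groth.Statements.S12722
import Groth.Agent.Lib.helper6.RelPS

set_option autoImplicit false
universe u v
open CategoryTheory
open ArtFun

namespace Groth.Agent.S12722

/-- (1) ⇔ (5): let Λ be a complete local Noetherian ring with residue field k. For a complete local
Noetherian Λ-algebra R with residue field k, the functor h_R on Artinian local Λ-algebras with
residue field k is smooth if and only if R is isomorphic over Λ to a power series ring Λ[[x₁, …,
xₙ]] for some n. -/
theorem result {Λ : Type u} {k : Type u} [CommRing Λ] [Field k] [Algebra Λ k]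
    [IsNoetherianRing Λ] [Module.Finite Λ k]
    [IsLocalRing Λ] [IsAdicComplete (IsLocalRing.maximalIdeal Λ) Λ]
    (hk : Function.Surjective (algebraMap Λ k)) (R : ArtFun.CRing Λ k) :
    ArtFun.IsSmoothFunctor (ArtFun.hR R.carrier R.res) ↔
      ∃ n : ℕ, Nonempty (R.carrier ≃ₐ[Λ] MvPowerSeries (Fin n) Λ) := by
  let ΛC : ArtFun.CRing Λ k :=
    { carrier := Λ, res := Algebra.ofId Λ k, res_surjective := hk, isAdicComplete := inferInstance }
  letI : Algebra ΛC.carrier R.carrier := R.algebra
  haveI : IsScalarTower Λ ΛC.carrier R.carrier := (inferInstance : IsScalarTower Λ Λ R.carrier)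
  have hRS : R.res.comp (IsScalarTower.toAlgHom Λ ΛC.carrier R.carrier) = ΛC.res := by
    apply AlgHom.ext
    intro l
    exact R.res.commutes l
  have hsub : ∀ (B : ArtFun.Art Λ k) (y y' : ArtFun.HomSet ΛC.carrier ΛC.res B), y = y' := by
    intro B y y'
    apply Subtype.ext
    apply AlgHom.ext
    intro l
    exact (y.1.commutes l).trans (y'.1.commutes l).symm
  have hiff : ArtFun.IsVersal ((ArtFun.Family.self ΛC.carrier ΛC.res).along
      (IsScalarTower.toAlgHom Λ ΛC.carrier R.carrier) hRS) ↔
      ArtFun.IsSmoothFunctor (ArtFun.hR R.carrier R.res) := by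
    constructor
    · intro hv B A μ hμ φ
      let y : ArtFun.HomSet ΛC.carrier ΛC.res B := ⟨Algebra.ofId Λ B, by
        apply AlgHom.ext
        intro l
        exact B.res.commutes l⟩
      obtain ⟨ψ, h1, _⟩ := hv μ hμ φ y (hsub _ _ _)
      exact ⟨ψ, h1⟩
    · intro hs B A μ hμ φ y hy
      obtain ⟨ψ, hψ⟩ := hs μ hμ φ
      exact ⟨ψ, hψ, hsub _ _ _⟩
  rw [← hiff]
  constructor
  · intro h
    exact H6Rel.exists_equiv_of_isVersal ΛC R hRS h
  · rintro ⟨n, ⟨e⟩⟩
    exact H6Rel.isVersal_of_equiv ΛC R hRS n e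

end Groth.Agent.S12722
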