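import Groth.Statements.S12729
import Groth.Agent.Lib.helper6.SchlA

set_option autoImplicit false
universe u v
open CategoryTheory
open ArtFun

namespace Groth.Agent.S12729

open ArtFun ArtFun.Art IsLocalRing in
/-- transition maps between the quotient objects of the prelude -/
noncomputable def qf {Λ : Type u} {k : Type u} [CommRing Λ] [Field k] [Algebra Λ k] {B : Art Λ k}
    {J J' : Ideal B} (h : J ≤ J') (hJ : J ≤ maximalIdeal B) (hJ' : J' ≤ maximalIdeal B) :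
    Art.quot B J hJ ⟶ Art.quot B J' hJ' :=
  Art.quotFactor hJ (Art.quotMk B J' hJ') (fun a ha => by
    rw [RingHom.mem_ker]
    exact Ideal.Quotient.eq_zero_iff_mem.2 (h ha))

open ArtFun ArtFun.Art IsLocalRing in
lemma quot_hom_ext {Λ : Type u} {k : Type u} [CommRing Λ] [Field k] [Algebra Λ k] {B D : Art Λ k}
    {J : Ideal B} {hJ : J ≤ maximalIdeal B} {f g : Art.quot B J hJ ⟶ D}
    (h : ∀ a : B, f (Ideal.Quotient.mk J a) = g (Ideal.Quotient.mk J a)) : f = g := by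
  apply Art.hom_ext
  apply AlgHom.ext
  intro x
  obtain ⟨a, rfl⟩ := Ideal.Quotient.mk_surjective x
  exact h a


/-- For functors, let F satisfy (S1), let p : B → A be a surjection in the category of Artinian local
Λ-algebras with residue field k whose kernel I is annihilated by m_B, and let x ∈ F(A). Then the set
of ideals J ⊆ I for which x lifts to F(B/J) along B/J → A has a least element. -/
theorem result {Λ : Type u} {k : Type u} [CommRing Λ] [Field k] [Algebra Λ k]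
    [IsNoetherianRing Λ] [Module.Finite Λ k]
    {F : ArtFun.Art Λ k ⥤ Type v} (h1 : ArtFun.S1 F)
    {B A : ArtFun.Art Λ k} (p : B ⟶ A) (hp : ArtFun.Art.IsSemismallExt p) (x : F.obj A) :
    ∃ (J₀ : Ideal B) (hJ₀ : J₀ ≤ RingHom.ker p.toAlgHom) (hJ₀' : J₀ ≤ IsLocalRing.maximalIdeal B),
      (∃ y : F.obj (ArtFun.Art.quot B J₀ hJ₀'), F.map (ArtFun.Art.quotFactor hJ₀' p hJ₀) y = x) ∧
      ∀ (J : Ideal B) (hJ : J ≤ RingHom.ker p.toAlgHom) (hJ' : J ≤ IsLocalRing.maximalIdeal B),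
        (∃ y : F.obj (ArtFun.Art.quot B J hJ'), F.map (ArtFun.Art.quotFactor hJ' p hJ) y = x) → J₀ ≤ J := by
  classical
  have hIm : RingHom.ker p.toAlgHom ≤ IsLocalRing.maximalIdeal B := by
    intro b hb
    rw [B.mem_maximalIdeal_iff, ← ArtFun.Art.res_app p, RingHom.mem_ker.1 hb]
    exact map_zero A.res
  let Good : Ideal B → Prop := fun J => ∃ (hJ : J ≤ RingHom.ker p.toAlgHom)
    (hJ' : J ≤ IsLocalRing.maximalIdeal B), ∃ y : F.obj (ArtFun.Art.quot B J hJ'),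
      F.map (ArtFun.Art.quotFactor hJ' p hJ) y = x
  have hgoodI : Good (RingHom.ker p.toAlgHom) := by
    have hbij : Function.Bijective (ArtFun.Art.quotFactor hIm p le_rfl) := by
      constructor
      · intro x₁ x₂ h12
        obtain ⟨a₁, rfl⟩ := Ideal.Quotient.mk_surjective x₁
        obtain ⟨a₂, rfl⟩ := Ideal.Quotient.mk_surjective x₂
        have h12' : p a₁ = p a₂ := h12
        refine Ideal.Quotient.eq.2 ?_
        rw [RingHom.mem_ker, map_sub, sub_eq_zero]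
        exact h12'
      · intro a
        obtain ⟨b, hb⟩ := hp.1 a
        exact ⟨Ideal.Quotient.mk _ b, hb⟩
    haveI : IsIso (ArtFun.Art.quotFactor hIm p le_rfl) := H6Art.isIso_of_bijective _ hbij
    refine ⟨le_rfl, hIm, F.map (inv (ArtFun.Art.quotFactor hIm p le_rfl)) x, ?_⟩
    rw [← Functor.map_comp_apply, IsIso.inv_hom_id]
    exact Functor.map_id_apply ..
  have hinf : ∀ J₁ J₂ : Ideal B, Good J₁ → Good J₂ → Good (J₁ ⊓ J₂) := by
    rintro J₁ J₂ ⟨hJ₁, hJ₁', y₁, e₁⟩ ⟨hJ₂, hJ₂', y₂, e₂⟩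
    obtain ⟨K', hK1, hK2, hK3, hK4⟩ := H6Art.exists_compl_ideal (RingHom.ker p.toAlgHom) J₁ J₂
      hJ₁ hJ₂ (by rw [hp.2]; exact bot_le)
    have hK' : K' ≤ IsLocalRing.maximalIdeal B := hK2.trans hIm
    have h3 : J₁ ⊓ J₂ ≤ RingHom.ker p.toAlgHom := inf_le_left.trans hJ₁
    have h3' : J₁ ⊓ J₂ ≤ IsLocalRing.maximalIdeal B := inf_le_left.trans hJ₁'
    have h32 : J₁ ⊓ J₂ ≤ K' := inf_le_right.trans hK1
    have hfp : ArtFun.Art.IsFibreProd (qf (inf_le_left : J₁ ⊓ J₂ ≤ J₁) h3' hJ₁') (qf h32 h3' hK')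
        (ArtFun.Art.quotFactor hJ₁' p hJ₁) (ArtFun.Art.quotFactor hK' p hK2) := by
      refine ⟨quot_hom_ext fun a => rfl, ?_, ?_⟩
      · intro b₁ b₂ e1 e2
        obtain ⟨x₁, rfl⟩ := Ideal.Quotient.mk_surjective b₁
        obtain ⟨x₂, rfl⟩ := Ideal.Quotient.mk_surjective b₂
        have e1' : Ideal.Quotient.mk J₁ x₁ = Ideal.Quotient.mk J₁ x₂ := e1
        have e2' : Ideal.Quotient.mk K' x₁ = Ideal.Quotient.mk K' x₂ := e2
        have m1 : x₁ - x₂ ∈ J₁ := Ideal.Quotient.eq.1 e1'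
        have m2 : x₁ - x₂ ∈ K' := Ideal.Quotient.eq.1 e2'
        exact Ideal.Quotient.eq.2 ⟨m1, hK3 ⟨m1, m2⟩⟩
      · intro a' a'' e
        obtain ⟨x', rfl⟩ := Ideal.Quotient.mk_surjective a'
        obtain ⟨y', rfl⟩ := Ideal.Quotient.mk_surjective a''
        have e' : p x' = p y' := e
        have hmem : x' - y' ∈ J₁ ⊔ K' := by
          rw [hK4, RingHom.mem_ker, map_sub, sub_eq_zero]
          exact e'
        obtain ⟨u, hu, v, hv, huv⟩ := Submodule.mem_sup.1 hmem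
        refine ⟨Ideal.Quotient.mk (J₁ ⊓ J₂) (x' - u), ?_, ?_⟩
        · change Ideal.Quotient.mk J₁ (x' - u) = Ideal.Quotient.mk J₁ x'
          refine Ideal.Quotient.eq.2 ?_
          have : x' - u - x' = -u := by ring
          rw [this]
          exact J₁.neg_mem hu
        · change Ideal.Quotient.mk K' (x' - u) = Ideal.Quotient.mk K' y'
          refine Ideal.Quotient.eq.2 ?_
          have : x' - u - y' = v := by linear_combination (-1 : B) * huv
          rw [this]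
          exact hv
    have hsurj : Function.Surjective (ArtFun.Art.quotFactor hK' p hK2) := by
      intro a
      obtain ⟨b, hb⟩ := hp.1 a
      exact ⟨Ideal.Quotient.mk _ b, hb⟩
    have e₂' : F.map (ArtFun.Art.quotFactor hK' p hK2) (F.map (qf hK1 hJ₂' hK') y₂) = x := by
      rw [← Functor.map_comp_apply]
      have : qf hK1 hJ₂' hK' ≫ ArtFun.Art.quotFactor hK' p hK2 =
          ArtFun.Art.quotFactor hJ₂' p hJ₂ := quot_hom_ext fun a => rfl
      rw [this, e₂]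
    obtain ⟨z, hz⟩ := h1 _ _ _ _ hfp hsurj ⟨(y₁, F.map (qf hK1 hJ₂' hK') y₂), e₁.trans e₂'.symm⟩
    have hz1 : F.map (qf (inf_le_left : J₁ ⊓ J₂ ≤ J₁) h3' hJ₁') z = y₁ :=
      congrArg (fun t => t.1.1) hz
    refine ⟨h3, h3', z, ?_⟩
    have : ArtFun.Art.quotFactor h3' p h3 =
        qf (inf_le_left : J₁ ⊓ J₂ ≤ J₁) h3' hJ₁' ≫ ArtFun.Art.quotFactor hJ₁' p hJ₁ :=
      quot_hom_ext fun a => rfl
    rw [this, Functor.map_comp_apply, hz1, e₁]
  obtain ⟨J₀, hJ₀, hmin⟩ := IsArtinian.set_has_minimal {J : Ideal B | Good J}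
    ⟨RingHom.ker p.toAlgHom, hgoodI⟩
  obtain ⟨g1, g2, y, hy⟩ := hJ₀
  refine ⟨J₀, g1, g2, ⟨y, hy⟩, fun J hJ hJ' hex => ?_⟩
  obtain ⟨y', hy'⟩ := hex
  have hg : Good (J₀ ⊓ J) := hinf J₀ J ⟨g1, g2, y, hy⟩ ⟨hJ, hJ', y', hy'⟩
  have hnlt : ¬ (J₀ ⊓ J < J₀) := hmin _ hg
  have heq : J₀ ⊓ J = J₀ := eq_of_le_of_not_lt inf_le_left hnlt
  rw [← heq]
  exact inf_le_right

end Groth.Agent.S12729
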