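import Groth.Statements.S12733
import Groth.Agent.Lib.helper6.ArtTorsor

set_option autoImplicit false
universe u v
open CategoryTheory
open ArtFun

namespace Groth.Agent.S12733

/-- Let F, G be deformation functors on Artinian local Λ-algebras with residue field k (value at k a
point, and condition (RS): the comparison map for A₁ ×_A A₂ is bijective whenever A₂ → A is
surjective). A smooth morphism φ : F → G inducing a bijection on tangent spaces is an isomorphism:
every φ_A is bijective. -/
theorem result {Λ : Type u} {k : Type u} [CommRing Λ] [Field k] [Algebra Λ k]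
    [IsNoetherianRing Λ] [Module.Finite Λ k]
    {F G : ArtFun.Art Λ k ⥤ Type v}
    (hF0 : ArtFun.H0 F) (hF : (∀ ⦃B A A' A'' : ArtFun.Art Λ k⦄ (p' : B ⟶ A') (p'' : B ⟶ A'') (f' : A' ⟶ A) (f'' : A'' ⟶ A)
        (h : ArtFun.Art.IsFibreProd p' p'' f' f''), Function.Surjective f'' → Function.Bijective (ArtFun.cmp F h)))
    (hG0 : ArtFun.H0 G) (hG : (∀ ⦃B A A' A'' : ArtFun.Art Λ k⦄ (p' : B ⟶ A') (p'' : B ⟶ A'') (f' : A' ⟶ A) (f'' : A'' ⟶ A)
        (h : ArtFun.Art.IsFibreProd p' p'' f' f''), Function.Surjective f'' → Function.Bijective (ArtFun.cmp G h)))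
    (φ : F ⟶ G) (hφ : ArtFun.IsSmooth φ) (hd : Function.Bijective (ArtFun.TangentSpace.map φ))
    (A : ArtFun.Art Λ k) : Function.Bijective (φ.app A) := by
  constructor
  · have key := H6Art.surjective_induction_smallExt (Λ := Λ) (k := k)
      (fun A B _ => Function.Injective (φ.app A) → Function.Injective (φ.app B)) ?_ ?_ ?_
      (ArtFun.Art.toBase A) A.res_surjective
    · apply key
      intro x y _
      exact hF0.2.elim x y
    · intro A B e he hA x y hxy
      have h1 : F.map e x = F.map e y := by
        apply hA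
        rw [NatTrans.naturality_apply, NatTrans.naturality_apply, hxy]
      have h2 := congrArg (F.map (inv e)) h1
      rw [← Functor.map_comp_apply, ← Functor.map_comp_apply, IsIso.hom_inv_id,
        Functor.map_id_apply, Functor.map_id_apply] at h2
      exact h2
    · intro A B μ hμ hA
      exact H6Art.GNat.injective_of_smallExt (H6Art.GNat.ofNatTrans φ)
        (fun _ _ _ _ p' p'' f' f'' h hs => (hF p' p'' f' f'' h hs).2)
        (fun _ _ p' p'' h => (hF p' p'' _ _ h (ArtFun.Art.dual Λ k).res_surjective).1)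
        (fun _ _ _ _ p' p'' f' f'' h hs => (hG p' p'' f' f'' h hs).1)
        hd.1 μ hμ hA
    · intro A B C p q hp hq hA
      exact hp (hq hA)
  · intro y
    obtain ⟨x0⟩ := hF0.1
    have hx0 : φ.app (ArtFun.Art.base Λ k) x0 = G.map (ArtFun.Art.toBase A) y :=
      hG0.2.elim _ _
    have hs : Function.Surjective (ArtFun.Art.toBase A) := A.res_surjective
    obtain ⟨w, hw⟩ := hφ (ArtFun.Art.toBase A) hs ⟨(x0, y), hx0⟩
    exact ⟨w, congrArg (fun t => t.1.2) hw⟩

end Groth.Agent.S12733
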