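import Groth.Statements.S12735
import Groth.Agent.Lib.helper6.ArtMinVersal

set_option autoImplicit false
universe u v
open CategoryTheory
open ArtFun

namespace Groth.Agent.S12735

/-- Let U be a prorepresentable functor on Artinian local Λ-algebras with residue field k and φ : U → U
an endomorphism of functors which is bijective on the tangent space U(k[ε]). Then φ is an
isomorphism: every component is bijective. -/
theorem result {Λ : Type u} {k : Type u} [CommRing Λ] [Field k] [Algebra Λ k]
    [IsNoetherianRing Λ] [Module.Finite Λ k]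
    {U : ArtFun.Art Λ k ⥤ Type v} (hU : ArtFun.IsProrepresentable U)
    (φ : U ⟶ U) (hd : Function.Bijective (ArtFun.TangentSpace.map φ)) (A : ArtFun.Art Λ k) :
    Function.Bijective (φ.app A) := by
  obtain ⟨P⟩ := hU
  set R := P.ring with hR
  set ξ := P.family with hξ
  have hu : ArtFun.IsUniversal ξ := P.universal
  obtain ⟨g, hg, hgξ⟩ := H6Art.exists_along_toFormalElt_eq R ξ (H6Art.isVersal_of_isUniversal ξ hu) R
    (ξ.push φ).toFormalElt ((hu _).2 _)
  have hgξ' : ξ.along g hg = ξ.push φ := H6Art.toFormalElt_injective hgξ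
  have key : ∀ (A : ArtFun.Art Λ k) (ψ : ArtFun.HomSet R.carrier R.res A),
      ξ.app A ⟨ψ.1.comp g, by rw [← AlgHom.comp_assoc, ψ.2, hg]⟩ = φ.app A (ξ.app A ψ) := by
    intro A ψ
    exact congrArg (fun ζ : ArtFun.Family R.carrier R.res U => ζ.app A ψ) hgξ'
  have hgs : Function.Surjective g := by
    apply H6Art.surjective_of_homSet_dual_injective R R g hg
    intro ψ₁ ψ₂ h
    apply (hu _).1
    apply hd.1
    change φ.app _ (ξ.app _ ψ₁) = φ.app _ (ξ.app _ ψ₂)
    rw [← key, ← key]
    congr 1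
    exact Subtype.ext h
  have hgi : Function.Injective g := H6Loc.injective_of_surjective_ringEnd (g : R.carrier →+* R.carrier) hgs
  let e : R.carrier ≃ₐ[Λ] R.carrier := AlgEquiv.ofBijective g ⟨hgi, hgs⟩
  have he : ∀ x, g (e.symm x) = x := fun x => e.apply_symm_apply x
  have hres : ∀ x, R.res (e.symm x) = R.res x := by
    intro x
    have h1 : R.res (g (e.symm x)) = R.res (e.symm x) := congrArg (fun t : R.carrier →ₐ[Λ] k => t (e.symm x)) hg
    rw [← h1, he]
  constructor
  · intro x y hxy
    obtain ⟨ψ₁, rfl⟩ := (hu A).2 x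
    obtain ⟨ψ₂, rfl⟩ := (hu A).2 y
    rw [← key, ← key] at hxy
    have h2 := (hu A).1 hxy
    have h3 : ψ₁.1.comp g = ψ₂.1.comp g := congrArg Subtype.val h2
    congr 1
    apply Subtype.ext
    apply AlgHom.ext
    intro r
    obtain ⟨r', rfl⟩ := hgs r
    exact congrArg (fun t : R.carrier →ₐ[Λ] A => t r') h3
  · intro y
    obtain ⟨ψ, rfl⟩ := (hu A).2 y
    have hψ' : A.res.comp (ψ.1.comp (e.symm : R.carrier →ₐ[Λ] R.carrier)) = R.res := by
      apply AlgHom.ext
      intro x
      change A.res (ψ.1 (e.symm x)) = R.res x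
      have h1 : A.res (ψ.1 (e.symm x)) = R.res (e.symm x) :=
        congrArg (fun t : R.carrier →ₐ[Λ] k => t (e.symm x)) ψ.2
      rw [h1, hres]
    refine ⟨ξ.app A ⟨ψ.1.comp (e.symm : R.carrier →ₐ[Λ] R.carrier), hψ'⟩, ?_⟩
    rw [← key]
    congr 1
    apply Subtype.ext
    apply AlgHom.ext
    intro r
    change ψ.1 (e.symm (g r)) = ψ.1 r
    congr 1
    exact e.symm_apply_apply r

end Groth.Agent.S12735
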