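import Groth.Statements.S12743
import Groth.Agent.Lib.helper6.ArtSmooth

set_option autoImplicit false
universe u v
open CategoryTheory
open ArtFun

namespace Groth.Agent.S12743

/-- For functors, let φ : F → G and ψ : G → H be morphisms of functors on Artinian local Λ-algebras with
residue field k, with F and G deformation functors (values at k a point, condition (RS)). If φ is
surjective on tangent spaces and the composite F → H is smooth, then φ is smooth. -/
theorem result {Λ : Type u} {k : Type u} [CommRing Λ] [Field k] [Algebra Λ k]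
    [IsNoetherianRing Λ] [Module.Finite Λ k]
    {F G H : ArtFun.Art Λ k ⥤ Type v}
    (hF0 : ArtFun.H0 F) (hF : (∀ ⦃B A A' A'' : ArtFun.Art Λ k⦄ (p' : B ⟶ A') (p'' : B ⟶ A'') (f' : A' ⟶ A) (f'' : A'' ⟶ A)
        (h : ArtFun.Art.IsFibreProd p' p'' f' f''), Function.Surjective f'' → Function.Bijective (ArtFun.cmp F h)))
    (hG0 : ArtFun.H0 G) (hG : (∀ ⦃B A A' A'' : ArtFun.Art Λ k⦄ (p' : B ⟶ A') (p'' : B ⟶ A'') (f' : A' ⟶ A) (f'' : A'' ⟶ A)
        (h : ArtFun.Art.IsFibreProd p' p'' f' f''), Function.Surjective f'' → Function.Bijective (ArtFun.cmp G h)))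
    (φ : F ⟶ G) (ψ : G ⟶ H) (hd : Function.Surjective (ArtFun.TangentSpace.map φ))
    (hs : ArtFun.IsSmooth (φ ≫ ψ)) : ArtFun.IsSmooth φ := by
  apply H6Art.isSmooth_of_smallExt
  intro B A μ hμ y
  obtain ⟨⟨x, g⟩, hxg⟩ := y
  have hxg' : φ.app A x = G.map μ g := hxg
  obtain ⟨w₀, hw₀⟩ := hs μ hμ.1 ⟨(x, ψ.app B g), by
    change ψ.app A (φ.app A x) = H.map μ (ψ.app B g)
    rw [hxg', NatTrans.naturality_apply]⟩
  have hw₀1 : F.map μ w₀ = x := congrArg (fun t => t.1.1) hw₀
  obtain ⟨w, hw1, hw2⟩ := H6Art.GNat.exists_lift_of_tangent_surjective (H6Art.GNat.ofNatTrans φ)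
    hF0.2
    (fun _ _ p' p'' h => (hF p' p'' _ _ h (ArtFun.Art.dual Λ k).res_surjective).2)
    (fun _ _ _ _ p' p'' f' f'' h hs' => (hG p' p'' f' f'' h hs').2)
    (fun _ _ p' p'' h => (hG p' p'' _ _ h (ArtFun.Art.dual Λ k).res_surjective).1)
    hd μ hμ w₀ g (by
      change G.map μ (φ.app B w₀) = G.map μ g
      rw [← NatTrans.naturality_apply, hw₀1, hxg'])
  exact ⟨w, Subtype.ext (Prod.ext (hw1.trans hw₀1) hw2)⟩

end Groth.Agent.S12743
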