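import Groth.Statements.S12744

set_option autoImplicit false
universe u v
open CategoryTheory
open ArtFun

namespace Groth.Agent.S12744

/-- For functors, if η : F → G is a smooth morphism of functors on Artinian local Λ-algebras with
residue field k and F(k) → G(k) is surjective, then for every complete local Noetherian R with
residue field k the induced map on formal elements over R (compatible systems of elements over the
truncations R/m^(n+1)) is surjective. -/
theorem result {Λ : Type u} {k : Type u} [CommRing Λ] [Field k] [Algebra Λ k]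
    [IsNoetherianRing Λ] [Module.Finite Λ k]
    {F G : ArtFun.Art Λ k ⥤ Type v} (η : F ⟶ G) (hη : ArtFun.IsSmooth η)
    (h0 : Function.Surjective (η.app (ArtFun.Art.base Λ k))) (R : ArtFun.CRing Λ k) :
    Function.Surjective (fun u : ArtFun.FormalElt F R => u.map η) := by
  intro v
  have hsurj : ∀ A : ArtFun.Art Λ k, Function.Surjective (η.app A) := by
    intro A y
    obtain ⟨x0, hx0⟩ := h0 (G.map (ArtFun.Art.toBase A) y)
    have hs : Function.Surjective (ArtFun.Art.toBase A) := A.res_surjective
    obtain ⟨w, hw⟩ := hη (ArtFun.Art.toBase A) hs ⟨(x0, y), hx0⟩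
    exact ⟨w, congrArg (fun t => t.1.2) hw⟩
  have hstep : ∀ (n : ℕ) (un : F.obj (R.trunc n)), η.app _ un = v.elt n →
      ∃ un1 : F.obj (R.trunc (n + 1)), η.app _ un1 = v.elt (n + 1) ∧ F.map (R.truncMap n) un1 = un := by
    intro n un hun
    have hsm : Function.Surjective (R.truncMap n) := by
      intro x
      obtain ⟨a, rfl⟩ := Ideal.Quotient.mk_surjective x
      exact ⟨Ideal.Quotient.mk _ a, rfl⟩
    obtain ⟨w, hw⟩ := hη (R.truncMap n) hsm ⟨(un, v.elt (n + 1)), by
      change η.app _ un = G.map (R.truncMap n) (v.elt (n + 1))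
      rw [hun, v.compat]⟩
    exact ⟨w, congrArg (fun t => t.1.2) hw, congrArg (fun t => t.1.1) hw⟩
  obtain ⟨u0, hu0⟩ := hsurj (R.trunc 0) (v.elt 0)
  let seq : ∀ n : ℕ, {un : F.obj (R.trunc n) // η.app _ un = v.elt n} := fun n =>
    Nat.rec (motive := fun n => {un : F.obj (R.trunc n) // η.app _ un = v.elt n}) ⟨u0, hu0⟩
      (fun n p => ⟨(hstep n p.1 p.2).choose, (hstep n p.1 p.2).choose_spec.1⟩) n
  have hseq : ∀ n, F.map (R.truncMap n) (seq (n + 1)).1 = (seq n).1 := fun n =>
    (hstep n (seq n).1 (seq n).2).choose_spec.2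
  refine ⟨⟨fun n => (seq n).1, hseq⟩, ?_⟩
  apply ArtFun.FormalElt.ext'
  intro n
  exact (seq n).2

end Groth.Agent.S12744
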