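import Groth.Statements.S12746
import Mathlib

set_option autoImplicit false
universe u v
open CategoryTheory
open ArtFun

namespace Groth.Agent.S12746

/-- For functors, if F, G, H are functors on Artinian local Λ-algebras with residue field k satisfying
(RS) and f : H → F, g : G → F are morphisms, then the fibre product functor H ×_F G satisfies (RS). -/
theorem result {Λ : Type u} {k : Type u} [CommRing Λ] [Field k] [Algebra Λ k]
    [IsNoetherianRing Λ] [Module.Finite Λ k]
    {F G H : ArtFun.Art Λ k ⥤ Type v} (f : H ⟶ F) (g : G ⟶ F)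
    (hF : (∀ ⦃B A A' A'' : ArtFun.Art Λ k⦄ (p' : B ⟶ A') (p'' : B ⟶ A'') (f' : A' ⟶ A) (f'' : A'' ⟶ A)
        (h : ArtFun.Art.IsFibreProd p' p'' f' f''), Function.Surjective f'' → Function.Bijective (ArtFun.cmp F h))) (hG : (∀ ⦃B A A' A'' : ArtFun.Art Λ k⦄ (p' : B ⟶ A') (p'' : B ⟶ A'') (f' : A' ⟶ A) (f'' : A'' ⟶ A)
        (h : ArtFun.Art.IsFibreProd p' p'' f' f''), Function.Surjective f'' → Function.Bijective (ArtFun.cmp G h))) (hH : (∀ ⦃B A A' A'' : ArtFun.Art Λ k⦄ (p' : B ⟶ A') (p'' : B ⟶ A'') (f' : A' ⟶ A) (f'' : A'' ⟶ A)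
        (h : ArtFun.Art.IsFibreProd p' p'' f' f''), Function.Surjective f'' → Function.Bijective (ArtFun.cmp H h))) :
    (∀ ⦃B A A' A'' : ArtFun.Art Λ k⦄ (p' : B ⟶ A') (p'' : B ⟶ A'') (f' : A' ⟶ A) (f'' : A'' ⟶ A)
        (h : ArtFun.Art.IsFibreProd p' p'' f' f''), Function.Surjective f'' → Function.Bijective (ArtFun.cmp (CategoryTheory.Limits.pullback f g) h)) := by
  intro B A A' A'' p' p'' f' f'' h hf''
  have pb : ∀ X : ArtFun.Art Λ k, IsPullback ((Limits.pullback.fst f g).app X)
      ((Limits.pullback.snd f g).app X) (f.app X) (g.app X) := fun X =>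
    (IsPullback.of_hasPullback f g).map ((evaluation _ _).obj X)
  constructor
  · intro z₁ z₂ hz
    have hz1 : (Limits.pullback f g).map p' z₁ = (Limits.pullback f g).map p' z₂ :=
      congrArg (fun t => t.1.1) hz
    have hz2 : (Limits.pullback f g).map p'' z₁ = (Limits.pullback f g).map p'' z₂ :=
      congrArg (fun t => t.1.2) hz
    apply Limits.Types.ext_of_isPullback (pb B)
    · apply (hH p' p'' f' f'' h hf'').1
      apply Subtype.ext
      apply Prod.ext
      · change H.map p' _ = H.map p' _
        rw [← NatTrans.naturality_apply, ← NatTrans.naturality_apply, hz1]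
      · change H.map p'' _ = H.map p'' _
        rw [← NatTrans.naturality_apply, ← NatTrans.naturality_apply, hz2]
    · apply (hG p' p'' f' f'' h hf'').1
      apply Subtype.ext
      apply Prod.ext
      · change G.map p' _ = G.map p' _
        rw [← NatTrans.naturality_apply, ← NatTrans.naturality_apply, hz1]
      · change G.map p'' _ = G.map p'' _
        rw [← NatTrans.naturality_apply, ← NatTrans.naturality_apply, hz2]
  · rintro ⟨⟨x', x''⟩, hx⟩
    have hx' : (Limits.pullback f g).map f' x' = (Limits.pullback f g).map f'' x'' := hx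
    obtain ⟨hB, hhB⟩ := (hH p' p'' f' f'' h hf'').2
      ⟨((Limits.pullback.fst f g).app A' x', (Limits.pullback.fst f g).app A'' x''), by
        change H.map f' _ = H.map f'' _
        rw [← NatTrans.naturality_apply, ← NatTrans.naturality_apply, hx']⟩
    have hhB1 : H.map p' hB = (Limits.pullback.fst f g).app A' x' := congrArg (fun t => t.1.1) hhB
    have hhB2 : H.map p'' hB = (Limits.pullback.fst f g).app A'' x'' := congrArg (fun t => t.1.2) hhB
    obtain ⟨gB, hgB⟩ := (hG p' p'' f' f'' h hf'').2
      ⟨((Limits.pullback.snd f g).app A' x', (Limits.pullback.snd f g).app A'' x''), by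
        change G.map f' _ = G.map f'' _
        rw [← NatTrans.naturality_apply, ← NatTrans.naturality_apply, hx']⟩
    have hgB1 : G.map p' gB = (Limits.pullback.snd f g).app A' x' := congrArg (fun t => t.1.1) hgB
    have hgB2 : G.map p'' gB = (Limits.pullback.snd f g).app A'' x'' := congrArg (fun t => t.1.2) hgB
    have hfg : f.app B hB = g.app B gB := by
      apply (hF p' p'' f' f'' h hf'').1
      apply Subtype.ext
      apply Prod.ext
      · change F.map p' _ = F.map p' _
        rw [← NatTrans.naturality_apply, ← NatTrans.naturality_apply, hhB1, hgB1]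
        exact ConcreteCategory.congr_hom (pb A').w x'
      · change F.map p'' _ = F.map p'' _
        rw [← NatTrans.naturality_apply, ← NatTrans.naturality_apply, hhB2, hgB2]
        exact ConcreteCategory.congr_hom (pb A'').w x''
    obtain ⟨z, hz1, hz2⟩ := Limits.Types.exists_of_isPullback (pb B) hB gB hfg
    refine ⟨z, Subtype.ext (Prod.ext ?_ ?_)⟩
    · change (Limits.pullback f g).map p' z = x'
      apply Limits.Types.ext_of_isPullback (pb A')
      · rw [NatTrans.naturality_apply, hz1, hhB1]
      · rw [NatTrans.naturality_apply, hz2, hgB1]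
    · change (Limits.pullback f g).map p'' z = x''
      apply Limits.Types.ext_of_isPullback (pb A'')
      · rw [NatTrans.naturality_apply, hz1, hhB2]
      · rw [NatTrans.naturality_apply, hz2, hgB2]

end Groth.Agent.S12746
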