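import Groth.Statements.S12747
import Groth.Agent.Lib.helper6.ArtSmooth

set_option autoImplicit false
universe u v
open CategoryTheory
open ArtFun

namespace Groth.Agent.S12747

/-- For functors, let H₁ → G, H₂ → G and q : G → F be morphisms of functors on Artinian local Λ-algebras
with residue field k where F and G are deformation functors (value at k a point, condition (RS)) and
q is injective on tangent spaces. Then the induced morphism H₁ ×_G H₂ → H₁ ×_F H₂ is smooth. (The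
published statement also assumes that infinitesimal automorphisms of G map onto those of F; for
functors that condition is empty.) -/
theorem result {Λ : Type u} {k : Type u} [CommRing Λ] [Field k] [Algebra Λ k]
    [IsNoetherianRing Λ] [Module.Finite Λ k]
    {F G H₁ H₂ : ArtFun.Art Λ k ⥤ Type v} (p₁ : H₁ ⟶ G) (p₂ : H₂ ⟶ G) (q : G ⟶ F)
    (hF0 : ArtFun.H0 F) (hF : (∀ ⦃B A A' A'' : ArtFun.Art Λ k⦄ (p' : B ⟶ A') (p'' : B ⟶ A'') (f' : A' ⟶ A) (f'' : A'' ⟶ A)
        (h : ArtFun.Art.IsFibreProd p' p'' f' f''), Function.Surjective f'' → Function.Bijective (ArtFun.cmp F h)))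
    (hG0 : ArtFun.H0 G) (hG : (∀ ⦃B A A' A'' : ArtFun.Art Λ k⦄ (p' : B ⟶ A') (p'' : B ⟶ A'') (f' : A' ⟶ A) (f'' : A'' ⟶ A)
        (h : ArtFun.Art.IsFibreProd p' p'' f' f''), Function.Surjective f'' → Function.Bijective (ArtFun.cmp G h)))
    (hq : Function.Injective (ArtFun.TangentSpace.map q)) :
    ArtFun.IsSmooth (CategoryTheory.Limits.pullback.map p₁ p₂ (p₁ ≫ q) (p₂ ≫ q) (𝟙 H₁) (𝟙 H₂) q
      (CategoryTheory.Category.id_comp _).symm (CategoryTheory.Category.id_comp _).symm) := by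
  set m := CategoryTheory.Limits.pullback.map p₁ p₂ (p₁ ≫ q) (p₂ ≫ q) (𝟙 H₁) (𝟙 H₂) q
      (CategoryTheory.Category.id_comp _).symm (CategoryTheory.Category.id_comp _).symm with hm
  have hm1 : m ≫ Limits.pullback.fst (p₁ ≫ q) (p₂ ≫ q) = Limits.pullback.fst p₁ p₂ := by
    rw [hm, Limits.pullback.map, Limits.pullback.lift_fst, Category.comp_id]
  have hm2 : m ≫ Limits.pullback.snd (p₁ ≫ q) (p₂ ≫ q) = Limits.pullback.snd p₁ p₂ := by
    rw [hm, Limits.pullback.map, Limits.pullback.lift_snd, Category.comp_id]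
  have pbX : ∀ X : ArtFun.Art Λ k, IsPullback ((Limits.pullback.fst p₁ p₂).app X)
      ((Limits.pullback.snd p₁ p₂).app X) (p₁.app X) (p₂.app X) := fun X =>
    (IsPullback.of_hasPullback p₁ p₂).map ((evaluation _ _).obj X)
  have pbY : ∀ X : ArtFun.Art Λ k, IsPullback ((Limits.pullback.fst (p₁ ≫ q) (p₂ ≫ q)).app X)
      ((Limits.pullback.snd (p₁ ≫ q) (p₂ ≫ q)).app X) ((p₁ ≫ q).app X) ((p₂ ≫ q).app X) := fun X =>
    (IsPullback.of_hasPullback (p₁ ≫ q) (p₂ ≫ q)).map ((evaluation _ _).obj X)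
  have hm1a : ∀ (X : ArtFun.Art Λ k) (x : (Limits.pullback p₁ p₂).obj X),
      (Limits.pullback.fst (p₁ ≫ q) (p₂ ≫ q)).app X (m.app X x) =
        (Limits.pullback.fst p₁ p₂).app X x := fun X x => by
    rw [← hm1]; rfl
  have hm2a : ∀ (X : ArtFun.Art Λ k) (x : (Limits.pullback p₁ p₂).obj X),
      (Limits.pullback.snd (p₁ ≫ q) (p₂ ≫ q)).app X (m.app X x) =
        (Limits.pullback.snd p₁ p₂).app X x := fun X x => by
    rw [← hm2]; rfl
  apply H6Art.isSmooth_of_smallExt
  intro B A μ hμ yy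
  obtain ⟨⟨x, y⟩, hxy⟩ := yy
  have hxy' : m.app A x = (Limits.pullback (p₁ ≫ q) (p₂ ≫ q)).map μ y := hxy
  set h₁' := (Limits.pullback.fst (p₁ ≫ q) (p₂ ≫ q)).app B y with hh₁'
  set h₂' := (Limits.pullback.snd (p₁ ≫ q) (p₂ ≫ q)).app B y with hh₂'
  have e1 : H₁.map μ h₁' = (Limits.pullback.fst p₁ p₂).app A x := by
    rw [hh₁', ← NatTrans.naturality_apply, ← hxy', hm1a]
  have e2 : H₂.map μ h₂' = (Limits.pullback.snd p₁ p₂).app A x := by
    rw [hh₂', ← NatTrans.naturality_apply, ← hxy', hm2a]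
  have hg : p₁.app B h₁' = p₂.app B h₂' := by
    refine H6Art.GNat.eq_of_smallExt (H6Art.GNat.ofNatTrans q)
      (fun _ _ _ _ p' p'' f' f'' h hs' => (hG p' p'' f' f'' h hs').2)
      (fun _ _ p' p'' h => (hG p' p'' _ _ h (ArtFun.Art.dual Λ k).res_surjective).1)
      (fun _ _ _ _ p' p'' f' f'' h hs' => (hF p' p'' f' f'' h hs').1)
      hq μ hμ _ _ ?_ ?_
    · rw [← NatTrans.naturality_apply p₁ μ h₁', ← NatTrans.naturality_apply p₂ μ h₂', e1, e2]
      exact ConcreteCategory.congr_hom (pbX A).w x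
    · exact ConcreteCategory.congr_hom (pbY B).w y
  obtain ⟨w, hw1, hw2⟩ := Limits.Types.exists_of_isPullback (pbX B) h₁' h₂' hg
  refine ⟨w, Subtype.ext (Prod.ext ?_ ?_)⟩
  · change (Limits.pullback p₁ p₂).map μ w = x
    apply Limits.Types.ext_of_isPullback (pbX A)
    · rw [NatTrans.naturality_apply, hw1, e1]
    · rw [NatTrans.naturality_apply, hw2, e2]
  · change m.app B w = y
    apply Limits.Types.ext_of_isPullback (pbY B)
    · rw [hm1a, hw1]
    · rw [hm2a, hw2]

end Groth.Agent.S12747
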