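import Groth.Statements.S12748
import Groth.Agent.Lib.helper6.RelPS

set_option autoImplicit false
universe u v
open CategoryTheory
open ArtFun ArtFun.CRing

namespace Groth.Agent.S12748

/-- Let R' → R be a morphism of complete local Noetherian Λ-algebras with residue field k with an
R'-algebra retraction ρ : R → R', so that R = R' ⊕ I for the ideal I = ker ρ; let x₁, …, x_r ∈ I map
to a basis of I/m_R I and let φ : R'[[X₁, …, X_r]] → R be an R'-algebra map sending X_i to x_i. If
for all large n the induced map R'[[X]]/m^n → R/m_R^n has a left inverse — a Λ-algebra map g_n : R →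
R'[[X]]/m^n with g_n ∘ φ equal to the quotient map — then φ is an isomorphism. -/
theorem result {Λ : Type u} {k : Type u} [CommRing Λ] [Field k] [Algebra Λ k]
    [IsNoetherianRing Λ] [Module.Finite Λ k]
    (R' R : ArtFun.CRing Λ k) [Algebra R'.carrier R.carrier] [IsScalarTower Λ R'.carrier R.carrier]
    (hc : R.res.comp (IsScalarTower.toAlgHom Λ R'.carrier R.carrier) = R'.res)
    (ρ : R.carrier →ₐ[R'.carrier] R'.carrier)
    (r : ℕ) (x : Fin r → R.carrier) (hxI : ∀ i, ρ (x i) = 0)
    (hspan : Ideal.span (Set.range x) ⊔ IsLocalRing.maximalIdeal R.carrier * RingHom.ker ρ = RingHom.ker ρ)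
    (hli : ∀ c : Fin r → R.carrier, (∑ i, c i * x i) ∈ IsLocalRing.maximalIdeal R.carrier * RingHom.ker ρ →
      ∀ i, c i ∈ IsLocalRing.maximalIdeal R.carrier)
    (φ : MvPowerSeries (Fin r) R'.carrier →ₐ[R'.carrier] R.carrier) (hφ : ∀ i, φ (MvPowerSeries.X i) = x i)
    (hinv : ∃ N : ℕ, ∀ n, N ≤ n →
      ∃ g : R.carrier →ₐ[Λ] (MvPowerSeries (Fin r) R'.carrier ⧸
          IsLocalRing.maximalIdeal (MvPowerSeries (Fin r) R'.carrier) ^ n),
        ∀ s, g (φ s) = Ideal.Quotient.mk _ s) :
    Function.Bijective φ := by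
  classical
  haveI : IsAdicComplete (IsLocalRing.maximalIdeal R'.carrier) R'.carrier := R'.isAdicComplete
  have hIne : RingHom.ker ρ ≠ ⊤ := RingHom.ker_ne_top ρ
  have hIle : RingHom.ker ρ ≤ IsLocalRing.maximalIdeal R.carrier := IsLocalRing.le_maximalIdeal hIne
  have hρalg : ∀ a : R'.carrier, ρ (algebraMap R'.carrier R.carrier a) = a := fun a => by
    rw [ρ.commutes]; rfl
  have hρm : ∀ y ∈ IsLocalRing.maximalIdeal R.carrier, ρ y ∈ IsLocalRing.maximalIdeal R'.carrier := by
    intro y hy
    rw [IsLocalRing.mem_maximalIdeal, mem_nonunits_iff]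
    intro hu
    have h1 : y - algebraMap R'.carrier R.carrier (ρ y) ∈ RingHom.ker ρ := by
      rw [RingHom.mem_ker, map_sub, hρalg, sub_self]
    have h2 : algebraMap R'.carrier R.carrier (ρ y) ∈ IsLocalRing.maximalIdeal R.carrier := by
      have := Ideal.sub_mem _ hy (hIle h1)
      rwa [sub_sub_cancel] at this
    exact (mem_nonunits_iff.1 ((IsLocalRing.mem_maximalIdeal _).1 h2))
      (hu.map (algebraMap R'.carrier R.carrier))
  have hxm : ∀ i, φ (MvPowerSeries.X i) ∈ IsLocalRing.maximalIdeal R.carrier := fun i => by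
    rw [hφ]
    exact hIle (RingHom.mem_ker.2 (hxI i))
  constructor
  · -- injectivity from the left inverses
    obtain ⟨N, hN⟩ := hinv
    intro s s' hss
    haveI : IsPrecomplete (IsLocalRing.maximalIdeal (MvPowerSeries (Fin r) R'.carrier))
        (MvPowerSeries (Fin r) R'.carrier) := H6PS.isPrecomplete
    have hH : IsHausdorff (IsLocalRing.maximalIdeal (MvPowerSeries (Fin r) R'.carrier))
        (MvPowerSeries (Fin r) R'.carrier) := (H6Rel.psOver R' r).isAdicComplete.toIsHausdorff
    rw [IsHausdorff.eq_iff_smodEq (I := IsLocalRing.maximalIdeal (MvPowerSeries (Fin r) R'.carrier))]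
    intro m
    rw [SModEq.sub_mem, smul_eq_mul, Ideal.mul_top]
    obtain ⟨g, hg⟩ := hN (max m N) (le_max_right _ _)
    have h1 : Ideal.Quotient.mk (IsLocalRing.maximalIdeal (MvPowerSeries (Fin r) R'.carrier) ^ max m N) s =
        Ideal.Quotient.mk _ s' := by
      rw [← hg s, ← hg s', hss]
    exact Ideal.pow_le_pow_right (le_max_left _ _) (Ideal.Quotient.eq.1 h1)
  · -- surjectivity from the cotangent space
    apply H6Rel.surjective_of_le R' R hc φ hxm
    intro y hy
    have h1 : y - algebraMap R'.carrier R.carrier (ρ y) ∈ RingHom.ker ρ := by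
      rw [RingHom.mem_ker, map_sub, hρalg, sub_self]
    have h2 : algebraMap R'.carrier R.carrier (ρ y) ∈
        Ideal.map φ (IsLocalRing.maximalIdeal (MvPowerSeries (Fin r) R'.carrier)) := by
      have : algebraMap R'.carrier R.carrier (ρ y) = φ (MvPowerSeries.C (ρ y)) := by
        rw [H6PS.C_eq_algebraMap, φ.commutes]
      rw [this]
      exact Ideal.mem_map_of_mem φ (H6Rel.C_mem R' r (hρm y hy))
    have h3 : RingHom.ker ρ ≤
        Ideal.map φ (IsLocalRing.maximalIdeal (MvPowerSeries (Fin r) R'.carrier)) ⊔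
          IsLocalRing.maximalIdeal R.carrier ^ 2 := by
      rw [← hspan]
      refine sup_le ?_ ?_
      · refine le_trans ?_ le_sup_left
        rw [Ideal.span_le]
        rintro _ ⟨i, rfl⟩
        rw [← hφ i]
        exact Ideal.mem_map_of_mem φ (H6Rel.X_mem R' r i)
      · refine le_trans ?_ le_sup_right
        rw [pow_two]
        exact Ideal.mul_mono_right hIle
    have h4 : y = algebraMap R'.carrier R.carrier (ρ y) + (y - algebraMap R'.carrier R.carrier (ρ y)) := by
      ring
    rw [h4]
    exact Ideal.add_mem _ (Ideal.mem_sup_left h2) (h3 h1)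

end Groth.Agent.S12748
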