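import Groth.Statements.S12758
import Groth.Agent.Lib.helper6.ArtMinVersal
import Groth.Agent.Lib.helper6.ArtVersal

set_option autoImplicit false
universe u v
open CategoryTheory
open ArtFun

namespace Groth.Agent.S12758

/-- For functors, two minimal versal families of a functor F on Artinian local Λ-algebras with residue
field k with F(k) a point — over complete local Noetherian coefficient rings R₁, R₂ with residue
field k — are isomorphic: there is an isomorphism R₁ ≅ R₂ over Λ, compatible with the augmentations,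
along which the formal element of the first family pushes forward to that of the second. -/
theorem result {Λ : Type u} {k : Type u} [CommRing Λ] [Field k] [Algebra Λ k]
    [IsNoetherianRing Λ] [Module.Finite Λ k]
    {F : ArtFun.Art Λ k ⥤ Type v} (h0 : ArtFun.H0 F) {R₁ R₂ : ArtFun.CRing Λ k}
    (ξ₁ : ArtFun.Family R₁.carrier R₁.res F) (ξ₂ : ArtFun.Family R₂.carrier R₂.res F)
    (h₁ : ξ₁.IsMinimalVersal) (h₂ : ξ₂.IsMinimalVersal) :
    ∃ (e : R₁.carrier ≃ₐ[Λ] R₂.carrier) (he : R₂.res.comp (e : R₁.carrier →ₐ[Λ] R₂.carrier) = R₁.res),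
      (ξ₁.along (e : R₁.carrier →ₐ[Λ] R₂.carrier) he).toFormalElt = ξ₂.toFormalElt := by
  have hs₁ := H6Art.surjective_app_of_isVersal_of_h0 ξ₁ h₁.1 h0
  have hs₂ := H6Art.surjective_app_of_isVersal_of_h0 ξ₂ h₂.1 h0
  obtain ⟨g, hg, hgξ⟩ := H6Art.exists_along_toFormalElt_eq R₁ ξ₁ h₁.1 R₂ ξ₂.toFormalElt (hs₁ _ _)
  obtain ⟨h, hh, hhξ⟩ := H6Art.exists_along_toFormalElt_eq R₂ ξ₂ h₂.1 R₁ ξ₁.toFormalElt (hs₂ _ _)
  have hgs : Function.Surjective g := by
    apply h₂.2 R₁ ξ₁.toFormalElt g hg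
    rw [← H6Art.toFormalElt_along]; exact hgξ
  have hhs : Function.Surjective h := by
    apply h₁.2 R₂ ξ₂.toFormalElt h hh
    rw [← H6Art.toFormalElt_along]; exact hhξ
  have hinj : Function.Injective ((h : R₂.carrier →+* R₁.carrier).comp (g : R₁.carrier →+* R₂.carrier)) :=
    H6Loc.injective_of_surjective_ringEnd _ (hhs.comp hgs)
  have hgi : Function.Injective g := by
    intro a b hab
    apply hinj
    change h (g a) = h (g b)
    rw [hab]
  have hb : Function.Bijective g := ⟨hgi, hgs⟩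
  have key : ∀ (g' : R₁.carrier →ₐ[Λ] R₂.carrier), g' = g → ∀ hg' : R₂.res.comp g' = R₁.res,
      (ξ₁.along g' hg').toFormalElt = ξ₂.toFormalElt := by
    intro g' e hg'; subst e; exact hgξ
  have hcoe : ((AlgEquiv.ofBijective g hb : R₁.carrier ≃ₐ[Λ] R₂.carrier) : R₁.carrier →ₐ[Λ] R₂.carrier) = g :=
    AlgHom.ext fun _ => rfl
  refine ⟨AlgEquiv.ofBijective g hb, ?_, ?_⟩
  · rw [hcoe]; exact hg
  · exact key _ hcoe _

end Groth.Agent.S12758
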