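import Groth.Statements.S12793
import Mathlib
import Groth.Agent.S11728
import Groth.Agent.Lib.helper3.FibEquiv2
import Groth.Agent.Lib.helper3.FibGrpd


set_option autoImplicit false
open CategoryTheory
universe w v u
open Stk

namespace Groth.Agent.S12793

section helpers

variable {C : Type u} [Category.{v} C]

/-- postcomposition with an equivalence over `C` is an equivalence of categories of functors -/
lemma pc_isEquivalence (𝒜 : BasedCategory.{v, max u v} C) {𝒳 𝒴 : BasedCategory.{v, max u v} C}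
    (F : 𝒳 ⥤ᵇ 𝒴) (hF : FibCat.IsEquivOver F) :
    (Bicategory.postcomp 𝒜 (show 𝒳 ⟶ 𝒴 from F)).IsEquivalence := by
  obtain ⟨G, ⟨e1⟩, ⟨e2⟩⟩ := hF
  let F' : 𝒳 ⟶ 𝒴 := F
  let G' : 𝒴 ⟶ 𝒳 := G
  have e1' : F' ≫ G' ≅ 𝟙 𝒳 := e1
  have e2' : G' ≫ F' ≅ 𝟙 𝒴 := e2
  let η : Bicategory.postcomp 𝒜 F' ⋙ Bicategory.postcomp 𝒜 G' ≅ 𝟭 _ :=
    Bicategory.associatorNatIsoLeft 𝒜 F' G' ≪≫
      (Bicategory.postcomposing 𝒜 𝒳 𝒳).mapIso e1' ≪≫ Bicategory.rightUnitorNatIso 𝒜 𝒳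
  let ε : Bicategory.postcomp 𝒜 G' ⋙ Bicategory.postcomp 𝒜 F' ≅ 𝟭 _ :=
    Bicategory.associatorNatIsoLeft 𝒜 G' F' ≪≫
      (Bicategory.postcomposing 𝒜 𝒴 𝒴).mapIso e2' ≪≫ Bicategory.rightUnitorNatIso 𝒜 𝒴
  exact (CategoryTheory.Equivalence.mk (Bicategory.postcomp 𝒜 F') (Bicategory.postcomp 𝒜 G')
    η.symm ε).isEquivalence_functor

/-- restriction commutes with postcomposition -/
def sq_iso {𝒜 ℬ 𝒳 𝒴 : BasedCategory.{v, max u v} C} (ι : 𝒜 ⥤ᵇ ℬ) (F : 𝒳 ⥤ᵇ 𝒴) :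
    Stk.restr ι 𝒳 ⋙ Bicategory.postcomp 𝒜 (show 𝒳 ⟶ 𝒴 from F) ≅
      Bicategory.postcomp ℬ (show 𝒳 ⟶ 𝒴 from F) ⋙ Stk.restr ι 𝒴 :=
  NatIso.ofComponents (fun G => Iso.refl _) (fun {G H} α => by
    dsimp only [Iso.refl_hom]
    erw [Category.comp_id, Category.id_comp]
    rfl)

/-- being a stack transfers backwards along an equivalence over `C` -/
lemma stack_of_equiv (J : GrothendieckTopology C) {𝒳 𝒴 : BasedCategory.{v, max u v} C}
    (F : 𝒳 ⥤ᵇ 𝒴) (hF : FibCat.IsEquivOver F) (h : Stk.IsStack J 𝒴) : Stk.IsStack J 𝒳 := by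
  obtain ⟨hg, hs⟩ := h
  haveI := Groth.Agent.Helper3.isEquivalence_of_isEquivOver F hF
  haveI : 𝒴.p.IsFibered := Groth.Agent.Helper3.IsFibGrpd.isFibered (hp := hg) 𝒴.p
  haveI : 𝒳.p.IsFibered :=
    (Groth.Agent.Helper3.isFibered_iff_of_isEquivOver F hF).mpr inferInstance
  refine ⟨Groth.Agent.S11728.fibgrpd_of_ff F hg, ?_⟩
  intro U R hR
  haveI h𝒴 : (Stk.resSieve R 𝒴).IsEquivalence := hs R hR
  haveI := pc_isEquivalence (Stk.sieveCat R) F hF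
  haveI := pc_isEquivalence (FibCat.overCat U) F hF
  haveI : (Bicategory.postcomp (FibCat.overCat U) (show 𝒳 ⟶ 𝒴 from F) ⋙
      Stk.resSieve R 𝒴).IsEquivalence := inferInstance
  haveI : (Stk.resSieve R 𝒳 ⋙
      Bicategory.postcomp (Stk.sieveCat R) (show 𝒳 ⟶ 𝒴 from F)).IsEquivalence :=
    Functor.isEquivalence_of_iso (sq_iso (Stk.sieveIncl R) F).symm
  exact Functor.isEquivalence_of_comp_right (Stk.resSieve R 𝒳)
    (Bicategory.postcomp (Stk.sieveCat R) (show 𝒳 ⟶ 𝒴 from F))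

end helpers


/-- If two categories over `C` are equivalent in the 2-category of categories over `C`, then one is a
stack in groupoids for the topology `J` if and only if the other is. -/
theorem result {C : Type u} [Category.{v} C] (J : GrothendieckTopology C) {𝒳 𝒴 : BasedCategory.{v, max u v} C}
    (F : 𝒳 ⥤ᵇ 𝒴) (hF : FibCat.IsEquivOver F) : Stk.IsStack J 𝒳 ↔ Stk.IsStack J 𝒴 := by
  constructor
  · intro h
    obtain ⟨G, hG⟩ := Groth.Agent.Helper3.isEquivOver_symm F hF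
    exact stack_of_equiv J G hG h
  · exact stack_of_equiv J F hF

end Groth.Agent.S12793
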