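import Groth.Statements.S12800
import Mathlib
import Groth.Agent.S6401


set_option autoImplicit false
open CategoryTheory
universe v u
open FibCat

namespace Groth.Agent.S12800

/-- For categories `𝒮`, `𝒯` fibred in groupoids over `C`, a category `ℛ` fibred in setoids over `C`, a
functor `f : 𝒯 ⟶ 𝒮` over `C` with faithful underlying functor and a functor `g : ℛ ⟶ 𝒮` over `C`,
the 2-fibre product `𝒯 ×_𝒮 ℛ` over `C` is fibred in setoids. (The published statement takes stacks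
in groupoids over a site and concludes a stack in setoids; the stack property of the 2-fibre product
is the separate result on 2-fibre products of stacks in groupoids, and the setoid property stated
here needs no topology.) -/
theorem result {C : Type u} [Category.{v} C] {𝒮 𝒯 ℛ : BasedCategory.{v, max u v} C}
    (h𝒮 : FibCat.IsFibGrpd 𝒮.p) (h𝒯 : FibCat.IsFibGrpd 𝒯.p) (hℛ : FibCat.IsFibSetoid ℛ.p) (f : 𝒯 ⥤ᵇ 𝒮) [f.toFunctor.Faithful] (g : ℛ ⥤ᵇ 𝒮) :
    FibCat.IsFibSetoid (FibCat.fp f g).p := by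
  refine ⟨Groth.Agent.S6401.result f g h𝒯 hℛ.1 h𝒮, ?_⟩
  intro U
  rintro ⟨X, hX⟩ ⟨Y, hY⟩
  constructor
  rintro ⟨m₁, hm₁⟩ ⟨m₂, hm₂⟩
  have hs₁ : ℛ.p.IsHomLift (𝟙 U) m₁.hom.snd :=
    Groth.Agent.Helper3.fp_isHomLift_snd f g (𝟙 U) m₁
  have hs₂ : ℛ.p.IsHomLift (𝟙 U) m₂.hom.snd :=
    Groth.Agent.Helper3.fp_isHomLift_snd f g (𝟙 U) m₂
  have dX : ℛ.p.obj X.obj.snd = U := IsHomLift.domain_eq ℛ.p (𝟙 U) m₁.hom.snd
  have dY : ℛ.p.obj Y.obj.snd = U := IsHomLift.codomain_eq ℛ.p (𝟙 U) m₁.hom.snd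
  have h5 : @Eq ((Functor.Fiber.mk dX : ℛ.p.Fiber U) ⟶ Functor.Fiber.mk dY)
      ⟨m₁.hom.snd, hs₁⟩ ⟨m₂.hom.snd, hs₂⟩ :=
    @Subsingleton.elim _ (hℛ.2 U _ _) _ _
  have hsnd : m₁.hom.snd = m₂.hom.snd := congrArg Subtype.val h5
  have hfst : m₁.hom.fst = m₂.hom.fst := by
    apply f.toFunctor.map_injective
    rw [← cancel_mono Y.obj.iso.hom]
    have w1 := m₁.hom.w
    have w2 := m₂.hom.w
    rw [hsnd] at w1
    exact w1.trans w2.symm
  exact Subtype.ext (Groth.Agent.Helper3.fp_hom_ext f g hfst hsnd)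

end Groth.Agent.S12800
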