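import Groth.Statements.S12802
import Mathlib
import Groth.Agent.S12803
import Groth.Agent.S12801
import Groth.Agent.Lib.helper3.FibGrpd


set_option autoImplicit false
open CategoryTheory
universe v u
open Stk

namespace Groth.Agent.S12802

/-- Let `F : 𝒳 ⟶ 𝒴` be a functor over `C` between categories fibred in groupoids over `C` and endow `𝒳`
and `𝒴` with the topologies inherited from the topology `J` on `C` (generated by the sieves whose
image in `C` covers). Then `F` maps covering sieves to families generating covering sieves, lifts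
coverings (it is cocontinuous), and precomposition with `F` sends sheaves of types on `𝒴` to sheaves
on `𝒳` (it is continuous). (The published statement is for a 1-morphism of fibred categories with
the inherited topologies; this row is the case of categories fibred in groupoids, and the published
statement phrases continuity through the fibre products of covering families and deduces a morphism
of topoi whose inverse image is precomposition with `F`, which is not stated here.) -/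
theorem result {C : Type u} [Category.{v} C] (J : GrothendieckTopology C) {𝒳 𝒴 : BasedCategory.{v, max u v} C}
    (h𝒳 : FibCat.IsFibGrpd 𝒳.p) (h𝒴 : FibCat.IsFibGrpd 𝒴.p) (F : 𝒳 ⥤ᵇ 𝒴) :
    CoverPreserving (𝒳.p.restrictedTopology J) (𝒴.p.restrictedTopology J) F.toFunctor ∧
      F.toFunctor.IsCocontinuous (𝒳.p.restrictedTopology J) (𝒴.p.restrictedTopology J) ∧
      F.toFunctor.IsContinuous (𝒳.p.restrictedTopology J) (𝒴.p.restrictedTopology J) := by
  rw [← F.w] at h𝒳 ⊢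
  have hq := h𝒳
  have hcp : CoverPreserving ((F.toFunctor ⋙ 𝒴.p).restrictedTopology J)
      (𝒴.p.restrictedTopology J) F.toFunctor := by
    refine ⟨fun {U S} hS => ?_⟩
    rw [Groth.Agent.S12801.result (F.toFunctor ⋙ 𝒴.p) hq J] at hS
    rw [Groth.Agent.S12801.result 𝒴.p h𝒴 J, ← Sieve.functorPushforward_comp]
    exact hS
  have hcc : F.toFunctor.IsCocontinuous ((F.toFunctor ⋙ 𝒴.p).restrictedTopology J)
      (𝒴.p.restrictedTopology J) := by
    refine ⟨fun {U S} hS => ?_⟩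
    rw [Groth.Agent.S12801.result 𝒴.p h𝒴 J] at hS
    rw [Groth.Agent.S12801.result (F.toFunctor ⋙ 𝒴.p) hq J]
    refine J.superset_covering ?_ hS
    intro V g hg
    obtain ⟨w, s, k, hs, hk⟩ := hg
    obtain ⟨x', κ, hκ⟩ := hq.exists_lift (x := U) g
    have hx' : (F.toFunctor ⋙ 𝒴.p).obj x' = V := IsHomLift.domain_eq (F.toFunctor ⋙ 𝒴.p) g κ
    subst hx'
    have hgκ : g = (F.toFunctor ⋙ 𝒴.p).map κ :=
      IsHomLift.eq_of_isHomLift (F.toFunctor ⋙ 𝒴.p) g κ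
    obtain ⟨χ, hχc, -⟩ := Groth.Agent.S12803.full_core 𝒴.p h𝒴 (F.toFunctor.map κ) s k
      (hk.symm.trans hgκ)
    refine ⟨x', κ, 𝟙 _, ?_, ?_⟩
    · show S (F.toFunctor.map κ)
      rw [← hχc]; exact S.downward_closed hs χ
    · rw [Category.id_comp]; exact hgκ
  refine ⟨hcp, hcc, Functor.isContinuous_of_coverPreserving ?_ hcp⟩
  refine ⟨fun ℱ {Z T x} hx {Y₁ Y₂ X} f₁ f₂ {g₁ g₂} hg₁ hg₂ eq => ?_⟩
  obtain ⟨W₁, κ₁, hκ₁⟩ := hq.exists_lift (x := Y₁) (𝒴.p.map f₁)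
  have hd : (F.toFunctor ⋙ 𝒴.p).obj W₁ = 𝒴.p.obj X :=
    IsHomLift.domain_eq (F.toFunctor ⋙ 𝒴.p) (𝒴.p.map f₁) κ₁
  have hmap : eqToHom hd ≫ 𝒴.p.map f₁ = 𝒴.p.map (F.toFunctor.map κ₁) := by
    have := IsHomLift.fac' (F.toFunctor ⋙ 𝒴.p) (𝒴.p.map f₁) κ₁
    rw [show 𝒴.p.map (F.toFunctor.map κ₁) = (F.toFunctor ⋙ 𝒴.p).map κ₁ from rfl, this]; simp
  obtain ⟨θ, hθc, hθ⟩ := Groth.Agent.S12803.full_core 𝒴.p h𝒴 (F.toFunctor.map κ₁) f₁
    (eqToHom hd) hmap
  haveI : 𝒴.p.IsHomLift (eqToHom hd) θ := by rw [← hθ]; infer_instance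
  haveI : IsIso θ :=
    Groth.Agent.Helper3.IsFibGrpd.isIso_of_isHomLift_isIso (hp := h𝒴) 𝒴.p (eqToHom hd) θ
  have e2 : (θ ≫ f₂) ≫ F.toFunctor.map g₂ = F.toFunctor.map (κ₁ ≫ g₁) := by
    rw [Category.assoc, ← eq, ← Category.assoc, hθc, Functor.map_comp]
  have hw : 𝒴.p.map (θ ≫ f₂) ≫ (F.toFunctor ⋙ 𝒴.p).map g₂ =
      (F.toFunctor ⋙ 𝒴.p).map (κ₁ ≫ g₁) := by
    show 𝒴.p.map (θ ≫ f₂) ≫ 𝒴.p.map (F.toFunctor.map g₂) =
      𝒴.p.map (F.toFunctor.map (κ₁ ≫ g₁))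
    rw [← 𝒴.p.map_comp, e2]
  obtain ⟨h₂, hh₂c, hh₂⟩ := Groth.Agent.S12803.full_core (F.toFunctor ⋙ 𝒴.p) hq (κ₁ ≫ g₁) g₂
    (𝒴.p.map (θ ≫ f₂)) hw
  have hFh₂ : F.toFunctor.map h₂ = θ ≫ f₂ :=
    Groth.Agent.S12803.faith_core 𝒴.p h𝒴 (F.toFunctor.map (κ₁ ≫ g₁)) (F.toFunctor.map g₂)
      (F.toFunctor.map h₂) (θ ≫ f₂) (by rw [← Functor.map_comp, hh₂c]) e2 hh₂
  have hc := hx κ₁ h₂ hg₁ hg₂ hh₂c.symm
  have hc' : ℱ.obj.map (θ ≫ f₁).op (x g₁ hg₁) = ℱ.obj.map (θ ≫ f₂).op (x g₂ hg₂) := by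
    rw [hθc, ← hFh₂]; exact hc
  rw [op_comp, op_comp, FunctorToTypes.map_comp_apply, FunctorToTypes.map_comp_apply] at hc'
  have := congrArg (ℱ.obj.map (inv θ).op) hc'
  simpa [← FunctorToTypes.map_comp_apply, ← op_comp] using this

end Groth.Agent.S12802
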