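import Groth.Statements.S12806
import Mathlib
import Groth.Agent.Lib.helper3.FibFp2


set_option autoImplicit false
open CategoryTheory
universe v u
open FibCat

namespace Groth.Agent.S12806

lemma id_fibgrpd {C : Type u} [Category.{v} C] : FibCat.IsFibGrpd (𝟭 C) := by
  refine ⟨fun {x V} f => ⟨V, f, IsHomLift.map (𝟭 C) f⟩, fun {y x} φ => ?_⟩
  refine { toIsHomLift := inferInstance, universal_property' := ?_ }
  intro a' g φ' hφ'
  have h1 : g ≫ φ = φ' := IsHomLift.eq_of_isHomLift (𝟭 C) (g ≫ (𝟭 C).map φ) φ'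
  refine ⟨g, ⟨IsHomLift.map (𝟭 C) g, h1⟩, ?_⟩
  rintro χ ⟨hχ, -⟩
  exact (IsHomLift.eq_of_isHomLift (𝟭 C) g χ).symm


/-- Let `𝒮` be fibred in groupoids over `C`, `U` an object of `C` and `x, y : C/U ⟶ 𝒮` two functors over
`C` (objects over `U` in 2-Yoneda form), with `e` the 2-isomorphism identifying their composites
with the structure functor. Then the 2-fibre product over `C` of `(x, y) : C/U ⟶ 𝒮 ×_C 𝒮` with the
diagonal `𝒮 ⟶ 𝒮 ×_C 𝒮` is fibred in setoids over `C/U` through its first projection. (The published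
statement is for a fibred category with `x`, `y` the functors given by chosen pullbacks; this row is
the case of a category fibred in groupoids, where every functor over `C` out of `C/U` is of that
kind.) -/
theorem result {C : Type u} [Category.{v} C] {𝒮 : BasedCategory.{v, max u v} C} (h𝒮 : FibCat.IsFibGrpd 𝒮.p)
    (U : C) (x y : FibCat.overCat U ⥤ᵇ 𝒮)
    (e : BasedFunctor.comp x (FibCat.toSelf 𝒮) ≅ BasedFunctor.comp y (FibCat.toSelf 𝒮)) :
    FibCat.IsFibSetoid (FibCat.fpFst (FibCat.fpLift x y e) (FibCat.diag (FibCat.toSelf 𝒮))).toFunctor := by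
  have hP : FibCat.IsFibGrpd (FibCat.fp (FibCat.toSelf 𝒮) (FibCat.toSelf 𝒮)).p :=
    Groth.Agent.Helper3.fp_isFibGrpd (FibCat.toSelf 𝒮) (FibCat.toSelf 𝒮) h𝒮 h𝒮 id_fibgrpd
  refine ⟨Groth.Agent.Helper3.fpFst_isFibGrpd (FibCat.fpLift x y e)
    (FibCat.diag (FibCat.toSelf 𝒮)) (Groth.Agent.Helper3.over_forget_isFibGrpd U) h𝒮 hP, ?_⟩
  intro a
  rintro ⟨X, hX⟩ ⟨Y, hY⟩
  constructor
  rintro ⟨m₁, hm₁⟩ ⟨m₂, hm₂⟩
  have hfst : m₁.hom.fst = m₂.hom.fst :=
    (IsHomLift.fac' (FibCat.fpFst (FibCat.fpLift x y e)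
      (FibCat.diag (FibCat.toSelf 𝒮))).toFunctor (𝟙 a) m₁).trans
    (IsHomLift.fac' (FibCat.fpFst (FibCat.fpLift x y e)
      (FibCat.diag (FibCat.toSelf 𝒮))).toFunctor (𝟙 a) m₂).symm
  have hd : (FibCat.diag (FibCat.toSelf 𝒮)).toFunctor.map m₁.hom.snd =
      (FibCat.diag (FibCat.toSelf 𝒮)).toFunctor.map m₂.hom.snd := by
    rw [← cancel_epi X.obj.iso.hom, ← m₁.hom.w, ← m₂.hom.w, hfst]
  have hsnd : m₁.hom.snd = m₂.hom.snd := congrArg (fun z => z.hom.fst) hd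
  exact Subtype.ext (Groth.Agent.Helper3.fp_hom_ext _ _ hfst hsnd)

end Groth.Agent.S12806
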