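import Groth.Statements.S12807
import Mathlib


set_option autoImplicit false
open CategoryTheory CategoryTheory.Limits
universe v₃ u₃ v₂ u₂ v u
open FibCat

namespace Groth.Agent.S12807

/-- Let `u : C ⥤ D` be a functor and `𝒮` a category over `D` whose structure functor is a fibred
category. Then the 2-fibre product `C ×_D 𝒮` of `u` and the structure functor (triples `(U, y, u U ≅
p y)`), with its first projection, is a fibred category over `C`. (The published statement uses the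
strict fibre product, pairs with `u U = p y`; for `𝒮` fibred over `D` it is equivalent over `C` to
the 2-fibre product used here.) -/
theorem result {C : Type u} [Category.{v} C] {D : Type u₂} [Category.{v₂} D] (u : C ⥤ D)
    (𝒮 : BasedCategory.{v₃, u₃} D) [𝒮.p.IsFibered] :
    (CategoricalPullback.π₁ u 𝒮.p).IsFibered := by
  refine Functor.IsFibered.of_exists_isStronglyCartesian ?_
  intro a R f
  change R ⟶ a.fst at f
  obtain ⟨y', ψ, hψ⟩ := Functor.IsPreFibered.exists_isCartesian' (p := 𝒮.p) (a := a.snd)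
    (u.map f ≫ a.iso.hom)
  haveI hsc : 𝒮.p.IsStronglyCartesian (u.map f ≫ a.iso.hom) ψ := inferInstance
  have hy' : 𝒮.p.obj y' = u.obj R := IsHomLift.domain_eq 𝒮.p (u.map f ≫ a.iso.hom) ψ
  have hψm : 𝒮.p.map ψ = eqToHom hy' ≫ u.map f ≫ a.iso.hom := by
    rw [IsHomLift.fac' 𝒮.p (u.map f ≫ a.iso.hom) ψ]; simp
  have hw : u.map f ≫ a.iso.hom = (eqToIso hy'.symm).hom ≫ 𝒮.p.map ψ := by
    rw [hψm]; simp
  refine ⟨⟨R, y', eqToIso hy'.symm⟩, ⟨f, ψ, hw⟩, ?_⟩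
  refine { toIsHomLift := ?_, universal_property' := ?_ }
  · exact IsHomLift.map (CategoricalPullback.π₁ u 𝒮.p)
      (⟨f, ψ, hw⟩ : (⟨R, y', eqToIso hy'.symm⟩ : CategoricalPullback u 𝒮.p) ⟶ a)
  · intro c h φ' hφ'
    change c.fst ⟶ R at h
    have hfst : h ≫ f = φ'.fst :=
      @IsHomLift.eq_of_isHomLift _ _ _ _ (CategoricalPullback.π₁ u 𝒮.p) _ _ (h ≫ f) φ' hφ'
    have hsnd : 𝒮.p.map φ'.snd = (c.iso.inv ≫ u.map h) ≫ (u.map f ≫ a.iso.hom) := by
      rw [← cancel_epi c.iso.hom, ← φ'.w, ← hfst]; simp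
    haveI : 𝒮.p.IsHomLift ((c.iso.inv ≫ u.map h) ≫ (u.map f ≫ a.iso.hom)) φ'.snd := by
      rw [← hsnd]; infer_instance
    obtain ⟨σ, hσl, hσc⟩ : ∃ σ : c.snd ⟶ y',
        𝒮.p.IsHomLift (c.iso.inv ≫ u.map h) σ ∧ σ ≫ ψ = φ'.snd :=
      ⟨Functor.IsStronglyCartesian.map 𝒮.p (u.map f ≫ a.iso.hom) ψ
          (g := c.iso.inv ≫ u.map h) rfl φ'.snd, inferInstance,
        Functor.IsStronglyCartesian.fac _ _ _ _ _⟩
    have hσm : 𝒮.p.map σ = (c.iso.inv ≫ u.map h) ≫ eqToHom hy'.symm := by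
      rw [IsHomLift.fac' 𝒮.p (c.iso.inv ≫ u.map h) σ]; simp
    have hwχ : u.map h ≫ (eqToIso hy'.symm).hom = c.iso.hom ≫ 𝒮.p.map σ := by
      rw [hσm]; simp
    refine ⟨⟨h, σ, hwχ⟩, ⟨?_, ?_⟩, ?_⟩
    · exact IsHomLift.map (CategoricalPullback.π₁ u 𝒮.p)
        (⟨h, σ, hwχ⟩ : c ⟶ (⟨R, y', eqToIso hy'.symm⟩ : CategoricalPullback u 𝒮.p))
    · exact CategoricalPullback.hom_ext hfst hσc
    · rintro χ' ⟨hχ'l, hχ'c⟩
      have h1 : h = χ'.fst := @IsHomLift.eq_of_isHomLift _ _ _ _ (CategoricalPullback.π₁ u 𝒮.p) c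
        ⟨R, y', eqToIso hy'.symm⟩ h χ' hχ'l
      have h2 : χ'.snd ≫ ψ = φ'.snd := congrArg CategoricalPullback.Hom.snd hχ'c
      have h3 : 𝒮.p.map χ'.snd = (c.iso.inv ≫ u.map h) ≫ eqToHom hy'.symm := by
        have hw' := χ'.w
        rw [← h1] at hw'
        rw [← cancel_epi c.iso.hom, ← hw']
        simp
      haveI : 𝒮.p.IsHomLift (c.iso.inv ≫ u.map h) χ'.snd :=
        IsHomLift.of_fac' 𝒮.p _ χ'.snd rfl hy' (by rw [h3]; simp)
      have e1 := Functor.IsStronglyCartesian.map_uniq 𝒮.p (u.map f ≫ a.iso.hom) ψ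
        (g := c.iso.inv ≫ u.map h) rfl φ'.snd σ hσc
      have e2 := Functor.IsStronglyCartesian.map_uniq 𝒮.p (u.map f ≫ a.iso.hom) ψ
        (g := c.iso.inv ≫ u.map h) rfl φ'.snd χ'.snd h2
      exact CategoricalPullback.hom_ext h1.symm (e2.trans e1.symm)

end Groth.Agent.S12807
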