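import Groth.Statements.S12810
import Mathlib
import Groth.Agent.S12793


set_option autoImplicit false
open CategoryTheory
universe v u
open Stk

namespace Groth.Agent.S12810

lemma setoid_of_equiv {C : Type u} [Category.{v} C] {𝒳 𝒴 : BasedCategory.{v, max u v} C}
    (F : 𝒳 ⥤ᵇ 𝒴) (hF : FibCat.IsEquivOver F) (h : FibCat.IsFibSetoid 𝒴.p) :
    FibCat.IsFibSetoid 𝒳.p := by
  obtain ⟨hg, ht⟩ := h
  haveI := Groth.Agent.Helper3.isEquivalence_of_isEquivOver F hF
  haveI : 𝒴.p.IsFibered := Groth.Agent.Helper3.IsFibGrpd.isFibered (hp := hg) 𝒴.p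
  haveI : 𝒳.p.IsFibered :=
    (Groth.Agent.Helper3.isFibered_iff_of_isEquivOver F hF).mpr inferInstance
  refine ⟨Groth.Agent.S11728.fibgrpd_of_ff F hg, ?_⟩
  intro U
  rintro ⟨x, hx⟩ ⟨y, hy⟩
  constructor
  rintro ⟨a, ha⟩ ⟨b, hb⟩
  have ha' : 𝒴.p.IsHomLift (𝟙 U) (F.toFunctor.map a) := inferInstance
  have hb' : 𝒴.p.IsHomLift (𝟙 U) (F.toFunctor.map b) := inferInstance
  have hxG : 𝒴.p.obj (F.toFunctor.obj x) = U := (F.w_obj x).trans hx
  have hyG : 𝒴.p.obj (F.toFunctor.obj y) = U := (F.w_obj y).trans hy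
  have h5 : @Eq ((Functor.Fiber.mk hxG : 𝒴.p.Fiber U) ⟶ Functor.Fiber.mk hyG)
      ⟨F.toFunctor.map a, ha'⟩ ⟨F.toFunctor.map b, hb'⟩ :=
    @Subsingleton.elim _ (ht U _ _) _ _
  have h6 : F.toFunctor.map a = F.toFunctor.map b := congrArg Subtype.val h5
  exact Subtype.ext (F.toFunctor.map_injective h6)


/-- If two categories over `C` are equivalent in the 2-category of categories over `C`, then one is a
stack in setoids for the topology `J` (a stack in groupoids fibred in setoids) if and only if the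
other is. -/
theorem result {C : Type u} [Category.{v} C] (J : GrothendieckTopology C) {𝒳 𝒴 : BasedCategory.{v, max u v} C}
    (F : 𝒳 ⥤ᵇ 𝒴) (hF : FibCat.IsEquivOver F) :
    (Stk.IsStack J 𝒳 ∧ FibCat.IsFibSetoid 𝒳.p) ↔ (Stk.IsStack J 𝒴 ∧ FibCat.IsFibSetoid 𝒴.p) := by
  constructor
  · rintro ⟨h1, h2⟩
    obtain ⟨G, hG⟩ := Groth.Agent.Helper3.isEquivOver_symm F hF
    exact ⟨Groth.Agent.S12793.stack_of_equiv J G hG h1, setoid_of_equiv G hG h2⟩
  · rintro ⟨h1, h2⟩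
    exact ⟨Groth.Agent.S12793.stack_of_equiv J F hF h1, setoid_of_equiv F hF h2⟩

end Groth.Agent.S12810
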