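import Groth.Statements.S12816
import Mathlib
import Groth.Agent.Lib.helper3.FibYoneda
import Groth.Agent.Lib.helper3.FibFiber


set_option autoImplicit false
open CategoryTheory
universe v u
open Stk

namespace Groth.Agent.S12816

/-- Let `𝒳`, `𝒴` be fibred in groupoids over `C` and `F : 𝒳 ⟶ 𝒴` a functor over `C`. Then the underlying
functor of `F` is fully faithful if and only if, for every object `U` of `C`, postcomposition with
`F` is a fully faithful functor from the category of functors `C/U ⟶ 𝒳` over `C` to that of functors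
`C/U ⟶ 𝒴` over `C`; under the 2-Yoneda lemma the latter says that `F` induces bijections between
morphisms of pullbacks `x|_V ⟶ y|_V` and `F(x)|_V ⟶ F(y)|_V` for all objects `x, y` over `U` and all
`V ⟶ U`, that is, isomorphisms of the presheaves of morphisms. (The published statement is for
stacks over a site, not necessarily in groupoids; the stack property plays no role and is not
assumed here, and this row treats categories fibred in groupoids.) -/
theorem result {C : Type u} [Category.{v} C] {𝒳 𝒴 : BasedCategory.{v, max u v} C}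
    (h𝒳 : FibCat.IsFibGrpd 𝒳.p) (h𝒴 : FibCat.IsFibGrpd 𝒴.p) (F : 𝒳 ⟶ 𝒴) :
    (F.toFunctor.Full ∧ F.toFunctor.Faithful) ↔
      ∀ U : C, (Bicategory.postcomp (FibCat.overCat U) F).Full ∧ (Bicategory.postcomp (FibCat.overCat U) F).Faithful := by
  have key : ∀ U : C, ((Bicategory.postcomp (FibCat.overCat U) F).Full ∧
      (Bicategory.postcomp (FibCat.overCat U) F).Faithful) ↔
      ((FibCat.fiberFunctor F U).Full ∧ (FibCat.fiberFunctor F U).Faithful) := by
    intro U
    haveI e1 := Groth.Agent.Helper3.evalAtId_isEquivalence_of_isFibGrpd h𝒳 U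
    haveI e2 := Groth.Agent.Helper3.evalAtId_isEquivalence_of_isFibGrpd h𝒴 U
    have sq : Bicategory.postcomp (FibCat.overCat U) F ⋙ FibCat.evalAtId 𝒴 U ≅
        FibCat.evalAtId 𝒳 U ⋙ FibCat.fiberFunctor F U :=
      NatIso.ofComponents (fun G => Iso.refl _) (fun {G H} α => by
        dsimp only [Iso.refl_hom]
        erw [Category.comp_id, Category.id_comp]
        rfl)
    constructor
    · rintro ⟨hf, hff⟩
      haveI : (Bicategory.postcomp (FibCat.overCat U) F ⋙ FibCat.evalAtId 𝒴 U).Full :=
        inferInstance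
      haveI : (Bicategory.postcomp (FibCat.overCat U) F ⋙ FibCat.evalAtId 𝒴 U).Faithful :=
        inferInstance
      haveI : (FibCat.evalAtId 𝒳 U ⋙ FibCat.fiberFunctor F U).Full := Functor.Full.of_iso sq
      haveI : (FibCat.evalAtId 𝒳 U ⋙ FibCat.fiberFunctor F U).Faithful :=
        Functor.Faithful.of_iso sq
      let i : (FibCat.evalAtId 𝒳 U).inv ⋙ (FibCat.evalAtId 𝒳 U ⋙ FibCat.fiberFunctor F U) ≅
          FibCat.fiberFunctor F U :=
        (Functor.associator _ _ _).symm ≪≫
          Functor.isoWhiskerRight (FibCat.evalAtId 𝒳 U).asEquivalence.counitIso _ ≪≫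
          Functor.leftUnitor _
      exact ⟨Functor.Full.of_iso i, Functor.Faithful.of_iso i⟩
    · rintro ⟨hf, hff⟩
      haveI : (FibCat.evalAtId 𝒳 U ⋙ FibCat.fiberFunctor F U).Full := inferInstance
      haveI : (FibCat.evalAtId 𝒳 U ⋙ FibCat.fiberFunctor F U).Faithful := inferInstance
      haveI : (Bicategory.postcomp (FibCat.overCat U) F ⋙ FibCat.evalAtId 𝒴 U).Full :=
        Functor.Full.of_iso sq.symm
      haveI : (Bicategory.postcomp (FibCat.overCat U) F ⋙ FibCat.evalAtId 𝒴 U).Faithful :=
        Functor.Faithful.of_iso sq.symm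
      exact ⟨Functor.Full.of_comp_faithful (Bicategory.postcomp (FibCat.overCat U) F)
          (FibCat.evalAtId 𝒴 U),
        Functor.Faithful.of_comp (Bicategory.postcomp (FibCat.overCat U) F)
          (FibCat.evalAtId 𝒴 U)⟩
  constructor
  · rintro ⟨hf, hff⟩ U
    rw [key U]
    exact ⟨Groth.Agent.Helper3.fiberFunctor_full_of_full F U,
      Groth.Agent.Helper3.fiberFunctor_faithful_of_faithful F U⟩
  · intro h
    have h' := fun U => (key U).mp (h U)
    exact ⟨Groth.Agent.Helper3.full_of_fiberwise F h𝒳 h𝒴 (fun U => (h' U).1),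
      Groth.Agent.Helper3.faithful_of_fiberwise F h𝒳 h𝒴 (fun U => (h' U).2)⟩

end Groth.Agent.S12816
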