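import Groth.Statements.S12817
import Mathlib
-- import your own Groth.Agent.* helpers here

set_option autoImplicit false
universe u
open CategoryTheory AlgebraicGeometry
open AlgSt

namespace Groth.Agent.S12817

/-- For a category fibred in groupoids over the category of schemes over `S`, the relation on
field-valued points under which `Spec K ⟶ 𝒳` and `Spec L ⟶ 𝒳` are related when some `Spec M ⟶ 𝒳`
maps to both is an equivalence relation, so that the points of `𝒳` are its equivalence classes. (The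
published statement is for an algebraic stack; this row takes any category fibred in groupoids over
the base.) -/
theorem result {S : Scheme.{u}} (𝒳 : AlgSt.Cat S) (h𝒳 : FibCat.IsFibGrpd 𝒳.p) :
    _root_.Equivalence (@AlgSt.FPt.Rel S 𝒳) := by
  refine ⟨fun p => ⟨p, 𝟙 _, 𝟙 _, trivial⟩, fun {p q} ⟨r, a, b, _⟩ => ⟨r, b, a, trivial⟩, ?_⟩
  rintro p q s ⟨r₁, a₁, b₁, -⟩ ⟨r₂, a₂, b₂, -⟩
  have hne₁ : Nonempty ((𝒳.p.obj r₁.obj).left) := by
    rw [r₁.lies]
    exact inferInstanceAs (Nonempty (PrimeSpectrum r₁.K))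
  have hne₂ : Nonempty ((𝒳.p.obj r₂.obj).left) := by
    rw [r₂.lies]
    exact inferInstanceAs (Nonempty (PrimeSpectrum r₂.K))
  have hsub : Subsingleton ((𝒳.p.obj q.obj).left) := by
    rw [q.lies]
    exact inferInstanceAs (Subsingleton (PrimeSpectrum q.K))
  obtain ⟨x₁⟩ := hne₁
  obtain ⟨x₂⟩ := hne₂
  let u₁ : 𝒳.p.obj r₁.obj ⟶ 𝒳.p.obj q.obj := 𝒳.p.map b₁
  let u₂ : 𝒳.p.obj r₂.obj ⟶ 𝒳.p.obj q.obj := 𝒳.p.map a₂
  obtain ⟨z, -, -⟩ := Scheme.Pullback.exists_preimage_pullback (f := u₁.left) (g := u₂.left) x₁ x₂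
    (Subsingleton.elim _ _)
  let P := Limits.pullback u₁.left u₂.left
  let M : Type u := P.residueField z
  let e : Spec (CommRingCat.of M) ⟶ P := P.fromSpecResidueField z
  let str : Spec (CommRingCat.of M) ⟶ S := e ≫ Limits.pullback.fst _ _ ≫ (𝒳.p.obj r₁.obj).hom
  let V : Over S := Over.mk str
  have hw₁ : u₁.left ≫ (𝒳.p.obj q.obj).hom = (𝒳.p.obj r₁.obj).hom := Over.w u₁
  have hw₂ : u₂.left ≫ (𝒳.p.obj q.obj).hom = (𝒳.p.obj r₂.obj).hom := Over.w u₂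
  let f₁ : V ⟶ 𝒳.p.obj r₁.obj := Over.homMk (e ≫ Limits.pullback.fst _ _) (by simp [V, str])
  let f₂ : V ⟶ 𝒳.p.obj r₂.obj := Over.homMk (e ≫ Limits.pullback.snd _ _) (by
    simp only [V, str, Over.mk_hom, Category.assoc]
    rw [← hw₂, ← hw₁, Limits.pullback.condition_assoc])
  have hcomm : f₁ ≫ u₁ = f₂ ≫ u₂ := by
    apply Over.OverMorphism.ext
    simp only [Over.comp_left, f₁, f₂, Over.homMk_left, Category.assoc]
    rw [Limits.pullback.condition]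
  obtain ⟨y₁, φ₁, hφ₁⟩ := h𝒳.exists_lift (x := r₁.obj) f₁
  have hdom : 𝒳.p.obj y₁ = V := IsHomLift.domain_eq 𝒳.p f₁ φ₁
  let r₃ : FPt 𝒳 := { K := M, str := str, obj := y₁, lies := hdom }
  have hfac : 𝒳.p.map φ₁ = eqToHom hdom ≫ f₁ := by
    have := IsHomLift.fac' 𝒳.p f₁ φ₁
    simpa using this
  haveI : 𝒳.p.IsStronglyCartesian (𝒳.p.map a₂) a₂ := h𝒳.isStronglyCartesian a₂
  have hf' : 𝒳.p.map (φ₁ ≫ b₁) = (eqToHom hdom ≫ f₂) ≫ 𝒳.p.map a₂ := by
    rw [Functor.map_comp, hfac, Category.assoc, Category.assoc]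
    congr 1
  let χ : y₁ ⟶ r₂.obj := Functor.IsStronglyCartesian.map 𝒳.p (𝒳.p.map a₂) a₂ hf' (φ₁ ≫ b₁)
  exact ⟨r₃, φ₁ ≫ a₁, χ ≫ b₂, trivial⟩

end Groth.Agent.S12817
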