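import Groth.Statements.S12916
import Mathlib

set_option autoImplicit false
universe u
open CAlgX

namespace Groth.Agent.S12916

section aux

theorem finiteLength_of_ass_maximal {S : Type u} [CommRing S] [IsNoetherianRing S] {N : Type u}
    [AddCommGroup N] [Module S N] [Module.Finite S N]
    (h : ∀ P ∈ associatedPrimes S N, P.IsMaximal) : IsFiniteLength S N := by
  rw [isFiniteLength_iff_isNoetherian_isArtinian]
  refine ⟨inferInstance, ?_⟩
  have hdim : Ring.KrullDimLE 0 (S ⧸ Module.annihilator S N) := by
    rw [Ring.krullDimLE_zero_iff]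
    intro J hJ
    have hQ : (J.comap (Ideal.Quotient.mk (Module.annihilator S N))).IsPrime :=
      Ideal.comap_isPrime _ _
    have hIQ : Module.annihilator S N ≤ J.comap (Ideal.Quotient.mk (Module.annihilator S N)) := by
      intro a ha
      rw [Ideal.mem_comap, Ideal.Quotient.eq_zero_iff_mem.mpr ha]; exact zero_mem _
    obtain ⟨P, hP, hPQ⟩ := Ideal.exists_minimalPrimes_le hIQ
    have hPmax : P.IsMaximal :=
      h P (Module.associatedPrimes.minimalPrimes_annihilator_subset_associatedPrimes S N hP)
    have hPeq : P = J.comap (Ideal.Quotient.mk (Module.annihilator S N)) :=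
      hPmax.eq_of_le hQ.ne_top hPQ
    have hJmap : J = (J.comap (Ideal.Quotient.mk (Module.annihilator S N))).map
        (Ideal.Quotient.mk (Module.annihilator S N)) :=
      (Ideal.map_comap_of_surjective _ Ideal.Quotient.mk_surjective J).symm
    rw [← hPeq] at hJmap
    rcases Ideal.map_eq_top_or_isMaximal_of_surjective
      (Ideal.Quotient.mk (Module.annihilator S N)) Ideal.Quotient.mk_surjective hPmax
      with h1 | h1
    · exfalso; apply hJ.ne_top; rw [hJmap]; exact h1
    · rw [hJmap]; exact h1
  have : IsArtinianRing (S ⧸ Module.annihilator S N) :=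
    isArtinianRing_iff_isNoetherianRing_krullDimLE_zero.mpr ⟨inferInstance, hdim⟩
  let _ : Module (S ⧸ Module.annihilator S N) N := Module.quotientAnnihilator
  have : IsScalarTower S (S ⧸ Module.annihilator S N) N := inferInstance
  have : Module.Finite (S ⧸ Module.annihilator S N) N :=
    Module.Finite.of_restrictScalars_finite S (S ⧸ Module.annihilator S N) N
  have : IsArtinian (S ⧸ Module.annihilator S N) N := inferInstance
  exact isArtinian_of_surjective_algebraMap (R := S ⧸ Module.annihilator S N)
    Ideal.Quotient.mk_surjective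

theorem isMaximal_of_vars_mem {k : Type u} [Field k] {σ : Type*} (P : Ideal (MvPolynomial σ k))
    [hP : P.IsPrime] (h : ∀ i : σ, (MvPolynomial.X i : MvPolynomial σ k) ∈ P) : P.IsMaximal := by
  have hsub : ∀ g : MvPolynomial σ k,
      g - MvPolynomial.C (MvPolynomial.constantCoeff g) ∈ P := by
    intro g
    induction g using MvPolynomial.induction_on with
    | C a => simp
    | add p q hp hq =>
      have h1 : p + q - MvPolynomial.C (MvPolynomial.constantCoeff (p + q)) =
          (p - MvPolynomial.C (MvPolynomial.constantCoeff p)) +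
            (q - MvPolynomial.C (MvPolynomial.constantCoeff q)) := by
        rw [map_add, map_add]; ring
      rw [h1]; exact P.add_mem hp hq
    | mul_X p i hp =>
      have h1 : MvPolynomial.constantCoeff (p * MvPolynomial.X i) = 0 := by simp
      rw [h1, map_zero, sub_zero]
      exact P.mul_mem_left _ (h i)
  have hker : RingHom.ker (MvPolynomial.constantCoeff : MvPolynomial σ k →+* k) ≤ P := by
    intro g hg
    have h1 := hsub g
    rw [RingHom.mem_ker.mp hg, map_zero, sub_zero] at h1
    exact h1
  have hmax : (RingHom.ker (MvPolynomial.constantCoeff : MvPolynomial σ k →+* k)).IsMaximal :=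
    RingHom.ker_isMaximal_of_surjective _
      (fun a => ⟨MvPolynomial.C a, MvPolynomial.constantCoeff_C _ a⟩)
  rw [← hmax.eq_of_le hP.ne_top hker]
  exact hmax

end aux


/-- Let k be an infinite field, S = k[x_0, …, x_r], M a finitely generated S-module and d a natural
number. Then some nonzero homogeneous polynomial f of degree d is quasi-regular on M: the submodule
(0 :_M f) of elements of M annihilated by f has finite length. (The published statement assumes M
graded; this row assumes only that M is finitely generated.) -/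
theorem result (k : Type u) [Field k] [Infinite k] (r d : ℕ)
    (M : Type u) [AddCommGroup M] [Module (MvPolynomial (Fin (r + 1)) k) M] [Module.Finite (MvPolynomial (Fin (r + 1)) k) M] :
    ∃ f : MvPolynomial (Fin (r + 1)) k, f.IsHomogeneous d ∧ f ≠ 0 ∧
      IsFiniteLength (MvPolynomial (Fin (r + 1)) k) ↥(Submodule.torsionBy (MvPolynomial (Fin (r + 1)) k) M f) := by
  classical
  let T : Set (Ideal (MvPolynomial (Fin (r + 1)) k)) :=
    insert ⊥ {P | P ∈ associatedPrimes (MvPolynomial (Fin (r + 1)) k) M ∧ ¬ P.IsMaximal}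
  have hTfin : T.Finite :=
    Set.Finite.insert _ ((associatedPrimes.finite (MvPolynomial (Fin (r + 1)) k) M).subset
      (fun P hP => hP.1))
  have hex : ∃ f₀ : ↥(MvPolynomial.homogeneousSubmodule (Fin (r + 1)) k d),
      ∀ P ∈ T, (f₀ : MvPolynomial (Fin (r + 1)) k) ∉ P := by
    by_contra hcon
    push Not at hcon
    have : Finite ↥T := hTfin.to_subtype
    let W : ↥T → Subspace k ↥(MvPolynomial.homogeneousSubmodule (Fin (r + 1)) k d) := fun P =>
      Submodule.comap (MvPolynomial.homogeneousSubmodule (Fin (r + 1)) k d).subtype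
        (P.1.restrictScalars k)
    have hcov : ⋃ P : ↥T, (W P : Set ↥(MvPolynomial.homogeneousSubmodule (Fin (r + 1)) k d)) =
        Set.univ := by
      rw [Set.eq_univ_iff_forall]
      intro f₀
      obtain ⟨P, hPT, hfP⟩ := hcon f₀
      exact Set.mem_iUnion.mpr ⟨⟨P, hPT⟩, hfP⟩
    obtain ⟨⟨P, hPT⟩, hPtop⟩ := Subspace.exists_eq_top_of_iUnion_eq_univ hcov
    have hall : ∀ g : MvPolynomial (Fin (r + 1)) k,
        g ∈ MvPolynomial.homogeneousSubmodule (Fin (r + 1)) k d → g ∈ P := by
      intro g hg
      have h1 : (⟨g, hg⟩ : ↥(MvPolynomial.homogeneousSubmodule (Fin (r + 1)) k d)) ∈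
          W ⟨P, hPT⟩ := by rw [hPtop]; trivial
      exact h1
    have hXd : ∀ i : Fin (r + 1), (MvPolynomial.X i : MvPolynomial (Fin (r + 1)) k) ^ d ∈ P :=
      fun i => hall _ (MvPolynomial.isHomogeneous_X_pow i d)
    rcases hPT with rfl | ⟨hPass, hPnm⟩
    · have h1 := hXd 0
      rw [Ideal.mem_bot] at h1
      exact pow_ne_zero d (MvPolynomial.X_ne_zero 0) h1
    · have : P.IsPrime := hPass.isPrime
      apply hPnm
      apply isMaximal_of_vars_mem P
      intro i
      exact Ideal.IsPrime.mem_of_pow_mem inferInstance d (hXd i)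
  obtain ⟨f₀, hf₀⟩ := hex
  refine ⟨f₀.1, f₀.2, ?_, ?_⟩
  · intro h0
    exact hf₀ ⊥ (Set.mem_insert _ _) (by rw [h0]; exact zero_mem _)
  · apply finiteLength_of_ass_maximal
    intro P hP
    have hPM : P ∈ associatedPrimes (MvPolynomial (Fin (r + 1)) k) M :=
      associatedPrimes.subset_of_injective
        (f := (Submodule.torsionBy (MvPolynomial (Fin (r + 1)) k) M f₀.1).subtype)
        (Submodule.injective_subtype _) hP
    have hfP : f₀.1 ∈ P := by
      obtain ⟨_, x, hx⟩ := isAssociatedPrime_iff.mp hP
      rw [hx, Submodule.mem_colon_singleton, Submodule.mem_bot]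
      exact Submodule.smul_torsionBy _ x
    by_contra hnm
    exact hf₀ P (Set.mem_insert_of_mem _ ⟨hPM, hnm⟩) hfP

end Groth.Agent.S12916
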