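import Groth.Statements.S12923
import Mathlib
import Groth.Agent.Lib.helper1.HopfMod3

set_option autoImplicit false
universe u v w
open HopfRep

namespace Groth.Agent.S12923

/-- Let `k` be a commutative ring, `A` a commutative Hopf algebra over `k`, flat as a `k`-module, `B` a
commutative `k`-algebra with a coaction of `A` that is an algebra map and admits a total integral (a
comodule map `α : A → B` with `α 1 = 1`), `C = B^A`, and `b` an ideal of `B` which is a subcomodule
(a closed subscheme of `Spec B` stable under the action). Then the image of `V(b)` under `Spec B →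
Spec C` is the closed set `V(b ∩ C)`. (The published statement assumes only that taking invariants
is exact on `(B, A)`-modules; a total integral, assumed here, gives that exactness.) -/
theorem result
    (k : Type u) [CommRing k] (A : Type v) [CommRing A] [HopfAlgebra k A] [Module.Flat k A]
    (B : Type w) [CommRing B] [Algebra k B] [HopfRep.Comod k A B] [GLin.IsCoactAlg k A B]
    (htame : ∃ α : A →ₗ[k] B, Hoch.IsComodHom A α ∧ α 1 = 1)
    (b : Ideal B) (hb : HopfRep.IsSubcomod (k := k) (A := A) (b.restrictScalars k)) :
    PrimeSpectrum.comap (algebraMap (GLin.invariants k A B) B) '' PrimeSpectrum.zeroLocus (b : Set B) =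
      PrimeSpectrum.zeroLocus ((b.comap (algebraMap (GLin.invariants k A B) B) : Ideal (GLin.invariants k A B)) : Set (GLin.invariants k A B)) := by
  obtain ⟨α, hα, hα1⟩ := htame
  have inst := Helper1.HopfMod3.isHopfMod_self (k := k) (A := A) (B := B)
  apply Set.Subset.antisymm
  · rintro _ ⟨q, hq, rfl⟩
    rw [PrimeSpectrum.mem_zeroLocus] at hq ⊢
    intro x hx
    exact hq hx
  · intro p hp
    rw [PrimeSpectrum.mem_zeroLocus] at hp
    have claim : (p.asIdeal.map (algebraMap (GLin.invariants k A B) B) ⊔ b).comap
        (algebraMap (GLin.invariants k A B) B) ≤ p.asIdeal := by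
      intro x hx
      rw [Ideal.mem_comap] at hx
      obtain ⟨y, hy, z, hz, hyz⟩ := Submodule.mem_sup.mp hx
      obtain ⟨w, hw, e⟩ := Helper1.HopfMod3.R_mem_of_mem_map α hα p.asIdeal y hy 1
      rw [one_mul] at e
      have hRz : TameAct.reynolds k A B B α z ∈ b := Helper1.HopfMod3.R_mem_of_stable α b hb z hz
      have hRzC : HopfRep.Comod.coact (k := k) (A := A) (TameAct.reynolds k A B B α z) =
          TameAct.reynolds k A B B α z ⊗ₜ[k] (1 : A) := Helper1.HopfMod2.coact_reynolds α hα z
      have hfix : TameAct.reynolds k A B B α (x : B) = x :=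
        Helper1.HopfMod2.reynolds_fixed α hα1 _ x.2
      have hx' : (x : B) = (w : B) + TameAct.reynolds k A B B α z := by
        rw [← hfix]
        show TameAct.reynolds k A B B α (algebraMap (GLin.invariants k A B) B x) = _
        rw [← hyz, map_add, e]
      have hz' : (⟨TameAct.reynolds k A B B α z, hRzC⟩ : GLin.invariants k A B) ∈ p.asIdeal :=
        hp (show algebraMap (GLin.invariants k A B) B ⟨TameAct.reynolds k A B B α z, hRzC⟩ ∈ b
          from hRz)
      have hxe : x = w + ⟨TameAct.reynolds k A B B α z, hRzC⟩ := Subtype.ext hx'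
      rw [hxe]
      exact p.asIdeal.add_mem hw hz'
    obtain ⟨q, hq₁, hq₂, hq₃⟩ := Ideal.exists_le_prime_disjoint _ _
      (Ideal.disjoint_map_primeCompl_iff_comap_le.mpr claim)
    refine ⟨⟨q, hq₁⟩, ?_, ?_⟩
    · rw [PrimeSpectrum.mem_zeroLocus]
      exact fun x hx => hq₂ (Ideal.mem_sup_right hx)
    · apply PrimeSpectrum.ext
      exact le_antisymm (Ideal.disjoint_map_primeCompl_iff_comap_le.mp hq₃)
        (Ideal.map_le_iff_le_comap.mp (le_sup_left.trans hq₂))

end Groth.Agent.S12923
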