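import Groth.Statements.S12927
import Mathlib

set_option autoImplicit false
universe u v w
open HopfRep

namespace Groth.Agent.S12927

/-- Let `k` be a commutative ring, `A` a commutative bialgebra over `k`, flat as a `k`-module and `B` a
commutative `k`-algebra with a coaction of `A` that is an algebra map. If the trivial action of
`Spec A` on `Spec k` is tame — there is a comodule map `A → k` to the trivial comodule `k` (coaction
`r ↦ r ⊗ 1`) sending `1` to `1` — then the action on `Spec B` is tame: there is a comodule map `A →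
B` sending `1` to `1`. -/
theorem result
    (k : Type u) [CommRing k] (A : Type v) [CommRing A] [Bialgebra k A] [Module.Flat k A]
    (B : Type w) [CommRing B] [Algebra k B] [HopfRep.Comod k A B] [GLin.IsCoactAlg k A B]
    (htriv : ∃ α₀ : A →ₗ[k] k,
      @Hoch.IsComodHom k _ A _ _ _ A _ _ _ k _ _ (HopfRep.Comod.trivial k A k) α₀ ∧ α₀ 1 = 1) :
    ∃ α : A →ₗ[k] B, Hoch.IsComodHom A α ∧ α 1 = 1 := by
  obtain ⟨α₀, hα₀, h1⟩ := htriv
  refine ⟨Algebra.linearMap k B ∘ₗ α₀, ?_, by simp [h1]⟩
  have hα₀' : ((TensorProduct.mk k k A).flip 1) ∘ₗ α₀ =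
      α₀.rTensor A ∘ₗ (Coalgebra.comul : A →ₗ[k] TensorProduct k A A) := hα₀
  show (HopfRep.Comod.coact (k := k) (A := A) : B →ₗ[k] TensorProduct k B A) ∘ₗ
      (Algebra.linearMap k B ∘ₗ α₀) =
    (Algebra.linearMap k B ∘ₗ α₀).rTensor A ∘ₗ (Coalgebra.comul : A →ₗ[k] TensorProduct k A A)
  apply LinearMap.ext
  intro a
  have e := LinearMap.congr_fun hα₀' a
  simp only [LinearMap.comp_apply, LinearMap.flip_apply, TensorProduct.mk_apply] at e
  rw [LinearMap.comp_apply, LinearMap.comp_apply, LinearMap.comp_apply, LinearMap.rTensor_comp,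
    LinearMap.comp_apply, ← e, LinearMap.rTensor_tmul]
  rw [Algebra.linearMap_apply, Algebra.algebraMap_eq_smul_one, map_smul,
    GLin.IsCoactAlg.coact_one (k := k) (A := A) (R := B), Algebra.TensorProduct.one_def,
    TensorProduct.smul_tmul']

end Groth.Agent.S12927
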