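import Groth.Statements.S12925
import Mathlib
import Groth.Agent.S12927

set_option autoImplicit false
universe u w
open HopfRep

namespace Groth.Agent.S12925

/-- Let `k` be a commutative ring, `M` a commutative group and `B` a commutative `k`-algebra with a
coaction of the group algebra `k[M]` that is an algebra map (an action of the diagonalizable group
scheme `D(M) = Spec k[M]` on `Spec B`). Then the action is tame: there is a comodule map `α : k[M] →
B`, for the regular coaction on `k[M]`, with `α 1 = 1`. -/
theorem result
    (k : Type u) [CommRing k] (M : Type u) [CommGroup M]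
    (B : Type w) [CommRing B] [Algebra k B] [HopfRep.Comod k (MonoidAlgebra k M) B]
    [GLin.IsCoactAlg k (MonoidAlgebra k M) B] :
    ∃ α : MonoidAlgebra k M →ₗ[k] B, Hoch.IsComodHom (MonoidAlgebra k M) α ∧ α 1 = 1 := by
  classical
  apply Groth.Agent.S12927.result k (MonoidAlgebra k M) B
  set lam : MonoidAlgebra k M →ₗ[k] k := (Finsupp.lapply (1 : M) : (M →₀ k) →ₗ[k] k) ∘ₗ
      (MonoidAlgebra.coeffLinearEquiv k).toLinearMap with hlam
  refine ⟨lam, ?_, by simp [hlam, MonoidAlgebra.one_def]⟩
  show ((TensorProduct.mk k k (MonoidAlgebra k M)).flip 1) ∘ₗ lam =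
    lam.rTensor (MonoidAlgebra k M) ∘ₗ
      (Coalgebra.comul : MonoidAlgebra k M →ₗ[k] TensorProduct k (MonoidAlgebra k M) (MonoidAlgebra k M))
  apply LinearMap.ext
  intro a
  induction a using MonoidAlgebra.induction_linear with
  | zero => simp
  | add x y hx hy => rw [map_add, map_add, hx, hy]
  | single g r =>
    simp only [LinearMap.comp_apply, LinearMap.flip_apply, TensorProduct.mk_apply]
    rw [MonoidAlgebra.comul_single]
    simp only [CommSemiring.comul_apply, TensorProduct.map_tmul, MonoidAlgebra.lsingle_apply,
      LinearMap.rTensor_tmul, hlam, LinearMap.comp_apply, LinearEquiv.coe_coe,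
      MonoidAlgebra.coeffLinearEquiv_apply, MonoidAlgebra.coeff_single, Finsupp.lapply_apply,
      Finsupp.single_apply]
    by_cases hg : g = 1
    · subst hg
      simp only [if_true, MonoidAlgebra.one_def]
      rw [← mul_one r, ← smul_eq_mul, TensorProduct.smul_tmul, MonoidAlgebra.smul_single,
        smul_eq_mul, mul_one]
    · simp [hg]

end Groth.Agent.S12925
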