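import Groth.Statements.S12926
import Mathlib

set_option autoImplicit false
universe u v
open HopfRep

namespace Groth.Agent.S12926

/-- Let `k` be a commutative ring and `A` a commutative bialgebra over `k`, flat as a `k`-module. If the
submodule `k · 1` of the regular comodule `A` has a complement `H` which is a subcomodule — the case
used when `A` is cosemisimple, i.e. every subcomodule of every comodule is a direct summand as a
comodule — then the trivial action of `Spec A` on `Spec k` is tame: there is a comodule map `α : A →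
k`, for the regular coaction on `A` and the trivial coaction `r ↦ r ⊗ 1` on `k`, with `α 1 = 1`. -/
theorem result
    (k : Type u) [CommRing k] (A : Type v) [CommRing A] [Bialgebra k A] [Module.Flat k A]
    (H : Submodule k A) (hH : HopfRep.IsSubcomod (k := k) (A := A) H)
    (hc : IsCompl (Submodule.span k {(1 : A)}) H) :
    ∃ α : A →ₗ[k] k, @Hoch.IsComodHom k _ A _ _ _ A _ _ _ k _ _ (HopfRep.Comod.trivial k A k) α ∧ α 1 = 1 := by
  classical
  set π := Submodule.linearProjOfIsCompl (Submodule.span k {(1 : A)}) H hc with hπ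
  set α₀ : A →ₗ[k] k := (Coalgebra.counit : A →ₗ[k] k) ∘ₗ
    (Submodule.span k {(1 : A)}).subtype ∘ₗ π with hα₀
  have h1mem : (1 : A) ∈ Submodule.span k {(1 : A)} := Submodule.mem_span_singleton_self 1
  have hα1 : α₀ 1 = 1 := by
    have : π 1 = ⟨1, h1mem⟩ :=
      Submodule.linearProjOfIsCompl_apply_left hc ⟨1, h1mem⟩
    simp [hα₀, this]
  have hαH : ∀ h ∈ H, α₀ h = 0 := by
    intro h hh
    have : π h = 0 := Submodule.linearProjOfIsCompl_apply_right hc ⟨h, hh⟩
    simp [hα₀, this]
  refine ⟨α₀, ?_, hα1⟩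
  show ((TensorProduct.mk k k A).flip 1) ∘ₗ α₀ =
    α₀.rTensor A ∘ₗ (Coalgebra.comul : A →ₗ[k] TensorProduct k A A)
  apply LinearMap.ext
  intro a
  have ha : a ∈ Submodule.span k {(1 : A)} ⊔ H := by
    rw [hc.sup_eq_top]
    exact Submodule.mem_top
  obtain ⟨x, hx, h, hh, rfl⟩ := Submodule.mem_sup.mp ha
  obtain ⟨c, rfl⟩ := Submodule.mem_span_singleton.mp hx
  have e1 : (((TensorProduct.mk k k A).flip 1) ∘ₗ α₀) 1 =
      (α₀.rTensor A ∘ₗ (Coalgebra.comul : A →ₗ[k] TensorProduct k A A)) 1 := by
    simp only [LinearMap.comp_apply, LinearMap.flip_apply, TensorProduct.mk_apply]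
    rw [Bialgebra.comul_one, Algebra.TensorProduct.one_def, LinearMap.rTensor_tmul]
  have e2 : (((TensorProduct.mk k k A).flip 1) ∘ₗ α₀) h =
      (α₀.rTensor A ∘ₗ (Coalgebra.comul : A →ₗ[k] TensorProduct k A A)) h := by
    simp only [LinearMap.comp_apply, LinearMap.flip_apply, TensorProduct.mk_apply]
    rw [hαH h hh, TensorProduct.zero_tmul]
    obtain ⟨u, hu⟩ := hH h hh
    have hu' : (H.subtype.rTensor A) u = Coalgebra.comul (R := k) h := hu
    rw [← hu', ← LinearMap.rTensor_comp_apply]
    have hz : α₀ ∘ₗ H.subtype = 0 := by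
      apply LinearMap.ext
      intro y
      exact hαH y.1 y.2
    rw [hz, LinearMap.rTensor_zero, LinearMap.zero_apply]
  rw [map_add, map_add, map_smul, map_smul, e1, e2]

end Groth.Agent.S12926
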