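import Groth.Statements.S12929
import Mathlib

set_option autoImplicit false
universe u v w w'
open HopfRep

namespace Groth.Agent.S12929

open scoped TensorProduct
open Coalgebra

theorem K0 {k : Type u} [CommRing k] {A : Type v} [CommRing A] [HopfAlgebra k A]
    {M : Type w} [AddCommGroup M] [Module k M] {N : Type w'} [AddCommGroup N] [Module k N]
    (h : M →ₗ[k] N) (m' : M) (z : A ⊗[k] A) :
    (TensorProduct.assoc k N A A).symm (h m' ⊗ₜ[k] z) =
      ((h.rTensor A).rTensor A) ((TensorProduct.assoc k M A A).symm (m' ⊗ₜ[k] z)) := by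
  induction z using TensorProduct.induction_on with
  | zero => simp
  | tmul b c => simp
  | add z₁ z₂ h₁ h₂ => simp only [TensorProduct.tmul_add, map_add, h₁, h₂]

theorem K1 {k : Type u} [CommRing k] {A : Type v} [CommRing A] [HopfAlgebra k A]
    {M : Type w} [AddCommGroup M] [Module k M] {N : Type w'} [AddCommGroup N] [Module k N]
    (h : M →ₗ[k] N) (y : M ⊗[k] A) :
    (TensorProduct.assoc k N A A).symm ((comul : A →ₗ[k] A ⊗[k] A).lTensor N (h.rTensor A y)) =
      ((h.rTensor A).rTensor A)
        ((TensorProduct.assoc k M A A).symm ((comul : A →ₗ[k] A ⊗[k] A).lTensor M y)) := by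
  induction y using TensorProduct.induction_on with
  | zero => simp
  | tmul m' a =>
    simp only [LinearMap.rTensor_tmul, LinearMap.lTensor_tmul]
    exact K0 h m' (comul a)
  | add y₁ y₂ h₁ h₂ => simp only [map_add, h₁, h₂]

theorem K3 {k : Type u} [CommRing k] {A : Type v} [CommRing A] [HopfAlgebra k A]
    {N : Type w'} [AddCommGroup N] [Module k N] (n : N) (z : A ⊗[k] A) :
    (((TensorProduct.rid k N).toLinearMap ∘ₗ (counit : A →ₗ[k] k).lTensor N).rTensor A)
        ((TensorProduct.assoc k N A A).symm (n ⊗ₜ[k] z)) =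
      n ⊗ₜ[k] (TensorProduct.lid k A ((counit : A →ₗ[k] k).rTensor A z)) := by
  induction z using TensorProduct.induction_on with
  | zero => simp
  | tmul b c => simp [TensorProduct.smul_tmul]
  | add z₁ z₂ h₁ h₂ => simp only [TensorProduct.tmul_add, map_add, h₁, h₂]

theorem K2 {k : Type u} [CommRing k] {A : Type v} [CommRing A] [HopfAlgebra k A]
    {N : Type w'} [AddCommGroup N] [Module k N] (x : N ⊗[k] A) :
    (((TensorProduct.rid k N).toLinearMap ∘ₗ (counit : A →ₗ[k] k).lTensor N).rTensor A)
        ((TensorProduct.assoc k N A A).symm ((comul : A →ₗ[k] A ⊗[k] A).lTensor N x)) = x := by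
  induction x using TensorProduct.induction_on with
  | zero => simp
  | tmul n a =>
    rw [LinearMap.lTensor_tmul, K3, Coalgebra.rTensor_counit_comul, TensorProduct.lid_tmul,
      one_smul]
  | add x₁ x₂ h₁ h₂ => simp only [map_add, h₁, h₂]

theorem K4 {k : Type u} [CommRing k] {A : Type v} [CommRing A] [HopfAlgebra k A]
    {M : Type w} [AddCommGroup M] [Module k M] {N : Type w'} [AddCommGroup N] [Module k N]
    (h : M →ₗ[k] N) (y : M ⊗[k] A) :
    TensorProduct.rid k N ((counit : A →ₗ[k] k).lTensor N (h.rTensor A y)) =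
      h (TensorProduct.rid k M ((counit : A →ₗ[k] k).lTensor M y)) := by
  induction y using TensorProduct.induction_on with
  | zero => simp
  | tmul m' a => simp
  | add y₁ y₂ h₁ h₂ => simp only [map_add, h₁, h₂]


/-- Let `k` be a commutative ring, `A` a commutative Hopf algebra over `k`, `M` a right `A`-comodule and
`N` a `k`-module; give `N ⊗ A` the coaction `id ⊗ Δ`. Then for every `k`-linear map `h : M → N` the
composite `(h ⊗ id_A) ∘ ρ_M : M → N ⊗ A` is a comodule map, and every comodule map `f : M → N ⊗ A`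
is of this form for exactly one `h` (which is `(id_N ⊗ ε) ∘ f`): comodule maps `M → N ⊗ A`
correspond bijectively to linear maps `M → N`. -/
theorem result
    (k : Type u) [CommRing k] (A : Type v) [CommRing A] [HopfAlgebra k A]
    (M : Type w) [AddCommGroup M] [Module k M] [HopfRep.Comod k A M]
    (N : Type w') [AddCommGroup N] [Module k N] :
    (∀ h : M →ₗ[k] N, Hoch.IsComodHom A
        ((Hoch.Ind.equiv k A N).toLinearMap ∘ₗ h.rTensor A ∘ₗ HopfRep.Comod.coact (k := k) (A := A))) ∧
      ∀ f : M →ₗ[k] Hoch.Ind k A N, Hoch.IsComodHom A f →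
        ∃! h : M →ₗ[k] N,
          f = (Hoch.Ind.equiv k A N).toLinearMap ∘ₗ h.rTensor A ∘ₗ HopfRep.Comod.coact (k := k) (A := A) := by
  have hco : ∀ m : M, ((HopfRep.Comod.coact (k := k) (A := A) : M →ₗ[k] M ⊗[k] A).rTensor A)
      (HopfRep.Comod.coact (k := k) (A := A) m) =
      (TensorProduct.assoc k M A A).symm ((comul : A →ₗ[k] A ⊗[k] A).lTensor M
        (HopfRep.Comod.coact (k := k) (A := A) m)) := by
    intro m
    have e := LinearMap.congr_fun (HopfRep.Comod.coassoc (k := k) (A := A) (V := M)) m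
    simp only [LinearMap.comp_apply, LinearEquiv.coe_coe] at e
    rw [← e, LinearEquiv.symm_apply_apply]
  have hcu : ∀ m : M, TensorProduct.rid k M ((counit : A →ₗ[k] k).lTensor M
      (HopfRep.Comod.coact (k := k) (A := A) m)) = m := by
    intro m
    have e := LinearMap.congr_fun (HopfRep.Comod.counit_comp (k := k) (A := A) (V := M)) m
    simp only [LinearMap.comp_apply, LinearMap.flip_apply, TensorProduct.mk_apply] at e
    rw [e, TensorProduct.rid_tmul, one_smul]
  constructor
  · intro h
    show (Hoch.Ind.coactAux k A N) ∘ₗ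
        (h.rTensor A ∘ₗ (HopfRep.Comod.coact (k := k) (A := A) : M →ₗ[k] M ⊗[k] A)) =
      (h.rTensor A ∘ₗ (HopfRep.Comod.coact (k := k) (A := A) : M →ₗ[k] M ⊗[k] A)).rTensor A ∘ₗ
        (HopfRep.Comod.coact (k := k) (A := A) : M →ₗ[k] M ⊗[k] A)
    apply LinearMap.ext
    intro m
    rw [LinearMap.comp_apply, LinearMap.comp_apply, LinearMap.comp_apply,
      LinearMap.rTensor_comp_apply, hco]
    exact K1 h _
  · intro f hf
    let g : M →ₗ[k] N ⊗[k] A := f
    have hf' : ∀ m : M, (TensorProduct.assoc k N A A).symm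
        ((comul : A →ₗ[k] A ⊗[k] A).lTensor N (g m)) =
        (g.rTensor A) (HopfRep.Comod.coact (k := k) (A := A) m) := by
      intro m
      exact LinearMap.congr_fun hf m
    refine ⟨((TensorProduct.rid k N).toLinearMap ∘ₗ (counit : A →ₗ[k] k).lTensor N) ∘ₗ g, ?_, ?_⟩
    · apply LinearMap.ext
      intro m
      show g m = ((((TensorProduct.rid k N).toLinearMap ∘ₗ
        (counit : A →ₗ[k] k).lTensor N) ∘ₗ g).rTensor A)
        (HopfRep.Comod.coact (k := k) (A := A) m)
      rw [LinearMap.rTensor_comp_apply, ← hf' m, K2]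
    · intro h' hh'
      apply LinearMap.ext
      intro m
      have e : g m = (h'.rTensor A) (HopfRep.Comod.coact (k := k) (A := A) m) := by
        show f m = _
        rw [hh']
        rfl
      show h' m = TensorProduct.rid k N ((counit : A →ₗ[k] k).lTensor N (g m))
      rw [e, K4, hcu]

end Groth.Agent.S12929
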