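import Groth.Statements.S12930
import Mathlib

set_option autoImplicit false
universe u v w w'
open HopfRep

namespace Groth.Agent.S12930

/-- Let `k` be a commutative ring, `A` a commutative Hopf algebra over `k`, `B` a commutative
`k`-algebra with a coaction of `A` that is an algebra map, and `M` a `B`-module with a compatible
`A`-coaction. Then `f ↦ f 1` is a bijection from the `B`-linear comodule maps `B → M` onto the
invariants `M^A = {m | ρ(m) = m ⊗ 1}`: every such `f` has `f 1` invariant, and every invariant `m`
is `f 1` for exactly one such `f` (namely `b ↦ b • m`). -/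
theorem result
    (k : Type u) [CommRing k] (A : Type v) [CommRing A] [HopfAlgebra k A]
    (B : Type w) [CommRing B] [Algebra k B] [HopfRep.Comod k A B] [GLin.IsCoactAlg k A B]
    (M : Type w') [AddCommGroup M] [Module k M] [Module B M] [IsScalarTower k B M]
    [HopfRep.Comod k A M] [TameAct.IsHopfMod k A B M] :
    (∀ f : B →ₗ[B] M, Hoch.IsComodHom A (f.restrictScalars k) → f 1 ∈ HopfRep.fixedPts k A M) ∧
      ∀ m ∈ HopfRep.fixedPts k A M,
        ∃! f : B →ₗ[B] M, Hoch.IsComodHom A (f.restrictScalars k) ∧ f 1 = m := by
  constructor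
  · intro f hf
    have hf' : (HopfRep.Comod.coact (k := k) (A := A) : M →ₗ[k] TensorProduct k M A) ∘ₗ
        f.restrictScalars k = (f.restrictScalars k).rTensor A ∘ₗ
        (HopfRep.Comod.coact (k := k) (A := A) : B →ₗ[k] TensorProduct k B A) := hf
    have e := LinearMap.congr_fun hf' 1
    rw [LinearMap.comp_apply, LinearMap.comp_apply,
      GLin.IsCoactAlg.coact_one (k := k) (A := A) (R := B), Algebra.TensorProduct.one_def,
      LinearMap.rTensor_tmul] at e
    exact e
  · intro m hm
    have hm' : HopfRep.Comod.coact (k := k) (A := A) m = m ⊗ₜ[k] (1 : A) := hm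
    have hgen : ∀ y : TensorProduct k B A,
        TameAct.hmSMul k A B M y (m ⊗ₜ[k] (1 : A)) =
          ((LinearMap.toSpanSingleton B M m).restrictScalars k).rTensor A y := by
      intro y
      induction y using TensorProduct.induction_on with
      | zero => simp
      | tmul b a => simp
      | add y₁ y₂ h₁ h₂ => simp only [map_add, LinearMap.add_apply, h₁, h₂]
    refine ⟨LinearMap.toSpanSingleton B M m, ⟨?_, by simp⟩, ?_⟩
    · show (HopfRep.Comod.coact (k := k) (A := A) : M →ₗ[k] TensorProduct k M A) ∘ₗ
          (LinearMap.toSpanSingleton B M m).restrictScalars k =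
        ((LinearMap.toSpanSingleton B M m).restrictScalars k).rTensor A ∘ₗ
          (HopfRep.Comod.coact (k := k) (A := A) : B →ₗ[k] TensorProduct k B A)
      apply LinearMap.ext
      intro b
      rw [LinearMap.comp_apply, LinearMap.comp_apply, ← hgen]
      show HopfRep.Comod.coact (k := k) (A := A) (b • m) = _
      rw [TameAct.IsHopfMod.coact_smul (k := k) (A := A) (B := B) (M := M) b m, hm']
    · rintro g ⟨_, hg1⟩
      apply LinearMap.ext_ring
      rw [hg1]
      simp

end Groth.Agent.S12930
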