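import Groth.Statements.S12931
import Mathlib.Tactic

set_option autoImplicit false
universe u v w
open HopfRep

namespace Groth.Agent.S12931

/-- Let `R` be a commutative ring, `Γ` a finite set and `T` a commutative `R`-algebra which is
connected: nonzero, with no idempotents other than `0` and `1`. Then `γ ↦ (evaluation at γ : (Γ → R)
→ R → T)` is a bijection from `Γ` onto the `R`-algebra maps `(Γ → R) → T`: every such map sends
exactly one of the indicator functions to `1` and the others to `0`. (Only the bijection of sets is
stated; when `Γ` is a group, the compatibility with the group structures on both sides is not.) -/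
theorem result
    (R : Type u) [CommRing R] (Γ : Type v) [Finite Γ]
    (T : Type w) [CommRing T] [Algebra R T] [Nontrivial T]
    (hT : ∀ e : T, IsIdempotentElem e → e = 0 ∨ e = 1) :
    Function.Bijective (fun γ : Γ => (Algebra.ofId R T).comp (Pi.evalAlgHom R (fun _ : Γ => R) γ)) := by
  classical
  haveI := Fintype.ofFinite Γ
  constructor
  · intro γ γ' h
    by_contra hne
    have := congrArg (fun φ : (Γ → R) →ₐ[R] T => φ (Pi.single γ 1)) h
    simp only [AlgHom.comp_apply, Pi.evalAlgHom_apply, Pi.single_eq_same] at this
    rw [Pi.single_eq_of_ne (Ne.symm hne)] at this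
    simp at this
  · intro f
    have hidem : ∀ γ : Γ, IsIdempotentElem (f (Pi.single γ (1 : R))) := by
      intro γ
      unfold IsIdempotentElem
      rw [← map_mul, ← Pi.single_mul, mul_one]
    have hsum : ∑ γ : Γ, f (Pi.single γ (1 : R)) = 1 := by
      rw [← map_sum, Finset.univ_sum_single]
      exact map_one f
    have hex : ∃ γ₀ : Γ, f (Pi.single γ₀ (1 : R)) ≠ 0 := by
      by_contra hcon
      push Not at hcon
      rw [Finset.sum_congr rfl (fun γ _ => hcon γ), Finset.sum_const_zero] at hsum
      exact zero_ne_one hsum
    obtain ⟨γ₀, hγ₀⟩ := hex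
    have h1 : f (Pi.single γ₀ (1 : R)) = 1 := (hT _ (hidem γ₀)).resolve_left hγ₀
    have h0 : ∀ γ : Γ, γ ≠ γ₀ → f (Pi.single γ (1 : R)) = 0 := by
      intro γ hγ
      have : f (Pi.single γ (1 : R)) * f (Pi.single γ₀ (1 : R)) = 0 := by
        rw [← map_mul]
        have : (Pi.single γ (1 : R) : Γ → R) * Pi.single γ₀ (1 : R) = 0 := by
          ext x
          simp only [Pi.mul_apply, Pi.zero_apply]
          by_cases hx : x = γ
          · subst hx; rw [Pi.single_eq_of_ne hγ, mul_zero]
          · rw [Pi.single_eq_of_ne hx, zero_mul]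
        rw [this, map_zero]
      rwa [h1, mul_one] at this
    refine ⟨γ₀, ?_⟩
    ext g
    simp only [AlgHom.comp_apply, Pi.evalAlgHom_apply]
    have hg : g = ∑ γ : Γ, g γ • (Pi.single γ (1 : R) : Γ → R) := by
      ext x
      simp [Finset.sum_apply, Pi.single_apply]
    conv_rhs => rw [hg]
    rw [map_sum]
    simp only [map_smul]
    rw [Finset.sum_eq_single γ₀]
    · rw [h1, Algebra.ofId_apply, Algebra.algebraMap_eq_smul_one]
    · intro γ _ hγ
      rw [h0 γ hγ, smul_zero]
    · intro h; exact absurd (Finset.mem_univ _) h

end Groth.Agent.S12931
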