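import Groth.Statements.S12932
import Mathlib

set_option autoImplicit false
universe u v
open scoped BigOperators
open InvTh

namespace Groth.Agent.S12932

section aux
variable {B : Type u} [CommRing B] {Γ : Type v} [Group Γ] [Fintype Γ] [MulSemiringAction Γ B]

noncomputable def phi (P : Ideal B) (γ : Γ) : B →* (B ⧸ P) :=
  ((Ideal.Quotient.mk P).comp (MulSemiringAction.toRingHom Γ B γ)).toMonoidHom

theorem phi_apply (P : Ideal B) (γ : Γ) (x : B) : phi P γ x = Ideal.Quotient.mk P (γ • x) := rfl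

theorem phi_eq_iff (P : Ideal B) (γ τ : Γ) : phi P γ = phi P τ ↔ γ * τ⁻¹ ∈ P.inertia Γ := by
  constructor
  · intro h
    refine AddSubgroup.mem_inertia.mpr (fun x => ?_)
    have h1 := DFunLike.congr_fun h (τ⁻¹ • x)
    rw [phi_apply, phi_apply, smul_inv_smul] at h1
    have h2 : (γ * τ⁻¹) • x - x ∈ P := by
      rw [← Ideal.Quotient.eq, mul_smul]; exact h1
    exact h2
  · intro h
    ext x
    have h1 : (γ * τ⁻¹) • (τ • x) - τ • x ∈ P := AddSubgroup.mem_inertia.mp h (τ • x)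
    rw [mul_smul, inv_smul_smul] at h1
    rw [phi_apply, phi_apply]; exact Ideal.Quotient.eq.mpr h1

theorem card_fiber (P : Ideal B) [DecidableEq (B →* B ⧸ P)] (τ : Γ) :
    (Finset.univ.filter (fun γ : Γ => phi P γ = phi P τ)).card = Nat.card (P.inertia Γ) := by
  rw [← Fintype.card_subtype, ← Nat.card_eq_fintype_card]
  exact Nat.card_congr (Equiv.subtypeEquiv (Equiv.mulRight τ⁻¹) (fun γ => phi_eq_iff P γ τ))

theorem sum_phi (P : Ideal B) {M : Type*} [AddCommMonoid M] [DecidableEq (B →* B ⧸ P)]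
    (f' : (B →* B ⧸ P) → M) :
    ∑ γ : Γ, f' (phi P γ) =
      Nat.card (P.inertia Γ) • ∑ s ∈ Finset.univ.image (phi P (Γ := Γ)), f' s := by
  rw [Finset.sum_comp f' (phi P), Finset.smul_sum]
  apply Finset.sum_congr rfl
  intro s hs
  obtain ⟨τ, -, rfl⟩ := Finset.mem_image.mp hs
  rw [card_fiber]

theorem forward (b : B) (hb : ∑ γ : Γ, γ • b = 1) (P : Ideal B) (hP : P.IsPrime) :
    ((Nat.card (P.inertia Γ) : ℕ) : B ⧸ P) ≠ 0 := by
  classical
  have : IsDomain (B ⧸ P) := Ideal.Quotient.isDomain P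
  intro h0
  have h1 : Ideal.Quotient.mk P (∑ γ : Γ, γ • b) = 1 := by rw [hb, map_one]
  rw [map_sum] at h1
  have h2 : ∑ γ : Γ, Ideal.Quotient.mk P (γ • b) =
      Nat.card (P.inertia Γ) • ∑ s ∈ Finset.univ.image (phi P (Γ := Γ)), s b :=
    sum_phi P (fun s : B →* B ⧸ P => s b)
  rw [h2, nsmul_eq_mul, h0, zero_mul] at h1
  exact zero_ne_one h1

theorem exists_trace_notMem (P : Ideal B) (hP : P.IsPrime)
    (hn : ((Nat.card (P.inertia Γ) : ℕ) : B ⧸ P) ≠ 0) : ∃ b : B, ∑ γ : Γ, γ • b ∉ P := by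
  classical
  have : IsDomain (B ⧸ P) := Ideal.Quotient.isDomain P
  by_contra hcon
  push Not at hcon
  have hLI := linearIndependent_monoidHom B (B ⧸ P)
  have hzero : ∀ b : B, ∑ s ∈ Finset.univ.image (phi P (Γ := Γ)), (s b : B ⧸ P) = 0 := by
    intro b
    have h1 : Ideal.Quotient.mk P (∑ γ : Γ, γ • b) = 0 :=
      Ideal.Quotient.eq_zero_iff_mem.mpr (hcon b)
    rw [map_sum] at h1
    have h2 : ∑ γ : Γ, Ideal.Quotient.mk P (γ • b) =
        Nat.card (P.inertia Γ) • ∑ s ∈ Finset.univ.image (phi P (Γ := Γ)), s b :=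
      sum_phi P (fun s : B →* B ⧸ P => s b)
    rw [h2, nsmul_eq_mul] at h1
    exact (mul_eq_zero.mp h1).resolve_left hn
  have h3 := linearIndependent_iff'.mp hLI (Finset.univ.image (phi P (Γ := Γ)))
    (fun _ => (1 : B ⧸ P)) (by
      funext b
      simp only [one_smul, Finset.sum_apply, Pi.zero_apply]
      exact hzero b) (phi P 1) (Finset.mem_image_of_mem _ (Finset.mem_univ _))
  exact one_ne_zero h3

theorem exists_trace_eq_one (h : ∀ P : Ideal B, P.IsPrime → ∃ b : B, ∑ γ : Γ, γ • b ∉ P) :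
    ∃ b : B, ∑ γ : Γ, γ • b = 1 := by
  classical
  let A : Subring B := FixedPoints.subring B Γ
  have : Algebra.IsInvariant A B Γ := ⟨fun b hb => ⟨⟨b, hb⟩, rfl⟩⟩
  have : Algebra.IsIntegral A B := Algebra.IsInvariant.isIntegral A B Γ
  have htr : ∀ b : B, ∑ γ : Γ, γ • b ∈ A := by
    intro b
    show ∀ τ : Γ, τ • ∑ γ : Γ, γ • b = ∑ γ : Γ, γ • b
    intro τ
    rw [Finset.smul_sum]
    simp only [smul_smul]
    exact Fintype.sum_equiv (Equiv.mulLeft τ) _ _ (fun γ => rfl)
  let T : Ideal A :=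
    { carrier := {a | ∃ b : B, ∑ γ : Γ, γ • b = (a : B)}
      zero_mem' := ⟨0, by simp⟩
      add_mem' := by
        rintro a a' ⟨b, hb⟩ ⟨b', hb'⟩
        refine ⟨b + b', ?_⟩
        simp only [smul_add, Finset.sum_add_distrib, hb, hb']
        rfl
      smul_mem' := by
        rintro c a ⟨b, hb⟩
        refine ⟨(c : B) * b, ?_⟩
        have hc : ∀ γ : Γ, γ • (c : B) = c := c.2
        simp only [smul_mul', hc, ← Finset.mul_sum, hb]
        rfl }
  by_cases hT : T = ⊤
  · have h1 : (1 : A) ∈ T := by rw [hT]; trivial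
    obtain ⟨b, hb⟩ := h1
    exact ⟨b, hb⟩
  · exfalso
    obtain ⟨𝔪, h𝔪, hle⟩ := Ideal.exists_le_maximal T hT
    obtain ⟨Q, hQ, hQc⟩ := Ideal.exists_ideal_over_maximal_of_isIntegral (S := B) 𝔪 (by
      intro x hx
      have hx' : (x : B) = 0 := hx
      have hx0 : x = 0 := Subtype.ext hx'
      rw [hx0]; exact zero_mem _)
    obtain ⟨b, hb⟩ := h Q hQ.isPrime
    apply hb
    have h2 : (⟨∑ γ : Γ, γ • b, htr b⟩ : A) ∈ 𝔪 := hle ⟨b, rfl⟩
    rw [← hQc] at h2
    exact h2

end aux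


/-- Let `B` be a commutative ring with an action of a finite group `Γ` by ring automorphisms, and call a
prime ideal `P` of `B` tame when the order of its inertia group `{γ | γ • x - x ∈ P for all x}` is
not divisible by the characteristic of `B/P` (its ramification group is trivial). Then every prime
of `B` is tame if and only if the trace `b ↦ Σ_γ γ • b`, which takes values in the invariant ring
`B^Γ` and is `B^Γ`-linear, is onto `B^Γ` — equivalently, some element of `B` has trace `1`. -/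
theorem result
    (B : Type u) [CommRing B] (Γ : Type v) [Group Γ] [Fintype Γ] [MulSemiringAction Γ B] :
    (∃ b : B, ∑ γ : Γ, γ • b = 1) ↔
      ∀ P : Ideal B, P.IsPrime → ((Nat.card (P.inertia Γ) : ℕ) : B ⧸ P) ≠ 0 := by
  constructor
  · rintro ⟨b, hb⟩ P hP
    exact forward b hb P hP
  · intro h
    exact exists_trace_eq_one (fun P hP => exists_trace_notMem P hP (h P hP))

end Groth.Agent.S12932
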