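import Groth.Statements.S12933
import Mathlib

set_option autoImplicit false
universe u v w w'
open TensorProduct
open InvTh

namespace Groth.Agent.S12933

/-- Let `R` be a commutative ring, `B` a commutative `R`-algebra with an action of a finite group `Γ` by
`R`-algebra automorphisms, and `R'` a flat commutative `R`-algebra; let `Γ` act on `R' ⊗_R B`
through the factor `B`. Then an element of `R' ⊗_R B` is fixed by every element of `Γ` if and only
if it lies in the `R'`-submodule spanned by the tensors `1 ⊗ b` with `b ∈ B^Γ`: taking invariants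
commutes with flat base change (the map `R' ⊗_R B^Γ → R' ⊗_R B` being moreover injective by
flatness). -/
theorem result
    (R : Type u) [CommRing R] (B : Type v) [CommRing B] [Algebra R B]
    (Γ : Type w) [Group Γ] [Finite Γ] [MulSemiringAction Γ B] [SMulCommClass Γ R B]
    (R' : Type w') [CommRing R'] [Algebra R R'] [Module.Flat R R']
    (x : R' ⊗[R] B) :
    (∀ γ : Γ, Algebra.TensorProduct.map (AlgHom.id R R') (MulSemiringAction.toAlgHom R B γ) x = x) ↔
      x ∈ Submodule.span R' ((fun b : B => (1 : R') ⊗ₜ[R] b) '' {b : B | ∀ γ : Γ, γ • b = b}) := by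
  classical
  haveI : Fintype Γ := Fintype.ofFinite Γ
  let gγ : Γ → (B →ₗ[R] B) := fun γ =>
    (MulSemiringAction.toAlgHom R B γ).toLinearMap - LinearMap.id
  let g : B →ₗ[R] (Γ → B) := LinearMap.pi gγ
  have hgγ : ∀ (γ : Γ) (y : R' ⊗[R] B), (gγ γ).lTensor R' y =
      Algebra.TensorProduct.map (AlgHom.id R R') (MulSemiringAction.toAlgHom R B γ) y - y := by
    intro γ y
    induction y using TensorProduct.induction_on with
    | zero => simp
    | tmul r b => simp [gγ, TensorProduct.tmul_sub]
    | add a b ha hb => rw [map_add, map_add, ha, hb]; abel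
  have hpi : ∀ y : R' ⊗[R] B,
      TensorProduct.piRight R R R' (fun _ : Γ => B) (g.lTensor R' y) =
        fun γ => (gγ γ).lTensor R' y := by
    intro y
    induction y using TensorProduct.induction_on with
    | zero => funext γ; simp
    | tmul r b =>
      rw [LinearMap.lTensor_tmul, TensorProduct.piRight_apply]
      funext γ
      simp [g]
    | add a b ha hb => rw [map_add, map_add, ha, hb]; funext γ; simp
  have hrange : ∀ t : R' ⊗[R] ↥(LinearMap.ker g), (LinearMap.ker g).subtype.lTensor R' t ∈
      Submodule.span R' ((fun b : B => (1 : R') ⊗ₜ[R] b) '' {b : B | ∀ γ : Γ, γ • b = b}) := by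
    intro t
    induction t using TensorProduct.induction_on with
    | zero => simp
    | tmul r k =>
      rw [LinearMap.lTensor_tmul]
      have h1 : r ⊗ₜ[R] ((LinearMap.ker g).subtype k) = r • ((1 : R') ⊗ₜ[R] (k : B)) := by
        rw [TensorProduct.smul_tmul', smul_eq_mul, mul_one, Submodule.subtype_apply]
      rw [h1]
      apply Submodule.smul_mem
      apply Submodule.subset_span
      refine ⟨k, ?_, rfl⟩
      intro γ
      have hk := LinearMap.mem_ker.1 k.2
      have h2 := congrFun hk γ
      simp [g, gγ, sub_eq_zero] at h2
      exact h2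
    | add a b ha hb => rw [map_add]; exact Submodule.add_mem _ ha hb
  constructor
  · intro hfix
    have h0 : g.lTensor R' x = 0 := by
      apply (TensorProduct.piRight R R R' (fun _ : Γ => B)).injective
      rw [hpi, map_zero]
      funext γ
      rw [hgγ, hfix γ, sub_self]
      rfl
    have hex := Module.Flat.lTensor_exact R' (LinearMap.exact_subtype_ker_map g)
    obtain ⟨t, ht⟩ := (hex x).1 h0
    rw [← ht]
    exact hrange t
  · intro hx γ
    induction hx using Submodule.span_induction with
    | mem y hy =>
      obtain ⟨b, hb, rfl⟩ := hy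
      simp [hb γ]
    | zero => simp
    | add a b _ _ ha hb => rw [map_add, ha, hb]
    | smul r y _ hy =>
      rw [Algebra.smul_def, map_mul, hy]
      congr 1
      rw [Algebra.TensorProduct.algebraMap_apply]
      simp

end Groth.Agent.S12933
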