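import Groth.Statements.S12934
import Mathlib

set_option autoImplicit false
universe u v
open InvTh

namespace Groth.Agent.S12934


section Helpers
open IsLocalRing
variable {B : Type u} [CommRing B] [IsLocalRing B] {Γ : Type v} [Group Γ] [MulSemiringAction Γ B]

noncomputable def chi (hst : ∀ (γ : Γ) (b : B), ∃ u : B, γ • b = b * u) (b : B) (γ : Γ) :
    ResidueField B :=
  residue B (Classical.choose (hst γ b))

theorem chi_eq (hst : ∀ (γ : Γ) (b : B), ∃ u : B, γ • b = b * u) {b : B} (hb : b ≠ 0) {γ : Γ}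
    {u : B} (h : γ • b = b * u) : chi hst b γ = residue B u := by
  have h1 := Classical.choose_spec (hst γ b)
  show residue B (Classical.choose (hst γ b)) = residue B u
  generalize Classical.choose (hst γ b) = v at h1
  have h2 : b * (v - u) = 0 := by
    rw [mul_sub, sub_eq_zero]; exact h1.symm.trans h
  have h3 : v - u ∈ maximalIdeal B := by
    by_contra hn
    have hu : IsUnit (v - u) := notMem_maximalIdeal.1 hn
    exact hb ((hu.mul_left_eq_zero).1 h2)
  have h4 : residue B (v - u) = 0 := (residue_eq_zero_iff _).2 h3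
  rw [map_sub, sub_eq_zero] at h4
  exact h4

theorem residue_smul (hin : ∀ (γ : Γ) (b : B), γ • b - b ∈ maximalIdeal B) (γ : Γ) (b : B) :
    residue B (γ • b) = residue B b := by
  have := (residue_eq_zero_iff _).2 (hin γ b)
  rwa [map_sub, sub_eq_zero] at this

theorem chi_mul (hin : ∀ (γ : Γ) (b : B), γ • b - b ∈ maximalIdeal B)
    (hst : ∀ (γ : Γ) (b : B), ∃ u : B, γ • b = b * u) {b : B} (hb : b ≠ 0) (γ δ : Γ) :
    chi hst b (γ * δ) = chi hst b γ * chi hst b δ := by
  obtain ⟨u, hu⟩ := hst γ b
  obtain ⟨w, hw⟩ := hst δ b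
  have h3 : (γ * δ) • b = b * (u * γ • w) := by
    rw [mul_smul, hw, smul_mul', hu, mul_assoc]
  rw [chi_eq hst hb h3, chi_eq hst hb hu, chi_eq hst hb hw, map_mul, residue_smul hin]

theorem chi_one (hst : ∀ (γ : Γ) (b : B), ∃ u : B, γ • b = b * u) {b : B} (hb : b ≠ 0) :
    chi hst b 1 = 1 := by
  have h : (1 : Γ) • b = b * 1 := by rw [one_smul, mul_one]
  rw [chi_eq hst hb h, map_one]

theorem chi_pow (hin : ∀ (γ : Γ) (b : B), γ • b - b ∈ maximalIdeal B)
    (hst : ∀ (γ : Γ) (b : B), ∃ u : B, γ • b = b * u) {b : B} (hb : b ≠ 0) (γ : Γ) (n : ℕ) :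
    chi hst b (γ ^ n) = chi hst b γ ^ n := by
  induction n with
  | zero => rw [pow_zero, pow_zero, chi_one hst hb]
  | succ n ih => rw [pow_succ, pow_succ, chi_mul hin hst hb, ih]

theorem eq_one_of (hin : ∀ (γ : Γ) (b : B), γ • b - b ∈ maximalIdeal B) [FaithfulSMul Γ B]
    {γ : Γ} (hγ : ∀ b : B, ∃ x ∈ maximalIdeal B, γ • b = b + b * x) {N : ℕ} (hN : γ ^ N = 1)
    (hNu : IsUnit (N : B)) : γ = 1 := by
  apply eq_of_smul_eq_smul (α := B)
  intro b
  rw [one_smul]
  obtain ⟨x, hx, hbx⟩ := hγ b
  obtain ⟨y, hy, hxy⟩ := hγ x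
  have key : ∀ i : ℕ, ∃ w : B, w - (i : B) ∈ maximalIdeal B ∧ γ ^ i • b = b * (1 + x * w) := by
    intro i
    induction i with
    | zero => exact ⟨0, by simp, by simp⟩
    | succ i ih =>
      obtain ⟨w, hw, hwi⟩ := ih
      refine ⟨1 + (1 + y) * γ • w + x * (1 + y) * γ • w, ?_, ?_⟩
      · have e : 1 + (1 + y) * γ • w + x * (1 + y) * γ • w - ((i + 1 : ℕ) : B)
            = (γ • w - w) + (w - (i : B)) + y * γ • w + x * ((1 + y) * γ • w) := by
          push_cast; ring
        rw [e]
        exact Ideal.add_mem _ (Ideal.add_mem _ (Ideal.add_mem _ (hin γ w) hw)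
          (Ideal.mul_mem_right _ _ hy)) (Ideal.mul_mem_right _ _ hx)
      · rw [pow_succ', mul_smul, hwi, smul_mul', smul_add, smul_one, smul_mul', hbx, hxy]
        ring
  obtain ⟨w, hw, hwN⟩ := key N
  rw [hN, one_smul] at hwN
  have hwu : IsUnit w := by
    apply notMem_maximalIdeal.1
    intro hwm
    have h1 : (N : B) ∈ maximalIdeal B := by
      have := Ideal.sub_mem _ hwm hw
      rwa [sub_sub_cancel] at this
    exact (notMem_maximalIdeal.2 hNu) h1
  have h0 : b * x * w = 0 := by linear_combination (-1 : B) * hwN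
  have h1 : b * x = 0 := (hwu.mul_left_eq_zero).1 h0
  rw [hbx, h1, add_zero]

end Helpers


/-- Let `B` be a local commutative ring with maximal ideal `m` and residue field `k`, and `Γ` a finite
group acting faithfully on `B` by ring automorphisms, such that every element of `Γ` acts trivially
modulo `m` (the whole group is inertia) and maps each principal ideal of `B` into itself (every
ideal is stable). Let `S ⊆ Γ` be the set of `γ` with `γ b ∈ b + b m` for all `b`. Then: if `k` has
characteristic `0`, `S = {1}`; if `k` has characteristic `p > 0`, `S` is (the underlying set of) a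
Sylow `p`-subgroup; every commutator of `Γ` lies in `S`, so `Γ/S` is abelian; and whenever the class
of `γ` in `Γ/S` has order `n` (`γ^n ∈ S`, no smaller positive power in `S`), `k` contains a
primitive `n`-th root of unity. (The published statement also bounds the number of generators of
`Γ/S` by the number of generators of the monoid of principal ideals; that clause is not included.) -/
theorem result
    (B : Type u) [CommRing B] [IsLocalRing B]
    (Γ : Type v) [Group Γ] [Finite Γ] [MulSemiringAction Γ B] [FaithfulSMul Γ B]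
    (hin : ∀ (γ : Γ) (b : B), γ • b - b ∈ IsLocalRing.maximalIdeal B)
    (hst : ∀ (γ : Γ) (b : B), ∃ u : B, γ • b = b * u)
    (S : Set Γ)
    (hS : ∀ γ : Γ, γ ∈ S ↔ ∀ b : B, ∃ x ∈ IsLocalRing.maximalIdeal B, γ • b = b + b * x) :
    (ringChar (IsLocalRing.ResidueField B) = 0 → S = {1}) ∧
      (∀ (p : ℕ) [Fact p.Prime], ringChar (IsLocalRing.ResidueField B) = p →
        ∃ Q : Sylow p Γ, (Q : Set Γ) = S) ∧
      (∀ γ δ : Γ, γ * δ * γ⁻¹ * δ⁻¹ ∈ S) ∧
      (∀ (γ : Γ) (n : ℕ), 0 < n → γ ^ n ∈ S → (∀ i : ℕ, 0 < i → i < n → γ ^ i ∉ S) →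
        ∃ ζ : IsLocalRing.ResidueField B, IsPrimitiveRoot ζ n) := by
  classical
  have hSchi : ∀ γ : Γ, γ ∈ S ↔ ∀ b : B, b ≠ 0 → chi hst b γ = 1 := by
    intro γ
    rw [hS]
    constructor
    · intro h b hb
      obtain ⟨x, hx, hbx⟩ := h b
      have h1 : γ • b = b * (1 + x) := by rw [hbx]; ring
      rw [chi_eq hst hb h1, map_add, map_one, (IsLocalRing.residue_eq_zero_iff _).2 hx, add_zero]
    · intro h b
      by_cases hb : b = 0
      · subst hb
        exact ⟨0, Ideal.zero_mem _, by simp⟩
      · obtain ⟨u, hu⟩ := hst γ b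
        have h1 := h b hb
        rw [chi_eq hst hb hu] at h1
        refine ⟨u - 1, ?_, by rw [hu]; ring⟩
        rw [← IsLocalRing.residue_eq_zero_iff, map_sub, map_one, h1, sub_self]
  have hinv : ∀ (γ : Γ) (b : B), b ≠ 0 → chi hst b γ⁻¹ * chi hst b γ = 1 := fun γ b hb => by
    rw [← chi_mul hin hst hb, inv_mul_cancel, chi_one hst hb]
  have hone : (1 : Γ) ∈ S := (hS 1).2 (fun b => ⟨0, Ideal.zero_mem _, by simp⟩)
  refine ⟨?_, ?_, ?_, ?_⟩
  · intro h0
    haveI : CharP (IsLocalRing.ResidueField B) 0 := ringChar.of_eq h0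
    haveI : CharZero (IsLocalRing.ResidueField B) := CharP.charP_to_charZero _
    ext γ
    simp only [Set.mem_singleton_iff]
    constructor
    · intro hγ
      have hγ' := (hS γ).1 hγ
      have hord : 0 < orderOf γ := orderOf_pos γ
      apply eq_one_of hin hγ' (pow_orderOf_eq_one γ)
      apply IsLocalRing.notMem_maximalIdeal.1
      intro hm
      have h1 := (IsLocalRing.residue_eq_zero_iff _).2 hm
      rw [map_natCast] at h1
      exact hord.ne' (Nat.cast_eq_zero.1 h1)
    · rintro rfl
      exact hone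
  · intro p hp hchar
    haveI : CharP (IsLocalRing.ResidueField B) p := ringChar.of_eq hchar
    let Q : Subgroup Γ :=
      { carrier := S
        one_mem' := hone
        mul_mem' := fun {a c} ha hc => (hSchi _).2 (fun b hb => by
          rw [chi_mul hin hst hb, (hSchi _).1 ha b hb, (hSchi _).1 hc b hb, one_mul])
        inv_mem' := fun {a} ha => (hSchi _).2 (fun b hb => by
          have h1 := hinv a b hb
          rw [(hSchi _).1 ha b hb, mul_one] at h1
          exact h1) }
    refine ⟨⟨Q, ?_, ?_⟩, rfl⟩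
    · rintro ⟨g, hg⟩
      have hord : orderOf g ≠ 0 := (orderOf_pos g).ne'
      obtain ⟨a, N', hN', hN⟩ := Nat.exists_eq_pow_mul_and_not_dvd hord p hp.out.ne_one
      refine ⟨a, ?_⟩
      apply Subtype.ext
      rw [Subgroup.coe_pow, Subgroup.coe_one]
      show g ^ p ^ a = 1
      have hmem : g ^ p ^ a ∈ S := Q.pow_mem hg _
      apply eq_one_of hin ((hS _).1 hmem) (N := N')
      · rw [← pow_mul, ← hN, pow_orderOf_eq_one]
      · apply IsLocalRing.notMem_maximalIdeal.1
        intro hm
        have h1 := (IsLocalRing.residue_eq_zero_iff _).2 hm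
        rw [map_natCast, CharP.cast_eq_zero_iff (IsLocalRing.ResidueField B) p] at h1
        exact hN' h1
    · intro Q' hQ' hle
      refine le_antisymm ?_ hle
      intro q hq
      obtain ⟨j, hj⟩ := hQ' ⟨q, hq⟩
      have hj' : q ^ p ^ j = 1 := by
        have := congrArg Subtype.val hj
        simpa using this
      show q ∈ S
      rw [hSchi]
      intro b hb
      have h1 : chi hst b q ^ p ^ j = 1 := by rw [← chi_pow hin hst hb, hj', chi_one hst hb]
      have h2 : (chi hst b q - 1) ^ p ^ j = 0 := by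
        rw [sub_pow_char_pow, h1, one_pow, sub_self]
      exact sub_eq_zero.1 ((pow_eq_zero_iff (pow_ne_zero _ hp.out.ne_zero)).1 h2)
  · intro γ δ
    rw [hSchi]
    intro b hb
    rw [chi_mul hin hst hb, chi_mul hin hst hb, chi_mul hin hst hb]
    have h1 := hinv γ b hb
    have h2 := hinv δ b hb
    calc chi hst b γ * chi hst b δ * chi hst b γ⁻¹ * chi hst b δ⁻¹
        = (chi hst b γ⁻¹ * chi hst b γ) * (chi hst b δ⁻¹ * chi hst b δ) := by ring
      _ = 1 := by rw [h1, h2, one_mul]
  · intro γ n hn hγn hmin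
    haveI : NeZero n := ⟨hn.ne'⟩
    obtain ⟨ζ, hζ⟩ := IsCyclic.exists_generator (α := rootsOfUnity n (IsLocalRing.ResidueField B))
    have hcard : orderOf ζ = Nat.card (rootsOfUnity n (IsLocalRing.ResidueField B)) :=
      orderOf_eq_card_of_forall_mem_zpowers hζ
    have hdpos : 0 < orderOf ζ := orderOf_pos ζ
    have hdn : orderOf ζ ∣ n := by
      apply orderOf_dvd_of_pow_eq_one
      apply Subtype.ext
      have := (mem_rootsOfUnity n _).1 ζ.2
      simpa using this
    have hall : ∀ b : B, b ≠ 0 → chi hst b γ ^ orderOf ζ = 1 := by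
      intro b hb
      have hc : chi hst b γ ^ n = 1 := by
        rw [← chi_pow hin hst hb]; exact (hSchi _).1 hγn b hb
      have h1 := pow_card_eq_one' (G := rootsOfUnity n (IsLocalRing.ResidueField B))
        (x := rootsOfUnity.mkOfPowEq _ hc)
      rw [← hcard] at h1
      have h2 := congrArg (fun z : rootsOfUnity n (IsLocalRing.ResidueField B) =>
        ((z : (IsLocalRing.ResidueField B)ˣ) : IsLocalRing.ResidueField B)) h1
      simpa using h2
    have hγd : γ ^ orderOf ζ ∈ S := by
      rw [hSchi]; intro b hb; rw [chi_pow hin hst hb]; exact hall b hb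
    have hdn' : orderOf ζ = n := by
      rcases lt_or_ge (orderOf ζ) n with hlt | hge
      · exact absurd hγd (hmin _ hdpos hlt)
      · exact le_antisymm (Nat.le_of_dvd hn hdn) hge
    refine ⟨((ζ : (IsLocalRing.ResidueField B)ˣ) : IsLocalRing.ResidueField B), ?_⟩
    have h3 : orderOf (((ζ : (IsLocalRing.ResidueField B)ˣ) : IsLocalRing.ResidueField B))
        = orderOf ζ := by
      rw [orderOf_units, Subgroup.orderOf_coe]
    have h4 := IsPrimitiveRoot.orderOf
      (((ζ : (IsLocalRing.ResidueField B)ˣ) : IsLocalRing.ResidueField B))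
    rw [h3, hdn'] at h4
    exact h4

end Groth.Agent.S12934
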