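import Groth.Statements.S12936
import Mathlib

set_option autoImplicit false
universe u v
open InvTh

namespace Groth.Agent.S12936

/-- Let `B` be a commutative ring with an action of a finite group `Γ` by ring automorphisms and `P` a
maximal ideal of `B`, with decomposition group `D_P = {γ | γP = P}` and decomposition ring `D =
B^{D_P}`. Then `D = B^Γ + (P ∩ D)`: every element of `B` fixed by `D_P` is congruent modulo `P` to a
`Γ`-invariant element. Hence the residue field of `D` at `P ∩ D` is that of `B^Γ` at `P ∩ B^Γ`; for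
an arbitrary prime `P` the same equality of residue fields follows by localising at `P ∩ B^Γ`. (The
published statement prints this residue field as `k(P)`; the proof establishes the equality with the
residue field of `B^Γ` stated here.) -/
theorem result
    (B : Type u) [CommRing B] (Γ : Type v) [Group Γ] [Finite Γ] [MulSemiringAction Γ B]
    (P : Ideal B) [P.IsMaximal] (x : B)
    (hx : ∀ γ : Γ, (∀ y : B, y ∈ P ↔ γ • y ∈ P) → γ • x = x) :
    ∃ c : B, (∀ γ : Γ, γ • c = c) ∧ x - c ∈ P := by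
  classical
  haveI : Fintype Γ := Fintype.ofFinite Γ
  let D : Subgroup Γ :=
    { carrier := {γ | ∀ y : B, y ∈ P ↔ γ • y ∈ P}
      one_mem' := fun y => by rw [one_smul]
      mul_mem' := fun {a b} ha hb y => by rw [mul_smul]; exact (hb y).trans (ha (b • y))
      inv_mem' := fun {a} ha y => by
        have h := ha (a⁻¹ • y)
        rw [smul_inv_smul] at h
        exact h.symm }
  have hDmem : ∀ γ : Γ, γ ∈ D ↔ ∀ y : B, y ∈ P ↔ γ • y ∈ P := fun γ => Iff.rfl
  let Q : Γ → Ideal B := fun γ => P.comap (MulSemiringAction.toRingHom Γ B γ)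
  have hQmem : ∀ (γ : Γ) (b : B), b ∈ Q γ ↔ γ • b ∈ P := fun γ b => Iff.rfl
  have hQmax : ∀ γ : Γ, (Q γ).IsMaximal := fun γ =>
    Ideal.comap_isMaximal_of_surjective (MulSemiringAction.toRingHom Γ B γ)
      (fun b => ⟨γ⁻¹ • b, smul_inv_smul γ b⟩)
  have hQne : ∀ γ : Γ, γ ∉ D → P ≠ Q γ := by
    intro γ hγ hPQ
    apply hγ
    rw [hDmem]
    intro y
    exact (Ideal.ext_iff.1 hPQ y).trans (hQmem γ y)
  have htop : P ⊔ ⨅ γ ∈ (Finset.univ.filter (fun γ : Γ => γ ∉ D)), Q γ = ⊤ := by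
    apply Ideal.sup_iInf_eq_top
    intro γ hγ
    rw [Finset.mem_filter] at hγ
    exact Ideal.IsMaximal.coprime_of_ne ‹P.IsMaximal› (hQmax γ) (hQne γ hγ.2)
  have h1top : (1 : B) ∈ P ⊔ ⨅ γ ∈ (Finset.univ.filter (fun γ : Γ => γ ∉ D)), Q γ := by
    rw [htop]; exact Submodule.mem_top
  obtain ⟨p, hp, z, hz, hpz⟩ := Submodule.mem_sup.1 h1top
  have hzQ : ∀ γ : Γ, γ ∉ D → γ • z ∈ P := by
    intro γ hγ
    rw [Ideal.mem_iInf] at hz
    have h := hz γ
    rw [Ideal.mem_iInf] at h
    exact h (Finset.mem_filter.2 ⟨Finset.mem_univ _, hγ⟩)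
  have hz1 : z - 1 ∈ P := by
    have h : z - 1 = -p := by rw [← hpz]; ring
    rw [h]; exact P.neg_mem hp
  obtain ⟨w, hwdef⟩ : ∃ w : B, w = ∏ δ : D, (δ : Γ) • z := ⟨_, rfl⟩
  have hw1 : w - 1 ∈ P := by
    rw [← Ideal.Quotient.eq, map_one, hwdef, map_prod]
    apply Finset.prod_eq_one
    intro δ _
    rw [← map_one (Ideal.Quotient.mk P), Ideal.Quotient.eq]
    have h := ((hDmem _).1 δ.2 (z - 1)).1 hz1
    rwa [smul_sub, smul_one] at h
  have hwD : ∀ τ : Γ, τ ∈ D → τ • w = w := by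
    intro τ hτ
    rw [hwdef, Finset.smul_prod']
    exact Fintype.prod_equiv (Equiv.mulLeft (⟨τ, hτ⟩ : D)) _ _ (fun δ => by
      simp [mul_smul])
  have hwQ : ∀ γ : Γ, γ ∉ D → γ • w ∈ P := by
    intro γ hγ
    have hdvd : z ∣ w := by
      have h := Finset.dvd_prod_of_mem (fun δ : D => (δ : Γ) • z) (Finset.mem_univ (1 : D))
      rw [hwdef]
      simpa using h
    obtain ⟨v, hv⟩ := hdvd
    rw [hv, smul_mul']
    exact P.mul_mem_right _ (hzQ γ hγ)
  have hyD : ∀ τ : Γ, τ ∈ D → τ • (x * w) = x * w := by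
    intro τ hτ
    rw [smul_mul', hx τ ((hDmem τ).1 hτ), hwD τ hτ]
  have hyQ : ∀ γ : Γ, γ ∉ D → γ • (x * w) ∈ P := by
    intro γ hγ
    rw [smul_mul']
    exact P.mul_mem_left _ (hwQ γ hγ)
  have hy1 : x * w - x ∈ P := by
    have h : x * w - x = x * (w - 1) := by ring
    rw [h]; exact P.mul_mem_left _ hw1
  haveI : Fintype (Γ ⧸ D) := Fintype.ofFinite _
  let F : Γ ⧸ D → B := fun q => Quotient.liftOn' q (fun σ => σ • (x * w)) (fun a b hab => by
    have h1 : a⁻¹ * b ∈ D := QuotientGroup.leftRel_apply.1 hab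
    have h2 : b • (x * w) = a • ((a⁻¹ * b) • (x * w)) := by
      rw [← mul_smul, mul_inv_cancel_left]
    show a • (x * w) = b • (x * w)
    rw [h2, hyD _ h1])
  have hFmk : ∀ σ : Γ, F (QuotientGroup.mk σ) = σ • (x * w) := fun σ => rfl
  have hFsmul : ∀ (γ : Γ) (q : Γ ⧸ D), γ • F q = F (γ • q) := by
    intro γ q
    induction q using QuotientGroup.induction_on with
    | H σ =>
      rw [hFmk, MulAction.Quotient.smul_mk, hFmk, smul_eq_mul, mul_smul]
  refine ⟨∑ q, F q, ?_, ?_⟩
  · intro γ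
    rw [Finset.smul_sum]
    simp_rw [hFsmul γ]
    exact Equiv.sum_comp (MulAction.toPerm γ) F
  · have hsum := Finset.add_sum_erase Finset.univ F
      (Finset.mem_univ (QuotientGroup.mk 1 : Γ ⧸ D))
    have hS : ∑ q ∈ Finset.univ.erase (QuotientGroup.mk 1 : Γ ⧸ D), F q ∈ P := by
      apply Ideal.sum_mem
      intro q hq
      rw [Finset.mem_erase] at hq
      induction q using QuotientGroup.induction_on with
      | H σ =>
        rw [hFmk]
        apply hyQ
        intro hσ
        apply hq.1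
        symm
        rw [QuotientGroup.eq]
        simpa using hσ
    have h3 : x - ∑ q, F q =
        -(x * w - x) - ∑ q ∈ Finset.univ.erase (QuotientGroup.mk 1 : Γ ⧸ D), F q := by
      rw [← hsum, hFmk, one_smul]; ring
    rw [h3]
    exact P.sub_mem (P.neg_mem hy1) hS

end Groth.Agent.S12936
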