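import Groth.Statements.S13041
import Mathlib

set_option autoImplicit false
universe u
open MaxMod

namespace Groth.Agent.S13041

/-- Let R be a domain with fraction field K, let A → B be a homomorphism of commutative R-algebras that
are flat over R, with B module-finite over A, such that the induced map K ⊗_R A → K ⊗_R B is
bijective. If the A-linear map Hom_A(B, A) → A evaluating at 1 is surjective, then A → B is
bijective. (The published statement concerns a finite morphism of flat schemes over a discrete
valuation ring, with locally free relative dualizing sheaves, that is an isomorphism over a
schematically dense open and whose trace map on dualizing sheaves is surjective; this row is the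
statement about rings to which the printed proof reduces it and which that proof establishes, and
the argument uses only that R is a domain.) -/
theorem result
    (R K A B : Type u) [CommRing R] [IsDomain R] [Field K] [Algebra R K] [IsFractionRing R K]
    [CommRing A] [CommRing B] [Algebra R A] [Algebra R B] [Algebra A B] [IsScalarTower R A B]
    [Module.Flat R A] [Module.Flat R B] [Module.Finite A B]
    (hK : Function.Bijective
      (Algebra.TensorProduct.map (AlgHom.id R K) (IsScalarTower.toAlgHom R A B)))
    (htr : Function.Surjective (fun u : B →ₗ[A] A => u 1)) :
    Function.Bijective (algebraMap A B) := by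
  obtain ⟨u, hu⟩ := htr 1
  simp only at hu
  have hleft : ∀ a : A, u (algebraMap A B a) = a := by
    intro a
    rw [Algebra.algebraMap_eq_smul_one, map_smul, hu, smul_eq_mul, mul_one]
  have hker : ∀ b : B, u b = 0 → b = 0 := by
    intro b hb
    let uR : B →ₗ[R] A := u.restrictScalars R
    obtain ⟨t, ht⟩ := hK.2 (TensorProduct.tmul R (1 : K) b)
    have h1 : ∀ t : TensorProduct R K A, (LinearMap.lTensor K uR)
        (Algebra.TensorProduct.map (AlgHom.id R K) (IsScalarTower.toAlgHom R A B) t) = t := by
      intro t
      induction t using TensorProduct.induction_on with
      | zero => simp
      | tmul c a => simp [uR, hleft]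
      | add x y hx hy => rw [map_add, map_add, hx, hy]
    have h2 : t = 0 := by
      rw [← h1 t, ht, LinearMap.lTensor_tmul]
      show TensorProduct.tmul R (1 : K) (u b) = 0
      rw [hb, TensorProduct.tmul_zero]
    rw [h2, map_zero] at ht
    have hinj : Function.Injective ((Algebra.linearMap R K).rTensor B) :=
      Module.Flat.rTensor_preserves_injective_linearMap _ (IsFractionRing.injective R K)
    have h3 : ((Algebra.linearMap R K).rTensor B) (TensorProduct.tmul R (1 : R) b) = 0 := by
      rw [LinearMap.rTensor_tmul, Algebra.linearMap_apply, map_one]
      exact ht.symm
    have h4 : TensorProduct.tmul R (1 : R) b = 0 := hinj (by rw [h3, map_zero])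
    have h5 := congrArg (TensorProduct.lid R B) h4
    simpa using h5
  constructor
  · exact Function.LeftInverse.injective hleft
  · intro b
    refine ⟨u b, ?_⟩
    have h := hker (b - algebraMap A B (u b)) (by rw [map_sub, hleft, sub_self])
    exact (sub_eq_zero.1 h).symm

end Groth.Agent.S13041
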