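import Groth.Statements.S13042
import Mathlib

set_option autoImplicit false
universe u
open MaxMod

namespace Groth.Agent.S13042


open MvPolynomial in
theorem extTwo {R : Type*} [CommRing R] {S : Type*} [CommRing S] [Algebra R S]
    (I : Ideal (MvPolynomial (Fin 2) R))
    (Φ Ψ : (MvPolynomial (Fin 2) R ⧸ I) →ₐ[R] S)
    (h0 : Φ (Ideal.Quotient.mk I (X 0)) = Ψ (Ideal.Quotient.mk I (X 0)))
    (h1 : Φ (Ideal.Quotient.mk I (X 1)) = Ψ (Ideal.Quotient.mk I (X 1))) : Φ = Ψ := by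
  apply Ideal.Quotient.algHom_ext R
  apply MvPolynomial.algHom_ext
  intro i
  fin_cases i
  · exact h0
  · exact h1

open MvPolynomial in
theorem main (p : ℕ) [Fact p.Prime] (R : Type u) [CommRing R] [CharP R p] (lam f ε : R)
    (hε : (1 + lam ^ p * f) * ε = 1)
    (I₁ I₂ : Ideal (MvPolynomial (Fin 2) R))
    (hI₁ : I₁ = Ideal.span {(X 0 ^ p - C f : MvPolynomial (Fin 2) R), X 1 ^ p - C f})
    (hI₂ : I₂ = Ideal.span {(X 0 ^ p : MvPolynomial (Fin 2) R), X 1 ^ p - C f}) :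
    ∃ e : (MvPolynomial (Fin 2) R ⧸ I₁) ≃ₐ[R] (MvPolynomial (Fin 2) R ⧸ I₂),
      e (Ideal.Quotient.mk _ (X 0)) = Ideal.Quotient.mk _ (X 0 + X 1 + C lam * X 0 * X 1) ∧
      e (Ideal.Quotient.mk _ (X 1)) = Ideal.Quotient.mk _ (X 1) := by
  classical
  have hpp : p.Prime := Fact.out
  obtain ⟨q, hq⟩ : ∃ q : MvPolynomial (Fin 2) R, q = X 0 + X 1 + C lam * X 0 * X 1 := ⟨_, rfl⟩
  obtain ⟨T, hT⟩ : ∃ T : MvPolynomial (Fin 2) R,
      T = (X 0 - X 1) * ((1 + C lam * X 1) ^ (p - 1) * C ε) := ⟨_, rfl⟩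
  have hA : q ^ p = X 0 ^ p + X 1 ^ p + C (lam ^ p) * X 0 ^ p * X 1 ^ p := by
    rw [hq, add_pow_char, add_pow_char, mul_pow, mul_pow, ← C_pow]
  have hB : ((1 + C lam * X 1 : MvPolynomial (Fin 2) R)) ^ p = 1 + C (lam ^ p) * X 1 ^ p := by
    rw [add_pow_char, one_pow, mul_pow, ← C_pow]
  have hC : ((X 0 - X 1 : MvPolynomial (Fin 2) R)) ^ p = X 0 ^ p - X 1 ^ p := by
    rw [sub_pow_char]
  have hpow : ((1 + C lam * X 1 : MvPolynomial (Fin 2) R)) * (1 + C lam * X 1) ^ (p - 1) =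
      (1 + C lam * X 1) ^ p := by
    rw [← pow_succ', Nat.sub_add_cancel hpp.one_le]
  -- relations in the quotients
  have h20 : Ideal.Quotient.mk I₂ (X 0 ^ p) = 0 :=
    Ideal.Quotient.eq_zero_iff_mem.2 (by rw [hI₂]; exact Ideal.subset_span (Set.mem_insert _ _))
  have h21 : Ideal.Quotient.mk I₂ (X 1 ^ p) = Ideal.Quotient.mk I₂ (C f) := by
    have h : Ideal.Quotient.mk I₂ (X 1 ^ p - C f) = 0 :=
      Ideal.Quotient.eq_zero_iff_mem.2
        (by rw [hI₂]; exact Ideal.subset_span (Set.mem_insert_of_mem _ rfl))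
    rwa [map_sub, sub_eq_zero] at h
  have h10 : Ideal.Quotient.mk I₁ (X 0 ^ p) = Ideal.Quotient.mk I₁ (C f) := by
    have h : Ideal.Quotient.mk I₁ (X 0 ^ p - C f) = 0 :=
      Ideal.Quotient.eq_zero_iff_mem.2 (by rw [hI₁]; exact Ideal.subset_span (Set.mem_insert _ _))
    rwa [map_sub, sub_eq_zero] at h
  have h11 : Ideal.Quotient.mk I₁ (X 1 ^ p) = Ideal.Quotient.mk I₁ (C f) := by
    have h : Ideal.Quotient.mk I₁ (X 1 ^ p - C f) = 0 :=
      Ideal.Quotient.eq_zero_iff_mem.2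
        (by rw [hI₁]; exact Ideal.subset_span (Set.mem_insert_of_mem _ rfl))
    rwa [map_sub, sub_eq_zero] at h
  have hunitI : ∀ I : Ideal (MvPolynomial (Fin 2) R),
      Ideal.Quotient.mk I (X 1 ^ p) = Ideal.Quotient.mk I (C f) →
      Ideal.Quotient.mk I ((1 + C lam * X 1) ^ p * C ε) = 1 := by
    intro I h
    rw [hB, map_mul, map_add, map_one, map_mul, h]
    calc (1 + Ideal.Quotient.mk I (C (lam ^ p)) * Ideal.Quotient.mk I (C f)) *
          Ideal.Quotient.mk I (C ε)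
        = Ideal.Quotient.mk I (C ((1 + lam ^ p * f) * ε)) := by
          simp only [map_mul, map_add, map_one]
      _ = 1 := by rw [hε, map_one, map_one]
  -- forward map
  have hΦker : ∀ a ∈ I₁, ((Ideal.Quotient.mkₐ R I₂).comp (aeval ![q, X 1])) a = 0 := by
    intro a ha
    have hle : I₁ ≤ RingHom.ker ((Ideal.Quotient.mkₐ R I₂).comp
        (aeval ![q, X 1]) : MvPolynomial (Fin 2) R →ₐ[R] _) := by
      rw [hI₁, Ideal.span_le]
      intro y hy
      rcases hy with rfl | rfl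
      · show Ideal.Quotient.mk I₂ (aeval ![q, X 1] (X 0 ^ p - C f)) = 0
        have e1 : aeval ![q, X 1] (X 0 ^ p - C f : MvPolynomial (Fin 2) R) = q ^ p - C f := by
          simp [MvPolynomial.algebraMap_eq]
        rw [e1, hA, map_sub, map_add, map_add, map_mul, map_mul, h20, h21]
        ring
      · show Ideal.Quotient.mk I₂ (aeval ![q, X 1] (X 1 ^ p - C f)) = 0
        have e2 : aeval ![q, X 1] (X 1 ^ p - C f : MvPolynomial (Fin 2) R) = X 1 ^ p - C f := by
          simp [MvPolynomial.algebraMap_eq]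
        rw [e2, map_sub, h21, sub_self]
    exact hle ha
  obtain ⟨Φ, hΦ⟩ : ∃ Φ : (MvPolynomial (Fin 2) R ⧸ I₁) →ₐ[R] (MvPolynomial (Fin 2) R ⧸ I₂),
      ∀ a, Φ (Ideal.Quotient.mk I₁ a) = Ideal.Quotient.mk I₂ (aeval ![q, X 1] a) :=
    ⟨Ideal.Quotient.liftₐ I₁ _ hΦker, fun a => rfl⟩
  -- backward map
  have hΨker : ∀ a ∈ I₂, (aeval ![Ideal.Quotient.mk I₁ T, Ideal.Quotient.mk I₁ (X 1)] :
      MvPolynomial (Fin 2) R →ₐ[R] (MvPolynomial (Fin 2) R ⧸ I₁)) a = 0 := by
    intro a ha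
    have hle : I₂ ≤ RingHom.ker (aeval ![Ideal.Quotient.mk I₁ T, Ideal.Quotient.mk I₁ (X 1)] :
        MvPolynomial (Fin 2) R →ₐ[R] (MvPolynomial (Fin 2) R ⧸ I₁)) := by
      rw [hI₂, Ideal.span_le]
      intro y hy
      rcases hy with rfl | rfl
      · show aeval ![Ideal.Quotient.mk I₁ T, Ideal.Quotient.mk I₁ (X 1)] (X 0 ^ p) = 0
        have e1 : aeval ![Ideal.Quotient.mk I₁ T, Ideal.Quotient.mk I₁ (X 1)]
            (X 0 ^ p : MvPolynomial (Fin 2) R) = (Ideal.Quotient.mk I₁ T) ^ p := by simp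
        rw [e1, ← map_pow, hT, mul_pow, hC, map_mul, map_sub, h10, h11, sub_self, zero_mul]
      · show aeval ![Ideal.Quotient.mk I₁ T, Ideal.Quotient.mk I₁ (X 1)] (X 1 ^ p - C f) = 0
        have e2 : aeval ![Ideal.Quotient.mk I₁ T, Ideal.Quotient.mk I₁ (X 1)]
            (X 1 ^ p - C f : MvPolynomial (Fin 2) R) =
            (Ideal.Quotient.mk I₁ (X 1)) ^ p - Ideal.Quotient.mk I₁ (C f) := by
          simp [MvPolynomial.algebraMap_eq]
          rfl
        rw [e2, ← map_pow, h11, sub_self]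
    exact hle ha
  obtain ⟨Ψ, hΨ⟩ : ∃ Ψ : (MvPolynomial (Fin 2) R ⧸ I₂) →ₐ[R] (MvPolynomial (Fin 2) R ⧸ I₁),
      ∀ a, Ψ (Ideal.Quotient.mk I₂ a) =
        aeval ![Ideal.Quotient.mk I₁ T, Ideal.Quotient.mk I₁ (X 1)] a :=
    ⟨Ideal.Quotient.liftₐ I₂ _ hΨker, fun a => rfl⟩
  -- the unit relation in the source
  have hu : (1 + Ideal.Quotient.mk I₁ (C lam) * Ideal.Quotient.mk I₁ (X 1)) *
      Ideal.Quotient.mk I₁ ((1 + C lam * X 1) ^ (p - 1) * C ε) = 1 := by
    have e : (1 + Ideal.Quotient.mk I₁ (C lam) * Ideal.Quotient.mk I₁ (X 1)) =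
        Ideal.Quotient.mk I₁ (1 + C lam * X 1) := by
      rw [map_add, map_one, map_mul]
    rw [e, ← map_mul, ← mul_assoc, hpow]
    exact hunitI I₁ h11
  have hΦΨ : Φ.comp Ψ = AlgHom.id R _ := by
    apply extTwo
    · rw [AlgHom.comp_apply, hΨ, AlgHom.id_apply]
      have e1 : aeval ![Ideal.Quotient.mk I₁ T, Ideal.Quotient.mk I₁ (X 1)]
          (X 0 : MvPolynomial (Fin 2) R) = Ideal.Quotient.mk I₁ T := by simp
      rw [e1, hΦ]
      have e2 : aeval ![q, X 1] T =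
          X 0 * ((1 + C lam * X 1) ^ p * C ε) := by
        rw [hT]
        simp only [map_mul, map_sub, map_add, map_one, map_pow, aeval_X, aeval_C,
          MvPolynomial.algebraMap_eq, Matrix.cons_val_zero, Matrix.cons_val_one]
        rw [← hpow, hq]
        ring
      rw [e2, map_mul, hunitI I₂ h21, mul_one]
    · rw [AlgHom.comp_apply, hΨ, AlgHom.id_apply]
      have e1 : aeval ![Ideal.Quotient.mk I₁ T, Ideal.Quotient.mk I₁ (X 1)]
          (X 1 : MvPolynomial (Fin 2) R) = Ideal.Quotient.mk I₁ (X 1) := by simp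
      rw [e1, hΦ]
      have e2 : aeval ![q, X 1] (X 1 : MvPolynomial (Fin 2) R) = X 1 := by simp
      rw [e2]
  have hΨΦ : Ψ.comp Φ = AlgHom.id R _ := by
    apply extTwo
    · rw [AlgHom.comp_apply, hΦ, AlgHom.id_apply]
      have e1 : aeval ![q, X 1] (X 0 : MvPolynomial (Fin 2) R) = q := by simp
      rw [e1, hΨ, hq]
      have e2 : aeval ![Ideal.Quotient.mk I₁ T, Ideal.Quotient.mk I₁ (X 1)]
          (X 0 + X 1 + C lam * X 0 * X 1 : MvPolynomial (Fin 2) R) =
          Ideal.Quotient.mk I₁ T + Ideal.Quotient.mk I₁ (X 1) +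
            Ideal.Quotient.mk I₁ (C lam) * Ideal.Quotient.mk I₁ T * Ideal.Quotient.mk I₁ (X 1) := by
        simp [MvPolynomial.algebraMap_eq]
        rfl
      rw [e2]
      have e3 : Ideal.Quotient.mk I₁ T = (Ideal.Quotient.mk I₁ (X 0) - Ideal.Quotient.mk I₁ (X 1)) *
          Ideal.Quotient.mk I₁ ((1 + C lam * X 1) ^ (p - 1) * C ε) := by
        rw [hT, map_mul, map_sub]
      rw [e3]
      linear_combination (Ideal.Quotient.mk I₁ (X 0) - Ideal.Quotient.mk I₁ (X 1)) * hu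
    · rw [AlgHom.comp_apply, hΦ, AlgHom.id_apply]
      have e1 : aeval ![q, X 1] (X 1 : MvPolynomial (Fin 2) R) = X 1 := by simp
      rw [e1, hΨ]
      simp
  refine ⟨AlgEquiv.ofAlgHom Φ Ψ hΦΨ hΨΦ, ?_, ?_⟩
  · show Φ (Ideal.Quotient.mk I₁ (X 0)) = _
    rw [hΦ]
    have e1 : aeval ![q, X 1] (X 0 : MvPolynomial (Fin 2) R) = q := by simp
    rw [e1, hq]
  · show Φ (Ideal.Quotient.mk I₁ (X 1)) = _
    rw [hΦ]
    have e1 : aeval ![q, X 1] (X 1 : MvPolynomial (Fin 2) R) = X 1 := by simp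
    rw [e1]


open MvPolynomial in
/-- Let p be a prime, R a local ring of characteristic p, λ an element of the maximal ideal of R and f ∈
R. Then there is an isomorphism of R-algebras R[W₁, W₂]/(W₁^p − f, W₂^p − f) ≅ R[x, W]/(x^p, W^p −
f) with W₁ ↦ x + W + λ·x·W and W₂ ↦ W; that is, Spec R[W]/(W^p − f) with the action w ↦ x + w + λxw
is a torsor under the group scheme Spec R[x]/(x^p) with law x₁ ∘ x₂ = x₁ + x₂ + λx₁x₂. (The
published statement is over a complete discrete valuation ring of characteristic p with λ a nonzero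
nonunit, and also asserts that for f in the fraction field with negative valuation v(f) > −p·v(λ)
the torsor W^p = f extends to a torsor over R, using the coordinate 1/W; that second case fails: for
p = 2, λ = π a uniformizer and f = 1/π, every model is Spec R[π^a t] with t² = π, and none of these
is a torsor since the coaction sends t to t − π(1 + t)x. Only the case f ∈ R is stated, and the
argument there uses only that R is local of characteristic p.) -/
theorem result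
    (p : ℕ) [Fact p.Prime] (R : Type u) [CommRing R] [IsLocalRing R] [CharP R p]
    (lam f : R) (hlam : lam ∈ IsLocalRing.maximalIdeal R) :
    ∃ e : (MvPolynomial (Fin 2) R ⧸ Ideal.span {(X 0 ^ p - C f : MvPolynomial (Fin 2) R), X 1 ^ p - C f}) ≃ₐ[R]
        (MvPolynomial (Fin 2) R ⧸ Ideal.span {(X 0 ^ p : MvPolynomial (Fin 2) R), X 1 ^ p - C f}),
      e (Ideal.Quotient.mk _ (X 0)) = Ideal.Quotient.mk _ (X 0 + X 1 + C lam * X 0 * X 1) ∧
      e (Ideal.Quotient.mk _ (X 1)) = Ideal.Quotient.mk _ (X 1) := by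
  classical
  have hpp : p.Prime := Fact.out
  have hunit : IsUnit (1 + lam ^ p * f) := by
    have hm : lam ^ p * f ∈ IsLocalRing.maximalIdeal R :=
      Ideal.mul_mem_right _ _ (Ideal.pow_mem_of_mem _ hlam p hpp.pos)
    by_contra hnu
    have h1 : (1 + lam ^ p * f) ∈ IsLocalRing.maximalIdeal R :=
      (IsLocalRing.mem_maximalIdeal _).2 hnu
    have h2 : (1 : R) ∈ IsLocalRing.maximalIdeal R := by
      have h3 := Ideal.sub_mem _ h1 hm
      simpa using h3
    exact (Ideal.ne_top_iff_one _).1 (IsLocalRing.maximalIdeal.isMaximal R).ne_top h2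
  obtain ⟨ε, hε⟩ := hunit.exists_right_inv
  exact main p R lam f ε hε _ _ rfl rfl

end Groth.Agent.S13042
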