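import Groth.Statements.S13048
import Mathlib

set_option autoImplicit false
universe u
open FrobAlg

namespace Groth.Agent.S13048

/-- Let k be an algebraically closed field of characteristic p > 0 and let A be a reduced finitely
generated commutative k-algebra with connected spectrum (A ≠ 0 and 0, 1 are its only idempotents).
If x ∈ A is a p^n-th power in A for every n ≥ 0, then x lies in the image of k; that is, ⋂_n A^{p^n}
= k. (The published statement is: for an artinian local ring R of characteristic p and a flat
R-algebra A of finite type, the maps A^ét → O(π₀(A)) → A^{p^∞/R} from the largest étale subalgebra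
to the preperfection are isomorphisms. This row is the case R = k algebraically closed and A reduced
with connected spectrum, where A^ét = k and the preperfection is ⋂_n A^{p^n}; the printed proof
reduces to this case and its last step proves it.) -/
theorem result
    (p : ℕ) [Fact p.Prime] (k : Type u) [Field k] [IsAlgClosed k] [CharP k p]
    (A : Type u) [CommRing A] [Algebra k A] [Algebra.FiniteType k A] [IsReduced A] [Nontrivial A]
    (hconn : ∀ e : A, IsIdempotentElem e → e = 0 ∨ e = 1)
    (x : A) (hx : ∀ n : ℕ, ∃ a : A, a ^ p ^ n = x) :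
    x ∈ (algebraMap k A).range := by
  classical
  haveI : IsNoetherianRing A := Algebra.FiniteType.isNoetherianRing k A
  have hp : p.Prime := Fact.out
  haveI : CharP A p := charP_of_injective_algebraMap (algebraMap k A).injective p
  have hres : ∀ (m : Ideal A), m.IsMaximal → ∀ a : A, ∃ c : k, a - algebraMap k A c ∈ m := by
    intro m hm a
    letI : Field (A ⧸ m) := Ideal.Quotient.field m
    haveI : Module.Finite k (A ⧸ m) := finite_of_finite_type_of_isJacobsonRing k (A ⧸ m)
    haveI : Algebra.IsIntegral k (A ⧸ m) := Algebra.IsIntegral.of_finite k (A ⧸ m)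
    obtain ⟨c, hc⟩ := (IsAlgClosed.algebraMap_bijective_of_isIntegral (k := k)
      (K := A ⧸ m)).2 (Ideal.Quotient.mk m a)
    refine ⟨c, ?_⟩
    rw [← Ideal.Quotient.eq, ← hc]; rfl
  obtain ⟨m₀, hm₀⟩ := Ideal.exists_maximal A
  obtain ⟨c, hc⟩ := hres m₀ hm₀ x
  set y := x - algebraMap k A c with hy
  have key : ∀ (m : Ideal A), m.IsMaximal → y ∈ m → ∃ s : A, s ∉ m ∧ s * y = 0 := by
    intro m hm hym
    have hpow : ∀ n : ℕ, y ∈ m ^ (p ^ n) := by
      intro n
      obtain ⟨a, ha⟩ := hx n
      obtain ⟨d, hd⟩ := IsAlgClosed.exists_pow_nat_eq c (n := p ^ n) (pow_pos hp.pos n)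
      have h1 : y = (a - algebraMap k A d) ^ p ^ n := by
        rw [sub_pow_char_pow, ha, ← map_pow, hd]
      have hmem : a - algebraMap k A d ∈ m := by
        apply hm.isPrime.mem_of_pow_mem (p ^ n)
        rw [← h1]; exact hym
      rw [h1]; exact Ideal.pow_mem_pow hmem _
    have hinf : y ∈ (⨅ i : ℕ, m ^ i • ⊤ : Submodule A A) := by
      rw [Submodule.mem_iInf]
      intro i
      have hle : m ^ (p ^ i) ≤ m ^ i := Ideal.pow_le_pow_right (Nat.lt_pow_self hp.one_lt).le
      have := hle (hpow i)
      rw [smul_eq_mul, Ideal.mul_top]; exact this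
    obtain ⟨r, hr⟩ := (Ideal.mem_iInf_smul_pow_eq_bot_iff m y).1 hinf
    refine ⟨1 - r, ?_, ?_⟩
    · intro h
      have h1 : (1 : A) ∈ m := by
        have := m.add_mem h r.2
        simpa using this
      exact hm.ne_top ((Ideal.eq_top_iff_one _).2 h1)
    · rw [sub_mul, one_mul, sub_eq_zero]; exact hr.symm
  have htop : (Submodule.span A ({y} : Set A)).annihilator ⊔ Ideal.span {y} = ⊤ := by
    by_contra hne
    obtain ⟨m, hm, hle⟩ := Ideal.exists_le_maximal _ hne
    have hym : y ∈ m := hle (Ideal.mem_sup_right (Ideal.subset_span rfl))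
    obtain ⟨s, hs, hsy⟩ := key m hm hym
    apply hs
    apply hle
    apply Ideal.mem_sup_left
    rw [Submodule.mem_annihilator_span_singleton]; exact hsy
  have h1 : (1 : A) ∈ (Submodule.span A ({y} : Set A)).annihilator ⊔ Ideal.span {y} := by
    rw [htop]; trivial
  obtain ⟨s, hs, z, hz, hsz⟩ := Submodule.mem_sup.1 h1
  obtain ⟨t, rfl⟩ := Ideal.mem_span_singleton'.1 hz
  rw [Submodule.mem_annihilator_span_singleton, smul_eq_mul] at hs
  have hidem : IsIdempotentElem (t * y) := by
    show t * y * (t * y) = t * y
    have : t * y = 1 - s := by rw [← hsz]; ring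
    calc t * y * (t * y) = t * y * (1 - s) := by rw [← this]
      _ = t * y - t * (s * y) := by ring
      _ = t * y := by rw [hs, mul_zero, sub_zero]
  rcases hconn _ hidem with h0 | h1'
  · have hs1 : s = 1 := by rw [← hsz, h0, add_zero]
    have hy0 : y = 0 := by rw [← one_mul y, ← hs1, hs]
    refine ⟨c, ?_⟩
    have := sub_eq_zero.1 hy0
    exact this.symm
  · exfalso
    have : (1 : A) ∈ m₀ := by rw [← h1']; exact m₀.mul_mem_left t hc
    exact hm₀.ne_top ((Ideal.eq_top_iff_one _).2 this)

end Groth.Agent.S13048
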