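import Groth.Statements.S13051
import Mathlib
import Groth.Agent.Lib.helper1.PSZeta

set_option autoImplicit false
universe u
open CategoryTheory AlgebraicGeometry
open Zeta

namespace Groth.Agent.S13051

/-- For a scheme X of finite type over a finite field k, Z(X, t) = ∏ over the closed points x of (1 −
t^{deg x})^{−1}, that is ∏_{r ≥ 1} (1 − t^r)^{−a_r} with a_r the number of closed points of residue
degree r; equivalently, for every n the product Z(X, t) · ∏_{r = 1}^{n} (1 − t^r)^{a_r} is ≡ 1
modulo t^{n+1}. In particular Z(X, t) has integer coefficients. (Stated for any scheme of finite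
type over k; reducedness plays no role.) -/
theorem result {k : Type u} [Field k] [Finite k] {X : Scheme.{u}}
    (f : X ⟶ Spec (CommRingCat.of k)) [LocallyOfFiniteType f] [QuasiCompact f] :
    (∀ n : ℕ, PowerSeries.trunc (n + 1)
        (Zeta.zetaFun f * ∏ r ∈ Finset.Icc 1 n, (1 - PowerSeries.X ^ r) ^ Zeta.degCount f r) = 1) ∧
      ∀ n : ℕ, ∃ z : ℤ, PowerSeries.coeff n (Zeta.zetaFun f) = (z : ℚ) := by
  have hz : Zeta.zetaFun f = Helper1.PSExp.E (Zeta.logZeta f) := rfl
  have key := Helper1.PSExp.zeta_key (Zeta.degCount f) (Zeta.logZeta f)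
    (fun m => by unfold Zeta.logZeta; rw [PowerSeries.coeff_mk]; rfl)
  rw [hz]
  refine ⟨fun n => ?_, fun n => ?_⟩
  · ext m
    rw [PowerSeries.coeff_trunc]
    split_ifs with h
    · rw [key n m (by omega), PowerSeries.coeff_one, Polynomial.coeff_one]
    · rw [Polynomial.coeff_one, if_neg (by omega)]
  · refine Helper1.PSExp.int_coeff _ _
      (∏ r ∈ Finset.Icc 1 n, (1 - PowerSeries.X ^ r) ^ Zeta.degCount f r) ?_ ?_ n (key n)
    · rw [map_prod]
      refine Finset.prod_eq_one fun r hr => ?_
      have hr1 := (Finset.mem_Icc.mp hr).1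
      rw [map_pow, map_sub, map_one, map_pow, PowerSeries.constantCoeff_X,
        zero_pow (by omega), sub_zero, one_pow]
    · rw [map_prod]
      refine Finset.prod_congr rfl fun r _ => ?_
      rw [map_pow, map_sub, map_one, map_pow, PowerSeries.map_X]

end Groth.Agent.S13051
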