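import Groth.Statements.S13055
import Mathlib
import Groth.Agent.Lib.helper1.PSExp

set_option autoImplicit false
universe u
open CategoryTheory AlgebraicGeometry
open Zeta

namespace Groth.Agent.S13055

/-- Let X be a scheme of finite type over a finite field k with q elements and P = a_d y^d + ⋯ + a_0 ∈
ℤ[y] with N_m = P(q^m) for every m ≥ 1 (X is of polynomial count). Then Z(X, t) = ∏_{i = 0}^{d} (1 −
q^i t)^{−a_i}; stated cleared of denominators, with the factors of positive exponent moved to the
left. -/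
theorem result {k : Type u} [Field k] [Finite k] {X : Scheme.{u}}
    (f : X ⟶ Spec (CommRingCat.of k)) [LocallyOfFiniteType f] [QuasiCompact f] (P : Polynomial ℤ)
    (hP : ∀ m : ℕ, 1 ≤ m → (Zeta.nPts f m : ℤ) = P.eval ((Nat.card k : ℤ) ^ m)) :
    Zeta.zetaFun f * ∏ i ∈ Finset.range (P.natDegree + 1),
        (1 - PowerSeries.C ((Nat.card k : ℚ) ^ i) * PowerSeries.X) ^ (P.coeff i).toNat =
      ∏ i ∈ Finset.range (P.natDegree + 1),
        (1 - PowerSeries.C ((Nat.card k : ℚ) ^ i) * PowerSeries.X) ^ (-P.coeff i).toNat := by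
  have hlog : Zeta.logZeta f = ∑ i ∈ Finset.range (P.natDegree + 1),
      ((P.coeff i : ℤ) : ℚ) • Helper1.PSExp.L ((Nat.card k : ℚ) ^ i) := by
    ext m
    rw [Helper1.PSExp.coeff_sum_L]
    unfold Zeta.logZeta
    rw [PowerSeries.coeff_mk]
    split_ifs with hm
    · rw [hm, Nat.cast_zero, div_zero]
    · congr 1
      have h1 := hP m (Nat.one_le_iff_ne_zero.mpr hm)
      rw [Polynomial.eval_eq_sum_range] at h1
      have h2 := congrArg (Int.cast : ℤ → ℚ) h1
      push_cast at h2
      rw [h2]
      refine Finset.sum_congr rfl fun i _ => ?_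
      rw [← pow_mul, ← pow_mul, mul_comm m i]
  have hz : Zeta.zetaFun f = Helper1.PSExp.E (Zeta.logZeta f) := rfl
  rw [hz, hlog]
  exact Helper1.PSExp.main (Finset.range (P.natDegree + 1)) (fun i => P.coeff i)
    (fun i => (Nat.card k : ℚ) ^ i)

end Groth.Agent.S13055
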