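import Groth.Statements.S13057
import Mathlib

set_option autoImplicit false
universe u
open Zeta

namespace Groth.Agent.S13057


theorem coeff_mul_poly {L : Type u} [Field L] (f : PowerSeries L) (Q : Polynomial L) (N : ℕ)
    (hQ : ∀ k, N < k → Q.coeff k = 0) (i : ℕ) :
    PowerSeries.coeff (i + N) (f * (Q : PowerSeries L)) =
      ∑ j : Fin (N + 1), PowerSeries.coeff (i + (j : ℕ)) f * Q.coeff (N - (j : ℕ)) := by
  rw [PowerSeries.coeff_mul]
  simp only [Finset.Nat.sum_antidiagonal_eq_sum_range_succ_mk]
  rw [Fin.sum_univ_eq_sum_range (fun j => PowerSeries.coeff (i + j) f * Q.coeff (N - j)) (N + 1)]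
  have h1 : (i + N).succ = i + (N + 1) := by omega
  rw [h1, Finset.sum_range_add]
  have h2 : ∑ x ∈ Finset.range i, PowerSeries.coeff x f *
      PowerSeries.coeff (i + N - x) (Q : PowerSeries L) = 0 := by
    apply Finset.sum_eq_zero
    intro x hx
    rw [Finset.mem_range] at hx
    rw [Polynomial.coeff_coe, hQ _ (by omega), mul_zero]
  rw [h2, zero_add]
  apply Finset.sum_congr rfl
  intro j hj
  rw [Polynomial.coeff_coe, show i + N - (i + j) = N - j by omega]


/-- A power series f = ∑_{m ≥ 0} a_m t^m over a field L lies in L(t), i.e. f · Q = P for some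
polynomials P, Q with Q ≠ 0, if and only if there are natural numbers M, N such that the vectors
(a_i, a_{i+1}, …, a_{i+N}) ∈ L^{N+1}, i ≥ M, span a proper subspace. -/
theorem result {L : Type u} [Field L]
    (f : PowerSeries L) :
    (∃ P Q : Polynomial L, Q ≠ 0 ∧ f * (Q : PowerSeries L) = (P : PowerSeries L)) ↔
      ∃ M N : ℕ, Submodule.span L
          {v : Fin (N + 1) → L | ∃ i : ℕ, M ≤ i ∧ v = fun j : Fin (N + 1) => PowerSeries.coeff (i + (j : ℕ)) f} ≠ ⊤ := by
  classical
  constructor
  · rintro ⟨P, Q, hQ0, hPQ⟩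
    refine ⟨P.natDegree + 1, Q.natDegree, ?_⟩
    set N := Q.natDegree with hN
    let ψ : (Fin (N + 1) → L) →ₗ[L] L :=
      ∑ j : Fin (N + 1), (Q.coeff (N - (j : ℕ))) • LinearMap.proj j
    have hψ : ∀ v, ψ v = ∑ j : Fin (N + 1), v j * Q.coeff (N - (j : ℕ)) := by
      intro v
      simp only [ψ, LinearMap.sum_apply, LinearMap.smul_apply, LinearMap.proj_apply, smul_eq_mul]
      exact Finset.sum_congr rfl (fun j _ => mul_comm _ _)
    intro htop
    have hle : Submodule.span L {v : Fin (N + 1) → L | ∃ i : ℕ, P.natDegree + 1 ≤ i ∧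
        v = fun j : Fin (N + 1) => PowerSeries.coeff (i + (j : ℕ)) f} ≤ LinearMap.ker ψ := by
      rw [Submodule.span_le]
      rintro v ⟨i, hi, rfl⟩
      rw [SetLike.mem_coe, LinearMap.mem_ker, hψ,
        ← coeff_mul_poly f Q N (fun k hk => Polynomial.coeff_eq_zero_of_natDegree_lt hk) i,
        hPQ, Polynomial.coeff_coe]
      exact Polynomial.coeff_eq_zero_of_natDegree_lt (by omega)
    rw [htop, top_le_iff] at hle
    have h1 : ψ (Pi.single 0 1) = 0 := by
      have h : (Pi.single 0 1 : Fin (N + 1) → L) ∈ LinearMap.ker ψ := by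
        rw [hle]; exact Submodule.mem_top
      exact h
    have h2 : Q.coeff N = 0 := by
      have h := h1
      rw [hψ, Finset.sum_eq_single (0 : Fin (N + 1))
        (fun j _ hj => by rw [Pi.single_eq_of_ne hj, zero_mul])
        (fun h => absurd (Finset.mem_univ _) h)] at h
      simpa using h
    exact hQ0 (Polynomial.leadingCoeff_eq_zero.1 h2)
  · rintro ⟨M, N, hne⟩
    obtain ⟨ψ, hψ0, hψ⟩ := Submodule.exists_le_ker_of_lt_top _ (lt_top_iff_ne_top.2 hne)
    let c : Fin (N + 1) → L := fun j => ψ (Pi.single j 1)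
    have hψv : ∀ v : Fin (N + 1) → L, ψ v = ∑ j, v j * c j := by
      intro v
      rw [LinearMap.pi_apply_eq_sum_univ ψ v]
      apply Finset.sum_congr rfl
      intro j _
      rw [smul_eq_mul]
      congr 1
      show ψ _ = ψ (Pi.single j 1)
      congr 1
      ext k
      by_cases h : j = k
      · subst h; simp
      · simp [h, Pi.single_apply, Ne.symm h]
    let Q : Polynomial L := ∑ j : Fin (N + 1), Polynomial.monomial (N - (j : ℕ)) (c j)
    have hQcoeff : ∀ k, Q.coeff k = ∑ j : Fin (N + 1), if N - (j : ℕ) = k then c j else 0 := by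
      intro k
      simp [Q, Polynomial.finset_sum_coeff, Polynomial.coeff_monomial]
    have hQj : ∀ j : Fin (N + 1), Q.coeff (N - (j : ℕ)) = c j := by
      intro j
      rw [hQcoeff, Finset.sum_eq_single j]
      · simp
      · intro j' _ hj'
        rw [if_neg]
        intro h
        apply hj'
        ext
        have := j.2
        have := j'.2
        omega
      · intro h; exact absurd (Finset.mem_univ _) h
    have hQbig : ∀ k, N < k → Q.coeff k = 0 := by
      intro k hk
      rw [hQcoeff]
      apply Finset.sum_eq_zero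
      intro j _
      rw [if_neg]; omega
    have hQ0 : Q ≠ 0 := by
      intro hQ
      apply hψ0
      apply LinearMap.ext
      intro v
      rw [hψv, LinearMap.zero_apply]
      apply Finset.sum_eq_zero
      intro j _
      rw [← hQj j, hQ, Polynomial.coeff_zero, mul_zero]
    have hzero : ∀ m, M + N ≤ m → PowerSeries.coeff m (f * (Q : PowerSeries L)) = 0 := by
      intro m hm
      obtain ⟨i, rfl⟩ : ∃ i, m = i + N := ⟨m - N, by omega⟩
      rw [coeff_mul_poly f Q N hQbig i]
      simp_rw [hQj]
      have h3 := hψv (fun j : Fin (N + 1) => PowerSeries.coeff (i + (j : ℕ)) f)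
      rw [← h3]
      have h4 : (fun j : Fin (N + 1) => PowerSeries.coeff (i + (j : ℕ)) f) ∈ LinearMap.ker ψ :=
        hψ (Submodule.subset_span ⟨i, by omega, rfl⟩)
      exact h4
    refine ⟨PowerSeries.trunc (M + N) (f * (Q : PowerSeries L)), Q, hQ0, ?_⟩
    ext m
    rw [Polynomial.coeff_coe, PowerSeries.coeff_trunc]
    split_ifs with h
    · rfl
    · exact hzero m (by omega)

end Groth.Agent.S13057
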