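import Groth.Statements.S13058
import Mathlib
import Groth.Agent.S13057

set_option autoImplicit false
universe u v
open Zeta

namespace Groth.Agent.S13058

/-- If L'/L is a field extension, a power series f ∈ L⟦t⟧ belongs to L(t) exactly when it belongs to
L'(t); here membership in L(t) means f · Q = P for polynomials P, Q over the field in question with
Q ≠ 0. -/
theorem result {L : Type u} {L' : Type v} [Field L] [Field L']
    [Algebra L L'] (f : PowerSeries L) :
    (∃ P Q : Polynomial L', Q ≠ 0 ∧
        PowerSeries.map (algebraMap L L') f * (Q : PowerSeries L') = (P : PowerSeries L')) ↔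
      ∃ P Q : Polynomial L, Q ≠ 0 ∧ f * (Q : PowerSeries L) = (P : PowerSeries L) := by
  classical
  constructor
  · intro h
    rw [Groth.Agent.S13057.result] at h ⊢
    obtain ⟨M, N, hne⟩ := h
    refine ⟨M, N, ?_⟩
    intro htop
    apply hne
    let φ : (Fin (N + 1) → L) →ₗ[L] (Fin (N + 1) → L') :=
      (Algebra.linearMap L L').compLeft (Fin (N + 1))
    have hφ : ∀ v : Fin (N + 1) → L, φ v ∈ (Submodule.span L'
        {v : Fin (N + 1) → L' | ∃ i : ℕ, M ≤ i ∧ v = fun j : Fin (N + 1) =>
          PowerSeries.coeff (i + (j : ℕ)) (PowerSeries.map (algebraMap L L') f)}).restrictScalars L := by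
      intro v
      have hv : v ∈ Submodule.span L {v : Fin (N + 1) → L | ∃ i : ℕ, M ≤ i ∧
          v = fun j : Fin (N + 1) => PowerSeries.coeff (i + (j : ℕ)) f} := by
        rw [htop]; exact Submodule.mem_top
      induction hv using Submodule.span_induction with
      | mem w hw =>
        obtain ⟨i, hi, rfl⟩ := hw
        apply Submodule.subset_span
        refine ⟨i, hi, ?_⟩
        ext j
        simp [φ, PowerSeries.coeff_map]
      | zero => rw [map_zero]; exact Submodule.zero_mem _
      | add a b _ _ ha hb => rw [map_add]; exact Submodule.add_mem _ ha hb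
      | smul r a _ ha => rw [map_smul]; exact Submodule.smul_mem _ r ha
    rw [Submodule.eq_top_iff']
    intro w
    rw [pi_eq_sum_univ' w]
    apply Submodule.sum_mem
    intro j _
    apply Submodule.smul_mem
    have h1 := hφ (Pi.single j 1)
    have h2 : φ (Pi.single j 1) = (Pi.single j 1 : Fin (N + 1) → L') := by
      ext k
      by_cases hjk : k = j
      · subst hjk; simp [φ]
      · simp [φ, Pi.single_apply, hjk]
    rw [h2] at h1
    exact h1
  · rintro ⟨P, Q, hQ0, hPQ⟩
    refine ⟨P.map (algebraMap L L'), Q.map (algebraMap L L'), ?_, ?_⟩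
    · exact (Polynomial.map_ne_zero_iff (algebraMap L L').injective).2 hQ0
    · rw [Polynomial.polynomial_map_coe, Polynomial.polynomial_map_coe, ← map_mul, hPQ]

end Groth.Agent.S13058
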