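import Groth.Statements.S13059
import Mathlib

set_option autoImplicit false
universe u
open Zeta

namespace Groth.Agent.S13059


open Polynomial Matrix in
theorem matId {K : Type*} [Field K] {ι : Type*} [Fintype ι] [DecidableEq ι]
    (F G : Matrix ι ι K) (c : K) (hc : c ≠ 0) (h : Fᵀ * G = c • (1 : Matrix ι ι K)) :
    F.det • G.charpoly.reverse =
      ((-1) ^ Fintype.card ι * c ^ Fintype.card ι) • (c⁻¹ • F).charpoly := by
  rw [Matrix.reverse_charpoly, Matrix.charpolyRev, ← Matrix.charpoly_transpose (c⁻¹ • F),
    Matrix.charpoly, Polynomial.smul_eq_C_mul, Polynomial.smul_eq_C_mul]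
  have hcc : (C c : K[X]) * C c⁻¹ = 1 := by rw [← C_mul, mul_inv_cancel₀ hc, C_1]
  have h1 : (C F.det : K[X]) = (Fᵀ.map C).det := by
    rw [← Matrix.det_transpose F]
    exact RingHom.map_det C Fᵀ
  have h2 : (Fᵀ.map C) * (G.map C) = (C c : K[X]) • (1 : Matrix ι ι K[X]) := by
    rw [← Matrix.map_mul, h]
    ext i j
    by_cases hij : i = j <;> simp [hij]
  have h3 : (C ((-1) ^ Fintype.card ι * c ^ Fintype.card ι) : K[X]) =
      (- C c) ^ Fintype.card ι := by
    rw [neg_pow (C c : K[X]), C_mul, C_pow, C_pow, C_neg, C_1]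
  rw [h1, ← Matrix.det_mul, h3, ← Matrix.det_smul]
  congr 1
  rw [Matrix.mul_sub, Matrix.mul_one, Matrix.mul_smul, h2]
  refine Matrix.ext fun i j => ?_
  by_cases hij : i = j
  · subst hij
    simp only [Matrix.sub_apply, Matrix.smul_apply, Matrix.one_apply_eq, Matrix.charmatrix_apply,
      Matrix.map_apply, Matrix.transpose_apply, Matrix.diagonal_apply_eq, smul_eq_mul, C_mul]
    linear_combination (-(C (F i i))) * hcc
  · simp only [Matrix.sub_apply, Matrix.smul_apply, Matrix.one_apply_ne hij,
      Matrix.charmatrix_apply, Matrix.map_apply, Matrix.transpose_apply,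
      Matrix.diagonal_apply_ne _ hij, smul_eq_mul, C_mul]
    linear_combination (-(C (F j i))) * hcc


/-- Let B : V × W → K be a perfect pairing of finite-dimensional vector spaces over a field K, c ∈ K
nonzero, and f, g endomorphisms of V, W with B(f v, g w) = c · B(v, w) for all v, w. Then det(Id − t
g) = (−1)^r c^r t^r det(f)^{−1} det(Id − c^{−1} t^{−1} f) with r the common dimension; stated
cleared of denominators as det(f) · det(Id − t g) = (−1)^r c^r · det(t Id − c^{−1} f) in K[t],
det(Id − t g) being the reverse of the characteristic polynomial of g. -/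
theorem result (K : Type u) [Field K] (V W : Type u)
    [AddCommGroup V] [Module K V] [FiniteDimensional K V] [AddCommGroup W] [Module K W]
    [FiniteDimensional K W] (B : V →ₗ[K] W →ₗ[K] K) [B.IsPerfPair] (f : V →ₗ[K] V) (g : W →ₗ[K] W)
    (c : K) (hc : c ≠ 0) (hfg : ∀ (v : V) (w : W), B (f v) (g w) = c * B v w) :
    LinearMap.det f • (LinearMap.charpoly g).reverse =
      ((-1) ^ Module.finrank K W * c ^ Module.finrank K W) • (c⁻¹ • f).charpoly := by
  classical
  let b : Module.Basis (Fin (Module.finrank K V)) K V := Module.finBasis K V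
  let e : W ≃ₗ[K] Module.Dual K V :=
    LinearEquiv.ofBijective B.flip (LinearMap.IsPerfPair.bijective_right B)
  let b' : Module.Basis (Fin (Module.finrank K V)) K W := b.dualBasis.map e.symm
  have hB : ∀ i j, B (b i) (b' j) = if i = j then 1 else 0 := by
    intro i j
    have h1 : e (b' j) = b.dualBasis j := by simp [b']
    have h2 : B (b i) (b' j) = e (b' j) (b i) := rfl
    rw [h2, h1, Module.Basis.dualBasis_apply_self]
  have hrel : Matrix.transpose (LinearMap.toMatrix b b f) * (LinearMap.toMatrix b' b' g) =
      c • (1 : Matrix (Fin (Module.finrank K V)) (Fin (Module.finrank K V)) K) := by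
    ext j k
    rw [Matrix.mul_apply]
    simp only [Matrix.transpose_apply, Matrix.smul_apply, Matrix.one_apply, smul_eq_mul]
    have hf : f (b j) = ∑ i, LinearMap.toMatrix b b f i j • b i := by
      simp_rw [LinearMap.toMatrix_apply]; exact (b.sum_repr (f (b j))).symm
    have hg : g (b' k) = ∑ l, LinearMap.toMatrix b' b' g l k • b' l := by
      simp_rw [LinearMap.toMatrix_apply]; exact (b'.sum_repr (g (b' k))).symm
    have h3 := hfg (b j) (b' k)
    rw [hf, hg, hB] at h3
    rw [← h3]
    simp only [map_sum, map_smul, LinearMap.sum_apply, LinearMap.smul_apply, smul_eq_mul, hB,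
      mul_ite, mul_one, mul_zero, Finset.sum_ite_eq', Finset.mem_univ, if_true]
    exact Finset.sum_congr rfl (fun x _ => mul_comm _ _)
  have hm := matId (LinearMap.toMatrix b b f) (LinearMap.toMatrix b' b' g) c hc hrel
  rw [LinearMap.det_toMatrix, LinearMap.charpoly_toMatrix, ← map_smul,
    LinearMap.charpoly_toMatrix, Fintype.card_fin] at hm
  have hW : Module.finrank K W = Module.finrank K V := by
    rw [Module.finrank_eq_card_basis b', Fintype.card_fin]
  rw [hW]
  exact hm

end Groth.Agent.S13059
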