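import Groth.Statements.S13060
import Mathlib

set_option autoImplicit false
universe u v w x
open TensorProduct
open Zeta

namespace Groth.Agent.S13060

/-- Let k be a field, V and W vector spaces over k and G a group acting on V by k-linear automorphisms;
for the induced action on V ⊗_k W (trivial on W) one has (V ⊗_k W)^G = V^G ⊗_k W, i.e. the
invariants of V ⊗ W are the image of V^G ⊗ W → V ⊗ W. -/
theorem result {k : Type u} [Field k] {G : Type v} [Group G]
    {V : Type w} {W : Type x} [AddCommGroup V] [Module k V] [AddCommGroup W] [Module k W]
    (ρ : Representation k G V) :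
    (ρ.tprod (Representation.trivial k G W)).invariants =
      LinearMap.range (TensorProduct.map ρ.invariants.subtype (LinearMap.id : W →ₗ[k] W)) := by
  classical
  have htriv : ∀ g : G, (Representation.trivial k G W) g = LinearMap.id := fun g => rfl
  have hact : ∀ (g : G) (t : V ⊗[k] W),
      (ρ.tprod (Representation.trivial k G W)) g t = TensorProduct.map (ρ g) LinearMap.id t := by
    intro g t
    rw [Representation.tprod_apply, htriv]
  apply le_antisymm
  · intro t ht
    rw [Representation.mem_invariants] at ht
    let 𝒞 := Module.Free.chooseBasis k W
    let E := TensorProduct.equivFinsuppOfBasisRight (M := V) 𝒞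
    have key : ∀ (g : G) (t : V ⊗[k] W) (i), E (TensorProduct.map (ρ g) LinearMap.id t) i =
        ρ g (E t i) := by
      intro g t i
      induction t using TensorProduct.induction_on with
      | zero => simp
      | tmul v w =>
        rw [TensorProduct.map_tmul, LinearMap.id_apply]
        simp only [E, TensorProduct.equivFinsuppOfBasisRight_apply_tmul_apply, map_smul]
      | add x y hx hy =>
        rw [map_add, map_add, Finsupp.add_apply, hx, hy, map_add, Finsupp.add_apply, map_add]
    have hinv : ∀ i, E t i ∈ ρ.invariants := by
      intro i
      rw [Representation.mem_invariants]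
      intro g
      rw [← key, ← hact, ht]
    have ht' : t = E.symm (E t) := (E.symm_apply_apply t).symm
    rw [ht']
    simp only [E, TensorProduct.equivFinsuppOfBasisRight_symm_apply]
    refine Submodule.sum_mem _ fun i _ => ?_
    exact ⟨(⟨_, hinv i⟩ : ρ.invariants) ⊗ₜ[k] 𝒞 i, rfl⟩
  · rintro _ ⟨x, rfl⟩
    rw [Representation.mem_invariants]
    intro g
    rw [hact]
    induction x using TensorProduct.induction_on with
    | zero => simp
    | tmul v w =>
      rw [TensorProduct.map_tmul, TensorProduct.map_tmul, LinearMap.id_apply, Submodule.subtype_apply,
        (Representation.mem_invariants ρ v.1).mp v.2 g]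
    | add x y hx hy => rw [map_add, map_add, hx, hy]

end Groth.Agent.S13060
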