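import Groth.Statements.S13061
import Mathlib

set_option autoImplicit false
universe u v w
open Zeta

namespace Groth.Agent.S13061

/-- Let A be a commutative algebra over a field k, G a finite group acting on A by k-algebra
automorphisms and I ⊆ A an ideal preserved by G. If p^n is the largest power of p = char(k) dividing
|G| (with p^n = 1 when char(k) = 0), then for every G-invariant b ∈ A/I the power b^{p^n} lies in
the image of A^G → (A/I)^G. (The published statement takes A finitely generated over k, which the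
proof does not use.) -/
theorem result {k : Type u} [Field k]
    {A : Type v} [CommRing A] [Algebra k A] {G : Type w} [Group G] [Finite G]
    [MulSemiringAction G A] [SMulCommClass G k A] (I : Ideal A)
    (hI : ∀ (g : G) (a : A), a ∈ I → g • a ∈ I) (u : A) (hu : ∀ g : G, g • u - u ∈ I) :
    ∃ a : A, (∀ g : G, g • a = a) ∧
      Ideal.Quotient.mk I a =
        Ideal.Quotient.mk I u ^ (ringChar k ^ (Nat.card G).factorization (ringChar k)) := by
  classical
  haveI : Fintype G := Fintype.ofFinite G
  obtain ⟨P, hPcard, hPidx⟩ : ∃ P : Subgroup G,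
      Nat.card P = ringChar k ^ (Nat.card G).factorization (ringChar k) ∧
        ((P.index : ℕ) : k) ≠ 0 := by
    rcases CharP.char_is_prime_or_zero k (ringChar k) with hp | h0
    · haveI : Fact (ringChar k).Prime := ⟨hp⟩
      obtain ⟨P, hP⟩ := Sylow.exists_subgroup_card_pow_prime (G := G) (ringChar k)
        (Nat.ordProj_dvd (Nat.card G) (ringChar k))
      refine ⟨P, hP, ?_⟩
      rw [Ne, CharP.cast_eq_zero_iff k (ringChar k)]
      intro hdvd
      have h1 : P.index * Nat.card P = Nat.card G := P.index_mul_card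
      have hG0 : Nat.card G ≠ 0 := Nat.card_pos.ne'
      rw [hP] at h1
      have h2 : Nat.card G / ringChar k ^ (Nat.card G).factorization (ringChar k) = P.index :=
        Nat.div_eq_of_eq_mul_left (pow_pos hp.pos _) h1.symm
      have h3 := Nat.not_dvd_ordCompl hp hG0
      rw [h2] at h3
      exact h3 hdvd
    · refine ⟨⊥, ?_, ?_⟩
      · rw [h0, Nat.factorization_eq_zero_of_not_prime _ Nat.not_prime_zero, pow_zero,
          Subgroup.card_bot]
      · haveI : CharP k 0 := ringChar.of_eq h0
        haveI : CharZero k := CharP.charP_to_charZero k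
        rw [Subgroup.index_bot]
        exact Nat.cast_ne_zero.2 Nat.card_pos.ne'
  haveI : Fintype P := Fintype.ofFinite P
  set N := ringChar k ^ (Nat.card G).factorization (ringChar k) with hN
  obtain ⟨a', ha'def⟩ : ∃ a' : A, a' = ∏ h : P, (h : G) • u := ⟨_, rfl⟩
  have hmk_smul : ∀ (g : G) (b c : A), Ideal.Quotient.mk I b = Ideal.Quotient.mk I c →
      Ideal.Quotient.mk I (g • b) = Ideal.Quotient.mk I (g • c) := by
    intro g b c hbc
    rw [Ideal.Quotient.eq] at hbc ⊢
    rw [← smul_sub]
    exact hI g _ hbc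
  have hmku : ∀ g : G, Ideal.Quotient.mk I (g • u) = Ideal.Quotient.mk I u :=
    fun g => Ideal.Quotient.eq.2 (hu g)
  have ha'mk : Ideal.Quotient.mk I a' = Ideal.Quotient.mk I u ^ N := by
    rw [ha'def, map_prod]
    simp_rw [hmku]
    rw [Finset.prod_const, Finset.card_univ, ← Nat.card_eq_fintype_card, hPcard]
  have ha'P : ∀ τ : G, τ ∈ P → τ • a' = a' := by
    intro τ hτ
    rw [ha'def, Finset.smul_prod']
    exact Fintype.prod_equiv (Equiv.mulLeft (⟨τ, hτ⟩ : P)) _ _ (fun δ => by simp [mul_smul])
  have hsmk : ∀ σ : G, Ideal.Quotient.mk I (σ • a') = Ideal.Quotient.mk I u ^ N := by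
    intro σ
    have h1 : Ideal.Quotient.mk I (σ • a') = Ideal.Quotient.mk I (σ • u ^ N) :=
      hmk_smul σ _ _ (by rw [ha'mk, map_pow])
    rw [h1, smul_pow', map_pow, hmku]
  haveI : Fintype (G ⧸ P) := Fintype.ofFinite _
  let F : G ⧸ P → A := fun q => Quotient.liftOn' q (fun σ => σ • a') (fun a b hab => by
    have h1 : a⁻¹ * b ∈ P := QuotientGroup.leftRel_apply.1 hab
    have h2 : b • a' = a • ((a⁻¹ * b) • a') := by rw [← mul_smul, mul_inv_cancel_left]
    show a • a' = b • a'
    rw [h2, ha'P _ h1])
  have hFmk : ∀ σ : G, F (QuotientGroup.mk σ) = σ • a' := fun σ => rfl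
  have hFsmul : ∀ (g : G) (q : G ⧸ P), g • F q = F (g • q) := by
    intro g q
    induction q using QuotientGroup.induction_on with
    | H σ => rw [hFmk, MulAction.Quotient.smul_mk, hFmk, smul_eq_mul, mul_smul]
  have hFq : ∀ q : G ⧸ P, Ideal.Quotient.mk I (F q) = Ideal.Quotient.mk I u ^ N := by
    intro q
    induction q using QuotientGroup.induction_on with
    | H σ => rw [hFmk]; exact hsmk σ
  refine ⟨((P.index : ℕ) : k)⁻¹ • ∑ q, F q, ?_, ?_⟩
  · intro g
    rw [smul_comm, Finset.smul_sum]
    simp_rw [hFsmul g]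
    congr 1
    exact Equiv.sum_comp (MulAction.toPerm g) F
  · have h1 : Ideal.Quotient.mk I (((P.index : ℕ) : k)⁻¹ • ∑ q, F q) =
        ((P.index : ℕ) : k)⁻¹ • Ideal.Quotient.mk I (∑ q, F q) :=
      map_smul (Ideal.Quotient.mkₐ k I) _ _
    rw [h1, map_sum]
    simp_rw [hFq]
    rw [Finset.sum_const, Finset.card_univ, ← Nat.card_eq_fintype_card,
      ← Subgroup.index_eq_card, ← Nat.cast_smul_eq_nsmul k, smul_smul,
      inv_mul_cancel₀ hPidx, one_smul]

end Groth.Agent.S13061
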