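import Groth.Statements.S13065
import Mathlib

set_option autoImplicit false
universe u
open Zeta

namespace Groth.Agent.S13065

/-- Let k be a finite field with q elements and characteristic p, n ≥ 2, and f ∈ k[x_0, …, x_n]
homogeneous of degree n + 1, defining the hypersurface Z ⊂ P^n_k. Then #Z(F_q) ≢ 1 (mod p) if and
only if the coefficient of (x_0 ⋯ x_n)^{q−1} in f^{q−1} is nonzero. Stated through the affine count:
#Z(F_q) ≡ 1 (mod p) exactly when p divides the number of zeros of f in k^{n+1} (as (q − 1) #Z(F_q) +
1 is that number). -/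
theorem result {k : Type u} [Field k] [Finite k] (p : ℕ)
    [CharP k p] (n : ℕ) (hn : 2 ≤ n) (f : MvPolynomial (Fin (n + 1)) k)
    (hf : f.IsHomogeneous (n + 1)) :
    p ∣ Nat.card {a : Fin (n + 1) → k // MvPolynomial.eval a f = 0} ↔
      MvPolynomial.coeff (Finsupp.equivFunOnFinite.symm fun _ : Fin (n + 1) => Nat.card k - 1)
        (f ^ (Nat.card k - 1)) = 0 := by
  classical
  letI := Fintype.ofFinite k
  have hqc : Nat.card k = Fintype.card k := Nat.card_eq_fintype_card
  rw [hqc]
  have hq1 : 0 < Fintype.card k - 1 := by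
    have : 1 < Fintype.card k := Fintype.one_lt_card
    omega
  have hq0 : ((Fintype.card k : ℕ) : k) = 0 := FiniteField.cast_card_eq_zero k
  have hgh : (f ^ (Fintype.card k - 1)).IsHomogeneous ((n + 1) * (Fintype.card k - 1)) :=
    hf.pow (Fintype.card k - 1)
  have hS0 : ∀ m, m < Fintype.card k - 1 → ∑ y : k, y ^ m = 0 := fun m hm =>
    FiniteField.sum_pow_lt_card_sub_one k m hm
  have hS1 : ∑ y : k, y ^ (Fintype.card k - 1) = -1 := by
    have h1 : ∀ y : k, y ^ (Fintype.card k - 1) = 1 - (if y = 0 then (1 : k) else 0) := fun y => by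
      split_ifs with h
      · rw [h, zero_pow hq1.ne', sub_self]
      · rw [FiniteField.pow_card_sub_one_eq_one y h, sub_zero]
    rw [Finset.sum_congr rfl (fun y _ => h1 y), Finset.sum_sub_distrib, Finset.sum_ite_eq',
      if_pos (Finset.mem_univ _), Finset.sum_const, Finset.card_univ, nsmul_eq_mul, mul_one,
      hq0, zero_sub]
  have hmono : ∀ d : Fin (n + 1) →₀ ℕ,
      ∑ x : Fin (n + 1) → k, ∏ i, x i ^ d i = ∏ i, ∑ y : k, y ^ d i := fun d => by
    rw [Finset.prod_univ_sum, Fintype.piFinset_univ]
  set c : Fin (n + 1) →₀ ℕ :=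
    Finsupp.equivFunOnFinite.symm fun _ : Fin (n + 1) => Fintype.card k - 1 with hc
  have hci : ∀ i, c i = Fintype.card k - 1 := fun i => rfl
  set g := f ^ (Fintype.card k - 1) with hg
  have hsum : ∑ x : Fin (n + 1) → k, MvPolynomial.eval x g
      = MvPolynomial.coeff c g * (-1) ^ (n + 1) := by
    calc ∑ x : Fin (n + 1) → k, MvPolynomial.eval x g
        = ∑ x : Fin (n + 1) → k, ∑ d ∈ g.support, g.coeff d * ∏ i, x i ^ d i := by
          simp only [MvPolynomial.eval_eq']
      _ = ∑ d ∈ g.support, ∑ x : Fin (n + 1) → k, g.coeff d * ∏ i, x i ^ d i := Finset.sum_comm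
      _ = ∑ d ∈ g.support, g.coeff d * ∏ i, ∑ y : k, y ^ d i := by
          refine Finset.sum_congr rfl fun d _ => ?_
          rw [← Finset.mul_sum, hmono]
      _ = g.coeff c * ∏ i : Fin (n + 1), ∑ y : k, y ^ c i := by
          refine Finset.sum_eq_single c (fun d hd hdc => ?_) (fun hc' => ?_)
          · have hdeg : ∑ i, d i = (n + 1) * (Fintype.card k - 1) := by
              have h1 : d.degree = (n + 1) * (Fintype.card k - 1) := by
                rw [Finsupp.degree_eq_weight_one]
                exact hgh (MvPolynomial.mem_support_iff.mp hd)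
              rwa [Finsupp.degree_eq_sum] at h1
            have hex : ∃ i, d i < Fintype.card k - 1 := by
              by_contra hcon
              push_neg at hcon
              apply hdc
              have hall : ∀ i ∈ (Finset.univ : Finset (Fin (n + 1))),
                  (fun _ => Fintype.card k - 1) i = d i := by
                rw [← Finset.sum_eq_sum_iff_of_le (fun i _ => hcon i)]
                rw [Finset.sum_const, Finset.card_univ, Fintype.card_fin, smul_eq_mul, hdeg]
              ext i
              rw [hci]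
              exact (hall i (Finset.mem_univ i)).symm
            obtain ⟨i, hi⟩ := hex
            rw [Finset.prod_eq_zero (Finset.mem_univ i) (hS0 _ hi), mul_zero]
          · rw [MvPolynomial.notMem_support_iff.mp hc', zero_mul]
      _ = g.coeff c * (-1) ^ (n + 1) := by
          congr 1
          rw [Finset.prod_congr rfl (fun i _ => by rw [hci, hS1]), Finset.prod_const,
            Finset.card_univ, Fintype.card_fin]
  have hcount : ((Nat.card {a : Fin (n + 1) → k // MvPolynomial.eval a f = 0} : ℕ) : k)
      = ∑ a : Fin (n + 1) → k, (1 - MvPolynomial.eval a g) := by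
    rw [Nat.card_eq_fintype_card, Fintype.card_subtype, Finset.natCast_card_filter]
    refine Finset.sum_congr rfl fun a _ => ?_
    rw [hg, map_pow]
    split_ifs with h
    · rw [h, zero_pow hq1.ne', sub_zero]
    · rw [FiniteField.pow_card_sub_one_eq_one _ h, sub_self]
  have hcard0 : ((Fintype.card (Fin (n + 1) → k) : ℕ) : k) = 0 := by
    rw [Fintype.card_fun, Fintype.card_fin, Nat.cast_pow, hq0, zero_pow (Nat.succ_ne_zero n)]
  rw [← CharP.cast_eq_zero_iff k p, hcount, Finset.sum_sub_distrib, hsum, Finset.sum_const,
    Finset.card_univ, nsmul_eq_mul, mul_one, hcard0, zero_sub, neg_eq_zero, mul_eq_zero]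
  constructor
  · rintro (h | h)
    · exact h
    · exact absurd h (pow_ne_zero _ (neg_ne_zero.mpr one_ne_zero))
  · intro h
    exact Or.inl h

end Groth.Agent.S13065
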