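import Groth.Statements.S13066
import Mathlib

set_option autoImplicit false
universe u
open Zeta

namespace Groth.Agent.S13066

/-- Let k be a finite field with q elements and characteristic p, n ≥ 2, and f ∈ k[x_0, …, x_n]
homogeneous of degree n + 1. Then the coefficient of (x_0 ⋯ x_n)^{q−1} in f^{q−1} is nonzero if and
only if the coefficient of (x_0 ⋯ x_n)^{p−1} in f^{p−1} is nonzero. -/
theorem result {k : Type u} [Field k] [Finite k]
    (p : ℕ) [CharP k p] (n : ℕ) (hn : 2 ≤ n) (f : MvPolynomial (Fin (n + 1)) k)
    (hf : f.IsHomogeneous (n + 1)) :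
    MvPolynomial.coeff (Finsupp.equivFunOnFinite.symm fun _ : Fin (n + 1) => Nat.card k - 1)
        (f ^ (Nat.card k - 1)) ≠ 0 ↔
      MvPolynomial.coeff (Finsupp.equivFunOnFinite.symm fun _ : Fin (n + 1) => p - 1)
        (f ^ (p - 1)) ≠ 0 := by
  classical
  letI := Fintype.ofFinite k
  have hqc : Nat.card k = Fintype.card k := Nat.card_eq_fintype_card
  rw [hqc]
  obtain ⟨r, hp, hqr⟩ := FiniteField.card k p
  haveI : ExpChar k p := ExpChar.prime hp
  have hp1 : 1 ≤ p := hp.one_le
  have hhh : (f ^ (p - 1)).IsHomogeneous ((n + 1) * (p - 1)) := hf.pow (p - 1)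
  let cst : ℕ → (Fin (n + 1) →₀ ℕ) := fun a =>
    Finsupp.equivFunOnFinite.symm fun _ : Fin (n + 1) => a
  have hcst : ∀ a i, cst a i = a := fun a i => rfl
  have key : ∀ s : ℕ,
      MvPolynomial.coeff (cst (p ^ (s + 1) - 1)) (f ^ (p ^ (s + 1) - 1)) ≠ 0 ↔
      MvPolynomial.coeff (cst (p - 1)) (f ^ (p - 1)) ≠ 0 := by
    intro s
    induction s with
    | zero => rw [zero_add, pow_one]
    | succ s ih =>
      set a := p ^ (s + 1) - 1 with ha
      have hexp : p ^ (s + 1 + 1) - 1 = p * a + (p - 1) := by
        rw [ha, pow_succ' p (s + 1), Nat.mul_sub_one]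
        have h1 : p ≤ p * p ^ (s + 1) := Nat.le_mul_of_pos_right _ (pow_pos hp.pos _)
        generalize p * p ^ (s + 1) = X at *
        omega
      rw [hexp, pow_add, pow_mul']
      set A := f ^ a with hA
      have hAp : A ^ p = MvPolynomial.map (frobenius k p) (MvPolynomial.expand p A) :=
        (MvPolynomial.map_frobenius_expand p).symm
      have hcoefAp : ∀ μ, MvPolynomial.coeff μ (A ^ p)
          = (MvPolynomial.coeff μ (MvPolynomial.expand p A)) ^ p := fun μ => by
        rw [hAp, MvPolynomial.coeff_map, frobenius_def]
      have hmain : MvPolynomial.coeff (cst (p * a + (p - 1))) (A ^ p * f ^ (p - 1))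
          = (MvPolynomial.coeff (cst a) A) ^ p * MvPolynomial.coeff (cst (p - 1)) (f ^ (p - 1)) := by
        rw [MvPolynomial.coeff_mul]
        rw [Finset.sum_eq_single (p • cst a, cst (p - 1))]
        · show MvPolynomial.coeff (p • cst a) (A ^ p) *
            MvPolynomial.coeff (cst (p - 1)) (f ^ (p - 1)) = _
          rw [hcoefAp, MvPolynomial.coeff_expand_smul p hp.ne_zero]
        · rintro ⟨μ, ν⟩ hmem hne
          rw [Finset.HasAntidiagonal.mem_antidiagonal] at hmem
          dsimp only at hmem
          by_contra hcon
          have h1 : MvPolynomial.coeff μ (A ^ p) ≠ 0 := left_ne_zero_of_mul hcon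
          have h2 : MvPolynomial.coeff ν (f ^ (p - 1)) ≠ 0 := right_ne_zero_of_mul hcon
          have hdvd : ∀ i, p ∣ μ i := by
            intro i
            by_contra hnd
            apply h1
            rw [hcoefAp, MvPolynomial.coeff_expand_of_not_dvd A hnd, zero_pow hp.ne_zero]
          have hsumi : ∀ i, μ i + ν i = p * a + (p - 1) := fun i => by
            have := DFunLike.congr_fun hmem i
            rw [Finsupp.add_apply, hcst] at this
            exact this
          have hge : ∀ i, p - 1 ≤ ν i := by
            intro i
            obtain ⟨m, hm⟩ := hdvd i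
            have h3 := hsumi i
            rw [hm] at h3
            by_contra hlt
            push_neg at hlt
            have h4 : p * m = p * a + (p - 1 - ν i) := by omega
            have hd : p ∣ p - 1 - ν i :=
              (Nat.dvd_add_right (dvd_mul_right p a)).mp (h4 ▸ dvd_mul_right p m)
            have := Nat.le_of_dvd (by omega) hd
            omega
          have hdeg : ∑ i, ν i = (n + 1) * (p - 1) := by
            have h5 : ν.degree = (n + 1) * (p - 1) := by
              rw [Finsupp.degree_eq_weight_one]
              exact hhh h2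
            rwa [Finsupp.degree_eq_sum] at h5
          have hall : ∀ i ∈ (Finset.univ : Finset (Fin (n + 1))),
              (fun _ => p - 1) i = ν i := by
            rw [← Finset.sum_eq_sum_iff_of_le (fun i _ => hge i)]
            rw [Finset.sum_const, Finset.card_univ, Fintype.card_fin, smul_eq_mul, hdeg]
          apply hne
          have hν : ν = cst (p - 1) := by
            ext i
            rw [hcst]
            exact (hall i (Finset.mem_univ i)).symm
          have hμ : μ = p • cst a := by
            ext i
            have h3 := hsumi i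
            rw [hν, hcst] at h3
            rw [Finsupp.smul_apply, hcst, smul_eq_mul]
            omega
          rw [hμ, hν]
        · intro hnm
          exfalso
          apply hnm
          rw [Finset.HasAntidiagonal.mem_antidiagonal]
          show p • cst a + cst (p - 1) = cst (p * a + (p - 1))
          ext i
          rw [Finsupp.add_apply, Finsupp.smul_apply, hcst, hcst, hcst, smul_eq_mul]
      rw [hmain, mul_ne_zero_iff, pow_ne_zero_iff hp.ne_zero, ih]
      exact and_self_iff
  obtain ⟨r', hr'⟩ : ∃ r', (r : ℕ) = r' + 1 := Nat.exists_eq_succ_of_ne_zero r.pos.ne'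
  rw [hqr, hr']
  exact key r'

end Groth.Agent.S13066
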