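import Groth.Statements.S13075
import Mathlib

set_option autoImplicit false
open Zeta

namespace Groth.Agent.S13075

/-- For the formal power series exp(t) = ∑_{m ≥ 0} t^m / m! and log(1 + t) = ∑_{m ≥ 1} (−1)^{m+1} t^m /
m over ℚ, log(exp(u)) = u and exp(log(1 + u)) = 1 + u for every u ∈ tℚ⟦t⟧; stated for u = t (the
general case is obtained by substitution): substituting exp(t) − 1 into log(1 + ·) gives t, and
substituting log(1 + t) into exp gives 1 + t. -/
theorem result :
    PowerSeries.subst (PowerSeries.exp ℚ - 1)
        (PowerSeries.mk fun m : ℕ => if m = 0 then (0 : ℚ) else (-1) ^ (m + 1) / (m : ℚ)) =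
      PowerSeries.X ∧
    PowerSeries.subst (PowerSeries.mk fun m : ℕ => if m = 0 then (0 : ℚ) else (-1) ^ (m + 1) / (m : ℚ))
        (PowerSeries.exp ℚ) = 1 + PowerSeries.X := by
  have hlog : (PowerSeries.mk fun m : ℕ => if m = 0 then (0 : ℚ) else (-1) ^ (m + 1) / (m : ℚ))
      = PowerSeries.log ℚ := by
    ext n
    simp [PowerSeries.coeff_log]
  rw [hlog]
  set G : PowerSeries ℚ := PowerSeries.mk fun n => algebraMap ℚ ℚ ((-1 : ℚ) ^ n) with hG
  have hGu : G * (1 + PowerSeries.X) = 1 := by
    ext n
    rw [mul_add, mul_one, map_add]
    cases n with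
    | zero => simp [hG]
    | succ n =>
      rw [PowerSeries.coeff_succ_mul_X, hG, PowerSeries.coeff_mk, PowerSeries.coeff_mk]
      simp [pow_succ]
  have he1 : PowerSeries.HasSubst (PowerSeries.exp ℚ - 1) := PowerSeries.HasSubst.exp_sub_one
  have hl : PowerSeries.HasSubst (PowerSeries.log ℚ) := PowerSeries.HasSubst.log
  have s1 : PowerSeries.subst (PowerSeries.exp ℚ - 1) (1 : PowerSeries ℚ) = (1 : PowerSeries ℚ) := by
    rw [← PowerSeries.coe_substAlgHom he1]; exact map_one _
  constructor
  · apply PowerSeries.derivative.ext
    · rw [PowerSeries.derivative_subst he1, PowerSeries.deriv_log, map_sub,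
        PowerSeries.derivative_exp, PowerSeries.derivative_one, sub_zero, PowerSeries.derivative_X]
      have := congrArg (PowerSeries.subst (PowerSeries.exp ℚ - 1)) hGu
      rw [PowerSeries.subst_mul he1, PowerSeries.subst_add he1, PowerSeries.subst_X he1, s1,
        add_sub_cancel] at this
      exact this
    · rw [PowerSeries.constantCoeff_X]
      refine PowerSeries.constantCoeff_subst_eq_zero ?_ _ (by simp)
      rw [map_sub, map_one]
      exact sub_eq_zero.mpr PowerSeries.constantCoeff_exp
  · set E : PowerSeries ℚ := PowerSeries.subst (PowerSeries.log ℚ) (PowerSeries.exp ℚ) with hE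
    have hE' : PowerSeries.derivative ℚ E = E * G := by
      rw [hE, PowerSeries.derivative_subst hl, PowerSeries.derivative_exp, PowerSeries.deriv_log]
    have hG' : PowerSeries.derivative ℚ G * (1 + PowerSeries.X) + G = 0 := by
      have := congrArg (PowerSeries.derivative ℚ) hGu
      rw [Derivation.leibniz, map_add, PowerSeries.derivative_one, PowerSeries.derivative_X,
        zero_add, smul_eq_mul, smul_eq_mul, mul_one] at this
      linear_combination this
    have hEG : PowerSeries.derivative ℚ (E * G) = 0 := by
      have h1 : (1 + PowerSeries.X) * PowerSeries.derivative ℚ (E * G) = 0 := by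
        rw [Derivation.leibniz, hE', smul_eq_mul, smul_eq_mul]
        linear_combination E * hG' + E * G * hGu
      calc PowerSeries.derivative ℚ (E * G)
          = G * (1 + PowerSeries.X) * PowerSeries.derivative ℚ (E * G) := by rw [hGu, one_mul]
        _ = G * ((1 + PowerSeries.X) * PowerSeries.derivative ℚ (E * G)) := by ring
        _ = 0 := by rw [h1, mul_zero]
    have hcE : PowerSeries.constantCoeff E = 1 := by
      rw [hE]
      have := PowerSeries.constantCoeff_subst hl (PowerSeries.exp ℚ)
      rw [finsum_eq_single _ 0 (fun d hd => by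
        rw [map_pow, show MvPowerSeries.constantCoeff (PowerSeries.log ℚ) = 0 from
          PowerSeries.constantCoeff_log, zero_pow hd, smul_zero])] at this
      have h2 : MvPowerSeries.constantCoeff
          (PowerSeries.subst (PowerSeries.log ℚ) (PowerSeries.exp ℚ)) = 1 := by
        simpa using this
      exact h2
    have hEG1 : E * G = 1 := by
      apply PowerSeries.derivative.ext
      · rw [hEG, PowerSeries.derivative_one]
      · rw [map_mul, hcE, map_one, one_mul, hG]
        simp
    calc E = E * (G * (1 + PowerSeries.X)) := by rw [hGu, mul_one]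
      _ = (E * G) * (1 + PowerSeries.X) := by ring
      _ = 1 + PowerSeries.X := by rw [hEG1, one_mul]

end Groth.Agent.S13075
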