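import Groth.Statements.S13088
-- import your own Groth.Agent.* helpers here
import Mathlib

set_option autoImplicit false
universe u
open Lie3Mod

namespace Groth.Agent.S13088

/-- Let A be a commutative domain and D = A[a,b,c,d,e,f,g,h,i]. Then the ideal L = (a − i, b + f, d + h)
of D is minimal among the prime ideals of D containing the Jacobi ideal I = (Q1, Q2, Q3), where Q1 =
ah + di − fg − bg, Q2 = ie + bd − fh − ae, Q3 = hc + dc − af − bi. (The published statement is made
with a regular base ring in force, used there as a domain; the printed argument uses only that the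
base ring is a domain, which is the hypothesis taken here.) -/
theorem result (A : Type u) [CommRing A] [IsDomain A] :
    Lie3Mod.idL A ∈ (Lie3Mod.idI A).minimalPrimes := by
  classical
  have hL1 : L1 A ∈ idL A := Ideal.subset_span (by simp)
  have hL2 : L2 A ∈ idL A := Ideal.subset_span (by simp)
  have hL3 : L3 A ∈ idL A := Ideal.subset_span (by simp)
  have hQ1 : Q1 A ∈ idI A := Ideal.subset_span (by simp)
  have hQ2 : Q2 A ∈ idI A := Ideal.subset_span (by simp)
  have hQ3 : Q3 A ∈ idI A := Ideal.subset_span (by simp)
  -- I ≤ L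
  have hIL : idI A ≤ idL A := by
    unfold idI
    rw [Ideal.span_le]
    intro x hx
    simp only [Set.mem_insert_iff, Set.mem_singleton_iff] at hx
    rcases hx with rfl | rfl | rfl
    · have e : Q1 A = vh * L1 A + (-vg) * L2 A + vi * L3 A := by
        unfold Q1 L1 L2 L3; ring
      rw [SetLike.mem_coe, e]
      exact add_mem (add_mem (Ideal.mul_mem_left _ _ hL1) (Ideal.mul_mem_left _ _ hL2))
        (Ideal.mul_mem_left _ _ hL3)
    · have e : Q2 A = (-ve) * L1 A + (-vh) * L2 A + vb * L3 A := by
        unfold Q2 L1 L2 L3; ring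
      rw [SetLike.mem_coe, e]
      exact add_mem (add_mem (Ideal.mul_mem_left _ _ hL1) (Ideal.mul_mem_left _ _ hL2))
        (Ideal.mul_mem_left _ _ hL3)
    · have e : Q3 A = (-vf) * L1 A + (-vi) * L2 A + vc * L3 A := by
        unfold Q3 L1 L2 L3; ring
      rw [SetLike.mem_coe, e]
      exact add_mem (add_mem (Ideal.mul_mem_left _ _ hL1) (Ideal.mul_mem_left _ _ hL2))
        (Ideal.mul_mem_left _ _ hL3)
  -- cofactor identities
  have hd1 : detM A * L1 A ∈ idI A := by
    have e : detM A * L1 A = (-(vh * vc) + vb * vi) * Q1 A + (vg * vc - vi ^ 2) * Q2 A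
        + (-(vg * vb) + vi * vh) * Q3 A := by
      unfold detM Q1 Q2 Q3 L1; ring
    rw [e]
    exact add_mem (add_mem (Ideal.mul_mem_left _ _ hQ1) (Ideal.mul_mem_left _ _ hQ2))
      (Ideal.mul_mem_left _ _ hQ3)
  have hd2 : detM A * L2 A ∈ idI A := by
    have e : detM A * L2 A = (ve * vc - vb * vf) * Q1 A + (vh * vc + vi * vf) * Q2 A
        + (-(vh * vb) - vi * ve) * Q3 A := by
      unfold detM Q1 Q2 Q3 L2; ring
    rw [e]
    exact add_mem (add_mem (Ideal.mul_mem_left _ _ hQ1) (Ideal.mul_mem_left _ _ hQ2))
      (Ideal.mul_mem_left _ _ hQ3)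
  have hd3 : detM A * L3 A ∈ idI A := by
    have e : detM A * L3 A = (ve * vi - vh * vf) * Q1 A + (vh * vi + vg * vf) * Q2 A
        + (-(vh ^ 2) - vg * ve) * Q3 A := by
      unfold detM Q1 Q2 Q3 L3; ring
    rw [e]
    exact add_mem (add_mem (Ideal.mul_mem_left _ _ hQ1) (Ideal.mul_mem_left _ _ hQ2))
      (Ideal.mul_mem_left _ _ hQ3)
  -- detM ∉ L
  have hdet : detM A ∉ idL A := by
    intro hmem
    let pt : Fin 9 → A := fun n => if n = 0 ∨ n = 4 ∨ n = 8 then 1 else 0
    have hle : idL A ≤ RingHom.ker (MvPolynomial.eval pt) := by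
      unfold idL
      rw [Ideal.span_le]
      intro x hx
      simp only [Set.mem_insert_iff, Set.mem_singleton_iff] at hx
      rcases hx with rfl | rfl | rfl <;>
        simp [RingHom.mem_ker, L1, L2, L3, pt]
    have h0 := hle hmem
    rw [RingHom.mem_ker] at h0
    simp [detM, pt] at h0
  -- L is prime
  let g : Fin 9 → D A := fun n =>
    if n = 8 then MvPolynomial.X 0 else if n = 5 then -MvPolynomial.X 1
    else if n = 7 then -MvPolynomial.X 3 else MvPolynomial.X n
  let σ : D A →ₐ[A] D A := MvPolynomial.aeval g
  have hσX : ∀ n, σ (MvPolynomial.X n) = g n := fun n => MvPolynomial.aeval_X g n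
  have hXg : ∀ n : Fin 9, (MvPolynomial.X n : D A) - g n ∈ idL A := by
    intro n
    by_cases h8 : n = 8
    · subst h8
      have e : (MvPolynomial.X 8 : D A) - g 8 = (-1) * L1 A := by
        simp only [g, if_true]; unfold L1; ring
      rw [e]; exact Ideal.mul_mem_left _ _ hL1
    by_cases h5 : n = 5
    · subst h5
      have e : (MvPolynomial.X 5 : D A) - g 5 = L2 A := by
        simp only [g]; unfold L2; simp; ring
      rw [e]; exact hL2
    by_cases h7 : n = 7
    · subst h7
      have e : (MvPolynomial.X 7 : D A) - g 7 = L3 A := by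
        simp only [g]; unfold L3; simp; ring
      rw [e]; exact hL3
    · have e : (MvPolynomial.X n : D A) - g n = 0 := by
        simp only [g, if_neg h8, if_neg h5, if_neg h7, sub_self]
      rw [e]; exact zero_mem _
  have hker : RingHom.ker (σ : D A →+* D A) = idL A := by
    apply le_antisymm
    · intro p hp
      have h1 : ∀ p : D A, p - σ p ∈ idL A := by
        intro p
        induction p using MvPolynomial.induction_on with
        | C a =>
          have : σ (MvPolynomial.C a) = MvPolynomial.C a := by
            simp [σ, MvPolynomial.algebraMap_eq]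
          rw [this, sub_self]; exact zero_mem _
        | add p q hp hq =>
          have : p + q - σ (p + q) = (p - σ p) + (q - σ q) := by rw [map_add]; ring
          rw [this]; exact add_mem hp hq
        | mul_X p n hp =>
          have : p * MvPolynomial.X n - σ (p * MvPolynomial.X n)
              = (p - σ p) * MvPolynomial.X n + σ p * (MvPolynomial.X n - g n) := by
            rw [map_mul, hσX]; ring
          rw [this]
          exact add_mem (Ideal.mul_mem_right _ _ hp) (Ideal.mul_mem_left _ _ (hXg n))
      have h2 := h1 p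
      rw [RingHom.mem_ker] at hp
      have h3 : σ p = 0 := hp
      rwa [h3, sub_zero] at h2
    · unfold idL
      rw [Ideal.span_le]
      intro x hx
      simp only [Set.mem_insert_iff, Set.mem_singleton_iff] at hx
      rcases hx with rfl | rfl | rfl
      · show (σ : D A →+* D A) (L1 A) = 0
        unfold L1
        simp [hσX, g]
      · show (σ : D A →+* D A) (L2 A) = 0
        unfold L2
        simp [hσX, g]
      · show (σ : D A →+* D A) (L3 A) = 0
        unfold L3
        simp [hσX, g]
  have hprime : (idL A).IsPrime := by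
    rw [← hker]
    exact RingHom.ker_isPrime _
  show Minimal (fun q : Ideal (D A) => q.IsPrime ∧ idI A ≤ q) (idL A)
  refine ⟨⟨hprime, hIL⟩, ?_⟩
  rintro q ⟨hq, hIq⟩ hqL
  have hdq : detM A ∉ q := fun h => hdet (hqL h)
  unfold idL
  rw [Ideal.span_le]
  intro x hx
  simp only [Set.mem_insert_iff, Set.mem_singleton_iff] at hx
  rcases hx with rfl | rfl | rfl
  · exact (hq.mem_or_mem (hIq hd1)).resolve_left hdq
  · exact (hq.mem_or_mem (hIq hd2)).resolve_left hdq
  · exact (hq.mem_or_mem (hIq hd3)).resolve_left hdq

end Groth.Agent.S13088
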