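import Groth.Statements.S13098
import Mathlib

set_option autoImplicit false
universe u v
open Lie3Mod

namespace Groth.Agent.S13098

/-- Let R be a commutative ring, M an R-module with a basis x = bs 0, y = bs 1, z = bs 2 indexed by Fin
3, and B an R-bilinear alternating map on M (B m m = 0) with B x y = a x + b y + c z, B x z = d x +
e y + f z and B y z = g x + h y + i z. Then B satisfies the Jacobi identity for all triples if and
only if the three Jacobi polynomials vanish: ah + di − fg − bg = 0, ie + bd − fh − ae = 0 and hc +
dc − af − bi = 0. (This is the statement that Lie brackets on a based free module of rank 3 are the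
points of the closed subscheme of affine 9-space defined by these three equations.) -/
theorem result (R : Type u) [CommRing R] (M : Type v) [AddCommGroup M] [Module R M]
    (bs : Module.Basis (Fin 3) R M) (B : M →ₗ[R] M →ₗ[R] M) (halt : ∀ m : M, B m m = 0)
    (a b c d e f g h i : R)
    (hxy : B (bs 0) (bs 1) = a • bs 0 + b • bs 1 + c • bs 2)
    (hxz : B (bs 0) (bs 2) = d • bs 0 + e • bs 1 + f • bs 2)
    (hyz : B (bs 1) (bs 2) = g • bs 0 + h • bs 1 + i • bs 2) :
    (∀ u v w : M, B u (B v w) + B v (B w u) + B w (B u v) = 0) ↔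
      (a * h + d * i - f * g - b * g = 0 ∧ i * e + b * d - f * h - a * e = 0 ∧
        h * c + d * c - a * f - b * i = 0) := by
  have hanti : ∀ u v : M, B u v = - B v u := by
    intro u v
    have h := halt (u + v)
    simp only [map_add, LinearMap.add_apply, halt, zero_add, add_zero] at h
    first
      | exact eq_neg_of_add_eq_zero_left h
      | exact eq_neg_of_add_eq_zero_right h
  have hyx : B (bs 1) (bs 0) = -(a • bs 0 + b • bs 1 + c • bs 2) := by rw [hanti, hxy]
  have hzx : B (bs 2) (bs 0) = -(d • bs 0 + e • bs 1 + f • bs 2) := by rw [hanti, hxz]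
  have hzy : B (bs 2) (bs 1) = -(g • bs 0 + h • bs 1 + i • bs 2) := by rw [hanti, hyz]
  set J : M → M → M → M := fun u v w => B u (B v w) + B v (B w u) + B w (B u v) with hJ
  have hcyc : ∀ u v w, J u v w = J v w u := by
    intro u v w
    simp only [hJ]
    abel
  have hrep : ∀ u w, J u u w = 0 := by
    intro u w
    simp only [hJ]
    rw [halt, map_zero, hanti w u, map_neg]
    abel
  have hrep2 : ∀ u w, J w u u = 0 := by
    intro u w
    rw [hcyc]
    exact hrep _ _
  have hrep3 : ∀ u w, J u w u = 0 := by
    intro u w
    rw [hcyc]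
    exact hrep2 _ _
  have hswap : ∀ u v w, J v u w = - J u v w := by
    intro u v w
    simp only [hJ]
    rw [hanti u w, hanti w v, hanti v u]
    simp only [map_neg]
    abel
  have key : J (bs 0) (bs 1) (bs 2) =
      (a * h + d * i - f * g - b * g) • bs 0 + (i * e + b * d - f * h - a * e) • bs 1 +
        (h * c + d * c - a * f - b * i) • bs 2 := by
    simp only [hJ, hxy, hyz, hzx, hzy, hxz, hyx, halt, map_add, map_smul, map_neg, smul_zero,
      zero_add, add_zero]
    module
  constructor
  · intro hall
    have h0 := hall (bs 0) (bs 1) (bs 2)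
    change J (bs 0) (bs 1) (bs 2) = 0 at h0
    rw [key] at h0
    have hli := Fintype.linearIndependent_iff.1 bs.linearIndependent
      ![a * h + d * i - f * g - b * g, i * e + b * d - f * h - a * e,
        h * c + d * c - a * f - b * i] (by
        rw [Fin.sum_univ_three]
        exact h0)
    exact ⟨hli 0, hli 1, hli 2⟩
  · rintro ⟨h1, h2, h3⟩
    have hxyz : J (bs 0) (bs 1) (bs 2) = 0 := by
      rw [key, h1, h2, h3]
      simp
    have hp1 : J (bs 1) (bs 2) (bs 0) = 0 := by rw [← hcyc]; exact hxyz
    have hp2 : J (bs 2) (bs 0) (bs 1) = 0 := by rw [hcyc]; exact hxyz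
    have hp3 : J (bs 1) (bs 0) (bs 2) = 0 := by rw [hswap, hxyz, neg_zero]
    have hp4 : J (bs 0) (bs 2) (bs 1) = 0 := by rw [hswap, hp2, neg_zero]
    have hp5 : J (bs 2) (bs 1) (bs 0) = 0 := by rw [hswap, hp1, neg_zero]
    have hbasis : ∀ i j l : Fin 3, J (bs i) (bs j) (bs l) = 0 := by
      intro i j l
      fin_cases i <;> fin_cases j <;> fin_cases l <;>
        first
        | exact hrep _ _
        | exact hrep2 _ _
        | exact hrep3 _ _
        | exact hxyz
        | exact hp1
        | exact hp2
        | exact hp3
        | exact hp4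
        | exact hp5
    have hlin3 : ∀ u v, (∀ l, J u v (bs l) = 0) → ∀ w, J u v w = 0 := by
      intro u v hl w
      let Jl : M →ₗ[R] M := (B u).comp (B v) + (B v).comp (B.flip u) + B.flip (B u v)
      have hJl : ∀ w, Jl w = J u v w := by
        intro w
        simp [Jl, hJ, LinearMap.flip_apply]
      have h0 : Jl = 0 := bs.ext (fun l => by rw [hJl, hl]; rfl)
      rw [← hJl, h0]; rfl
    have hA : ∀ i j w, J (bs i) (bs j) w = 0 := fun i j => hlin3 _ _ (hbasis i j)
    have hB : ∀ i v w, J (bs i) v w = 0 := by
      intro i v w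
      rw [← hcyc w (bs i) v]
      apply hlin3
      intro l
      rw [hcyc w (bs i) (bs l)]
      exact hA i l w
    intro u v w
    change J u v w = 0
    rw [hcyc u v w]
    apply hlin3
    intro l
    rw [← hcyc (bs l) v w]
    exact hB l v w

end Groth.Agent.S13098
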