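import Groth.Statements.S13100
import Mathlib

set_option autoImplicit false
universe u
open GrpSch

namespace Groth.Agent.S13100

/-- Let k be an algebraically closed field of characteristic different from 2 and K = k((t)) the field
of Laurent series over k. Then a non-zero Laurent series f is a square in K if and only if its order
in t is even; consequently the group Kˣ/Kˣ² of non-zero elements modulo squares has exactly two
elements, represented by 1 and t. -/
theorem result (k : Type u) [Field k] [IsAlgClosed k] (h2 : (2 : k) ≠ 0)
    (f : LaurentSeries k) (hf : f ≠ 0) : IsSquare f ↔ Even f.order := by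
  constructor
  · rintro ⟨g, hg⟩
    have hg0 : g ≠ 0 := by
      rintro rfl
      exact hf (by rw [hg, mul_zero])
    exact ⟨g.order, by rw [hg, HahnSeries.order_mul hg0 hg0]⟩
  · rintro ⟨m, hm⟩
    have hc : PowerSeries.constantCoeff f.powerSeriesPart ≠ 0 := by
      rw [← PowerSeries.coeff_zero_eq_constantCoeff_apply, LaurentSeries.powerSeriesPart_coeff]
      simpa using mt HahnSeries.coeff_order_eq_zero.1 hf
    obtain ⟨s, hs⟩ := IsAlgClosed.exists_pow_nat_eq
      (PowerSeries.constantCoeff f.powerSeriesPart) (n := 2) (by norm_num)
    have hs0 : s ≠ 0 := by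
      rintro rfl
      apply hc
      rw [← hs]
      simp
    have hH : HenselianRing (PowerSeries k) (Ideal.span {(PowerSeries.X : PowerSeries k)}) :=
      inferInstance
    have h1 : Polynomial.eval (PowerSeries.C s)
        (Polynomial.X ^ 2 - Polynomial.C f.powerSeriesPart) ∈
        Ideal.span {(PowerSeries.X : PowerSeries k)} := by
      rw [Ideal.mem_span_singleton, PowerSeries.X_dvd_iff]
      simp [hs]
    have h2' : IsUnit (Polynomial.eval (PowerSeries.C s)
        (Polynomial.derivative (Polynomial.X ^ 2 - Polynomial.C f.powerSeriesPart))) := by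
      rw [PowerSeries.isUnit_iff_constantCoeff]
      have : PowerSeries.constantCoeff (Polynomial.eval (PowerSeries.C s)
        (Polynomial.derivative (Polynomial.X ^ 2 - Polynomial.C f.powerSeriesPart))) = 2 * s := by
        simp
        exact Or.inl one_add_one_eq_two
      rw [this]
      exact (mul_ne_zero h2 hs0).isUnit
    obtain ⟨a, ha, -⟩ := hH.is_henselian (Polynomial.X ^ 2 - Polynomial.C f.powerSeriesPart)
      (Polynomial.monic_X_pow_sub_C _ (by norm_num)) (PowerSeries.C s) h1
      (h2'.map _)
    have ha' : a * a = f.powerSeriesPart := by
      have := ha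
      rw [Polynomial.IsRoot.def] at this
      simp [sub_eq_zero] at this
      rw [← this]; ring
    have hf1 := LaurentSeries.single_order_mul_powerSeriesPart f
    have hsingle : (HahnSeries.single (m + m) (1 : k) : LaurentSeries k) =
        HahnSeries.single m 1 * HahnSeries.single m 1 := by
      rw [HahnSeries.single_mul_single, mul_one]
    refine ⟨HahnSeries.single m 1 * (HahnSeries.ofPowerSeries ℤ k a), ?_⟩
    calc f = HahnSeries.single f.order 1 *
          (HahnSeries.ofPowerSeries ℤ k f.powerSeriesPart) := hf1.symm
      _ = HahnSeries.single (m + m) 1 * (HahnSeries.ofPowerSeries ℤ k (a * a)) := by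
          rw [hm, ha']
      _ = _ := by
          rw [hsingle, map_mul]; ring

end Groth.Agent.S13100
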