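import Groth.Statements.S13101
import Mathlib

set_option autoImplicit false
universe u v
open GrpSch

namespace Groth.Agent.S13101

/-- Let A be a commutative ring in which 2 is a unit, and L a Lie algebra over A, free as a module with
basis x = bs 0, y = bs 1, z = bs 2 and brackets [x,y] = y, [x,z] = y + z, [y,z] = 0. Then for every
Lie algebra automorphism φ of L over A there are b, c, h ∈ A and a unit i of A with φ(x) = x + b y +
c z, φ(y) = i y and φ(z) = h y + i z. Only the form of an automorphism is stated, not that every map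
of this form is one. (The published statement identifies the automorphism group scheme with a
semidirect product of two additive groups by the product of the multiplicative and additive group,
for algebras over a field of Laurent series of characteristic not 2, and deduces the vanishing of
its first cohomology; this row records the determination of the automorphisms, over any base ring
with 2 invertible; the cohomological consequence is not restated.) -/
theorem result (A : Type u) [CommRing A] (h2 : IsUnit (2 : A))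
    (L : Type v) [LieRing L] [LieAlgebra A L] (bs : Module.Basis (Fin 3) A L)
    (hxy : ⁅bs 0, bs 1⁆ = bs 1) (hxz : ⁅bs 0, bs 2⁆ = bs 1 + bs 2) (hyz : ⁅bs 1, bs 2⁆ = 0)
    (φ : L ≃ₗ⁅A⁆ L) :
    ∃ b c h i : A, IsUnit i ∧ φ (bs 0) = bs 0 + b • bs 1 + c • bs 2 ∧ φ (bs 1) = i • bs 1 ∧
      φ (bs 2) = h • bs 1 + i • bs 2 := by
  classical
  have hyx : ⁅bs 1, bs 0⁆ = -bs 1 := by rw [← lie_skew, hxy]
  have hzx : ⁅bs 2, bs 0⁆ = -(bs 1 + bs 2) := by rw [← lie_skew, hxz]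
  have hzy : ⁅bs 2, bs 1⁆ = 0 := by rw [← lie_skew, hyz, neg_zero]
  have hbr : ∀ u₀ u₁ u₂ v₀ v₁ v₂ : A,
      ⁅u₀ • bs 0 + u₁ • bs 1 + u₂ • bs 2, v₀ • bs 0 + v₁ • bs 1 + v₂ • bs 2⁆ =
        ((u₀ * v₁ - u₁ * v₀) + (u₀ * v₂ - u₂ * v₀)) • bs 1 + (u₀ * v₂ - u₂ * v₀) • bs 2 := by
    intro u₀ u₁ u₂ v₀ v₁ v₂
    simp only [add_lie, lie_add, smul_lie, lie_smul, lie_self, hxy, hxz, hyz, hyx, hzx, hzy]
    module
  have hdecomp : ∀ v : L, v = bs.repr v 0 • bs 0 + bs.repr v 1 • bs 1 + bs.repr v 2 • bs 2 := by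
    intro v
    conv_lhs => rw [← bs.sum_repr v, Fin.sum_univ_three]
  have hcoord : ∀ (u₀ u₁ u₂ : A),
      bs.repr (u₀ • bs 0 + u₁ • bs 1 + u₂ • bs 2) 0 = u₀ ∧
      bs.repr (u₀ • bs 0 + u₁ • bs 1 + u₂ • bs 2) 1 = u₁ ∧
      bs.repr (u₀ • bs 0 + u₁ • bs 1 + u₂ • bs 2) 2 = u₂ := by
    intro u₀ u₁ u₂
    simp [Finsupp.single_apply]
  have hinj : ∀ u₀ u₁ u₂ v₀ v₁ v₂ : A,
      u₀ • bs 0 + u₁ • bs 1 + u₂ • bs 2 = v₀ • bs 0 + v₁ • bs 1 + v₂ • bs 2 →
        u₀ = v₀ ∧ u₁ = v₁ ∧ u₂ = v₂ := by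
    intro u₀ u₁ u₂ v₀ v₁ v₂ h
    have h0 := hcoord u₀ u₁ u₂
    have h1 := hcoord v₀ v₁ v₂
    rw [h] at h0
    exact ⟨h0.1.symm.trans h1.1, h0.2.1.symm.trans h1.2.1, h0.2.2.symm.trans h1.2.2⟩
  have hX := hdecomp (φ (bs 0))
  have hY := hdecomp (φ (bs 1))
  have hZ := hdecomp (φ (bs 2))
  have hdet := LinearEquiv.isUnit_det φ.toLinearEquiv bs bs
  rw [Matrix.det_fin_three] at hdet
  simp only [LinearMap.toMatrix_apply] at hdet
  change IsUnit (bs.repr (φ (bs 0)) 0 * bs.repr (φ (bs 1)) 1 * bs.repr (φ (bs 2)) 2 -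
    bs.repr (φ (bs 0)) 0 * bs.repr (φ (bs 2)) 1 * bs.repr (φ (bs 1)) 2 -
    bs.repr (φ (bs 1)) 0 * bs.repr (φ (bs 0)) 1 * bs.repr (φ (bs 2)) 2 +
    bs.repr (φ (bs 1)) 0 * bs.repr (φ (bs 2)) 1 * bs.repr (φ (bs 0)) 2 +
    bs.repr (φ (bs 2)) 0 * bs.repr (φ (bs 0)) 1 * bs.repr (φ (bs 1)) 2 -
    bs.repr (φ (bs 2)) 0 * bs.repr (φ (bs 1)) 1 * bs.repr (φ (bs 0)) 2) at hdet
  generalize bs.repr (φ (bs 0)) 0 = a at hX hdet
  generalize bs.repr (φ (bs 0)) 1 = b at hX hdet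
  generalize bs.repr (φ (bs 0)) 2 = c at hX hdet
  generalize bs.repr (φ (bs 1)) 0 = r at hY hdet
  generalize bs.repr (φ (bs 1)) 1 = p at hY hdet
  generalize bs.repr (φ (bs 1)) 2 = q at hY hdet
  generalize bs.repr (φ (bs 2)) 0 = s at hZ hdet
  generalize bs.repr (φ (bs 2)) 1 = h at hZ hdet
  generalize bs.repr (φ (bs 2)) 2 = i' at hZ hdet
  have E1 : r • bs 0 + p • bs 1 + q • bs 2 = (0 : A) • bs 0 +
      ((a * p - b * r) + (a * q - c * r)) • bs 1 + (a * q - c * r) • bs 2 := by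
    calc r • bs 0 + p • bs 1 + q • bs 2 = φ (bs 1) := hY.symm
      _ = φ ⁅bs 0, bs 1⁆ := by rw [hxy]
      _ = ⁅φ (bs 0), φ (bs 1)⁆ := LieEquiv.map_lie φ _ _
      _ = ⁅a • bs 0 + b • bs 1 + c • bs 2, r • bs 0 + p • bs 1 + q • bs 2⁆ := by
          rw [← hX, ← hY]
      _ = _ := by rw [hbr, zero_smul, zero_add]
  have E2 : (r + s) • bs 0 + (p + h) • bs 1 + (q + i') • bs 2 = (0 : A) • bs 0 +
      ((a * h - b * s) + (a * i' - c * s)) • bs 1 + (a * i' - c * s) • bs 2 := by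
    calc (r + s) • bs 0 + (p + h) • bs 1 + (q + i') • bs 2
        = (r • bs 0 + p • bs 1 + q • bs 2) + (s • bs 0 + h • bs 1 + i' • bs 2) := by module
      _ = φ (bs 1) + φ (bs 2) := by rw [← hY, ← hZ]
      _ = φ ⁅bs 0, bs 2⁆ := by rw [hxz, map_add]
      _ = ⁅φ (bs 0), φ (bs 2)⁆ := LieEquiv.map_lie φ _ _
      _ = ⁅a • bs 0 + b • bs 1 + c • bs 2, s • bs 0 + h • bs 1 + i' • bs 2⁆ := by
          rw [← hX, ← hZ]
      _ = _ := by rw [hbr, zero_smul, zero_add]
  obtain ⟨hr, e1, e2⟩ := hinj _ _ _ _ _ _ E1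
  obtain ⟨hrs, e3, e4⟩ := hinj _ _ _ _ _ _ E2
  have hs : s = 0 := by rw [hr, zero_add] at hrs; exact hrs
  have e1' : a * p + a * q = p := by linear_combination (-1 : A) * e1 + (b + c) * hr
  have e2' : a * q = q := by linear_combination (-1 : A) * e2 + c * hr
  have e3' : a * h + a * i' = p + h := by linear_combination (-1 : A) * e3 + (b + c) * hs
  have e4' : a * i' = q + i' := by linear_combination (-1 : A) * e4 + c * hs
  have hdet' : IsUnit (a * (p * i' - h * q)) := by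
    have h0 : a * (p * i' - h * q) = a * p * i' - a * h * q - r * b * i' + r * h * c +
        s * b * q - s * p * c := by rw [hr, hs]; ring
    rw [h0]; exact hdet
  have hD : IsUnit (p * i' - h * q) := isUnit_of_mul_isUnit_right hdet'
  have key : 2 * (a - 1) * (p * i' - h * q) = 0 := by
    linear_combination i' * e1' - q * e3' - h * e2' + p * e4'
  have h1 : 2 * (a - 1) = 0 := (hD.mul_left_eq_zero).1 key
  have h2' : a - 1 = 0 := (h2.mul_right_eq_zero).1 h1
  have ha1 : a = 1 := sub_eq_zero.1 h2'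
  have hq0 : q = 0 := by
    have h3 := e1'
    rw [ha1] at h3
    linear_combination h3
  have hip : i' = p := by
    have h3 := e3'
    rw [ha1] at h3
    linear_combination h3
  have hpp : IsUnit (p * p) := by
    have h0 : p * p = p * i' - h * q := by rw [hip, hq0]; ring
    rw [h0]; exact hD
  refine ⟨b, c, h, p, isUnit_of_mul_isUnit_left hpp, ?_, ?_, ?_⟩
  · rw [hX, ha1, one_smul]
  · rw [hY, hr, hq0, zero_smul, zero_smul, zero_add, add_zero]
  · rw [hZ, hs, hip, zero_smul, zero_add]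

end Groth.Agent.S13101
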