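import Groth.Statements.S13102
import Mathlib

set_option autoImplicit false
universe u v w
open GrpSch

namespace Groth.Agent.S13102

/-- Let K be a field, α ∈ K, A a commutative K-algebra and L a Lie algebra over A which is free as an
A-module with basis x = bs 0, y = bs 1, z = bs 2 and brackets [x,y] = y, [x,z] = α z, [y,z] = 0. If
α² ≠ 1 then every Lie algebra automorphism φ of L over A satisfies φ(x) = x + b y + c z, φ(y) = e y,
φ(z) = i z for some b, c ∈ A and units e, i of A. If α = 1 then every such φ satisfies φ(x) = x + b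
y + c z, φ(y) = e y + f z, φ(z) = h y + i z with e i − f h a unit of A. (The printed statement
identifies the automorphism group schemes with the corresponding semidirect products, treats also α
= −1 in characteristic not 2, and computes first cohomology over a field of Laurent series; those
clauses are not restated here.) -/
theorem result (K : Type u) [Field K] (α : K) (A : Type v) [CommRing A] [Algebra K A]
    (L : Type w) [LieRing L] [LieAlgebra A L] (bs : Module.Basis (Fin 3) A L)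
    (hxy : ⁅bs 0, bs 1⁆ = bs 1) (hxz : ⁅bs 0, bs 2⁆ = algebraMap K A α • bs 2) (hyz : ⁅bs 1, bs 2⁆ = 0)
    (φ : L ≃ₗ⁅A⁆ L) :
    (α ^ 2 ≠ 1 → ∃ b c e i : A, IsUnit e ∧ IsUnit i ∧ φ (bs 0) = bs 0 + b • bs 1 + c • bs 2 ∧
        φ (bs 1) = e • bs 1 ∧ φ (bs 2) = i • bs 2) ∧
    (α = 1 → ∃ b c e f h i : A, IsUnit (e * i - f * h) ∧ φ (bs 0) = bs 0 + b • bs 1 + c • bs 2 ∧
        φ (bs 1) = e • bs 1 + f • bs 2 ∧ φ (bs 2) = h • bs 1 + i • bs 2) := by
  classical
  obtain ⟨β, hβ⟩ : ∃ β : A, β = algebraMap K A α := ⟨_, rfl⟩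
  rw [← hβ] at hxz
  have hyx : ⁅bs 1, bs 0⁆ = -bs 1 := by rw [← lie_skew, hxy]
  have hzx : ⁅bs 2, bs 0⁆ = -(β • bs 2) := by rw [← lie_skew, hxz]
  have hzy : ⁅bs 2, bs 1⁆ = 0 := by rw [← lie_skew, hyz, neg_zero]
  have hbr : ∀ u₀ u₁ u₂ v₀ v₁ v₂ : A,
      ⁅u₀ • bs 0 + u₁ • bs 1 + u₂ • bs 2, v₀ • bs 0 + v₁ • bs 1 + v₂ • bs 2⁆ =
        (u₀ * v₁ - u₁ * v₀) • bs 1 + (β * (u₀ * v₂ - u₂ * v₀)) • bs 2 := by
    intro u₀ u₁ u₂ v₀ v₁ v₂
    simp only [add_lie, lie_add, smul_lie, lie_smul, lie_self, hxy, hxz, hyz, hyx, hzx, hzy]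
    module
  have hdecomp : ∀ v : L, v = bs.repr v 0 • bs 0 + bs.repr v 1 • bs 1 + bs.repr v 2 • bs 2 := by
    intro v
    conv_lhs => rw [← bs.sum_repr v, Fin.sum_univ_three]
  have hcoord : ∀ (u₀ u₁ u₂ : A),
      bs.repr (u₀ • bs 0 + u₁ • bs 1 + u₂ • bs 2) 0 = u₀ ∧
      bs.repr (u₀ • bs 0 + u₁ • bs 1 + u₂ • bs 2) 1 = u₁ ∧
      bs.repr (u₀ • bs 0 + u₁ • bs 1 + u₂ • bs 2) 2 = u₂ := by
    intro u₀ u₁ u₂
    simp [Finsupp.single_apply]
  have hinj : ∀ u₀ u₁ u₂ v₀ v₁ v₂ : A,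
      u₀ • bs 0 + u₁ • bs 1 + u₂ • bs 2 = v₀ • bs 0 + v₁ • bs 1 + v₂ • bs 2 →
        u₀ = v₀ ∧ u₁ = v₁ ∧ u₂ = v₂ := by
    intro u₀ u₁ u₂ v₀ v₁ v₂ h
    have h0 := hcoord u₀ u₁ u₂
    have h1 := hcoord v₀ v₁ v₂
    rw [h] at h0
    exact ⟨h0.1.symm.trans h1.1, h0.2.1.symm.trans h1.2.1, h0.2.2.symm.trans h1.2.2⟩
  have hX := hdecomp (φ (bs 0))
  have hY := hdecomp (φ (bs 1))
  have hZ := hdecomp (φ (bs 2))
  have hdet := LinearEquiv.isUnit_det φ.toLinearEquiv bs bs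
  rw [Matrix.det_fin_three] at hdet
  simp only [LinearMap.toMatrix_apply] at hdet
  change IsUnit (bs.repr (φ (bs 0)) 0 * bs.repr (φ (bs 1)) 1 * bs.repr (φ (bs 2)) 2 -
    bs.repr (φ (bs 0)) 0 * bs.repr (φ (bs 2)) 1 * bs.repr (φ (bs 1)) 2 -
    bs.repr (φ (bs 1)) 0 * bs.repr (φ (bs 0)) 1 * bs.repr (φ (bs 2)) 2 +
    bs.repr (φ (bs 1)) 0 * bs.repr (φ (bs 2)) 1 * bs.repr (φ (bs 0)) 2 +
    bs.repr (φ (bs 2)) 0 * bs.repr (φ (bs 0)) 1 * bs.repr (φ (bs 1)) 2 -
    bs.repr (φ (bs 2)) 0 * bs.repr (φ (bs 1)) 1 * bs.repr (φ (bs 0)) 2) at hdet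
  generalize bs.repr (φ (bs 0)) 0 = a at hX hdet
  generalize bs.repr (φ (bs 0)) 1 = b at hX hdet
  generalize bs.repr (φ (bs 0)) 2 = c at hX hdet
  generalize bs.repr (φ (bs 1)) 0 = r at hY hdet
  generalize bs.repr (φ (bs 1)) 1 = p at hY hdet
  generalize bs.repr (φ (bs 1)) 2 = q at hY hdet
  generalize bs.repr (φ (bs 2)) 0 = s at hZ hdet
  generalize bs.repr (φ (bs 2)) 1 = h at hZ hdet
  generalize bs.repr (φ (bs 2)) 2 = i' at hZ hdet
  have E1 : r • bs 0 + p • bs 1 + q • bs 2 = (0 : A) • bs 0 +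
      (a * p - b * r) • bs 1 + (β * (a * q - c * r)) • bs 2 := by
    calc r • bs 0 + p • bs 1 + q • bs 2 = φ (bs 1) := hY.symm
      _ = φ ⁅bs 0, bs 1⁆ := by rw [hxy]
      _ = ⁅φ (bs 0), φ (bs 1)⁆ := LieEquiv.map_lie φ _ _
      _ = ⁅a • bs 0 + b • bs 1 + c • bs 2, r • bs 0 + p • bs 1 + q • bs 2⁆ := by
          rw [← hX, ← hY]
      _ = _ := by rw [hbr, zero_smul, zero_add]
  have E2 : (β * s) • bs 0 + (β * h) • bs 1 + (β * i') • bs 2 = (0 : A) • bs 0 +
      (a * h - b * s) • bs 1 + (β * (a * i' - c * s)) • bs 2 := by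
    calc (β * s) • bs 0 + (β * h) • bs 1 + (β * i') • bs 2
        = β • (s • bs 0 + h • bs 1 + i' • bs 2) := by module
      _ = β • φ (bs 2) := by rw [← hZ]
      _ = φ ⁅bs 0, bs 2⁆ := by rw [hxz, map_smul]
      _ = ⁅φ (bs 0), φ (bs 2)⁆ := LieEquiv.map_lie φ _ _
      _ = ⁅a • bs 0 + b • bs 1 + c • bs 2, s • bs 0 + h • bs 1 + i' • bs 2⁆ := by
          rw [← hX, ← hZ]
      _ = _ := by rw [hbr, zero_smul, zero_add]
  have E3 : (0 : A) • bs 0 + (r * h - p * s) • bs 1 + (β * (r * i' - q * s)) • bs 2 =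
      (0 : A) • bs 0 + (0 : A) • bs 1 + (0 : A) • bs 2 := by
    calc (0 : A) • bs 0 + (r * h - p * s) • bs 1 + (β * (r * i' - q * s)) • bs 2
        = ⁅r • bs 0 + p • bs 1 + q • bs 2, s • bs 0 + h • bs 1 + i' • bs 2⁆ := by
          rw [hbr, zero_smul, zero_add]
      _ = ⁅φ (bs 1), φ (bs 2)⁆ := by rw [← hY, ← hZ]
      _ = φ ⁅bs 1, bs 2⁆ := (LieEquiv.map_lie φ _ _).symm
      _ = 0 := by rw [hyz, map_zero]
      _ = _ := by simp
  obtain ⟨hr, e1, e2⟩ := hinj _ _ _ _ _ _ E1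
  obtain ⟨e3, e4, e5⟩ := hinj _ _ _ _ _ _ E2
  obtain ⟨-, e6, e7⟩ := hinj _ _ _ _ _ _ E3
  have hsD : s * (a * p * i' - a * h * q - r * b * i' + r * h * c + s * b * q - s * p * c) = 0 := by
    linear_combination (a * i' * h - s * b * i' - h * β * i') * hr + (s * c - a * i') * e6 +
      h * e7 + q * s * e4
  have hs : s = 0 := (hdet.mul_left_eq_zero).1 hsD
  have hdet' : IsUnit (a * (p * i' - h * q)) := by
    have h0 : a * (p * i' - h * q) = a * p * i' - a * h * q - r * b * i' + r * h * c +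
        s * b * q - s * p * c := by rw [hr, hs]; ring
    rw [h0]; exact hdet
  have hD : IsUnit (p * i' - h * q) := isUnit_of_mul_isUnit_right hdet'
  have hap : (a - 1) * p = 0 := by linear_combination (-1 : A) * e1 + b * hr
  refine ⟨?_, ?_⟩
  · intro hα
    have hu1 : IsUnit (1 - β ^ 2) := by
      have h0 : 1 - β ^ 2 = algebraMap K A (1 - α ^ 2) := by
        rw [hβ, map_sub, map_one, map_pow]
      rw [h0]
      exact (isUnit_iff_ne_zero.2 (sub_ne_zero.2 (Ne.symm hα))).map _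
    have hu2 : IsUnit (β - 1) := by
      have h0 : β - 1 = algebraMap K A (α - 1) := by rw [hβ, map_sub, map_one]
      rw [h0]
      refine (isUnit_iff_ne_zero.2 (sub_ne_zero.2 ?_)).map _
      rintro rfl
      exact hα (one_pow 2)
    have hhq' : h * q * (1 - β ^ 2) = 0 := by
      linear_combination (-β * q) * e4 + h * e2 - (h * β * c) * hr + (β * q * b) * hs
    have hhq : h * q = 0 := (hu1.mul_left_eq_zero).1 hhq'
    have haP : (a - 1) * (p * i' - h * q) = 0 := by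
      linear_combination i' * hap - (a - 1) * hhq
    have ha1 : a = 1 := sub_eq_zero.1 ((hD.mul_left_eq_zero).1 haP)
    have hh' : h * (β - 1) = 0 := by
      have h3 := e4
      rw [ha1, hs] at h3
      linear_combination h3
    have hh0 : h = 0 := (hu2.mul_left_eq_zero).1 hh'
    have hq' : q * (β - 1) = 0 := by
      have h3 := e2
      rw [ha1, hr] at h3
      linear_combination (-1 : A) * h3
    have hq0 : q = 0 := (hu2.mul_left_eq_zero).1 hq'
    have hpi : IsUnit (p * i') := by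
      have h0 : p * i' = p * i' - h * q := by rw [hh0, hq0]; ring
      rw [h0]; exact hD
    refine ⟨b, c, p, i', isUnit_of_mul_isUnit_left hpi, isUnit_of_mul_isUnit_right hpi,
      ?_, ?_, ?_⟩
    · rw [hX, ha1, one_smul]
    · rw [hY, hr, hq0, zero_smul, zero_smul, zero_add, add_zero]
    · rw [hZ, hs, hh0, zero_smul, zero_smul, zero_add, zero_add]
  · intro hα
    have hβ1 : β = 1 := by rw [hβ, hα, map_one]
    have hah : (a - 1) * h = 0 := by
      have h3 := e4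
      rw [hβ1, hs] at h3
      linear_combination (-1 : A) * h3
    have haP : (a - 1) * (p * i' - h * q) = 0 := by
      linear_combination i' * hap - q * hah
    have ha1 : a = 1 := sub_eq_zero.1 ((hD.mul_left_eq_zero).1 haP)
    refine ⟨b, c, p, q, h, i', ?_, ?_, ?_, ?_⟩
    · have h0 : p * i' - q * h = p * i' - h * q := by ring
      rw [h0]; exact hD
    · rw [hX, ha1, one_smul]
    · rw [hY, hr, zero_smul, zero_add]
    · rw [hZ, hs, zero_smul, zero_add]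

end Groth.Agent.S13102
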