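import Groth.Statements.S13106
import Mathlib

set_option autoImplicit false
universe u
open GrpSch

namespace Groth.Agent.S13106

open CategoryTheory AlgebraicGeometry in
/-- Let f : X → Y be a morphism of schemes and U ⊆ Y a schematically dense open subscheme (for every
open V of Y, restriction of functions from V to V ∩ U is injective) such that the restriction f⁻¹(U)
→ U of f is an isomorphism. Then two morphisms from Y to a scheme separated over a base T that agree
after composing with f and have the same composite to T are equal: if Z → T is separated and v₁, v₂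
: Y → Z satisfy v₁ ≫ (Z → T) = v₂ ≫ (Z → T) and f ≫ v₁ = f ≫ v₂, then v₁ = v₂. (The published
statement is the case of a morphism between two prolongations over A[[t]] of a finite group scheme
over A((t)), where U is the generic fibre, schematically dense by flatness; uniqueness of
prolongation maps follows.) -/
theorem result {X Y Z T : Scheme.{u}} (f : X ⟶ Y)
    (U : Y.Opens) (hU : CInt.IsSchematicallyDense U) [IsIso (f ∣_ U)]
    (z : Z ⟶ T) [IsSeparated z] (v₁ v₂ : Y ⟶ Z) (hz : v₁ ≫ z = v₂ ≫ z) (h : f ≫ v₁ = f ≫ v₂) :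
    v₁ = v₂ := by
  classical
  have hUeq : U.ι ≫ v₁ = U.ι ≫ v₂ := by
    rw [← cancel_epi (f ∣_ U), morphismRestrict_ι_assoc, morphismRestrict_ι_assoc, h]
  let X' : Over T := Over.mk (v₁ ≫ z)
  let Y' : Over T := Over.mk z
  let U' : Over T := Over.mk (U.ι ≫ v₁ ≫ z)
  let f' : X' ⟶ Y' := Over.homMk v₁ rfl
  let g' : X' ⟶ Y' := Over.homMk v₂ hz.symm
  let ι' : U' ⟶ X' := Over.homMk U.ι rfl
  haveI : IsSeparated Y'.hom := ‹_›
  let i : (Limits.equalizer f' g').left ⟶ Y := (Limits.equalizer.ι f' g').left
  haveI : IsClosedImmersion i := isClosedImmersion_equalizer_ι_left f' g'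
  have hι' : ι' ≫ f' = ι' ≫ g' := by ext1; exact hUeq
  let g : (U : Scheme) ⟶ (Limits.equalizer f' g').left := (Limits.equalizer.lift ι' hι').left
  have hgi : g ≫ i = U.ι := by
    show (Limits.equalizer.lift ι' hι').left ≫ (Limits.equalizer.ι f' g').left = U.ι
    rw [← Over.comp_left, Limits.equalizer.lift_ι]
    rfl
  haveI : IsIso i := by
    refine IsClosedImmersion.isIso_iff_ker_eq_bot.mpr
      (Scheme.IdealSheafData.ext (funext fun V => ?_))
    rw [Scheme.Hom.ker_apply, Scheme.IdealSheafData.ideal_bot, Pi.bot_apply,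
      ← RingHom.injective_iff_ker_eq_bot]
    have hinjU : Function.Injective (U.ι.app V.1) := by
      have hW : U.ι ''ᵁ U.ι ⁻¹ᵁ V.1 = V.1 ⊓ U := by
        rw [Scheme.Hom.image_preimage_eq_opensRange_inf, Scheme.Opens.opensRange_ι, inf_comm]
      have key : ∀ (W : Y.Opens) (hW : W = V.1 ⊓ U) (hle : W ≤ V.1),
          Function.Injective (Y.presheaf.map (homOfLE hle).op) := by
        rintro W rfl hle
        exact hU V.1
      rw [Scheme.Opens.ι_app]
      exact key _ hW _
    obtain ⟨k, e⟩ : ∃ k, U.ι.app V.1 = i.app V.1 ≫ k :=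
      ⟨_, by rw [Scheme.Hom.congr_app hgi.symm V.1, Scheme.Hom.comp_app]; exact Category.assoc _ _ _⟩
    intro s t hst
    apply hinjU
    rw [e]
    exact congrArg (fun r => k.hom r) hst
  rw [← cancel_epi i]
  exact congr($(Limits.equalizer.condition f' g').left)

end Groth.Agent.S13106
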