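import Groth.Statements.S13107
import Mathlib

set_option autoImplicit false
universe u v w
open GrpSch

namespace Groth.Agent.S13107

/-- Let k be a field, K = k((t)) the field of Laurent series over k, F a Lie algebra over K with a basis
x' = bF 0, y' = bF 1, z' = bF 2 and brackets [x',y'] = z', [x',z'] = t y', [y',z'] = 0, and L a Lie
algebra over K with a basis x = bL 0, y = bL 1, z = bL 2 and brackets [x,y] = y, [x,z] = −z, [y,z] =
0. Then there is no K-linear isomorphism of Lie algebras between L and F: F is a non-trivial form of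
L over K. (The published result is the classification of three-dimensional Lie algebras over k((t))
for k algebraically closed of characteristic not 2, with F its only non-split entry; this row states
the non-isomorphism of F and L over k((t)) for every field k.) -/
theorem result (k : Type u) [Field k]
    (F : Type v) [LieRing F] [LieAlgebra (LaurentSeries k) F] (bF : Module.Basis (Fin 3) (LaurentSeries k) F)
    (hF01 : ⁅bF 0, bF 1⁆ = bF 2) (hF02 : ⁅bF 0, bF 2⁆ = (HahnSeries.single 1 (1 : k) : LaurentSeries k) • bF 1)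
    (hF12 : ⁅bF 1, bF 2⁆ = 0)
    (L : Type w) [LieRing L] [LieAlgebra (LaurentSeries k) L] (bL : Module.Basis (Fin 3) (LaurentSeries k) L)
    (hL01 : ⁅bL 0, bL 1⁆ = bL 1) (hL02 : ⁅bL 0, bL 2⁆ = -bL 2) (hL12 : ⁅bL 1, bL 2⁆ = 0) :
    IsEmpty (L ≃ₗ⁅LaurentSeries k⁆ F) := by
  classical
  refine ⟨fun e => ?_⟩
  obtain ⟨T, hT⟩ : ∃ T : LaurentSeries k, T = HahnSeries.single 1 (1 : k) := ⟨_, rfl⟩
  rw [← hT] at hF02
  have hF10 : ⁅bF 1, bF 0⁆ = -bF 2 := by rw [← lie_skew, hF01]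
  have hF20 : ⁅bF 2, bF 0⁆ = -(T • bF 1) := by rw [← lie_skew, hF02]
  have hF21 : ⁅bF 2, bF 1⁆ = 0 := by rw [← lie_skew, hF12, neg_zero]
  have hbr : ∀ u₀ u₁ u₂ v₀ v₁ v₂ : LaurentSeries k,
      ⁅u₀ • bF 0 + u₁ • bF 1 + u₂ • bF 2, v₀ • bF 0 + v₁ • bF 1 + v₂ • bF 2⁆ =
        (T * (u₀ * v₂ - u₂ * v₀)) • bF 1 + (u₀ * v₁ - u₁ * v₀) • bF 2 := by
    intro u₀ u₁ u₂ v₀ v₁ v₂
    simp only [add_lie, lie_add, smul_lie, lie_smul, lie_self, hF01, hF02, hF12, hF10, hF20,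
      hF21]
    apply bF.repr.injective
    refine Finsupp.ext (fun j => ?_)
    fin_cases j <;> simp <;> ring
  have hdecomp : ∀ v : F,
      v = bF.repr v 0 • bF 0 + bF.repr v 1 • bF 1 + bF.repr v 2 • bF 2 := by
    intro v
    conv_lhs => rw [← bF.sum_repr v, Fin.sum_univ_three]
  have hcoord : ∀ (u₀ u₁ u₂ : LaurentSeries k),
      bF.repr (u₀ • bF 0 + u₁ • bF 1 + u₂ • bF 2) 0 = u₀ ∧
      bF.repr (u₀ • bF 0 + u₁ • bF 1 + u₂ • bF 2) 1 = u₁ ∧
      bF.repr (u₀ • bF 0 + u₁ • bF 1 + u₂ • bF 2) 2 = u₂ := by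
    intro u₀ u₁ u₂
    simp
  have hinj : ∀ u₀ u₁ u₂ v₀ v₁ v₂ : LaurentSeries k,
      u₀ • bF 0 + u₁ • bF 1 + u₂ • bF 2 = v₀ • bF 0 + v₁ • bF 1 + v₂ • bF 2 →
        u₀ = v₀ ∧ u₁ = v₁ ∧ u₂ = v₂ := by
    intro u₀ u₁ u₂ v₀ v₁ v₂ h
    have h0 := hcoord u₀ u₁ u₂
    have h1 := hcoord v₀ v₁ v₂
    rw [h] at h0
    exact ⟨h0.1.symm.trans h1.1, h0.2.1.symm.trans h1.2.1, h0.2.2.symm.trans h1.2.2⟩
  have hX := hdecomp (e (bL 0))
  have hY := hdecomp (e (bL 1))
  have hZ := hdecomp (e (bL 2))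
  have hdet := LinearEquiv.isUnit_det e.toLinearEquiv bL bF
  rw [Matrix.det_fin_three] at hdet
  simp only [LinearMap.toMatrix_apply] at hdet
  change IsUnit (bF.repr (e (bL 0)) 0 * bF.repr (e (bL 1)) 1 * bF.repr (e (bL 2)) 2 -
    bF.repr (e (bL 0)) 0 * bF.repr (e (bL 2)) 1 * bF.repr (e (bL 1)) 2 -
    bF.repr (e (bL 1)) 0 * bF.repr (e (bL 0)) 1 * bF.repr (e (bL 2)) 2 +
    bF.repr (e (bL 1)) 0 * bF.repr (e (bL 2)) 1 * bF.repr (e (bL 0)) 2 +
    bF.repr (e (bL 2)) 0 * bF.repr (e (bL 0)) 1 * bF.repr (e (bL 1)) 2 -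
    bF.repr (e (bL 2)) 0 * bF.repr (e (bL 1)) 1 * bF.repr (e (bL 0)) 2) at hdet
  generalize bF.repr (e (bL 0)) 0 = a at hX hdet
  generalize bF.repr (e (bL 0)) 1 = b at hX hdet
  generalize bF.repr (e (bL 0)) 2 = c at hX hdet
  generalize bF.repr (e (bL 1)) 0 = r at hY hdet
  generalize bF.repr (e (bL 1)) 1 = p at hY hdet
  generalize bF.repr (e (bL 1)) 2 = q at hY hdet
  generalize bF.repr (e (bL 2)) 0 = s at hZ hdet
  generalize bF.repr (e (bL 2)) 1 = h at hZ hdet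
  generalize bF.repr (e (bL 2)) 2 = i' at hZ hdet
  have E1 : r • bF 0 + p • bF 1 + q • bF 2 = (0 : LaurentSeries k) • bF 0 +
      (T * (a * q - c * r)) • bF 1 + (a * p - b * r) • bF 2 := by
    calc r • bF 0 + p • bF 1 + q • bF 2 = e (bL 1) := hY.symm
      _ = e ⁅bL 0, bL 1⁆ := by rw [hL01]
      _ = ⁅e (bL 0), e (bL 1)⁆ := LieEquiv.map_lie e _ _
      _ = ⁅a • bF 0 + b • bF 1 + c • bF 2, r • bF 0 + p • bF 1 + q • bF 2⁆ := by
          rw [← hX, ← hY]
      _ = _ := by rw [hbr, zero_smul, zero_add]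
  have E2 : (-s) • bF 0 + (-h) • bF 1 + (-i') • bF 2 = (0 : LaurentSeries k) • bF 0 +
      (T * (a * i' - c * s)) • bF 1 + (a * h - b * s) • bF 2 := by
    calc (-s) • bF 0 + (-h) • bF 1 + (-i') • bF 2
        = -(s • bF 0 + h • bF 1 + i' • bF 2) := by
          rw [neg_smul, neg_smul, neg_smul, neg_add, neg_add]
      _ = -(e (bL 2)) := by rw [← hZ]
      _ = e ⁅bL 0, bL 2⁆ := by rw [hL02, map_neg]
      _ = ⁅e (bL 0), e (bL 2)⁆ := LieEquiv.map_lie e _ _
      _ = ⁅a • bF 0 + b • bF 1 + c • bF 2, s • bF 0 + h • bF 1 + i' • bF 2⁆ := by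
          rw [← hX, ← hZ]
      _ = _ := by rw [hbr, zero_smul, zero_add]
  obtain ⟨hr, e1, e2⟩ := hinj _ _ _ _ _ _ E1
  obtain ⟨hsneg, e3, e4⟩ := hinj _ _ _ _ _ _ E2
  have hs : s = 0 := neg_eq_zero.1 hsneg
  have hpw : p * (1 - T * a ^ 2) = 0 := by
    linear_combination e1 + T * a * e2 - (T * a * b + T * c) * hr
  have hqw : q * (1 - T * a ^ 2) = 0 := by
    linear_combination e2 + a * e1 - (a * T * c + b) * hr
  have hhw : h * (1 - T * a ^ 2) = 0 := by
    linear_combination (-1 : LaurentSeries k) * e3 + T * a * e4 - (T * c - T * a * b) * hsneg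
  have hiw : i' * (1 - T * a ^ 2) = 0 := by
    linear_combination (-1 : LaurentSeries k) * e4 + a * e3 - (b - a * T * c) * hsneg
  have hw : 1 - T * a ^ 2 = 0 := by
    by_contra hw
    have hp0 : p = 0 := (mul_eq_zero.1 hpw).resolve_right hw
    have hq0 : q = 0 := (mul_eq_zero.1 hqw).resolve_right hw
    have hh0 : h = 0 := (mul_eq_zero.1 hhw).resolve_right hw
    have hi0 : i' = 0 := (mul_eq_zero.1 hiw).resolve_right hw
    rw [hp0, hq0, hh0, hi0, hr, hs] at hdet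
    simp at hdet
  have hTa : T * (a * a) = 1 := by linear_combination (-1 : LaurentSeries k) * hw
  have ha0 : a ≠ 0 := by
    rintro rfl
    simp at hTa
  have hT0 : T ≠ 0 := by
    rintro rfl
    simp at hTa
  have hord := congrArg HahnSeries.order hTa
  rw [HahnSeries.order_mul hT0 (mul_ne_zero ha0 ha0), HahnSeries.order_mul ha0 ha0,
    HahnSeries.order_one, hT, HahnSeries.order_single one_ne_zero] at hord
  omega

end Groth.Agent.S13107
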