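import Groth.Statements.S13108
import Mathlib

set_option autoImplicit false
universe u v w
open GrpSch

namespace Groth.Agent.S13108


section Helpers
variable {k : Type u} [Field k] {L : Type v} [LieRing L] [LieAlgebra k L]
  {L' : Type w} [LieRing L'] [LieAlgebra k L']

theorem map_lie_of_basis (b : Module.Basis (Fin 3) k L) (f : L →ₗ[k] L')
    (h01 : f ⁅b 0, b 1⁆ = ⁅f (b 0), f (b 1)⁆) (h02 : f ⁅b 0, b 2⁆ = ⁅f (b 0), f (b 2)⁆)
    (h12 : f ⁅b 1, b 2⁆ = ⁅f (b 1), f (b 2)⁆) (u v : L) : f ⁅u, v⁆ = ⁅f u, f v⁆ := by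
  have h10 : f ⁅b 1, b 0⁆ = ⁅f (b 1), f (b 0)⁆ := by
    rw [← lie_skew (b 1) (b 0), map_neg, h01]; exact lie_skew _ _
  have h20 : f ⁅b 2, b 0⁆ = ⁅f (b 2), f (b 0)⁆ := by
    rw [← lie_skew (b 2) (b 0), map_neg, h02]; exact lie_skew _ _
  have h21 : f ⁅b 2, b 1⁆ = ⁅f (b 2), f (b 1)⁆ := by
    rw [← lie_skew (b 2) (b 1), map_neg, h12]; exact lie_skew _ _
  have hu : u = b.repr u 0 • b 0 + b.repr u 1 • b 1 + b.repr u 2 • b 2 := by
    conv_lhs => rw [← b.sum_repr u, Fin.sum_univ_three]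
  have hv : v = b.repr v 0 • b 0 + b.repr v 1 • b 1 + b.repr v 2 • b 2 := by
    conv_lhs => rw [← b.sum_repr v, Fin.sum_univ_three]
  obtain ⟨u₀, u₁, u₂, rfl⟩ : ∃ u₀ u₁ u₂ : k, u = u₀ • b 0 + u₁ • b 1 + u₂ • b 2 :=
    ⟨_, _, _, hu⟩
  obtain ⟨v₀, v₁, v₂, rfl⟩ : ∃ v₀ v₁ v₂ : k, v = v₀ • b 0 + v₁ • b 1 + v₂ • b 2 :=
    ⟨_, _, _, hv⟩
  simp only [add_lie, lie_add, smul_lie, lie_smul, map_add, map_smul, lie_self, h01, h02, h12,
    h10, h20, h21, map_zero, smul_zero, add_zero, zero_add]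

end Helpers


/-- Let k be a field and t, t' ∈ k both non-zero; let L be a Lie algebra over k with a basis x = b 0, y
= b 1, z = b 2 and brackets [x,y] = y, [x,z] = t z, [y,z] = 0, and L' a Lie algebra over k with a
basis x' = b' 0, y' = b' 1, z' = b' 2 and brackets [x',y'] = y', [x',z'] = t' z', [y',z'] = 0. Then
L and L' are isomorphic Lie algebras over k if and only if t' = t or t' = t⁻¹. -/
theorem result (k : Type u) [Field k] (t t' : k) (ht : t ≠ 0) (ht' : t' ≠ 0)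
    (L : Type v) [LieRing L] [LieAlgebra k L] (b : Module.Basis (Fin 3) k L)
    (h01 : ⁅b 0, b 1⁆ = b 1) (h02 : ⁅b 0, b 2⁆ = t • b 2) (h12 : ⁅b 1, b 2⁆ = 0)
    (L' : Type w) [LieRing L'] [LieAlgebra k L'] (b' : Module.Basis (Fin 3) k L')
    (h01' : ⁅b' 0, b' 1⁆ = b' 1) (h02' : ⁅b' 0, b' 2⁆ = t' • b' 2) (h12' : ⁅b' 1, b' 2⁆ = 0) :
    Nonempty (L ≃ₗ⁅k⁆ L') ↔ (t' = t ∨ t' = t⁻¹) := by
  classical
  constructor
  · rintro ⟨φ⟩
    have hyx : ⁅b' 1, b' 0⁆ = -b' 1 := by rw [← lie_skew, h01']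
    have hzx : ⁅b' 2, b' 0⁆ = -(t' • b' 2) := by rw [← lie_skew, h02']
    have hzy : ⁅b' 2, b' 1⁆ = 0 := by rw [← lie_skew, h12', neg_zero]
    have hbr : ∀ u₀ u₁ u₂ v₀ v₁ v₂ : k,
        ⁅u₀ • b' 0 + u₁ • b' 1 + u₂ • b' 2, v₀ • b' 0 + v₁ • b' 1 + v₂ • b' 2⁆ =
          (u₀ * v₁ - u₁ * v₀) • b' 1 + (t' * (u₀ * v₂ - u₂ * v₀)) • b' 2 := by
      intro u₀ u₁ u₂ v₀ v₁ v₂
      simp only [add_lie, lie_add, smul_lie, lie_smul, lie_self, h01', h02', h12', hyx, hzx, hzy]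
      module
    have hdecomp : ∀ v : L',
        v = b'.repr v 0 • b' 0 + b'.repr v 1 • b' 1 + b'.repr v 2 • b' 2 := by
      intro v
      conv_lhs => rw [← b'.sum_repr v, Fin.sum_univ_three]
    have hcoord : ∀ (u₀ u₁ u₂ : k),
        b'.repr (u₀ • b' 0 + u₁ • b' 1 + u₂ • b' 2) 0 = u₀ ∧
        b'.repr (u₀ • b' 0 + u₁ • b' 1 + u₂ • b' 2) 1 = u₁ ∧
        b'.repr (u₀ • b' 0 + u₁ • b' 1 + u₂ • b' 2) 2 = u₂ := by
      intro u₀ u₁ u₂
      simp [Finsupp.single_apply]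
    have hinj : ∀ u₀ u₁ u₂ v₀ v₁ v₂ : k,
        u₀ • b' 0 + u₁ • b' 1 + u₂ • b' 2 = v₀ • b' 0 + v₁ • b' 1 + v₂ • b' 2 →
          u₀ = v₀ ∧ u₁ = v₁ ∧ u₂ = v₂ := by
      intro u₀ u₁ u₂ v₀ v₁ v₂ h
      have h0 := hcoord u₀ u₁ u₂
      have h1 := hcoord v₀ v₁ v₂
      rw [h] at h0
      exact ⟨h0.1.symm.trans h1.1, h0.2.1.symm.trans h1.2.1, h0.2.2.symm.trans h1.2.2⟩
    have hX := hdecomp (φ (b 0))
    have hY := hdecomp (φ (b 1))
    have hZ := hdecomp (φ (b 2))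
    have hdet := LinearEquiv.isUnit_det φ.toLinearEquiv b b'
    rw [Matrix.det_fin_three] at hdet
    simp only [LinearMap.toMatrix_apply] at hdet
    change IsUnit (b'.repr (φ (b 0)) 0 * b'.repr (φ (b 1)) 1 * b'.repr (φ (b 2)) 2 -
      b'.repr (φ (b 0)) 0 * b'.repr (φ (b 2)) 1 * b'.repr (φ (b 1)) 2 -
      b'.repr (φ (b 1)) 0 * b'.repr (φ (b 0)) 1 * b'.repr (φ (b 2)) 2 +
      b'.repr (φ (b 1)) 0 * b'.repr (φ (b 2)) 1 * b'.repr (φ (b 0)) 2 +
      b'.repr (φ (b 2)) 0 * b'.repr (φ (b 0)) 1 * b'.repr (φ (b 1)) 2 -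
      b'.repr (φ (b 2)) 0 * b'.repr (φ (b 1)) 1 * b'.repr (φ (b 0)) 2) at hdet
    generalize b'.repr (φ (b 0)) 0 = a at hX hdet
    generalize b'.repr (φ (b 0)) 1 = bb at hX hdet
    generalize b'.repr (φ (b 0)) 2 = c at hX hdet
    generalize b'.repr (φ (b 1)) 0 = r at hY hdet
    generalize b'.repr (φ (b 1)) 1 = p at hY hdet
    generalize b'.repr (φ (b 1)) 2 = q at hY hdet
    generalize b'.repr (φ (b 2)) 0 = s at hZ hdet
    generalize b'.repr (φ (b 2)) 1 = h at hZ hdet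
    generalize b'.repr (φ (b 2)) 2 = i' at hZ hdet
    have E1 : r • b' 0 + p • b' 1 + q • b' 2 = (0 : k) • b' 0 +
        (a * p - bb * r) • b' 1 + (t' * (a * q - c * r)) • b' 2 := by
      calc r • b' 0 + p • b' 1 + q • b' 2 = φ (b 1) := hY.symm
        _ = φ ⁅b 0, b 1⁆ := by rw [h01]
        _ = ⁅φ (b 0), φ (b 1)⁆ := LieEquiv.map_lie φ _ _
        _ = ⁅a • b' 0 + bb • b' 1 + c • b' 2, r • b' 0 + p • b' 1 + q • b' 2⁆ := by
            rw [← hX, ← hY]
        _ = _ := by rw [hbr, zero_smul, zero_add]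
    have E2 : (t * s) • b' 0 + (t * h) • b' 1 + (t * i') • b' 2 = (0 : k) • b' 0 +
        (a * h - bb * s) • b' 1 + (t' * (a * i' - c * s)) • b' 2 := by
      calc (t * s) • b' 0 + (t * h) • b' 1 + (t * i') • b' 2
          = t • (s • b' 0 + h • b' 1 + i' • b' 2) := by module
        _ = t • φ (b 2) := by rw [← hZ]
        _ = φ ⁅b 0, b 2⁆ := by rw [h02, map_smul]
        _ = ⁅φ (b 0), φ (b 2)⁆ := LieEquiv.map_lie φ _ _
        _ = ⁅a • b' 0 + bb • b' 1 + c • b' 2, s • b' 0 + h • b' 1 + i' • b' 2⁆ := by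
            rw [← hX, ← hZ]
        _ = _ := by rw [hbr, zero_smul, zero_add]
    obtain ⟨hr, e1, e2⟩ := hinj _ _ _ _ _ _ E1
    obtain ⟨e3, e4, e5⟩ := hinj _ _ _ _ _ _ E2
    have hs : s = 0 := (mul_eq_zero.1 e3).resolve_left ht
    have hdet' : a * (p * i' - h * q) ≠ 0 := by
      have h0 : a * (p * i' - h * q) = a * p * i' - a * h * q - r * bb * i' + r * h * c +
          s * bb * q - s * p * c := by rw [hr, hs]; ring
      rw [h0]; exact hdet.ne_zero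
    have hP : p * i' - h * q ≠ 0 := right_ne_zero_of_mul hdet'
    have hap : (a - 1) * p = 0 := by linear_combination (-1 : k) * e1 + bb * hr
    have haq : (1 - t' * a) * q = 0 := by linear_combination e2 - t' * c * hr
    have hah : (t - a) * h = 0 := by linear_combination e4 - bb * hs
    have hai : (t - t' * a) * i' = 0 := by linear_combination e5 - t' * c * hs
    by_cases hpi : p * i' = 0
    · have hhq : h * q ≠ 0 := by
        intro hhq
        apply hP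
        rw [hpi, hhq, sub_zero]
      have hh : h ≠ 0 := left_ne_zero_of_mul hhq
      have hq : q ≠ 0 := right_ne_zero_of_mul hhq
      have h1 : t - a = 0 := (mul_eq_zero.1 hah).resolve_right hh
      have h2 : 1 - t' * a = 0 := (mul_eq_zero.1 haq).resolve_right hq
      right
      apply eq_inv_of_mul_eq_one_left
      linear_combination (-1 : k) * h2 + t' * h1
    · have hp : p ≠ 0 := left_ne_zero_of_mul hpi
      have hi : i' ≠ 0 := right_ne_zero_of_mul hpi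
      have h1 : a - 1 = 0 := (mul_eq_zero.1 hap).resolve_right hp
      have h2 : t - t' * a = 0 := (mul_eq_zero.1 hai).resolve_right hi
      left
      linear_combination (-1 : k) * h2 - t' * h1
  · rintro (rfl | rfl)
    · let f : L ≃ₗ[k] L' := b.equiv b' (Equiv.refl (Fin 3))
      have hf : ∀ i, f (b i) = b' i := fun i => by simp [f]
      have hml : ∀ u v : L, (f : L →ₗ[k] L') ⁅u, v⁆ = ⁅(f : L →ₗ[k] L') u, (f : L →ₗ[k] L') v⁆ := by
        apply map_lie_of_basis b (f : L →ₗ[k] L')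
        · show f ⁅b 0, b 1⁆ = ⁅f (b 0), f (b 1)⁆
          rw [h01, hf, hf, h01']
        · show f ⁅b 0, b 2⁆ = ⁅f (b 0), f (b 2)⁆
          rw [h02, map_smul, hf, hf, h02']
        · show f ⁅b 1, b 2⁆ = ⁅f (b 1), f (b 2)⁆
          rw [h12, map_zero, hf, hf, h12']
      let F : L →ₗ⁅k⁆ L' := { (f : L →ₗ[k] L') with map_lie' := fun {u v} => hml u v }
      exact ⟨LieEquiv.ofBijective F f.bijective⟩
    · let f₁ : L →ₗ[k] L' := b.constr k ![t • b' 0, b' 2, b' 1]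
      let g₁ : L' →ₗ[k] L := b'.constr k ![t⁻¹ • b 0, b 2, b 1]
      have hf0 : f₁ (b 0) = t • b' 0 := by simp [f₁, Module.Basis.constr_basis]
      have hf1 : f₁ (b 1) = b' 2 := by simp [f₁, Module.Basis.constr_basis]
      have hf2 : f₁ (b 2) = b' 1 := by simp [f₁, Module.Basis.constr_basis]
      have hg0 : g₁ (b' 0) = t⁻¹ • b 0 := by simp [g₁, Module.Basis.constr_basis]
      have hg1 : g₁ (b' 1) = b 2 := by simp [g₁, Module.Basis.constr_basis]
      have hg2 : g₁ (b' 2) = b 1 := by simp [g₁, Module.Basis.constr_basis]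
      have hfg : f₁ ∘ₗ g₁ = LinearMap.id := by
        apply b'.ext
        intro i
        fin_cases i
        · show f₁ (g₁ (b' 0)) = b' 0
          rw [hg0, map_smul, hf0, smul_smul, inv_mul_cancel₀ ht, one_smul]
        · show f₁ (g₁ (b' 1)) = b' 1
          rw [hg1, hf2]
        · show f₁ (g₁ (b' 2)) = b' 2
          rw [hg2, hf1]
      have hgf : g₁ ∘ₗ f₁ = LinearMap.id := by
        apply b.ext
        intro i
        fin_cases i
        · show g₁ (f₁ (b 0)) = b 0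
          rw [hf0, map_smul, hg0, smul_smul, mul_inv_cancel₀ ht, one_smul]
        · show g₁ (f₁ (b 1)) = b 1
          rw [hf1, hg2]
        · show g₁ (f₁ (b 2)) = b 2
          rw [hf2, hg1]
      let f : L ≃ₗ[k] L' := LinearEquiv.ofLinearMap f₁ g₁ hfg hgf
      have hml : ∀ u v : L, f₁ ⁅u, v⁆ = ⁅f₁ u, f₁ v⁆ := by
        apply map_lie_of_basis b f₁
        · rw [h01, hf0, hf1, smul_lie, h02', smul_smul, mul_inv_cancel₀ ht, one_smul]
        · rw [h02, map_smul, hf0, hf2, smul_lie, h01']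
        · rw [h12, map_zero, hf1, hf2, ← lie_skew, h12', neg_zero]
      let F : L →ₗ⁅k⁆ L' := { f₁ with map_lie' := fun {u v} => hml u v }
      exact ⟨LieEquiv.ofBijective F f.bijective⟩

end Groth.Agent.S13108
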