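import Groth.Statements.S13114
import Mathlib

set_option autoImplicit false
universe u
open HilbChow

namespace Groth.Agent.S13114

/-- Let k be an algebraically closed field, A a commutative local k-algebra of finite dimension n over k
and u a unit of A. Then the determinant of multiplication by u on the k-vector space A, mapped to
the residue field of A, equals the n-th power of the residue class of u. -/
theorem result
    (k A : Type u) [Field k] [IsAlgClosed k] [CommRing A] [Algebra k A] [IsLocalRing A]
    [Module.Finite k A] (u : Aˣ) :
    algebraMap k (IsLocalRing.ResidueField A) (Algebra.norm k (u : A)) =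
      IsLocalRing.residue A (u : A) ^ Module.finrank k A := by
  classical
  set φ : Module.End k A := Algebra.lmul k A (u : A) with hφ
  have hsplit : φ.charpoly.Splits := IsAlgClosed.splits _
  have hdet : Algebra.norm k (u : A) = φ.charpoly.roots.prod := by
    rw [Algebra.norm_apply]
    exact Module.End.det_eq_prod_roots_charpoly_of_splits hsplit
  have hcard : φ.charpoly.roots.card = Module.finrank k A := by
    rw [← hsplit.natDegree_eq_card_roots, LinearMap.charpoly_natDegree]
  have hroot : ∀ μ ∈ φ.charpoly.roots,
      algebraMap k (IsLocalRing.ResidueField A) μ = IsLocalRing.residue A (u : A) := by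
    intro μ hμ
    have hr : φ.charpoly.IsRoot μ := (Polynomial.mem_roots'.1 hμ).2
    have hev := (Module.End.hasEigenvalue_iff_isRoot_charpoly φ μ).2 hr
    obtain ⟨v, hv⟩ := hev.exists_hasEigenvector
    have h1 : (u : A) * v = μ • v := hv.apply_eq_smul
    have h2 : ((u : A) - algebraMap k A μ) * v = 0 := by
      rw [sub_mul, h1, Algebra.smul_def, sub_self]
    have h3 : (u : A) - algebraMap k A μ ∈ IsLocalRing.maximalIdeal A := by
      by_contra hn
      have hu : IsUnit ((u : A) - algebraMap k A μ) := IsLocalRing.notMem_maximalIdeal.1 hn
      exact hv.2 ((hu.mul_right_eq_zero).1 h2)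
    have h4 := (IsLocalRing.residue_eq_zero_iff _).2 h3
    rw [map_sub, sub_eq_zero] at h4
    rw [h4, IsScalarTower.algebraMap_apply k A (IsLocalRing.ResidueField A)]
    rfl
  have h5 : (φ.charpoly.roots.map (algebraMap k (IsLocalRing.ResidueField A))) =
      Multiset.replicate (Module.finrank k A) (IsLocalRing.residue A (u : A)) := by
    rw [Multiset.map_congr rfl hroot, Multiset.map_const', hcard]
  rw [hdet, map_multiset_prod, h5, Multiset.prod_replicate]

end Groth.Agent.S13114
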