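import Groth.Statements.S13120
import Groth.Agent.Lib.helper6.Parity

set_option autoImplicit false
universe u
open KumFam

namespace Groth.Agent.S13120


open MvPolynomial in
theorem adjoin_support {R : Type u} [CommRing R] (a : MvPolynomial (Fin 2) R)
    (ha : a ∈ Algebra.adjoin R
      ({X 0 ^ 2, X 0 ^ 3, X 1 ^ 2, X 1 ^ 3} : Set (MvPolynomial (Fin 2) R))) :
    ∀ m : Fin 2 →₀ ℕ, coeff m a ≠ 0 → m 0 ≠ 1 ∧ m 1 ≠ 1 := by
  classical
  induction ha using Algebra.adjoin_induction with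
  | mem x hx =>
    intro m hm
    simp only [Set.mem_insert_iff, Set.mem_singleton_iff] at hx
    rcases hx with rfl | rfl | rfl | rfl
    all_goals
      rw [X_pow_eq_monomial, coeff_monomial] at hm
      split_ifs at hm with h
      · subst h; simp
      · exact absurd rfl hm
  | algebraMap r =>
    intro m hm
    rw [algebraMap_eq, coeff_C] at hm
    split_ifs at hm with h
    · subst h; simp
    · exact absurd rfl hm
  | add x y _ _ hx hy =>
    intro m hm
    rw [coeff_add] at hm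
    by_cases h : coeff m x = 0
    · rw [h, zero_add] at hm; exact hy m hm
    · exact hx m h
  | mul x y _ _ hx hy =>
    intro m hm
    rw [coeff_mul] at hm
    obtain ⟨⟨a, b⟩, hab, hne⟩ := Finset.exists_ne_zero_of_sum_ne_zero hm
    rw [Finset.HasAntidiagonal.mem_antidiagonal] at hab
    have hxa := hx a (left_ne_zero_of_mul hne)
    have hyb := hy b (right_ne_zero_of_mul hne)
    subst hab
    simp only [Finsupp.add_apply]
    omega


open MvPolynomial in
/-- Let R be a commutative ring of characteristic 2 and l0, l2, l4, s0, s2, s4, τ ∈ R with τ a unit.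
Inside R[u, v] (u = X 0, v = X 1) let A = R[u², u³, v², v³] be the coordinate ring of the product of
two cuspidal curves, and let D be the R-derivation of R[u, v] with D(u) = v²(l0 u⁴ + τ u³ + l2 u² +
l4) and D(v) = u²(s0 v⁴ + τ v³ + s2 v² + s4); D is u²v² times the rational vector field (l0 u² + τ u
+ l2 + l4 u⁻²) ∂_u + (s0 v² + τ v + s2 + s4 v⁻²) ∂_v, which maps A into itself, and u²v² is a
non-zero-divisor, so the kernel of that vector field on A is the set of a ∈ A with D(a) = 0. Then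
for a ∈ A: D(a) = 0 if and only if a ∈ R[u², v², g], where g = (s0 v⁴ + s2 v² + s4) u³ + (l0 u⁴ + l2
u² + l4) v³ + τ u³ v³. (The published statement identifies this kernel with the ring of invariants
of the corresponding action of the group scheme of square roots of unity; this row states the kernel
computation that is actually carried out.) -/
theorem result (R : Type u) [CommRing R] [CharP R 2]
    (l0 l2 l4 s0 s2 s4 τ : R) (hτ : IsUnit τ) (a : MvPolynomial (Fin 2) R)
    (ha : a ∈ Algebra.adjoin R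
      ({X 0 ^ 2, X 0 ^ 3, X 1 ^ 2, X 1 ^ 3} : Set (MvPolynomial (Fin 2) R))) :
    MvPolynomial.mkDerivation R
        (![X 1 ^ 2 * (C l0 * X 0 ^ 4 + C τ * X 0 ^ 3 + C l2 * X 0 ^ 2 + C l4),
          X 0 ^ 2 * (C s0 * X 1 ^ 4 + C τ * X 1 ^ 3 + C s2 * X 1 ^ 2 + C s4)] :
          Fin 2 → MvPolynomial (Fin 2) R) a = 0 ↔
      a ∈ Algebra.adjoin R
        ({X 0 ^ 2, X 1 ^ 2,
          (C s0 * X 1 ^ 4 + C s2 * X 1 ^ 2 + C s4) * X 0 ^ 3 +
            (C l0 * X 0 ^ 4 + C l2 * X 0 ^ 2 + C l4) * X 1 ^ 3 +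
            C τ * X 0 ^ 3 * X 1 ^ 3} : Set (MvPolynomial (Fin 2) R)) := by
  classical
  have h2R : (2 : R) = 0 := CharTwo.two_eq_zero
  have h2 : (2 : MvPolynomial (Fin 2) R) = 0 := H6Par.two_eq_zero_of h2R
  obtain ⟨τi, hτi⟩ := hτ.exists_right_inv
  have hC : (C τ * C τi : MvPolynomial (Fin 2) R) = 1 := by rw [← C_mul, hτi, C_1]
  obtain ⟨D, hD⟩ : ∃ D, D = mkDerivation R
      (![X 1 ^ 2 * (C l0 * X 0 ^ 4 + C τ * X 0 ^ 3 + C l2 * X 0 ^ 2 + C l4),
          X 0 ^ 2 * (C s0 * X 1 ^ 4 + C τ * X 1 ^ 3 + C s2 * X 1 ^ 2 + C s4)] :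
          Fin 2 → MvPolynomial (Fin 2) R) := ⟨_, rfl⟩
  rw [← hD]
  have hD0 : D (X 0) = X 1 ^ 2 * (C l0 * X 0 ^ 4 + C τ * X 0 ^ 3 + C l2 * X 0 ^ 2 + C l4) := by
    rw [hD, mkDerivation_X]; rfl
  have hD1 : D (X 1) = X 0 ^ 2 * (C s0 * X 1 ^ 4 + C τ * X 1 ^ 3 + C s2 * X 1 ^ 2 + C s4) := by
    rw [hD, mkDerivation_X]; rfl
  have hE := H6Par.derivation_expand_two h2R D
  have hDE : ∀ e x : MvPolynomial (Fin 2) R, D (expand 2 e * x) = expand 2 e * D x := by
    intro e x
    rw [D.leibniz, hE, smul_zero, add_zero, smul_eq_mul]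
  have hD01 : D (X 0 * X 1) = X 0 * D (X 1) + X 1 * D (X 0) := by
    rw [D.leibniz, smul_eq_mul, smul_eq_mul]
  obtain ⟨g, hg⟩ : ∃ g, g = ((C s0 * X 1 ^ 4 + C s2 * X 1 ^ 2 + C s4) * X 0 ^ 3 +
      (C l0 * X 0 ^ 4 + C l2 * X 0 ^ 2 + C l4) * X 1 ^ 3 +
      C τ * X 0 ^ 3 * X 1 ^ 3 : MvPolynomial (Fin 2) R) := ⟨_, rfl⟩
  rw [← hg]
  have hgeq : g = expand 2 ((C s0 * X 1 ^ 2 + C s2 * X 1 + C s4) * X 0) * X 0 +
      expand 2 ((C l0 * X 0 ^ 2 + C l2 * X 0 + C l4) * X 1) * X 1 +
      expand 2 (C τ * X 0 * X 1) * (X 0 * X 1) := by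
    rw [hg]
    simp only [map_add, map_mul, map_pow, expand_X, expand_C]
    ring
  have hDg : D g = 0 := by
    rw [hgeq, map_add, map_add, hDE, hDE, hDE, hD01, hD0, hD1]
    simp only [map_add, map_mul, map_pow, expand_X, expand_C]
    linear_combination (X 0 ^ 2 * X 1 ^ 2 *
      (C s0 * X 1 ^ 4 + C τ * X 1 ^ 3 + C s2 * X 1 ^ 2 + C s4) *
      (C l0 * X 0 ^ 4 + C τ * X 0 ^ 3 + C l2 * X 0 ^ 2 + C l4)) * h2
  constructor
  · intro hDa
    have hN := adjoin_support a ha
    clear ha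
    obtain ⟨a00, a10, a01, a11, rfl⟩ := H6Par.exists_decomp a
    obtain ⟨d₁, hd₁⟩ := H6Par.exists_eq_monomial_mul a10 (Finsupp.single 0 1) (by
      intro m hm
      have h1 := (hN _ (by rw [H6Par.coeff_decomp_10]; exact hm)).1
      simp only [Finsupp.add_apply, Finsupp.smul_apply, smul_eq_mul,
        Finsupp.single_eq_same] at h1
      rw [Finsupp.le_def]
      refine Fin.forall_fin_two.2 ⟨?_, ?_⟩
      · have : 1 ≤ m 0 := by omega
        simpa using this
      · simp)
    obtain ⟨d₂, hd₂⟩ := H6Par.exists_eq_monomial_mul a01 (Finsupp.single 1 1) (by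
      intro m hm
      have h1 := (hN _ (by rw [H6Par.coeff_decomp_01]; exact hm)).2
      simp only [Finsupp.add_apply, Finsupp.smul_apply, smul_eq_mul,
        Finsupp.single_eq_same] at h1
      rw [Finsupp.le_def]
      refine Fin.forall_fin_two.2 ⟨?_, ?_⟩
      · simp
      · have : 1 ≤ m 1 := by omega
        simpa using this)
    obtain ⟨c, hc⟩ := H6Par.exists_eq_monomial_mul a11
      (Finsupp.single 0 1 + Finsupp.single 1 1) (by
      intro m hm
      have h1 := hN _ (by rw [H6Par.coeff_decomp_11]; exact hm)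
      simp only [Finsupp.add_apply, Finsupp.smul_apply, smul_eq_mul,
        Finsupp.single_eq_same] at h1
      have h10 : (Finsupp.single (1 : Fin 2) 1 : Fin 2 →₀ ℕ) 0 = 0 := by simp
      have h01 : (Finsupp.single (0 : Fin 2) 1 : Fin 2 →₀ ℕ) 1 = 0 := by simp
      rw [h10, h01] at h1
      rw [Finsupp.le_def]
      refine Fin.forall_fin_two.2 ⟨?_, ?_⟩
      · have : 1 ≤ m 0 := by omega
        simpa using this
      · have : 1 ≤ m 1 := by omega
        simpa using this)
    have hd₁' : a10 = d₁ * X 0 := by rw [hd₁, mul_comm]; rfl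
    have hd₂' : a01 = d₂ * X 1 := by rw [hd₂, mul_comm]; rfl
    have hc' : a11 = c * X 0 * X 1 := by
      have hx : (X 0 * X 1 : MvPolynomial (Fin 2) R) =
          monomial (Finsupp.single 0 1 + Finsupp.single 1 1) 1 := by
        rw [X, X, monomial_mul, mul_one]
      rw [hc, ← hx]; ring
    subst hd₁' hd₂' hc'
    rw [map_add, map_add, map_add, hE, hDE, hDE, hDE, hD01, hD0, hD1, zero_add] at hDa
    have hq : expand 2 ((d₁ * (C l0 * X 0 ^ 2 + C l2 * X 0 + C l4) +
            d₂ * (C s0 * X 1 ^ 2 + C s2 * X 1 + C s4)) * X 0 * X 1) +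
          expand 2 ((C τ * d₁ + c * (C s0 * X 1 ^ 2 + C s2 * X 1 + C s4)) * X 0 * X 1 * X 0) *
            X 0 +
          expand 2 ((C τ * d₂ + c * (C l0 * X 0 ^ 2 + C l2 * X 0 + C l4)) * X 0 * X 1 * X 1) *
            X 1 +
          expand 2 0 * (X 0 * X 1) = 0 := by
      simp only [map_add, map_mul, map_pow, expand_X, expand_C, map_zero]
      simp only [map_add, map_mul, map_pow, expand_X, expand_C, map_zero] at hDa
      linear_combination hDa + (-(C τ * expand 2 c * X 0 ^ 5 * X 1 ^ 5)) * h2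
    obtain ⟨-, r1, r2, -⟩ := H6Par.parity_indep _ _ _ _ hq
    have r1' := congrArg (expand 2)
      (H6Par.mul_X_cancel (H6Par.mul_X_cancel (H6Par.mul_X_cancel r1)))
    have r2' := congrArg (expand 2)
      (H6Par.mul_X_cancel (H6Par.mul_X_cancel (H6Par.mul_X_cancel r2)))
    simp only [map_add, map_mul, map_pow, expand_X, expand_C, map_zero] at r1' r2'
    have hag : expand 2 a00 + expand 2 (d₁ * X 0) * X 0 + expand 2 (d₂ * X 1) * X 1 +
        expand 2 (c * X 0 * X 1) * (X 0 * X 1) =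
        expand 2 a00 + expand 2 (C τi * c) * g := by
      rw [hgeq]
      simp only [map_add, map_mul, map_pow, expand_X, expand_C]
      linear_combination (-(C τi * X 0 ^ 3)) * r1' + (-(C τi * X 1 ^ 3)) * r2' +
        (X 0 ^ 3 * expand 2 d₁ + X 1 ^ 3 * expand 2 d₂ - X 0 ^ 3 * X 1 ^ 3 * expand 2 c) * hC +
        (X 0 ^ 3 * expand 2 d₁ + X 1 ^ 3 * expand 2 d₂) * h2
    rw [hag]
    exact Subalgebra.add_mem _ (H6Par.expand_mem_adjoin g a00)
      (Subalgebra.mul_mem _ (H6Par.expand_mem_adjoin g _) (Algebra.subset_adjoin (by simp)))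
  · intro hmem
    clear ha
    induction hmem using Algebra.adjoin_induction with
    | mem x hx =>
      simp only [Set.mem_insert_iff, Set.mem_singleton_iff] at hx
      rcases hx with rfl | rfl | rfl
      · rw [← expand_X]; exact hE _
      · rw [← expand_X]; exact hE _
      · exact hDg
    | algebraMap r => exact D.map_algebraMap r
    | add x y _ _ hx hy => rw [map_add, hx, hy, add_zero]
    | mul x y _ _ hx hy => rw [D.leibniz, hx, hy, smul_zero, smul_zero, add_zero]

end Groth.Agent.S13120
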