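import Groth.Statements.S13121
import Groth.Agent.Lib.helper6.Parity

set_option autoImplicit false
universe u
open KumFam

namespace Groth.Agent.S13121

open MvPolynomial in
/-- Let R be a commutative ring of characteristic 2 and l0, l2, l4, s0, s2, s4, τ ∈ R with τ a unit. In
R[u, v] (u = X 0, v = X 1) put g = (s0 v⁴ + s2 v² + s4) u³ + (l0 u⁴ + l2 u² + l4) v³ + τ u³ v³. Then
the kernel of the R-algebra homomorphism R[a, b, c] → R[u, v] (a = X 0, b = X 1, c = X 2) with a ↦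
u², b ↦ v², c ↦ g is the ideal generated by c² + s0² a³ b⁴ + s2² a³ b² + s4² a³ + l0² a⁴ b³ + l2² a²
b³ + l4² b³ + τ² a³ b³; its image is the subalgebra R[u², v², g], which is therefore presented by
this one equation. -/
theorem result (R : Type u) [CommRing R] [CharP R 2]
    (l0 l2 l4 s0 s2 s4 τ : R) (hτ : IsUnit τ) :
    RingHom.ker (MvPolynomial.aeval (R := R) (S₁ := MvPolynomial (Fin 2) R)
        ![X 0 ^ 2, X 1 ^ 2,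
          (C s0 * X 1 ^ 4 + C s2 * X 1 ^ 2 + C s4) * X 0 ^ 3 +
            (C l0 * X 0 ^ 4 + C l2 * X 0 ^ 2 + C l4) * X 1 ^ 3 +
            C τ * X 0 ^ 3 * X 1 ^ 3]) =
      Ideal.span {(X 2 ^ 2 + C (s0 ^ 2) * X 0 ^ 3 * X 1 ^ 4 + C (s2 ^ 2) * X 0 ^ 3 * X 1 ^ 2 +
        C (s4 ^ 2) * X 0 ^ 3 + C (l0 ^ 2) * X 0 ^ 4 * X 1 ^ 3 + C (l2 ^ 2) * X 0 ^ 2 * X 1 ^ 3 +
        C (l4 ^ 2) * X 1 ^ 3 + C (τ ^ 2) * X 0 ^ 3 * X 1 ^ 3 : MvPolynomial (Fin 3) R)} := by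
  have h2R : (2 : R) = 0 := CharTwo.two_eq_zero
  have h2 : (2 : MvPolynomial (Fin 2) R) = 0 := by
    have h := congrArg (C (σ := Fin 2)) h2R
    rw [map_zero] at h
    rw [← h]; exact (map_ofNat (C (σ := Fin 2) (R := R)) 2).symm
  have hT : ∀ p : MvPolynomial (Fin 2) R, p * (C τ * X 0 * X 1) = 0 → p = 0 := by
    intro p hp
    ext m
    have h1 : p * (C τ * X 0 * X 1) = C τ * p * X 0 * X 1 := by ring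
    rw [h1] at hp
    have := congrArg (coeff (m + Finsupp.single 0 1 + Finsupp.single 1 1)) hp
    rw [coeff_mul_X, coeff_mul_X, coeff_C_mul, coeff_zero] at this
    rw [coeff_zero]
    exact hτ.mul_right_eq_zero.1 this
  have hG : (expand 2 ((C s0 * X 1 ^ 2 + C s2 * X 1 + C s4) * X 0) * X 0 +
      expand 2 ((C l0 * X 0 ^ 2 + C l2 * X 0 + C l4) * X 1) * X 1 +
      expand 2 (C τ * X 0 * X 1) * (X 0 * X 1)) ^ 2 +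
      expand 2 (C (s0 ^ 2) * X 0 ^ 3 * X 1 ^ 4 + C (s2 ^ 2) * X 0 ^ 3 * X 1 ^ 2 +
        C (s4 ^ 2) * X 0 ^ 3 + C (l0 ^ 2) * X 0 ^ 4 * X 1 ^ 3 + C (l2 ^ 2) * X 0 ^ 2 * X 1 ^ 3 +
        C (l4 ^ 2) * X 1 ^ 3 + C (τ ^ 2) * X 0 ^ 3 * X 1 ^ 3 : MvPolynomial (Fin 2) R) = 0 := by
    simp only [map_add, map_mul, map_pow, expand_X, expand_C]
    linear_combination
      (C s0 ^ 2 * (X 0 ^ 2) ^ 3 * (X 1 ^ 2) ^ 4 + C s2 ^ 2 * (X 0 ^ 2) ^ 3 * (X 1 ^ 2) ^ 2 +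
        C s4 ^ 2 * (X 0 ^ 2) ^ 3 + C l0 ^ 2 * (X 0 ^ 2) ^ 4 * (X 1 ^ 2) ^ 3 +
        C l2 ^ 2 * (X 0 ^ 2) ^ 2 * (X 1 ^ 2) ^ 3 + C l4 ^ 2 * (X 1 ^ 2) ^ 3 +
        C τ ^ 2 * (X 0 ^ 2) ^ 3 * (X 1 ^ 2) ^ 3 +
        ((C s0 * X 1 ^ 4 + C s2 * X 1 ^ 2 + C s4) * X 0 ^ 3) *
          ((C l0 * X 0 ^ 4 + C l2 * X 0 ^ 2 + C l4) * X 1 ^ 3) +
        ((C s0 * X 1 ^ 4 + C s2 * X 1 ^ 2 + C s4) * X 0 ^ 3) * (C τ * X 0 ^ 3 * X 1 ^ 3) +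
        ((C l0 * X 0 ^ 4 + C l2 * X 0 ^ 2 + C l4) * X 1 ^ 3) * (C τ * X 0 ^ 3 * X 1 ^ 3) +
        (C s0 * C s2 * X 1 ^ 6 + C s0 * C s4 * X 1 ^ 4 + C s2 * C s4 * X 1 ^ 2) * X 0 ^ 6 +
        (C l0 * C l2 * X 0 ^ 6 + C l0 * C l4 * X 0 ^ 4 + C l2 * C l4 * X 0 ^ 2) * X 1 ^ 6) * h2
  have hgeq : ((C s0 * X 1 ^ 4 + C s2 * X 1 ^ 2 + C s4) * X 0 ^ 3 +
      (C l0 * X 0 ^ 4 + C l2 * X 0 ^ 2 + C l4) * X 1 ^ 3 +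
      C τ * X 0 ^ 3 * X 1 ^ 3 : MvPolynomial (Fin 2) R) =
      expand 2 ((C s0 * X 1 ^ 2 + C s2 * X 1 + C s4) * X 0) * X 0 +
      expand 2 ((C l0 * X 0 ^ 2 + C l2 * X 0 + C l4) * X 1) * X 1 +
      expand 2 (C τ * X 0 * X 1) * (X 0 * X 1) := by
    simp only [map_add, map_mul, map_pow, expand_X, expand_C]
    ring
  have hFeq : (X 2 ^ 2 + C (s0 ^ 2) * X 0 ^ 3 * X 1 ^ 4 + C (s2 ^ 2) * X 0 ^ 3 * X 1 ^ 2 +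
        C (s4 ^ 2) * X 0 ^ 3 + C (l0 ^ 2) * X 0 ^ 4 * X 1 ^ 3 + C (l2 ^ 2) * X 0 ^ 2 * X 1 ^ 3 +
        C (l4 ^ 2) * X 1 ^ 3 + C (τ ^ 2) * X 0 ^ 3 * X 1 ^ 3 : MvPolynomial (Fin 3) R) =
      X 2 ^ 2 + rename Fin.castSucc (C (s0 ^ 2) * X 0 ^ 3 * X 1 ^ 4 +
        C (s2 ^ 2) * X 0 ^ 3 * X 1 ^ 2 +
        C (s4 ^ 2) * X 0 ^ 3 + C (l0 ^ 2) * X 0 ^ 4 * X 1 ^ 3 + C (l2 ^ 2) * X 0 ^ 2 * X 1 ^ 3 +
        C (l4 ^ 2) * X 1 ^ 3 + C (τ ^ 2) * X 0 ^ 3 * X 1 ^ 3 : MvPolynomial (Fin 2) R) := by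
    simp only [map_add, map_mul, map_pow, rename_X, rename_C, Fin.castSucc_zero,
      Fin.castSucc_one]
    ring
  rw [hgeq, hFeq]
  exact H6Par.ker_aeval_eq_span _ _ _ _ hT hG

end Groth.Agent.S13121
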