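import Groth.Statements.S13122
import Groth.Agent.Lib.helper6.Parity

set_option autoImplicit false
universe u
open KumFam

namespace Groth.Agent.S13122

open MvPolynomial in
/-- Let R be a commutative ring of characteristic 2 and l0, l2, l4, s0, s2, s4, τ ∈ R with τ a unit. On
R[x, y] (x = X 0, y = X 1; the coordinates u⁻¹, v⁻¹ of the smooth chart of the product of two
cuspidal curves) let D be the R-derivation with D(x) = l4 x⁴ + l2 x² + τ x + l0 and D(y) = s4 y⁴ +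
s2 y² + τ y + s0, and put h = (s4 y⁴ + s2 y² + s0) x + (l4 x⁴ + l2 x² + l0) y + τ x y. Then: (1) for
p ∈ R[x, y], D(p) = 0 if and only if p lies in the image of the R-algebra homomorphism R[a, b, c] →
R[x, y] (a = X 0, b = X 1, c = X 2) with a ↦ x², b ↦ y², c ↦ h; (2) the kernel of that homomorphism
is the ideal generated by c² + τ² a b + (s4² b⁴ + s2² b² + s0²) a + (l4² a⁴ + l2² a² + l0²) b. (The
published statement asserts that the ring of invariants of the action of the group scheme of square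
roots of unity given by this vector field is R[a, b, c] modulo this equation, by the same
computation as on the other chart; this row pins the generator h and states the kernel computation.) -/
theorem result (R : Type u) [CommRing R]
    [CharP R 2] (l0 l2 l4 s0 s2 s4 τ : R) (hτ : IsUnit τ) :
    (∀ p : MvPolynomial (Fin 2) R,
      MvPolynomial.mkDerivation R
          (![C l4 * X 0 ^ 4 + C l2 * X 0 ^ 2 + C τ * X 0 + C l0,
            C s4 * X 1 ^ 4 + C s2 * X 1 ^ 2 + C τ * X 1 + C s0] :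
            Fin 2 → MvPolynomial (Fin 2) R) p = 0 ↔
        p ∈ (MvPolynomial.aeval (R := R) (S₁ := MvPolynomial (Fin 2) R)
          ![X 0 ^ 2, X 1 ^ 2,
            (C s4 * X 1 ^ 4 + C s2 * X 1 ^ 2 + C s0) * X 0 +
              (C l4 * X 0 ^ 4 + C l2 * X 0 ^ 2 + C l0) * X 1 + C τ * X 0 * X 1]).range) ∧
    RingHom.ker (MvPolynomial.aeval (R := R) (S₁ := MvPolynomial (Fin 2) R)
        ![X 0 ^ 2, X 1 ^ 2,
          (C s4 * X 1 ^ 4 + C s2 * X 1 ^ 2 + C s0) * X 0 +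
            (C l4 * X 0 ^ 4 + C l2 * X 0 ^ 2 + C l0) * X 1 + C τ * X 0 * X 1]) =
      Ideal.span {(X 2 ^ 2 + C (τ ^ 2) * X 0 * X 1 +
        (C (s4 ^ 2) * X 1 ^ 4 + C (s2 ^ 2) * X 1 ^ 2 + C (s0 ^ 2)) * X 0 +
        (C (l4 ^ 2) * X 0 ^ 4 + C (l2 ^ 2) * X 0 ^ 2 + C (l0 ^ 2)) * X 1 : MvPolynomial (Fin 3) R)} := by
  have h2R : (2 : R) = 0 := CharTwo.two_eq_zero
  have h2 : (2 : MvPolynomial (Fin 2) R) = 0 := H6Par.two_eq_zero_of h2R
  obtain ⟨τi, hτi⟩ := hτ.exists_right_inv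
  have hC : (C τ * C τi : MvPolynomial (Fin 2) R) = 1 := by rw [← C_mul, hτi, C_1]
  obtain ⟨D, hD⟩ : ∃ D, D = mkDerivation R
      (![C l4 * X 0 ^ 4 + C l2 * X 0 ^ 2 + C τ * X 0 + C l0,
        C s4 * X 1 ^ 4 + C s2 * X 1 ^ 2 + C τ * X 1 + C s0] :
        Fin 2 → MvPolynomial (Fin 2) R) := ⟨_, rfl⟩
  rw [← hD]
  have hD0 : D (X 0) = C l4 * X 0 ^ 4 + C l2 * X 0 ^ 2 + C τ * X 0 + C l0 := by
    rw [hD, mkDerivation_X]; rfl
  have hD1 : D (X 1) = C s4 * X 1 ^ 4 + C s2 * X 1 ^ 2 + C τ * X 1 + C s0 := by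
    rw [hD, mkDerivation_X]; rfl
  have hE := H6Par.derivation_expand_two h2R D
  have hDE : ∀ e x : MvPolynomial (Fin 2) R, D (expand 2 e * x) = expand 2 e * D x := by
    intro e x
    rw [D.leibniz, hE, smul_zero, add_zero, smul_eq_mul]
  have hD01 : D (X 0 * X 1) = X 0 * D (X 1) + X 1 * D (X 0) := by
    rw [D.leibniz, smul_eq_mul, smul_eq_mul]
  have hgeq : ((C s4 * X 1 ^ 4 + C s2 * X 1 ^ 2 + C s0) * X 0 +
      (C l4 * X 0 ^ 4 + C l2 * X 0 ^ 2 + C l0) * X 1 + C τ * X 0 * X 1 :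
      MvPolynomial (Fin 2) R) =
      expand 2 (C s4 * X 1 ^ 2 + C s2 * X 1 + C s0) * X 0 +
      expand 2 (C l4 * X 0 ^ 2 + C l2 * X 0 + C l0) * X 1 + expand 2 (C τ) * (X 0 * X 1) := by
    simp only [map_add, map_mul, map_pow, expand_X, expand_C]; ring
  rw [hgeq]
  constructor
  · intro p
    rw [AlgHom.mem_range]
    constructor
    · intro hp
      obtain ⟨p00, p10, p01, p11, rfl⟩ := H6Par.exists_decomp p
      rw [map_add, map_add, map_add, hE, hDE, hDE, hDE, hD01, hD0, hD1, zero_add] at hp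
      have hq : expand 2 (p10 * (C l4 * X 0 ^ 2 + C l2 * X 0 + C l0) +
            p01 * (C s4 * X 1 ^ 2 + C s2 * X 1 + C s0)) +
          expand 2 (C τ * p10 + p11 * (C s4 * X 1 ^ 2 + C s2 * X 1 + C s0)) * X 0 +
          expand 2 (C τ * p01 + p11 * (C l4 * X 0 ^ 2 + C l2 * X 0 + C l0)) * X 1 +
          expand 2 0 * (X 0 * X 1) = 0 := by
        simp only [map_add, map_mul, map_pow, expand_X, expand_C, map_zero]
        linear_combination hp + (-(C τ * expand 2 p11 * X 0 * X 1)) * h2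
      obtain ⟨-, r1, r2, -⟩ := H6Par.parity_indep _ _ _ _ hq
      have r1' := congrArg (expand 2) r1
      have r2' := congrArg (expand 2) r2
      simp only [map_add, map_mul, map_pow, expand_X, expand_C, map_zero] at r1' r2'
      refine ⟨rename Fin.castSucc p00 + rename Fin.castSucc (C τi * p11) * X 2, ?_⟩
      rw [map_add, map_mul, H6Par.aeval_rename_castSucc, H6Par.aeval_rename_castSucc,
        H6Par.aeval_X_two]
      simp only [map_add, map_mul, map_pow, expand_X, expand_C]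
      linear_combination (C τi * X 0) * r1' + (C τi * X 1) * r2' +
        (expand 2 p11 * X 0 * X 1 - expand 2 p10 * X 0 - expand 2 p01 * X 1) * hC +
        (-(expand 2 p10 * X 0 + expand 2 p01 * X 1)) * h2
    · rintro ⟨q, rfl⟩
      apply H6Par.derivation_aeval_eq_zero
      refine H6Par.forall_fin3 ?_ ?_ ?_
      · show D (X 0 ^ 2) = 0
        rw [← expand_X]; exact hE _
      · show D (X 1 ^ 2) = 0
        rw [← expand_X]; exact hE _
      · show D (expand 2 (C s4 * X 1 ^ 2 + C s2 * X 1 + C s0) * X 0 +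
          expand 2 (C l4 * X 0 ^ 2 + C l2 * X 0 + C l0) * X 1 +
          expand 2 (C τ) * (X 0 * X 1)) = 0
        rw [map_add, map_add, hDE, hDE, hDE, hD01, hD0, hD1]
        simp only [map_add, map_mul, map_pow, expand_X, expand_C]
        linear_combination
          ((C l4 * (X 0 ^ 2) ^ 2 + C l2 * X 0 ^ 2 + C l0) *
              (C s4 * (X 1 ^ 2) ^ 2 + C s2 * X 1 ^ 2 + C s0) +
            C τ * X 0 * (C s4 * (X 1 ^ 2) ^ 2 + C s2 * X 1 ^ 2 + C s0) +
            C τ * X 1 * (C l4 * (X 0 ^ 2) ^ 2 + C l2 * X 0 ^ 2 + C l0) +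
            C τ ^ 2 * X 0 * X 1) * h2
  · have hFeq : (X 2 ^ 2 + C (τ ^ 2) * X 0 * X 1 +
        (C (s4 ^ 2) * X 1 ^ 4 + C (s2 ^ 2) * X 1 ^ 2 + C (s0 ^ 2)) * X 0 +
        (C (l4 ^ 2) * X 0 ^ 4 + C (l2 ^ 2) * X 0 ^ 2 + C (l0 ^ 2)) * X 1 :
        MvPolynomial (Fin 3) R) =
        X 2 ^ 2 + rename Fin.castSucc (C (τ ^ 2) * X 0 * X 1 +
        (C (s4 ^ 2) * X 1 ^ 4 + C (s2 ^ 2) * X 1 ^ 2 + C (s0 ^ 2)) * X 0 +
        (C (l4 ^ 2) * X 0 ^ 4 + C (l2 ^ 2) * X 0 ^ 2 + C (l0 ^ 2)) * X 1 :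
        MvPolynomial (Fin 2) R) := by
      simp only [map_add, map_mul, map_pow, rename_X, rename_C, Fin.castSucc_zero,
        Fin.castSucc_one]
      ring
    rw [hFeq]
    refine H6Par.ker_aeval_eq_span _ _ _ _ ?_ ?_
    · intro p hp
      have : p = p * C τ * C τi := by rw [mul_assoc, hC, mul_one]
      rw [this, hp, zero_mul]
    · simp only [map_add, map_mul, map_pow, expand_X, expand_C]
      linear_combination
        (C τ ^ 2 * X 0 ^ 2 * X 1 ^ 2 +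
          (C s4 ^ 2 * (X 1 ^ 2) ^ 4 + C s2 ^ 2 * (X 1 ^ 2) ^ 2 + C s0 ^ 2) * X 0 ^ 2 +
          (C l4 ^ 2 * (X 0 ^ 2) ^ 4 + C l2 ^ 2 * (X 0 ^ 2) ^ 2 + C l0 ^ 2) * X 1 ^ 2 +
          (C s4 * (X 1 ^ 2) ^ 2 + C s2 * X 1 ^ 2 + C s0) *
            (C l4 * (X 0 ^ 2) ^ 2 + C l2 * X 0 ^ 2 + C l0) * X 0 * X 1 +
          (C s4 * (X 1 ^ 2) ^ 2 + C s2 * X 1 ^ 2 + C s0) * C τ * X 0 ^ 2 * X 1 +
          (C l4 * (X 0 ^ 2) ^ 2 + C l2 * X 0 ^ 2 + C l0) * C τ * X 0 * X 1 ^ 2 +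
          (C s4 * C s2 * (X 1 ^ 2) ^ 3 + C s4 * C s0 * (X 1 ^ 2) ^ 2 + C s2 * C s0 * X 1 ^ 2) *
            X 0 ^ 2 +
          (C l4 * C l2 * (X 0 ^ 2) ^ 3 + C l4 * C l0 * (X 0 ^ 2) ^ 2 + C l2 * C l0 * X 0 ^ 2) *
            X 1 ^ 2) * h2

end Groth.Agent.S13122
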