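import Groth.Statements.S13124
import Mathlib

set_option autoImplicit false
universe u v w
open KumFam

namespace Groth.Agent.S13124

/-- Let k be a commutative ring, A a commutative k-bialgebra that is flat over k, and R a commutative
k-algebra which is an integrally closed domain, with a coaction R → R ⊗ A that is an algebra
homomorphism. Then the ring of invariants (the elements f with coaction f ⊗ 1) is an integrally
closed domain. (The published statement is for a finite group scheme acting on a normal scheme whose
quotient is, locally, the spectrum of the ring of invariants; this row is the affine integral case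
and allows any commutative bialgebra flat over k, flatness being automatic over a field.) -/
theorem result (k : Type u) [CommRing k]
    (A : Type v) [CommRing A] [Bialgebra k A] [Module.Flat k A]
    (R : Type w) [CommRing R] [Algebra k R] [IsDomain R] [IsIntegrallyClosed R]
    [HopfRep.Comod k A R] [GLin.IsCoactAlg k A R] :
    IsIntegrallyClosed (GLin.invariants k A R) := by
  classical
  rw [isIntegrallyClosed_iff (FractionRing (GLin.invariants k A R))]
  intro x hx
  have hinj : Function.Injective ((algebraMap R (FractionRing R)).comp
      (GLin.invariants k A R).val.toRingHom) :=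
    (IsFractionRing.injective R (FractionRing R)).comp Subtype.val_injective
  obtain ⟨j, hj⟩ : ∃ j : FractionRing (GLin.invariants k A R) →+* FractionRing R,
      ∀ s : GLin.invariants k A R,
        j (algebraMap _ (FractionRing (GLin.invariants k A R)) s) =
          algebraMap R (FractionRing R) (s : R) :=
    ⟨IsFractionRing.lift hinj, fun s => IsFractionRing.lift_algebraMap hinj s⟩
  have hjx : IsIntegral R (j x) := by
    obtain ⟨p, hp, hpx⟩ := hx
    refine ⟨p.map (GLin.invariants k A R).val.toRingHom, hp.map _, ?_⟩
    rw [Polynomial.eval₂_map]
    have h1 : (algebraMap R (FractionRing R)).comp (GLin.invariants k A R).val.toRingHom =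
        j.comp
          (algebraMap _ (FractionRing (GLin.invariants k A R))) := by
      ext s
      exact (hj s).symm
    rw [h1, ← Polynomial.hom_eval₂, hpx, map_zero]
  obtain ⟨r, hr⟩ := IsIntegrallyClosed.algebraMap_eq_of_integral hjx
  obtain ⟨a, b, hb, rfl⟩ := IsFractionRing.div_surjective (A := GLin.invariants k A R) x
  have hb0 : (b : R) ≠ 0 := by
    intro h
    exact nonZeroDivisors.ne_zero hb (Subtype.ext h)
  have hbL : algebraMap R (FractionRing R) (b : R) ≠ 0 := by
    intro h
    exact hb0 ((IsFractionRing.injective R (FractionRing R)) (by rw [h, map_zero]))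
  have hbr : (b : R) * r = (a : R) := by
    apply IsFractionRing.injective R (FractionRing R)
    rw [map_mul, hr, map_div₀, hj, hj, mul_div_cancel₀ _ hbL]
  have hrS : r ∈ GLin.invariants k A R := by
    rw [GLin.mem_invariants_iff]
    have hmul : HopfRep.Comod.coact (k := k) (A := A) ((b : R) * r) =
        ((b : R) * r) ⊗ₜ[k] (1 : A) := by
      rw [hbr]; exact a.2
    rw [GLin.IsCoactAlg.coact_mul, (GLin.mem_invariants_iff k A R _).1 b.2] at hmul
    have h3 : ∀ z : TensorProduct k R A,
        LinearMap.rTensor A (LinearMap.mulLeft k (b : R)) z = ((b : R) ⊗ₜ[k] (1 : A)) * z := by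
      intro z
      induction z using TensorProduct.induction_on with
      | zero => simp
      | tmul x y => simp [Algebra.TensorProduct.tmul_mul_tmul]
      | add x y hx hy => rw [map_add, hx, hy, mul_add]
    have h2 : Function.Injective (LinearMap.rTensor A (LinearMap.mulLeft k (b : R))) :=
      Module.Flat.rTensor_preserves_injective_linearMap (M := A) _
        (fun y z hyz => mul_left_cancel₀ hb0 hyz)
    apply h2
    rw [h3, h3, hmul, Algebra.TensorProduct.tmul_mul_tmul, one_mul]
  refine ⟨⟨r, hrS⟩, ?_⟩
  apply j.injective
  rw [hj, ← hr]

end Groth.Agent.S13124
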