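import Groth.Statements.S13125
import Mathlib

set_option autoImplicit false
universe u v
open KumFam

namespace Groth.Agent.S13125

/-- Let A be a commutative ring graded by an additive monoid ι (an abelian group in the published
statement) through additive subgroups 𝒜 i, and I an ideal of A. Then I is a homogeneous ideal if and
only if A/I carries a structure of ι-graded ring ℬ for which the quotient map sends 𝒜 i into ℬ i for
all i. -/
theorem result (ι : Type u) [DecidableEq ι] [AddMonoid ι]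
    (A : Type v) [CommRing A] (𝒜 : ι → AddSubgroup A) [GradedRing 𝒜] (I : Ideal A) :
    I.IsHomogeneous 𝒜 ↔
      ∃ ℬ : ι → AddSubgroup (A ⧸ I), Nonempty (GradedRing ℬ) ∧
        ∀ i : ι, (𝒜 i).map (Ideal.Quotient.mk I : A →+ A ⧸ I) ≤ ℬ i := by
  classical
  set π : A →+ A ⧸ I := (Ideal.Quotient.mk I : A →+ A ⧸ I) with hπ
  have hπs : Function.Surjective π := Ideal.Quotient.mk_surjective
  -- key compatibility lemma
  have key : ∀ (ℬ : ι → AddSubgroup (A ⧸ I)) (g : ∀ i, 𝒜 i →+ ℬ i)
      (_ : ∀ i (a : 𝒜 i), ((g i a : ℬ i) : A ⧸ I) = π a) (x : A),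
      DirectSum.coeAddMonoidHom ℬ (DirectSum.map g (DirectSum.decompose 𝒜 x)) = π x := by
    intro ℬ g hg x
    have h1 : (DirectSum.coeAddMonoidHom ℬ).comp (DirectSum.map g) =
        π.comp (DirectSum.coeAddMonoidHom 𝒜) := by
      refine DirectSum.addHom_ext fun i a => ?_
      simp [hg]
    have h2 := DFunLike.congr_fun h1 (DirectSum.decompose 𝒜 x)
    have h3 : DirectSum.coeAddMonoidHom 𝒜 (DirectSum.decompose 𝒜 x) = x :=
      (DirectSum.decompose 𝒜).left_inv x
    simp only [AddMonoidHom.comp_apply] at h2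
    rw [h2, h3]
  constructor
  · intro hI
    let ℬ : ι → AddSubgroup (A ⧸ I) := fun i => (𝒜 i).map π
    refine ⟨ℬ, ⟨?_⟩, fun i => le_rfl⟩
    haveI : SetLike.GradedMonoid ℬ :=
      { one_mem := ⟨1, SetLike.GradedOne.one_mem, map_one (Ideal.Quotient.mk I)⟩
        mul_mem := by
          rintro i j _ _ ⟨a, ha, rfl⟩ ⟨b, hb, rfl⟩
          exact ⟨a * b, SetLike.GradedMul.mul_mem ha hb, map_mul (Ideal.Quotient.mk I) _ _⟩ }
    let g : ∀ i, 𝒜 i →+ ℬ i := fun i =>
      (π.comp (𝒜 i).subtype).codRestrict (ℬ i) (fun x => ⟨x, x.2, rfl⟩)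
    have hg : ∀ i (a : 𝒜 i), ((g i a : ℬ i) : A ⧸ I) = π a := fun i a => rfl
    let f : A →+ DirectSum ι (fun i => ℬ i) :=
      (DirectSum.map g).comp (DirectSum.decomposeAddEquiv 𝒜).toAddMonoidHom
    have hfx : ∀ x, f x = DirectSum.map g (DirectSum.decompose 𝒜 x) := fun x => rfl
    have hf : ∀ x, π x = 0 → f x = 0 := by
      intro x hx
      have hxI : x ∈ I := Ideal.Quotient.eq_zero_iff_mem.mp hx
      rw [hfx]
      ext i
      rw [DirectSum.map_apply, hg]
      simp only [DirectSum.zero_apply, ZeroMemClass.coe_zero]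
      exact Ideal.Quotient.eq_zero_iff_mem.mpr (hI i hxI)
    let d : A ⧸ I →+ DirectSum ι (fun i => ℬ i) :=
      π.liftOfRightInverse (Function.surjInv hπs) (Function.rightInverse_surjInv hπs)
        ⟨f, fun x hx => hf x hx⟩
    have hd : ∀ x, d (π x) = f x := fun x =>
      AddMonoidHom.liftOfRightInverse_comp_apply _ _ _ _ x
    haveI : DirectSum.Decomposition ℬ := DirectSum.Decomposition.ofAddHom ℬ d
      (by
        refine AddMonoidHom.ext fun y => ?_
        obtain ⟨x, rfl⟩ := hπs y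
        simp only [AddMonoidHom.comp_apply, AddMonoidHom.id_apply]
        rw [hd, hfx, key ℬ g hg])
      (by
        refine DirectSum.addHom_ext fun i b => ?_
        obtain ⟨b, a, ha, rfl⟩ := b
        simp only [AddMonoidHom.comp_apply, AddMonoidHom.id_apply, DirectSum.coeAddMonoidHom_of]
        rw [hd, hfx, DirectSum.decompose_of_mem 𝒜 ha, DirectSum.map_of]
        rfl)
    exact { (inferInstance : SetLike.GradedMonoid ℬ), (inferInstance : DirectSum.Decomposition ℬ) with }
  · rintro ⟨ℬ, ⟨hG⟩, hle⟩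
    intro i x hx
    let g : ∀ i, 𝒜 i →+ ℬ i := fun i =>
      (π.comp (𝒜 i).subtype).codRestrict (ℬ i) (fun a => hle i ⟨a, a.2, rfl⟩)
    have hg : ∀ i (a : 𝒜 i), ((g i a : ℬ i) : A ⧸ I) = π a := fun i a => rfl
    have h1 := key ℬ g hg x
    have hx0 : π x = 0 := Ideal.Quotient.eq_zero_iff_mem.mpr hx
    rw [hx0] at h1
    have h2 : DirectSum.map g (DirectSum.decompose 𝒜 x) = 0 := by
      have := congrArg (DirectSum.decompose ℬ) h1
      rw [DirectSum.decompose_zero] at this
      rw [← this]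
      exact ((DirectSum.decompose ℬ).right_inv _).symm
    have h3 := DFunLike.congr_fun h2 i
    rw [DirectSum.map_apply] at h3
    have h4 : ((g i (DirectSum.decompose 𝒜 x i) : ℬ i) : A ⧸ I) = 0 := by
      rw [h3]; rfl
    rw [hg] at h4
    exact Ideal.Quotient.eq_zero_iff_mem.mp h4

end Groth.Agent.S13125
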