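import Groth.Statements.S13126
import Mathlib

set_option autoImplicit false
universe u
open KumFam

namespace Groth.Agent.S13126

open Polynomial in
/-- Let R be a commutative ring, n a natural number which is a unit in R, and ζ ∈ R with ζ^n = 1 and 1 −
ζ^i a unit for 0 < i < n (a primitive n-th root of unity in the fibrewise sense: the powers ζ^0, …,
ζ^(n−1) are roots of X^n − 1 with pairwise unit differences; over an integral domain in which n is a
unit this is the same as ζ having multiplicative order n). Then the R-algebra homomorphism R[X] →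
(Fin n → R) sending a polynomial to its values at ζ^0, …, ζ^(n−1) is surjective and its kernel is
the ideal generated by X^n − 1; hence R[X]/(X^n − 1) ≅ R^n as R-algebras, i.e. the scheme of n-th
roots of unity over Spec R is the disjoint union of n copies of Spec R. (The published statement
asks that R contain a primitive n-th root of unity without defining the term; its Chinese-remainder
argument uses that the ideals (X − ζ^i), i < n, are pairwise comaximal, which is the unit-difference
condition taken as the hypothesis here, whereas under the reading 'ζ has multiplicative order n'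
alone the surjectivity fails over a product of two fields. The published statement also asserts that
the isomorphism respects the group-scheme structures of the n-th roots of unity and of the constant
group ℤ/n; this row does not state that.) -/
theorem result (R : Type u) [CommRing R]
    (n : ℕ) (hn : IsUnit (n : R)) (ζ : R) (hζ : ζ ^ n = 1)
    (hprim : ∀ i : ℕ, 0 < i → i < n → IsUnit (1 - ζ ^ i)) :
    Function.Surjective (AlgHom.pi (fun i : Fin n => Polynomial.aeval (R := R) (ζ ^ (i : ℕ)))) ∧
      RingHom.ker (AlgHom.pi (fun i : Fin n => Polynomial.aeval (R := R) (ζ ^ (i : ℕ)))) =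
        Ideal.span {(X ^ n - 1 : R[X])} := by
  classical
  rcases Nat.eq_zero_or_pos n with hn0 | hnpos
  · subst hn0
    have hs : Subsingleton R := by
      have h0 : IsUnit (0 : R) := by simpa using hn
      exact subsingleton_of_zero_eq_one (isUnit_zero_iff.1 h0)
    refine ⟨fun y => ⟨0, Subsingleton.elim _ _⟩, ?_⟩
    ext x
    rw [Subsingleton.elim x 0]
    simp
  · have hζu : IsUnit ζ := IsUnit.of_pow_eq_one hζ hnpos.ne'
    have hpow : ∀ i : ℕ, IsUnit (ζ ^ i) := fun i => hζu.pow i
    have hdiff : ∀ i j : Fin n, i ≠ j → IsUnit (ζ ^ (i : ℕ) - ζ ^ (j : ℕ)) := by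
      have aux : ∀ i j : Fin n, (i : ℕ) < (j : ℕ) → IsUnit (ζ ^ (i : ℕ) - ζ ^ (j : ℕ)) := by
        intro i j hij
        have : ζ ^ (i : ℕ) - ζ ^ (j : ℕ) = ζ ^ (i : ℕ) * (1 - ζ ^ ((j : ℕ) - (i : ℕ))) := by
          rw [mul_sub, mul_one, ← pow_add, Nat.add_sub_cancel' hij.le]
        rw [this]
        exact (hpow _).mul (hprim _ (Nat.sub_pos_of_lt hij) (lt_of_le_of_lt (Nat.sub_le _ _) j.2))
      intro i j hij
      rcases lt_or_gt_of_ne (fun h => hij (Fin.ext h)) with h | h
      · exact aux i j h
      · have := (aux j i h).neg
        rwa [neg_sub] at this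
    have hcop : Pairwise (Function.onFun IsCoprime fun i : Fin n => (X - C (ζ ^ (i : ℕ)) : R[X])) := by
      intro i j hij
      obtain ⟨w, hw⟩ := (hdiff i j hij).exists_right_inv
      show IsCoprime (X - C (ζ ^ (i : ℕ)) : R[X]) (X - C (ζ ^ (j : ℕ)))
      refine ⟨-C w, C w, ?_⟩
      have : (C w : R[X]) * C (ζ ^ (i : ℕ) - ζ ^ (j : ℕ)) = 1 := by
        rw [← C_mul, mul_comm, hw, C_1]
      rw [C_sub] at this
      linear_combination this
    have hroot : ∀ (p : R[X]), (∀ i : Fin n, p.eval (ζ ^ (i : ℕ)) = 0) ↔
        (∏ i : Fin n, (X - C (ζ ^ (i : ℕ)))) ∣ p := by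
      intro p
      constructor
      · intro h
        have hcop' : ((Finset.univ : Finset (Fin n)) : Set (Fin n)).Pairwise
            (Function.onFun IsCoprime fun i : Fin n => (X - C (ζ ^ (i : ℕ)) : R[X])) :=
          fun i _ j _ hij => hcop hij
        exact Finset.prod_dvd_of_coprime (t := Finset.univ)
          (s := fun i : Fin n => (X - C (ζ ^ (i : ℕ)) : R[X])) hcop'
          (fun i _ => dvd_iff_isRoot.2 (h i))
      · intro h i
        exact dvd_iff_isRoot.1 (dvd_trans (Finset.dvd_prod_of_mem
          (fun i : Fin n => (X - C (ζ ^ (i : ℕ)) : R[X])) (Finset.mem_univ i)) h)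
    have hprod : (∏ i : Fin n, (X - C (ζ ^ (i : ℕ)))) = (X ^ n - 1 : R[X]) := by
      rcases subsingleton_or_nontrivial R with hs | hnt
      · exact Subsingleton.elim _ _
      have hm1 : (∏ i : Fin n, (X - C (ζ ^ (i : ℕ)) : R[X])).Monic :=
        monic_prod_of_monic _ _ fun i _ => monic_X_sub_C _
      have hm2 : (X ^ n - 1 : R[X]).Monic := by
        have := monic_X_pow_sub_C (1 : R) hnpos.ne'
        rwa [C_1] at this
      have hd : (∏ i : Fin n, (X - C (ζ ^ (i : ℕ)) : R[X])) ∣ X ^ n - 1 := by
        rw [← hroot]
        intro i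
        rw [eval_sub, eval_pow, eval_X, eval_one, ← pow_mul, mul_comm, pow_mul, hζ, one_pow,
          sub_self]
      symm
      refine eq_of_monic_of_dvd_of_natDegree_le hm1 hm2 hd ?_
      rw [natDegree_prod_of_monic _ _ (fun i _ => monic_X_sub_C _)]
      have h1 : (X ^ n - 1 : R[X]).natDegree = n := by
        have := natDegree_X_pow_sub_C (R := R) (n := n) (r := 1)
        rwa [C_1] at this
      rw [h1]
      simp only [natDegree_X_sub_C, Finset.sum_const, Finset.card_univ, Fintype.card_fin,
        smul_eq_mul, mul_one, le_refl]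
    constructor
    · intro y
      obtain ⟨p, hp⟩ := Ideal.exists_forall_sub_mem_ideal
        (I := fun i : Fin n => Ideal.span {(X - C (ζ ^ (i : ℕ)) : R[X])})
        (fun i j hij => (Ideal.isCoprime_span_singleton_iff _ _).2 (hcop hij)) (fun i => C (y i))
      refine ⟨p, funext fun i => ?_⟩
      have := hp i
      rw [Ideal.mem_span_singleton, dvd_iff_isRoot, IsRoot.def, eval_sub, eval_C,
        sub_eq_zero] at this
      show Polynomial.aeval (ζ ^ (i : ℕ)) p = y i
      rw [Polynomial.coe_aeval_eq_eval]
      exact this
    · ext p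
      rw [RingHom.mem_ker, Ideal.mem_span_singleton, ← hprod, ← hroot]
      constructor
      · intro h i
        have := congrFun h i
        rw [← Polynomial.coe_aeval_eq_eval]
        exact this
      · intro h
        funext i
        show Polynomial.aeval (ζ ^ (i : ℕ)) p = 0
        rw [Polynomial.coe_aeval_eq_eval]
        exact h i

end Groth.Agent.S13126
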