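import Groth.Statements.S13127
import Groth.Agent.Lib.helper6.PSInv

set_option autoImplicit false
universe u
open KumFam

namespace Groth.Agent.S13127


open MvPowerSeries

theorem forall_fin3 {P : Fin 3 → Prop} (h0 : P 0) (h1 : P 1) (h2 : P 2) : ∀ j, P j := by
  intro j; fin_cases j
  · exact h0
  · exact h1
  · exact h2

noncomputable def fp {R : Type u} [CommRing R] : Fin 3 → MvPowerSeries (Fin 3) R :=
  ![X 0 + X 0 ^ 2 + X 0 ^ 3, X 1, X 2]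

noncomputable def fz {R : Type u} [CommRing R] (z : MvPowerSeries (Fin 3) R) :
    Fin 3 → MvPowerSeries (Fin 3) R :=
  ![z, X 1, X 2]

noncomputable def fpsi {R : Type u} [CommRing R] (u v : MvPowerSeries (Fin 3) R) :
    Fin 3 → MvPowerSeries (Fin 3) R :=
  ![X 0 * u, X 1 * v, X 2]

noncomputable def frho {R : Type u} [CommRing R] (κ₁ κ₂ : R) :
    Fin 3 → MvPowerSeries (Fin 3) R :=
  ![C κ₁ * X 0, C κ₂ * X 1, X 2]

theorem two_eq_zero' {R : Type u} [CommRing R] [CharP R 2] :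
    (2 : MvPowerSeries (Fin 3) R) = 0 := by
  have h2R : (2 : R) = 0 := CharTwo.two_eq_zero
  have h := congrArg (C (σ := Fin 3)) h2R
  rw [map_zero] at h
  rw [← h]; exact (map_ofNat (C (σ := Fin 3) (R := R)) 2).symm

/-- cube roots of power series with constant coefficient one, in characteristic two -/
theorem exists_cube_root {R : Type u} [CommRing R] [CharP R 2] (w : MvPowerSeries (Fin 3) R)
    (hw : constantCoeff w = 1) :
    ∃ u : MvPowerSeries (Fin 3) R, u ^ 3 = w ∧ constantCoeff u = 1 := by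
  have h2 : (2 : MvPowerSeries (Fin 3) R) = 0 := two_eq_zero'
  have hp2 : ∀ j, (2 : ℕ∞) ≤ ((fp (R := R)) j - X j).order := by
    refine forall_fin3 ?_ ?_ ?_
    · rw [show (fp (R := R)) 0 = X 0 + X 0 ^ 2 + X 0 ^ 3 from rfl]
      have : (X 0 + X 0 ^ 2 + X 0 ^ 3 - X 0 : MvPowerSeries (Fin 3) R) = X 0 ^ 2 + X 0 ^ 3 := by
        ring
      rw [this]
      refine H6PSInv.le_order_add' ?_ ?_
      · exact le_trans (by simp) (le_order_pow_of_constantCoeff_eq_zero 2 (constantCoeff_X 0))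
      · exact le_trans (by norm_num) (le_order_pow_of_constantCoeff_eq_zero 3 (constantCoeff_X 0))
    · rw [show (fp (R := R)) 1 = X 1 from rfl, sub_self, order_zero]; exact le_top
    · rw [show (fp (R := R)) 2 = X 2 from rfl, sub_self, order_zero]; exact le_top
  have hps : HasSubst (fp (R := R)) :=
    hasSubst_of_constantCoeff_zero (H6PSInv.constantCoeff_eq_zero_of_order hp2)
  have bij := H6PSInv.bijective_of_order hps hp2
  obtain ⟨θ, hθ, hθ2⟩ := H6PSInv.exists_preimage hps hp2 1 (X 0)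
    (by rw [Nat.cast_one]; exact H6PSInv.one_le_order_X 0)
  have hθ0 : constantCoeff θ = 0 := by
    have h1 : constantCoeff (θ - X 0) = 0 :=
      one_le_order_iff_constCoeff_eq_zero.1 (le_trans le_self_add hθ2)
    rw [map_sub, constantCoeff_X, sub_zero] at h1
    exact h1
  have hθeq : θ + θ ^ 2 + θ ^ 3 = X 0 := by
    apply bij.1
    rw [map_add, map_add, map_pow, map_pow, hθ, substAlgHom_X]; rfl
  have hz0 : ∀ j, constantCoeff (fz (w - 1) j) = 0 := by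
    refine forall_fin3 ?_ ?_ ?_
    · rw [show fz (w - 1) 0 = w - 1 from rfl, map_sub, hw, map_one, sub_self]
    · rw [show fz (w - 1) 1 = X 1 from rfl, constantCoeff_X]
    · rw [show fz (w - 1) 2 = X 2 from rfl, constantCoeff_X]
  have hzs : HasSubst (fz (w - 1)) := hasSubst_of_constantCoeff_zero hz0
  have hζ : substAlgHom hzs θ + (substAlgHom hzs θ) ^ 2 + (substAlgHom hzs θ) ^ 3 = w - 1 := by
    rw [← map_pow, ← map_pow, ← map_add, ← map_add, hθeq, substAlgHom_X]; rfl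
  refine ⟨1 + substAlgHom hzs θ, ?_, ?_⟩
  · linear_combination hζ + (substAlgHom hzs θ + (substAlgHom hzs θ) ^ 2) * h2
  · rw [map_add, map_one, substAlgHom_apply, constantCoeff_subst_eq_zero hzs hz0 hθ0, add_zero]


open MvPowerSeries in
/-- Let R be a commutative ring of characteristic 2 and l0, l2, l4, s0, s2, s4, τ, lam, sig ∈ R with l4,
s4, lam, sig units, and let κ₁, κ₂ ∈ R satisfy s4² κ₁³ = sig² and l4² κ₂³ = lam² (cube roots of
sig²/s4² and lam²/l4²). In the power series ring R[[a, b, c]] (a = X 0, b = X 1, c = X 2) put F = c²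
+ s0² a³ b⁴ + s2² a³ b² + s4² a³ + l0² a⁴ b³ + l2² a² b³ + l4² b³ + τ² a³ b³ and F₀ = c² + sig² a³ +
lam² b³. Then some R-algebra automorphism of R[[a, b, c]] maps F to F₀; consequently R[[a, b,
c]]/(F) ≅ R[[a, b, c]]/(F₀). (In the published statement lam, sig are the representatives in the
ground field of the residues of l4, s4 at a rational point, so that F₀ is the equation of the
special fibre made constant; this row takes them to be arbitrary units.) -/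
theorem result (R : Type u) [CommRing R] [CharP R 2]
    (l0 l2 l4 s0 s2 s4 τ lam sig κ₁ κ₂ : R) (hl4 : IsUnit l4) (hs4 : IsUnit s4) (hlam : IsUnit lam)
    (hsig : IsUnit sig) (h₁ : s4 ^ 2 * κ₁ ^ 3 = sig ^ 2) (h₂ : l4 ^ 2 * κ₂ ^ 3 = lam ^ 2) :
    ∃ φ : MvPowerSeries (Fin 3) R ≃ₐ[R] MvPowerSeries (Fin 3) R,
      φ ((X 2 ^ 2 + C (s0 ^ 2) * X 0 ^ 3 * X 1 ^ 4 + C (s2 ^ 2) * X 0 ^ 3 * X 1 ^ 2 +
          C (s4 ^ 2) * X 0 ^ 3 + C (l0 ^ 2) * X 0 ^ 4 * X 1 ^ 3 + C (l2 ^ 2) * X 0 ^ 2 * X 1 ^ 3 +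
          C (l4 ^ 2) * X 1 ^ 3 + C (τ ^ 2) * X 0 ^ 3 * X 1 ^ 3 : MvPowerSeries (Fin 3) R)) =
        (X 2 ^ 2 + C (sig ^ 2) * X 0 ^ 3 + C (lam ^ 2) * X 1 ^ 3 : MvPowerSeries (Fin 3) R) := by
  obtain ⟨s4i, hs4i⟩ := hs4.exists_right_inv
  obtain ⟨l4i, hl4i⟩ := hl4.exists_right_inv
  obtain ⟨sigi, hsigi⟩ := hsig.exists_right_inv
  obtain ⟨lami, hlami⟩ := hlam.exists_right_inv
  have hκ₁ : IsUnit κ₁ := IsUnit.of_mul_eq_one (κ₁ ^ 2 * s4 ^ 2 * sigi ^ 2) (by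
    linear_combination sigi ^ 2 * h₁ + (sig * sigi + 1) * hsigi)
  have hκ₂ : IsUnit κ₂ := IsUnit.of_mul_eq_one (κ₂ ^ 2 * l4 ^ 2 * lami ^ 2) (by
    linear_combination lami ^ 2 * h₂ + (lam * lami + 1) * hlami)
  have hS : (C (s4 ^ 2) * C (s4i ^ 2) : MvPowerSeries (Fin 3) R) = 1 := by
    rw [← map_mul, ← map_one (C (σ := Fin 3) (R := R))]
    congr 1
    linear_combination (s4 * s4i + 1) * hs4i
  have hL : (C (l4 ^ 2) * C (l4i ^ 2) : MvPowerSeries (Fin 3) R) = 1 := by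
    rw [← map_mul, ← map_one (C (σ := Fin 3) (R := R))]
    congr 1
    linear_combination (l4 * l4i + 1) * hl4i
  -- cube roots
  obtain ⟨u₁, hu3, hu0⟩ := exists_cube_root
    (C (s4i ^ 2) * (C (s4 ^ 2) + C (s2 ^ 2) * X 1 ^ 2 + C (s0 ^ 2) * X 1 ^ 4 +
      C (τ ^ 2) * X 1 ^ 3) : MvPowerSeries (Fin 3) R) (by
    have : constantCoeff (C (s4i ^ 2) * (C (s4 ^ 2) + C (s2 ^ 2) * X 1 ^ 2 + C (s0 ^ 2) * X 1 ^ 4 +
      C (τ ^ 2) * X 1 ^ 3) : MvPowerSeries (Fin 3) R) = s4i ^ 2 * s4 ^ 2 := by simp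
    rw [this]
    linear_combination (s4 * s4i + 1) * hs4i)
  obtain ⟨v₁, hv3, hv0⟩ := exists_cube_root
    (C (l4i ^ 2) * (C (l4 ^ 2) + C (l2 ^ 2) * X 0 ^ 2 + C (l0 ^ 2) * X 0 ^ 4) :
      MvPowerSeries (Fin 3) R) (by
    have : constantCoeff (C (l4i ^ 2) * (C (l4 ^ 2) + C (l2 ^ 2) * X 0 ^ 2 + C (l0 ^ 2) * X 0 ^ 4) :
      MvPowerSeries (Fin 3) R) = l4i ^ 2 * l4 ^ 2 := by simp
    rw [this]
    linear_combination (l4 * l4i + 1) * hl4i)
  -- the substitution a ↦ a u₁, b ↦ b v₁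
  have hψ2 : ∀ j, (2 : ℕ∞) ≤ (fpsi u₁ v₁ j - X j).order := by
    refine forall_fin3 ?_ ?_ ?_
    · rw [show fpsi u₁ v₁ 0 = X 0 * u₁ from rfl]
      have : X 0 * u₁ - X 0 = X 0 * (u₁ - 1) := by ring
      rw [this, ← one_add_one_eq_two]
      exact H6PSInv.le_order_mul' (H6PSInv.one_le_order_X 0)
        (one_le_order_iff_constCoeff_eq_zero.2 (by rw [map_sub, hu0, map_one, sub_self]))
    · rw [show fpsi u₁ v₁ 1 = X 1 * v₁ from rfl]
      have : X 1 * v₁ - X 1 = X 1 * (v₁ - 1) := by ring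
      rw [this, ← one_add_one_eq_two]
      exact H6PSInv.le_order_mul' (H6PSInv.one_le_order_X 1)
        (one_le_order_iff_constCoeff_eq_zero.2 (by rw [map_sub, hv0, map_one, sub_self]))
    · rw [show fpsi u₁ v₁ 2 = X 2 from rfl, sub_self, order_zero]; exact le_top
  have hψs : HasSubst (fpsi u₁ v₁) :=
    hasSubst_of_constantCoeff_zero (H6PSInv.constantCoeff_eq_zero_of_order hψ2)
  have hψbij := H6PSInv.bijective_of_order hψs hψ2
  -- the scaling a ↦ κ₁ a, b ↦ κ₂ b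
  have hρ0 : ∀ j, constantCoeff (frho κ₁ κ₂ j) = 0 := by
    intro j; fin_cases j <;> simp [frho]
  have hρs : HasSubst (frho κ₁ κ₂) := hasSubst_of_constantCoeff_zero hρ0
  have hρbij : Function.Bijective (substAlgHom (R := R) hρs) := by
    refine H6PSInv.bijective_of_order_diag hρs ![κ₁, κ₂, 1] (forall_fin3 hκ₁ hκ₂ isUnit_one) ?_
    refine forall_fin3 ?_ ?_ ?_
    · rw [show frho κ₁ κ₂ 0 = C κ₁ * X 0 from rfl, show ![κ₁, κ₂, 1] 0 = κ₁ from rfl, sub_self,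
        order_zero]; exact le_top
    · rw [show frho κ₁ κ₂ 1 = C κ₂ * X 1 from rfl, show ![κ₁, κ₂, 1] 1 = κ₂ from rfl, sub_self,
        order_zero]; exact le_top
    · rw [show frho κ₁ κ₂ 2 = X 2 from rfl, show ![κ₁, κ₂, 1] 2 = 1 from rfl, map_one, one_mul,
        sub_self, order_zero]; exact le_top
  refine ⟨(AlgEquiv.ofBijective (substAlgHom (R := R) hψs) hψbij).symm.trans
    (AlgEquiv.ofBijective (substAlgHom (R := R) hρs) hρbij), ?_⟩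
  have hG : (AlgEquiv.ofBijective (substAlgHom (R := R) hψs) hψbij).symm
      (X 2 ^ 2 + C (s0 ^ 2) * X 0 ^ 3 * X 1 ^ 4 + C (s2 ^ 2) * X 0 ^ 3 * X 1 ^ 2 +
          C (s4 ^ 2) * X 0 ^ 3 + C (l0 ^ 2) * X 0 ^ 4 * X 1 ^ 3 + C (l2 ^ 2) * X 0 ^ 2 * X 1 ^ 3 +
          C (l4 ^ 2) * X 1 ^ 3 + C (τ ^ 2) * X 0 ^ 3 * X 1 ^ 3 : MvPowerSeries (Fin 3) R) =
      X 2 ^ 2 + C (s4 ^ 2) * X 0 ^ 3 + C (l4 ^ 2) * X 1 ^ 3 := by
    rw [AlgEquiv.symm_apply_eq]
    show _ = substAlgHom hψs (X 2 ^ 2 + C (s4 ^ 2) * X 0 ^ 3 + C (l4 ^ 2) * X 1 ^ 3)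
    have e1 : substAlgHom hψs (X 2 ^ 2 + C (s4 ^ 2) * X 0 ^ 3 + C (l4 ^ 2) * X 1 ^ 3 :
        MvPowerSeries (Fin 3) R) =
        X 2 ^ 2 + C (s4 ^ 2) * (X 0 * u₁) ^ 3 + C (l4 ^ 2) * (X 1 * v₁) ^ 3 := by
      simp only [map_add, map_mul, map_pow, substAlgHom_X, H6PSInv.substAlgHom_C']
      rfl
    rw [e1]
    linear_combination (-(C (s4 ^ 2) * X 0 ^ 3)) * hu3 + (-(C (l4 ^ 2) * X 1 ^ 3)) * hv3 +
      (-(X 0 ^ 3 * (C (s4 ^ 2) + C (s2 ^ 2) * X 1 ^ 2 + C (s0 ^ 2) * X 1 ^ 4 +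
        C (τ ^ 2) * X 1 ^ 3))) * hS +
      (-(X 1 ^ 3 * (C (l4 ^ 2) + C (l2 ^ 2) * X 0 ^ 2 + C (l0 ^ 2) * X 0 ^ 4))) * hL
  rw [AlgEquiv.trans_apply, hG]
  show substAlgHom hρs (X 2 ^ 2 + C (s4 ^ 2) * X 0 ^ 3 + C (l4 ^ 2) * X 1 ^ 3) = _
  have e2 : substAlgHom hρs (X 2 ^ 2 + C (s4 ^ 2) * X 0 ^ 3 + C (l4 ^ 2) * X 1 ^ 3 :
      MvPowerSeries (Fin 3) R) =
      X 2 ^ 2 + C (s4 ^ 2) * (C κ₁ * X 0) ^ 3 + C (l4 ^ 2) * (C κ₂ * X 1) ^ 3 := by
    simp only [map_add, map_mul, map_pow, substAlgHom_X, H6PSInv.substAlgHom_C']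
    rfl
  rw [e2, ← h₁, ← h₂]
  simp only [map_mul, map_pow]
  ring

end Groth.Agent.S13127
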