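import Groth.Statements.S13128
import Groth.Agent.Lib.helper6.PSInv

set_option autoImplicit false
universe u
open KumFam

namespace Groth.Agent.S13128


open MvPowerSeries

theorem key_identity {A : Type*} [CommRing A] (h2 : (2 : A) = 0)
    (a b c T Ti l2 l4 s2 s4 al be al' be' : A) (hT : T * Ti = 1) (hal : al' ^ 2 = al)
    (hbe : be' ^ 2 = be) :
    (c + ((l4 * be' * a ^ 2 + l2 * be' * a + s4 * al' * b ^ 2 + s2 * al' * b) +
        (l4 * a ^ 2 + l2 * a) * (s4 * b ^ 2 + s2 * b) * Ti)) ^ 2 +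
      (T * a + (l4 * a ^ 2 + l2 * a) ^ 2 * Ti) * (T * b + (s4 * b ^ 2 + s2 * b) ^ 2 * Ti) =
    c ^ 2 + T ^ 2 * a * b + (s4 ^ 2 * b ^ 4 + s2 ^ 2 * b ^ 2) * a +
      (l4 ^ 2 * a ^ 4 + l2 ^ 2 * a ^ 2) * b + l4 ^ 2 * be * a ^ 4 + l2 ^ 2 * be * a ^ 2 +
      s4 ^ 2 * al * b ^ 4 + s2 ^ 2 * al * b ^ 2 := by
  linear_combination (l4 ^ 2 * a ^ 4 + l2 ^ 2 * a ^ 2) * hbe +
    (s4 ^ 2 * b ^ 4 + s2 ^ 2 * b ^ 2) * hal +
    (a * (s4 * b ^ 2 + s2 * b) ^ 2 + b * (l4 * a ^ 2 + l2 * a) ^ 2) * hT +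
    (c * (l4 * be' * a ^ 2 + l2 * be' * a + s4 * al' * b ^ 2 + s2 * al' * b) +
      c * ((l4 * a ^ 2 + l2 * a) * (s4 * b ^ 2 + s2 * b) * Ti) +
      (l4 * be' * a ^ 2 + l2 * be' * a + s4 * al' * b ^ 2 + s2 * al' * b) *
        ((l4 * a ^ 2 + l2 * a) * (s4 * b ^ 2 + s2 * b) * Ti) +
      (l4 * be' * a ^ 2) * (l2 * be' * a) + (l4 * be' * a ^ 2) * (s4 * al' * b ^ 2) +
      (l4 * be' * a ^ 2) * (s2 * al' * b) + (l2 * be' * a) * (s4 * al' * b ^ 2) +
      (l2 * be' * a) * (s2 * al' * b) + (s4 * al' * b ^ 2) * (s2 * al' * b) +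
      ((l4 * a ^ 2 + l2 * a) * (s4 * b ^ 2 + s2 * b) * Ti) ^ 2 +
      a * s4 * s2 * b ^ 3 + b * l4 * l2 * a ^ 3) * h2

noncomputable def fab {R : Type u} [CommRing R] (τ τi l2 l4 s2 s4 : R) :
    Fin 3 → MvPowerSeries (Fin 3) R :=
  ![C τ * X 0 + (C l4 * X 0 ^ 2 + C l2 * X 0) ^ 2 * C τi,
    C τ * X 1 + (C s4 * X 1 ^ 2 + C s2 * X 1) ^ 2 * C τi, X 2]

noncomputable def fc {R : Type u} [CommRing R] (rr : MvPowerSeries (Fin 3) R) :
    Fin 3 → MvPowerSeries (Fin 3) R :=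
  ![X 0, X 1, X 2 + rr]

theorem fc_zero {R : Type u} [CommRing R] (rr : MvPowerSeries (Fin 3) R) : fc rr 0 = X 0 := rfl
theorem fc_one {R : Type u} [CommRing R] (rr : MvPowerSeries (Fin 3) R) : fc rr 1 = X 1 := rfl
theorem fc_two {R : Type u} [CommRing R] (rr : MvPowerSeries (Fin 3) R) :
    fc rr 2 = X 2 + rr := rfl

theorem shift_bijective {R : Type u} [CommRing R] (rr : MvPowerSeries (Fin 3) R)
    (hs : HasSubst (fc rr)) (hfix : substAlgHom hs rr = rr)
    (h2 : (2 : MvPowerSeries (Fin 3) R) = 0) :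
    Function.Bijective (substAlgHom (R := R) hs) := by
  have hinv : Function.Involutive (substAlgHom (R := R) hs) := by
    intro x
    rw [substAlgHom_comp_substAlgHom_apply hs hs, substAlgHom_apply]
    have : (fun s => substAlgHom hs (fc rr s)) = X := by
      funext s
      fin_cases s
      · show substAlgHom hs (X 0) = X 0
        rw [substAlgHom_X, fc_zero]
      · show substAlgHom hs (X 1) = X 1
        rw [substAlgHom_X, fc_one]
      · show substAlgHom hs (X 2 + rr) = X 2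
        rw [map_add, substAlgHom_X, fc_two, hfix]
        linear_combination rr * h2
    rw [this, subst_self]; rfl
  exact hinv.bijective

theorem forall_fin3 {P : Fin 3 → Prop} (h0 : P 0) (h1 : P 1) (h2 : P 2) : ∀ j, P j := by
  intro j; fin_cases j
  · exact h0
  · exact h1
  · exact h2

noncomputable def rr {R : Type u} [CommRing R] (τi l2 l4 s2 s4 α' β' : R) :
    MvPowerSeries (Fin 3) R :=
  (C l4 * C β' * X 0 ^ 2 + C l2 * C β' * X 0 + C s4 * C α' * X 1 ^ 2 + C s2 * C α' * X 1) +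
    (C l4 * X 0 ^ 2 + C l2 * X 0) * (C s4 * X 1 ^ 2 + C s2 * X 1) * C τi


open MvPowerSeries in
/-- Let R be a commutative ring of characteristic 2, l0, l2, l4, s0, s2, s4, τ ∈ R with τ a unit, and α,
β ∈ R with l4² α⁴ + l2² α² + τ² α + l0² = 0 and s4² β⁴ + s2² β² + τ² β + s0² = 0. In characteristic
2 these relations give τ² α = (l4 α² + l2 α + l0)² and τ² β = (s4 β² + s2 β + s0)², so α = α′² and β
= β′² with α′ = (l4 α² + l2 α + l0)/τ and β′ = (s4 β² + s2 β + s0)/τ. In R[[a, b, c]] (a = X 0, b =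
X 1, c = X 2) put h = c² + τ² a b + (s4² b⁴ + s2² b²) a + (l4² a⁴ + l2² a²) b + l4² β a⁴ + l2² β a²
+ s4² α b⁴ + s2² α b²; this is the chart equation c² + τ² a b + (s4² b⁴ + s2² b² + s0²) a + (l4² a⁴
+ l2² a² + l0²) b after the substitution a ↦ a + α, b ↦ b + β, c ↦ c + τ α′ β′, which moves the
point (α, β, τ α′ β′) of that surface, where all partial derivatives vanish, to the origin. Then
some R-algebra automorphism of R[[a, b, c]] maps h to c² + a b; consequently R[[a, b, c]]/(h) ≅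
R[[a, b, c]]/(c² + a b), the completed local ring of an ordinary double point, constant over R. (The
published statement translates only a and b, so that its h carries the additional constant term τ² α
β; with that term h is a unit of R[[a, b, c]] whenever τ α β is a unit, for instance c² + a b + 1
over the field with two elements with l0 = s0 = τ = α = β = 1 and l2 = l4 = s2 = s4 = 0, and no ring
automorphism carries a unit to c² + a b. The published proof begins by shifting c by a polynomial in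
a, b whose constant term is τ α′ β′, a substitution of the polynomial ring which removes the term τ²
α β, and the rest of its argument takes place in R[[a, b, c]]; this row states the result for the
fully translated equation, which is what that argument proves.) -/
theorem rr_fix {R : Type u} [CommRing R] (τi l2 l4 s2 s4 α' β' : R)
    (q : MvPowerSeries (Fin 3) R) (hs : HasSubst (fc q)) :
    substAlgHom hs (rr τi l2 l4 s2 s4 α' β') = rr τi l2 l4 s2 s4 α' β' := by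
  unfold rr
  simp only [map_add, map_mul, map_pow, substAlgHom_X, H6PSInv.substAlgHom_C', fc_zero, fc_one]

theorem result (R : Type u) [CommRing R] [CharP R 2]
    (l0 l2 l4 s0 s2 s4 τ α β : R) (hτ : IsUnit τ)
    (hα : l4 ^ 2 * α ^ 4 + l2 ^ 2 * α ^ 2 + τ ^ 2 * α + l0 ^ 2 = 0)
    (hβ : s4 ^ 2 * β ^ 4 + s2 ^ 2 * β ^ 2 + τ ^ 2 * β + s0 ^ 2 = 0) :
    ∃ φ : MvPowerSeries (Fin 3) R ≃ₐ[R] MvPowerSeries (Fin 3) R,
      φ ((X 2 ^ 2 + C (τ ^ 2) * X 0 * X 1 + (C (s4 ^ 2) * X 1 ^ 4 + C (s2 ^ 2) * X 1 ^ 2) * X 0 +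
          (C (l4 ^ 2) * X 0 ^ 4 + C (l2 ^ 2) * X 0 ^ 2) * X 1 + C (l4 ^ 2 * β) * X 0 ^ 4 +
          C (l2 ^ 2 * β) * X 0 ^ 2 + C (s4 ^ 2 * α) * X 1 ^ 4 + C (s2 ^ 2 * α) * X 1 ^ 2 :
          MvPowerSeries (Fin 3) R)) =
        (X 2 ^ 2 + X 0 * X 1 : MvPowerSeries (Fin 3) R) := by
  obtain ⟨τi, hτi⟩ := hτ.exists_right_inv
  have h2R : (2 : R) = 0 := CharTwo.two_eq_zero
  obtain ⟨α', hα'⟩ : ∃ α' : R, α' ^ 2 = α := ⟨(l4 * α ^ 2 + l2 * α + l0) * τi, by
    linear_combination τi ^ 2 * hα +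
      ((l4 * α ^ 2 * (l2 * α) + l4 * α ^ 2 * l0 + l2 * α * l0) * τi ^ 2 - α) * h2R +
      (-α * (τ * τi + 1)) * hτi⟩
  obtain ⟨β', hβ'⟩ : ∃ β' : R, β' ^ 2 = β := ⟨(s4 * β ^ 2 + s2 * β + s0) * τi, by
    linear_combination τi ^ 2 * hβ +
      ((s4 * β ^ 2 * (s2 * β) + s4 * β ^ 2 * s0 + s2 * β * s0) * τi ^ 2 - β) * h2R +
      (-β * (τ * τi + 1)) * hτi⟩
  have h2 : (2 : MvPowerSeries (Fin 3) R) = 0 := by
    have h := congrArg (C (σ := Fin 3)) h2R
    rw [map_zero] at h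
    rw [← h]; exact (map_ofNat (C (σ := Fin 3) (R := R)) 2).symm
  have hT : (C τ * C τi : MvPowerSeries (Fin 3) R) = 1 := by rw [← map_mul, hτi, map_one]
  have hal : (C α' : MvPowerSeries (Fin 3) R) ^ 2 = C α := by rw [← map_pow, hα']
  have hbe : (C β' : MvPowerSeries (Fin 3) R) ^ 2 = C β := by rw [← map_pow, hβ']
  -- the substitution in `a` and `b`
  have hab0 : ∀ j, constantCoeff (fab τ τi l2 l4 s2 s4 j) = 0 := by
    intro j; fin_cases j <;> simp [fab]
  have habs : HasSubst (fab τ τi l2 l4 s2 s4) := hasSubst_of_constantCoeff_zero hab0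
  have habbij : Function.Bijective (substAlgHom (R := R) habs) := by
    refine H6PSInv.bijective_of_order_diag habs ![τ, τ, 1] ?_ ?_
    · exact forall_fin3 hτ hτ isUnit_one
    · refine forall_fin3 ?_ ?_ ?_
      · rw [show fab τ τi l2 l4 s2 s4 0 = C τ * X 0 + (C l4 * X 0 ^ 2 + C l2 * X 0) ^ 2 * C τi
          from rfl, show ![τ, τ, 1] 0 = τ from rfl]
        rw [add_sub_cancel_left]
        exact le_trans (by simp) (H6PSInv.le_order_mul'
          (le_order_pow_of_constantCoeff_eq_zero 2 (by simp))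
          (zero_le (a := (C τi : MvPowerSeries (Fin 3) R).order)))
      · rw [show fab τ τi l2 l4 s2 s4 1 = C τ * X 1 + (C s4 * X 1 ^ 2 + C s2 * X 1) ^ 2 * C τi
          from rfl, show ![τ, τ, 1] 1 = τ from rfl]
        rw [add_sub_cancel_left]
        exact le_trans (by simp) (H6PSInv.le_order_mul'
          (le_order_pow_of_constantCoeff_eq_zero 2 (by simp))
          (zero_le (a := (C τi : MvPowerSeries (Fin 3) R).order)))
      · show (2 : ℕ∞) ≤ (X 2 - C 1 * X 2 : MvPowerSeries (Fin 3) R).order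
        simp
  -- the shift of `c`
  have hc0 : ∀ j, constantCoeff (fc (rr τi l2 l4 s2 s4 α' β') j) = 0 := by
    intro j; fin_cases j <;> simp [fc, rr]
  have hcs : HasSubst (fc (rr τi l2 l4 s2 s4 α' β')) := hasSubst_of_constantCoeff_zero hc0
  have hfix : substAlgHom hcs (rr τi l2 l4 s2 s4 α' β') = rr τi l2 l4 s2 s4 α' β' :=
    rr_fix τi l2 l4 s2 s4 α' β' _ hcs
  have hcbij := shift_bijective _ hcs hfix h2
  refine ⟨((AlgEquiv.ofBijective (substAlgHom (R := R) habs) habbij).trans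
    (AlgEquiv.ofBijective (substAlgHom (R := R) hcs) hcbij)).symm, ?_⟩
  rw [AlgEquiv.symm_apply_eq]
  show _ = substAlgHom hcs (substAlgHom habs (X 2 ^ 2 + X 0 * X 1))
  have e1 : substAlgHom habs (X 2 ^ 2 + X 0 * X 1 : MvPowerSeries (Fin 3) R) =
      X 2 ^ 2 + (C τ * X 0 + (C l4 * X 0 ^ 2 + C l2 * X 0) ^ 2 * C τi) *
        (C τ * X 1 + (C s4 * X 1 ^ 2 + C s2 * X 1) ^ 2 * C τi) := by
    rw [map_add, map_pow, map_mul, substAlgHom_X, substAlgHom_X, substAlgHom_X]; rfl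
  rw [e1]
  have e2 : substAlgHom hcs (X 2 ^ 2 + (C τ * X 0 + (C l4 * X 0 ^ 2 + C l2 * X 0) ^ 2 * C τi) *
        (C τ * X 1 + (C s4 * X 1 ^ 2 + C s2 * X 1) ^ 2 * C τi) : MvPowerSeries (Fin 3) R) =
      (X 2 + rr τi l2 l4 s2 s4 α' β') ^ 2 +
        (C τ * X 0 + (C l4 * X 0 ^ 2 + C l2 * X 0) ^ 2 * C τi) *
        (C τ * X 1 + (C s4 * X 1 ^ 2 + C s2 * X 1) ^ 2 * C τi) := by
    simp only [map_add, map_mul, map_pow, substAlgHom_X, H6PSInv.substAlgHom_C', fc_zero, fc_one,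
      fc_two]
  rw [e2]
  simp only [map_mul, map_pow]
  unfold rr
  linear_combination (-1 : MvPowerSeries (Fin 3) R) *
    key_identity h2 (X 0) (X 1) (X 2) (C τ) (C τi) (C l2) (C l4) (C s2) (C s4) (C α) (C β)
      (C α') (C β') hT hal hbe

end Groth.Agent.S13128
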