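import Groth.Statements.S13130
import Mathlib

set_option autoImplicit false
universe u v
open KumFam

namespace Groth.Agent.S13130

/-- Let R be a nontrivial commutative ring and M a commutative group, with group algebra R[M], the
coordinate ring of the diagonalizable group scheme D(M) over Spec R. Then D(M) is integral over Spec
R, i.e. R[M] is an integral R-algebra, if and only if M is a torsion group. (The published statement
is over an arbitrary base scheme; the question is local and this row is the affine form, with R
nontrivial so that the elements of M are R-linearly independent.) -/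
theorem result (R : Type u) [CommRing R] [Nontrivial R]
    (M : Type v) [CommGroup M] :
    Algebra.IsIntegral R (MonoidAlgebra R M) ↔ IsMulTorsion M := by
  classical
  constructor
  · intro h m
    obtain ⟨p, hp, hpe⟩ := h.isIntegral (MonoidAlgebra.of R M m)
    by_contra hm
    have hinj : Function.Injective (fun n : ℕ => m ^ n) :=
      injective_pow_iff_not_isOfFinOrder.2 hm
    rw [Polynomial.eval₂_eq_sum_range] at hpe
    have key : ∀ i : ℕ, algebraMap R (MonoidAlgebra R M) (p.coeff i) * (MonoidAlgebra.of R M m) ^ i =
        MonoidAlgebra.single (m ^ i) (p.coeff i) := by
      intro i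
      rw [MonoidAlgebra.coe_algebraMap, MonoidAlgebra.of_apply, MonoidAlgebra.single_pow,
        Function.comp_apply, MonoidAlgebra.single_mul_single, one_mul, one_pow, mul_one]
      rfl
    have h0 := congrArg (fun f : MonoidAlgebra R M => f.coeff (m ^ p.natDegree)) hpe
    simp only [key, MonoidAlgebra.coeff_sum, MonoidAlgebra.coeff_zero, Finsupp.coe_finset_sum,
      Finset.sum_apply, Finsupp.coe_zero, Pi.zero_apply] at h0
    rw [Finset.sum_eq_single p.natDegree] at h0
    · rw [MonoidAlgebra.coeff_single, Finsupp.single_eq_same, Polynomial.coeff_natDegree,
        hp.leadingCoeff] at h0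
      exact one_ne_zero h0
    · intro i _ hi
      rw [MonoidAlgebra.coeff_single, Finsupp.single_apply, if_neg]
      exact fun hh => hi (hinj hh)
    · intro hh
      exact absurd (Finset.mem_range.2 (Nat.lt_succ_self _)) hh
  · intro h
    refine ⟨fun x => ?_⟩
    induction x using MonoidAlgebra.induction_on with
    | of m =>
      have hm := h m
      refine IsIntegral.of_pow (orderOf_pos_iff.2 hm) ?_
      rw [← map_pow, pow_orderOf_eq_one, map_one]
      exact isIntegral_one
    | add x y hx hy => exact hx.add hy
    | smul r x hx => exact hx.smul r

end Groth.Agent.S13130
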