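import Groth.Statements.S13131
import Mathlib

set_option autoImplicit false
universe u
open CategoryTheory CategoryTheory.Limits AlgebraicGeometry
open KumFam

namespace Groth.Agent.S13131

/-- Let S be a scheme, M a set and p : T → S a scheme over S. The S-morphisms T → ∐_{m ∈ M} S (the
constant S-scheme on M, with its structure map the codiagonal) are in bijection with the locally
constant maps T → M, a morphism f corresponding to the function sending t to the index of the copy
of S containing f(t). (In the published statement M is a group and ∐_M S the constant group scheme;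
the group structures play no role in this description of T-points.) -/
theorem result (S : Scheme.{u}) (M : Type u)
    (T : Scheme.{u}) (p : T ⟶ S) :
    ∃ e : {f : T ⟶ ∐ (fun _ : M => S) // f ≫ Sigma.desc (fun _ : M => 𝟙 S) = p} ≃
        LocallyConstant T M,
      ∀ (f : {f : T ⟶ ∐ (fun _ : M => S) // f ≫ Sigma.desc (fun _ : M => 𝟙 S) = p}) (t : T),
        e f t = ((sigmaMk (fun _ : M => S)).symm (f.1.base t)).1 := by
  classical
  -- points of the coproduct
  have hpt : ∀ (f : T ⟶ ∐ (fun _ : M => S)) (t : T),
      f.base t = (Sigma.ι (fun _ : M => S)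
        ((sigmaMk (fun _ : M => S)).symm (f.base t)).1).base
        ((sigmaMk (fun _ : M => S)).symm (f.base t)).2 := by
    intro f t
    have h := sigmaMk_mk (fun _ : M => S) ((sigmaMk (fun _ : M => S)).symm (f.base t)).1
      ((sigmaMk (fun _ : M => S)).symm (f.base t)).2
    rw [Sigma.eta, Homeomorph.apply_symm_apply] at h
    exact h
  have hlc : ∀ f : T ⟶ ∐ (fun _ : M => S),
      IsLocallyConstant (fun t : T => ((sigmaMk (fun _ : M => S)).symm (f.base t)).1) := by
    intro f s
    have h1 : IsOpen (Sigma.fst ⁻¹' s : Set (Σ _ : M, S)) := isOpen_sigma_fst_preimage s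
    have h2 : Continuous (fun t : T => (sigmaMk (fun _ : M => S)).symm (f.base t)) :=
      (sigmaMk (fun _ : M => S)).symm.continuous.comp f.continuous
    exact h1.preimage h2
  -- the open cover attached to a locally constant map
  let U : LocallyConstant T M → M → T.Opens := fun c m =>
    ⟨c ⁻¹' {m}, c.isLocallyConstant.isOpen_fiber m⟩
  have hU : ∀ c : LocallyConstant T M, TopologicalSpace.IsOpenCover (U c) := by
    intro c
    refine TopologicalSpace.IsOpenCover.mk (eq_top_iff.2 fun t _ => ?_)
    exact TopologicalSpace.Opens.mem_iSup.2 ⟨c t, rfl⟩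
  have hUι : ∀ (c : LocallyConstant T M) (m : M) (a : (U c m : Scheme)),
      c ((U c m).ι.base a) = m := fun c m a => a.2
  have compat : ∀ (c : LocallyConstant T M) (m m' : M),
      pullback.fst ((T.openCoverOfIsOpenCover (U c) (hU c)).f m)
          ((T.openCoverOfIsOpenCover (U c) (hU c)).f m') ≫
        ((U c m).ι ≫ p ≫ Sigma.ι (fun _ : M => S) m) =
      pullback.snd ((T.openCoverOfIsOpenCover (U c) (hU c)).f m)
          ((T.openCoverOfIsOpenCover (U c) (hU c)).f m') ≫
        ((U c m').ι ≫ p ≫ Sigma.ι (fun _ : M => S) m') := by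
    intro c m m'
    by_cases h : m = m'
    · subst h
      have := pullback.condition (f := (T.openCoverOfIsOpenCover (U c) (hU c)).f m)
        (g := (T.openCoverOfIsOpenCover (U c) (hU c)).f m)
      simp only [Scheme.openCoverOfIsOpenCover_f] at this ⊢
      rw [← Category.assoc, this, Category.assoc]
    · have : IsEmpty ↥(pullback ((T.openCoverOfIsOpenCover (U c) (hU c)).f m)
          ((T.openCoverOfIsOpenCover (U c) (hU c)).f m')) := by
        refine ⟨fun z => h ?_⟩
        have hc := pullback.condition (f := (T.openCoverOfIsOpenCover (U c) (hU c)).f m)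
          (g := (T.openCoverOfIsOpenCover (U c) (hU c)).f m')
        have hz := congrArg (fun φ => φ.base z) hc
        simp only [Scheme.openCoverOfIsOpenCover_f, Scheme.Hom.comp_base,
          TopCat.comp_app] at hz
        exact ((hUι c m _).symm.trans (congrArg c hz)).trans (hUι c m' _)
      exact isInitialOfIsEmpty.hom_ext _ _
  let fc : LocallyConstant T M → (T ⟶ ∐ (fun _ : M => S)) := fun c =>
    (T.openCoverOfIsOpenCover (U c) (hU c)).glueMorphisms
      (fun m => (U c m).ι ≫ p ≫ Sigma.ι (fun _ : M => S) m) (compat c)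
  have hfcι : ∀ (c : LocallyConstant T M) (m : M),
      (U c m).ι ≫ fc c = (U c m).ι ≫ p ≫ Sigma.ι (fun _ : M => S) m := by
    intro c m
    exact Scheme.Cover.ι_glueMorphisms (T.openCoverOfIsOpenCover (U c) (hU c)) _ (compat c) m
  have hfc : ∀ c : LocallyConstant T M, fc c ≫ Sigma.desc (fun _ : M => 𝟙 S) = p := by
    intro c
    refine Scheme.Cover.hom_ext (T.openCoverOfIsOpenCover (U c) (hU c)) _ _ fun m => ?_
    show (U c m).ι ≫ fc c ≫ Sigma.desc (fun _ : M => 𝟙 S) = (U c m).ι ≫ p
    rw [← Category.assoc, hfcι, Category.assoc, Category.assoc, Sigma.ι_desc, Category.comp_id]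
  refine ⟨{ toFun := fun f => ⟨fun t => ((sigmaMk (fun _ : M => S)).symm (f.1.base t)).1,
              hlc f.1⟩
            invFun := fun c => ⟨fc c, hfc c⟩
            left_inv := ?_
            right_inv := ?_ }, fun f t => rfl⟩
  · rintro ⟨f, hf⟩
    apply Subtype.ext
    show fc ⟨fun t => ((sigmaMk (fun _ : M => S)).symm (f.base t)).1, hlc f⟩ = f
    set c : LocallyConstant T M :=
      ⟨fun t => ((sigmaMk (fun _ : M => S)).symm (f.base t)).1, hlc f⟩ with hc
    refine Scheme.Cover.hom_ext (T.openCoverOfIsOpenCover (U c) (hU c)) _ _ fun m => ?_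
    show (U c m).ι ≫ fc c = (U c m).ι ≫ f
    rw [hfcι]
    have hrange : Set.range ((U c m).ι ≫ f).base ⊆
        Set.range (Sigma.ι (fun _ : M => S) m).base := by
      rintro _ ⟨a, rfl⟩
      have h1 := hpt f ((U c m).ι.base a)
      have h2 : ((sigmaMk (fun _ : M => S)).symm (f.base ((U c m).ι.base a))).1 = m :=
        hUι c m a
      rw [h2] at h1
      exact ⟨_, h1.symm⟩
    have hl := IsOpenImmersion.lift_fac (Sigma.ι (fun _ : M => S) m) ((U c m).ι ≫ f) hrange
    have hl2 : IsOpenImmersion.lift (Sigma.ι (fun _ : M => S) m) ((U c m).ι ≫ f) hrange =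
        (U c m).ι ≫ p := by
      have := congrArg (fun φ => φ ≫ Sigma.desc (fun _ : M => 𝟙 S)) hl
      simp only [Category.assoc, Sigma.ι_desc, Category.comp_id, hf] at this
      exact this
    rw [← hl, hl2, Category.assoc]
  · intro c
    apply LocallyConstant.ext
    intro t
    show ((sigmaMk (fun _ : M => S)).symm ((fc c).base t)).1 = c t
    have ht : t ∈ U c (c t) := rfl
    have h1 : (fc c).base t = (Sigma.ι (fun _ : M => S) (c t)).base (p.base t) := by
      have := congrArg (fun φ => φ.base (⟨t, ht⟩ : (U c (c t) : Scheme))) (hfcι c (c t))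
      simp only [Scheme.Hom.comp_base, TopCat.comp_app] at this
      exact this
    rw [h1, ← sigmaMk_mk (fun _ : M => S) (c t) (p.base t), Homeomorph.symm_apply_apply]

end Groth.Agent.S13131
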