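import Groth.Statements.S13141
import Mathlib
-- import your own Groth.Agent.* helpers here

set_option autoImplicit false
universe u v w w'
open scoped TensorProduct
open GrpAlg

namespace Groth.Agent.S13141



/-- Let G be a finite group, R a commutative ring with |G| invertible in R, M a projective R-module with
an R-linear G-action and S an R-algebra. The natural map M^G ⊗_R S → M ⊗_R S is injective and its
image is the submodule of G-invariants of M ⊗_R S (G acting on the first factor); that is, M^G ⊗_R S
→ (M ⊗_R S)^G is bijective. -/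
theorem result
    (R : Type u) [CommRing R] (G : Type v) [Group G] [Finite G] (hG : IsUnit ((Nat.card G : ℕ) : R))
    (M : Type w) [AddCommGroup M] [Module R M] [Module.Projective R M] (ρ : Representation R G M)
    (S : Type w') [CommRing S] [Algebra R S] :
    Function.Injective (TensorProduct.map ρ.invariants.subtype (LinearMap.id : S →ₗ[R] S)) ∧
    LinearMap.range (TensorProduct.map ρ.invariants.subtype (LinearMap.id : S →ₗ[R] S)) =
      ⨅ g : G, LinearMap.eqLocus (LinearMap.rTensor S (ρ g)) LinearMap.id := by
  classical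
  haveI : Fintype G := Fintype.ofFinite G
  obtain ⟨c, hc⟩ : ∃ c : R, c * ((Nat.card G : ℕ) : R) = 1 := by
    obtain ⟨u, hu⟩ := hG
    exact ⟨((u⁻¹ : Rˣ) : R), by rw [← hu]; exact u.inv_mul⟩
  have havg_apply : ∀ m, (c • ∑ g : G, ρ g : M →ₗ[R] M) m = c • ∑ g : G, ρ g m := by
    intro m
    rw [LinearMap.smul_apply, LinearMap.sum_apply]
  have hinv : ∀ (h : G) (m : M), ρ h ((c • ∑ g : G, ρ g : M →ₗ[R] M) m)
      = (c • ∑ g : G, ρ g : M →ₗ[R] M) m := by
    intro h m
    rw [havg_apply, map_smul, map_sum]
    congr 1
    calc ∑ g : G, ρ h (ρ g m) = ∑ g : G, ρ (h * g) m := by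
          refine Finset.sum_congr rfl fun g _ => ?_
          rw [map_mul]; rfl
      _ = ∑ g : G, ρ g m := Equiv.sum_comp (Equiv.mulLeft h) (fun g => ρ g m)
  have hfix : ∀ x ∈ ρ.invariants, (c • ∑ g : G, ρ g : M →ₗ[R] M) x = x := by
    intro x hx
    rw [havg_apply]
    have hx' : ∀ g : G, ρ g x = x := (Representation.mem_invariants ρ x).mp hx
    simp only [hx', Finset.sum_const, Finset.card_univ, ← Nat.card_eq_fintype_card]
    rw [← Nat.cast_smul_eq_nsmul R, smul_smul, hc, one_smul]
  let e' : M →ₗ[R] ρ.invariants := LinearMap.codRestrict ρ.invariants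
    (c • ∑ g : G, ρ g : M →ₗ[R] M)
    (fun m => (Representation.mem_invariants ρ _).mpr (fun g => hinv g m))
  have he'ι : e' ∘ₗ ρ.invariants.subtype = LinearMap.id := by
    apply LinearMap.ext
    intro x
    apply Subtype.ext
    exact hfix x.1 x.2
  have hιe' : ρ.invariants.subtype ∘ₗ e' = (c • ∑ g : G, ρ g : M →ₗ[R] M) := by
    apply LinearMap.ext
    intro m
    rfl
  have hmapeq : TensorProduct.map ρ.invariants.subtype (LinearMap.id : S →ₗ[R] S)
      = LinearMap.rTensor S ρ.invariants.subtype := rfl
  rw [hmapeq]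
  have hleft : (LinearMap.rTensor S e') ∘ₗ (LinearMap.rTensor S ρ.invariants.subtype)
      = LinearMap.id := by
    rw [← LinearMap.rTensor_comp, he'ι, LinearMap.rTensor_id]
  have havgT : LinearMap.rTensor S (c • ∑ g : G, ρ g : M →ₗ[R] M)
      = c • ∑ g : G, LinearMap.rTensor S (ρ g) := by
    apply TensorProduct.ext'
    intro m s
    rw [LinearMap.rTensor_tmul, havg_apply, ← TensorProduct.smul_tmul', TensorProduct.sum_tmul,
      LinearMap.smul_apply, LinearMap.sum_apply]
    simp only [LinearMap.rTensor_tmul]
  constructor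
  · exact Function.LeftInverse.injective (g := LinearMap.rTensor S e')
      (fun z => LinearMap.congr_fun hleft z)
  · ext y
    simp only [LinearMap.mem_range, Submodule.mem_iInf, LinearMap.mem_eqLocus, LinearMap.id_apply]
    constructor
    · rintro ⟨z, rfl⟩ g
      have hg : (ρ g) ∘ₗ ρ.invariants.subtype = ρ.invariants.subtype := by
        apply LinearMap.ext
        intro x
        exact (Representation.mem_invariants ρ x.1).mp x.2 g
      rw [← LinearMap.comp_apply, ← LinearMap.rTensor_comp, hg]
    · intro hy
      refine ⟨LinearMap.rTensor S e' y, ?_⟩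
      rw [← LinearMap.comp_apply, ← LinearMap.rTensor_comp, hιe', havgT, LinearMap.smul_apply,
        LinearMap.sum_apply]
      simp only [hy, Finset.sum_const, Finset.card_univ, ← Nat.card_eq_fintype_card]
      rw [← Nat.cast_smul_eq_nsmul R, smul_smul, hc, one_smul]

end Groth.Agent.S13141
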