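import Groth.Statements.S13142
import Mathlib
-- import your own Groth.Agent.* helpers here

set_option autoImplicit false
universe u v
open GrpAlg

namespace Groth.Agent.S13142



/-- Let G be a finite group and R a commutative ring with |G| invertible in R, acting on R[x_1, …, x_n]
by R-algebra automorphisms. The invariant subring R[x_1, …, x_n]^G is a flat R-module (so the
quotient of affine n-space over R by G is flat over R). -/
theorem result
    (R : Type u) [CommRing R] (G : Type v) [Group G] [Finite G] (hG : IsUnit ((Nat.card G : ℕ) : R))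
    (n : ℕ) (ρ : G →* (MvPolynomial (Fin n) R ≃ₐ[R] MvPolynomial (Fin n) R)) :
    Module.Flat R ↥(⨅ g : G, LinearMap.eqLocus (ρ g).toLinearMap (LinearMap.id : MvPolynomial (Fin n) R →ₗ[R] MvPolynomial (Fin n) R)) := by
  classical
  haveI : Fintype G := Fintype.ofFinite G
  obtain ⟨c, hc⟩ : ∃ c : R, c * ((Nat.card G : ℕ) : R) = 1 := by
    obtain ⟨u, hu⟩ := hG
    exact ⟨((u⁻¹ : Rˣ) : R), by rw [← hu]; exact u.inv_mul⟩
  have havg_apply : ∀ m, (c • ∑ g : G, (ρ g).toLinearMap :
      MvPolynomial (Fin n) R →ₗ[R] MvPolynomial (Fin n) R) m = c • ∑ g : G, ρ g m := by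
    intro m
    rw [LinearMap.smul_apply, LinearMap.sum_apply]
    rfl
  have hinv : ∀ (h : G) (m : MvPolynomial (Fin n) R),
      ρ h ((c • ∑ g : G, (ρ g).toLinearMap :
        MvPolynomial (Fin n) R →ₗ[R] MvPolynomial (Fin n) R) m)
      = (c • ∑ g : G, (ρ g).toLinearMap :
        MvPolynomial (Fin n) R →ₗ[R] MvPolynomial (Fin n) R) m := by
    intro h m
    rw [havg_apply, map_smul, map_sum]
    congr 1
    calc ∑ g : G, ρ h (ρ g m) = ∑ g : G, ρ (h * g) m := by
          refine Finset.sum_congr rfl fun g _ => ?_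
          rw [map_mul]; rfl
      _ = ∑ g : G, ρ g m := Equiv.sum_comp (Equiv.mulLeft h) (fun g => ρ g m)
  have hmemN : ∀ x : MvPolynomial (Fin n) R,
      x ∈ (⨅ g : G, LinearMap.eqLocus (ρ g).toLinearMap
        (LinearMap.id : MvPolynomial (Fin n) R →ₗ[R] MvPolynomial (Fin n) R)) ↔
      ∀ g : G, ρ g x = x := by
    intro x
    simp only [Submodule.mem_iInf, LinearMap.mem_eqLocus, LinearMap.id_apply,
      AlgEquiv.toLinearMap_apply]
  have hfix : ∀ x : MvPolynomial (Fin n) R, (∀ g : G, ρ g x = x) →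
      (c • ∑ g : G, (ρ g).toLinearMap :
        MvPolynomial (Fin n) R →ₗ[R] MvPolynomial (Fin n) R) x = x := by
    intro x hx'
    rw [havg_apply]
    simp only [hx', Finset.sum_const, Finset.card_univ, ← Nat.card_eq_fintype_card]
    rw [← Nat.cast_smul_eq_nsmul R, smul_smul, hc, one_smul]
  refine Module.Flat.of_retract (M := MvPolynomial (Fin n) R)
    (Submodule.subtype _)
    (LinearMap.codRestrict _ (c • ∑ g : G, (ρ g).toLinearMap :
        MvPolynomial (Fin n) R →ₗ[R] MvPolynomial (Fin n) R)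
      (fun m => (hmemN _).mpr (fun g => hinv g m))) ?_
  apply LinearMap.ext
  intro x
  apply Subtype.ext
  exact hfix x.1 ((hmemN x.1).mp x.2)

end Groth.Agent.S13142
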