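import Groth.Statements.S13149
import Mathlib
-- import your own Groth.Agent.* helpers here

set_option autoImplicit false
universe u
open CAlg

namespace Groth.Agent.S13149
def Good {p : ℕ} {A : Type*} [CommRing A] (σ : (Fin 3 → ZMod p) → (Fin 3 → A))
    (v : Fin 3 → ZMod p) (V : Fin 3 → A) : Prop := ∃ t : A, IsUnit t ∧ σ v = t • V

lemma det3' {A : Type*} [CommRing A] (a b c d e f : A) (s : Fin 3 → A) :
    Matrix.det (Matrix.of ![![a, b, c], ![d, e, f], s]) =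
      a * (e * s 2 - f * s 1) - b * (d * s 2 - f * s 0) + c * (d * s 1 - e * s 0) := by
  simp [Matrix.det_fin_three]
  ring

lemma det3'' {A : Type*} [CommRing A] (a b c d e f g h i : A) :
    Matrix.det (Matrix.of ![![a, b, c], ![d, e, f], ![g, h, i]]) =
      a * (e * i - f * h) - b * (d * i - f * g) + c * (d * h - e * g) := by
  simp [Matrix.det_fin_three]
  ring

lemma det_smul_smul {A : Type*} [CommRing A] (U V S : Fin 3 → A) (a b : A) :
    Matrix.det (Matrix.of ![a • U, b • V, S]) = a * b * Matrix.det (Matrix.of ![U, V, S]) := by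
  simp [Matrix.det_fin_three]
  ring

lemma det_scale3 {A : Type*} [CommRing A] (x y z d : Fin 3 → A) :
    Matrix.det (Matrix.of ![fun i => x i * d i, fun i => y i * d i, fun i => z i * d i]) =
      Matrix.det (Matrix.of ![x, y, z]) * (d 0 * d 1 * d 2) := by
  simp [Matrix.det_fin_three]
  ring

lemma det_vecMul3 {A : Type*} [CommRing A] (x y z : Fin 3 → A) (N : Matrix (Fin 3) (Fin 3) A) :
    Matrix.det (Matrix.of ![Matrix.vecMul x N, Matrix.vecMul y N, Matrix.vecMul z N]) =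
      Matrix.det (Matrix.of ![x, y, z]) * N.det := by
  have h : Matrix.of ![Matrix.vecMul x N, Matrix.vecMul y N, Matrix.vecMul z N] =
      Matrix.of ![x, y, z] * N := by
    ext i j
    fin_cases i <;> rfl
  rw [h, Matrix.det_mul]

lemma vec3_ext' {A : Type*} [CommRing A] (s : Fin 3 → A) (t a b c : A)
    (h0 : s 0 = t * a) (h1 : s 1 = t * b) (h2 : s 2 = t * c) : s = t • ![a, b, c] := by
  funext i
  fin_cases i
  · exact h0
  · exact h1
  · exact h2

lemma smul_vec_apply1 {A : Type*} [CommRing A] (t a b c : A) :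
    (t • (![a, b, c] : Fin 3 → A)) 1 = t * b := by simp

lemma det_zero_of_common_perp {A : Type*} [CommRing A] (U V W n : Fin 3 → A) (i : Fin 3)
    (hi : IsUnit (n i))
    (h1 : dotProduct U n = 0) (h2 : dotProduct V n = 0) (h3 : dotProduct W n = 0) :
    Matrix.det (Matrix.of ![U, V, W]) = 0 := by
  have hX : (Matrix.of ![U, V, W]).mulVec n = 0 := by
    funext j
    fin_cases j
    · exact h1
    · exact h2
    · exact h3
  have h4 : (Matrix.of ![U, V, W]).det • n = 0 := by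
    have h5 : (Matrix.adjugate (Matrix.of ![U, V, W]) * Matrix.of ![U, V, W]).mulVec n = 0 := by
      rw [← Matrix.mulVec_mulVec, hX, Matrix.mulVec_zero]
    rwa [Matrix.adjugate_mul, Matrix.smul_mulVec, Matrix.one_mulVec] at h5
  have h6 : (Matrix.of ![U, V, W]).det * n i = 0 := congrFun h4 i
  exact (hi.mul_left_eq_zero).1 h6

lemma two_lines {p : ℕ} {A : Type*} [CommRing A] (σ : (Fin 3 → ZMod p) → (Fin 3 → A))
    (hu : ∀ v : Fin 3 → ZMod p, v ≠ 0 → ∃ i, IsUnit (σ v i))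
    (hd : ∀ u v w : Fin 3 → ZMod p, u ≠ 0 → v ≠ 0 → w ≠ 0 →
      Matrix.det (Matrix.of ![u, v, w]) = 0 → Matrix.det (Matrix.of ![σ u, σ v, σ w]) = 0)
    {u₁ v₁ u₂ v₂ w : Fin 3 → ZMod p} {U₁ V₁ U₂ V₂ W : Fin 3 → A}
    (g1 : Good σ u₁ U₁) (g2 : Good σ v₁ V₁) (g3 : Good σ u₂ U₂) (g4 : Good σ v₂ V₂)
    (hu₁ : u₁ ≠ 0) (hv₁ : v₁ ≠ 0) (hu₂ : u₂ ≠ 0) (hv₂ : v₂ ≠ 0) (hw : w ≠ 0)
    (d1 : Matrix.det (Matrix.of ![u₁, v₁, w]) = 0) (d2 : Matrix.det (Matrix.of ![u₂, v₂, w]) = 0)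
    (hW : ∀ s : Fin 3 → A, Matrix.det (Matrix.of ![U₁, V₁, s]) = 0 →
      Matrix.det (Matrix.of ![U₂, V₂, s]) = 0 → ∃ t : A, s = t • W) : Good σ w W := by
  obtain ⟨a₁, ha₁, e₁⟩ := g1
  obtain ⟨b₁, hb₁, f₁⟩ := g2
  obtain ⟨a₂, ha₂, e₂⟩ := g3
  obtain ⟨b₂, hb₂, f₂⟩ := g4
  have D1 := hd u₁ v₁ w hu₁ hv₁ hw d1
  have D2 := hd u₂ v₂ w hu₂ hv₂ hw d2
  rw [e₁, f₁, det_smul_smul] at D1
  rw [e₂, f₂, det_smul_smul] at D2
  have D1' := ((ha₁.mul hb₁).mul_right_eq_zero).1 D1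
  have D2' := ((ha₂.mul hb₂).mul_right_eq_zero).1 D2
  obtain ⟨t, ht⟩ := hW (σ w) D1' D2'
  obtain ⟨i, hi⟩ := hu w hw
  rw [ht] at hi
  change IsUnit (t * W i) at hi
  exact ⟨t, isUnit_of_mul_isUnit_left hi, ht⟩

lemma core (p : ℕ) [Fact p.Prime] {A : Type*} [CommRing A] [IsLocalRing A]
    (σ : (Fin 3 → ZMod p) → (Fin 3 → A))
    (hu : ∀ v : Fin 3 → ZMod p, v ≠ 0 → ∃ i, IsUnit (σ v i))
    (hd : ∀ u v w : Fin 3 → ZMod p, u ≠ 0 → v ≠ 0 → w ≠ 0 →
      Matrix.det (Matrix.of ![u, v, w]) = 0 → Matrix.det (Matrix.of ![σ u, σ v, σ w]) = 0)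
    (g0 : Good σ ![1,0,0] ![1,0,0]) (g1 : Good σ ![0,1,0] ![0,1,0])
    (g2 : Good σ ![0,0,1] ![0,0,1]) (g3 : Good σ ![1,1,1] ![1,1,1]) : (p : A) = 0 := by
  have n0 : (![1,0,0] : Fin 3 → ZMod p) ≠ 0 := fun h => by simpa using congrFun h 0
  have n1 : (![0,1,0] : Fin 3 → ZMod p) ≠ 0 := fun h => by simpa using congrFun h 1
  have n2 : (![0,0,1] : Fin 3 → ZMod p) ≠ 0 := fun h => by simpa using congrFun h 2
  have n3 : (![1,1,1] : Fin 3 → ZMod p) ≠ 0 := fun h => by simpa using congrFun h 0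
  have n110 : (![1,1,0] : Fin 3 → ZMod p) ≠ 0 := fun h => by simpa using congrFun h 0
  have n101 : (![1,0,1] : Fin 3 → ZMod p) ≠ 0 := fun h => by simpa using congrFun h 0
  have n01m : (![0,1,-1] : Fin 3 → ZMod p) ≠ 0 := fun h => by simpa using congrFun h 1
  have nP : ∀ k : ℕ, (![1,(k : ZMod p),0] : Fin 3 → ZMod p) ≠ 0 :=
    fun k h => by simpa using congrFun h 0
  have nQ : ∀ k : ℕ, (![1,(k : ZMod p),1] : Fin 3 → ZMod p) ≠ 0 :=
    fun k h => by simpa using congrFun h 0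
  have g110 : Good σ ![1,1,0] ![1,1,0] := by
    refine two_lines σ hu hd g0 g1 g2 g3 n0 n1 n2 n3 n110 ?_ ?_ ?_
    · rw [det3'']; ring
    · rw [det3'']; ring
    · intro s h1 h2
      rw [det3'] at h1 h2
      refine ⟨s 0, vec3_ext' _ _ _ _ _ ?_ ?_ ?_⟩
      · ring
      · linear_combination h2
      · linear_combination h1
  have g101 : Good σ ![1,0,1] ![1,0,1] := by
    refine two_lines σ hu hd g0 g2 g1 g3 n0 n2 n1 n3 n101 ?_ ?_ ?_
    · rw [det3'']; ring
    · rw [det3'']; ring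
    · intro s h1 h2
      rw [det3'] at h1 h2
      refine ⟨s 0, vec3_ext' _ _ _ _ _ ?_ ?_ ?_⟩
      · ring
      · linear_combination (-1) * h1
      · linear_combination (-1) * h2
  have g01m : Good σ ![0,1,-1] ![0,1,-1] := by
    refine two_lines σ hu hd g1 g2 g110 g101 n1 n2 n110 n101 n01m ?_ ?_ ?_
    · rw [det3'']; ring
    · rw [det3'']; ring
    · intro s h1 h2
      rw [det3'] at h1 h2
      refine ⟨s 1, vec3_ext' _ _ _ _ _ ?_ ?_ ?_⟩
      · linear_combination h1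
      · ring
      · linear_combination (-1) * h2 + h1
  have gP : ∀ k : ℕ, Good σ ![1,(k : ZMod p),0] ![1,(k : A),0] := by
    intro k
    induction k with
    | zero => simpa using g0
    | succ k ih =>
      have gQ : Good σ ![1,(k : ZMod p),1] ![1,(k : A),1] := by
        refine two_lines σ hu hd ih g2 g101 g1 (nP k) n2 n101 n1 (nQ k) ?_ ?_ ?_
        · rw [det3'']; ring
        · rw [det3'']; ring
        · intro s h1 h2
          rw [det3'] at h1 h2
          refine ⟨s 0, vec3_ext' _ _ _ _ _ ?_ ?_ ?_⟩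
          · ring
          · linear_combination (-1) * h1
          · linear_combination h2
      refine two_lines σ hu hd gQ g01m g0 g1 (nQ k) n01m n0 n1 (nP (k + 1)) ?_ ?_ ?_
      · rw [det3'']; push_cast; ring
      · rw [det3'']; ring
      · intro s h1 h2
        rw [det3'] at h1 h2
        refine ⟨s 0, vec3_ext' _ _ _ _ _ ?_ ?_ ?_⟩
        · ring
        · push_cast; linear_combination h1 - h2
        · linear_combination h2
  obtain ⟨t, ht, e⟩ := gP p
  obtain ⟨t0, _, e0⟩ := g0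
  have hp0 : ((p : ℕ) : ZMod p) = 0 := ZMod.natCast_self p
  rw [hp0, e0] at e
  have h1 := congrFun e 1
  rw [smul_vec_apply1, smul_vec_apply1] at h1
  exact (ht.mul_right_eq_zero).1 (by rw [← h1, mul_zero])


/-- Let A be a local ring and ρ a map from the points of the projective plane over F_p to the points of
the projective plane over A (vectors with a unit coordinate, up to units) taking collinear triples
to collinear triples (three points are collinear when a vector with a unit coordinate is orthogonal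
to all three). If ρ sends the standard frame (1:0:0), (0:1:0), (0:0:1), (1:1:1) to four points in
general position, then p = 0 in A. (The published statement asks only that ρ preserve collinearity;
a constant map does so over any ring, and the published argument begins by moving the images of the
standard frame to the standard frame, which needs them in general position — that condition is made
a hypothesis here.) -/
theorem result
    (p : ℕ) [Fact p.Prime] (A : Type u) [CommRing A] [IsLocalRing A]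
    (ρ : (Fin 3 → ZMod p) → (Fin 3 → A))
    (hpt : ∀ v : Fin 3 → ZMod p, v ≠ 0 → ∃ i, IsUnit (ρ v i))
    (hcol : ∀ u v w : Fin 3 → ZMod p, u ≠ 0 → v ≠ 0 → w ≠ 0 →
      Matrix.det (Matrix.of ![u, v, w]) = 0 →
      ∃ n : Fin 3 → A, (∃ i, IsUnit (n i)) ∧
        dotProduct (ρ u) n = 0 ∧ dotProduct (ρ v) n = 0 ∧ dotProduct (ρ w) n = 0)
    (hgen : IsUnit (Matrix.det (Matrix.of ![ρ (Pi.single 0 1), ρ (Pi.single 1 1), ρ (Pi.single 2 1)])) ∧
      IsUnit (Matrix.det (Matrix.of ![ρ (Pi.single 0 1), ρ (Pi.single 1 1), ρ (fun _ => 1)])) ∧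
      IsUnit (Matrix.det (Matrix.of ![ρ (Pi.single 0 1), ρ (Pi.single 2 1), ρ (fun _ => 1)])) ∧
      IsUnit (Matrix.det (Matrix.of ![ρ (Pi.single 1 1), ρ (Pi.single 2 1), ρ (fun _ => 1)]))) :
    (p : A) = 0 := by
  classical
  have e0 : (Pi.single 0 1 : Fin 3 → ZMod p) = ![1,0,0] := by funext i; fin_cases i <;> simp
  have e1 : (Pi.single 1 1 : Fin 3 → ZMod p) = ![0,1,0] := by funext i; fin_cases i <;> simp
  have e2 : (Pi.single 2 1 : Fin 3 → ZMod p) = ![0,0,1] := by funext i; fin_cases i <;> simp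
  have e3 : ((fun _ => 1) : Fin 3 → ZMod p) = ![1,1,1] := by funext i; fin_cases i <;> simp
  rw [e0, e1, e2, e3] at hgen
  obtain ⟨hM, hg1, hg2, hg3⟩ := hgen
  have hρ : ∀ u v w : Fin 3 → ZMod p, u ≠ 0 → v ≠ 0 → w ≠ 0 →
      Matrix.det (Matrix.of ![u, v, w]) = 0 → Matrix.det (Matrix.of ![ρ u, ρ v, ρ w]) = 0 := by
    intro u v w hu hv hw hdet
    obtain ⟨n, ⟨i, hi⟩, h1, h2, h3⟩ := hcol u v w hu hv hw hdet
    exact det_zero_of_common_perp _ _ _ n i hi h1 h2 h3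
  obtain ⟨M, hMdef⟩ : ∃ M : Matrix (Fin 3) (Fin 3) A,
      M = Matrix.of ![ρ ![1,0,0], ρ ![0,1,0], ρ ![0,0,1]] := ⟨_, rfl⟩
  rw [← hMdef] at hM
  have hMM : M * M⁻¹ = 1 := Matrix.mul_nonsing_inv M hM
  have hMM' : M⁻¹ * M = 1 := Matrix.nonsing_inv_mul M hM
  have hρκ : ∀ v, ρ v = Matrix.vecMul (Matrix.vecMul (ρ v) M⁻¹) M := by
    intro v; rw [Matrix.vecMul_vecMul, hMM', Matrix.vecMul_one]
  have hrow0 : ρ ![1,0,0] = Matrix.vecMul (![1,0,0] : Fin 3 → A) M := by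
    funext j; simp [Matrix.vecMul, dotProduct, Fin.sum_univ_three, hMdef]
  have hrow1 : ρ ![0,1,0] = Matrix.vecMul (![0,1,0] : Fin 3 → A) M := by
    funext j; simp [Matrix.vecMul, dotProduct, Fin.sum_univ_three, hMdef]
  have hrow2 : ρ ![0,0,1] = Matrix.vecMul (![0,0,1] : Fin 3 → A) M := by
    funext j; simp [Matrix.vecMul, dotProduct, Fin.sum_univ_three, hMdef]
  have hκ0 : Matrix.vecMul (ρ ![1,0,0]) M⁻¹ = ![1,0,0] := by
    rw [hrow0, Matrix.vecMul_vecMul, hMM, Matrix.vecMul_one]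
  have hκ1 : Matrix.vecMul (ρ ![0,1,0]) M⁻¹ = ![0,1,0] := by
    rw [hrow1, Matrix.vecMul_vecMul, hMM, Matrix.vecMul_one]
  have hκ2 : Matrix.vecMul (ρ ![0,0,1]) M⁻¹ = ![0,0,1] := by
    rw [hrow2, Matrix.vecMul_vecMul, hMM, Matrix.vecMul_one]
  obtain ⟨c, hcdef⟩ : ∃ c : Fin 3 → A, c = Matrix.vecMul (ρ ![1,1,1]) M⁻¹ := ⟨_, rfl⟩
  have hc : ρ ![1,1,1] = Matrix.vecMul c M := by rw [hcdef]; exact hρκ _
  rw [hrow0, hrow1, hc, det_vecMul3, det3'] at hg1
  rw [hrow0, hrow2, hc, det_vecMul3, det3'] at hg2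
  rw [hrow1, hrow2, hc, det_vecMul3, det3'] at hg3
  have hc2 : IsUnit (c 2) := by
    have h := isUnit_of_mul_isUnit_left hg1
    have e : (1 : A) * (1 * c 2 - 0 * c 1) - 0 * (0 * c 2 - 0 * c 0) + 0 * (0 * c 1 - 1 * c 0) = c 2 := by ring
    rwa [e] at h
  have hc1 : IsUnit (c 1) := by
    have h := isUnit_of_mul_isUnit_left hg2
    have e : (1 : A) * (0 * c 2 - 1 * c 1) - 0 * (0 * c 2 - 1 * c 0) + 0 * (0 * c 1 - 0 * c 0) = -(c 1) := by ring
    rw [e] at h
    exact (IsUnit.neg_iff _).1 h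
  have hc0 : IsUnit (c 0) := by
    have h := isUnit_of_mul_isUnit_left hg3
    have e : (0 : A) * (0 * c 2 - 1 * c 1) - 1 * (0 * c 2 - 1 * c 0) + 0 * (0 * c 1 - 0 * c 0) = c 0 := by ring
    rwa [e] at h
  have hcu : ∀ i, IsUnit (c i) := by
    intro i; fin_cases i
    · exact hc0
    · exact hc1
    · exact hc2
  obtain ⟨ci, hci⟩ : ∃ ci : Fin 3 → A, ∀ i, c i * ci i = 1 :=
    ⟨fun i => Ring.inverse (c i), fun i => Ring.mul_inverse_cancel _ (hcu i)⟩
  have hciu : ∀ i, IsUnit (ci i) := fun i =>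
    ⟨⟨ci i, c i, (by rw [mul_comm]; exact hci i), hci i⟩, rfl⟩
  have hκu : ∀ v : Fin 3 → ZMod p, v ≠ 0 → ∃ i, IsUnit (Matrix.vecMul (ρ v) M⁻¹ i) := by
    intro v hv
    obtain ⟨j, hj⟩ := hpt v hv
    by_contra hcon
    push Not at hcon
    have hmem : ρ v j ∈ IsLocalRing.maximalIdeal A := by
      rw [hρκ v]
      show (∑ i, Matrix.vecMul (ρ v) M⁻¹ i * M i j) ∈ _
      exact Ideal.sum_mem _ (fun i _ => Ideal.mul_mem_right _ _
        ((IsLocalRing.mem_maximalIdeal _).2 (hcon i)))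
    exact mem_nonunits_iff.1 ((IsLocalRing.mem_maximalIdeal _).1 hmem) hj
  refine core p (fun v i => Matrix.vecMul (ρ v) M⁻¹ i * ci i) ?_ ?_ ?_ ?_ ?_ ?_
  · intro v hv
    obtain ⟨i, hi⟩ := hκu v hv
    exact ⟨i, hi.mul (hciu i)⟩
  · intro u v w hu hv hw hdet
    show Matrix.det (Matrix.of ![fun i => Matrix.vecMul (ρ u) M⁻¹ i * ci i,
      fun i => Matrix.vecMul (ρ v) M⁻¹ i * ci i, fun i => Matrix.vecMul (ρ w) M⁻¹ i * ci i]) = 0
    rw [det_scale3, det_vecMul3, hρ u v w hu hv hw hdet, zero_mul, zero_mul]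
  · refine ⟨ci 0, hciu 0, ?_⟩
    show (fun i => Matrix.vecMul (ρ ![1,0,0]) M⁻¹ i * ci i) = ci 0 • ![1,0,0]
    rw [hκ0]
    funext i; fin_cases i <;> simp
  · refine ⟨ci 1, hciu 1, ?_⟩
    show (fun i => Matrix.vecMul (ρ ![0,1,0]) M⁻¹ i * ci i) = ci 1 • ![0,1,0]
    rw [hκ1]
    funext i; fin_cases i <;> simp
  · refine ⟨ci 2, hciu 2, ?_⟩
    show (fun i => Matrix.vecMul (ρ ![0,0,1]) M⁻¹ i * ci i) = ci 2 • ![0,0,1]
    rw [hκ2]
    funext i; fin_cases i <;> simp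
  · refine ⟨1, isUnit_one, ?_⟩
    show (fun i => Matrix.vecMul (ρ ![1,1,1]) M⁻¹ i * ci i) = (1 : A) • ![1,1,1]
    rw [← hcdef]
    funext i
    rw [hci i]
    fin_cases i <;> simp

end Groth.Agent.S13149
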