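import Groth.Statements.S13151
import Mathlib
-- import your own Groth.Agent.* helpers here

set_option autoImplicit false
universe u
open CAlg

namespace Groth.Agent.S13151

/-- Let A → B be an injective ring homomorphism of integral domains which is integral, with A integrally
closed, and let π be an element of A. Then the contraction to A of the ideal πB is πA, i.e. an
element of A which is a multiple of π in B is already a multiple of π in A; in particular if B/πB is
an integral domain then A/πA is an integral domain. (The published statement is for an integral
dominant morphism of integral schemes flat over a discrete valuation ring, with normal target and π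
a uniformizer; flatness and the valuation ring play no role, so π is an arbitrary element here.) -/
theorem result {A B : Type u} [CommRing A] [CommRing B]
    [IsDomain A] [IsDomain B] [IsIntegrallyClosed A] [Algebra A B] [Algebra.IsIntegral A B]
    (hinj : Function.Injective (algebraMap A B)) (π : A) :
    (Ideal.span {algebraMap A B π}).comap (algebraMap A B) = Ideal.span {π} ∧
      (IsDomain (B ⧸ Ideal.span {algebraMap A B π}) → IsDomain (A ⧸ Ideal.span {π})) := by
  have part1 : (Ideal.span {algebraMap A B π}).comap (algebraMap A B) = Ideal.span {π} := by
    apply le_antisymm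
    · intro a ha
      rw [Ideal.mem_comap, Ideal.mem_span_singleton'] at ha
      obtain ⟨b, hb⟩ := ha
      by_cases hπ : π = 0
      · subst hπ
        rw [map_zero, mul_zero] at hb
        have : a = 0 := hinj (by rw [← hb, map_zero])
        rw [this]; exact zero_mem _
      obtain ⟨p, hpm, hp⟩ := Algebra.IsIntegral.isIntegral (R := A) b
      have h2 : Polynomial.eval₂ (algebraMap A B) (algebraMap A B π * b) (Polynomial.scaleRoots p π) = 0 :=
        Polynomial.scaleRoots_eval₂_eq_zero _ hp
      rw [mul_comm, hb, Polynomial.eval₂_at_apply] at h2
      have h3 : Polynomial.eval a (Polynomial.scaleRoots p π) = 0 := hinj (by rw [h2, map_zero])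
      let K := FractionRing A
      have hπK : algebraMap A K π ≠ 0 := IsFractionRing.to_map_eq_zero_iff.not.mpr hπ
      have h4 : Polynomial.eval₂ (algebraMap A K) (algebraMap A K π * (algebraMap A K a / algebraMap A K π))
          (Polynomial.scaleRoots p π) = 0 := by
        rw [mul_div_cancel₀ _ hπK, Polynomial.eval₂_at_apply, h3, map_zero]
      rw [Polynomial.scaleRoots_eval₂_mul] at h4
      have h5 : Polynomial.eval₂ (algebraMap A K) (algebraMap A K a / algebraMap A K π) p = 0 := by
        rcases mul_eq_zero.mp h4 with h | h
        · exact absurd h (pow_ne_zero _ hπK)
        · exact h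
      have hint : IsIntegral A (algebraMap A K a / algebraMap A K π) := ⟨p, hpm, h5⟩
      obtain ⟨y, hy⟩ := IsIntegrallyClosed.algebraMap_eq_of_integral hint
      rw [Ideal.mem_span_singleton']
      refine ⟨y, ?_⟩
      apply IsFractionRing.injective A K
      rw [map_mul, hy, div_mul_cancel₀ _ hπK]
    · rw [← Ideal.map_le_iff_le_comap, Ideal.map_span, Set.image_singleton]
  refine ⟨part1, fun hdom => ?_⟩
  rw [Ideal.Quotient.isDomain_iff_prime] at hdom ⊢
  rw [← part1]
  exact Ideal.comap_isPrime _ _

end Groth.Agent.S13151
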