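import Groth.Statements.S13157
import Mathlib
-- import your own Groth.Agent.* helpers here

set_option autoImplicit false
universe u
open scoped Polynomial
open CAlg

namespace Groth.Agent.S13157
open Polynomial

theorem coeff_rhs (A : Type u) [CommRing A] (μ : A) (F : A[X]) (k : ℕ) :
    (derivative F * (1 + C μ * X)).coeff k =
      F.coeff (k + 1) * ((k : A) + 1) + μ * (F.coeff k * (k : A)) := by
  have e : derivative F * (1 + C μ * X) = derivative F + C μ * (derivative F * X) := by ring
  rw [e, coeff_add, coeff_C_mul, coeff_derivative]
  cases k with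
  | zero => simp
  | succ j => rw [coeff_mul_X, coeff_derivative]; push_cast; ring


/-- (i) ⇔ (ii): let p be a prime number, A a commutative ring in which (p−1)! is invertible, μ ∈ A, and
F ∈ A[X] a polynomial of degree at most p − 1 with constant term a_0 = 1 and coefficients a_1, a_2,
…. Then the relations a_{r−1}·a_1 = (r − 1)μ·a_{r−1} + r·a_r for 1 ≤ r ≤ p (with a_p = 0), written
here as the single identity a_1·F = F′·(1 + μX), hold if and only if r!·a_r = ∏_{k=0}^{r−1} (a_1 −
kμ) for every 1 ≤ r ≤ p − 1 and ∏_{k=0}^{p−1} (a_1 − kμ) = 0. (The published statement lists the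
relations only for 1 ≤ r ≤ p − 1, while its proof uses and derives the relation for r = p as well,
which is needed for the vanishing of the last product; it is included here. The published setting is
the quotient of a discrete valuation ring of residue characteristic p by a nonzero non-unit; only
the invertibility of 1, …, p − 1 is used.) -/
theorem result (A : Type u) [CommRing A] (p : ℕ) [Fact p.Prime]
    (hu : IsUnit ((Nat.factorial (p - 1) : ℕ) : A)) (μ : A) (F : A[X]) (hF : F.natDegree < p)
    (h0 : F.coeff 0 = 1) :
    F * Polynomial.C (F.coeff 1) = Polynomial.derivative F * (1 + Polynomial.C μ * Polynomial.X) ↔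
      ((∀ r : ℕ, 1 ≤ r → r < p →
          (r.factorial : A) * F.coeff r = ∏ k ∈ Finset.range r, (F.coeff 1 - (k : A) * μ)) ∧
        ∏ k ∈ Finset.range p, (F.coeff 1 - (k : A) * μ) = 0) := by
  have hODE : (F * C (F.coeff 1) = derivative F * (1 + C μ * X)) ↔
      ∀ k : ℕ, ((k : A) + 1) * F.coeff (k + 1) = (F.coeff 1 - (k : A) * μ) * F.coeff k := by
    rw [Polynomial.ext_iff]
    refine forall_congr' fun k => ?_
    rw [coeff_mul_C, coeff_rhs]
    constructor
    · intro h; linear_combination (-1 : A) * h
    · intro h; linear_combination (-1 : A) * h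
  have hunit : ∀ r : ℕ, r < p → IsUnit ((r.factorial : ℕ) : A) := by
    intro r hr
    have hdvd : r.factorial ∣ (p - 1).factorial := Nat.factorial_dvd_factorial (by omega)
    exact isUnit_of_dvd_unit (Nat.cast_dvd_cast hdvd) hu
  have hdeg : ∀ k, p ≤ k → F.coeff k = 0 :=
    fun k hk => coeff_eq_zero_of_natDegree_lt (by omega)
  rw [hODE]
  constructor
  · intro hrel
    have hall : ∀ r : ℕ, ((r.factorial : ℕ) : A) * F.coeff r =
        ∏ k ∈ Finset.range r, (F.coeff 1 - (k : A) * μ) := by
      intro r
      induction r with
      | zero => simp [h0]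
      | succ r ih =>
        rw [Finset.prod_range_succ, ← ih, Nat.factorial_succ]
        push_cast
        linear_combination ((r.factorial : ℕ) : A) * hrel r
    refine ⟨fun r _ _ => hall r, ?_⟩
    rw [← hall p, hdeg p le_rfl, mul_zero]
  · rintro ⟨H1, H2⟩ k
    have H1' : ∀ r, r < p → ((r.factorial : ℕ) : A) * F.coeff r =
        ∏ j ∈ Finset.range r, (F.coeff 1 - (j : A) * μ) := by
      intro r hr
      rcases Nat.eq_zero_or_pos r with rfl | hr0
      · simp [h0]
      · exact H1 r hr0 hr
    rcases lt_trichotomy (k + 1) p with hlt | heq | hgt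
    · apply (hunit k (by omega)).mul_left_cancel
      have e1 := H1' (k + 1) hlt
      have e2 := H1' k (by omega)
      rw [Finset.prod_range_succ, ← e2, Nat.factorial_succ] at e1
      push_cast at e1
      linear_combination e1
    · rw [hdeg (k + 1) (by omega), mul_zero]
      apply (hunit k (by omega)).mul_left_cancel
      have e2 := H1' k (by omega)
      rw [mul_zero]
      have e3 : ∏ j ∈ Finset.range (k + 1), (F.coeff 1 - (j : A) * μ) = 0 := by
        rw [heq]; exact H2
      rw [Finset.prod_range_succ, ← e2] at e3
      linear_combination (-1 : A) * e3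
    · rw [hdeg (k + 1) (by omega), hdeg k (by omega), mul_zero, mul_zero]

end Groth.Agent.S13157
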