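import Groth.Statements.S13159
import Mathlib

set_option autoImplicit false
universe u
open CAlg

namespace Groth.Agent.S13159

/-- Let R be a discrete valuation ring with fraction field K, C an R-algebra which is finitely generated
as an R-module (the coordinate ring of a finite R-scheme G), and A an integral domain which is an
R-algebra with injective structure map and fraction field L, K → L being compatible, such that every
element of L algebraic over K lies in the image of K (the condition satisfied by the rings of
nonempty opens of an R-scheme with geometrically integral fibres). Then every R-algebra homomorphism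
C → A factors uniquely through the structure map R → A: the points of G with values in A are the
R-points of G. (The published statement is that for Y → Spec R with geometrically integral fibres
and G finite flat, the map H¹(Y, G) → H⁰(Y_Zar, R¹f_*G) from the Leray spectral sequence of Y_fl →
Y_Zar is bijective; this row is the step asserting that G restricted to the Zariski site of Y is the
constant sheaf G(R), for an affine open with function ring A.) -/
theorem result (R : Type u) [CommRing R]
    [IsDomain R] [IsDiscreteValuationRing R] (K : Type u) [Field K] [Algebra R K] [IsFractionRing R K]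
    (C : Type u) [CommRing C] [Algebra R C] [Module.Finite R C]
    (A : Type u) [CommRing A] [IsDomain A] [Algebra R A] (hinj : Function.Injective (algebraMap R A))
    (L : Type u) [Field L] [Algebra A L] [IsFractionRing A L] [Algebra R L] [Algebra K L]
    [IsScalarTower R A L] [IsScalarTower R K L]
    (hac : ∀ x : L, IsAlgebraic K x → x ∈ (algebraMap K L).range)
    (φ : C →ₐ[R] A) : ∃! ψ : C →ₐ[R] R, φ = (Algebra.ofId R A).comp ψ := by
  classical
  have hAL : Function.Injective (algebraMap A L) := IsFractionRing.injective A L
  have key : ∀ c : C, ∃ r : R, algebraMap R A r = φ c := by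
    intro c
    have hint : IsIntegral R c := Algebra.IsIntegral.isIntegral c
    have hint2 : IsIntegral R (φ c) := hint.map φ
    have hint3 : IsIntegral R (algebraMap A L (φ c)) := hint2.map (IsScalarTower.toAlgHom R A L)
    have halg : IsAlgebraic K (algebraMap A L (φ c)) := (hint3.tower_top (A := K)).isAlgebraic
    obtain ⟨x, hx⟩ := hac _ halg
    have hxint : IsIntegral R x := by
      have h1 : IsIntegral R (algebraMap K L x) := by rw [hx]; exact hint3
      exact (isIntegral_algebraMap_iff (algebraMap K L).injective).mp h1
    obtain ⟨r, hr⟩ := IsIntegrallyClosed.isIntegral_iff.mp hxint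
    refine ⟨r, hAL ?_⟩
    rw [← hx, ← hr, ← IsScalarTower.algebraMap_apply, ← IsScalarTower.algebraMap_apply]
  choose ψ₀ hψ₀ using key
  let ψ : C →ₐ[R] R :=
    { toFun := ψ₀
      map_one' := hinj (by rw [hψ₀, map_one, map_one])
      map_mul' := fun a b => hinj (by rw [hψ₀, map_mul, map_mul, hψ₀, hψ₀])
      map_zero' := hinj (by rw [hψ₀, map_zero, map_zero])
      map_add' := fun a b => hinj (by rw [hψ₀, map_add, map_add, hψ₀, hψ₀])
      commutes' := fun r => hinj (by rw [hψ₀, AlgHom.commutes]; rfl) }
  refine ⟨ψ, ?_, ?_⟩
  · ext c
    show φ c = algebraMap R A (ψ₀ c)
    rw [hψ₀]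
  · intro ψ' hψ'
    ext c
    apply hinj
    show algebraMap R A (ψ' c) = algebraMap R A (ψ₀ c)
    rw [hψ₀, hψ']
    rfl

end Groth.Agent.S13159
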