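import Groth.Statements.S13161
import Mathlib

set_option autoImplicit false
universe u
open scoped TensorProduct
open CAlg

namespace Groth.Agent.S13161

/-- Let R be a discrete valuation ring with fraction field K, A an R-algebra which is semireflexive as
an R-module (the map to its double dual is injective: every nonzero a ∈ A has an R-linear form f : A
→ R with f(a) ≠ 0), and B an A-algebra which is finitely generated as an A-module and flat over R.
Suppose B ⊗ K is semireflexive as a module over A ⊗ K, which for such B amounts to: every nonzero b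
∈ B has an A-linear map g : B → A ⊗_R K with g(b) ≠ 0. Then B is semireflexive as an R-module: every
nonzero b ∈ B has an R-linear form h : B → R with h(b) ≠ 0. (The published statement phrases the
hypothesis on B_K as an A_K-module; for B flat over R and finite over A this is the elementwise
condition used here.) -/
theorem result (R : Type u) [CommRing R] [IsDomain R]
    [IsDiscreteValuationRing R] (K : Type u) [Field K] [Algebra R K] [IsFractionRing R K]
    (A B : Type u) [CommRing A] [CommRing B] [Algebra R A] [Algebra R B] [Algebra A B] [IsScalarTower R A B]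
    [Module.Finite A B] [Module.Flat R B]
    (hA : ∀ a : A, a ≠ 0 → ∃ f : A →ₗ[R] R, f a ≠ 0)
    (hBK : ∀ b : B, b ≠ 0 → ∃ g : B →ₗ[A] A ⊗[R] K, g b ≠ 0) :
    ∀ b : B, b ≠ 0 → ∃ h : B →ₗ[R] R, h b ≠ 0 := by
  intro b hb
  obtain ⟨g, hg⟩ := hBK b hb
  have hinjK : Function.Injective (algebraMap R K) := IsFractionRing.injective R K
  have htf : ∀ (r : R) (a : A), r ≠ 0 → r • a = 0 → a = 0 := by
    intro r a hr hra
    by_contra ha
    obtain ⟨f, hf⟩ := hA a ha
    apply hf
    have h1 : r • f a = 0 := by rw [← map_smul, hra, map_zero]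
    rw [smul_eq_mul] at h1
    exact (mul_eq_zero.mp h1).resolve_left hr
  haveI : Module.Flat R A := by
    rw [Module.Flat.flat_iff_torsion_eq_bot_of_isBezout, Submodule.eq_bot_iff]
    intro a ha
    rw [Submodule.mem_torsion_iff] at ha
    obtain ⟨r, hr⟩ := ha
    exact htf (r : R) a (nonZeroDivisors.coe_ne_zero r) hr
  have hιinj : Function.Injective (fun a : A => (a ⊗ₜ[R] (1 : K) : A ⊗[R] K)) := by
    have h1 := Module.Flat.lTensor_preserves_injective_linearMap (M := A)
      (Algebra.linearMap R K) hinjK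
    intro a a' h
    have h2 : (LinearMap.lTensor A (Algebra.linearMap R K)) (a ⊗ₜ[R] (1 : R)) =
        (LinearMap.lTensor A (Algebra.linearMap R K)) (a' ⊗ₜ[R] (1 : R)) := by
      simp only [LinearMap.lTensor_tmul, Algebra.linearMap_apply, map_one]
      exact h
    have h3 := h1 h2
    have h4 := congrArg (TensorProduct.rid R A) h3
    simpa using h4
  -- clearing denominators of a single tensor
  have hden : ∀ z : A ⊗[R] K, ∃ s : R, s ≠ 0 ∧ ∃ c : A, s • z = c ⊗ₜ[R] (1 : K) := by
    intro z
    induction z using TensorProduct.induction_on with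
    | zero => exact ⟨1, one_ne_zero, 0, by rw [smul_zero, TensorProduct.zero_tmul]⟩
    | tmul a k =>
      obtain ⟨r, s, hs, rfl⟩ := IsFractionRing.div_surjective R k
      have hs0 : s ≠ 0 := nonZeroDivisors.ne_zero hs
      have hφs : algebraMap R K s ≠ 0 := fun h => hs0 (hinjK (by rw [h, map_zero]))
      refine ⟨s, hs0, r • a, ?_⟩
      rw [← TensorProduct.tmul_smul, Algebra.smul_def, mul_div_cancel₀ _ hφs,
        TensorProduct.smul_tmul, Algebra.smul_def, mul_one]
    | add z₁ z₂ ih₁ ih₂ =>
      obtain ⟨s₁, hs₁, c₁, h₁⟩ := ih₁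
      obtain ⟨s₂, hs₂, c₂, h₂⟩ := ih₂
      refine ⟨s₁ * s₂, mul_ne_zero hs₁ hs₂, s₂ • c₁ + s₁ • c₂, ?_⟩
      rw [smul_add, mul_comm s₁ s₂, mul_smul, h₁, mul_comm s₂ s₁, mul_smul, h₂,
        TensorProduct.add_tmul, TensorProduct.smul_tmul', TensorProduct.smul_tmul']
  -- generators of B over A
  obtain ⟨n, bb, hbb⟩ := Module.Finite.exists_fin (R := A) (M := B)
  choose sj hsj cj hcj using fun j => hden (g (bb j))
  obtain ⟨s, hsdef⟩ : ∃ s : R, s = ∏ j, sj j := ⟨_, rfl⟩
  have hs0 : s ≠ 0 := by rw [hsdef]; exact Finset.prod_ne_zero_iff.mpr fun j _ => hsj j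
  have hgen : ∀ j, ∃ c : A, s • g (bb j) = c ⊗ₜ[R] (1 : K) := by
    intro j
    obtain ⟨t, ht⟩ : sj j ∣ s := by rw [hsdef]; exact Finset.dvd_prod_of_mem sj (Finset.mem_univ j)
    refine ⟨t • cj j, ?_⟩
    rw [ht, mul_comm, mul_smul, hcj j, TensorProduct.smul_tmul']
  choose cg hcg using hgen
  have hall : ∀ x : B, ∃ c : A, s • g x = c ⊗ₜ[R] (1 : K) := by
    intro x
    have hx : x ∈ Submodule.span A (Set.range bb) := by rw [hbb]; exact Submodule.mem_top
    rw [Submodule.mem_span_range_iff_exists_fun] at hx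
    obtain ⟨a, rfl⟩ := hx
    refine ⟨∑ j, a j * cg j, ?_⟩
    rw [map_sum, Finset.smul_sum, TensorProduct.sum_tmul]
    refine Finset.sum_congr rfl fun j _ => ?_
    rw [map_smul, smul_comm, hcg j, TensorProduct.smul_tmul', smul_eq_mul]
  choose g' hg' using hall
  -- s acts injectively on A ⊗ K
  have hφs : algebraMap R K s ≠ 0 := fun h => hs0 (hinjK (by rw [h, map_zero]))
  have h1 : ∀ z : A ⊗[R] K,
      (LinearMap.lTensor A ((algebraMap R K s)⁻¹ • (LinearMap.id : K →ₗ[R] K))) (s • z) = z := by
    intro z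
    rw [map_smul]
    induction z using TensorProduct.induction_on with
    | zero => simp
    | tmul a k =>
      rw [LinearMap.lTensor_tmul, LinearMap.smul_apply, LinearMap.id_apply,
        ← TensorProduct.tmul_smul, Algebra.smul_def s, smul_eq_mul, ← mul_assoc,
        mul_inv_cancel₀ hφs, one_mul]
    | add z₁ z₂ ih₁ ih₂ =>
      rw [map_add, smul_add, ih₁, ih₂]
  have hsinj : ∀ z : A ⊗[R] K, s • z = 0 → z = 0 := fun z hz => by
    rw [← h1 z, hz, map_zero]
  have hg'b : g' b ≠ 0 := by
    intro h0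
    apply hg
    apply hsinj
    rw [hg' b, h0, TensorProduct.zero_tmul]
  -- additivity and R-linearity of g'
  have hg'add : ∀ x y, g' (x + y) = g' x + g' y := by
    intro x y
    apply hιinj
    show g' (x + y) ⊗ₜ[R] (1 : K) = (g' x + g' y) ⊗ₜ[R] (1 : K)
    rw [TensorProduct.add_tmul, ← hg', ← hg', ← hg', map_add, smul_add]
  have hg'smul : ∀ (r : R) x, g' (r • x) = r • g' x := by
    intro r x
    apply hιinj
    show g' (r • x) ⊗ₜ[R] (1 : K) = (r • g' x) ⊗ₜ[R] (1 : K)
    rw [← TensorProduct.smul_tmul', ← hg', ← hg', smul_comm]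
    congr 1
    rw [← algebraMap_smul A r x, map_smul, algebraMap_smul]
  obtain ⟨f, hf⟩ := hA (g' b) hg'b
  let G : B →ₗ[R] A := { toFun := g', map_add' := hg'add, map_smul' := hg'smul }
  exact ⟨f.comp G, hf⟩

end Groth.Agent.S13161
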