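import Groth.Statements.S13162
import Mathlib
-- import your own Groth.Agent.* helpers here

set_option autoImplicit false
universe u v
open ZeroCyc

namespace Groth.Agent.S13162

/-- Let a finite group G act on a commutative ring A by ring automorphisms and let p be a prime such
that every integer prime to p is a unit in A. If I is an ideal of A and f ∈ A has G-invariant class
modulo I, then f^(p^k) is congruent modulo I to a G-invariant element of A, where p^k is the exact
power of p dividing the order of G. (The published statement assumes I stable under G, so that G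
acts on A/I and the claim reads: the p^k-th power of an invariant of A/I lies in the image of the
invariants of A; the form here asks only that the class of f be invariant.) -/
theorem result {A : Type u} [CommRing A] {G : Type v} [Group G] [Fintype G]
    [MulSemiringAction G A] (p : ℕ) [Fact p.Prime]
    (hA : ∀ m : ℕ, ¬ p ∣ m → IsUnit (m : A))
    (I : Ideal A) (f : A) (hf : ∀ g : G, g • f - f ∈ I) :
    ∃ a : A, (∀ g : G, g • a = a) ∧ a - f ^ (p ^ (Fintype.card G).factorization p) ∈ I := by
  classical
  have hp : p.Prime := Fact.out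
  obtain ⟨N, hN⟩ : ∃ N, N = Fintype.card G := ⟨_, rfl⟩
  rw [← hN]
  have hN0 : N ≠ 0 := by rw [hN]; exact Fintype.card_ne_zero
  obtain ⟨e, he⟩ : ∃ e, e = N.factorization p := ⟨_, rfl⟩
  rw [← he]
  have hNm : p ^ e * (N / p ^ e) = N := by rw [he]; exact Nat.ordProj_mul_ordCompl_eq_self N p
  have hpm : ¬ p ∣ N / p ^ e := by rw [he]; exact Nat.not_dvd_ordCompl hp hN0
  have hle : p ^ e ≤ N := by rw [he]; exact Nat.ordProj_le p hN0
  have hpc : ¬ p ∣ N.choose (N - p ^ e) := by
    rw [Nat.choose_symm hle]
    have h2 : (p ^ e * (N / p ^ e)).choose (p ^ e * 1) ≡ (N / p ^ e).choose 1 [MOD p] :=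
      Choose.choose_pow_mul_pow_mul_modEq_choose_nat
    rw [mul_one, hNm, Nat.choose_one_right] at h2
    intro hdvd
    exact hpm ((Nat.modEq_zero_iff_dvd).mp (h2.symm.trans ((Nat.modEq_zero_iff_dvd).mpr hdvd)))
  obtain ⟨v, hv⟩ := isUnit_iff_exists_inv.mp (hA _ hpc)
  let Q : Polynomial A := ∏ g : G, (Polynomial.X + Polynomial.C (g • f))
  have hQinv : ∀ h : G, Q.map (MulSemiringAction.toRingHom G A h) = Q := by
    intro h
    show (∏ g : G, (Polynomial.X + Polynomial.C (g • f))).map _ =
      ∏ g : G, (Polynomial.X + Polynomial.C (g • f))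
    rw [Polynomial.map_prod]
    refine Fintype.prod_equiv (Equiv.mulLeft h) _ _ (fun g => ?_)
    rw [Polynomial.map_add, Polynomial.map_X, Polynomial.map_C]
    show Polynomial.X + Polynomial.C (h • g • f) = Polynomial.X + Polynomial.C ((h * g) • f)
    rw [mul_smul]
  have hQI : Q.map (Ideal.Quotient.mk I) =
      (Polynomial.X + Polynomial.C (Ideal.Quotient.mk I f)) ^ N := by
    show (∏ g : G, (Polynomial.X + Polynomial.C (g • f))).map _ = _
    rw [Polynomial.map_prod, hN, ← Finset.card_univ, ← Finset.prod_const]
    refine Finset.prod_congr rfl (fun g _ => ?_)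
    rw [Polynomial.map_add, Polynomial.map_X, Polynomial.map_C]
    congr 2
    exact Ideal.Quotient.eq.mpr (hf g)
  refine ⟨v * Q.coeff (N - p ^ e), ?_, ?_⟩
  · intro g
    have h1 : ((N.choose (N - p ^ e) : ℕ) : A) * (MulSemiringAction.toRingHom G A g) v = 1 := by
      rw [← map_natCast (MulSemiringAction.toRingHom G A g), ← map_mul, hv, map_one]
    have hσv : (MulSemiringAction.toRingHom G A g) v = v := by
      calc (MulSemiringAction.toRingHom G A g) v
          = (((N.choose (N - p ^ e) : ℕ) : A) * v) * (MulSemiringAction.toRingHom G A g) v := by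
            rw [hv, one_mul]
        _ = v * (((N.choose (N - p ^ e) : ℕ) : A) * (MulSemiringAction.toRingHom G A g) v) := by
            ring
        _ = v := by rw [h1, mul_one]
    have hσq : (MulSemiringAction.toRingHom G A g) (Q.coeff (N - p ^ e)) = Q.coeff (N - p ^ e) := by
      rw [← Polynomial.coeff_map, hQinv g]
    show (MulSemiringAction.toRingHom G A g) (v * Q.coeff (N - p ^ e)) = v * Q.coeff (N - p ^ e)
    rw [map_mul, hσv, hσq]
  · rw [← Ideal.Quotient.eq, map_mul, ← Polynomial.coeff_map, hQI, Polynomial.coeff_X_add_C_pow]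
    have hsub : N - (N - p ^ e) = p ^ e := by omega
    rw [hsub, map_pow]
    have h3 : (Ideal.Quotient.mk I) v * ((N.choose (N - p ^ e) : ℕ) : A ⧸ I) = 1 := by
      rw [← map_natCast (Ideal.Quotient.mk I), ← map_mul, mul_comm, hv, map_one]
    calc (Ideal.Quotient.mk I) v *
          ((Ideal.Quotient.mk I) f ^ p ^ e * ((N.choose (N - p ^ e) : ℕ) : A ⧸ I))
        = ((Ideal.Quotient.mk I) v * ((N.choose (N - p ^ e) : ℕ) : A ⧸ I)) *
          (Ideal.Quotient.mk I f) ^ (p ^ e) := by ring
      _ = _ := by rw [h3, one_mul]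

end Groth.Agent.S13162
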