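import Groth.Statements.S13166
import Mathlib
-- import your own Groth.Agent.* helpers here

set_option autoImplicit false
universe u
open ZeroCyc

namespace Groth.Agent.S13166
theorem cover {k : Type*} [Field k] {B : Type*} [AddCommGroup B] [Module k B] (V : Submodule k B)
    {ι : Type*} (T : Finset ι) (W : ι → Submodule k B) :
    (∀ t ∈ T, ∃ w ∈ V, w ∉ W t) → ((T.card : ℕ) : Cardinal) ≤ Cardinal.mk k →
    ∃ v ∈ V, ∀ t ∈ T, v ∉ W t := by
  classical
  induction T using Finset.induction_on with
  | empty =>
    intro _ _
    exact ⟨0, V.zero_mem, fun t ht => absurd ht (Finset.notMem_empty t)⟩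
  | insert a T' ha ih =>
    intro hW hcard
    rw [Finset.card_insert_of_notMem ha] at hcard
    have hcard' : ((T'.card : ℕ) : Cardinal) ≤ Cardinal.mk k :=
      le_trans (by exact_mod_cast Nat.le_succ _) hcard
    obtain ⟨v, hvV, hv⟩ := ih (fun t ht => hW t (Finset.mem_insert_of_mem ht)) hcard'
    by_cases hva : v ∉ W a
    · refine ⟨v, hvV, fun t ht => ?_⟩
      rcases Finset.mem_insert.mp ht with rfl | ht'
      · exact hva
      · exact hv t ht'
    · push Not at hva
      obtain ⟨w, hwV, hwa⟩ := hW a (Finset.mem_insert_self a T')
      by_cases hw : ∀ t ∈ T', w ∉ W t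
      · refine ⟨w, hwV, fun t ht => ?_⟩
        rcases Finset.mem_insert.mp ht with rfl | ht'
        · exact hwa
        · exact hw t ht'
      · push Not at hw
        obtain ⟨t₀, ht₀, hwt₀⟩ := hw
        have hline_a : ∀ c : k, c ≠ 0 → v + c • w ∉ W a := by
          intro c hc hmem
          apply hwa
          have h1 : c • w ∈ W a := by
            have h0 := (W a).sub_mem hmem hva
            rwa [add_sub_cancel_left] at h0
          have h2 := (W a).smul_mem c⁻¹ h1
          rwa [smul_smul, inv_mul_cancel₀ hc, one_smul] at h2
        have hline_t0 : ∀ c : k, v + c • w ∉ W t₀ := by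
          intro c hmem
          apply hv t₀ ht₀
          have h0 := (W t₀).sub_mem hmem ((W t₀).smul_mem c hwt₀)
          rwa [add_sub_cancel_right] at h0
        have huniq : ∀ t ∈ T', ∀ c c' : k, v + c • w ∈ W t → v + c' • w ∈ W t → c = c' := by
          intro t ht c c' h1 h2
          by_contra hne
          apply hv t ht
          have h3 : (c - c') • w ∈ W t := by
            have h0 := (W t).sub_mem h1 h2
            rwa [add_sub_add_left_eq_sub, ← sub_smul] at h0
          have h4 : w ∈ W t := by
            have h0 := (W t).smul_mem (c - c')⁻¹ h3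
            rwa [smul_smul, inv_mul_cancel₀ (sub_ne_zero.mpr hne), one_smul] at h0
          have h5 := (W t).sub_mem h1 ((W t).smul_mem c h4)
          rwa [add_sub_cancel_right] at h5
        let f : ι → k := fun t => if h : ∃ c : k, v + c • w ∈ W t then h.choose else 0
        let Bad : Finset k := insert 0 ((T'.erase t₀).image f)
        have hBadcard : Bad.card ≤ T'.card := by
          calc Bad.card ≤ ((T'.erase t₀).image f).card + 1 := Finset.card_insert_le _ _
            _ ≤ (T'.erase t₀).card + 1 := Nat.add_le_add_right Finset.card_image_le 1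
            _ = T'.card := by
              rw [Finset.card_erase_of_mem ht₀]
              exact Nat.sub_add_cancel (Finset.card_pos.mpr ⟨t₀, ht₀⟩)
        obtain ⟨c, hc⟩ : ∃ c : k, c ∉ Bad := by
          by_contra hall
          push Not at hall
          have h1 : Cardinal.mk k ≤ (Bad.card : Cardinal) := by
            calc Cardinal.mk k = Cardinal.mk (Set.univ : Set k) := Cardinal.mk_univ.symm
              _ ≤ Cardinal.mk ((Bad : Finset k) : Set k) :=
                Cardinal.mk_le_mk_of_subset (fun x _ => Finset.mem_coe.mpr (hall x))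
              _ = (Bad.card : Cardinal) := Cardinal.mk_coe_finset
          have h2 : ((T'.card + 1 : ℕ) : Cardinal) ≤ ((Bad.card : ℕ) : Cardinal) :=
            le_trans hcard h1
          have h3 : T'.card + 1 ≤ Bad.card := by exact_mod_cast h2
          omega
        have hc0 : c ≠ 0 := fun h0 => hc (by rw [h0]; exact Finset.mem_insert_self _ _)
        refine ⟨v + c • w, V.add_mem hvV (V.smul_mem c hwV), fun t ht => ?_⟩
        rcases Finset.mem_insert.mp ht with rfl | ht'
        · exact hline_a c hc0
        · by_cases htt : t = t₀
          · subst htt; exact hline_t0 c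
          · intro hmem
            apply hc
            have hex : ∃ c : k, v + c • w ∈ W t := ⟨c, hmem⟩
            have hf : f t = hex.choose := dif_pos hex
            have hcf : c = f t := by
              rw [hf]; exact huniq t ht' c _ hmem hex.choose_spec
            rw [hcf]
            exact Finset.mem_insert_of_mem
              (Finset.mem_image_of_mem f (Finset.mem_erase.mpr ⟨htt, ht'⟩))


/-- Let k be a field, B a k-algebra generated as an algebra by a k-subspace V, k'/k a field extension
and x_1, …, x_d pairwise distinct k'-points of B ⊗_k k' (equivalently, distinct k-algebra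
homomorphisms B → k'). If k has at least d(d − 1)/2 elements, then there is b ∈ V whose values at
x_1, …, x_d are pairwise distinct. -/
theorem result {k : Type u} [Field k] {B : Type u} [CommRing B] [Algebra k B] (V : Submodule k B)
    (hV : Algebra.adjoin k (V : Set B) = ⊤) {k' : Type u} [Field k'] [Algebra k k']
    {d : ℕ} (x : Fin d → (B →ₐ[k] k')) (hx : Function.Injective x)
    (hk : ((d.choose 2 : ℕ) : Cardinal) ≤ Cardinal.mk k) :
    ∃ b ∈ V, Function.Injective fun i => x i b := by
  classical
  let W : Finset (Fin d) → Submodule k B := fun s =>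
    ⨅ a ∈ s, ⨅ c ∈ s, LinearMap.ker ((x a).toLinearMap - (x c).toLinearMap)
  have hWmem : ∀ (s : Finset (Fin d)) (b : B), b ∈ W s ↔ ∀ a ∈ s, ∀ c ∈ s, x a b = x c b := by
    intro s b
    simp only [W, Submodule.mem_iInf, LinearMap.mem_ker, LinearMap.sub_apply,
      AlgHom.toLinearMap_apply, sub_eq_zero]
  have hT : ∀ s ∈ Finset.powersetCard 2 (Finset.univ : Finset (Fin d)), ∃ w ∈ V, w ∉ W s := by
    intro s hs
    rw [Finset.mem_powersetCard] at hs
    obtain ⟨i, j, hij, rfl⟩ := Finset.card_eq_two.mp hs.2
    by_contra hcon
    push Not at hcon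
    apply hij
    apply hx
    apply AlgHom.ext_of_adjoin_eq_top hV
    intro b hb
    exact (hWmem _ b).mp (hcon b hb) i (by simp) j (by simp)
  have hcard : (((Finset.powersetCard 2 (Finset.univ : Finset (Fin d))).card : ℕ) : Cardinal) ≤
      Cardinal.mk k := by
    rw [Finset.card_powersetCard, Finset.card_univ, Fintype.card_fin]; exact hk
  obtain ⟨b, hbV, hb⟩ := cover V _ W hT hcard
  refine ⟨b, hbV, fun i j hij => ?_⟩
  by_contra hne
  have hs : ({i, j} : Finset (Fin d)) ∈ Finset.powersetCard 2 (Finset.univ : Finset (Fin d)) := by
    rw [Finset.mem_powersetCard]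
    exact ⟨Finset.subset_univ _, Finset.card_pair hne⟩
  apply hb _ hs
  rw [hWmem]
  intro a ha c hc
  simp only [Finset.mem_insert, Finset.mem_singleton] at ha hc
  rcases ha with rfl | rfl <;> rcases hc with rfl | rfl
  · rfl
  · exact hij
  · exact hij.symm
  · rfl

end Groth.Agent.S13166
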