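import Groth.Statements.S13168
import Mathlib
import Groth.Agent.Lib.lead.GrMon
-- import your own Groth.Agent.* helpers here

set_option autoImplicit false
universe u
open AlgebraicGeometry
open ZeroCyc

namespace Groth.Agent.S13168
open Groth.Agent.Lib.lead.GrMon


/-- Let B be a graded R-algebra generated by homogeneous elements f_1, …, f_s of positive degrees d_1,
…, d_s, let l be the least common multiple of the d_i and X = Proj B. For n = a l with a ≥ 1, X is
the union of the opens D_+(g), g ∈ B_n. -/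
theorem result {R A : Type u} [CommRing R] [CommRing A] [Algebra R A] (𝒜 : ℕ → Submodule R A) [GradedAlgebra 𝒜]
    {s : ℕ} (f : Fin s → A) (deg : Fin s → ℕ) (hdeg : ∀ i, 0 < deg i) (hf : ∀ i, f i ∈ 𝒜 (deg i))
    (hgen : Algebra.adjoin R (Set.range f) = ⊤) (a : ℕ) (ha : 0 < a) :
    (⨆ g : 𝒜 (a * Finset.univ.lcm deg), Proj.basicOpen 𝒜 (g : A)) = ⊤ := by
  classical
  refine top_le_iff.mp fun x _ => TopologicalSpace.Opens.mem_iSup.mpr ?_
  have hex : ∃ i, f i ∉ x.asHomogeneousIdeal.toIdeal := by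
    by_contra hcon
    push Not at hcon
    refine x.not_irrelevant_le (fun y hy => ?_)
    have hy0 : GradedRing.proj 𝒜 0 y = 0 := (HomogeneousIdeal.mem_irrelevant_iff 𝒜 y).1 hy
    show y ∈ x.asHomogeneousIdeal.toIdeal
    rw [← DirectSum.sum_support_decompose 𝒜 y]
    refine Ideal.sum_mem _ fun m _ => ?_
    rcases Nat.eq_zero_or_pos m with rfl | hm
    · have : ((DirectSum.decompose 𝒜 y 0 : 𝒜 0) : A) = 0 := hy0
      rw [this]; exact Ideal.zero_mem _
    · exact pos_mem 𝒜 f deg hf hgen _ hcon m hm _ (SetLike.coe_mem _)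
  obtain ⟨i, hi⟩ := hex
  obtain ⟨q, hq⟩ := Finset.dvd_lcm (Finset.mem_univ i) (f := deg)
  have hg : f i ^ (a * q) ∈ 𝒜 (a * Finset.univ.lcm deg) := by
    have h3 : f i ^ (a * q) ∈ 𝒜 ((a * q) • deg i) := SetLike.pow_mem_graded (A := 𝒜) (a * q) (hf i)
    have e : (a * q) • deg i = a * Finset.univ.lcm deg := by
      rw [smul_eq_mul, hq]; ring
    rw [e] at h3
    exact h3
  refine ⟨⟨f i ^ (a * q), hg⟩, ?_⟩
  rw [AlgebraicGeometry.Proj.mem_basicOpen]
  intro hmem
  exact hi (x.isPrime.mem_of_pow_mem _ hmem)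

end Groth.Agent.S13168
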