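import Groth.Statements.S13175
import Mathlib
-- import your own Groth.Agent.* helpers here

set_option autoImplicit false
universe u v w
open scoped TensorProduct
open ZeroCyc

namespace Groth.Agent.S13175

theorem rTensor_mul' {A : Type*} [CommRing A] {P S : Type*} [CommRing P] [Algebra A P] [CommRing S]
    [Algebra A S] (ψ : P →ₐ[A] S) (D : Type*) [CommRing D] [Algebra A D] (x y : P ⊗[A] D) :
    ψ.toLinearMap.rTensor D (x * y) = ψ.toLinearMap.rTensor D x * ψ.toLinearMap.rTensor D y := by
  have h0 : ∀ z, ψ.toLinearMap.rTensor D z = Algebra.TensorProduct.map ψ (AlgHom.id A D) z := by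
    intro z
    induction z using TensorProduct.induction_on with
    | zero => simp
    | tmul a d => simp
    | add z w hz hw => rw [map_add, map_add, hz, hw]
  rw [h0, h0, h0, map_mul]


/-- Let B and C be A-algebras and F : B → C a polynomial law. If the maps F over the polynomial rings
A[t_1, …, t_n], n ≥ 0, are multiplicative (send 1 to 1 and products to products), then F is a
multiplicative law: F sends 1 to 1 and products to products over every A-algebra. -/
theorem result {A : Type u} [CommRing A] {B : Type v} [CommRing B] [Algebra A B] {C : Type w} [CommRing C] [Algebra A C]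
    (F : B →ₚₗ[A] C)
    (h1 : ∀ n : ℕ, F.toFun' (MvPolynomial (Fin n) A) 1 = 1)
    (hmul : ∀ (n : ℕ) (x y : MvPolynomial (Fin n) A ⊗[A] B),
      F.toFun' (MvPolynomial (Fin n) A) (x * y) = F.toFun' (MvPolynomial (Fin n) A) x * F.toFun' (MvPolynomial (Fin n) A) y) :
    ∀ (S : Type u) [CommRing S] [Algebra A S], F.toFun' S 1 = 1 ∧
      ∀ x y : S ⊗[A] B, F.toFun' S (x * y) = F.toFun' S x * F.toFun' S y := by
  intro S _ _
  constructor
  · let ψ : MvPolynomial (Fin 0) A →ₐ[A] S := MvPolynomial.aeval (fun i => Fin.elim0 i)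
    have e1 : ψ.toLinearMap.rTensor B (1 : MvPolynomial (Fin 0) A ⊗[A] B) = 1 := by
      rw [Algebra.TensorProduct.one_def, LinearMap.rTensor_tmul]
      simp [Algebra.TensorProduct.one_def]
    have e2 : ψ.toLinearMap.rTensor C (1 : MvPolynomial (Fin 0) A ⊗[A] C) = 1 := by
      rw [Algebra.TensorProduct.one_def, LinearMap.rTensor_tmul]
      simp [Algebra.TensorProduct.one_def]
    rw [← e1, ← F.isCompat_apply' ψ, h1 0, e2]
  · intro x y
    obtain ⟨A₁, hA₁, hx⟩ := TensorProduct.Algebra.exists_of_fg x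
    obtain ⟨A₂, hA₂, hy⟩ := TensorProduct.Algebra.exists_of_fg y
    obtain ⟨s, hs⟩ := PolynomialLaw.exists_range_φ_eq_of_fg (R := A) (hA₁.sup hA₂)
    have hle₁ : A₁ ≤ (PolynomialLaw.φ A s).range := by rw [hs]; exact le_sup_left
    have hle₂ : A₂ ≤ (PolynomialLaw.φ A s).range := by rw [hs]; exact le_sup_right
    obtain ⟨P, hP⟩ := PolynomialLaw.exists_lift_of_mem_range_rTensor A₁ hle₁ hx
    obtain ⟨Q, hQ⟩ := PolynomialLaw.exists_lift_of_mem_range_rTensor A₂ hle₂ hy
    rw [← hP, ← hQ, ← rTensor_mul', ← F.isCompat_apply', ← F.isCompat_apply', ← F.isCompat_apply',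
      hmul, rTensor_mul']

end Groth.Agent.S13175
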