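import Groth.Statements.S13185
import Groth.Agent.Lib.helper6.GpH1Lib

set_option autoImplicit false
universe u v w x
open GalCoh

namespace Groth.Agent.S13185

/-- Let a group G act by automorphisms on groups A, B, C and let 1 → A → B → C → 1 (maps ι, π) be a
G-equivariant short exact sequence. For G-fixed elements c, c' of C, the connecting map to H¹(G, A)
takes equal values on c and c' if and only if c' = π(b) · c for some G-fixed b in B: the fibres of
the connecting map are the orbits of the fixed points of B acting on the fixed points of C by left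
multiplication. (The published statement is for a Galois group acting on discrete modules; this row
takes an arbitrary group acting on groups, which is what the argument proves.) -/
theorem result {G : Type u} {A : Type v} {B : Type w} {C : Type x}
    [Group G] [Group A] [Group B] [Group C]
    [MulDistribMulAction G A] [MulDistribMulAction G B] [MulDistribMulAction G C]
    {ι : A →* B} {π : B →* C} (h : GpH1.IsGExt G ι π)
    (c c' : MulAction.fixedPoints G C) :
    GpH1.delta0 h c = GpH1.delta0 h c' ↔
      ∃ b : B, b ∈ MulAction.fixedPoints G B ∧ (c' : C) = π b * (c : C) := by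
  constructor
  · intro heq
    set b₀ := (h.surjective c.1).choose with hb₀
    have hb₀c : π b₀ = c.1 := (h.surjective c.1).choose_spec
    have hfix : π b₀ ∈ MulAction.fixedPoints G C := hb₀c.symm ▸ c.2
    set b₁ := (h.surjective c'.1).choose with hb₁
    have hb₁c : π b₁ = c'.1 := (h.surjective c'.1).choose_spec
    have hfix' : π b₁ ∈ MulAction.fixedPoints G C := hb₁c.symm ▸ c'.2
    have h1 : GpH1.delta0 h c = (h.cocycleOfLift b₀ hfix).cl := rfl
    have h1' : GpH1.delta0 h c' = (h.cocycleOfLift b₁ hfix').cl := rfl
    rw [h1, h1', GpH1.OneCocycle.cl_eq_cl_iff] at heq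
    obtain ⟨a, ha⟩ := heq
    refine ⟨b₁ * ι a * b₀⁻¹, fun σ => ?_, ?_⟩
    · have h3 := congrArg ι (ha σ)
      rw [h.ι_cocycleOfLift, map_mul, map_mul, map_inv, h.smul_ι, h.ι_cocycleOfLift] at h3
      rw [smul_mul', smul_mul', smul_inv']
      have h5 : σ • b₀ = b₀ * ((ι a)⁻¹ * (b₁⁻¹ * σ • b₁) * σ • ι a) := by rw [← h3]; group
      rw [h5]
      group
    · rw [map_mul, map_mul, map_inv, hb₀c, hb₁c]
      have : π (ι a) = 1 := (h.exact _).2 ⟨a, rfl⟩
      rw [this, mul_one, inv_mul_cancel_right]
  · rintro ⟨b, hbfix, hbc⟩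
    set b₀ := (h.surjective c.1).choose with hb₀
    have hb₀c : π b₀ = c.1 := (h.surjective c.1).choose_spec
    have hfix : π b₀ ∈ MulAction.fixedPoints G C := hb₀c.symm ▸ c.2
    have h1 : GpH1.delta0 h c = (h.cocycleOfLift b₀ hfix).cl := rfl
    have hlift : π (b * b₀) = c'.1 := by rw [map_mul, hb₀c, hbc]
    rw [h1, H6GpH1.delta0_eq_cl h c' (b * b₀) hlift, GpH1.OneCocycle.cl_eq_cl_iff]
    refine ⟨1, fun σ => ?_⟩
    apply h.injective
    rw [map_mul, map_mul, map_inv, map_one, h.smul_ι, map_one, smul_one, h.ι_cocycleOfLift,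
      h.ι_cocycleOfLift, smul_mul', hbfix σ]
    group

end Groth.Agent.S13185
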