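import Groth.Statements.S13188

set_option autoImplicit false
universe u v w
open Brauer

namespace Groth.Agent.S13188

/-- Let K be a field with property C_2 for systems of forms and D a finite-dimensional central division
algebra over K with dim_K D = d². Let N : D → K be multiplicative, a reduced norm of D over K, and
given in the coordinates of a K-basis b of D by a homogeneous polynomial F of degree d, i.e. N(Σ x_i
b_i) = F(x) for every coordinate vector x (the reduced norm of a central simple algebra of dimension
d² is such a polynomial map of degree d; these data record it). Then N : D → K is surjective. -/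
theorem result (K : Type u) [Field K] (hK : Curves.IsCi K 2)
    (D : Type v) [DivisionRing D] [Algebra K D] [Algebra.IsCentral K D] [FiniteDimensional K D]
    (d : ℕ) (hd : Module.finrank K D = d ^ 2)
    (N : D →* K) (hN : CSAGal.IsRedNorm K D N)
    {ι : Type w} [Fintype ι] (b : Module.Basis ι K D)
    (F : MvPolynomial ι K) (hF : F.IsHomogeneous d)
    (hNF : ∀ x : ι → K, N (∑ i, x i • b i) = MvPolynomial.eval x F) :
    Function.Surjective N := by
  classical
  intro c
  have hdpos : 0 < d := by
    have h1 : 0 < Module.finrank K D := Module.finrank_pos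
    rw [hd] at h1
    rcases Nat.eq_zero_or_pos d with h | h
    · rw [h] at h1; simp at h1
    · exact h
  have hcard : Fintype.card ι = d ^ 2 := by
    rw [← hd]; exact (Module.finrank_eq_card_basis b).symm
  have hscale : ∀ (s : K) (x : ι → K),
      MvPolynomial.eval (fun i => s * x i) F = s ^ d * MvPolynomial.eval x F := by
    intro s x
    rw [MvPolynomial.eval_eq, MvPolynomial.eval_eq, Finset.mul_sum]
    refine Finset.sum_congr rfl (fun m hm => ?_)
    have h1 : ∏ i ∈ m.support, (s * x i) ^ m i = s ^ d * ∏ i ∈ m.support, x i ^ m i := by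
      simp_rw [mul_pow]
      rw [Finset.prod_mul_distrib, Finset.prod_pow_eq_pow_sum,
        ← hF.degree_eq_sum_deg_support hm]
    rw [h1]; ring
  have hNne : ∀ y : D, y ≠ 0 → N y ≠ 0 := by
    intro y hy h0
    have : N y * N y⁻¹ = 1 := by rw [← map_mul, mul_inv_cancel₀ hy, map_one]
    rw [h0, zero_mul] at this
    exact zero_ne_one this
  have hmcard : Fintype.card (Option ι) = d ^ 2 + 1 := by rw [Fintype.card_option, hcard]
  let e : Option ι ≃ Fin (Fintype.card (Option ι)) := Fintype.equivFin _
  let G' : MvPolynomial (Option ι) K :=
    MvPolynomial.rename some F - MvPolynomial.C c * MvPolynomial.X none ^ d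
  have hG' : G'.IsHomogeneous d := by
    refine MvPolynomial.IsHomogeneous.sub hF.rename_isHomogeneous ?_
    exact MvPolynomial.isHomogeneous_C_mul_X_pow c none d
  have hG : (MvPolynomial.rename e G').IsHomogeneous d := hG'.rename_isHomogeneous
  have hlt : (∑ ρ : Fin 1, (fun _ : Fin 1 => d) ρ ^ 2) < Fintype.card (Option ι) := by
    rw [hmcard]; simp
  obtain ⟨a, ha0, ha⟩ := hK 1 _ (fun _ => MvPolynomial.rename e G') (fun _ => d)
    (fun _ => hG) (fun _ => hdpos) hlt
  have haG := ha 0
  simp only [G', MvPolynomial.eval_rename, map_sub, map_mul, map_pow, MvPolynomial.eval_C,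
    MvPolynomial.eval_X, Function.comp_apply] at haG
  have hxt : MvPolynomial.eval (fun i => a (e (some i))) F = c * a (e none) ^ d := by
    have := haG; rw [sub_eq_zero] at this; exact this
  generalize hxdef : (fun i => a (e (some i)) : ι → K) = x at hxt
  generalize htdef : a (e none) = t at hxt
  by_cases ht0 : t = 0
  · exfalso
    have h1 : N (∑ i, x i • b i) = 0 := by
      rw [hNF, hxt, ht0, zero_pow hdpos.ne', mul_zero]
    have h2 : ∑ i, x i • b i = 0 := by
      by_contra h; exact hNne _ h h1
    have h3 : ∀ i, x i = 0 :=
      fun i => Fintype.linearIndependent_iff.mp b.linearIndependent x h2 i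
    apply ha0
    funext j
    obtain ⟨o, rfl⟩ := e.surjective j
    cases o with
    | none => rw [htdef]; exact ht0
    | some i => have := h3 i; rw [← hxdef] at this; exact this
  · refine ⟨∑ i, (t⁻¹ * x i) • b i, ?_⟩
    rw [hNF (fun i => t⁻¹ * x i), hscale, hxt, inv_pow, mul_comm c, ← mul_assoc,
      inv_mul_cancel₀ (pow_ne_zero d ht0), one_mul]

end Groth.Agent.S13188
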