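import Groth.Statements.S13189
import Mathlib
-- import your own Groth.Agent.* helpers here

set_option autoImplicit false
universe u
open CAlg

namespace Groth.Agent.S13189
open MvPolynomial in
theorem reduce_monomial (K : Type*) [Field K] [Fintype K] (n : ℕ) :
    ∀ (N : ℕ) (m : Fin n →₀ ℕ) (a : K), m.degree = N →
      ∃ p' ∈ restrictDegree (Fin n) K (Fintype.card K - 1),
        monomial m a - p' ∈ Ideal.span (Set.range fun i : Fin n =>
          (X i ^ Fintype.card K - X i : MvPolynomial (Fin n) K)) := by
  classical
  have hq2 : 2 ≤ Fintype.card K := Fintype.one_lt_card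
  intro N
  induction N using Nat.strong_induction_on with
  | _ N ih =>
    intro m a hm
    by_cases hall : ∀ i, m i ≤ Fintype.card K - 1
    · refine ⟨monomial m a, ?_, by rw [sub_self]; exact Ideal.zero_mem _⟩
      rw [mem_restrictDegree]
      intro s hs i
      have h1 := support_monomial_subset hs
      rw [Finset.mem_singleton] at h1
      rw [h1]; exact hall i
    · push Not at hall
      obtain ⟨i, hi⟩ := hall
      have hle : Finsupp.single i (Fintype.card K) ≤ m := by
        refine Finsupp.le_def.mpr (fun j => ?_)
        rw [Finsupp.single_apply]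
        split_ifs with hij
        · subst hij; omega
        · exact Nat.zero_le _
      obtain ⟨m₀, hm₀⟩ := exists_add_of_le hle
      have hm1 : m = m₀ + Finsupp.single i (Fintype.card K) := by rw [hm₀, add_comm]
      have hdeg : (m₀ + Finsupp.single i 1).degree < N := by
        rw [← hm, hm1, map_add, map_add, Finsupp.degree_single, Finsupp.degree_single]
        omega
      obtain ⟨p', hp', hdiff⟩ := ih _ hdeg (m₀ + Finsupp.single i 1) a rfl
      refine ⟨p', hp', ?_⟩
      have hgen : (X i ^ Fintype.card K - X i : MvPolynomial (Fin n) K) ∈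
          Ideal.span (Set.range fun i : Fin n =>
            (X i ^ Fintype.card K - X i : MvPolynomial (Fin n) K)) :=
        Ideal.subset_span ⟨i, rfl⟩
      have h2 : monomial m a - p' =
          monomial m₀ a * (X i ^ Fintype.card K - X i) +
          (monomial (m₀ + Finsupp.single i 1) a - p') := by
        rw [hm1, monomial_add_single, monomial_add_single, pow_one]
        ring
      rw [h2]
      exact Ideal.add_mem _ (Ideal.mul_mem_left _ _ hgen) hdiff

open MvPolynomial in
theorem eq_zero_of_eval_eq_zero' (K : Type u) [Field K] [Fintype K] (n : ℕ)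
    (p : MvPolynomial (Fin n) K) (h : ∀ v, eval v p = 0)
    (hp : p ∈ restrictDegree (Fin n) K (Fintype.card K - 1)) : p = 0 := by
  classical
  let e : Fin n ≃ ULift.{u} (Fin n) := Equiv.ulift.symm
  have h1 : rename e p = 0 := by
    apply MvPolynomial.eq_zero_of_eval_eq_zero (ULift.{u} (Fin n)) K (rename e p)
    · intro v
      rw [eval_rename]; exact h _
    · rw [mem_restrictDegree]
      intro s hs j
      rw [support_rename_of_injective e.injective, Finset.mem_image] at hs
      obtain ⟨s₀, hs₀, rfl⟩ := hs
      rw [Finsupp.mapDomain_equiv_apply]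
      exact (mem_restrictDegree (Fin n) p _).mp hp s₀ hs₀ _
  exact rename_injective e e.injective (by rw [h1, map_zero])


/-- For a finite field K of cardinality q and n ≥ 0, a polynomial p in n variables over K vanishes at
every point of K^n if and only if p belongs to the ideal generated by the X_i^q − X_i, i = 1, …, n;
in other words that ideal is the kernel of the evaluation homomorphism from K[X_1, …, X_n] to the
ring of K-valued functions on K^n. -/
theorem result (K : Type u) [Field K] [Fintype K]
    (n : ℕ) (p : MvPolynomial (Fin n) K) :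
    (∀ a : Fin n → K, MvPolynomial.eval a p = 0) ↔
      p ∈ Ideal.span (Set.range fun i : Fin n =>
        (MvPolynomial.X i ^ Fintype.card K - MvPolynomial.X i : MvPolynomial (Fin n) K)) := by
  classical
  have hI0 : ∀ z ∈ Ideal.span (Set.range fun i : Fin n =>
      (MvPolynomial.X i ^ Fintype.card K - MvPolynomial.X i : MvPolynomial (Fin n) K)),
      ∀ a : Fin n → K, MvPolynomial.eval a z = 0 := by
    intro z hz a
    have hle : Ideal.span (Set.range fun i : Fin n =>
        (MvPolynomial.X i ^ Fintype.card K - MvPolynomial.X i : MvPolynomial (Fin n) K)) ≤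
        RingHom.ker (MvPolynomial.eval a) := by
      rw [Ideal.span_le]
      rintro _ ⟨i, rfl⟩
      rw [SetLike.mem_coe, RingHom.mem_ker, map_sub, map_pow, MvPolynomial.eval_X,
        FiniteField.pow_card, sub_self]
    exact RingHom.mem_ker.mp (hle hz)
  constructor
  · intro hvan
    have hT : p ∈ (MvPolynomial.restrictDegree (Fin n) K (Fintype.card K - 1)) ⊔
        (Ideal.span (Set.range fun i : Fin n => (MvPolynomial.X i ^ Fintype.card K -
          MvPolynomial.X i : MvPolynomial (Fin n) K))).restrictScalars K := by
      rw [← MvPolynomial.support_sum_monomial_coeff p]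
      refine Submodule.sum_mem _ (fun v _ => ?_)
      obtain ⟨p', hp', hdiff⟩ := reduce_monomial K n _ v (MvPolynomial.coeff v p) rfl
      exact Submodule.mem_sup.mpr ⟨p', hp', _, hdiff, add_sub_cancel _ _⟩
    obtain ⟨p', hp', z, hz, hpz⟩ := Submodule.mem_sup.mp hT
    have hz' : z ∈ Ideal.span (Set.range fun i : Fin n => (MvPolynomial.X i ^ Fintype.card K -
        MvPolynomial.X i : MvPolynomial (Fin n) K)) := hz
    have hp'0 : p' = 0 := by
      apply eq_zero_of_eval_eq_zero' K n p' _ hp'
      intro a
      have h1 := hvan a
      rw [← hpz, map_add, hI0 z hz' a, add_zero] at h1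
      exact h1
    rw [← hpz, hp'0, zero_add]
    exact hz'
  · intro hp a
    exact hI0 p hp a

end Groth.Agent.S13189
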