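import Groth.Statements.S13191
import Mathlib

set_option autoImplicit false
universe u v w x
open GalCoh

namespace Groth.Agent.S13191

/-- Let a group G act by automorphisms on a group A, and let E and E' each be a G-equivariant right
A-torsor (a set with a simply transitive right action of A, written m ↦ m·a, and a left action of G
with g(m·a) = (gm)·(ga)). Let m ∈ E and m' ∈ E' be points with attached maps a, a' : G → A (g·m =
m·a(g) and g·m' = m'·a'(g) for all g). Then there is a bijection E ≃ E' commuting with the actions
of G and of A if and only if a and a' are cohomologous. (The published statement is for a Galois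
group acting on discrete modules; this row takes an arbitrary group acting on a group.) -/
theorem result {G : Type u} {A : Type v} {E : Type w} {E' : Type x}
    [Group G] [Group A] [MulDistribMulAction G A]
    [MulAction G E] [MulAction Aᵐᵒᵖ E]
    (hfree : ∀ m₁ m₂ : E, ∃! a : A, m₂ = MulOpposite.op a • m₁)
    (hcompat : ∀ (g : G) (a : A) (m : E), g • (MulOpposite.op a • m) = MulOpposite.op (g • a) • g • m)
    [MulAction G E'] [MulAction Aᵐᵒᵖ E']
    (hfree' : ∀ m₁ m₂ : E', ∃! a : A, m₂ = MulOpposite.op a • m₁)
    (hcompat' : ∀ (g : G) (a : A) (m : E'), g • (MulOpposite.op a • m) = MulOpposite.op (g • a) • g • m)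
    (m : E) (a : G → A) (ha : ∀ g : G, g • m = MulOpposite.op (a g) • m)
    (m' : E') (a' : G → A) (ha' : ∀ g : G, g • m' = MulOpposite.op (a' g) • m') :
    (∃ f : E ≃ E', (∀ (g : G) (e : E), f (g • e) = g • f e) ∧
        ∀ (b : A) (e : E), f (MulOpposite.op b • e) = MulOpposite.op b • f e) ↔
      GpH1.Cohomologous a a' := by
  -- coordinates on the two torsors
  have hop : ∀ (x y : A) (e : E'),
      MulOpposite.op y • MulOpposite.op x • e = MulOpposite.op (x * y) • e := by
    intro x y e
    rw [← mul_smul, ← MulOpposite.op_mul]
  have hopE : ∀ (x y : A) (e : E),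
      MulOpposite.op y • MulOpposite.op x • e = MulOpposite.op (x * y) • e := by
    intro x y e
    rw [← mul_smul, ← MulOpposite.op_mul]
  constructor
  · rintro ⟨f, hfG, hfA⟩
    obtain ⟨c, hc, -⟩ := hfree' m' (f m)
    refine ⟨c, fun σ => ?_⟩
    have h1 : f (σ • m) = MulOpposite.op (c * a σ) • m' := by
      rw [ha σ, hfA, hc, hop]
    have h2 : f (σ • m) = MulOpposite.op (a' σ * σ • c) • m' := by
      rw [hfG, hc, hcompat', ha' σ, hop]
    obtain ⟨y, _, hy⟩ := hfree' m' (f (σ • m))
    have h3 : c * a σ = a' σ * σ • c := by rw [hy _ h1, hy _ h2]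
    calc a σ = c⁻¹ * (c * a σ) := by group
      _ = c⁻¹ * a' σ * σ • c := by rw [h3]; group
  · rintro ⟨c, hc⟩
    choose coord hcoord hcoord_uniq using hfree m
    choose coord' hcoord' hcoord'_uniq using hfree' m'
    have hcoord_op : ∀ x : A, coord (MulOpposite.op x • m) = x := fun x =>
      (hcoord_uniq _ x rfl).symm
    have hcoord'_op : ∀ x : A, coord' (MulOpposite.op x • m') = x := fun x =>
      (hcoord'_uniq _ x rfl).symm
    let f : E → E' := fun e => MulOpposite.op (c * coord e) • m'
    let g : E' → E := fun e' => MulOpposite.op (c⁻¹ * coord' e') • m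
    have hfg : ∀ e, g (f e) = e := by
      intro e
      change MulOpposite.op (c⁻¹ * coord' (MulOpposite.op (c * coord e) • m')) • m = e
      rw [hcoord'_op, inv_mul_cancel_left, ← hcoord]
    have hgf : ∀ e', f (g e') = e' := by
      intro e'
      change MulOpposite.op (c * coord (MulOpposite.op (c⁻¹ * coord' e') • m)) • m' = e'
      rw [hcoord_op, mul_inv_cancel_left, ← hcoord']
    refine ⟨⟨f, g, hfg, hgf⟩, ?_, ?_⟩
    · intro σ e
      change MulOpposite.op (c * coord (σ • e)) • m' = σ • (MulOpposite.op (c * coord e) • m')
      have h1 : σ • e = MulOpposite.op (a σ * σ • coord e) • m := by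
        conv_lhs => rw [hcoord e]
        rw [hcompat, ha σ, hopE]
      rw [h1, hcoord_op, hcompat', ha' σ, hop, hc σ, smul_mul']
      congr 2
      group
    · intro b e
      change MulOpposite.op (c * coord (MulOpposite.op b • e)) • m' =
        MulOpposite.op b • MulOpposite.op (c * coord e) • m'
      have h1 : MulOpposite.op b • e = MulOpposite.op (coord e * b) • m := by
        conv_lhs => rw [hcoord e]
        rw [hopE]
      rw [h1, hcoord_op, hop, mul_assoc]

end Groth.Agent.S13191
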