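import Groth.Statements.S13196
import Mathlib
-- import your own Groth.Agent.* helpers here

set_option autoImplicit false
universe u
open GalCoh

namespace Groth.Agent.S13196
theorem addH90 (K M : Type u) [Field K] [Field M] [Algebra K M] [FiniteDimensional K M]
    [IsGalois K M] (f : (M ≃ₐ[K] M) → M) (hf : ∀ s t, f (s * t) = f s + s (f t)) :
    ∃ y : M, ∀ s, f s = s y - y := by
  classical
  obtain ⟨θ, hθ⟩ := Algebra.trace_surjective K M 1
  have hsum : ∑ τ : M ≃ₐ[K] M, τ θ = 1 := by
    rw [← trace_eq_sum_automorphisms, hθ, map_one]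
  refine ⟨-∑ τ : M ≃ₐ[K] M, f τ * τ θ, fun s => ?_⟩
  have h1 : s (∑ τ : M ≃ₐ[K] M, f τ * τ θ) =
      ∑ τ : M ≃ₐ[K] M, (f (s * τ) - f s) * (s * τ) θ := by
    rw [map_sum]
    refine Finset.sum_congr rfl fun τ _ => ?_
    rw [map_mul, hf s τ, AlgEquiv.mul_apply]; ring
  have h2 : ∑ τ : M ≃ₐ[K] M, (f (s * τ) - f s) * (s * τ) θ =
      ∑ ρ : M ≃ₐ[K] M, (f ρ - f s) * ρ θ :=
    Fintype.sum_bijective (fun τ => s * τ) (Group.mulLeft_bijective s) _ _ (fun _ => rfl)
  rw [map_neg, h1, h2]
  simp only [sub_mul, Finset.sum_sub_distrib, ← Finset.mul_sum, hsum, mul_one]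
  ring


/-- Let K be a field and L a separable closure of K. Every map a from the automorphism group of L over K
to L which is locally constant for the Krull topology and satisfies a(στ) = a(σ) + σ(a(τ)) for all
σ, τ is of the form a(σ) = σ(y) − y for a single y in L. (The published statement asserts vanishing
in every positive degree; this row is the degree-one statement for the absolute Galois group with
continuous cochains.) -/
theorem result (K L : Type u) [Field K] [Field L] [Algebra K L]
    [IsSepClosure K L] (a : (L ≃ₐ[K] L) → L)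
    (ha : ∀ σ τ : L ≃ₐ[K] L, a (σ * τ) = a σ + σ (a τ)) (hlc : IsLocallyConstant a) :
    ∃ y : L, ∀ σ : L ≃ₐ[K] L, a σ = σ y - y := by
  classical
  have : IsGalois K L := inferInstance
  have h1 : a 1 = 0 := by
    have h := ha 1 1
    rw [one_mul, AlgEquiv.one_apply] at h
    linear_combination (-1 : L) * h
  have hU : {σ | a σ = a 1} ∈ nhds (1 : L ≃ₐ[K] L) := (hlc.isOpen_fiber (a 1)).mem_nhds rfl
  obtain ⟨M, hMfin, hMnorm, hMU⟩ := (krullTopology_mem_nhds_one_iff_of_normal K L _).1 hU
  have := hMfin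
  have := hMnorm
  let φ : (L ≃ₐ[K] L) →* (M ≃ₐ[K] M) := AlgEquiv.restrictNormalHom M
  have hφsurj : Function.Surjective φ := AlgEquiv.restrictNormalHom_surjective L
  have hker : ∀ h : L ≃ₐ[K] L, φ h = 1 → a h = 0 := by
    intro h hh
    have hmemH : h ∈ M.fixingSubgroup := by
      rw [← M.restrictNormalHom_ker]; exact hh
    have h2 := hMU hmemH
    rw [← h1]; exact h2
  have hφeq : ∀ σ τ, φ σ = φ τ → a σ = a τ := by
    intro σ τ hst
    have hk : φ (σ⁻¹ * τ) = 1 := by rw [map_mul, map_inv, hst, inv_mul_cancel]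
    have e : τ = σ * (σ⁻¹ * τ) := by group
    rw [e, ha, hker _ hk, map_zero, add_zero]
  have hfix : ∀ (h : L ≃ₐ[K] L), φ h = 1 → ∀ σ, h (a σ) = a σ := by
    intro h hh σ
    have e1 : a (h * σ) = a σ := hφeq _ _ (by rw [map_mul, hh, one_mul])
    rw [ha, hker h hh, zero_add] at e1
    exact e1
  have hmem : ∀ σ, a σ ∈ M := by
    intro σ
    have hm : a σ ∈ IntermediateField.fixedField M.fixingSubgroup := by
      rw [IntermediateField.mem_fixedField_iff]
      intro h hh
      have hh' : φ h = 1 := by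
        have : h ∈ (AlgEquiv.restrictNormalHom M).ker := by
          rw [M.restrictNormalHom_ker]; exact hh
        exact this
      exact hfix h hh' σ
    rwa [InfiniteGalois.fixedField_fixingSubgroup] at hm
  choose lift hlift using hφsurj
  let a' : (M ≃ₐ[K] M) → M := fun s => ⟨a (lift s), hmem (lift s)⟩
  have hact : ∀ (σ : L ≃ₐ[K] L) (m : M), ((φ σ m : M) : L) = σ (m : L) :=
    fun σ m => AlgEquiv.restrictNormal_commutes σ M m
  have hcoc : ∀ s t, a' (s * t) = a' s + s (a' t) := by
    intro s t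
    apply Subtype.ext
    have e1 : a (lift (s * t)) = a (lift s * lift t) :=
      hφeq _ _ (by rw [map_mul, hlift, hlift, hlift])
    rw [ha] at e1
    have e3 : ((s (a' t) : M) : L) = (lift s) (a (lift t)) := by
      have h3 := hact (lift s) (a' t)
      rw [hlift] at h3
      exact h3
    show a (lift (s * t)) = a (lift s) + ((s (a' t) : M) : L)
    rw [e3]; exact e1
  have : Algebra.IsSeparable K M := Algebra.isSeparable_tower_bot_of_isSeparable K M L
  have : IsGalois K M := ⟨⟩
  obtain ⟨y, hy⟩ := addH90 K M a' hcoc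
  refine ⟨(y : L), fun σ => ?_⟩
  have e1 : a σ = a (lift (φ σ)) := hφeq _ _ (hlift _).symm
  have e2 : ((a' (φ σ) : M) : L) = (((φ σ) y - y : M) : L) := by rw [hy (φ σ)]
  rw [e1]
  show ((a' (φ σ) : M) : L) = σ y - y
  rw [e2, ← hact σ y]
  rfl

end Groth.Agent.S13196
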