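import Groth.Statements.S13195
import Mathlib
-- import your own Groth.Agent.* helpers here

set_option autoImplicit false
universe u
open GalCoh

namespace Groth.Agent.S13195



/-- Let K be a field and L a separable closure of K. Every map a from the automorphism group of L over K
to the units of L which is locally constant for the Krull topology and satisfies the 1-cocycle
identity a(στ) = a(σ) · σ(a(τ)) for all σ, τ has the form a(σ) = c⁻¹ · σ(c) for a single unit c of
L; that is, the first cohomology set of the absolute Galois group of K with continuous cochains and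
values in the multiplicative group of the separable closure is reduced to its base point. (The
finite-level statement for a finite Galois extension is the classical Hilbert 90; this row is the
statement for the absolute Galois group.) -/
theorem result (K L : Type u) [Field K] [Field L]
    [Algebra K L] [IsSepClosure K L] (a : (L ≃ₐ[K] L) → Lˣ)
    (ha : ∀ σ τ : L ≃ₐ[K] L, a (σ * τ) = a σ * σ • a τ) (hlc : IsLocallyConstant a) :
    ∃ c : Lˣ, ∀ σ : L ≃ₐ[K] L, a σ = c⁻¹ * σ • c := by
  classical
  have : IsGalois K L := inferInstance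
  have h1 : a 1 = 1 := by
    have h := ha 1 1
    rw [one_mul, one_smul] at h
    have h' : a 1 * 1 = a 1 * a 1 := by rw [mul_one]; exact h
    exact (mul_left_cancel h').symm
  have hU : {σ | a σ = a 1} ∈ nhds (1 : L ≃ₐ[K] L) := (hlc.isOpen_fiber (a 1)).mem_nhds rfl
  obtain ⟨M, hMfin, hMnorm, hMU⟩ := (krullTopology_mem_nhds_one_iff_of_normal K L _).1 hU
  have := hMfin
  have := hMnorm
  let φ : (L ≃ₐ[K] L) →* (M ≃ₐ[K] M) := AlgEquiv.restrictNormalHom M
  have hφsurj : Function.Surjective φ := AlgEquiv.restrictNormalHom_surjective L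
  have hker : ∀ h : L ≃ₐ[K] L, φ h = 1 → a h = 1 := by
    intro h hh
    have hmemH : h ∈ M.fixingSubgroup := by
      rw [← M.restrictNormalHom_ker]; exact hh
    have h2 := hMU hmemH
    rw [← h1]; exact h2
  have hφeq : ∀ σ τ, φ σ = φ τ → a σ = a τ := by
    intro σ τ hst
    have hk : φ (σ⁻¹ * τ) = 1 := by rw [map_mul, map_inv, hst, inv_mul_cancel]
    have e : τ = σ * (σ⁻¹ * τ) := by group
    rw [e, ha, hker _ hk, smul_one, mul_one]
  have hfix : ∀ (h : L ≃ₐ[K] L), φ h = 1 → ∀ σ, h • a σ = a σ := by
    intro h hh σ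
    have e1 : a (h * σ) = a σ := hφeq _ _ (by rw [map_mul, hh, one_mul])
    rw [ha, hker h hh, one_mul] at e1
    exact e1
  have hmem : ∀ σ, ((a σ : Lˣ) : L) ∈ M := by
    intro σ
    have hm : ((a σ : Lˣ) : L) ∈ IntermediateField.fixedField M.fixingSubgroup := by
      rw [IntermediateField.mem_fixedField_iff]
      intro h hh
      have hh' : φ h = 1 := by
        have : h ∈ (AlgEquiv.restrictNormalHom M).ker := by
          rw [M.restrictNormalHom_ker]; exact hh
        exact this
      have h3 := congrArg (fun x : Lˣ => (x : L)) (hfix h hh' σ)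
      exact h3
    rwa [InfiniteGalois.fixedField_fixingSubgroup] at hm
  choose lift hlift using hφsurj
  let a' : (M ≃ₐ[K] M) → Mˣ := fun s =>
    Units.mk0 ⟨((a (lift s) : Lˣ) : L), hmem (lift s)⟩ (by
      intro h0
      have h3 := congrArg (fun x : M => (x : L)) h0
      exact (a (lift s)).ne_zero h3)
  have hcoe : ∀ s, (((a' s : Mˣ) : M) : L) = ((a (lift s) : Lˣ) : L) := fun s => rfl
  have hact : ∀ (σ : L ≃ₐ[K] L) (m : M), ((φ σ m : M) : L) = σ (m : L) :=
    fun σ m => AlgEquiv.restrictNormal_commutes σ M m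
  have hcoc : groupCohomology.IsMulCocycle₁ a' := by
    intro s t
    apply Units.ext
    apply Subtype.ext
    have e1 : a (lift (s * t)) = a (lift s * lift t) :=
      hφeq _ _ (by rw [map_mul, hlift, hlift, hlift])
    rw [ha] at e1
    have e2 : ((a (lift (s * t)) : Lˣ) : L) =
        ((a (lift s) : Lˣ) : L) * (lift s) ((a (lift t) : Lˣ) : L) :=
      congrArg (fun x : Lˣ => (x : L)) e1
    have e3 : ((s ((a' t : Mˣ) : M) : M) : L) = (lift s) ((a (lift t) : Lˣ) : L) := by
      have h3 := hact (lift s) ((a' t : Mˣ) : M)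
      rw [hlift] at h3
      exact h3
    show ((a (lift (s * t)) : Lˣ) : L) =
      ((s ((a' t : Mˣ) : M) : M) : L) * ((a (lift s) : Lˣ) : L)
    rw [e3, mul_comm]
    exact e2
  obtain ⟨β, hβ⟩ := groupCohomology.isMulCoboundary₁_of_isMulCocycle₁_of_aut_to_units a' hcoc
  have hβL : ∀ σ : L ≃ₐ[K] L, ((a σ : Lˣ) : L) =
      σ (((β : Mˣ) : M) : L) / (((β : Mˣ) : M) : L) := by
    intro σ
    have e1 : a σ = a (lift (φ σ)) := hφeq _ _ (hlift _).symm
    have e2 : (((φ σ • β / β : Mˣ) : M) : L) = (((a' (φ σ) : Mˣ) : M) : L) := by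
      rw [hβ (φ σ)]
    rw [e1, ← hcoe, ← e2, ← hact σ, Units.val_div_eq_div_val, IntermediateField.coe_div]
    rfl
  refine ⟨Units.map (algebraMap M L).toMonoidHom β, fun σ => ?_⟩
  apply Units.ext
  rw [hβL σ, div_eq_inv_mul]
  simp [AlgEquiv.smul_units_def]

end Groth.Agent.S13195
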