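import Groth.Statements.S13204
import Mathlib
import Groth.Agent.Lib.helper1.DVRDom

set_option autoImplicit false
universe u
open Neron

namespace Groth.Agent.S13204

theorem exists_rep_of_mem_map {R T : Type*} [CommRing R] [CommRing T] [Algebra R T] (I : Ideal R)
    (z : T) (hz : z ∈ I.map (algebraMap R T)) :
    ∃ (k : ℕ) (a : Fin k → R) (w : Fin k → T), (∀ i, a i ∈ I) ∧ z = ∑ i, a i • w i := by
  change z ∈ Submodule.span T ((algebraMap R T) '' (I : Set R)) at hz
  rw [Submodule.mem_span_set'] at hz
  obtain ⟨k, f, g, hfg⟩ := hz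
  have hg : ∀ i, ∃ a ∈ I, algebraMap R T a = (g i : T) := fun i => (g i).2
  choose a ha ha' using hg
  refine ⟨k, a, f, ha, ?_⟩
  rw [← hfg]
  refine Finset.sum_congr rfl fun i _ => ?_
  rw [← ha' i, smul_eq_mul, Algebra.smul_def, mul_comm]

theorem dvd_of_aeval_div_eq_zero {R K : Type*} [CommRing R] [IsDomain R]
    [UniqueFactorizationMonoid R] [Field K] [Algebra R K] [IsFractionRing R K]
    (a b : R) (hb : b ≠ 0) (hcop : IsRelPrime b a) :
    ∀ (d : ℕ) (F : Polynomial R), F.natDegree ≤ d →
      Polynomial.aeval (algebraMap R K a / algebraMap R K b) F = 0 →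
      (Polynomial.C b * Polynomial.X - Polynomial.C a) ∣ F := by
  have hinj : Function.Injective (algebraMap R K) := IsFractionRing.injective R K
  have hφb : algebraMap R K b ≠ 0 := fun h => hb (hinj (by rw [h, map_zero]))
  have ht : algebraMap R K b * (algebraMap R K a / algebraMap R K b) = algebraMap R K a := by
    field_simp
  have hpow : ∀ n : ℕ, IsRelPrime b (a ^ n) := by
    intro n
    induction n with
    | zero => rw [pow_zero]; exact isRelPrime_one_right
    | succ n ih => rw [pow_succ]; exact ih.mul_right hcop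
  intro d
  induction d with
  | zero =>
    intro F hF h0
    rw [Polynomial.eq_C_of_natDegree_le_zero hF] at h0 ⊢
    rw [Polynomial.aeval_C] at h0
    have h1 : F.coeff 0 = 0 := hinj (by rw [h0, map_zero])
    rw [h1, map_zero]
    exact dvd_zero _
  | succ d ih =>
    intro F hF h0
    by_cases hdeg : F.natDegree ≤ d
    · exact ih F hdeg h0
    have hdeg' : F.natDegree = d + 1 := le_antisymm hF (Nat.succ_le_of_lt (not_le.mp hdeg))
    have hroot : (Polynomial.scaleRoots F b).IsRoot a := by
      have h1 := Polynomial.scaleRoots_aeval_eq_zero_of_aeval_div_eq_zero hinj h0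
        (mem_nonZeroDivisors_of_ne_zero hb)
      rw [Polynomial.aeval_def, Polynomial.eval₂_at_apply] at h1
      exact hinj (by rw [h1, map_zero])
    have hdvd : b ∣ F.leadingCoeff := by
      apply (hpow F.natDegree).dvd_of_dvd_mul_right
      rw [← Polynomial.coeff_scaleRoots_natDegree F b]
      apply Polynomial.dvd_term_of_isRoot_of_dvd_terms _ hroot
      intro j hj
      by_cases h : j < F.natDegree
      · rw [Polynomial.coeff_scaleRoots]
        refine (dvd_mul_of_dvd_right ?_ _).mul_right _
        exact dvd_pow_self b (Nat.sub_ne_zero_of_lt h)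
      · have h2 : (Polynomial.scaleRoots F b).natDegree < j := by
          rw [Polynomial.natDegree_scaleRoots]
          exact lt_of_le_of_ne (le_of_not_gt h) hj.symm
        rw [Polynomial.coeff_eq_zero_of_natDegree_lt h2, zero_mul]
        exact dvd_zero _
    obtain ⟨c, hc⟩ := hdvd
    have hlc : F.coeff (d + 1) = b * c := by
      rw [← hdeg', Polynomial.coeff_natDegree]; exact hc
    have hGdeg : (F - (Polynomial.C (c * b) * Polynomial.X ^ (d + 1) -
        Polynomial.C (c * a) * Polynomial.X ^ d)).natDegree ≤ d := by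
      rw [Polynomial.natDegree_le_iff_coeff_eq_zero]
      intro N hN
      rw [Polynomial.coeff_sub, Polynomial.coeff_sub, Polynomial.coeff_C_mul_X_pow,
        Polynomial.coeff_C_mul_X_pow]
      rw [if_neg (ne_of_gt hN)]
      by_cases hN1 : N = d + 1
      · rw [if_pos hN1, hN1, hlc]; ring
      · rw [if_neg hN1]
        have h3 : F.coeff N = 0 :=
          Polynomial.coeff_eq_zero_of_natDegree_lt (by rw [hdeg']; omega)
        rw [h3]; ring
    have hG0 : Polynomial.aeval (algebraMap R K a / algebraMap R K b)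
        (F - (Polynomial.C (c * b) * Polynomial.X ^ (d + 1) -
        Polynomial.C (c * a) * Polynomial.X ^ d)) = 0 := by
      simp only [map_sub, map_mul, map_pow, Polynomial.aeval_C, Polynomial.aeval_X, h0]
      linear_combination (-(algebraMap R K c) *
        (algebraMap R K a / algebraMap R K b) ^ d) * ht
    have h5 := ih _ hGdeg hG0
    have h6 : (Polynomial.C b * Polynomial.X - Polynomial.C a) ∣
        (Polynomial.C (c * b) * Polynomial.X ^ (d + 1) -
        Polynomial.C (c * a) * Polynomial.X ^ d) :=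
      ⟨Polynomial.C c * Polynomial.X ^ d, by rw [map_mul, map_mul]; ring⟩
    have h7 := dvd_add h5 h6
    rwa [sub_add_cancel] at h7


/-- Let R be a strictly henselian Noetherian local unique factorization domain and Δ₁, Δ₂ two non-units
of R with no common prime factor. Then there are a discrete valuation ring A and an injective local
homomorphism f : R → A — so that Spec A → Spec R sends the closed point to the closed point and the
generic point to the generic point, which lies in every dense open subset — such that f(Δ₁) is a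
non-zero non-unit and f(Δ₁) = u · f(Δ₂) for some unit u of A congruent to 1 modulo the maximal
ideal. (The published statement asks for the images of Δ₁ and Δ₂ in A to be equal, with the generic
point of Spec A sent into a given dense open subset of Spec R; that cannot hold in general — for R =
ℂ[[a,b]], Δ₁ = a, Δ₂ = b and the dense open D(a − b), any local map to a discrete valuation ring
identifying a and b sends the generic point into V(a − b) — so this row asks instead for f(Δ₁) = u ·
f(Δ₂) with u a unit congruent to 1 modulo the maximal ideal.) -/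
theorem result
    (R : Type u) [CommRing R] [IsDomain R] [IsNoetherianRing R] [UniqueFactorizationMonoid R]
    [HenselianLocalRing R] [IsSepClosed (IsLocalRing.ResidueField R)]
    (Δ₁ Δ₂ : R) (h₁ : ¬ IsUnit Δ₁) (h₂ : ¬ IsUnit Δ₂) (hcop : IsRelPrime Δ₁ Δ₂) :
    ∃ (A : Type u) (_ : CommRing A) (_ : IsDomain A) (_ : IsDiscreteValuationRing A) (f : R →+* A),
      IsLocalHom f ∧ Function.Injective f ∧ ¬ IsUnit (f Δ₁) ∧
        ∃ u : Aˣ, (u : A) - 1 ∈ IsLocalRing.maximalIdeal A ∧ f Δ₁ = (u : A) * f Δ₂ := by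
  classical
  have hinj : Function.Injective (algebraMap R (FractionRing R)) := IsFractionRing.injective R _
  have hΔ₂0 : Δ₂ ≠ 0 := by
    intro h; rw [h, isRelPrime_zero_right] at hcop; exact h₁ hcop
  have hΔ₁0 : Δ₁ ≠ 0 := by
    intro h; rw [h, isRelPrime_zero_left] at hcop; exact h₂ hcop
  have hφ₂ : algebraMap R (FractionRing R) Δ₂ ≠ 0 :=
    fun h => hΔ₂0 (hinj (by rw [h, map_zero]))
  have hΔ₁m : Δ₁ ∈ IsLocalRing.maximalIdeal R := (IsLocalRing.mem_maximalIdeal _).mpr h₁
  have hΔ₂m : Δ₂ ∈ IsLocalRing.maximalIdeal R := (IsLocalRing.mem_maximalIdeal _).mpr h₂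
  obtain ⟨t, ht⟩ : ∃ t : FractionRing R, t =
      algebraMap R (FractionRing R) Δ₁ / algebraMap R (FractionRing R) Δ₂ := ⟨_, rfl⟩
  obtain ⟨B, hB⟩ : ∃ B : Subalgebra R (FractionRing R),
      B = Algebra.adjoin R ({t} : Set (FractionRing R)) := ⟨_, rfl⟩
  have htB : t ∈ B := by rw [hB]; exact Algebra.subset_adjoin rfl
  haveI : Algebra.FiniteType R ↥B := by
    rw [hB]
    have hfg : (Algebra.adjoin R ({t} : Set (FractionRing R))).FG := by
      rw [← Finset.coe_singleton]; exact Subalgebra.fg_adjoin_finset _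
    exact (Subalgebra.fg_iff_finiteType _).mp hfg
  haveI : IsNoetherianRing ↥B := Algebra.FiniteType.isNoetherianRing R _
  have hrep : ∀ b : ↥B, ∃ q : Polynomial R, Polynomial.aeval t q = (b : FractionRing R) := by
    intro b
    have h : (b : FractionRing R) ∈ Algebra.adjoin R ({t} : Set (FractionRing R)) := hB.le b.2
    rw [Algebra.adjoin_singleton_eq_range_aeval] at h
    exact h
  obtain ⟨I, hIdef⟩ : ∃ I : Ideal ↥B, I = (IsLocalRing.maximalIdeal R).map (algebraMap R ↥B) ⊔
      Ideal.span {(⟨t, htB⟩ : ↥B) - 1} := ⟨_, rfl⟩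
  have hmI : ∀ r ∈ IsLocalRing.maximalIdeal R, algebraMap R ↥B r ∈ I := fun r hr => by
    rw [hIdef]; exact Ideal.mem_sup_left (Ideal.mem_map_of_mem _ hr)
  have htI : (⟨t, htB⟩ : ↥B) - 1 ∈ I := by
    rw [hIdef]; exact Ideal.mem_sup_right (Ideal.subset_span rfl)
  have hI0 : I ≠ ⊥ := by
    intro h
    have h1 := hmI Δ₁ hΔ₁m
    rw [h, Ideal.mem_bot] at h1
    exact hΔ₁0 (hinj (by rw [map_zero]; exact congrArg Subtype.val h1))
  have hItop : I ≠ ⊤ := by
    intro htop
    have h1 : (1 : ↥B) ∈ I := by rw [htop]; exact Submodule.mem_top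
    rw [hIdef, Submodule.mem_sup] at h1
    obtain ⟨y, hy, z, hz, hyz⟩ := h1
    obtain ⟨w, rfl⟩ := Ideal.mem_span_singleton'.mp hz
    obtain ⟨k, a, v, ha, hyv⟩ := exists_rep_of_mem_map _ y hy
    choose q hq using hrep
    obtain ⟨g, hg⟩ : ∃ g : Polynomial R, g = ∑ i, Polynomial.C (a i) * q (v i) := ⟨_, rfl⟩
    have e1 : (y : FractionRing R) =
        ∑ i, algebraMap R (FractionRing R) (a i) * (v i : FractionRing R) := by
      rw [hyv]
      show B.val (∑ i, a i • v i) = _
      rw [map_sum]
      refine Finset.sum_congr rfl fun i _ => ?_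
      rw [map_smul, Algebra.smul_def]; rfl
    have hg1 : Polynomial.aeval t g = (y : FractionRing R) := by
      rw [hg, map_sum, e1]
      refine Finset.sum_congr rfl fun i _ => ?_
      rw [map_mul, Polynomial.aeval_C, hq]
    have hψC : ∀ r : R, Polynomial.eval₂RingHom (IsLocalRing.residue R) 1 (Polynomial.C r) =
        IsLocalRing.residue R r := fun r => Polynomial.eval₂_C _ _
    have hψX : Polynomial.eval₂RingHom (IsLocalRing.residue R) 1 (Polynomial.X : Polynomial R) = 1 :=
      Polynomial.eval₂_X _ _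
    have hgψ : Polynomial.eval₂RingHom (IsLocalRing.residue R) 1 g = 0 := by
      rw [hg, map_sum]
      apply Finset.sum_eq_zero
      intro i _
      rw [map_mul, hψC, (IsLocalRing.residue_eq_zero_iff _).mpr (ha i), zero_mul]
    have e2 : (y : FractionRing R) + (w : FractionRing R) * (t - 1) = 1 :=
      congrArg Subtype.val hyz
    have hF0 : Polynomial.aeval t (1 - g - (Polynomial.X - 1) * q w) = 0 := by
      rw [map_sub, map_sub, map_one, map_mul, map_sub, Polynomial.aeval_X, map_one, hg1, hq]
      linear_combination (-1 : FractionRing R) * e2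
    rw [ht] at hF0
    obtain ⟨G, hG⟩ := dvd_of_aeval_div_eq_zero (K := FractionRing R) Δ₁ Δ₂ hΔ₂0 hcop.symm _ _
      le_rfl hF0
    have hL : Polynomial.eval₂RingHom (IsLocalRing.residue R) 1
        (1 - g - (Polynomial.X - 1) * q w) = 1 := by
      simp only [map_sub, map_mul, map_one, hψX, hgψ, sub_self, zero_mul, sub_zero]
    have hR : Polynomial.eval₂RingHom (IsLocalRing.residue R) 1
        ((Polynomial.C Δ₂ * Polynomial.X - Polynomial.C Δ₁) * G) = 0 := by
      rw [map_mul, map_sub, map_mul, hψC, hψC, hψX,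
        (IsLocalRing.residue_eq_zero_iff Δ₂).mpr hΔ₂m,
        (IsLocalRing.residue_eq_zero_iff Δ₁).mpr hΔ₁m, zero_mul, sub_zero, zero_mul]
    rw [hG, hR] at hL
    exact zero_ne_one hL
  have hS' : ∀ C : Subalgebra ↥B (FractionRing R),
      (∀ s ∈ (∅ : Finset (FractionRing R)), s ∈ C ∨ s⁻¹ ∈ C) →
      ∀ z : FractionRing R, ∃ c d : C, z = (c : FractionRing R) / (d : FractionRing R) := by
    intro C _ z
    obtain ⟨a, b, -, rfl⟩ := IsFractionRing.div_surjective R z
    have e : ∀ r : R, ((algebraMap ↥B C (algebraMap R ↥B r) : C) : FractionRing R) =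
        algebraMap R (FractionRing R) r := fun r => rfl
    exact ⟨algebraMap ↥B C (algebraMap R ↥B a), algebraMap ↥B C (algebraMap R ↥B b), by rw [e, e]⟩
  obtain ⟨W, hWdvr, hWB, hWI⟩ := Helper1.DVRDom.exists_dvr (B := ↥B) (L := FractionRing R)
    (fun a b h => Subtype.ext h) ∅ hS' I hItop hI0
  obtain ⟨f, hf⟩ : ∃ f : R →+* ↥W, ∀ r, ((f r : ↥W) : FractionRing R) =
      algebraMap R (FractionRing R) r :=
    ⟨(algebraMap R (FractionRing R)).codRestrict W.toSubring
      (fun r => hWB (algebraMap R ↥B r)), fun r => rfl⟩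
  have hnonunit : ∀ r : R, ¬ IsUnit r → ¬ IsUnit (f r) := by
    intro r hr
    have h1 : algebraMap R ↥B r ∈ I := hmI r ((IsLocalRing.mem_maximalIdeal r).mpr hr)
    have h2 : W.valuation ((f r : ↥W) : FractionRing R) < 1 := by
      rw [hf]; exact hWI _ h1
    have h3 : f r ∈ IsLocalRing.maximalIdeal ↥W :=
      (ValuationSubring.valuation_lt_one_iff W (f r)).mpr h2
    exact (IsLocalRing.mem_maximalIdeal _).mp h3
  have htW : t ∈ W := hWB ⟨t, htB⟩
  have h5 : (⟨t, htW⟩ : ↥W) - 1 ∈ IsLocalRing.maximalIdeal ↥W := by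
    apply (ValuationSubring.valuation_lt_one_iff W _).mpr
    exact hWI _ htI
  have hu : IsUnit (⟨t, htW⟩ : ↥W) := by
    rcases IsLocalRing.isUnit_or_isUnit_one_sub_self (⟨t, htW⟩ : ↥W) with h | h
    · exact h
    · exfalso
      have h6 : IsUnit ((⟨t, htW⟩ : ↥W) - 1) := by rw [← neg_sub]; exact h.neg
      exact ((IsLocalRing.mem_maximalIdeal _).mp h5) h6
  refine ⟨↥W, inferInstance, inferInstance, hWdvr, f, ⟨fun r hr => ?_⟩, ?_, hnonunit Δ₁ h₁,
    hu.unit, ?_, ?_⟩
  · by_contra hnr
    exact hnonunit r hnr hr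
  · intro r s hrs
    apply hinj
    rw [← hf r, ← hf s, hrs]
  · rw [IsUnit.unit_spec]; exact h5
  · rw [IsUnit.unit_spec]
    apply Subtype.ext
    show ((f Δ₁ : ↥W) : FractionRing R) = t * ((f Δ₂ : ↥W) : FractionRing R)
    rw [hf, hf, ht, div_mul_cancel₀ _ hφ₂]

end Groth.Agent.S13204
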