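import Groth.Statements.S13206
import Mathlib

set_option autoImplicit false
universe u
open CategoryTheory AlgebraicGeometry
open AlgGrp

namespace Groth.Agent.S13206

open CategoryTheory.Limits in
lemma eq_locus {X Y S : Scheme.{u}} (p : Y ⟶ S) (f g : X ⟶ Y) (hfg : f ≫ p = g ≫ p) :
    ∃ (E : Scheme.{u}) (ι : E ⟶ X), ι ≫ f = ι ≫ g ∧
      (∀ {T : Scheme.{u}} (k : T ⟶ X), k ≫ f = k ≫ g → ∃ l : T ⟶ E, l ≫ ι = k) ∧
      (IsOpenImmersion (pullback.diagonal p) → IsOpenImmersion ι) ∧
      (IsClosedImmersion (pullback.diagonal p) → IsClosedImmersion ι) := by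
  refine ⟨pullback (pullback.lift f g hfg) (pullback.diagonal p), pullback.fst _ _, ?_, ?_, ?_, ?_⟩
  · have h := pullback.condition (f := pullback.lift f g hfg) (g := pullback.diagonal p)
    have h1 := congrArg (fun k => k ≫ pullback.fst p p) h
    have h2 := congrArg (fun k => k ≫ pullback.snd p p) h
    simp only [Category.assoc, pullback.lift_fst, pullback.lift_snd, pullback.diagonal_fst,
      pullback.diagonal_snd, Category.comp_id] at h1 h2
    rw [h1, h2]
  · intro T k hk
    have hc : k ≫ pullback.lift f g hfg = (k ≫ f) ≫ pullback.diagonal p := by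
      apply pullback.hom_ext
      · rw [Category.assoc, pullback.lift_fst, Category.assoc, pullback.diagonal_fst,
          Category.comp_id]
      · rw [Category.assoc, pullback.lift_snd, Category.assoc, pullback.diagonal_snd,
          Category.comp_id, hk]
    exact ⟨pullback.lift k (k ≫ f) hc, pullback.lift_fst _ _ _⟩
  · intro h
    infer_instance
  · intro h
    exact MorphismProperty.pullback_fst (P := @IsClosedImmersion) _ _ h

/-- Let X → S be a separated morphism of schemes and let a finite group G act on X through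
S-automorphisms. Then the functor of G-fixed points is represented by a closed subscheme of X: there
are a scheme Z and a closed immersion i : Z → X with i ∘ g = i for all g ∈ G such that every
morphism x : T → X with g ∘ x = x for all g ∈ G factors uniquely through i. (The published statement
is for an algebraic space X over S, also treats the locally separated case and notes compatibility
with base change; this row is the separated case for schemes.) -/
theorem result
    {X S : Scheme.{u}} (p : X ⟶ S) [IsSeparated p]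
    (G : Type u) [Group G] [Finite G] (ρ : G →* Aut X) (hρ : ∀ g : G, (ρ g).hom ≫ p = p) :
    ∃ (Z : Scheme.{u}) (i : Z ⟶ X), IsClosedImmersion i ∧ (∀ g : G, i ≫ (ρ g).hom = i) ∧
      ∀ (T : Scheme.{u}) (x : T ⟶ X), (∀ g : G, x ≫ (ρ g).hom = x) → ∃! z : T ⟶ Z, z ≫ i = x := by
  have key : ∀ g : G, ∃ (E : Scheme.{u}) (ι : E ⟶ X), IsClosedImmersion ι ∧
      ι ≫ (ρ g).hom = ι ∧
      (∀ {T : Scheme.{u}} (k : T ⟶ X), k ≫ (ρ g).hom = k → ∃ l : T ⟶ E, l ≫ ι = k) := by
    intro g
    obtain ⟨E, ι, h1, h2, -, h4⟩ := eq_locus p (ρ g).hom (𝟙 X)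
      ((hρ g).trans (Category.id_comp p).symm)
    refine ⟨E, ι, h4 IsSeparated.isClosedImmersion_diagonal, ?_, ?_⟩
    · rw [h1, Category.comp_id]
    · intro T k hk
      exact h2 k (hk.trans (Category.comp_id k).symm)
  choose E ι hcl hfix hlift using key
  obtain ⟨J, hJ⟩ : ∃ J : X.IdealSheafData, J = ⨆ g, (ι g).ker := ⟨_, rfl⟩
  have hle : ∀ g, (ι g).ker ≤ J.subschemeι.ker := by
    intro g
    rw [Scheme.IdealSheafData.ker_subschemeι, hJ]
    exact le_iSup (fun g => (ι g).ker) g
  refine ⟨J.subscheme, J.subschemeι, inferInstance, ?_, ?_⟩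
  · intro g
    haveI := hcl g
    rw [← IsClosedImmersion.lift_fac (ι g) J.subschemeι (hle g), Category.assoc, hfix g]
  · intro T x hx
    have hx' : J.subschemeι.ker ≤ x.ker := by
      rw [Scheme.IdealSheafData.ker_subschemeι, hJ]
      refine iSup_le (fun g => ?_)
      obtain ⟨l, hl⟩ := hlift g x (hx g)
      rw [← hl]
      exact Scheme.Hom.le_ker_comp l (ι g)
    refine ⟨IsClosedImmersion.lift J.subschemeι x hx', IsClosedImmersion.lift_fac _ _ _, ?_⟩
    intro z hz
    rw [← cancel_mono J.subschemeι, hz, IsClosedImmersion.lift_fac]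

end Groth.Agent.S13206
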