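import Groth.Statements.S13356
-- import your own Groth.Agent.* helpers here
import Mathlib

set_option autoImplicit false
universe u
open GaDual

namespace Groth.Agent.S13356

open Polynomial in
lemma fe_general {A : Type*} [CommRing A] (f : A[X])
    (hfe : Polynomial.aeval (MvPolynomial.X 0 + MvPolynomial.X 1 : MvPolynomial (Fin 2) A) f =
      Polynomial.aeval (MvPolynomial.X 0 : MvPolynomial (Fin 2) A) f *
        Polynomial.aeval (MvPolynomial.X 1 : MvPolynomial (Fin 2) A) f)
    {B : Type*} [CommRing B] [Algebra A B] (x y : B) :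
    aeval (x + y) f = aeval x f * aeval y f := by
  have h := congrArg (MvPolynomial.aeval (R := A) (![x, y] : Fin 2 → B)) hfe
  rw [map_mul, ← Polynomial.aeval_algHom_apply, ← Polynomial.aeval_algHom_apply,
    ← Polynomial.aeval_algHom_apply, map_add, MvPolynomial.aeval_X, MvPolynomial.aeval_X] at h
  simpa using h

open Polynomial in
lemma deriv_eq {A : Type*} [CommRing A] (f : A[X])
    (hFE : ∀ (x y : TrivSqZeroExt A[X] A[X]), aeval (x + y) f = aeval x f * aeval y f) :
    derivative f = f * C (f.coeff 1) := by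
  have hy : (TrivSqZeroExt.inr (1 : A[X]) : TrivSqZeroExt A[X] A[X]) ^ 2 = 0 := by
    rw [sq, TrivSqZeroExt.inr_mul_inr]
  have e1 : ∀ p : A[X], aeval (TrivSqZeroExt.inl X : TrivSqZeroExt A[X] A[X]) p
      = TrivSqZeroExt.inl p := by
    intro p
    have h1 : (TrivSqZeroExt.inl X : TrivSqZeroExt A[X] A[X])
        = TrivSqZeroExt.inlAlgHom A A[X] A[X] X := rfl
    rw [h1, Polynomial.aeval_algHom_apply, Polynomial.aeval_X_left_apply]
    rfl
  have e3 : aeval (TrivSqZeroExt.inr (1 : A[X]) : TrivSqZeroExt A[X] A[X]) f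
      = algebraMap A (TrivSqZeroExt A[X] A[X]) (f.coeff 0)
        + algebraMap A (TrivSqZeroExt A[X] A[X]) (f.coeff 1) * TrivSqZeroExt.inr (1 : A[X]) := by
    have h0 := Polynomial.aeval_add_of_sq_eq_zero f (0 : TrivSqZeroExt A[X] A[X])
      (TrivSqZeroExt.inr (1 : A[X])) hy
    rw [zero_add] at h0
    rw [h0, ← Polynomial.coeff_zero_eq_aeval_zero', ← Polynomial.coeff_zero_eq_aeval_zero',
      Polynomial.coeff_derivative]
    simp
  have h := hFE (TrivSqZeroExt.inl X) (TrivSqZeroExt.inr 1)
  rw [Polynomial.aeval_add_of_sq_eq_zero _ _ _ hy, e1, e1, e3] at h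
  have h2 := congrArg TrivSqZeroExt.snd h
  simpa [TrivSqZeroExt.algebraMap_eq_inl', Polynomial.algebraMap_eq] using h2

open Polynomial in
lemma aeval_eq_exp {A : Type*} [CommRing A] [Algebra ℚ A] (f : A[X]) (a : A)
    (hcoef : ∀ n, f.coeff n = a ^ n * algebraMap ℚ A (1 / (n.factorial : ℚ)))
    (hnil : IsNilpotent a) {B : Type*} [CommRing B] [Algebra A B] [Algebra ℚ B]
    [IsScalarTower ℚ A B] (z : B) :
    aeval z f = IsNilpotent.exp (algebraMap A B a * z) := by
  obtain ⟨N₀, hN₀⟩ := hnil
  have hk : (algebraMap A B a * z) ^ (f.natDegree + 1 + N₀) = 0 := by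
    rw [mul_pow, ← map_pow, pow_add, hN₀, mul_zero, map_zero, zero_mul]
  rw [IsNilpotent.exp_eq_sum hk,
    Polynomial.aeval_eq_sum_range' (n := f.natDegree + 1 + N₀) (by omega) z]
  refine Finset.sum_congr rfl fun i _ => ?_
  rw [hcoef i, mul_pow, ← map_pow, Algebra.smul_def, Algebra.smul_def, map_mul,
    ← IsScalarTower.algebraMap_apply ℚ A B, one_div]
  ring

/-- Over a commutative algebra A over the rationals, the polynomials f with f(0) = 1 and f(X+Y) =
f(X)f(Y) (the characters of the additive group into the multiplicative group over A) are exactly the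
polynomials exp(aX) with a in A nilpotent. -/
theorem result (A : Type u) [CommRing A] [Algebra ℚ A] (f : Polynomial A) :
    (f.eval 0 = 1 ∧
      Polynomial.aeval (MvPolynomial.X 0 + MvPolynomial.X 1 : MvPolynomial (Fin 2) A) f =
        Polynomial.aeval (MvPolynomial.X 0 : MvPolynomial (Fin 2) A) f *
          Polynomial.aeval (MvPolynomial.X 1 : MvPolynomial (Fin 2) A) f) ↔
      ∃ a : A, IsNilpotent a ∧ (f : PowerSeries A) = PowerSeries.rescale a (PowerSeries.exp A) := by
  constructor
  · rintro ⟨h0, hfe⟩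
    have hc0 : f.coeff 0 = 1 := by rw [Polynomial.coeff_zero_eq_eval_zero]; exact h0
    have hder := deriv_eq f (fun x y => fe_general f hfe x y)
    obtain ⟨a, ha⟩ : ∃ a, a = f.coeff 1 := ⟨_, rfl⟩
    rw [← ha] at hder
    have hrec : ∀ n : ℕ, f.coeff (n + 1) * ((n : A) + 1) = f.coeff n * a := by
      intro n
      have h1 := congrArg (fun p => Polynomial.coeff p n) hder
      simp only [Polynomial.coeff_derivative, Polynomial.coeff_mul_C] at h1
      exact h1
    have hfact : ∀ n : ℕ, f.coeff n * (n.factorial : A) = a ^ n := by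
      intro n
      induction n with
      | zero => simp [hc0]
      | succ n ih =>
        have h1 : ((n + 1).factorial : A) = ((n : A) + 1) * (n.factorial : A) := by
          rw [Nat.factorial_succ]; push_cast; ring
        calc f.coeff (n + 1) * ((n + 1).factorial : A)
            = (f.coeff (n + 1) * ((n : A) + 1)) * (n.factorial : A) := by rw [h1]; ring
          _ = (f.coeff n * (n.factorial : A)) * a := by rw [hrec n]; ring
          _ = a ^ (n + 1) := by rw [ih, pow_succ]
    refine ⟨a, ⟨f.natDegree + 1, ?_⟩, ?_⟩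
    · rw [← hfact, Polynomial.coeff_eq_zero_of_natDegree_lt (Nat.lt_succ_self _), zero_mul]
    · ext n
      rw [Polynomial.coeff_coe, PowerSeries.coeff_rescale, PowerSeries.coeff_exp, ← hfact n,
        mul_assoc]
      have h2 : ((n.factorial : A)) * algebraMap ℚ A (1 / (n.factorial : ℚ)) = 1 := by
        rw [← map_natCast (algebraMap ℚ A), ← map_mul,
          mul_one_div_cancel (Nat.cast_ne_zero.2 (Nat.factorial_ne_zero n)), map_one]
      rw [h2, mul_one]
  · rintro ⟨a, hnil, hps⟩
    have hcoef : ∀ n : ℕ, f.coeff n = a ^ n * algebraMap ℚ A (1 / (n.factorial : ℚ)) := by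
      intro n
      have h1 := congrArg (PowerSeries.coeff n) hps
      rwa [Polynomial.coeff_coe, PowerSeries.coeff_rescale, PowerSeries.coeff_exp] at h1
    constructor
    · rw [← Polynomial.coeff_zero_eq_eval_zero, hcoef 0]; simp
    · have key := fun z => aeval_eq_exp f a hcoef hnil (B := MvPolynomial (Fin 2) A) z
      rw [key, key, key, mul_add]
      exact IsNilpotent.exp_add_of_commute (Commute.all _ _)
        (Commute.isNilpotent_mul_right (Commute.all _ _) (hnil.map _))
        (Commute.isNilpotent_mul_right (Commute.all _ _) (hnil.map _))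

end Groth.Agent.S13356
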