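import Groth.Statements.S13357
-- import your own Groth.Agent.* helpers here
import Mathlib
import Groth.Agent.S13356
import Groth.Agent.Lib.helper7.CharPChar

set_option autoImplicit false
universe u
open GaDual

namespace Groth.Agent.S13357

/-- Over a commutative algebra A of prime characteristic p, the polynomials f with f(0) = 1 and f(X+Y) =
f(X)f(Y) (the characters of the additive group into the multiplicative group over A) are exactly the
finite products of truncated exponentials exp_p(a_n X^(p^n)) = Σ_{j<p} a_n^j X^(j p^n)/j! with a_n^p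
= 0. -/
theorem result (p : ℕ) [Fact p.Prime] (A : Type u) [CommRing A] [CharP A p]
    (f : Polynomial A) :
    (f.eval 0 = 1 ∧
      Polynomial.aeval (MvPolynomial.X 0 + MvPolynomial.X 1 : MvPolynomial (Fin 2) A) f =
        Polynomial.aeval (MvPolynomial.X 0 : MvPolynomial (Fin 2) A) f *
          Polynomial.aeval (MvPolynomial.X 1 : MvPolynomial (Fin 2) A) f) ↔
      ∃ (N : ℕ) (a : ℕ → A), (∀ n, a n ^ p = 0) ∧
        f = ∏ n ∈ Finset.range N, ∑ j ∈ Finset.range p,
          Polynomial.C (Ring.inverse (j.factorial : A) * a n ^ j) * Polynomial.X ^ (j * p ^ n) := by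
  have hp : p.Prime := Fact.out
  constructor
  · rintro ⟨h0, hfe⟩
    refine ⟨f.natDegree, fun k => f.coeff (p ^ k), ?_⟩
    have hdeg : ∀ m, p ^ f.natDegree ≤ m → f.coeff m = 0 := fun m hm =>
      Polynomial.coeff_eq_zero_of_natDegree_lt
        (lt_of_lt_of_le (Nat.lt_pow_self hp.one_lt) hm)
    have hc0 : f.coeff 0 = 1 := by
      rw [Polynomial.coeff_zero_eq_eval_zero]
      exact h0
    have H : ∀ i j, i < p ^ f.natDegree → j < p ^ f.natDegree →
        (((i + j).choose i : ℕ) : A) * f.coeff (i + j) = f.coeff i * f.coeff j := by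
      intro i j _ _
      have h := Groth.Agent.S13356.fe_general f hfe
        (B := Polynomial (Polynomial A)) (Polynomial.C Polynomial.X) Polynomial.X
      have h2 := congrArg (fun w => (w.coeff j).coeff i) h
      beta_reduce at h2
      rw [Groth.Agent.Lib.helper7.cpc_coeff_lhs, Groth.Agent.Lib.helper7.cpc_coeff_rhs] at h2
      exact h2
    exact Groth.Agent.Lib.helper7.cpc_core p f.natDegree f hdeg hc0 H
  · rintro ⟨N, a, ha, rfl⟩
    constructor
    · rw [Polynomial.eval_prod]
      apply Finset.prod_eq_one
      intro n _
      rw [Polynomial.eval_finset_sum, Finset.sum_eq_single 0]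
      · simp
      · intro j _ hj0
        rw [Polynomial.eval_mul, Polynomial.eval_C, Polynomial.eval_pow, Polynomial.eval_X,
          zero_pow (Nat.mul_ne_zero hj0 (pow_ne_zero _ hp.ne_zero)), mul_zero]
      · intro h
        exfalso
        apply h
        rw [Finset.mem_range]
        exact hp.pos
    · rw [map_prod, map_prod, map_prod, ← Finset.prod_mul_distrib]
      apply Finset.prod_congr rfl
      intro n _
      exact Groth.Agent.Lib.helper7.cpc_E_fe p (a n) (ha n) n _ _

end Groth.Agent.S13357
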