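import Groth.Statements.S13359
-- import your own Groth.Agent.* helpers here
import Mathlib
import Groth.Agent.Lib.helper7.UltraLoc

set_option autoImplicit false
universe u
open UltraProd

namespace Groth.Agent.S13359

open Groth.Agent.Lib.helper7

/-- If (R_i) is a nonempty family of integrally closed domains, then the localization of the product
ring ∏ R_i at any prime ideal is an integrally closed domain. -/
theorem result {ι : Type u} [Nonempty ι] (R : ι → Type u)
    [∀ i, CommRing (R i)] [∀ i, IsDomain (R i)] [∀ i, IsIntegrallyClosed (R i)]
    (P : Ideal (∀ i, R i)) [P.IsPrime] :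
    IsDomain (Localization.AtPrime P) ∧ IsIntegrallyClosed (Localization.AtPrime P) := by
  classical
  haveI hdom : IsDomain (Localization.AtPrime P) := ul_isDomain R P
  refine ⟨hdom, ?_⟩
  rw [isIntegrallyClosed_iff (FractionRing (Localization.AtPrime P))]
  intro x hx
  exact ul_exists_of_isIntegral R P (Localization.AtPrime P)
    (FractionRing (Localization.AtPrime P)) x hx

end Groth.Agent.S13359
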