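import Groth.Statements.S13360
-- import your own Groth.Agent.* helpers here
import Mathlib
import Groth.Agent.Lib.helper7.UltraLoc

set_option autoImplicit false
universe u
open UltraProd

namespace Groth.Agent.S13360

open Groth.Agent.Lib.helper7

/-- If (R_i) is a nonempty family of valuation rings, then the localization of the product ring ∏ R_i at
any prime ideal is a valuation ring: a domain in which, of any two elements, one divides the other. -/
theorem result {ι : Type u} [Nonempty ι] (R : ι → Type u)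
    [∀ i, CommRing (R i)] [∀ i, IsDomain (R i)] [∀ i, ValuationRing (R i)]
    (P : Ideal (∀ i, R i)) [P.IsPrime] :
    IsDomain (Localization.AtPrime P) ∧ PreValuationRing (Localization.AtPrime P) := by
  classical
  refine ⟨ul_isDomain R P, ⟨?_⟩⟩
  intro x y
  obtain ⟨a, s, rfl⟩ := IsLocalization.exists_mk'_eq P.primeCompl x
  obtain ⟨b, t, rfl⟩ := IsLocalization.exists_mk'_eq P.primeCompl y
  have hU' : ∀ i, i ∉ {i | ∃ c, a i * c = b i} → ∃ c, b i * c = a i := by
    intro i hi
    obtain ⟨c, hc | hc⟩ := ValuationRing.cond (a i) (b i)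
    · exact absurd ⟨c, hc⟩ hi
    · exact ⟨c, hc⟩
  let c : ∀ i, R i := fun i =>
    if hi : i ∈ {i | ∃ c, a i * c = b i} then hi.choose else (hU' i hi).choose
  have hc1 : ∀ i, i ∈ {i | ∃ c, a i * c = b i} → a i * c i = b i := by
    intro i hi
    simp only [c, dif_pos hi]
    exact hi.choose_spec
  have hc2 : ∀ i, i ∉ {i | ∃ c, a i * c = b i} → b i * c i = a i := by
    intro i hi
    simp only [c, dif_neg hi]
    exact (hU' i hi).choose_spec
  rcases ul_ind_or R P {i | ∃ c, a i * c = b i} with hU | hU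
  · refine ⟨IsLocalization.mk' _ (ul_ind R {i | ∃ c, a i * c = b i} * c * s)
      (t * ⟨ul_ind R {i | ∃ c, a i * c = b i}, hU⟩), Or.inl ?_⟩
    rw [← IsLocalization.mk'_mul]
    apply IsLocalization.mk'_eq_of_eq
    funext i
    by_cases hi : i ∈ {i | ∃ c, a i * c = b i}
    · have e1 : ul_ind R {i | ∃ c, a i * c = b i} i = 1 := ul_ind_mem R hi
      simp only [Submonoid.coe_mul, Pi.mul_apply, e1]
      rw [← hc1 i hi]
      ring
    · have e0 : ul_ind R {i | ∃ c, a i * c = b i} i = 0 := ul_ind_not_mem R hi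
      simp only [Submonoid.coe_mul, Pi.mul_apply, e0]
      ring
  · refine ⟨IsLocalization.mk' _ (ul_ind R {i | ∃ c, a i * c = b i}ᶜ * c * t)
      (s * ⟨ul_ind R {i | ∃ c, a i * c = b i}ᶜ, hU⟩), Or.inr ?_⟩
    rw [← IsLocalization.mk'_mul]
    apply IsLocalization.mk'_eq_of_eq
    funext i
    by_cases hi : i ∈ {i | ∃ c, a i * c = b i}
    · have e0 : ul_ind R {i | ∃ c, a i * c = b i}ᶜ i = 0 :=
        ul_ind_not_mem R (show i ∉ {i | ∃ c, a i * c = b i}ᶜ from fun h => h hi)
      simp only [Submonoid.coe_mul, Pi.mul_apply, e0]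
      ring
    · have e1 : ul_ind R {i | ∃ c, a i * c = b i}ᶜ i = 1 :=
        ul_ind_mem R (show i ∈ {i | ∃ c, a i * c = b i}ᶜ from hi)
      simp only [Submonoid.coe_mul, Pi.mul_apply, e1]
      rw [← hc2 i hi]
      ring

end Groth.Agent.S13360
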