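import Groth.Statements.S13361
-- import your own Groth.Agent.* helpers here
import Mathlib

set_option autoImplicit false
universe u
open ProCompl

namespace Groth.Agent.S13361

/-- A finite abelian group with a nonzero element contained in every nonzero subgroup is isomorphic to a
cyclic group of prime-power order Z/p^n. -/
theorem result {A : Type u} [AddCommGroup A] [Finite A]
    (a : A) (ha : a ≠ 0) (h : ∀ B : AddSubgroup A, B ≠ ⊥ → a ∈ B) :
    ∃ p n : ℕ, p.Prime ∧ Nonempty (A ≃+ ZMod (p ^ n)) := by
  classical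
  obtain ⟨ι, _, p, hp, e, ⟨f⟩⟩ := AddCommGroup.equiv_directSum_zmod_of_finite A
  have hfa : f a ≠ 0 := by
    intro h0
    exact ha (f.injective (by rw [h0, map_zero]))
  obtain ⟨i₀, hi₀⟩ : ∃ i₀, (f a) i₀ ≠ 0 := by
    by_contra hcon
    push Not at hcon
    exact hfa (DFinsupp.ext hcon)
  have htriv : ∀ j, j ≠ i₀ → ∀ y : ZMod (p j ^ e j), y = 0 := by
    intro j hj y
    by_contra hy
    let B : AddSubgroup A :=
      (AddMonoidHom.range (DirectSum.of (fun i => ZMod (p i ^ e i)) j)).comap f.toAddMonoidHom
    have hB : B ≠ ⊥ := by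
      intro hB
      have hmem : f.symm (DirectSum.of (fun i => ZMod (p i ^ e i)) j y) ∈ B := by
        change f (f.symm (DirectSum.of (fun i => ZMod (p i ^ e i)) j y)) ∈
          AddMonoidHom.range (DirectSum.of (fun i => ZMod (p i ^ e i)) j)
        rw [AddEquiv.apply_symm_apply]
        exact ⟨y, rfl⟩
      rw [hB, AddSubgroup.mem_bot] at hmem
      have h2 : DirectSum.of (fun i => ZMod (p i ^ e i)) j y = 0 := by
        have := congrArg f hmem
        simpa using this
      exact hy (DirectSum.of_injective (β := fun i => ZMod (p i ^ e i)) j (by rw [h2, map_zero]))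
    obtain ⟨z, hz⟩ : f a ∈ AddMonoidHom.range (DirectSum.of (fun i => ZMod (p i ^ e i)) j) := h B hB
    apply hi₀
    rw [← hz]
    exact DirectSum.of_eq_of_ne _ _ _ (Ne.symm hj)
  let g : (DirectSum ι fun i => ZMod (p i ^ e i)) →+ ZMod (p i₀ ^ e i₀) :=
    DFinsupp.evalAddMonoidHom i₀
  have hg : Function.Bijective g := by
    constructor
    · rw [injective_iff_map_eq_zero]
      intro x hx
      refine DFinsupp.ext fun j => ?_
      by_cases hj : j = i₀
      · subst hj; exact hx
      · exact htriv j hj _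
    · intro y
      refine ⟨DirectSum.of (fun i => ZMod (p i ^ e i)) i₀ y, ?_⟩
      change (DirectSum.of (fun i => ZMod (p i ^ e i)) i₀ y) i₀ = y
      exact DirectSum.of_eq_same _ _
  exact ⟨p i₀, e i₀, hp i₀, ⟨f.trans (AddEquiv.ofBijective g hg)⟩⟩

end Groth.Agent.S13361
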