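import Groth.Statements.S13362
-- import your own Groth.Agent.* helpers here
import Mathlib

set_option autoImplicit false
universe u
open ProCompl

namespace Groth.Agent.S13362

theorem tq_sub {A : Type u} [AddCommGroup A] (a : A) (ha : a ≠ 0)
    (h : ∀ B : AddSubgroup A, B ≠ ⊥ → a ∈ B) (q : ℕ) (hq : q.Prime) (x : A) (hx : q • x = 0) :
    x ∈ AddSubgroup.zmultiples a := by
  by_cases hx0 : x = 0
  · rw [hx0]; exact zero_mem _
  have hne : AddSubgroup.zmultiples x ≠ ⊥ := by
    rw [Ne, AddSubgroup.zmultiples_eq_bot]; exact hx0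
  obtain ⟨k, hk⟩ := AddSubgroup.mem_zmultiples_iff.1 (h _ hne)
  have hqk : ¬ (q : ℤ) ∣ k := by
    rintro ⟨m, rfl⟩
    apply ha
    rw [← hk, mul_comm, mul_smul, natCast_zsmul, hx, smul_zero]
  have hcop : IsCoprime k (q : ℤ) := by
    have := (Nat.prime_iff_prime_int.1 hq)
    exact ((Prime.coprime_iff_not_dvd this).2 hqk).symm
  obtain ⟨u, v, huv⟩ := hcop
  refine AddSubgroup.mem_zmultiples_iff.2 ⟨u, ?_⟩
  calc u • a = u • (k • x) := by rw [hk]
    _ = (u * k) • x := (mul_smul _ _ _).symm
    _ = (u * k + v * q) • x := by rw [add_smul, mul_smul v, natCast_zsmul, hx, smul_zero, add_zero]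
    _ = x := by rw [huv, one_smul]

theorem tm_finite {A : Type u} [AddCommGroup A] (a : A) (ha : a ≠ 0)
    (h : ∀ B : AddSubgroup A, B ≠ ⊥ → a ∈ B) (hfin : (AddSubgroup.zmultiples a : Set A).Finite) :
    ∀ m : ℕ, 0 < m → {x : A | m • x = 0}.Finite := by
  intro m
  induction m using Nat.strong_induction_on with
  | _ m ih =>
    intro hm
    by_cases hm1 : m = 1
    · subst hm1
      refine Set.Finite.subset (Set.finite_singleton (0 : A)) ?_
      intro x hx
      simpa using hx
    obtain ⟨q, hq, hqm⟩ := Nat.exists_prime_and_dvd hm1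
    obtain ⟨m', rfl⟩ := hqm
    have hm'pos : 0 < m' := Nat.pos_of_ne_zero (by rintro rfl; simp at hm)
    have hm'lt : m' < q * m' := by
      have := hq.two_le
      nlinarith
    have hfin' := ih m' hm'lt hm'pos
    have hTq : {x : A | q • x = 0}.Finite :=
      hfin.subset (fun x hx => tq_sub a ha h q hq x hx)
    refine Set.Finite.of_finite_fibers (fun x : A => q • x) ?_ ?_
    · refine hfin'.subset ?_
      rintro _ ⟨x, hx, rfl⟩
      change m' • (q • x) = 0
      rw [← mul_smul, mul_comm]; exact hx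
    · rintro y ⟨x₀, hx₀, rfl⟩
      refine (hTq.image (fun z => x₀ + z)).subset ?_
      rintro x ⟨_, hx⟩
      refine ⟨x - x₀, ?_, by simp⟩
      change q • (x - x₀) = 0
      have : q • x = q • x₀ := hx
      rw [smul_sub, this, sub_self]

/-- An abelian group of finite exponent having a nonzero element contained in every nonzero subgroup is
finite. -/
theorem result {A : Type u} [AddCommGroup A]
    (hA : AddMonoid.exponent A ≠ 0) (a : A) (ha : a ≠ 0) (h : ∀ B : AddSubgroup A, B ≠ ⊥ → a ∈ B) :
    Finite A := by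
  have hord : IsOfFinAddOrder a := by
    rw [isOfFinAddOrder_iff_nsmul_eq_zero]
    exact ⟨AddMonoid.exponent A, Nat.pos_of_ne_zero hA, AddMonoid.exponent_nsmul_eq_zero a⟩
  have hfin : (AddSubgroup.zmultiples a : Set A).Finite := by
    have h0 : Finite (AddSubgroup.zmultiples a) := finite_zmultiples.2 hord
    exact Set.finite_coe_iff.1 h0
  have h1 := tm_finite a ha h hfin (AddMonoid.exponent A) (Nat.pos_of_ne_zero hA)
  have h2 : {x : A | AddMonoid.exponent A • x = 0} = Set.univ :=
    Set.eq_univ_of_forall fun x => AddMonoid.exponent_nsmul_eq_zero x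
  rw [h2] at h1
  exact Set.finite_univ_iff.1 h1

end Groth.Agent.S13362
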