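import Groth.Statements.S13363
-- import your own Groth.Agent.* helpers here
import Mathlib

set_option autoImplicit false
universe u
open ProCompl

namespace Groth.Agent.S13363

/-- Let A be a topological abelian group such that the subgroup n·A is open for each n > 0, and a ∈ A.
Then A has an open subgroup of finite index not containing a if and only if a does not lie in the
subgroup of divisible elements ∩_n nA. -/
theorem result {A : Type u} [AddCommGroup A]
    [TopologicalSpace A] [IsTopologicalAddGroup A]
    (hn : ∀ n : ℕ, 0 < n → IsOpen (Set.range (fun x : A => n • x))) (a : A) :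
    (∃ B : AddSubgroup A, IsOpen (B : Set A) ∧ B.FiniteIndex ∧ a ∉ B) ↔
      ¬ (∀ n : ℕ, 0 < n → ∃ b : A, n • b = a) := by
  constructor
  · rintro ⟨B, _, hfi, haB⟩ hdiv
    have hpos : 0 < B.index := Nat.pos_of_ne_zero hfi.index_ne_zero
    obtain ⟨b, hb⟩ := hdiv B.index hpos
    apply haB
    rw [← hb]
    exact AddSubgroup.nsmul_index_mem B b
  · intro hnd
    push Not at hnd
    obtain ⟨n, hnpos, hna⟩ := hnd
    let nA : AddSubgroup A := (nsmulAddMonoidHom n : A →+ A).range
    have hnAopen : IsOpen (nA : Set A) := by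
      have : (nA : Set A) = Set.range (fun x : A => n • x) := by
        ext x; simp [nA, AddMonoidHom.mem_range]
      rw [this]; exact hn n hnpos
    have hanA : a ∉ nA := by
      rintro ⟨b, hb⟩
      exact hna b hb
    have habar : (QuotientAddGroup.mk' nA a) ≠ 0 := by
      intro h0
      exact hanA ((QuotientAddGroup.eq_zero_iff a).1 h0)
    obtain ⟨c, hc⟩ := CharacterModule.exists_character_apply_ne_zero_of_ne_zero habar
    let c' : (A ⧸ nA) →+ AddCircle (1 : ℚ) := c
    let χ : A →+ AddCircle (1 : ℚ) := c'.comp (QuotientAddGroup.mk' nA)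
    have hχn : ∀ x, n • χ x = 0 := by
      intro x
      rw [← map_nsmul]
      change c' (QuotientAddGroup.mk' nA (n • x)) = 0
      have : QuotientAddGroup.mk' nA (n • x) = 0 := (QuotientAddGroup.eq_zero_iff _).2 ⟨x, rfl⟩
      rw [this, map_zero]
    have hfinrange : Finite χ.range := by
      have hsub : (χ.range : Set (AddCircle (1 : ℚ))) ⊆ {u | n • u = 0} := by
        rintro _ ⟨x, rfl⟩
        exact hχn x
      exact Set.finite_coe_iff.2 ((AddCircle.finite_torsion (1 : ℚ) hnpos).subset hsub)
    refine ⟨χ.ker, ?_, inferInstance, ?_⟩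
    · refine AddSubgroup.isOpen_mono ?_ hnAopen
      rintro _ ⟨x, rfl⟩
      rw [AddMonoidHom.mem_ker]
      change c' (QuotientAddGroup.mk' nA (n • x)) = 0
      have : QuotientAddGroup.mk' nA (n • x) = 0 := (QuotientAddGroup.eq_zero_iff _).2 ⟨x, rfl⟩
      rw [this, map_zero]
    · rw [AddMonoidHom.mem_ker]
      exact hc

end Groth.Agent.S13363
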