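import Groth.Statements.S13365
-- import your own Groth.Agent.* helpers here
import Mathlib

set_option autoImplicit false
universe u
open ProCompl

namespace Groth.Agent.S13365

/-- The quotient of a profinite (compact, Hausdorff, totally disconnected) abelian topological group by
a compact subgroup is profinite. -/
theorem result {A : Type u} [AddCommGroup A] [TopologicalSpace A]
    [IsTopologicalAddGroup A] [CompactSpace A] [T2Space A] [TotallyDisconnectedSpace A]
    (B : AddSubgroup A) (hB : IsCompact (B : Set A)) :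
    CompactSpace (A ⧸ B) ∧ T2Space (A ⧸ B) ∧ TotallyDisconnectedSpace (A ⧸ B) := by
  have hBc : IsClosed (B : Set A) := hB.isClosed
  have hT3 : T3Space (A ⧸ B) := @QuotientAddGroup.instT3Space A _ _ _ B inferInstance hBc
  have hT2 : T2Space (A ⧸ B) := inferInstance
  refine ⟨inferInstance, hT2, ?_⟩
  have hNA : NonarchimedeanAddGroup (A ⧸ B) := by
    refine { is_nonarchimedean := fun U hU => ?_ }
    have hopen : IsOpen ((QuotientAddGroup.mk : A → A ⧸ B) ⁻¹' interior U) :=
      isOpen_interior.preimage QuotientAddGroup.continuous_mk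
    have h0 : (0 : A) ∈ (QuotientAddGroup.mk : A → A ⧸ B) ⁻¹' interior U := by
      change ((0 : A) : A ⧸ B) ∈ interior U
      exact mem_interior_iff_mem_nhds.2 hU
    obtain ⟨H, hH⟩ := ProfiniteGrp.exist_openNormalAddSubgroup_sub_open_nhds_of_zero hopen h0
    refine ⟨⟨AddSubgroup.map (QuotientAddGroup.mk' B) H.toAddSubgroup, ?_⟩, ?_⟩
    · have : ((AddSubgroup.map (QuotientAddGroup.mk' B) H.toAddSubgroup : AddSubgroup (A ⧸ B)) : Set (A ⧸ B)) =
          (QuotientAddGroup.mk : A → A ⧸ B) '' (H : Set A) := rfl
      change IsOpen ((AddSubgroup.map (QuotientAddGroup.mk' B) H.toAddSubgroup : AddSubgroup (A ⧸ B)) : Set (A ⧸ B))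
      rw [this]
      exact QuotientAddGroup.isOpenMap_coe _ H.isOpen
    · rintro _ ⟨x, hx, rfl⟩
      exact interior_subset (hH hx)
  infer_instance

end Groth.Agent.S13365
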