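import Groth.Statements.S13373
-- import your own Groth.Agent.* helpers here
import Mathlib
import Groth.Agent.Lib.helper7.CharPCharPS

set_option autoImplicit false
universe u
open GaDual

namespace Groth.Agent.S13373

/-- Over a commutative algebra A of prime characteristic p, the formal characters (power series χ with
constant term 1 and χ(X+Y) = χ(X)χ(Y)) are exactly the infinite products ∏_n exp_p(a_n X^(p^n)) with
a_n^p = 0, where exp_p(Y) = Σ_{j<p} Y^j/j!; the infinite product is expressed through its
truncations: χ mod X^(p^m) equals the finite product over n < m. -/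
theorem result (p : ℕ) [Fact p.Prime] (A : Type u) [CommRing A] [CharP A p]
    (χ : PowerSeries A) :
    (PowerSeries.constantCoeff χ = 1 ∧
      PowerSeries.subst (MvPowerSeries.X 0 + MvPowerSeries.X 1 : MvPowerSeries (Fin 2) A) χ =
        PowerSeries.subst (MvPowerSeries.X 0 : MvPowerSeries (Fin 2) A) χ *
          PowerSeries.subst (MvPowerSeries.X 1 : MvPowerSeries (Fin 2) A) χ) ↔
      ∃ a : ℕ → A, (∀ n, a n ^ p = 0) ∧ ∀ m : ℕ,
        PowerSeries.trunc (p ^ m) χ = ∏ n ∈ Finset.range m, ∑ j ∈ Finset.range p,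
          Polynomial.C (Ring.inverse (j.factorial : A) * a n ^ j) * Polynomial.X ^ (j * p ^ n) := by
  have hp : p.Prime := Fact.out
  constructor
  · rintro ⟨h0, hfe⟩
    have Hall : ∀ i j, (((i + j).choose i : ℕ) : A) * PowerSeries.coeff (i + j) χ
        = PowerSeries.coeff i χ * PowerSeries.coeff j χ := by
      intro i j
      have h := congrArg
        (MvPowerSeries.coeff (Finsupp.single (0 : Fin 2) i + Finsupp.single 1 j)) hfe
      rw [Groth.Agent.Lib.helper7.cpc_ps_lhs, Groth.Agent.Lib.helper7.cpc_ps_rhs] at h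
      have e0 : (Finsupp.single (0 : Fin 2) i + Finsupp.single 1 j : Fin 2 →₀ ℕ) 0 = i := by simp
      have e1 : (Finsupp.single (0 : Fin 2) i + Finsupp.single 1 j : Fin 2 →₀ ℕ) 1 = j := by simp
      rw [e0, e1] at h
      exact h
    have hc0 : PowerSeries.coeff 0 χ = 1 := by
      rw [PowerSeries.coeff_zero_eq_constantCoeff_apply]
      exact h0
    have htr : ∀ m l, l < p ^ m →
        (PowerSeries.trunc (p ^ m) χ).coeff l = PowerSeries.coeff l χ := by
      intro m l hl
      rw [PowerSeries.coeff_trunc, if_pos hl]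
    have hHlt : ∀ m, ∀ i j, i + j < p ^ m →
        (((i + j).choose i : ℕ) : A) * (PowerSeries.trunc (p ^ m) χ).coeff (i + j)
          = (PowerSeries.trunc (p ^ m) χ).coeff i * (PowerSeries.trunc (p ^ m) χ).coeff j := by
      intro m i j hij
      rw [htr m _ hij, htr m i (by omega), htr m j (by omega)]
      exact Hall i j
    have hh0 : ∀ m, (PowerSeries.trunc (p ^ m) χ).coeff 0 = 1 := by
      intro m
      rw [htr m 0 (Nat.pow_pos hp.pos), hc0]
    refine ⟨fun k => PowerSeries.coeff (p ^ k) χ, ?_, ?_⟩
    · intro k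
      have hq : 0 < p ^ k := Nat.pow_pos hp.pos
      have e : (p - 1) * p ^ k + p ^ k = p ^ (k + 1) := by
        have h1 : p - 1 + 1 = p := Nat.sub_add_cancel hp.one_le
        calc (p - 1) * p ^ k + p ^ k = (p - 1 + 1) * p ^ k := by ring
          _ = p * p ^ k := by rw [h1]
          _ = p ^ (k + 1) := (pow_succ' _ _).symm
      have hlt2 : p ^ (k + 1) < p ^ (k + 2) := Nat.pow_lt_pow_right hp.one_lt (by omega)
      have hlt1 : (p - 1) * p ^ k < p ^ (k + 2) := by omega
      have hqlt : p ^ k < p ^ (k + 2) := by omega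
      have hz : (PowerSeries.trunc (p ^ (k + 2)) χ).coeff ((p - 1) * p ^ k) *
          (PowerSeries.trunc (p ^ (k + 2)) χ).coeff (p ^ k) = 0 := by
        rw [htr _ _ hlt1, htr _ _ hqlt, ← Hall, Groth.Agent.Lib.helper7.cpc_B3, zero_mul]
      have h3 := Groth.Agent.Lib.helper7.cpc_L3 p (k + 2) _ (hh0 _) (hHlt _) k hlt1 hz
      rw [htr _ _ hqlt] at h3
      exact h3
    · intro m
      have hdeg : ∀ l, p ^ m ≤ l → (PowerSeries.trunc (p ^ m) χ).coeff l = 0 := by
        intro l hl
        rw [PowerSeries.coeff_trunc, if_neg (by omega)]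
      have h := Groth.Agent.Lib.helper7.cpc_prod_eq p m (PowerSeries.trunc (p ^ m) χ) hdeg
        (hh0 m) (hHlt m)
      refine h.trans ?_
      apply Finset.prod_congr rfl
      intro k hk
      rw [Finset.mem_range] at hk
      rw [htr m _ (Nat.pow_lt_pow_right hp.one_lt hk)]
      rfl
  · rintro ⟨a, ha, htr⟩
    have hcoef : ∀ m l, l < p ^ m → PowerSeries.coeff l χ
        = (∏ n ∈ Finset.range m, Groth.Agent.Lib.helper7.cpcE p (a n) (p ^ n)).coeff l := by
      intro m l hl
      have h := congrArg (fun g => Polynomial.coeff g l) (htr m)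
      beta_reduce at h
      rw [PowerSeries.coeff_trunc, if_pos hl] at h
      exact h
    have Hall : ∀ i j, (((i + j).choose i : ℕ) : A) * PowerSeries.coeff (i + j) χ
        = PowerSeries.coeff i χ * PowerSeries.coeff j χ := by
      intro i j
      have hlt : i + j < p ^ (i + j) := Nat.lt_pow_self hp.one_lt
      rw [hcoef (i + j) (i + j) hlt, hcoef (i + j) i (by omega), hcoef (i + j) j (by omega)]
      exact Groth.Agent.Lib.helper7.cpc_prod_H p a ha (i + j) i j
    constructor
    · have h := hcoef 0 0 (by simp)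
      rw [← PowerSeries.coeff_zero_eq_constantCoeff_apply, h]
      simp
    · ext e
      rw [Groth.Agent.Lib.helper7.cpc_ps_lhs, Groth.Agent.Lib.helper7.cpc_ps_rhs]
      exact Hall (e 0) (e 1)

end Groth.Agent.S13373
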