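import Groth.Statements.S13374
-- import your own Groth.Agent.* helpers here
import Mathlib
import Groth.Agent.Lib.helper7.CharPChar

set_option autoImplicit false
universe u
open GaDual

namespace Groth.Agent.S13374

/-- Over a commutative algebra A of prime characteristic p, every character of the kernel α_(p^n) of the
n-th Frobenius of the additive group — i.e. every polynomial f of degree < p^n with f(0) = 1 and
f(X+Y) ≡ f(X)f(Y) modulo (X^(p^n), Y^(p^n)) — is the product ∏_{i<n} exp_p(a_i X^(p^i)) for some a_i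
with a_i^p = 0, exp_p(Y) = Σ_{j<p} Y^j/j!. -/
theorem result (p : ℕ) [Fact p.Prime] (A : Type u) [CommRing A] [CharP A p]
    (n : ℕ) (f : Polynomial A) (hdeg : f.natDegree < p ^ n) (h0 : f.eval 0 = 1)
    (hmul : Ideal.Quotient.mk
        (Ideal.span {(MvPolynomial.X 0 ^ p ^ n : MvPolynomial (Fin 2) A), MvPolynomial.X 1 ^ p ^ n})
        (Polynomial.aeval (MvPolynomial.X 0 + MvPolynomial.X 1 : MvPolynomial (Fin 2) A) f) =
      Ideal.Quotient.mk
        (Ideal.span {(MvPolynomial.X 0 ^ p ^ n : MvPolynomial (Fin 2) A), MvPolynomial.X 1 ^ p ^ n})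
        (Polynomial.aeval (MvPolynomial.X 0 : MvPolynomial (Fin 2) A) f *
          Polynomial.aeval (MvPolynomial.X 1 : MvPolynomial (Fin 2) A) f)) :
    ∃ a : ℕ → A, (∀ i, a i ^ p = 0) ∧
      f = ∏ i ∈ Finset.range n, ∑ j ∈ Finset.range p,
          Polynomial.C (Ring.inverse (j.factorial : A) * a i ^ j) * Polynomial.X ^ (j * p ^ i) := by
  refine ⟨fun k => f.coeff (p ^ k), ?_⟩
  have hdeg' : ∀ m, p ^ n ≤ m → f.coeff m = 0 := fun m hm =>
    Polynomial.coeff_eq_zero_of_natDegree_lt (lt_of_lt_of_le hdeg hm)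
  have hc0 : f.coeff 0 = 1 := by
    rw [Polynomial.coeff_zero_eq_eval_zero]
    exact h0
  have H : ∀ i j, i < p ^ n → j < p ^ n →
      (((i + j).choose i : ℕ) : A) * f.coeff (i + j) = f.coeff i * f.coeff j := by
    intro i j hi hj
    rw [Ideal.Quotient.eq, Ideal.mem_span_pair] at hmul
    obtain ⟨u, v, huv⟩ := hmul
    have h := congrArg (MvPolynomial.aeval (R := A)
      (![Polynomial.C Polynomial.X, Polynomial.X] : Fin 2 → Polynomial (Polynomial A))) huv
    rw [map_add, map_mul, map_mul, map_pow, map_pow, map_sub, map_mul,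
      ← Polynomial.aeval_algHom_apply, ← Polynomial.aeval_algHom_apply,
      ← Polynomial.aeval_algHom_apply, map_add, MvPolynomial.aeval_X, MvPolynomial.aeval_X] at h
    simp only [Matrix.cons_val_zero, Matrix.cons_val_one, Matrix.head_cons] at h
    exact Groth.Agent.Lib.helper7.cpc_H_of_trunc f (p ^ n) _ _ h i j hi hj
  exact Groth.Agent.Lib.helper7.cpc_core p n f hdeg' hc0 H

end Groth.Agent.S13374
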