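import Groth.Statements.S13379
-- import your own Groth.Agent.* helpers here
import Mathlib

set_option autoImplicit false
universe u
open ProCompl

namespace Groth.Agent.S13379

section
open ProfiniteGrp ProfiniteGrp.ProfiniteCompletion CategoryTheory

theorem pc_lift_etaFn {G : GrpCat.{u}} {P : ProfiniteGrp.{u}} (f : G ⟶ GrpCat.of P) (a : G) :
    (lift f).hom (etaFn G a) = f.hom a :=
  ConcreteCategory.congr_hom (lift_eta f) a

theorem pc_map_etaFn {G H : GrpCat.{u}} (f : G ⟶ H) (a : G) :
    (profiniteCompletion.map f).hom (etaFn G a) = etaFn H (f.hom a) :=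
  pc_lift_etaFn (f ≫ eta H) a

theorem pc_map_surjective {G H : GrpCat.{u}} (f : G ⟶ H) (hf : Function.Surjective f.hom) :
    Function.Surjective (profiniteCompletion.map f).hom := by
  have hc : IsClosed (Set.range (profiniteCompletion.map f).hom) :=
    (isCompact_range (map_continuous (profiniteCompletion.map f).hom)).isClosed
  intro y
  refine DenseRange.induction_on (p := fun y => y ∈ Set.range (profiniteCompletion.map f).hom)
    (denseRange H) y hc ?_
  intro b
  obtain ⟨a, rfl⟩ := hf b
  exact ⟨etaFn G a, pc_map_etaFn f a⟩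

theorem pc_comp_one {G H K : GrpCat.{u}} (f : G ⟶ H) (g : H ⟶ K)
    (hfg : ∀ a, g.hom (f.hom a) = 1) (w : completion G) :
    (profiniteCompletion.map g).hom ((profiniteCompletion.map f).hom w) = 1 := by
  refine DenseRange.induction_on (p := fun w : completion G =>
    (profiniteCompletion.map g).hom ((profiniteCompletion.map f).hom w) = 1)
    (denseRange G) w (isClosed_eq ?_ continuous_const) ?_
  · exact (map_continuous (profiniteCompletion.map g).hom).comp
      (map_continuous (profiniteCompletion.map f).hom)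
  · intro a
    show (profiniteCompletion.map g).hom ((profiniteCompletion.map f).hom (etaFn G a)) = 1
    rw [pc_map_etaFn, pc_map_etaFn, hfg]
    rfl

set_option backward.isDefEq.respectTransparency false in
theorem pc_mem_closure {G : GrpCat.{u}} (z : completion G) (S : Set (completion G))
    (h : ∀ N : FiniteIndexNormalSubgroup G, ∃ y ∈ S, y.1 N = z.1 N) : z ∈ closure S := by
  rw [mem_closure_iff]
  rintro o ⟨s, hsO, hsv⟩ hz
  rw [← hsv, Set.mem_preimage] at hz
  rcases (isOpen_pi_iff.mp hsO) _ hz with ⟨J, fJ, hJ1, hJ2⟩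
  let M : Subgroup G := iInf fun (j : J) => j.val
  have hM : M.Normal := Subgroup.normal_iInf_normal fun j => inferInstance
  have hMFinite : M.FiniteIndex := by
    apply Subgroup.finiteIndex_iInf
    infer_instance
  let m : FiniteIndexNormalSubgroup G := { toSubgroup := M }
  obtain ⟨y, hyS, hy⟩ := h m
  refine ⟨y, ?_, hyS⟩
  rw [← hsv]
  apply hJ2
  intro a a_in_J
  let M_to_Na : m ⟶ a := (iInf_le (fun (j : J) => (j.val.toSubgroup)) ⟨a, a_in_J⟩).hom
  rw [← y.property M_to_Na, hy, z.property M_to_Na]
  exact (hJ1 a a_in_J).right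

theorem pc_level_one {A : Type u} [CommGroup A] (A' : Subgroup A)
    (N' : FiniteIndexNormalSubgroup (GrpCat.of A)) (hN : A' ≤ N'.toSubgroup)
    (z : completion (GrpCat.of A))
    (hz : (profiniteCompletion.map (GrpCat.ofHom (QuotientGroup.mk' A'))).hom z = 1) :
    z.1 N' = 1 := by
  let φ : GrpCat.of (A ⧸ A') ⟶ GrpCat.of ((diagram (GrpCat.of A)).obj N') :=
    GrpCat.ofHom (QuotientGroup.map A' N'.toSubgroup (MonoidHom.id A) (fun x hx => hN hx))
  have key : ∀ w : completion (GrpCat.of A),
      (lift φ).hom ((profiniteCompletion.map (GrpCat.ofHom (QuotientGroup.mk' A'))).hom w)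
        = w.1 N' := by
    intro w
    refine DenseRange.induction_on (p := fun w : completion (GrpCat.of A) =>
      (lift φ).hom ((profiniteCompletion.map (GrpCat.ofHom (QuotientGroup.mk' A'))).hom w)
        = w.1 N') (denseRange (GrpCat.of A)) w (isClosed_eq ?_ ?_) ?_
    · exact (map_continuous (lift φ).hom).comp
        (map_continuous (profiniteCompletion.map (GrpCat.ofHom (QuotientGroup.mk' A'))).hom)
    · exact (continuous_apply N').comp continuous_subtype_val
    · intro a
      show (lift φ).hom ((profiniteCompletion.map (GrpCat.ofHom (QuotientGroup.mk' A'))).hom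
        (etaFn (GrpCat.of A) a)) = (etaFn (GrpCat.of A) a).1 N'
      rw [pc_map_etaFn, pc_lift_etaFn]
      rfl
  calc z.1 N' = (lift φ).hom
        ((profiniteCompletion.map (GrpCat.ofHom (QuotientGroup.mk' A'))).hom z) := (key z).symm
    _ = (lift φ).hom 1 := congrArg _ hz
    _ = 1 := map_one _

theorem pc_ker_le {A : Type u} [CommGroup A] (A' : Subgroup A) (z : completion (GrpCat.of A))
    (hz : (profiniteCompletion.map (GrpCat.ofHom (QuotientGroup.mk' A'))).hom z = 1) :
    z ∈ Set.range (profiniteCompletion.map (GrpCat.ofHom A'.subtype)).hom := by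
  have hclosed : IsClosed (Set.range (profiniteCompletion.map (GrpCat.ofHom A'.subtype)).hom) :=
    (isCompact_range (map_continuous (profiniteCompletion.map (GrpCat.ofHom A'.subtype)).hom)).isClosed
  refine hclosed.closure_subset (pc_mem_closure z _ ?_)
  intro N
  obtain ⟨N', hN'⟩ : ∃ N' : FiniteIndexNormalSubgroup (GrpCat.of A),
      N'.toSubgroup = N.toSubgroup ⊔ A' :=
    ⟨{ toSubgroup := N.toSubgroup ⊔ A'
       isNormal' := ⟨fun n hn g => by rw [mul_comm g n, mul_inv_cancel_right]; exact hn⟩
       isFiniteIndex' := Subgroup.finiteIndex_of_le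
        (le_sup_left : N.toSubgroup ≤ N.toSubgroup ⊔ A') }, rfl⟩
  have hA' : A' ≤ N'.toSubgroup := by rw [hN']; exact le_sup_right
  have hNN' : N ≤ N' := fun x hx => by
    show x ∈ N'.toSubgroup
    rw [hN']
    exact Subgroup.mem_sup_left hx
  have h1 : z.1 N' = 1 := pc_level_one A' N' hA' z hz
  obtain ⟨a, ha⟩ : ∃ a : A, (QuotientGroup.mk a : A ⧸ N.toSubgroup) = z.1 N :=
    QuotientGroup.mk_surjective (z.1 N)
  have h2 : (QuotientGroup.mk a : A ⧸ N'.toSubgroup) = 1 := by
    calc (QuotientGroup.mk a : A ⧸ N'.toSubgroup)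
        = (diagram (GrpCat.of A)).map hNN'.hom (QuotientGroup.mk a : A ⧸ N.toSubgroup) := rfl
      _ = (diagram (GrpCat.of A)).map hNN'.hom (z.1 N) := by rw [ha]
      _ = z.1 N' := z.2 hNN'.hom
      _ = 1 := h1
  have h3 : a ∈ N.toSubgroup ⊔ A' := by
    rw [← hN']
    exact (QuotientGroup.eq_one_iff a).mp h2
  obtain ⟨n, hn, a', ha', rfl⟩ := Subgroup.mem_sup.mp h3
  refine ⟨(profiniteCompletion.map (GrpCat.ofHom A'.subtype)).hom
    (etaFn (GrpCat.of A') ⟨a', ha'⟩), ⟨_, rfl⟩, ?_⟩
  rw [pc_map_etaFn, ← ha]
  show (QuotientGroup.mk a' : A ⧸ N.toSubgroup) = QuotientGroup.mk (n * a')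
  rw [QuotientGroup.mk_mul, (QuotientGroup.eq_one_iff n).mpr hn, one_mul]

end

/-- Profinite completion is right exact: for an abelian group A (written multiplicatively, discrete) and
a subgroup A', the map on profinite completions induced by A → A/A' is surjective and its kernel is
the image of the completion of A'. (The published statement is right-exactness for topological
abelian groups with completions formed from open subgroups of finite index; this row is the case of
the discrete topology.) -/
theorem result (A : Type u) [CommGroup A] (A' : Subgroup A) :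
    Function.Surjective (ProfiniteGrp.profiniteCompletion.map (GrpCat.ofHom (QuotientGroup.mk' A'))).hom ∧
      (ProfiniteGrp.profiniteCompletion.map (GrpCat.ofHom (QuotientGroup.mk' A'))).hom.toMonoidHom.ker =
        (ProfiniteGrp.profiniteCompletion.map (GrpCat.ofHom A'.subtype)).hom.toMonoidHom.range := by
  refine ⟨pc_map_surjective _ (QuotientGroup.mk'_surjective A'), ?_⟩
  ext z
  constructor
  · intro hz
    exact MonoidHom.mem_range.mpr (pc_ker_le A' z (MonoidHom.mem_ker.mp hz))
  · intro hz
    obtain ⟨w, rfl⟩ := MonoidHom.mem_range.mp hz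
    exact MonoidHom.mem_ker.mpr (pc_comp_one (GrpCat.ofHom A'.subtype) (GrpCat.ofHom (QuotientGroup.mk' A'))
      (fun a' => (QuotientGroup.eq_one_iff _).mpr a'.2) w)

end Groth.Agent.S13379
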