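import Groth.Statements.S13378
-- import your own Groth.Agent.* helpers here
import Mathlib
import Groth.Agent.S13379

set_option autoImplicit false
universe u
open ProCompl

namespace Groth.Agent.S13378

section
open ProfiniteGrp ProfiniteGrp.ProfiniteCompletion CategoryTheory

theorem exists_fi_not_mem_of_exp (B : Type u) [CommGroup B] (e : ℕ) (he : 0 < e)
    (hexp : ∀ b : B, b ^ e = 1) (b : B) (hb : b ≠ 1) :
    ∃ K : Subgroup B, K.FiniteIndex ∧ b ∉ K := by
  obtain ⟨c, hc⟩ := CharacterModule.exists_character_apply_ne_zero_of_ne_zero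
    (A := Additive B) (a := Additive.ofMul b) (fun h => hb (ofMul_eq_zero.mp h))
  let c' : Additive B →+ AddCircle (1 : ℚ) := c
  let χ : B →* Multiplicative (AddCircle (1 : ℚ)) := AddMonoidHom.toMultiplicativeRight c'
  have hfin : (χ.range : Set (Multiplicative (AddCircle (1 : ℚ)))).Finite := by
    refine Set.Finite.subset ((AddCircle.finite_torsion (1 : ℚ) he).preimage
      (Multiplicative.toAdd.injective.injOn)) ?_
    rintro _ ⟨y, rfl⟩
    show e • c' (Additive.ofMul y) = 0
    rw [← map_nsmul, ← ofMul_pow, hexp, ofMul_one, map_zero]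
  haveI : Finite χ.range := hfin.to_subtype
  refine ⟨χ.ker, inferInstance, ?_⟩
  intro hmem
  apply hc
  have h1 : χ b = 1 := MonoidHom.mem_ker.mp hmem
  exact h1

theorem exists_R {A : Type u} [CommGroup A] (A' : Subgroup A)
    (htors : ∃ N : ℕ, 0 < N ∧ ∀ x : A ⧸ A', IsOfFinOrder x → x ^ N = 1)
    (M : Subgroup A') [M.FiniteIndex] :
    ∃ (R : Subgroup A) (e : ℕ), 0 < e ∧ (∀ a : A, a ^ e ∈ R) ∧
      (∀ μ : A', μ ∈ M → (μ : A) ∈ R) ∧ (∀ a' : A', (a' : A) ∈ R → a' ∈ M) := by
  obtain ⟨N, hN0, hN⟩ := htors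
  have hm0 : 0 < M.index := Nat.pos_of_ne_zero Subgroup.FiniteIndex.index_ne_zero
  have hpow : ∀ a' : A', a' ^ M.index ∈ M := fun a' => Subgroup.pow_index_mem M a'
  refine ⟨(powMonoidHom (M.index * N) : A →* A).range ⊔ M.map A'.subtype, M.index * N,
    Nat.mul_pos hm0 hN0, ?_, ?_, ?_⟩
  · intro a
    exact Subgroup.mem_sup_left ⟨a, rfl⟩
  · intro μ hμ
    exact Subgroup.mem_sup_right (Subgroup.mem_map_of_mem _ hμ)
  · intro a' ha'
    obtain ⟨p, hp, μ, hμ, hpμ⟩ := Subgroup.mem_sup.mp ha'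
    obtain ⟨a, rfl⟩ := MonoidHom.mem_range.mp hp
    obtain ⟨μ', hμ'M, rfl⟩ := Subgroup.mem_map.mp hμ
    have hpa : (powMonoidHom (M.index * N) : A →* A) a = a ^ (M.index * N) := rfl
    rw [hpa] at hpμ
    have h1 : a ^ (M.index * N) ∈ A' := by
      have h : a ^ (M.index * N) = (a' : A) * (μ' : A)⁻¹ := by
        rw [← hpμ]; exact (mul_inv_cancel_right _ _).symm
      rw [h]; exact A'.mul_mem a'.2 (A'.inv_mem μ'.2)
    have h2 : (QuotientGroup.mk a : A ⧸ A') ^ N = 1 := by
      apply hN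
      rw [isOfFinOrder_iff_pow_eq_one]
      refine ⟨M.index * N, Nat.mul_pos hm0 hN0, ?_⟩
      rw [← QuotientGroup.mk_pow]
      exact (QuotientGroup.eq_one_iff _).mpr h1
    have h3 : a ^ N ∈ A' := by
      rw [← QuotientGroup.mk_pow] at h2
      exact (QuotientGroup.eq_one_iff _).mp h2
    have h4 : a' = (⟨a ^ N, h3⟩ : A') ^ M.index * μ' := by
      apply Subtype.ext
      rw [Subgroup.coe_mul, Subgroup.coe_pow, ← hpμ, mul_comm M.index N, pow_mul]
      try rfl
    rw [h4]
    exact M.mul_mem (hpow _) hμ'M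

theorem exists_L_of_R {A : Type u} [CommGroup A] (A' : Subgroup A) (M : Subgroup A')
    [M.FiniteIndex] (R : Subgroup A) (e : ℕ) (he : 0 < e) (hexp : ∀ a : A, a ^ e ∈ R)
    (hMR : ∀ μ : A', μ ∈ M → (μ : A) ∈ R) (hRM : ∀ a' : A', (a' : A) ∈ R → a' ∈ M) :
    ∃ L : Subgroup A, L.FiniteIndex ∧ L.comap A'.subtype ≤ M := by
  let ψ : A' →* A ⧸ R := (QuotientGroup.mk' R).comp A'.subtype
  have hψ : ∀ a' : A', ψ a' = 1 ↔ a' ∈ M := by
    intro a'
    constructor
    · intro h
      exact hRM a' ((QuotientGroup.eq_one_iff _).mp h)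
    · intro h
      exact (QuotientGroup.eq_one_iff _).mpr (hMR a' h)
  have hker : ψ.ker = M := by
    ext a'
    rw [MonoidHom.mem_ker]
    exact hψ a'
  haveI : ψ.ker.FiniteIndex := by rw [hker]; infer_instance
  haveI : Finite ψ.range := Finite.of_equiv _ (QuotientGroup.quotientKerEquivRange ψ).toEquiv
  have hB : ∀ b : A ⧸ R, b ^ e = 1 := by
    intro b
    obtain ⟨a, rfl⟩ := QuotientGroup.mk_surjective b
    rw [← QuotientGroup.mk_pow]
    exact (QuotientGroup.eq_one_iff _).mpr (hexp a)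
  have hex : ∀ f : {f : ψ.range // (f : A ⧸ R) ≠ 1},
      ∃ K : Subgroup (A ⧸ R), K.FiniteIndex ∧ (f.1 : A ⧸ R) ∉ K :=
    fun f => exists_fi_not_mem_of_exp (A ⧸ R) e he hB f.1 f.2
  choose Kf hKfi hKf using hex
  have hKfin : (⨅ f, Kf f).FiniteIndex := Subgroup.finiteIndex_iInf hKfi
  refine ⟨(⨅ f, Kf f).comap (QuotientGroup.mk' R), ⟨?_⟩, ?_⟩
  · rw [Subgroup.index_comap_of_surjective _ (QuotientGroup.mk'_surjective R)]
    exact hKfin.index_ne_zero
  · intro a' ha'
    by_contra hne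
    have h1 : ψ a' ≠ 1 := fun h => hne ((hψ a').mp h)
    have h2 : ψ a' ∈ ⨅ f, Kf f := ha'
    have h3 := (Subgroup.mem_iInf.mp h2) ⟨⟨ψ a', a', rfl⟩, h1⟩
    exact hKf _ h3

theorem pc_level_inj {A : Type u} [CommGroup A] (A' : Subgroup A)
    (L₀ : FiniteIndexNormalSubgroup (GrpCat.of A))
    (M₂ : FiniteIndexNormalSubgroup (GrpCat.of A'))
    (hM₂ : M₂.toSubgroup = L₀.toSubgroup.comap A'.subtype)
    (w : completion (GrpCat.of A'))
    (hw : (profiniteCompletion.map (GrpCat.ofHom A'.subtype)).hom w = 1) : w.1 M₂ = 1 := by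
  let φ : A' ⧸ M₂.toSubgroup →* A ⧸ L₀.toSubgroup :=
    QuotientGroup.map M₂.toSubgroup L₀.toSubgroup A'.subtype (le_of_eq hM₂)
  have hφ : ∀ q, φ q = 1 → q = 1 := by
    intro q hq
    obtain ⟨a', rfl⟩ := QuotientGroup.mk_surjective q
    have h : (QuotientGroup.mk (a' : A) : A ⧸ L₀.toSubgroup) = 1 := hq
    rw [QuotientGroup.eq_one_iff] at h ⊢
    rw [hM₂]
    exact h
  let φ' : ↥((diagram (GrpCat.of A')).obj M₂) → ↥((diagram (GrpCat.of A)).obj L₀) :=
    fun q => φ q
  haveI : DiscreteTopology ↥((diagram (GrpCat.of A')).obj M₂) := ⟨rfl⟩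
  have hcont : Continuous φ' := continuous_of_discreteTopology
  have key : ∀ w : completion (GrpCat.of A'),
      ((profiniteCompletion.map (GrpCat.ofHom A'.subtype)).hom w).1 L₀ = φ' (w.1 M₂) := by
    intro w
    refine DenseRange.induction_on (p := fun w : completion (GrpCat.of A') =>
      ((profiniteCompletion.map (GrpCat.ofHom A'.subtype)).hom w).1 L₀ = φ' (w.1 M₂))
      (denseRange (GrpCat.of A')) w (isClosed_eq ?_ ?_) ?_
    · exact ((continuous_apply L₀).comp continuous_subtype_val).comp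
        (map_continuous (profiniteCompletion.map (GrpCat.ofHom A'.subtype)).hom)
    · exact hcont.comp ((continuous_apply M₂).comp continuous_subtype_val)
    · intro a'
      show ((profiniteCompletion.map (GrpCat.ofHom A'.subtype)).hom
        (etaFn (GrpCat.of A') a')).1 L₀ = φ' ((etaFn (GrpCat.of A') a').1 M₂)
      rw [Groth.Agent.S13379.pc_map_etaFn]
      rfl
  have h := key w
  rw [hw] at h
  exact hφ (w.1 M₂) h.symm

theorem pc_map_injective_of_sep {A : Type u} [CommGroup A] (A' : Subgroup A)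
    (hsep : ∀ M : Subgroup A', M.FiniteIndex →
      ∃ L : Subgroup A, L.FiniteIndex ∧ L.comap A'.subtype ≤ M) :
    Function.Injective (profiniteCompletion.map (GrpCat.ofHom A'.subtype)).hom := by
  refine (injective_iff_map_eq_one _).mpr ?_
  intro w hw
  refine Subtype.ext (funext fun M => ?_)
  show w.1 M = 1
  obtain ⟨L, hLfin, hLM⟩ := hsep M.toSubgroup inferInstance
  obtain ⟨L₀, hL₀⟩ : ∃ L₀ : FiniteIndexNormalSubgroup (GrpCat.of A), L₀.toSubgroup = L :=
    ⟨{ toSubgroup := L
       isNormal' := ⟨fun n hn g => by rw [mul_comm g n, mul_inv_cancel_right]; exact hn⟩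
       isFiniteIndex' := hLfin }, rfl⟩
  obtain ⟨M₂, hM₂⟩ : ∃ M₂ : FiniteIndexNormalSubgroup (GrpCat.of A'),
      M₂.toSubgroup = L₀.toSubgroup.comap A'.subtype :=
    ⟨L₀.comap A'.subtype, rfl⟩
  have hM₂M : M₂ ≤ M := fun a' ha' => by
    have h : a' ∈ M₂.toSubgroup := ha'
    rw [hM₂, hL₀] at h
    exact hLM h
  have h1 : w.1 M₂ = 1 := pc_level_inj A' L₀ M₂ hM₂ w hw
  have h2 := w.2 hM₂M.hom
  rw [← h2, h1]
  exact map_one _

end

/-- For an abelian group A (written multiplicatively, discrete) and a subgroup A' such that the quotient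
A/A' has no nontrivial divisible element and its torsion elements are killed by one positive
integer, the map induced on profinite completions by the inclusion of A' in A is injective. (The
published statement is for topological abelian groups in which every nA is open, with completions
formed from open subgroups of finite index; this row is the case of the discrete topology.) -/
theorem result (A : Type u) [CommGroup A] (A' : Subgroup A)
    (hdiv : ∀ x : A ⧸ A', (∀ n : ℕ, 0 < n → ∃ y : A ⧸ A', y ^ n = x) → x = 1)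
    (htors : ∃ N : ℕ, 0 < N ∧ ∀ x : A ⧸ A', IsOfFinOrder x → x ^ N = 1) :
    Function.Injective (ProfiniteGrp.profiniteCompletion.map (GrpCat.ofHom A'.subtype)).hom := by
  apply pc_map_injective_of_sep A'
  intro M hM
  haveI := hM
  obtain ⟨R, e, he, hexp, hMR, hRM⟩ := exists_R A' htors M
  exact exists_L_of_R A' M R e he hexp hMR hRM

end Groth.Agent.S13378
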