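import Groth.Statements.S13409
-- import your own Groth.Agent.* helpers here
import Mathlib

set_option autoImplicit false
universe u v
open CombGraph

namespace Groth.Agent.S13409

/-- Let `A` be an abelian group and `G` a finite connected simple graph on `V` that is bipartite for a
two-colouring `c : V → Bool` (adjacent vertices get different colours). If `a : V → A` has the same
sum over the vertices of each colour, then some labelling `x` of the edges by elements of `A` has,
at every vertex `v`, the sum of `x` over the edges incident to `v` equal to `a v`. (The published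
statement concerns finite bipartite graphs in general; this row treats simple graphs.) -/
theorem result {V : Type u} [Fintype V] [DecidableEq V]
    (G : SimpleGraph V) [DecidableRel G.Adj] (hconn : G.Connected) (c : V → Bool)
    (hbip : ∀ v w : V, G.Adj v w → c v ≠ c w) (A : Type v) [AddCommGroup A] (a : V → A)
    (hsum : ∑ v ∈ Finset.univ.filter (fun v => c v = true), a v =
      ∑ v ∈ Finset.univ.filter (fun v => c v = false), a v) :
    ∃ x : Sym2 V → A, ∀ v : V, ∑ e ∈ G.incidenceFinset v, x e = a v := by
  classical
  let bd : (Sym2 V → A) →+ (V → A) :=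
    { toFun := fun x v => ∑ e ∈ G.incidenceFinset v, x e
      map_zero' := by funext v; simp
      map_add' := by intro x y; funext v; simp [Finset.sum_add_distrib] }
  have hbd : ∀ x v, bd x v = ∑ e ∈ G.incidenceFinset v, x e := fun x v => rfl
  suffices h : a ∈ bd.range by
    obtain ⟨x, hx⟩ := h
    exact ⟨x, fun v => by rw [← hbd, hx]⟩
  let sg : V → ℤ := fun v => if c v = true then 1 else -1
  have hsg2 : ∀ v, sg v * sg v = 1 := by
    intro v; simp only [sg]; split_ifs <;> norm_num
  have hsgadj : ∀ v u, G.Adj v u → sg u = - sg v := by
    intro v u h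
    have h1 := hbip v u h
    simp only [sg]
    cases hv : c v <;> cases hu : c u <;> simp_all
  have hedge : ∀ v u, G.Adj v u → ∀ s : A,
      (Pi.single v s + Pi.single u s : V → A) ∈ bd.range := by
    intro v u h s
    refine ⟨Pi.single s(v, u) s, ?_⟩
    funext w
    rw [hbd, Finset.sum_pi_single', Pi.add_apply, Pi.single_apply, Pi.single_apply]
    have hne : v ≠ u := h.ne
    by_cases hwv : w = v
    · subst hwv
      have h1 : s(w, u) ∈ G.incidenceFinset w := by
        rw [SimpleGraph.mem_incidenceFinset, SimpleGraph.mk'_mem_incidenceSet_iff]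
        exact ⟨h, Or.inl rfl⟩
      rw [if_pos h1, if_pos rfl, if_neg hne, add_zero]
    · by_cases hwu : w = u
      · subst hwu
        have h1 : s(v, w) ∈ G.incidenceFinset w := by
          rw [SimpleGraph.mem_incidenceFinset, SimpleGraph.mk'_mem_incidenceSet_iff]
          exact ⟨h, Or.inr rfl⟩
        rw [if_pos h1, if_neg hwv, if_pos rfl, zero_add]
      · have h1 : s(v, u) ∉ G.incidenceFinset w := by
          rw [SimpleGraph.mem_incidenceFinset, SimpleGraph.mk'_mem_incidenceSet_iff]
          rintro ⟨-, h1 | h1⟩
          · exact hwv h1
          · exact hwu h1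
        rw [if_neg h1, if_neg hwv, if_neg hwu, add_zero]
  have hreach : ∀ v w, G.Reachable v w → ∀ t : A,
      (Pi.single v (sg v • t) - Pi.single w (sg w • t) : V → A) ∈ bd.range := by
    intro v w hvw
    rw [SimpleGraph.reachable_iff_reflTransGen] at hvw
    induction hvw with
    | refl => intro t; rw [sub_self]; exact bd.range.zero_mem
    | @tail u w' _ hadj ih =>
      intro t
      have h1 := hedge u w' hadj (sg u • t)
      have h2 : (Pi.single v (sg v • t) - Pi.single w' (sg w' • t) : V → A)
          = (Pi.single v (sg v • t) - Pi.single u (sg u • t))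
            + (Pi.single u (sg u • t) + Pi.single w' (sg u • t)) := by
        rw [hsgadj u w' hadj, neg_smul, Pi.single_neg]; abel
      rw [h2]
      exact bd.range.add_mem (ih t) h1
  obtain ⟨v₀⟩ := hconn.nonempty
  have hdecomp : a = ∑ v, (Pi.single v (sg v • (sg v • a v))
      - Pi.single v₀ (sg v₀ • (sg v • a v)) : V → A)
      + ∑ v, (Pi.single v₀ (sg v₀ • (sg v • a v)) : V → A) := by
    rw [← Finset.sum_add_distrib]
    simp only [sub_add_cancel, smul_smul, hsg2, one_smul]
    exact (Finset.univ_sum_single a).symm
  rw [hdecomp]
  apply bd.range.add_mem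
  · apply bd.range.sum_mem
    intro v _
    exact hreach v v₀ (hconn.preconnected v v₀) (sg v • a v)
  · have h3 : ∑ v, (Pi.single v₀ (sg v₀ • (sg v • a v)) : V → A)
        = Pi.single v₀ (sg v₀ • ∑ v, sg v • a v) := by
      rw [Finset.smul_sum]
      exact (map_sum (AddMonoidHom.single (fun _ : V => A) v₀) _ _).symm
    have h4 : ∑ v, sg v • a v = 0 := by
      have h5 : ∀ v, sg v • a v = if c v = true then a v else - a v := by
        intro v; simp only [sg]; split_ifs <;> simp
      simp only [h5]
      rw [Finset.sum_ite, Finset.sum_neg_distrib]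
      have h6 : Finset.univ.filter (fun v => ¬ c v = true)
          = Finset.univ.filter (fun v => c v = false) := by
        ext v; simp
      rw [h6, hsum, add_neg_cancel]
    rw [h3, h4, smul_zero, Pi.single_zero]
    exact bd.range.zero_mem

end Groth.Agent.S13409
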