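import Groth.Statements.S13410
-- import your own Groth.Agent.* helpers here
import Mathlib
import Groth.Agent.S13409

set_option autoImplicit false
universe u v
open CombGraph

namespace Groth.Agent.S13410

/-- Let `A` be an abelian group and `G` a finite connected simple graph on `V`, bipartite for a
two-colouring `c`. Consider the additive group of labellings `x : Sym2 V → A` vanishing off the edge
set and with `∑_{e ∋ v} x e = 0` at every vertex `v`. If `e₀` is an edge whose deletion leaves `G`
connected, then evaluation at `e₀` restricted to this group is surjective and split: there is an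
additive map `φ : A → (Sym2 V → A)` with values in this group and with `φ a e₀ = a` for all `a`.
(The published statement concerns finite bipartite graphs in general; this row treats simple
graphs.) -/
theorem result {V : Type u} [Fintype V]
    [DecidableEq V] (G : SimpleGraph V) [DecidableRel G.Adj] (hconn : G.Connected) (c : V → Bool)
    (hbip : ∀ v w : V, G.Adj v w → c v ≠ c w) (A : Type v) [AddCommGroup A] (e₀ : Sym2 V)
    (he₀ : e₀ ∈ G.edgeSet) (hdel : (G.deleteEdges {e₀}).Connected) :
    ∃ φ : A →+ (Sym2 V → A),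
      (∀ a : A, (∀ e : Sym2 V, e ∉ G.edgeSet → φ a e = 0) ∧
        ∀ v : V, ∑ e ∈ G.incidenceFinset v, φ a e = 0) ∧
      ∀ a : A, φ a e₀ = a := by
  classical
  induction e₀ using Sym2.ind with
  | _ v w =>
  have hvw : G.Adj v w := (SimpleGraph.mem_edgeSet G).mp he₀
  have hne : v ≠ w := hvw.ne
  haveI : DecidableRel (G.deleteEdges {s(v, w)}).Adj := Classical.decRel _
  have hbip' : ∀ x y, (G.deleteEdges {s(v, w)}).Adj x y → c x ≠ c y :=
    fun x y h => hbip x y ((SimpleGraph.deleteEdges_adj).mp h).1
  have hedge' : ∀ e, e ∈ (G.deleteEdges {s(v, w)}).edgeSet ↔ e ∈ G.edgeSet ∧ e ≠ s(v, w) := by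
    intro e
    rw [SimpleGraph.edgeSet_deleteEdges, Set.mem_diff, Set.mem_singleton_iff]
  have hsum' : ∑ u ∈ Finset.univ.filter (fun u => c u = true),
      (Pi.single v 1 + Pi.single w 1 : V → ℤ) u
      = ∑ u ∈ Finset.univ.filter (fun u => c u = false),
        (Pi.single v 1 + Pi.single w 1 : V → ℤ) u := by
    have hcvw := hbip v w hvw
    simp only [Pi.add_apply, Finset.sum_add_distrib, Finset.sum_pi_single', Finset.mem_filter,
      Finset.mem_univ, true_and]
    cases hv : c v <;> cases hw : c w <;> simp_all
  obtain ⟨y, hy⟩ := Groth.Agent.S13409.result (G.deleteEdges {s(v, w)}) hdel c hbip' ℤ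
    (Pi.single v 1 + Pi.single w 1) hsum'
  let n : Sym2 V → ℤ := fun e => (if e = s(v, w) then 1 else 0)
    - (if e ∈ (G.deleteEdges {s(v, w)}).edgeSet then y e else 0)
  let φ : A →+ (Sym2 V → A) :=
    { toFun := fun a e => n e • a
      map_zero' := by funext e; simp
      map_add' := by intro a b; funext e; simp [smul_add] }
  have hφ : ∀ a e, φ a e = n e • a := fun a e => rfl
  refine ⟨φ, fun a => ⟨fun e he => ?_, fun u => ?_⟩, fun a => ?_⟩
  · have h1 : e ≠ s(v, w) := by
      rintro rfl; exact he ((SimpleGraph.mem_edgeSet G).mpr hvw)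
    have h2 : e ∉ (G.deleteEdges {s(v, w)}).edgeSet := fun h => he ((hedge' e).mp h).1
    rw [hφ]
    simp only [n, if_neg h1, if_neg h2, sub_zero, zero_smul]
  · simp only [hφ]
    rw [← Finset.sum_smul]
    have hinc : (G.incidenceFinset u).filter (fun e => e ∈ (G.deleteEdges {s(v, w)}).edgeSet)
        = (G.deleteEdges {s(v, w)}).incidenceFinset u := by
      ext e
      rw [Finset.mem_filter, SimpleGraph.mem_incidenceFinset, SimpleGraph.mem_incidenceFinset]
      constructor
      · rintro ⟨h1, h2⟩; exact ⟨h2, h1.2⟩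
      · rintro ⟨h1, h2⟩; exact ⟨⟨((hedge' e).mp h1).1, h2⟩, h1⟩
    have hsumn : ∑ e ∈ G.incidenceFinset u, n e = 0 := by
      simp only [n, Finset.sum_sub_distrib]
      rw [Finset.sum_ite_eq', ← Finset.sum_filter, hinc, hy u, Pi.add_apply, Pi.single_apply,
        Pi.single_apply]
      have hmem : s(v, w) ∈ G.incidenceFinset u ↔ (u = v ∨ u = w) := by
        rw [SimpleGraph.mem_incidenceFinset, SimpleGraph.mk'_mem_incidenceSet_iff]
        exact ⟨fun h => h.2, fun h => ⟨hvw, h⟩⟩
      by_cases huv : u = v
      · have huw : u ≠ w := fun h => hne (huv.symm.trans h)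
        rw [if_pos (hmem.mpr (Or.inl huv)), if_pos huv, if_neg huw]; norm_num
      · by_cases huw : u = w
        · rw [if_pos (hmem.mpr (Or.inr huw)), if_neg huv, if_pos huw]; norm_num
        · rw [if_neg (fun h => (hmem.mp h).elim huv huw), if_neg huv, if_neg huw]; norm_num
    rw [hsumn, zero_smul]
  · rw [hφ]
    have h2 : s(v, w) ∉ (G.deleteEdges {s(v, w)}).edgeSet := fun h => ((hedge' _).mp h).2 rfl
    simp only [n, if_neg h2, sub_zero, if_true, one_smul]

end Groth.Agent.S13410
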