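import Groth.Statements.S13418
-- import your own Groth.Agent.* helpers here
import Mathlib

set_option autoImplicit false
universe u
open CategoryTheory AlgebraicGeometry
open NeronHD

namespace Groth.Agent.S13418

section gen
open CategoryTheory

lemma prod_bij {C D : Type*} [Category C] [Category D] (R : C ⥤ D) {L : D ⥤ C} (adj : L ⊣ R)
    {N M P : C} (π₁ : P ⟶ N) (π₂ : P ⟶ M)
    (hPex : ∀ {W : C} (a : W ⟶ N) (b : W ⟶ M), ∃ g : W ⟶ P, g ≫ π₁ = a ∧ g ≫ π₂ = b)
    (hPuniq : ∀ {W : C} (g g' : W ⟶ P), g ≫ π₁ = g' ≫ π₁ → g ≫ π₂ = g' ≫ π₂ → g = g')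
    (Z : C) (hN : Function.Bijective (fun g : Z ⟶ N => R.map g))
    (hM : Function.Bijective (fun g : Z ⟶ M => R.map g)) :
    Function.Bijective (fun g : Z ⟶ P => R.map g) := by
  have jm : ∀ {W : D} (x y : W ⟶ R.obj P), x ≫ R.map π₁ = y ≫ R.map π₁ →
      x ≫ R.map π₂ = y ≫ R.map π₂ → x = y := by
    intro W x y h1 h2
    apply (adj.homEquiv W P).symm.injective
    apply hPuniq
    · rw [← Adjunction.homEquiv_naturality_right_symm,
        ← Adjunction.homEquiv_naturality_right_symm, h1]
    · rw [← Adjunction.homEquiv_naturality_right_symm,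
        ← Adjunction.homEquiv_naturality_right_symm, h2]
  constructor
  · intro g g' h
    have h' : R.map g = R.map g' := h
    apply hPuniq
    · apply hN.1
      show R.map (g ≫ π₁) = R.map (g' ≫ π₁)
      rw [R.map_comp, R.map_comp, h']
    · apply hM.1
      show R.map (g ≫ π₂) = R.map (g' ≫ π₂)
      rw [R.map_comp, R.map_comp, h']
  · intro h
    obtain ⟨a, ha⟩ := hN.2 (h ≫ R.map π₁)
    obtain ⟨b, hb⟩ := hM.2 (h ≫ R.map π₂)
    obtain ⟨g, hg1, hg2⟩ := hPex a b
    refine ⟨g, ?_⟩
    apply jm
    · show R.map g ≫ R.map π₁ = h ≫ R.map π₁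
      rw [← R.map_comp, hg1]; exact ha
    · show R.map g ≫ R.map π₂ = h ≫ R.map π₂
      rw [← R.map_comp, hg2]; exact hb

end gen

/-- Let S be a locally Noetherian scheme over a field of characteristic 0 and S₀ ⊆ S a
scheme-theoretically dense open. If N and M are smooth S-schemes having the Néron mapping property
for S₀ ⊆ S (for every smooth S-scheme Z, restriction to S₀ is a bijection from S-morphisms Z → N
onto S₀-morphisms Z|S₀ → N|S₀), then the fibre product N ×_S M has the Néron mapping property for S₀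
⊆ S (its smoothness over S being automatic). (This row is the case of schemes, with smooth test
schemes, of a statement about algebraic spaces.) -/
theorem result {k : Type u} [Field k] [CharZero k] {S : Scheme.{u}} (σ : S ⟶ Spec (CommRingCat.of k)) [IsLocallyNoetherian S] (S₀ : S.Opens) (hS₀ : CInt.IsSchematicallyDense S₀)
    (N M : Over S) [Smooth N.hom] [Smooth M.hom]
    (hN : ∀ Z : Over S, Smooth Z.hom → Function.Bijective (fun g : Z ⟶ N => (Over.pullback S₀.ι).map g))
    (hM : ∀ Z : Over S, Smooth Z.hom → Function.Bijective (fun g : Z ⟶ M => (Over.pullback S₀.ι).map g)) :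
    ∀ Z : Over S, Smooth Z.hom → Function.Bijective (fun g : Z ⟶ Over.mk (Limits.pullback.fst N.hom M.hom ≫ N.hom) => (Over.pullback S₀.ι).map g) := by
  intro Z hZ
  refine prod_bij (Over.pullback S₀.ι) (Over.mapPullbackAdj S₀.ι)
    (P := Over.mk (Limits.pullback.fst N.hom M.hom ≫ N.hom))
    (Over.homMk (Limits.pullback.fst N.hom M.hom) rfl)
    (Over.homMk (Limits.pullback.snd N.hom M.hom) (Limits.pullback.condition).symm)
    ?_ ?_ Z (hN Z hZ) (hM Z hZ)
  · intro W a b
    refine ⟨Over.homMk (Limits.pullback.lift a.left b.left (by rw [Over.w a, Over.w b])) ?_, ?_, ?_⟩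
    · show Limits.pullback.lift a.left b.left _ ≫ Limits.pullback.fst N.hom M.hom ≫ N.hom = W.hom
      rw [Limits.pullback.lift_fst_assoc, Over.w a]
    · ext
      exact Limits.pullback.lift_fst _ _ _
    · ext
      exact Limits.pullback.lift_snd _ _ _
  · intro W g g' h1 h2
    ext
    apply Limits.pullback.hom_ext
    · exact congrArg CommaMorphism.left h1
    · exact congrArg CommaMorphism.left h2

end Groth.Agent.S13418
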