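import Groth.Statements.S13420
-- import your own Groth.Agent.* helpers here
import Groth.Agent.Lib.helper7.NeronFormal

set_option autoImplicit false
universe u
open CategoryTheory AlgebraicGeometry
open NeronHD

namespace Groth.Agent.S13420

/-- Let S be a locally Noetherian scheme over a field of characteristic 0, S₀ ⊆ S₁ ⊆ S opens with S₀
scheme-theoretically dense in S, and N a smooth S-scheme. If N has the Néron mapping property for S₀
⊆ S and N|S₁ has the Néron mapping property for S₀ ⊆ S₁ (restriction of morphisms from smooth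
schemes over the base is bijective), then N has the Néron mapping property for S₁ ⊆ S. (Case of
schemes, with smooth test schemes, of a statement about algebraic spaces.) -/
theorem result {k : Type u} [Field k] [CharZero k] {S : Scheme.{u}} (σ : S ⟶ Spec (CommRingCat.of k)) [IsLocallyNoetherian S] (S₀ S₁ : S.Opens) (h01 : S₀ ≤ S₁) (hS₀ : CInt.IsSchematicallyDense S₀)
    (N : Over S) [Smooth N.hom]
    (hN0 : ∀ Z : Over S, Smooth Z.hom → Function.Bijective (fun g : Z ⟶ N => (Over.pullback S₀.ι).map g))
    (hN10 : ∀ Z : Over (S₁ : Scheme.{u}), Smooth Z.hom → Function.Bijective (fun g : Z ⟶ (Over.pullback S₁.ι).obj N => (Over.pullback (S₁.ι ⁻¹ᵁ S₀).ι).map g)) :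
    ∀ Z : Over S, Smooth Z.hom → Function.Bijective (fun g : Z ⟶ N => (Over.pullback S₁.ι).map g) := by
  intro Z hZ
  haveI := hZ
  obtain ⟨α⟩ := Groth.Agent.Lib.helper7.NeronFormal.compIso h01
  haveI := Groth.Agent.Lib.helper7.NeronFormal.faithful_pullback_iso (Scheme.Opens.isoOfLE h01).hom
  haveI := Groth.Agent.Lib.helper7.NeronFormal.full_pullback_iso (Scheme.Opens.isoOfLE h01).hom
  exact Groth.Agent.Lib.helper7.NeronFormal.bij₁_of (Over.pullback S₁.ι)
    (Over.pullback (S₁.ι ⁻¹ᵁ S₀).ι) (Over.pullback S₀.ι) _ α Z N (hN0 Z hZ)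
    (hN10 ((Over.pullback S₁.ι).obj Z)
      (inferInstanceAs (Smooth (Limits.pullback.snd Z.hom S₁.ι)))).1

end Groth.Agent.S13420
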