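import Groth.Statements.S13427
-- import your own Groth.Agent.* helpers here
import Mathlib

set_option autoImplicit false
universe u
open CategoryTheory AlgebraicGeometry
open NeronHD

namespace Groth.Agent.S13427

section gen
open CategoryTheory

lemma pb_bij {C D : Type*} [Category C] [Category D] (R : C ⥤ D) {L : D ⥤ C} (adj : L ⊣ R)
    {G T H P : C} (f : G ⟶ H) (t : T ⟶ H) (π₁ : P ⟶ G) (π₂ : P ⟶ T)
    (hPex : ∀ {W : C} (a : W ⟶ G) (b : W ⟶ T), a ≫ f = b ≫ t →
      ∃ g : W ⟶ P, g ≫ π₁ = a ∧ g ≫ π₂ = b)
    (hPuniq : ∀ {W : C} (g g' : W ⟶ P), g ≫ π₁ = g' ≫ π₁ → g ≫ π₂ = g' ≫ π₂ → g = g')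
    (hsq : π₁ ≫ f = π₂ ≫ t)
    (Z : C) (hG : Function.Bijective (fun g : Z ⟶ G => R.map g))
    (hT : Function.Bijective (fun g : Z ⟶ T => R.map g))
    (hH : Function.Injective (fun g : Z ⟶ H => R.map g)) :
    Function.Bijective (fun g : Z ⟶ P => R.map g) := by
  have jm : ∀ {W : D} (x y : W ⟶ R.obj P), x ≫ R.map π₁ = y ≫ R.map π₁ →
      x ≫ R.map π₂ = y ≫ R.map π₂ → x = y := by
    intro W x y h1 h2
    apply (adj.homEquiv W P).symm.injective
    apply hPuniq
    · rw [← Adjunction.homEquiv_naturality_right_symm,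
        ← Adjunction.homEquiv_naturality_right_symm, h1]
    · rw [← Adjunction.homEquiv_naturality_right_symm,
        ← Adjunction.homEquiv_naturality_right_symm, h2]
  constructor
  · intro g g' h
    have h' : R.map g = R.map g' := h
    apply hPuniq
    · apply hG.1
      show R.map (g ≫ π₁) = R.map (g' ≫ π₁)
      rw [R.map_comp, R.map_comp, h']
    · apply hT.1
      show R.map (g ≫ π₂) = R.map (g' ≫ π₂)
      rw [R.map_comp, R.map_comp, h']
  · intro h
    obtain ⟨a, ha⟩ := hG.2 (h ≫ R.map π₁)
    obtain ⟨b, hb⟩ := hT.2 (h ≫ R.map π₂)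
    have ha' : R.map a = h ≫ R.map π₁ := ha
    have hb' : R.map b = h ≫ R.map π₂ := hb
    have hab : a ≫ f = b ≫ t := by
      apply hH
      show R.map (a ≫ f) = R.map (b ≫ t)
      rw [R.map_comp, R.map_comp, ha', hb', Category.assoc, Category.assoc, ← R.map_comp,
        ← R.map_comp, hsq]
    obtain ⟨g, hg1, hg2⟩ := hPex a b hab
    refine ⟨g, ?_⟩
    apply jm
    · show R.map g ≫ R.map π₁ = h ≫ R.map π₁
      rw [← R.map_comp, hg1]; exact ha
    · show R.map g ≫ R.map π₂ = h ≫ R.map π₂
      rw [← R.map_comp, hg2]; exact hb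

lemma term_bij {C D : Type*} [Category C] [Category D] (R : C ⥤ D) {L : D ⥤ C} (adj : L ⊣ R)
    {T : C} (hT : Limits.IsTerminal T) (Z : C) :
    Function.Bijective (fun g : Z ⟶ T => R.map g) := by
  constructor
  · intro g g' _
    exact hT.hom_ext _ _
  · intro h
    refine ⟨hT.from Z, ?_⟩
    apply (adj.homEquiv _ _).symm.injective
    exact hT.hom_ext _ _

end gen

/-- Let S be a locally Noetherian scheme over a field of characteristic 0, S₀ ⊆ S a scheme-theoretically
dense open, and G, H smooth S-schemes with the Néron mapping property for S₀ ⊆ S (restriction to S₀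
of S-morphisms from smooth S-schemes is bijective). Let f : G → H be an S-morphism and e : S → H a
section of H → S, and let K = G ×_H S be the fibre of f over e (the case in view: f a homomorphism
of smooth group schemes, e the unit, K the kernel, so that 1 → K → G → H is left exact). If K → S is
smooth, then K has the Néron mapping property for S₀ ⊆ S. (Case of schemes, with smooth test
schemes, of a statement about group algebraic spaces.) -/
theorem result {k : Type u} [Field k] [CharZero k] {S : Scheme.{u}} (σ : S ⟶ Spec (CommRingCat.of k)) [IsLocallyNoetherian S] (S₀ : S.Opens) (hS₀ : CInt.IsSchematicallyDense S₀)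
    (G H : Over S) [Smooth G.hom] [Smooth H.hom]
    (hG : ∀ Z : Over S, Smooth Z.hom → Function.Bijective (fun g : Z ⟶ G => (Over.pullback S₀.ι).map g))
    (hH : ∀ Z : Over S, Smooth Z.hom → Function.Bijective (fun g : Z ⟶ H => (Over.pullback S₀.ι).map g))
    (f : G ⟶ H) (e : S ⟶ H.left) (he : e ≫ H.hom = 𝟙 S)
    [Smooth (Limits.pullback.snd f.left e)] :
    ∀ Z : Over S, Smooth Z.hom → Function.Bijective (fun g : Z ⟶ Over.mk (Limits.pullback.snd f.left e) => (Over.pullback S₀.ι).map g) := by
  intro Z hZ
  have hw : Limits.pullback.fst f.left e ≫ G.hom = Limits.pullback.snd f.left e := by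
    rw [← Over.w f, ← Category.assoc, Limits.pullback.condition, Category.assoc, he,
      Category.comp_id]
  refine pb_bij (Over.pullback S₀.ι) (Over.mapPullbackAdj S₀.ι)
    (T := Over.mk (𝟙 S)) (P := Over.mk (Limits.pullback.snd f.left e))
    f (Over.homMk e he)
    (Over.homMk (Limits.pullback.fst f.left e) hw)
    (Over.homMk (Limits.pullback.snd f.left e) (Category.comp_id _))
    ?_ ?_ ?_ Z (hG Z hZ) (term_bij _ (Over.mapPullbackAdj S₀.ι) Over.mkIdTerminal Z) (hH Z hZ).1
  · intro W a b hab
    have hab' : a.left ≫ f.left = b.left ≫ e := congrArg CommaMorphism.left hab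
    have hb : b.left = W.hom := by
      have := Over.w b
      simpa using this
    refine ⟨Over.homMk (Limits.pullback.lift a.left b.left hab') ?_, ?_, ?_⟩
    · show Limits.pullback.lift a.left b.left _ ≫ Limits.pullback.snd f.left e = W.hom
      rw [Limits.pullback.lift_snd, hb]
    · ext
      exact Limits.pullback.lift_fst _ _ _
    · ext
      exact Limits.pullback.lift_snd _ _ _
  · intro W g g' h1 h2
    ext
    apply Limits.pullback.hom_ext
    · exact congrArg CommaMorphism.left h1
    · exact congrArg CommaMorphism.left h2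
  · ext
    exact Limits.pullback.condition

end Groth.Agent.S13427
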