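import Groth.Statements.S13441
-- import your own Groth.Agent.* helpers here
import Mathlib

set_option autoImplicit false
universe u
open W4c1hilbpn

namespace Groth.Agent.S13441

open W4c1hilbpn in
/-- Let k be an infinite field, S = k[x,y,z] with variables ordered x > y > z, and I a strongly stable
ideal of finite colength, with staircase numbers b^z_{i,j} = the number of c with x^i y^j z^c
outside I and b^y_{i,j} = the number of b with x^i y^b z^j outside I. Then b^z_{i+1,j} ≤ b^z_{i,j+1}
and b^y_{i+1,j} ≤ b^y_{i,j+1} for all i and j (equivalently the maximum of the two neighbouring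
staircase numbers is the second one). -/
theorem result (k : Type u) [Field k] [Infinite k]
    (I : Ideal (MvPolynomial (Fin 3) k)) (hI : IsStronglyStable I) [Module.Finite k (MvPolynomial (Fin 3) k ⧸ I)] (i j : ℕ) :
    stairZ I (i + 1) j ≤ stairZ I i (j + 1) ∧ stairY I (i + 1) j ≤ stairY I i (j + 1) := by
  classical
  obtain ⟨hmon, hss⟩ := hI
  have hfin : ∀ (g : ℕ → (Fin 3 →₀ ℕ)), Function.Injective g →
      {c : ℕ | g c ∉ exps I}.Finite := by
    intro g hg
    have hli : LinearIndependent k (fun c : {c : ℕ // g c ∉ exps I} =>
        Ideal.Quotient.mk I (MvPolynomial.monomial (g c.1) (1 : k))) := by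
      rw [linearIndependent_iff']
      intro s w hsum c hc
      by_contra hw
      have hp : (∑ i ∈ s, MvPolynomial.monomial (g i.1) (w i)) ∈ I := by
        rw [← Ideal.Quotient.eq_zero_iff_mem, map_sum, ← hsum]
        apply Finset.sum_congr rfl
        intro i _
        have h1 : MvPolynomial.monomial (g i.1) (w i)
            = w i • MvPolynomial.monomial (g i.1) (1 : k) := by
          rw [MvPolynomial.smul_monomial, smul_eq_mul, mul_one]
        rw [h1]
        rfl
      have hcoeff : MvPolynomial.coeff (g c.1)
          (∑ i ∈ s, MvPolynomial.monomial (g i.1) (w i)) = w c := by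
        rw [MvPolynomial.coeff_sum]
        simp only [MvPolynomial.coeff_monomial]
        rw [Finset.sum_eq_single c]
        · simp
        · intro b _ hbc
          rw [if_neg]
          intro h
          exact hbc (Subtype.ext (hg h))
        · intro h; exact absurd hc h
      have hsupp : g c.1 ∈ (∑ i ∈ s, MvPolynomial.monomial (g i.1) (w i)).support := by
        rw [MvPolynomial.mem_support_iff, hcoeff]; exact hw
      exact c.2 (hmon _ hp _ hsupp)
    have hf := hli.finite_of_isNoetherian
    exact Set.finite_coe_iff.1 hf
  constructor
  · unfold stairZ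
    have hsub : {c : ℕ | e3 (i + 1) j c ∉ exps I} ⊆ {c : ℕ | e3 i (j + 1) c ∉ exps I} := by
      intro c hc hmem
      apply hc
      have h1 := hss (e3 i (j + 1) c) hmem 0 1 (by decide) (by simp [e3])
      have h2 : e3 i (j + 1) c - Finsupp.single 1 1 + Finsupp.single 0 1 = e3 (i + 1) j c := by
        ext l
        simp only [Finsupp.coe_add, Finsupp.coe_tsub, Pi.add_apply, Pi.sub_apply,
          Finsupp.single_apply, e3, Finsupp.equivFunOnFinite_symm_apply_apply]
        fin_cases l <;> simp
      rw [h2] at h1
      exact h1
    have hinj : Function.Injective (fun c : ℕ => e3 i (j + 1) c) := by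
      intro c c' h
      have h1 := DFunLike.congr_fun h 2
      simpa [e3] using h1
    exact Nat.card_mono (hfin _ hinj) hsub
  · unfold stairY
    have hsub : {b : ℕ | e3 (i + 1) b j ∉ exps I} ⊆ {b : ℕ | e3 i b (j + 1) ∉ exps I} := by
      intro b hb hmem
      apply hb
      have h1 := hss (e3 i b (j + 1)) hmem 0 2 (by decide) (by simp [e3])
      have h2 : e3 i b (j + 1) - Finsupp.single 2 1 + Finsupp.single 0 1 = e3 (i + 1) b j := by
        ext l
        simp only [Finsupp.coe_add, Finsupp.coe_tsub, Pi.add_apply, Pi.sub_apply,
          Finsupp.single_apply, e3, Finsupp.equivFunOnFinite_symm_apply_apply]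
        fin_cases l <;> simp
      rw [h2] at h1
      exact h1
    have hinj : Function.Injective (fun b : ℕ => e3 i b (j + 1)) := by
      intro b b' h
      have h1 := DFunLike.congr_fun h 1
      simpa [e3] using h1
    exact Nat.card_mono (hfin _ hinj) hsub

end Groth.Agent.S13441
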