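import Groth.Statements.S13453
-- import your own Groth.Agent.* helpers here
import Mathlib

set_option autoImplicit false
universe u
open W4c1hilbpn

namespace Groth.Agent.S13453

open W4c1hilbpn MvPolynomial

noncomputable def T (a : ℕ) (β : Fin 2 →₀ ℕ) : Fin 3 →₀ ℕ :=
  Finsupp.mapDomain Fin.succ β + Finsupp.single 0 a

lemma T_zero (a : ℕ) (β : Fin 2 →₀ ℕ) : T a β 0 = a := by
  unfold T
  rw [Finsupp.add_apply, Finsupp.mapDomain_notin_range, Finsupp.single_eq_same, zero_add]
  rintro ⟨l, hl⟩
  exact Fin.succ_ne_zero l hl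

lemma T_succ (a : ℕ) (β : Fin 2 →₀ ℕ) (l : Fin 2) : T a β l.succ = β l := by
  unfold T
  rw [Finsupp.add_apply, Finsupp.mapDomain_apply (Fin.succ_injective 2), Finsupp.single_apply,
    if_neg (Fin.succ_ne_zero l).symm, add_zero]

lemma T_one (a : ℕ) (β : Fin 2 →₀ ℕ) : T a β 1 = β 0 := T_succ a β 0

lemma T_two (a : ℕ) (β : Fin 2 →₀ ℕ) : T a β 2 = β 1 := T_succ a β 1

lemma mem_slice_iff {k : Type*} [Field k] (I : Ideal (MvPolynomial (Fin 3) k))
    (hmon : IsMonomial I) (a : ℕ) (f : MvPolynomial (Fin 2) k) :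
    f ∈ sliceX I a ↔ ∀ β ∈ f.support, T a β ∈ exps I := by
  have hmem : f ∈ sliceX I a ↔ rename Fin.succ f * X 0 ^ a ∈ I := by
    unfold sliceX
    rw [Ideal.mem_comap, Submodule.mem_colon_singleton, smul_eq_mul]
    rfl
  rw [hmem]
  have hX : (X 0 : MvPolynomial (Fin 3) k) ^ a = monomial (Finsupp.single 0 a) 1 :=
    MvPolynomial.X_pow_eq_monomial
  constructor
  · intro hg β hβ
    have hc : coeff (T a β) (rename Fin.succ f * X 0 ^ a) = coeff β f := by
      rw [hX]
      unfold T
      rw [coeff_mul_monomial, mul_one, coeff_rename_mapDomain _ (Fin.succ_injective 2)]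
    have hs : T a β ∈ (rename Fin.succ f * X 0 ^ a).support := by
      rw [mem_support_iff, hc]
      exact mem_support_iff.mp hβ
    exact hmon _ hg _ hs
  · intro h
    have e : rename Fin.succ f = ∑ β ∈ f.support, rename Fin.succ (monomial β (coeff β f)) := by
      rw [← map_sum, support_sum_monomial_coeff]
    rw [e, Finset.sum_mul]
    apply Ideal.sum_mem
    intro β hβ
    rw [rename_monomial, hX, monomial_mul, mul_one]
    have h1 : monomial (Finsupp.mapDomain Fin.succ β + Finsupp.single 0 a) (coeff β f)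
        = C (coeff β f) * monomial (T a β) (1 : k) := by
      rw [C_mul_monomial, mul_one]
      rfl
    rw [h1]
    exact Ideal.mul_mem_left _ _ (h β hβ)

open W4c1hilbpn in
/-- Let k be an infinite field, S = k[x,y,z] with variables ordered x > y > z, and I a strongly stable
ideal of finite colength; write I_i for the ideal of polynomials f in k[y,z] with x^i f in I (so I
is the direct sum of the x^i I_i). Then each I_i is a strongly stable ideal of k[y,z] (with y > z)
and the ideal quotient (I_i : y) is contained in I_{i+1}. -/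
theorem result (k : Type u) [Field k] [Infinite k]
    (I : Ideal (MvPolynomial (Fin 3) k)) (hI : IsStronglyStable I) [Module.Finite k (MvPolynomial (Fin 3) k ⧸ I)] (i : ℕ) :
    IsStronglyStable (sliceX I i) ∧
      (sliceX I i).colon {(MvPolynomial.X 0 : MvPolynomial (Fin 2) k)} ≤ sliceX I (i + 1) := by
  classical
  obtain ⟨hmon, hss⟩ := hI
  have hexp : ∀ (a : ℕ) (β : Fin 2 →₀ ℕ), β ∈ exps (sliceX I a) ↔ T a β ∈ exps I := by
    intro a β
    have h := mem_slice_iff I hmon a (MvPolynomial.monomial β (1 : k))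
    rw [MvPolynomial.support_monomial, if_neg one_ne_zero] at h
    simp only [Finset.mem_singleton, forall_eq] at h
    exact h
  refine ⟨⟨?_, ?_⟩, ?_⟩
  · intro p hp β hβ
    have h1 := (mem_slice_iff I hmon i p).mp hp β hβ
    exact (hexp i β).mpr h1
  · intro β hβ i' j' hij hpos
    rw [hexp] at hβ ⊢
    have hi0 : i' = 0 := by
      fin_cases i' <;> fin_cases j' <;> simp_all
    have hj1 : j' = 1 := by
      fin_cases i' <;> fin_cases j' <;> simp_all
    subst hi0 hj1
    have h2 := hss (T i β) hβ 1 2 (by decide) (by rw [T_two]; exact hpos)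
    have h3 : T i β - Finsupp.single 2 1 + Finsupp.single 1 1
        = T i (β - Finsupp.single 1 1 + Finsupp.single 0 1) := by
      ext l
      fin_cases l
      · show (T i β - Finsupp.single 2 1 + Finsupp.single 1 1 : Fin 3 →₀ ℕ) 0 = T i _ 0
        rw [T_zero]
        simp [T_zero]
      · show (T i β - Finsupp.single 2 1 + Finsupp.single 1 1 : Fin 3 →₀ ℕ) 1 = T i _ 1
        rw [T_one]
        simp [T_one]
      · show (T i β - Finsupp.single 2 1 + Finsupp.single 1 1 : Fin 3 →₀ ℕ) 2 = T i _ 2
        rw [T_two]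
        simp [T_two]
    rw [h3] at h2
    exact h2
  · intro f hf
    rw [Submodule.mem_colon_singleton, smul_eq_mul] at hf
    rw [mem_slice_iff I hmon] at hf ⊢
    intro β hβ
    have hs : β + Finsupp.single 0 1 ∈ (f * MvPolynomial.X 0).support := by
      rw [MvPolynomial.mem_support_iff, MvPolynomial.coeff_mul_X]
      exact MvPolynomial.mem_support_iff.mp hβ
    have h1 := hf _ hs
    have h2 := hss _ h1 0 1 (by decide) (by rw [T_one]; simp)
    have h3 : T i (β + Finsupp.single 0 1) - Finsupp.single 1 1 + Finsupp.single 0 1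
        = T (i + 1) β := by
      ext l
      fin_cases l
      · show (T i (β + Finsupp.single 0 1) - Finsupp.single 1 1 + Finsupp.single 0 1 : Fin 3 →₀ ℕ) 0
          = T (i + 1) β 0
        rw [T_zero]
        simp [T_zero]
      · show (T i (β + Finsupp.single 0 1) - Finsupp.single 1 1 + Finsupp.single 0 1 : Fin 3 →₀ ℕ) 1
          = T (i + 1) β 1
        rw [T_one]
        simp [T_one]
      · show (T i (β + Finsupp.single 0 1) - Finsupp.single 1 1 + Finsupp.single 0 1 : Fin 3 →₀ ℕ) 2
          = T (i + 1) β 2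
        rw [T_two]
        simp [T_two]
    rw [h3] at h2
    exact h2

end Groth.Agent.S13453
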