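import Groth.Statements.S13455
-- import your own Groth.Agent.* helpers here
import Mathlib

set_option autoImplicit false
universe u
open W4c1hilbpn

namespace Groth.Agent.S13455

open MvPolynomial

/-- exponent set of LHS generators -/
def EL (n k0 e1 e2 : ℕ) : Set (Fin (n+1) →₀ ℕ) :=
  {s | (∃ p q : Fin (n+1), e1 ≤ p.val ∧ p.val ≤ e2 ∧ e1 ≤ q.val ∧ q.val ≤ e2 ∧
        s = Finsupp.single p 1 + Finsupp.single q 1) ∨
       (∃ p q m : Fin (n+1), e1 ≤ p.val ∧ p.val < q.val ∧ q.val ≤ e2 ∧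
        m.val + k0 = n + 1 + q.val ∧ s = Finsupp.single p 1 + Finsupp.single m 1)}

/-- exponent set of RHS generators -/
def ER (n k0 e1 e2 : ℕ) (j : Fin (n+1)) : Set (Fin (n+1) →₀ ℕ) :=
  {s | (∃ i : Fin (n+1), e1 ≤ i.val ∧ i.val ≤ e2 ∧ i ≠ j ∧ s = Finsupp.single i 1) ∨
       s = Finsupp.single j 2 ∨
       (∃ q m : Fin (n+1), j.val < q.val ∧ q.val ≤ e2 ∧ m.val + k0 = n + 1 + q.val ∧
        s = Finsupp.single m 1)}

lemma two_le {σ : Type*} [DecidableEq σ] (μ : σ →₀ ℕ) (p q : σ) (hpq : p ≠ q)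
    (hp : 1 ≤ μ p) (hq : 1 ≤ μ q) : Finsupp.single p 1 + Finsupp.single q 1 ≤ μ := by
  intro i
  rw [Finsupp.add_apply, Finsupp.single_apply, Finsupp.single_apply]
  by_cases h1 : p = i
  · subst h1
    rw [if_pos rfl, if_neg (Ne.symm hpq)]
    omega
  · rw [if_neg h1]
    by_cases h2 : q = i
    · subst h2
      rw [if_pos rfl]
      omega
    · rw [if_neg h2]
      omega

lemma comb (n k0 e1 e2 : ℕ) (hn : 2 * k0 ≤ n + 1) (he : e1 ≤ e2) (he2 : e2 + 1 ≤ k0)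
    (μ : Fin (n+1) →₀ ℕ) :
    (∃ s ∈ EL n k0 e1 e2, s ≤ μ) ↔
      ∀ j : Fin (n+1), e1 ≤ j.val ∧ j.val ≤ e2 → ∃ s ∈ ER n k0 e1 e2 j, s ≤ μ := by
  constructor
  · rintro ⟨s, hs, hle⟩ j ⟨hj1, hj2⟩
    rcases hs with ⟨p, q, hp1, hp2, hq1, hq2, rfl⟩ | ⟨p, q, m, hp1, hpq, hq2, hm, rfl⟩
    · by_cases hpj : p = j
      · by_cases hqj : q = j
        · rw [hpj, hqj, ← Finsupp.single_add] at hle
          exact ⟨Finsupp.single j 2, Or.inr (Or.inl rfl), hle⟩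
        · exact ⟨Finsupp.single q 1, Or.inl ⟨q, hq1, hq2, hqj, rfl⟩, le_trans le_add_self hle⟩
      · exact ⟨Finsupp.single p 1, Or.inl ⟨p, hp1, hp2, hpj, rfl⟩, le_trans le_self_add hle⟩
    · by_cases hpj : p = j
      · subst hpj
        exact ⟨Finsupp.single m 1, Or.inr (Or.inr ⟨q, m, hpq, hq2, hm, rfl⟩),
          le_trans le_add_self hle⟩
      · exact ⟨Finsupp.single p 1, Or.inl ⟨p, hp1, by omega, hpj, rfl⟩,
          le_trans le_self_add hle⟩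
  · intro H
    by_cases h : ∃ p q : Fin (n+1), e1 ≤ p.val ∧ p.val ≤ e2 ∧ e1 ≤ q.val ∧ q.val ≤ e2 ∧ p ≠ q ∧
        1 ≤ μ p ∧ 1 ≤ μ q
    · obtain ⟨p, q, hp1, hp2, hq1, hq2, hpq, hμp, hμq⟩ := h
      exact ⟨_, Or.inl ⟨p, q, hp1, hp2, hq1, hq2, rfl⟩, two_le μ p q hpq hμp hμq⟩
    · by_cases h2 : ∃ p : Fin (n+1), e1 ≤ p.val ∧ p.val ≤ e2 ∧ 1 ≤ μ p
      · obtain ⟨p, hp1, hp2, hμp⟩ := h2
        obtain ⟨s', hs', hle'⟩ := H p ⟨hp1, hp2⟩
        rcases hs' with ⟨i, hi1, hi2, hip, rfl⟩ | rfl | ⟨q, m, hpq, hq2, hm, rfl⟩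
        · exfalso
          apply h
          exact ⟨p, i, hp1, hp2, hi1, hi2, Ne.symm hip, hμp, Finsupp.single_le_iff.1 hle'⟩
        · refine ⟨Finsupp.single p 1 + Finsupp.single p 1,
            Or.inl ⟨p, p, hp1, hp2, hp1, hp2, rfl⟩, ?_⟩
          rw [← Finsupp.single_add]
          exact hle'
        · have hne : p ≠ m := by
            intro hpm
            have := congrArg Fin.val hpm
            omega
          exact ⟨Finsupp.single p 1 + Finsupp.single m 1,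
            Or.inr ⟨p, q, m, hp1, hpq, hq2, hm, rfl⟩,
            two_le μ p m hne hμp (Finsupp.single_le_iff.1 hle')⟩
      · exfalso
        have hlt : e2 < n + 1 := by omega
        obtain ⟨s', hs', hle'⟩ := H ⟨e2, hlt⟩ ⟨he, le_rfl⟩
        rcases hs' with ⟨i, hi1, hi2, hip, rfl⟩ | rfl | ⟨q, m, hpq, hq2, hm, rfl⟩
        · exact h2 ⟨i, hi1, hi2, Finsupp.single_le_iff.1 hle'⟩
        · have := Finsupp.single_le_iff.1 hle'
          exact h2 ⟨⟨e2, hlt⟩, he, le_rfl, by omega⟩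
        · simp only at hpq
          omega

lemma genL_eq (k : Type u) [Field k] (n k0 e1 e2 : ℕ) :
    ({f : MvPolynomial (Fin (n + 1)) k | ∃ p q : Fin (n + 1), e1 ≤ p.val ∧ p.val ≤ e2 ∧ e1 ≤ q.val ∧ q.val ≤ e2 ∧
        f = MvPolynomial.X p * MvPolynomial.X q} ∪
      {f : MvPolynomial (Fin (n + 1)) k | ∃ p q m : Fin (n + 1), e1 ≤ p.val ∧ p.val < q.val ∧ q.val ≤ e2 ∧
        m.val + k0 = n + 1 + q.val ∧ f = MvPolynomial.X p * MvPolynomial.X m}) =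
    (fun s => monomial s (1 : k)) '' EL n k0 e1 e2 := by
  have hX : ∀ a b : Fin (n+1), (monomial (Finsupp.single a 1 + Finsupp.single b 1) (1 : k)) =
      (X a * X b : MvPolynomial (Fin (n + 1)) k) := by
    intro a b
    rw [X, X, monomial_mul, one_mul]
  ext f
  simp only [Set.mem_union, Set.mem_setOf_eq, Set.mem_image, EL]
  constructor
  · rintro (⟨p, q, h1, h2, h3, h4, rfl⟩ | ⟨p, q, m, h1, h2, h3, h4, rfl⟩)
    · exact ⟨_, Or.inl ⟨p, q, h1, h2, h3, h4, rfl⟩, hX p q⟩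
    · exact ⟨_, Or.inr ⟨p, q, m, h1, h2, h3, h4, rfl⟩, hX p m⟩
  · rintro ⟨s, (⟨p, q, h1, h2, h3, h4, rfl⟩ | ⟨p, q, m, h1, h2, h3, h4, rfl⟩), rfl⟩
    · exact Or.inl ⟨p, q, h1, h2, h3, h4, hX p q⟩
    · exact Or.inr ⟨p, q, m, h1, h2, h3, h4, hX p m⟩

lemma genR_eq (k : Type u) [Field k] (n k0 e1 e2 : ℕ) (j : Fin (n+1)) :
    ({f : MvPolynomial (Fin (n + 1)) k | ∃ i : Fin (n + 1), e1 ≤ i.val ∧ i.val ≤ e2 ∧ i ≠ j ∧ f = MvPolynomial.X i} ∪
        {MvPolynomial.X j ^ 2} ∪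
        {f : MvPolynomial (Fin (n + 1)) k | ∃ q m : Fin (n + 1), j.val < q.val ∧ q.val ≤ e2 ∧ m.val + k0 = n + 1 + q.val ∧
          f = MvPolynomial.X m}) =
    (fun s => monomial s (1 : k)) '' ER n k0 e1 e2 j := by
  have hX : ∀ a : Fin (n+1), (monomial (Finsupp.single a 1) (1 : k)) =
      (X a : MvPolynomial (Fin (n + 1)) k) := fun a => rfl
  have hX2 : (monomial (Finsupp.single j 2) (1 : k)) =
      (X j ^ 2 : MvPolynomial (Fin (n + 1)) k) := (X_pow_eq_monomial).symm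
  ext f
  simp only [Set.mem_union, Set.mem_setOf_eq, Set.mem_image, Set.mem_singleton_iff, ER]
  constructor
  · rintro ((⟨i, h1, h2, h3, rfl⟩ | rfl) | ⟨q, m, h1, h2, h3, rfl⟩)
    · exact ⟨_, Or.inl ⟨i, h1, h2, h3, rfl⟩, hX i⟩
    · exact ⟨_, Or.inr (Or.inl rfl), hX2⟩
    · exact ⟨_, Or.inr (Or.inr ⟨q, m, h1, h2, h3, rfl⟩), hX m⟩
  · rintro ⟨s, (⟨i, h1, h2, h3, rfl⟩ | rfl | ⟨q, m, h1, h2, h3, rfl⟩), rfl⟩
    · exact Or.inl (Or.inl ⟨i, h1, h2, h3, (hX i)⟩)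
    · exact Or.inl (Or.inr hX2)
    · exact Or.inr ⟨q, m, h1, h2, h3, (hX m)⟩

/-- Let k be an algebraically closed field of characteristic different from 2, k0 ≥ 1 and n ≥ 2k0 - 1
natural numbers, S = k[x_0, ..., x_n], and e1 ≤ e2 ≤ k0 - 1. The ideal generated by all products x_p
x_q with e1 ≤ p, q ≤ e2 together with the products x_p x_{n-k0+1+q} for e1 ≤ p < q ≤ e2 is the
intersection, over j from e1 to e2, of the ideals generated by the variables x_i with e1 ≤ i ≤ e2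
and i ≠ j, the square x_j^2, and the variables x_{n-k0+1+q} for j < q ≤ e2 (a primary decomposition
of this monomial ideal). -/
theorem result (k : Type u) [Field k] [IsAlgClosed k] (hchar : ringChar k ≠ 2)
    (n k0 e1 e2 : ℕ) (hk : 1 ≤ k0) (hn : 2 * k0 ≤ n + 1) (he : e1 ≤ e2) (he2 : e2 + 1 ≤ k0) :
    Ideal.span ({f : MvPolynomial (Fin (n + 1)) k | ∃ p q : Fin (n + 1), e1 ≤ p.val ∧ p.val ≤ e2 ∧ e1 ≤ q.val ∧ q.val ≤ e2 ∧
        f = MvPolynomial.X p * MvPolynomial.X q} ∪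
      {f : MvPolynomial (Fin (n + 1)) k | ∃ p q m : Fin (n + 1), e1 ≤ p.val ∧ p.val < q.val ∧ q.val ≤ e2 ∧
        m.val + k0 = n + 1 + q.val ∧ f = MvPolynomial.X p * MvPolynomial.X m}) =
    ⨅ j : Fin (n + 1), ⨅ (_ : e1 ≤ j.val ∧ j.val ≤ e2),
      Ideal.span ({f : MvPolynomial (Fin (n + 1)) k | ∃ i : Fin (n + 1), e1 ≤ i.val ∧ i.val ≤ e2 ∧ i ≠ j ∧ f = MvPolynomial.X i} ∪
        {MvPolynomial.X j ^ 2} ∪
        {f : MvPolynomial (Fin (n + 1)) k | ∃ q m : Fin (n + 1), j.val < q.val ∧ q.val ≤ e2 ∧ m.val + k0 = n + 1 + q.val ∧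
          f = MvPolynomial.X m}) := by
  classical
  rw [genL_eq]
  ext f
  simp only [Ideal.mem_iInf]
  rw [mem_ideal_span_monomial_image]
  constructor
  · intro h j hj
    rw [genR_eq, mem_ideal_span_monomial_image]
    intro μ hμ
    exact (comb n k0 e1 e2 hn he he2 μ).1 (h μ hμ) j hj
  · intro h μ hμ
    refine (comb n k0 e1 e2 hn he he2 μ).2 (fun j hj => ?_)
    have h1 := h j hj
    rw [genR_eq, mem_ideal_span_monomial_image] at h1
    exact h1 μ hμ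

end Groth.Agent.S13455
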