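import Groth.Statements.S13460
-- import your own Groth.Agent.* helpers here
import Mathlib

set_option autoImplicit false
universe u
open CategoryTheory CategoryTheory.Limits AlgebraicGeometry TopologicalSpace
open WDiv

namespace Groth.Agent.S13460

section gen
variable {X : Scheme.{u}} [IsIntegral X] [IsLocallyNoetherian X]

lemma ord_one' (y : X) : Scheme.ord (1 : X.functionField) y = 0 := by
  have h := Scheme.ord_mul (x := y) (f := (1 : X.functionField)) (g := 1) one_ne_zero one_ne_zero
  rw [mul_one] at h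
  linarith

lemma ord_inv' (y : X) {f : X.functionField} (hf : f ≠ 0) :
    Scheme.ord f⁻¹ y = - Scheme.ord f y := by
  have h := Scheme.ord_mul (x := y) hf (inv_ne_zero hf)
  rw [mul_inv_cancel₀ hf, ord_one'] at h
  linarith

lemma ord_pow' (y : X) {f : X.functionField} (hf : f ≠ 0) (n : ℕ) :
    Scheme.ord (f ^ n) y = n * Scheme.ord f y := by
  induction n with
  | zero => simp [ord_one']
  | succ k ih =>
    rw [pow_succ, Scheme.ord_mul (pow_ne_zero k hf) hf, ih]
    push_cast; ring

lemma ord_zpow' (y : X) {f : X.functionField} (hf : f ≠ 0) (n : ℤ) :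
    Scheme.ord (f ^ n) y = n * Scheme.ord f y := by
  obtain ⟨k, rfl | rfl⟩ := n.eq_nat_or_neg
  · rw [zpow_natCast, ord_pow' y hf]
  · rw [zpow_neg, zpow_natCast, ord_inv' y (pow_ne_zero k hf), ord_pow' y hf]; ring

lemma ord_prod' {ι : Type*} (y : X) (S : Finset ι) (F : ι → X.functionField)
    (hF : ∀ i ∈ S, F i ≠ 0) :
    Scheme.ord (∏ i ∈ S, F i) y = ∑ i ∈ S, Scheme.ord (F i) y := by
  classical
  induction S using Finset.induction_on with
  | empty => simp [ord_one']
  | insert a s ha ih =>
    have h1 : ∀ i ∈ s, F i ≠ 0 := fun i hi => hF i (Finset.mem_insert_of_mem hi)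
    rw [Finset.prod_insert ha, Finset.sum_insert ha,
      Scheme.ord_mul (hF a (Finset.mem_insert_self a s)) (Finset.prod_ne_zero_iff.mpr h1), ih h1]

end gen

section aff
variable (A : Type u) [CommRing A] [IsDomain A] [IsNoetherianRing A]

instance neTop : Nonempty ↥((⊤ : (Spec (CommRingCat.of A)).Opens).toScheme) :=
  ⟨⟨(inferInstance : Nonempty ↥(Spec (CommRingCat.of A))).some, trivial⟩⟩

noncomputable def phi (a : A) : ↑(Spec (CommRingCat.of A)).functionField :=
  (Spec (CommRingCat.of A)).germToFunctionField ⊤ ((Scheme.ΓSpecIso (CommRingCat.of A)).inv a)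

lemma phi_eq (x : ↥(Spec (CommRingCat.of A))) (a : A) :
    phi A a = algebraMap ((Spec (CommRingCat.of A)).presheaf.stalk x)
      (Spec (CommRingCat.of A)).functionField
      ((Spec (CommRingCat.of A)).presheaf.germ ⊤ x trivial
        ((Scheme.ΓSpecIso (CommRingCat.of A)).inv a)) := by
  unfold phi
  rw [Scheme.algebraMap_germ_eq_germToFunctionField]

lemma sinv_ne_zero {a : A} (ha : a ≠ 0) : (Scheme.ΓSpecIso (CommRingCat.of A)).inv a ≠ 0 := by
  intro h
  apply ha
  have := congrArg (fun t => (Scheme.ΓSpecIso (CommRingCat.of A)).hom t) h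
  simpa using this

lemma phi_ne_zero {a : A} (ha : a ≠ 0) : phi A a ≠ 0 := by
  unfold phi
  exact (map_ne_zero_iff _ (Scheme.germToFunctionField_injective _ _)).mpr (sinv_ne_zero A ha)

lemma germ_ne_zero (x : ↥(Spec (CommRingCat.of A))) {a : A} (ha : a ≠ 0) :
    (Spec (CommRingCat.of A)).presheaf.germ ⊤ x trivial
        ((Scheme.ΓSpecIso (CommRingCat.of A)).inv a) ≠ 0 := by
  intro h
  apply phi_ne_zero A ha
  rw [phi_eq A x a, h, map_zero]

lemma germ_isUnit (x : ↥(Spec (CommRingCat.of A))) {a : A} (ha : a ∉ x.asIdeal) :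
    IsUnit ((Spec (CommRingCat.of A)).presheaf.germ ⊤ x trivial
        ((Scheme.ΓSpecIso (CommRingCat.of A)).inv a)) := by
  letI : Algebra A ((Spec (CommRingCat.of A)).presheaf.stalk x) := StructureSheaf.stalkAlgebra A x
  haveI : IsLocalization.AtPrime ((Spec (CommRingCat.of A)).presheaf.stalk x) x.asIdeal :=
    StructureSheaf.IsLocalization.to_stalk A x
  exact IsLocalization.map_units (M := x.asIdeal.primeCompl)
    ((Spec (CommRingCat.of A)).presheaf.stalk x) ⟨a, ha⟩

lemma ord_germ_gen (x : ↥(Spec (CommRingCat.of A))) (π : A)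
    (hxπ : x.asIdeal = Ideal.span {π}) :
    Ring.ord ((Spec (CommRingCat.of A)).presheaf.stalk x)
      ((Spec (CommRingCat.of A)).presheaf.germ ⊤ x trivial
        ((Scheme.ΓSpecIso (CommRingCat.of A)).inv π)) = 1 := by
  have hmax : Ideal.span {(Spec (CommRingCat.of A)).presheaf.germ ⊤ x trivial
      ((Scheme.ΓSpecIso (CommRingCat.of A)).inv π)} =
      IsLocalRing.maximalIdeal ((Spec (CommRingCat.of A)).presheaf.stalk x) := by
    letI : Algebra A ((Spec (CommRingCat.of A)).presheaf.stalk x) :=
      StructureSheaf.stalkAlgebra A x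
    haveI : IsLocalization.AtPrime ((Spec (CommRingCat.of A)).presheaf.stalk x) x.asIdeal :=
      StructureSheaf.IsLocalization.to_stalk A x
    have h := IsLocalization.AtPrime.map_eq_maximalIdeal x.asIdeal
      ((Spec (CommRingCat.of A)).presheaf.stalk x)
    rw [hxπ, Ideal.map_span, Set.image_singleton] at h
    exact h
  rw [Ring.ord, hmax, Module.length_eq_one_iff]
  exact isSimpleModule_iff_isCoatom.mpr
    (Ideal.isMaximal_def.mp (IsLocalRing.maximalIdeal.isMaximal _))

lemma ord_phi_unit (x : ↥(Spec (CommRingCat.of A))) (hx : Order.coheight x = 1) (a : A)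
    (ha0 : a ≠ 0) (ha : a ∉ x.asIdeal) : Scheme.ord (phi A a) x = 0 := by
  rw [Scheme.ord_eq_iff hx (phi_ne_zero A ha0)]
  haveI : Ring.KrullDimLE 1 ((Spec (CommRingCat.of A)).presheaf.stalk x) :=
    krullDimLE_of_coheight_le hx.le
  rw [phi_eq A x a]
  refine (Ring.ordFrac_of_isUnit (germ_isUnit A x ha)).trans ?_
  simp

lemma ord_phi_gen (x : ↥(Spec (CommRingCat.of A))) (hx : Order.coheight x = 1) (π : A)
    (hπ0 : π ≠ 0) (hxπ : x.asIdeal = Ideal.span {π}) : Scheme.ord (phi A π) x = 1 := by
  rw [Scheme.ord_eq_iff hx (phi_ne_zero A hπ0)]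
  haveI : Ring.KrullDimLE 1 ((Spec (CommRingCat.of A)).presheaf.stalk x) :=
    krullDimLE_of_coheight_le hx.le
  rw [phi_eq A x π]
  have hgne := germ_ne_zero A x hπ0
  refine (Ring.ordFrac_eq_ord _ hgne).trans ?_
  refine (Ring.ordMonoidWithZeroHom_eq_coe _ (mem_nonZeroDivisors_of_ne_zero hgne) (n := 1)
    ?_).trans ?_
  · exact_mod_cast ord_germ_gen A x π hxπ
  · rfl

lemma height_eq_one (x : ↥(Spec (CommRingCat.of A))) (hx : Order.coheight x = 1) :
    x.asIdeal.height = 1 := by
  rw [idealHeight_eq_coheight (CommRingCat.of A) x, hx]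

lemma exists_prime_gen [UniqueFactorizationMonoid A]
    (x : ↥(Spec (CommRingCat.of A))) (hx : Order.coheight x = 1) :
    ∃ π : A, π ≠ 0 ∧ x.asIdeal = Ideal.span {π} := by
  have hh := height_eq_one A x hx
  have hbot : x.asIdeal ≠ ⊥ := Ideal.ne_bot_of_height_eq_one hh
  obtain ⟨π, hπx, hπ⟩ := Ideal.IsPrime.exists_mem_prime_of_ne_bot x.isPrime hbot
  refine ⟨π, hπ.ne_zero, ?_⟩
  haveI : (Ideal.span {π}).IsPrime := (Ideal.span_singleton_prime hπ.ne_zero).mpr hπ
  have hle : Ideal.span {π} ≤ x.asIdeal := (Ideal.span_singleton_le_iff_mem _).mpr hπx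
  symm
  refine Ideal.eq_of_le_of_height_le (I := Ideal.span {π}) hle ?_
  rw [hh]
  exact Ideal.one_le_height_span_singleton_of_mem_nonZeroDivisors
    (mem_nonZeroDivisors_of_ne_zero hπ.ne_zero)

end aff

/-- Let A be a Noetherian integral domain which is a unique factorization domain, and X = Spec A. Then
the divisor class group of X vanishes: every Weil divisor D on X, an integer-valued function on the
points of X with finite support inside the points of coheight 1 (codimension one), is the divisor of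
a nonzero rational function f on X, i.e. the order of vanishing of f at every point x of coheight 1
is D(x). (The published statement assumes only that A is a unique factorization domain; this row
also assumes A Noetherian.) -/
theorem result (A : Type u) [CommRing A] [IsDomain A] [IsNoetherianRing A]
    [UniqueFactorizationMonoid A]
    (D : ↥(Spec (CommRingCat.of A)) → ℤ) (hD : ∀ x, Order.coheight x ≠ 1 → D x = 0) (hfin : {x | D x ≠ 0}.Finite) :
    ∃ f : ↑(Spec (CommRingCat.of A)).functionField, f ≠ 0 ∧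
      ∀ x : ↥(Spec (CommRingCat.of A)), Order.coheight x = 1 → Scheme.ord f x = D x := by
  classical
  have hgen : ∀ x : ↥(Spec (CommRingCat.of A)), ∃ π : A,
      Order.coheight x = 1 → (π ≠ 0 ∧ x.asIdeal = Ideal.span {π}) := by
    intro x
    by_cases hx : Order.coheight x = 1
    · obtain ⟨π, h1, h2⟩ := exists_prime_gen A x hx
      exact ⟨π, fun _ => ⟨h1, h2⟩⟩
    · exact ⟨1, fun h => absurd h hx⟩
  choose g hg using hgen
  have hS : ∀ x ∈ hfin.toFinset, Order.coheight x = 1 := by
    intro x hxS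
    by_contra h
    exact ((Set.Finite.mem_toFinset hfin).mp hxS) (hD x h)
  have hne : ∀ x ∈ hfin.toFinset, phi A (g x) ^ (D x) ≠ 0 := fun x hxS =>
    zpow_ne_zero _ (phi_ne_zero A (hg x (hS x hxS)).1)
  refine ⟨∏ x ∈ hfin.toFinset, phi A (g x) ^ (D x), Finset.prod_ne_zero_iff.mpr hne, ?_⟩
  intro y hy
  rw [ord_prod' y _ _ hne]
  have hterm : ∀ x ∈ hfin.toFinset,
      Scheme.ord (phi A (g x) ^ (D x)) y = if x = y then D x else 0 := by
    intro x hxS
    have hx1 := hS x hxS
    obtain ⟨hπ0, hxπ⟩ := hg x hx1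
    rw [ord_zpow' y (phi_ne_zero A hπ0)]
    by_cases hxy : x = y
    · subst hxy
      rw [if_pos rfl, ord_phi_gen A x hx1 (g x) hπ0 hxπ, mul_one]
    · rw [if_neg hxy, ord_phi_unit A y hy (g x) hπ0 ?_, mul_zero]
      intro hmem
      apply hxy
      have hle : x.asIdeal ≤ y.asIdeal := by
        rw [hxπ]; exact (Ideal.span_singleton_le_iff_mem _).mpr hmem
      have hhx := height_eq_one A x hx1
      have hhy := height_eq_one A y hy
      haveI : x.asIdeal.IsPrime := x.isPrime
      have := Ideal.eq_of_le_of_height_le (I := x.asIdeal) hle (le_of_eq (hhy.trans hhx.symm))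
      exact PrimeSpectrum.ext this
  rw [Finset.sum_congr rfl hterm, Finset.sum_ite_eq']
  split_ifs with h
  · rfl
  · by_contra h'
    exact h ((Set.Finite.mem_toFinset hfin).mpr (fun e => h' e.symm))

end Groth.Agent.S13460
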