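import Groth.Statements.S13576
-- import your own Groth.Agent.* helpers here
import Mathlib

set_option autoImplicit false
universe u
open CategoryTheory CategoryTheory.Limits MonoidalCategory
attribute [local instance] HasDerivedCategory.standard
open DTen

namespace Groth.Agent.S13576

theorem braidCx_invol {A : Type u} [CommRing A] (K L : DRing.Cx A) :
    (DTen.braidCx K L).hom ≫ (DTen.braidCx L K).hom = 𝟙 _ := by
  refine HomologicalComplex.hom_ext _ _ (fun n =>
    HomologicalComplex.mapBifunctor.hom_ext (fun p q h => ?_))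
  have h' : q + p = n := by rw [add_comm]; exact h
  rw [HomologicalComplex.comp_f]
  erw [DTen.ι_braidCx_hom_assoc K L p q n h]
  simp only [Linear.units_smul_comp, Category.assoc]
  erw [DTen.ι_braidCx_hom L K q p n h']
  simp only [Linear.comp_units_smul, smul_smul]
  rw [mul_comm q p, ← Int.negOnePow_add, ← two_mul, Int.negOnePow_two_mul, one_smul]
  erw [HomologicalComplex.id_f, Category.comp_id]
  rw [← Category.assoc, SymmetricCategory.symmetry, Category.id_comp]

theorem symm_comp_symm (A : Type u) [CommRing A] [DTen.HasLTen A] (X : Dual.D A × Dual.D A) :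
    (DTen.symm A).app (X.2, X.1) ≫ (DTen.symm A).app X = 𝟙 _ := by
  let θ : DTen.LTen₂ A ⟶ DTen.LTen₂ A :=
    { app := fun X => (DTen.symm A).app (X.2, X.1) ≫ (DTen.symm A).app X
      naturality := by
        rintro ⟨X1, X2⟩ ⟨Y1, Y2⟩ f
        have h1 := (DTen.symm A).naturality (X := (X2, X1)) (Y := (Y2, Y1)) (f.2, f.1)
        have h2 := (DTen.symm A).naturality (X := (X1, X2)) (Y := (Y1, Y2)) f
        have h1' : (DTen.LTen₂ A).map f ≫ (DTen.symm A).app (Y2, Y1) =
            (DTen.symm A).app (X2, X1) ≫ (DTen.LTen₂ A).map (Prod.mkHom f.2 f.1) := h1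
        have h2' : (DTen.LTen₂ A).map (Prod.mkHom f.2 f.1) ≫ (DTen.symm A).app (Y1, Y2) =
            (DTen.symm A).app (X1, X2) ≫ (DTen.LTen₂ A).map f := h2
        show (DTen.LTen₂ A).map f ≫ ((DTen.symm A).app (Y2, Y1) ≫ (DTen.symm A).app (Y1, Y2)) =
          ((DTen.symm A).app (X2, X1) ≫ (DTen.symm A).app (X1, X2)) ≫ (DTen.LTen₂ A).map f
        rw [← Category.assoc, h1', Category.assoc, h2', Category.assoc] }
  have hθ : θ = 𝟙 _ := by
    apply (DTen.LTen₂ A).leftDerived_ext (DTen.ε A) (DTen.qis₂ A)
    ext ⟨K', L'⟩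
    have e1 := DTen.symm_fac A K' L'
    have e2 := DTen.symm_fac A L' K'
    show ((DTen.symm A).app (DerivedCategory.Q.obj L', DerivedCategory.Q.obj K') ≫
      (DTen.symm A).app (DerivedCategory.Q.obj K', DerivedCategory.Q.obj L')) ≫
        (DTen.ε A).app (K', L') = 𝟙 _ ≫ (DTen.ε A).app (K', L')
    rw [Category.assoc, e1, ← Category.assoc, e2, Category.assoc, ← CategoryTheory.Functor.map_comp,
      braidCx_invol]
    erw [CategoryTheory.Functor.map_id, Category.comp_id, Category.id_comp]
  exact congrArg (fun t => t.app X) hθ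

/-- For a commutative ring `A` and objects `K`, `L` of `D(A)`, the canonical symmetry morphism `L ⊗^L K
⟶ K ⊗^L L` of the derived tensor product, the one compatible with the swap of complexes carrying the
sign `(-1)^{pq}` on `K^p ⊗ L^q`, is an isomorphism. -/
theorem result (A : Type u) [CommRing A] [DTen.HasLTen A] (K L : Dual.D A) :
    IsIso ((DTen.symm A).app (K, L)) := by
  exact ⟨⟨(DTen.symm A).app (L, K), symm_comp_symm A (L, K), symm_comp_symm A (K, L)⟩⟩

end Groth.Agent.S13576
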