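import Groth.Statements.S13596
-- import your own Groth.Agent.* helpers here
import Mathlib

set_option autoImplicit false
universe u
open CategoryTheory AlgebraicGeometry
open SGA1

namespace Groth.Agent.S13596

/-- Let a finite group G act on a scheme X and let p : X ⟶ Y be a quotient of X by G (affine,
G-invariant, and identifying the sections of O_Y over every open with the G-invariant sections of
O_X over its preimage). Then p is an integral morphism. -/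
theorem result {X Y : Scheme.{u}} {G : Type u} [Group G] [Finite G]
    (ρ : G →* Aut X) (p : X ⟶ Y) (hp : SGA1.IsQuot ρ p) :
    IsIntegralHom p := by
  refine { toIsAffineHom := hp.affine, isIntegral_app := fun U _ => ?_ }
  cases nonempty_fintype G
  classical
  intro s
  have key1 : ∀ (f : X ⟶ X) (e : p ⁻¹ᵁ U ≤ f ⁻¹ᵁ (p ⁻¹ᵁ U)), f = 𝟙 X →
      ∀ t, (f.appLE (p ⁻¹ᵁ U) (p ⁻¹ᵁ U) e).hom t = t := by
    intro f e hf t
    subst hf
    have h1 : (𝟙 X : X ⟶ X).appLE (p ⁻¹ᵁ U) (p ⁻¹ᵁ U) e = 𝟙 _ := by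
      exact (Category.id_comp (X.presheaf.map (𝟙 (Opposite.op (p ⁻¹ᵁ U))))).trans (X.presheaf.map_id _)
    rw [h1]; rfl
  have key2 : ∀ (f f' : X ⟶ X) (e : p ⁻¹ᵁ U ≤ f ⁻¹ᵁ (p ⁻¹ᵁ U)) (e' : p ⁻¹ᵁ U ≤ f' ⁻¹ᵁ (p ⁻¹ᵁ U)),
      f = f' → f.appLE (p ⁻¹ᵁ U) (p ⁻¹ᵁ U) e = f'.appLE (p ⁻¹ᵁ U) (p ⁻¹ᵁ U) e' := by
    intro f f' e e' hf; subst hf; rfl
  let σ : G → (Γ(X, p ⁻¹ᵁ U) →+* Γ(X, p ⁻¹ᵁ U)) := fun g =>
    ((ρ g).hom.appLE (p ⁻¹ᵁ U) (p ⁻¹ᵁ U) (SGA1.preimage_le_of_inv ρ p hp.inv g U)).hom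
  have hσ1 : ∀ t, σ 1 t = t := by
    intro t
    exact key1 _ _ (by rw [map_one]; rfl) t
  have hσmul : ∀ g h t, σ h (σ g t) = σ (g * h) t := by
    intro g h t
    have h1 := Scheme.Hom.appLE_comp_appLE (ρ h).hom (ρ g).hom (p ⁻¹ᵁ U) (p ⁻¹ᵁ U) (p ⁻¹ᵁ U)
      (SGA1.preimage_le_of_inv ρ p hp.inv g U) (SGA1.preimage_le_of_inv ρ p hp.inv h U)
    have h2 : (ρ h).hom ≫ (ρ g).hom = (ρ (g * h)).hom := by rw [map_mul]; rfl
    have h4 := h1.trans (key2 _ _ _ (SGA1.preimage_le_of_inv ρ p hp.inv (g * h) U) h2)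
    have h5 := congrArg (fun φ => φ.hom t) h4
    exact h5
  let P : Polynomial Γ(X, p ⁻¹ᵁ U) := ∏ g : G, (Polynomial.X - Polynomial.C (σ g s))
  have hPmonic : P.Monic := Polynomial.monic_prod_of_monic _ _ (fun g _ => Polynomial.monic_X_sub_C _)
  have hPs : P.eval s = 0 := by
    rw [Polynomial.eval_prod]
    exact Finset.prod_eq_zero (Finset.mem_univ (1 : G)) (by simp [hσ1])
  have hPinv : ∀ h, P.map (σ h) = P := by
    intro h
    simp only [P, Polynomial.map_prod, Polynomial.map_sub, Polynomial.map_X, Polynomial.map_C, hσmul]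
    exact (Group.mulRight_bijective h).prod_comp (fun g' => Polynomial.X - Polynomial.C (σ g' s))
  have hlift : P ∈ Polynomial.lifts (p.app U).hom := by
    rw [Polynomial.lifts_iff_coeff_lifts]
    intro n
    rw [hp.range_iff U]
    intro g
    have h6 := congrArg (fun Q => Polynomial.coeff Q n) (hPinv g)
    simpa [Polynomial.coeff_map] using h6
  obtain ⟨Q, hQ, -, hQm⟩ := Polynomial.lifts_and_natDegree_eq_and_monic hlift hPmonic
  refine ⟨Q, hQm, ?_⟩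
  rw [Polynomial.eval₂_eq_eval_map, hQ, hPs]

end Groth.Agent.S13596
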