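import Groth.Statements.S13598
import Mathlib
import Groth.Agent.Lib.helper1.Hensel

set_option autoImplicit false
universe u
open Hensel

namespace Groth.Agent.S13598

theorem henselianLocal_of_henselianRing_max {R : Type*} [CommRing R] [IsLocalRing R]
    [h : HenselianRing R (IsLocalRing.maximalIdeal R)] : HenselianLocalRing R where
  is_henselian := by
    intro f hf a₀ h₁ h₂
    exact HenselianRing.is_henselian f hf a₀ h₁ (h₂.map _)


/-- For a local ring A, a henselization A ⟶ S of A (S a henselian local ring, the structure map local,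
and initial among local homomorphisms from A to henselian local rings) and an ideal I of A inside
the maximal ideal, the quotient S/IS with its induced algebra structure over A/I is a henselization
of A/I. (The local-ring and local-homomorphism instances on the quotients hold automatically; they
are taken as hypotheses only so that the conclusion can be stated.) -/
theorem result {A S : Type u} [CommRing A] [IsLocalRing A] [CommRing S]
    [IsLocalRing S] [Algebra A S] [IsLocalHom (algebraMap A S)] [Hensel.IsHenselization A S]
    (I : Ideal A) (hI : I ≤ IsLocalRing.maximalIdeal A)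
    [IsLocalRing (A ⧸ I)] [IsLocalRing (S ⧸ I.map (algebraMap A S))]
    [IsLocalHom (algebraMap (A ⧸ I) (S ⧸ I.map (algebraMap A S)))] :
    Hensel.IsHenselization (A ⧸ I) (S ⧸ I.map (algebraMap A S)) := by
  classical
  haveI hSh : HenselianLocalRing S := Hensel.IsHenselization.henselian (R := A) (S := S)
  have hIS : I.map (algebraMap A S) ≤ IsLocalRing.maximalIdeal S := by
    rw [Ideal.map_le_iff_le_comap]
    intro a ha
    rw [Ideal.mem_comap, IsLocalRing.mem_maximalIdeal, mem_nonunits_iff]
    intro hu
    have hua : IsUnit a := IsLocalHom.map_nonunit a hu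
    exact (IsLocalRing.mem_maximalIdeal a).mp (hI ha) hua
  have hJjac : I.map (algebraMap A S) ≤ Ideal.jacobson ⊥ := by
    rw [IsLocalRing.jacobson_eq_maximalIdeal ⊥ bot_ne_top]
    exact hIS
  haveI hmkloc : IsLocalHom (Ideal.Quotient.mk (I.map (algebraMap A S))) :=
    isLocalHom_of_le_jacobson_bot _ hJjac
  have hmax : (IsLocalRing.maximalIdeal S).map (Ideal.Quotient.mk (I.map (algebraMap A S))) =
      IsLocalRing.maximalIdeal (S ⧸ I.map (algebraMap A S)) := by
    apply le_antisymm
    · rw [Ideal.map_le_iff_le_comap]
      intro s hs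
      rw [Ideal.mem_comap, IsLocalRing.mem_maximalIdeal, mem_nonunits_iff]
      intro hu
      exact (IsLocalRing.mem_maximalIdeal s).mp hs (IsLocalHom.map_nonunit s hu)
    · intro x hx
      obtain ⟨s, rfl⟩ := Ideal.Quotient.mk_surjective x
      apply Ideal.mem_map_of_mem
      rw [IsLocalRing.mem_maximalIdeal, mem_nonunits_iff]
      intro hu
      exact (IsLocalRing.mem_maximalIdeal _).mp hx (hu.map _)
  haveI hHR : HenselianRing (S ⧸ I.map (algebraMap A S))
      (IsLocalRing.maximalIdeal (S ⧸ I.map (algebraMap A S))) :=
    hmax ▸ Helper1.henselianRing_quotient (I.map (algebraMap A S)) (IsLocalRing.maximalIdeal S)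
      hJjac
  have hHL : HenselianLocalRing (S ⧸ I.map (algebraMap A S)) :=
    henselianLocal_of_henselianRing_max
  refine ⟨hHL, ?_⟩
  intro T _ _ f hf
  haveI := hf
  haveI : IsLocalHom (Ideal.Quotient.mk I) := isLocalHom_of_le_jacobson_bot I (by
    rw [IsLocalRing.jacobson_eq_maximalIdeal ⊥ bot_ne_top]; exact hI)
  have hloc : IsLocalHom (f.comp (Ideal.Quotient.mk I)) := RingHom.isLocalHom_comp _ _
  obtain ⟨g, hg, hguniq⟩ := Hensel.IsHenselization.universal (R := A) (S := S) T
    (f.comp (Ideal.Quotient.mk I)) hloc
  have hgker : ∀ s ∈ I.map (algebraMap A S), g s = 0 := by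
    intro s hs
    have hle : I.map (algebraMap A S) ≤ RingHom.ker g := by
      rw [Ideal.map_le_iff_le_comap]
      intro a ha
      rw [Ideal.mem_comap, RingHom.mem_ker]
      have h := RingHom.congr_fun hg a
      rw [RingHom.comp_apply] at h
      rw [h, RingHom.comp_apply, Ideal.Quotient.eq_zero_iff_mem.mpr ha, map_zero]
    exact hle hs
  refine ⟨Ideal.Quotient.lift _ g hgker, ?_, ?_⟩
  · apply Ideal.Quotient.ringHom_ext
    apply RingHom.ext
    intro a
    simp only [RingHom.comp_apply]
    rw [Ideal.Quotient.algebraMap_quotient_map_quotient, Ideal.Quotient.lift_mk]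
    exact RingHom.congr_fun hg a
  · intro h hh
    apply Ideal.Quotient.ringHom_ext
    have e : h.comp (Ideal.Quotient.mk _) = g := by
      apply hguniq
      apply RingHom.ext
      intro a
      have h2 := RingHom.congr_fun hh (Ideal.Quotient.mk I a)
      simp only [RingHom.comp_apply] at h2 ⊢
      rw [← h2, Ideal.Quotient.algebraMap_quotient_map_quotient]
    rw [e]
    apply RingHom.ext
    intro s
    simp [Ideal.Quotient.lift_mk]

end Groth.Agent.S13598
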