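import Groth.Statements.S13603
-- import your own Groth.Agent.* helpers here
import Mathlib

set_option autoImplicit false
universe u v
open CAlg

namespace Groth.Agent.S13603

/-- Let a group G act on a commutative ring B by ring automorphisms so that every element of B has a
finite orbit, and let S ⊆ B be a multiplicative set of G-fixed elements (so each g ∈ G induces an
endomorphism of the localization S⁻¹B; the hypothesis that g maps S into S is implied by the
previous one and is only carried to name that endomorphism). Then an element of S⁻¹B is fixed by all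
of G if and only if it is a fraction b/s with b fixed by G and s ∈ S: the canonical map S⁻¹(B^G) →
(S⁻¹B)^G is onto. -/
theorem result {B : Type u} [CommRing B]
    {G : Type v} [Group G] [MulSemiringAction G B] (hfin : ∀ b : B, (MulAction.orbit G b).Finite)
    (S : Submonoid B) (hS : ∀ (g : G) (s : B), s ∈ S → g • s = s)
    (hS' : ∀ g : G, S ≤ S.comap (MulSemiringAction.toRingHom G B g)) (x : Localization S) :
    (∀ g : G, IsLocalization.map (Localization S) (MulSemiringAction.toRingHom G B g) (hS' g) x = x) ↔
      ∃ (b : B) (s : S), (∀ g : G, g • b = b) ∧ x = IsLocalization.mk' (Localization S) b s := by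
  classical
  constructor
  · intro hx
    obtain ⟨b, s, rfl⟩ := IsLocalization.exists_mk'_eq S x
    have key : ∀ y ∈ MulAction.orbit G b, ∃ t : S, (t : B) * y = t * b := by
      rintro _ ⟨g, rfl⟩
      have h1 := hx g
      rw [IsLocalization.map_mk'] at h1
      have hs : (⟨(MulSemiringAction.toRingHom G B g) (s : B), hS' g s.2⟩ : S) = s := by
        ext; exact hS g s s.2
      rw [hs] at h1
      have h2 := (IsLocalization.mk'_eq_iff_eq (S := Localization S)).1 h1
      obtain ⟨c, hc⟩ := (IsLocalization.eq_iff_exists S (Localization S)).1 h2
      refine ⟨c * s, ?_⟩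
      simp only [Submonoid.coe_mul, MulSemiringAction.toRingHom_apply] at hc ⊢
      rw [mul_assoc, hc, mul_assoc]
    choose! t ht using key
    set T : S := ∏ y ∈ (hfin b).toFinset, t y with hTdef
    have hT : ∀ y ∈ MulAction.orbit G b, (T : B) * y = T * b := by
      intro y hy
      have hy' : y ∈ (hfin b).toFinset := (hfin b).mem_toFinset.2 hy
      have h3 : T = (∏ z ∈ (hfin b).toFinset.erase y, t z) * t y :=
        (Finset.prod_erase_mul _ _ hy').symm
      rw [h3, Submonoid.coe_mul, mul_assoc, ht y hy, ← mul_assoc]
    refine ⟨T * b, T * s, ?_, ?_⟩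
    · intro g
      rw [smul_mul', hS g T T.2, hT _ ⟨g, rfl⟩]
    · rw [IsLocalization.mk'_eq_iff_eq]
      simp only [Submonoid.coe_mul]
      congr 1
      ring
  · rintro ⟨b, s, hb, rfl⟩ g
    rw [IsLocalization.map_mk']
    have hs : (⟨(MulSemiringAction.toRingHom G B g) (s : B), hS' g s.2⟩ : S) = s := by
      ext; exact hS g s s.2
    rw [hs, MulSemiringAction.toRingHom_apply, hb]

end Groth.Agent.S13603
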