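import Groth.Statements.S13606
-- import your own Groth.Agent.* helpers here
import Mathlib

set_option autoImplicit false
universe u
open CategoryTheory AlgebraicGeometry
open SGA1

namespace Groth.Agent.S13606

/-- Let a finite group G act on a scheme X and let p : X ⟶ Y be a quotient of X by G (affine,
G-invariant, sections of O_Y over every open = G-invariant sections of O_X over its preimage). Then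
for every open U ⊆ Y, U is the quotient of p⁻¹U by G: the restriction p⁻¹U ⟶ U of p is again a
quotient in the same sense, for the action ρU of G on the G-stable open p⁻¹U induced by ρ (pinned by
compatibility with the inclusion p⁻¹U ⟶ X). -/
theorem result {X Y : Scheme.{u}} {G : Type u} [Group G] [Finite G]
    (ρ : G →* Aut X) (p : X ⟶ Y) (hp : SGA1.IsQuot ρ p) (U : Y.Opens)
    (ρU : G →* Aut (p ⁻¹ᵁ U).toScheme)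
    (hρU : ∀ g : G, (ρU g).hom ≫ (p ⁻¹ᵁ U).ι = (p ⁻¹ᵁ U).ι ≫ (ρ g).hom) :
    SGA1.IsQuot ρU (p ∣_ U) := by
  haveI := hp.affine
  have hinv : ∀ g : G, (ρU g).hom ≫ p ∣_ U = p ∣_ U := by
    intro g
    rw [← cancel_mono U.ι, Category.assoc, morphismRestrict_ι, ← Category.assoc, hρU g,
      Category.assoc, hp.inv g]
  have lemA : ∀ (W' : Y.Opens) (V₀ : X.Opens) (h₀ : V₀ = p ⁻¹ᵁ W') (e : V₀ ≤ p ⁻¹ᵁ W')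
      (s : Γ(X, V₀)), s ∈ Set.range (p.appLE W' V₀ e).hom ↔
        ∀ (g : G) (eg : V₀ ≤ (ρ g).hom ⁻¹ᵁ V₀), ((ρ g).hom.appLE V₀ V₀ eg).hom s = s := by
    intro W' V₀ h₀ e s
    subst h₀
    have h1 : p.appLE W' (p ⁻¹ᵁ W') e = p.app W' := (Scheme.Hom.app_eq_appLE ..).symm
    rw [h1, hp.range_iff W' s]
    constructor
    · intro h g eg; exact h g
    · intro h g; exact h g _
  have lemI : ∀ (W' : Y.Opens) (V₀ : X.Opens) (h₀ : V₀ = p ⁻¹ᵁ W') (e : V₀ ≤ p ⁻¹ᵁ W'),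
      Function.Injective (p.appLE W' V₀ e).hom := by
    intro W' V₀ h₀ e
    subst h₀
    have h1 : p.appLE W' (p ⁻¹ᵁ W') e = p.app W' := (Scheme.Hom.app_eq_appLE ..).symm
    rw [h1]; exact hp.injective W'
  have key2 : ∀ {A : Scheme.{u}} (f f' : A ⟶ X) (V₀ : X.Opens) (V'' : A.Opens)
      (e : V'' ≤ f ⁻¹ᵁ V₀) (e' : V'' ≤ f' ⁻¹ᵁ V₀),
      f = f' → f.appLE V₀ V'' e = f'.appLE V₀ V'' e' := by
    intro A f f' V₀ V'' e e' hf; subst hf; rfl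
  refine ⟨IsZariskiLocalAtTarget.restrict hp.affine U, hinv, ?_, ?_⟩
  · intro W
    rw [morphismRestrict_app']
    exact lemI _ _ (image_morphismRestrict_preimage p U W) _
  · intro W s
    have hA := lemA (U.ι ''ᵁ W) _ (image_morphismRestrict_preimage p U W)
      (image_morphismRestrict_preimage p U W).le s
    rw [morphismRestrict_app']
    refine hA.trans ?_
    have hV : ∀ g : G, (p ⁻¹ᵁ U).ι ''ᵁ ((p ∣_ U) ⁻¹ᵁ W) ≤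
        (ρ g).hom ⁻¹ᵁ ((p ⁻¹ᵁ U).ι ''ᵁ ((p ∣_ U) ⁻¹ᵁ W)) := by
      intro g
      rw [image_morphismRestrict_preimage]
      exact SGA1.preimage_le_of_inv ρ p hp.inv g _
    have lemB : ∀ (g : G) (eU : (p ∣_ U) ⁻¹ᵁ W ≤ (ρU g).hom ⁻¹ᵁ ((p ∣_ U) ⁻¹ᵁ W))
        (t : Γ(X, (p ⁻¹ᵁ U).ι ''ᵁ ((p ∣_ U) ⁻¹ᵁ W))),
        ((ρU g).hom.appLE ((p ∣_ U) ⁻¹ᵁ W) ((p ∣_ U) ⁻¹ᵁ W) eU).hom t =
          ((ρ g).hom.appLE _ _ (hV g)).hom t := by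
      intro g eU t
      have e₁ : (p ∣_ U) ⁻¹ᵁ W ≤ (p ⁻¹ᵁ U).ι ⁻¹ᵁ ((p ⁻¹ᵁ U).ι ''ᵁ ((p ∣_ U) ⁻¹ᵁ W)) :=
        ((p ⁻¹ᵁ U).ι.preimage_image_eq _).ge
      have h3 : ∀ t' : Γ(X, (p ⁻¹ᵁ U).ι ''ᵁ ((p ∣_ U) ⁻¹ᵁ W)),
          ((p ⁻¹ᵁ U).ι.appLE ((p ⁻¹ᵁ U).ι ''ᵁ ((p ∣_ U) ⁻¹ᵁ W)) ((p ∣_ U) ⁻¹ᵁ W) e₁).hom t' = t' := by
        intro t'
        have h30 : (p ⁻¹ᵁ U).ι.appLE ((p ⁻¹ᵁ U).ι ''ᵁ ((p ∣_ U) ⁻¹ᵁ W)) ((p ∣_ U) ⁻¹ᵁ W) e₁ =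
            𝟙 _ := by
          rw [Scheme.Opens.ι_appLE]; exact X.presheaf.map_id _
        rw [h30]; rfl
      have h1 := Scheme.Hom.appLE_comp_appLE (ρU g).hom (p ⁻¹ᵁ U).ι _ _ _ e₁ eU
      have h2 := Scheme.Hom.appLE_comp_appLE (p ⁻¹ᵁ U).ι (ρ g).hom _ _ _ (hV g) e₁
      have h1t := congrArg (fun φ => φ.hom t) h1
      have h2t := congrArg (fun φ => φ.hom t) h2
      have hk : ∀ pf1 pf2, ((ρU g).hom ≫ (p ⁻¹ᵁ U).ι).appLE ((p ⁻¹ᵁ U).ι ''ᵁ ((p ∣_ U) ⁻¹ᵁ W))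
          ((p ∣_ U) ⁻¹ᵁ W) pf1 = ((p ⁻¹ᵁ U).ι ≫ (ρ g).hom).appLE ((p ⁻¹ᵁ U).ι ''ᵁ ((p ∣_ U) ⁻¹ᵁ W))
          ((p ∣_ U) ⁻¹ᵁ W) pf2 := fun pf1 pf2 => key2 _ _ _ _ pf1 pf2 (hρU g)
      calc ((ρU g).hom.appLE ((p ∣_ U) ⁻¹ᵁ W) ((p ∣_ U) ⁻¹ᵁ W) eU).hom t
          = ((ρU g).hom.appLE ((p ∣_ U) ⁻¹ᵁ W) ((p ∣_ U) ⁻¹ᵁ W) eU).hom
              (((p ⁻¹ᵁ U).ι.appLE ((p ⁻¹ᵁ U).ι ''ᵁ ((p ∣_ U) ⁻¹ᵁ W)) ((p ∣_ U) ⁻¹ᵁ W) e₁).hom t) := by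
            rw [h3 t]
        _ = (((ρU g).hom ≫ (p ⁻¹ᵁ U).ι).appLE ((p ⁻¹ᵁ U).ι ''ᵁ ((p ∣_ U) ⁻¹ᵁ W))
              ((p ∣_ U) ⁻¹ᵁ W) _).hom t := h1t
        _ = (((p ⁻¹ᵁ U).ι ≫ (ρ g).hom).appLE ((p ⁻¹ᵁ U).ι ''ᵁ ((p ∣_ U) ⁻¹ᵁ W))
              ((p ∣_ U) ⁻¹ᵁ W) _).hom t := congrArg (fun φ => φ.hom t) (hk _ _)
        _ = ((p ⁻¹ᵁ U).ι.appLE ((p ⁻¹ᵁ U).ι ''ᵁ ((p ∣_ U) ⁻¹ᵁ W)) ((p ∣_ U) ⁻¹ᵁ W) e₁).hom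
              (((ρ g).hom.appLE _ _ (hV g)).hom t) := h2t.symm
        _ = ((ρ g).hom.appLE _ _ (hV g)).hom t := h3 _
    constructor
    · intro h g
      rw [lemB g]; exact h g (hV g)
    · intro h g eg
      have h5 := h g
      rw [lemB g] at h5; exact h5

end Groth.Agent.S13606
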