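import Groth.Statements.S13607
-- import your own Groth.Agent.* helpers here
import Mathlib

set_option autoImplicit false
open CategoryTheory CategoryTheory.Limits Opposite
universe w v u
open ARSys

namespace Groth.Agent.S13607

/-- In an abelian category linear over a commutative ring A with an ideal J, let X be a J-adic
projective system indexed by the natural numbers and Y a projective system whose n-th term is killed
by J^(n+1) for every n. Then for every r, every morphism from the translate X[r] to Y factors
uniquely through the canonical translation map X[r] ⟶ X: there is exactly one morphism g : X ⟶ Y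
whose n-th component, precomposed with the transition map X_(n+r) ⟶ X_n, is the n-th component of
the given morphism. In particular morphisms X ⟶ Y up to translation are the same as morphisms X ⟶ Y.
(The published statement is for systems of finitely generated modules over a Noetherian ring, and
for systems of sheaves of modules on the small etale site; this row states it in any linear abelian
category, which is all the argument uses.) -/
theorem result {C : Type u} [Category.{v} C] [Abelian C] {A : Type w} [CommRing A] [Linear A C]
    (J : Ideal A) (X Y : ARSys.PS C) (hX : ARSys.IsAdic J X) (hY : ARSys.TermKilled J Y) (r : ℕ)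
    (f : (ARSys.shift C r).obj X ⟶ Y) :
    ∃! g : X ⟶ Y, ∀ n : ℕ, f.app (op n) = ARSys.shiftMap X r n ≫ g.app (op n) := by
  have hk : ∀ (n m : ℕ) (hnm : n ≤ m) (Z : C) (φ : Z ⟶ Y.obj (op n)),
      ARSys.HomKilledBy (J ^ (m + 1)) φ := by
    intro n m hnm Z φ a ha
    have ha' : a ∈ J ^ (n + 1) := Ideal.pow_le_pow_right (by omega) ha
    have h0 := hY n a ha'
    calc a • φ = φ ≫ (a • 𝟙 _) := by rw [Linear.comp_smul, Category.comp_id]
      _ = 0 := by rw [h0, comp_zero]
  have hex : ∀ n : ℕ, ∃! ψ : X.obj (op n) ⟶ Y.obj (op n),
      ARSys.shiftMap X r n ≫ ψ = f.app (op n) :=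
    fun n => (hX.2 n (n + r) (Nat.le_add_right n r)).2 _ (f.app (op n)) (hk n n le_rfl _ _)
  choose g hg hguniq using hex
  have hnat : ∀ (n m : ℕ) (h : n ≤ m),
      X.map (homOfLE h).op ≫ g n = g m ≫ Y.map (homOfLE h).op := by
    intro n m h
    have hq := (hX.2 m (m + r) (Nat.le_add_right m r)).2 (Y.obj (op n))
      (ARSys.shiftMap X r m ≫ X.map (homOfLE h).op ≫ g n) (hk n m h _ _)
    obtain ⟨ψ, _, hψ⟩ := hq
    have h1 := hψ (X.map (homOfLE h).op ≫ g n) rfl
    have h2 := hψ (g m ≫ Y.map (homOfLE h).op) (by
      have e1 : ARSys.shiftMap X r m ≫ g m ≫ Y.map (homOfLE h).op =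
          f.app (op m) ≫ Y.map (homOfLE h).op := by
        rw [← Category.assoc, hg m]
      have e2 : f.app (op m) ≫ Y.map (homOfLE h).op =
          ((ARSys.shift C r).obj X).map (homOfLE h).op ≫ f.app (op n) :=
        (f.naturality (homOfLE h).op).symm
      have e3 : ((ARSys.shift C r).obj X).map (homOfLE h).op ≫ ARSys.shiftMap X r n =
          ARSys.shiftMap X r m ≫ X.map (homOfLE h).op := by
        show X.map _ ≫ X.map _ = X.map _ ≫ X.map _
        rw [← X.map_comp, ← X.map_comp]
        congr 1
      show ARSys.shiftMap X r m ≫ g m ≫ Y.map (homOfLE h).op =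
        ARSys.shiftMap X r m ≫ X.map (homOfLE h).op ≫ g n
      rw [e1, e2, ← hg n, ← Category.assoc, e3, Category.assoc])
    rw [h1, h2]
  refine ⟨{ app := fun n => g n.unop, naturality := ?_ }, ?_, ?_⟩
  · intro a b φ
    induction a using Opposite.rec with
    | op m =>
    induction b using Opposite.rec with
    | op n =>
    have h : n ≤ m := leOfHom φ.unop
    have e : φ = (homOfLE h).op := Quiver.Hom.unop_inj (Subsingleton.elim _ _)
    rw [e]
    exact hnat n m h
  · intro n
    exact (hg n).symm
  · intro g' hg'
    apply NatTrans.ext
    funext n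
    induction n using Opposite.rec with
    | op n =>
    exact hguniq n _ (hg' n).symm

end Groth.Agent.S13607
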