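import Groth.Statements.S13608
-- import your own Groth.Agent.* helpers here
import Mathlib

set_option autoImplicit false
universe u v
open CAlg

namespace Groth.Agent.S13608

/-- Let A be a commutative ring, I a finitely generated ideal of A and (M_n) an inverse system of
A-modules with transition maps f_n : M_(n+1) → M_n such that I^(n+1) M_n = 0 for every n. If L is an
inverse limit of the system (projections π_n compatible with the f_n, jointly injective, and such
that every compatible family of elements lifts to L), then L is complete and separated for the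
I-adic topology. No surjectivity of the transition maps is assumed. -/
theorem result
    (A : Type u) [CommRing A] (I : Ideal A) (hI : I.FG)
    (M : ℕ → Type v) [∀ n, AddCommGroup (M n)] [∀ n, Module A (M n)]
    (f : ∀ n, M (n + 1) →ₗ[A] M n)
    (hkill : ∀ n, I ^ (n + 1) • (⊤ : Submodule A (M n)) = ⊥)
    (L : Type v) [AddCommGroup L] [Module A L] (π : ∀ n, L →ₗ[A] M n)
    (hπ : ∀ n, f n ∘ₗ π (n + 1) = π n)
    (hinj : ∀ x : L, (∀ n, π n x = 0) → x = 0)
    (hlift : ∀ y : (∀ n, M n), (∀ n, f n (y (n + 1)) = y n) → ∃ x : L, ∀ n, π n x = y n) :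
    IsAdicComplete I L := by
  classical
  have DEC : ∀ (S : Finset A) (N : Submodule A L) (y : L), y ∈ (Ideal.span (S : Set A)) • N →
      ∃ u : A → L, (∀ g, u g ∈ N) ∧ y = ∑ g ∈ S, g • u g := by
    intro S N y hy
    refine Submodule.smul_induction_on hy ?_ ?_
    · intro r hr n hn
      obtain ⟨c, -, hc⟩ := Submodule.mem_span_finset.mp hr
      refine ⟨fun g => c g • n, fun g => N.smul_mem _ hn, ?_⟩
      rw [← hc, Finset.sum_smul]
      apply Finset.sum_congr rfl
      intro g _
      show (c g • g) • n = g • (c g • n)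
      rw [smul_eq_mul, mul_comm, mul_smul]
    · rintro y z ⟨u, hu1, hu2⟩ ⟨u', hu1', hu2'⟩
      refine ⟨fun g => u g + u' g, fun g => N.add_mem (hu1 g) (hu1' g), ?_⟩
      rw [hu2, hu2', ← Finset.sum_add_distrib]
      apply Finset.sum_congr rfl
      intro g _
      rw [smul_add]
  have F1 : ∀ (n : ℕ) (x : L), x ∈ (I ^ (n + 1) • ⊤ : Submodule A L) → π n x = 0 := by
    intro n x hx
    refine Submodule.smul_induction_on hx ?_ ?_
    · intro a ha y _
      rw [map_smul]
      have h1 : a • π n y ∈ (I ^ (n + 1) • ⊤ : Submodule A (M n)) :=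
        Submodule.smul_mem_smul ha Submodule.mem_top
      rw [hkill n] at h1
      exact (Submodule.mem_bot A).mp h1
    · intro y z hy hz
      rw [map_add, hy, hz, add_zero]
  have F2 : ∀ (n : ℕ) (x : L), π (n + 1) x = 0 → π n x = 0 := by
    intro n x hx
    have h1 : f n (π (n + 1) x) = π n x := LinearMap.congr_fun (hπ n) x
    rw [← h1, hx, map_zero]
  have F2' : ∀ (n k : ℕ) (x : L), π (n + k) x = 0 → π n x = 0 := by
    intro n k
    induction k with
    | zero => intro x hx; exact hx
    | succ k ih => intro x hx; exact ih x (F2 (n + k) x hx)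
  have F4 : ∀ z : ℕ → L, (∀ m, π m (z (m + 1) - z m) = 0) →
      ∃ x : L, ∀ m, π m (x - z m) = 0 := by
    intro z hz
    obtain ⟨x, hx⟩ := hlift (fun n => π n (z n)) (by
      intro n
      have h1 : f n (π (n + 1) (z (n + 1))) = π n (z (n + 1)) :=
        LinearMap.congr_fun (hπ n) (z (n + 1))
      show f n (π (n + 1) (z (n + 1))) = π n (z n)
      rw [h1]
      have h2 := hz n
      rw [map_sub, sub_eq_zero] at h2
      exact h2)
    exact ⟨x, fun m => by rw [map_sub, hx m, sub_self]⟩
  refine { toIsHausdorff := ⟨?_⟩, toIsPrecomplete := ⟨?_⟩ }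
  · intro x hx
    apply hinj
    intro n
    exact F1 n x (SModEq.zero.mp (hx (n + 1)))
  · intro xs hxs
    have hd : ∀ m, xs (m + 1) - xs m ∈ (I ^ m • ⊤ : Submodule A L) := by
      intro m
      have h2 := SModEq.sub_mem.mp (hxs (Nat.le_succ m))
      have h3 := Submodule.neg_mem _ h2
      rwa [neg_sub] at h3
    obtain ⟨x, hx⟩ := F4 (fun m => xs (m + 1)) (fun m => F1 m _ (hd (m + 1)))
    have hx' : ∀ m, π m (x - xs (m + 1)) = 0 := hx
    refine ⟨x, fun n => ?_⟩
    rw [SModEq.sub_mem]
    obtain ⟨S, hS⟩ := Ideal.FG.pow (n := n) hI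
    have hS' : Ideal.span (S : Set A) = I ^ n := hS
    have hsplit : ∀ m', (I ^ (n + m') • ⊤ : Submodule A L) =
        Ideal.span (S : Set A) • (I ^ m' • ⊤ : Submodule A L) := by
      intro m'
      rw [hS', pow_add, Submodule.mul_smul]
    have hex : ∀ m', ∃ u : A → L, (∀ g, u g ∈ (I ^ m' • ⊤ : Submodule A L)) ∧
        xs (n + m' + 1) - xs (n + m') = ∑ g ∈ S, g • u g := by
      intro m'
      apply DEC
      rw [← hsplit]
      exact hd (n + m')
    choose u hu1 hu2 using hex
    have hv : ∀ g : A, ∃ v : L, ∀ t, π t (v - ∑ m' ∈ Finset.range (t + 1), u m' g) = 0 := by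
      intro g
      apply F4 (fun t => ∑ m' ∈ Finset.range (t + 1), u m' g)
      intro t
      have h1 : (∑ m' ∈ Finset.range (t + 1 + 1), u m' g) -
          ∑ m' ∈ Finset.range (t + 1), u m' g = u (t + 1) g := by
        rw [Finset.sum_range_succ _ (t + 1)]
        abel
      show π t ((∑ m' ∈ Finset.range (t + 1 + 1), u m' g) -
          ∑ m' ∈ Finset.range (t + 1), u m' g) = 0
      rw [h1]
      exact F1 t _ (hu1 (t + 1) g)
    choose v hv' using hv
    have hmain : x - xs n = ∑ g ∈ S, g • v g := by
      rw [← sub_eq_zero]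
      apply hinj
      intro t
      have htel : xs (n + (t + 1)) - xs n =
          ∑ m' ∈ Finset.range (t + 1), (xs (n + m' + 1) - xs (n + m')) :=
        (Finset.sum_range_sub (fun i => xs (n + i)) (t + 1)).symm
      have hsum : xs (n + (t + 1)) - xs n =
          ∑ g ∈ S, g • ∑ m' ∈ Finset.range (t + 1), u m' g := by
        rw [htel]
        simp_rw [hu2, Finset.smul_sum]
        exact Finset.sum_comm
      have h3 : ∑ g ∈ S, g • (v g - ∑ m' ∈ Finset.range (t + 1), u m' g) =
          ∑ g ∈ S, g • v g - (xs (n + (t + 1)) - xs n) := by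
        rw [hsum, ← Finset.sum_sub_distrib]
        apply Finset.sum_congr rfl
        intro g _
        rw [smul_sub]
      have e1 : x - xs n - ∑ g ∈ S, g • v g = (x - xs (n + t + 1)) -
          ∑ g ∈ S, g • (v g - ∑ m' ∈ Finset.range (t + 1), u m' g) := by
        rw [h3, add_assoc n t 1]
        abel
      rw [e1, map_sub, map_sum]
      have h1 : π t (x - xs (n + t + 1)) = 0 :=
        F2' t n _ (by rw [add_comm t n]; exact hx' (n + t))
      rw [h1, zero_sub, neg_eq_zero]
      apply Finset.sum_eq_zero
      intro g _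
      rw [map_smul, hv' g t, smul_zero]
    rw [← neg_sub x (xs n), hmain]
    apply Submodule.neg_mem
    apply Submodule.sum_mem
    intro g hg
    apply Submodule.smul_mem_smul _ Submodule.mem_top
    rw [← hS']
    exact Ideal.subset_span (Finset.mem_coe.mpr hg)

end Groth.Agent.S13608
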