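import Groth.Statements.S13609
-- import your own Groth.Agent.* helpers here

set_option autoImplicit false
universe u v
open CAlg

namespace Groth.Agent.S13609

theorem mem_iff_aux (A : Type u) [CommRing A] (I : Ideal A)
    (M₁ M₂ : Type v) [AddCommGroup M₁] [Module A M₁] [AddCommGroup M₂] [Module A M₂] (n : ℕ) (x : M₁) :
    x ∈ (I ^ n • ⊤ : Submodule A M₁) ↔ ((x, 0) : M₁ × M₂) ∈ (I ^ n • ⊤ : Submodule A (M₁ × M₂)) := by
  constructor
  · intro hx
    have h1 : Submodule.map (LinearMap.inl A M₁ M₂) (I ^ n • ⊤) ≤ (I ^ n • ⊤ : Submodule A (M₁ × M₂)) := by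
      rw [Submodule.map_smul'']
      exact Submodule.smul_mono le_rfl le_top
    exact h1 ⟨x, hx, rfl⟩
  · intro hx
    have h1 : Submodule.map (LinearMap.fst A M₁ M₂) (I ^ n • ⊤) ≤ (I ^ n • ⊤ : Submodule A M₁) := by
      rw [Submodule.map_smul'']
      exact Submodule.smul_mono le_rfl le_top
    exact h1 ⟨(x, 0), hx, rfl⟩

/-- A direct summand of a module that is complete and separated for the I-adic topology is again
complete and separated: for a commutative ring A, an ideal I and A-modules M₁, M₂, if M₁ × M₂ is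
I-adically complete then so is M₁. -/
theorem result (A : Type u) [CommRing A] (I : Ideal A)
    (M₁ M₂ : Type v) [AddCommGroup M₁] [Module A M₁] [AddCommGroup M₂] [Module A M₂]
    [IsAdicComplete I (M₁ × M₂)] : IsAdicComplete I M₁ := by
  have hH : IsHausdorff I M₁ := by
    refine ⟨fun x hx => ?_⟩
    have : ((x, 0) : M₁ × M₂) = 0 := by
      apply IsHausdorff.haus (I := I) inferInstance
      intro n
      have := hx n
      rw [SModEq.zero] at this ⊢
      exact (mem_iff_aux A I M₁ M₂ n x).1 this
    exact (Prod.ext_iff.1 this).1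
  have hP : IsPrecomplete I M₁ := by
    refine ⟨fun {f} hf => ?_⟩
    obtain ⟨L, hL⟩ := IsPrecomplete.prec (I := I) (M := M₁ × M₂) inferInstance
      (f := fun n => ((f n, 0) : M₁ × M₂)) (by
        intro m n hmn
        have := hf hmn
        rw [SModEq.sub_mem] at this ⊢
        have h2 := (mem_iff_aux A I M₁ M₂ m (f m - f n)).1 this
        simpa using h2)
    refine ⟨L.1, fun n => ?_⟩
    have := hL n
    rw [SModEq.sub_mem] at this ⊢
    have h1 : Submodule.map (LinearMap.fst A M₁ M₂) (I ^ n • ⊤) ≤ (I ^ n • ⊤ : Submodule A M₁) := by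
      rw [Submodule.map_smul'']
      exact Submodule.smul_mono le_rfl le_top
    exact h1 ⟨_, this, rfl⟩
  exact { toIsHausdorff := hH, toIsPrecomplete := hP }

end Groth.Agent.S13609
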