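import Groth.Statements.S13621
-- import your own Groth.Agent.* helpers here
import Mathlib

set_option autoImplicit false
open CategoryTheory CategoryTheory.Limits Opposite
universe v u
open ARSys

namespace Groth.Agent.S13621

section
variable {C : Type u} [Category.{v} C]

abbrev Sh (r : ℕ) : (ℕᵒᵖ ⥤ C) ⥤ (ℕᵒᵖ ⥤ C) :=
  (Functor.whiskeringLeft ℕᵒᵖ ℕᵒᵖ C).obj (ARSys.addF r).op

def sig' (r : ℕ) (Z : ℕᵒᵖ ⥤ C) : (ARSys.addF r).op ⋙ Z ⟶ Z where
  app n := Z.map (homOfLE (Nat.le_add_right n.unop r)).op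
  naturality n m f := by
    show Z.map _ ≫ Z.map _ = Z.map _ ≫ Z.map _
    rw [← Z.map_comp, ← Z.map_comp]
    exact congrArg Z.map (Subsingleton.elim _ _)

def sig (r : ℕ) (Z : ℕᵒᵖ ⥤ C) : (Sh r).obj Z ⟶ Z := sig' r Z

lemma sig_nat (r : ℕ) {Z Z' : ℕᵒᵖ ⥤ C} (f : Z ⟶ Z') :
    (Sh r).map f ≫ sig r Z' = sig r Z ≫ f := by
  ext n
  show f.app _ ≫ Z'.map _ = Z.map _ ≫ f.app _
  exact (f.naturality _).symm

lemma isIso_limMap_sig' [HasLimitsOfShape ℕᵒᵖ C] (r : ℕ) (Z : ℕᵒᵖ ⥤ C) :
    IsIso (limMap (sig' r Z)) := by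
  refine ⟨⟨limit.pre Z (ARSys.addF r).op, ?_, ?_⟩⟩
  · apply limit.hom_ext
    intro j
    rw [Category.assoc, limit.pre_π, limMap_π, Category.id_comp]
    have hw := limit.w ((ARSys.addF r).op ⋙ Z) (j := (ARSys.addF r).op.obj j) (j' := j)
      (homOfLE (Nat.le_add_right j.unop r)).op
    refine Eq.trans ?_ hw
    congr 1
  · apply limit.hom_ext
    intro j
    rw [Category.assoc, limMap_π, limit.pre_π_assoc, Category.id_comp]
    exact limit.w Z _

lemma isIso_lim_sig [HasLimitsOfShape ℕᵒᵖ C] (r : ℕ) (Z : ℕᵒᵖ ⥤ C) :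
    IsIso (lim.map (sig r Z)) := by
  show IsIso (limMap (sig' r Z))
  exact isIso_limMap_sig' r Z

lemma two_of_six {D : Type*} [Category D] {A B E F : D} (f : A ⟶ B) (g : B ⟶ E) (h : E ⟶ F)
    (hf : IsIso (f ≫ g)) (hg : IsIso (g ≫ h)) : IsIso h := by
  haveI : IsSplitMono g :=
    IsSplitMono.mk' ⟨h ≫ inv (g ≫ h), by rw [← Category.assoc, IsIso.hom_inv_id]⟩
  haveI : IsSplitEpi g :=
    IsSplitEpi.mk' ⟨inv (f ≫ g) ≫ f, by rw [Category.assoc, IsIso.inv_hom_id]⟩
  haveI : IsIso g := isIso_of_mono_of_isSplitEpi g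
  exact IsIso.of_isIso_comp_left g h

lemma sig_eq_zero [Abelian C] (r : ℕ) (K : ℕᵒᵖ ⥤ C)
    (h : ∀ n : ℕ, ARSys.shiftMap K r n = 0) : sig r K = 0 := by
  ext ⟨n⟩
  exact h n

end

/-- The inverse limit is a well-defined functor on projective systems up to translation. Concretely: in
an abelian category with limits of shape ℕᵒᵖ, a morphism u : X ⟶ Y of projective systems indexed by
the natural numbers whose kernel and cokernel are null up to translation induces an isomorphism lim
X ⟶ lim Y. (The published statement is the functoriality of lim on the category of systems up to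
translation; combined with the description of isomorphisms there as the morphisms with null kernel
and cokernel, this is the form stated.) -/
theorem result {C : Type u} [Category.{v} C] [Abelian C] [HasLimitsOfShape ℕᵒᵖ C]
    {X Y : ARSys.PS C} (u : X ⟶ Y) (hu : ARSys.IsARIso u) : IsIso (limMap u) := by
  obtain ⟨⟨r, hK⟩, ⟨r', hQ⟩⟩ := hu
  have hσK : sig r (kernel u) = 0 := sig_eq_zero r _ hK
  have hσQ : sig r' (cokernel u) = 0 := sig_eq_zero r' _ hQ
  have hP : IsIso (lim.map (cokernel.π (kernel.ι u))) := by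
    have hσ : (Sh r).map (kernel.ι u) ≫ sig r X = 0 := by rw [sig_nat, hσK, zero_comp]
    have hc' := CokernelCofork.mapIsColimit _ (cokernelIsCokernel (kernel.ι u)) (Sh r)
    let β : (Sh r).obj (cokernel (kernel.ι u)) ⟶ X :=
      hc'.desc (CokernelCofork.ofπ (sig r X) hσ)
    have hβ : (Sh r).map (cokernel.π (kernel.ι u)) ≫ β = sig r X :=
      hc'.fac (CokernelCofork.ofπ (sig r X) hσ) WalkingParallelPair.one
    have hβ2 : β ≫ cokernel.π (kernel.ι u) = sig r (cokernel (kernel.ι u)) := by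
      apply Cofork.IsColimit.hom_ext hc'
      show (Sh r).map (cokernel.π (kernel.ι u)) ≫ β ≫ cokernel.π (kernel.ι u) =
        (Sh r).map (cokernel.π (kernel.ι u)) ≫ sig r (cokernel (kernel.ι u))
      rw [← Category.assoc, hβ, sig_nat]
    have i1 : IsIso (lim.map ((Sh r).map (cokernel.π (kernel.ι u))) ≫ lim.map β) := by
      rw [← lim.map_comp, hβ]; exact isIso_lim_sig r X
    have i2 : IsIso (lim.map β ≫ lim.map (cokernel.π (kernel.ι u))) := by
      rw [← lim.map_comp, hβ2]; exact isIso_lim_sig r _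
    exact two_of_six _ _ _ i1 i2
  have hJ : IsIso (lim.map (kernel.ι (cokernel.π u))) := by
    have hσ : sig r' Y ≫ cokernel.π u = 0 := by rw [← sig_nat, hσQ, comp_zero]
    let α : (Sh r').obj Y ⟶ kernel (cokernel.π u) := kernel.lift (cokernel.π u) (sig r' Y) hσ
    have hα : α ≫ kernel.ι (cokernel.π u) = sig r' Y := kernel.lift_ι _ _ _
    have hα2 : (Sh r').map (kernel.ι (cokernel.π u)) ≫ α = sig r' (kernel (cokernel.π u)) := by
      rw [← cancel_mono (kernel.ι (cokernel.π u)), Category.assoc, hα, sig_nat]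
    have i1 : IsIso (lim.map ((Sh r').map (kernel.ι (cokernel.π u))) ≫ lim.map α) := by
      rw [← lim.map_comp, hα2]; exact isIso_lim_sig r' _
    have i2 : IsIso (lim.map α ≫ lim.map (kernel.ι (cokernel.π u))) := by
      rw [← lim.map_comp, hα]; exact isIso_lim_sig r' _
    exact two_of_six _ _ _ i1 i2
  have hfac : cokernel.π (kernel.ι u) ≫ Abelian.coimageImageComparison u ≫
      kernel.ι (cokernel.π u) = u := Abelian.coimage_image_factorisation u
  have hmain : IsIso (lim.map u) := by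
    rw [← hfac, lim.map_comp, lim.map_comp]
    haveI := hP
    haveI := hJ
    infer_instance
  exact hmain

end Groth.Agent.S13621
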