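import Groth.Statements.S13622
-- import your own Groth.Agent.* helpers here
import Mathlib

set_option autoImplicit false
universe u v
open CAlg

namespace Groth.Agent.S13622

/-- Let A be a commutative ring, I a finitely generated ideal and (M_n) an inverse system of finitely
generated A-modules whose transition maps f_n : M_(n+1) → M_n are surjective with kernel I^(n+1)
M_(n+1), and with I^(n+1) M_n = 0 for all n. If L is an inverse limit of the system (projections π_n
compatible with the f_n, jointly injective, every compatible family lifting to L), endowed with a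
module structure over the I-adic completion A^ of A that is compatible with its A-module structure,
then L is finitely generated as an A^-module. No completeness of A is assumed. -/
theorem result
    (A : Type u) [CommRing A] (I : Ideal A) (hI : I.FG)
    (M : ℕ → Type v) [∀ n, AddCommGroup (M n)] [∀ n, Module A (M n)] [∀ n, Module.Finite A (M n)]
    (f : ∀ n, M (n + 1) →ₗ[A] M n) (hf : ∀ n, Function.Surjective (f n))
    (hker : ∀ n, LinearMap.ker (f n) = I ^ (n + 1) • (⊤ : Submodule A (M (n + 1))))
    (hkill : ∀ n, I ^ (n + 1) • (⊤ : Submodule A (M n)) = ⊥)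
    (L : Type v) [AddCommGroup L] [Module A L] (π : ∀ n, L →ₗ[A] M n)
    (hπ : ∀ n, f n ∘ₗ π (n + 1) = π n)
    (hinj : ∀ x : L, (∀ n, π n x = 0) → x = 0)
    (hlift : ∀ y : (∀ n, M n), (∀ n, f n (y (n + 1)) = y n) → ∃ x : L, ∀ n, π n x = y n)
    [Module (AdicCompletion I A) L] [IsScalarTower A (AdicCompletion I A) L] :
    Module.Finite (AdicCompletion I A) L := by
  classical
  have hsurj0 : Function.Surjective (π 0) := by
    intro m0
    let y : ∀ n, M n := fun n =>
      Nat.rec (motive := fun n => M n) m0 (fun n yn => (hf n yn).choose) n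
    have hy : ∀ n, f n (y (n+1)) = y n := fun n => (hf n (y n)).choose_spec
    obtain ⟨x, hx⟩ := hlift y hy
    exact ⟨x, hx 0⟩
  obtain ⟨r, m, hm⟩ := Module.Finite.exists_fin (R := A) (M := M 0)
  choose x hx using fun i => hsurj0 (m i)
  have hπ' : ∀ n (z : L), f n (π (n+1) z) = π n z := fun n z => LinearMap.congr_fun (hπ n) z
  have hgen : ∀ n, Submodule.span A (Set.range fun i => π n (x i)) = ⊤ := by
    intro n
    induction n with
    | zero =>
      have h0 : (fun i => π 0 (x i)) = m := funext hx
      rw [h0, hm]
    | succ n ih =>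
      have hmap : (Submodule.span A (Set.range fun i => π (n+1) (x i))).map (f n) = ⊤ := by
        rw [Submodule.map_span, ← Set.range_comp, ← ih]
        congr 2
        funext i
        exact hπ' n (x i)
      have htop : (⊤ : Submodule A (M (n+1))) ≤
          Submodule.span A (Set.range fun i => π (n+1) (x i)) ⊔ I^(n+1) • ⊤ := by
        intro w _
        have hw : f n w ∈ (Submodule.span A (Set.range fun i => π (n+1) (x i))).map (f n) := by
          rw [hmap]; trivial
        obtain ⟨v, hv, hvw⟩ := hw
        have hk : w - v ∈ LinearMap.ker (f n) := by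
          rw [LinearMap.mem_ker, map_sub, hvw, sub_self]
        rw [hker n] at hk
        have hwv : w = v + (w - v) := by abel
        rw [hwv]
        exact Submodule.add_mem_sup hv hk
      have h2 : I^(n+1) • (I^(n+1) • (⊤ : Submodule A (M (n+1)))) ≤ ⊥ := by
        rw [← Submodule.mul_smul, ← pow_add, ← hkill (n+1)]
        exact Submodule.smul_mono_left (Ideal.pow_le_pow_right (by omega))
      have hIN : I^(n+1) • (⊤ : Submodule A (M (n+1))) ≤
          Submodule.span A (Set.range fun i => π (n+1) (x i)) := by
        calc I^(n+1) • (⊤ : Submodule A (M (n+1)))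
            ≤ I^(n+1) • (Submodule.span A (Set.range fun i => π (n+1) (x i)) ⊔ I^(n+1) • ⊤) :=
              Submodule.smul_mono le_rfl htop
          _ = I^(n+1) • Submodule.span A (Set.range fun i => π (n+1) (x i)) ⊔
                I^(n+1) • (I^(n+1) • ⊤) := Submodule.smul_sup _ _ _
          _ ≤ Submodule.span A (Set.range fun i => π (n+1) (x i)) ⊔ ⊥ :=
              sup_le_sup Submodule.smul_le_right h2
          _ = Submodule.span A (Set.range fun i => π (n+1) (x i)) := sup_bot_eq _
      exact eq_top_iff.2 (htop.trans (sup_le le_rfl hIN))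
  have hmain : ∀ y : L, y ∈ Submodule.span (AdicCompletion I A) (Set.range x) := by
    intro y
    have hbase : ∃ a : Fin r → A, π 0 y = ∑ i, a i • π 0 (x i) := by
      have h0 : π 0 y ∈ Submodule.span A (Set.range fun i => π 0 (x i)) := by
        rw [hgen 0]; trivial
      obtain ⟨c, hc⟩ := (Submodule.mem_span_range_iff_exists_fun A).1 h0
      exact ⟨c, hc.symm⟩
    have hstep : ∀ n (a : {a : Fin r → A // π n y = ∑ i, a i • π n (x i)}),
        ∃ a' : {a : Fin r → A // π (n+1) y = ∑ i, a i • π (n+1) (x i)},
          ∀ i, a'.1 i - a.1 i ∈ I^(n+1) := by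
      rintro n ⟨a, ha⟩
      have hfw : f n (π (n+1) y - ∑ i, a i • π (n+1) (x i)) = 0 := by
        rw [map_sub, map_sum, hπ', ha]
        simp only [map_smul, hπ', sub_self]
      have hwk : π (n+1) y - ∑ i, a i • π (n+1) (x i) ∈
          I^(n+1) • Submodule.span A (Set.range fun i => π (n+1) (x i)) := by
        rw [hgen (n+1), ← hker n]; exact hfw
      obtain ⟨c, hcI, hcsum⟩ := (Submodule.mem_ideal_smul_span_iff_exists_sum _ _ _).1 hwk
      rw [Finsupp.sum_fintype c (fun i t => t • π (n+1) (x i)) (fun i => zero_smul A _)] at hcsum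
      refine ⟨⟨fun i => a i + c i, ?_⟩, fun i => by simp [hcI i]⟩
      simp only [add_smul, Finset.sum_add_distrib, hcsum]
      abel
    obtain ⟨a0, ha0⟩ := hbase
    choose step hstep' using hstep
    let s : ∀ n, {a : Fin r → A // π n y = ∑ i, a i • π n (x i)} := fun n =>
      Nat.rec (motive := fun n => {a : Fin r → A // π n y = ∑ i, a i • π n (x i)})
        ⟨a0, ha0⟩ (fun n a => step n a) n
    have hs : ∀ n i, (s (n+1)).1 i - (s n).1 i ∈ I^(n+1) := fun n i => hstep' n (s n) i
    let cs : Fin r → AdicCompletion.AdicCauchySequence I A := fun i =>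
      AdicCompletion.AdicCauchySequence.mk I A (fun n => (s n).1 i) (fun n => by
        rw [SModEq.sub_mem]
        have h1 := hs n i
        have h2 : (s n).1 i - (s (n+1)).1 i ∈ I^n := by
          have h3 : (s n).1 i - (s (n+1)).1 i = -((s (n+1)).1 i - (s n).1 i) := by ring
          rw [h3]
          exact neg_mem (Ideal.pow_le_pow_right (Nat.le_succ n) h1)
        have h3 := Submodule.smul_mem_smul h2 (Submodule.mem_top : (1 : A) ∈ ⊤)
        have e3 : ((s n).1 i - (s (n+1)).1 i) • (1 : A) = (s n).1 i - (s (n+1)).1 i := by
          rw [smul_eq_mul, mul_one]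
        rwa [e3] at h3)
    let ahat : Fin r → AdicCompletion I A := fun i => AdicCompletion.mk I A (cs i)
    have hΦ : ∀ n i, π n (ahat i • x i) = (s n).1 i • π n (x i) := by
      intro n i
      let Φ : AdicCompletion I A →ₗ[A] M n :=
        { toFun := fun b => π n (b • x i)
          map_add' := fun b c => by rw [add_smul, map_add]
          map_smul' := fun t b => by rw [RingHom.id_apply, smul_assoc, map_smul] }
      have hd : ahat i - algebraMap A (AdicCompletion I A) ((s n).1 i) ∈
          I^(n+1) • (⊤ : Submodule A (AdicCompletion I A)) := by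
        rw [AdicCompletion.pow_smul_top_eq_ker_eval hI, LinearMap.mem_ker, map_sub,
          AdicCompletion.algebraMap_apply, AdicCompletion.eval_of, AdicCompletion.eval_apply]
        show Submodule.mkQ _ ((s (n+1)).1 i) - Submodule.mkQ _ (algebraMap A A ((s n).1 i)) = 0
        rw [← map_sub, Submodule.mkQ_apply, Submodule.Quotient.mk_eq_zero]
        have h3 := Submodule.smul_mem_smul (hs n i) (Submodule.mem_top : (1 : A) ∈ ⊤)
        have e3 : ((s (n+1)).1 i - (s n).1 i) • (1 : A) = (s (n+1)).1 i - (s n).1 i := by
          rw [smul_eq_mul, mul_one]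
        rwa [e3] at h3
      have hΦd : Φ (ahat i - algebraMap A (AdicCompletion I A) ((s n).1 i)) = 0 := by
        have hle : (I^(n+1) • (⊤ : Submodule A (AdicCompletion I A))).map Φ ≤ ⊥ := by
          rw [Submodule.map_smul'', ← hkill n]
          exact Submodule.smul_mono le_rfl le_top
        exact (Submodule.mem_bot A).1 (hle (Submodule.mem_map_of_mem hd))
      have hΦa : Φ (algebraMap A (AdicCompletion I A) ((s n).1 i)) = (s n).1 i • π n (x i) := by
        show π n ((algebraMap A (AdicCompletion I A) ((s n).1 i)) • x i) = _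
        rw [algebraMap_smul, map_smul]
      have hsplit : Φ (ahat i) = Φ (ahat i - algebraMap A (AdicCompletion I A) ((s n).1 i)) +
          Φ (algebraMap A (AdicCompletion I A) ((s n).1 i)) := by
        rw [← map_add, sub_add_cancel]
      show Φ (ahat i) = _
      rw [hsplit, hΦd, zero_add, hΦa]
    have hy : y = ∑ i, ahat i • x i := by
      rw [← sub_eq_zero]
      apply hinj
      intro n
      rw [map_sub, map_sum]
      simp only [hΦ]
      rw [sub_eq_zero]
      exact (s n).2
    rw [hy]
    exact Submodule.sum_mem _ (fun i _ => Submodule.smul_mem _ _ (Submodule.subset_span ⟨i, rfl⟩))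
  exact ⟨⟨Finset.univ.image x, by
    rw [Finset.coe_image, Finset.coe_univ, Set.image_univ, eq_top_iff]
    exact fun y _ => hmain y⟩⟩

end Groth.Agent.S13622
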