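import Groth.Statements.S13623
-- import your own Groth.Agent.* helpers here
import Mathlib

set_option autoImplicit false
universe u
open TensorProduct
open CAlg

namespace Groth.Agent.S13623

lemma gr_subsingleton_of_geom_fibres {A : Type u} [CommRing A] (Q : Type u) [AddCommGroup Q]
    [Module A Q] [Module.Finite A Q]
    (h : ∀ (k : Type u) [Field k] [IsAlgClosed k] [Algebra A k], Subsingleton (k ⊗[A] Q)) :
    Subsingleton Q := by
  rw [← Module.support_eq_empty_iff (R := A), Set.eq_empty_iff_forall_notMem]
  intro p hp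
  rw [Module.mem_support_iff_nontrivial_residueField_tensorProduct] at hp
  have h1 : Subsingleton ((AlgebraicClosure p.asIdeal.ResidueField) ⊗[A] Q) := h _
  have h2 : Subsingleton ((AlgebraicClosure p.asIdeal.ResidueField) ⊗[p.asIdeal.ResidueField]
      (p.asIdeal.ResidueField ⊗[A] Q)) :=
    (TensorProduct.AlgebraTensorModule.cancelBaseChange A p.asIdeal.ResidueField
      (AlgebraicClosure p.asIdeal.ResidueField) (AlgebraicClosure p.asIdeal.ResidueField)
      Q).toEquiv.subsingleton
  have h3 : Subsingleton (p.asIdeal.ResidueField ⊗[A] Q) :=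
    (Module.FaithfullyFlat.subsingleton_tensorProduct_iff_right _ _).mp h2
  haveI := hp
  exact not_subsingleton _ h3

/-- Let A be a commutative ring and B a commutative A-algebra, graded by A-submodules B_m (m ≥ 0)
forming a graded-algebra structure, such that every B_m is a finitely generated A-module. If for
every algebraically closed field k and every A-algebra structure on k the k-algebra k ⊗_A B is
generated by the image of B_1 under b ↦ 1 ⊗ b, then its degree-one part B_1 generates the A-algebra
B. (Algebraically closed fields are taken in the universe of A.) -/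
theorem result
    (A : Type u) [CommRing A] (B : Type u) [CommRing B] [Algebra A B]
    (𝒜 : ℕ → Submodule A B) [GradedAlgebra 𝒜]
    (hfin : ∀ m : ℕ, Module.Finite A (𝒜 m))
    (hgen : ∀ (k : Type u) [Field k] [IsAlgClosed k] [Algebra A k],
      Algebra.adjoin k ((Algebra.TensorProduct.includeRight : B →ₐ[A] k ⊗[A] B) '' (𝒜 1 : Set B)) = ⊤) :
    Algebra.adjoin A (𝒜 1 : Set B) = ⊤ := by
  classical
  -- homogeneity and membership for monomials
  have hF1 : ∀ s ∈ Submonoid.closure (𝒜 1 : Set B),
      s ∈ Algebra.adjoin A (𝒜 1 : Set B) ∧ ∃ j, s ∈ 𝒜 j := by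
    intro s hs
    induction hs using Submonoid.closure_induction with
    | mem x hx => exact ⟨Algebra.subset_adjoin hx, 1, hx⟩
    | one => exact ⟨Subalgebra.one_mem _, 0, SetLike.one_mem_graded 𝒜⟩
    | mul x y _ _ hx hy =>
      obtain ⟨hx1, i, hxi⟩ := hx
      obtain ⟨hy1, j, hyj⟩ := hy
      exact ⟨Subalgebra.mul_mem _ hx1 hy1, i + j, SetLike.mul_mem_graded hxi hyj⟩
  have hm : ∀ m : ℕ, ∀ x ∈ 𝒜 m, x ∈ Algebra.adjoin A (𝒜 1 : Set B) := by
    intro m
    let N' : Submodule A ↥(𝒜 m) :=
      (Subalgebra.toSubmodule (Algebra.adjoin A (𝒜 1 : Set B))).comap (𝒜 m).subtype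
    let pm : B →ₗ[A] ↥(𝒜 m) :=
      (DirectSum.component A ℕ (fun i => ↥(𝒜 i)) m) ∘ₗ (DirectSum.decomposeLinearEquiv 𝒜).toLinearMap
    have hpm : ∀ b : B, pm b = DirectSum.decompose 𝒜 b m := fun b => rfl
    have hP1 : ∀ x : ↥(𝒜 m), pm (x : B) = x := by
      intro x
      apply Subtype.ext
      rw [hpm]
      exact DirectSum.decompose_of_mem_same 𝒜 x.2
    have hP3 : ∀ s ∈ Submonoid.closure (𝒜 1 : Set B), pm s ∈ N' := by
      intro s hs
      obtain ⟨hs1, j, hsj⟩ := hF1 s hs
      rw [Submodule.mem_comap, Submodule.subtype_apply, hpm]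
      by_cases hjm : j = m
      · subst hjm
        rw [DirectSum.decompose_of_mem_same 𝒜 hsj]
        exact hs1
      · rw [DirectSum.decompose_of_mem_ne 𝒜 hsj hjm]
        exact Submodule.zero_mem _
    have hcomp : pm ∘ₗ (𝒜 m).subtype = LinearMap.id := by
      ext x
      exact congrArg Subtype.val (hP1 x)
    haveI := hfin m
    have hQ : Subsingleton (↥(𝒜 m) ⧸ N') := by
      apply gr_subsingleton_of_geom_fibres (A := A)
      intro k _ _ _
      have hspan : ∀ y : k ⊗[A] B, (pm.baseChange k) y
          ∈ LinearMap.range ((N'.subtype).baseChange k) := by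
        intro y
        have hy : y ∈ Submodule.span k ((Submonoid.closure
            ((Algebra.TensorProduct.includeRight : B →ₐ[A] k ⊗[A] B) '' (𝒜 1 : Set B))
            : Submonoid (k ⊗[A] B)) : Set (k ⊗[A] B)) := by
          rw [← Algebra.adjoin_eq_span, hgen k]
          exact Submodule.mem_top
        rw [← MonoidHom.map_mclosure] at hy
        induction hy using Submodule.span_induction with
        | mem z hz =>
          obtain ⟨s, hs, rfl⟩ := hz
          refine ⟨(1 : k) ⊗ₜ[A] (⟨pm s, hP3 s hs⟩ : ↥N'), ?_⟩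
          rw [LinearMap.baseChange_tmul]
          rfl
        | zero => rw [map_zero]; exact Submodule.zero_mem _
        | add a b _ _ ha hb => rw [map_add]; exact Submodule.add_mem _ ha hb
        | smul c a _ ha => rw [map_smul]; exact Submodule.smul_mem _ c ha
      have hsurj : ∀ z : k ⊗[A] ↥(𝒜 m), z ∈ LinearMap.range ((N'.subtype).baseChange k) := by
        intro z
        have h1 : z = (pm.baseChange k) (((𝒜 m).subtype.baseChange k) z) := by
          rw [← LinearMap.comp_apply, ← LinearMap.baseChange_comp, hcomp, LinearMap.baseChange_id,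
            LinearMap.id_apply]
        rw [h1]
        exact hspan _
      refine ⟨fun a b => ?_⟩
      have hz : ∀ q : k ⊗[A] (↥(𝒜 m) ⧸ N'), q = 0 := by
        intro q
        induction q using TensorProduct.induction_on with
        | zero => rfl
        | tmul c x =>
          obtain ⟨x, rfl⟩ := Submodule.Quotient.mk_surjective N' x
          obtain ⟨y, hy⟩ := hsurj (c ⊗ₜ[A] x)
          have h2 : c ⊗ₜ[A] (Submodule.Quotient.mk x : ↥(𝒜 m) ⧸ N')
              = (N'.mkQ.baseChange k) (c ⊗ₜ[A] x) := by
            rw [LinearMap.baseChange_tmul]; rfl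
          have h0 : N'.mkQ ∘ₗ N'.subtype = 0 := by
            ext x; exact (Submodule.Quotient.mk_eq_zero N').mpr x.2
          rw [h2, ← hy, ← LinearMap.comp_apply, ← LinearMap.baseChange_comp, h0,
            LinearMap.baseChange_zero, LinearMap.zero_apply]
        | add x y hx hy => rw [hx, hy, add_zero]
      rw [hz a, hz b]
    have hN' : N' = ⊤ := Submodule.Quotient.subsingleton_iff.mp hQ
    intro x hx
    have h3 : (⟨x, hx⟩ : ↥(𝒜 m)) ∈ N' := by rw [hN']; exact Submodule.mem_top
    exact h3
  rw [eq_top_iff]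
  intro b _
  rw [← DirectSum.sum_support_decompose 𝒜 b]
  exact Subalgebra.sum_mem _ (fun i _ => hm i _ (DirectSum.decompose 𝒜 b i).2)

end Groth.Agent.S13623
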