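import Groth.Statements.S13628
-- import your own Groth.Agent.* helpers here
import Mathlib

set_option autoImplicit false
universe u
open CategoryTheory CategoryTheory.Limits AlgebraicGeometry Opposite
open FBase

namespace Groth.Agent.S13628

open scoped TensorProduct in
lemma exists_compositum {k1 k k' : Type u} [Field k1] [Field k] [Field k'] (a : k1 →+* k)
    (b : k1 →+* k') :
    ∃ (K : Type u) (_ : Field K) (_ : IsAlgClosed K) (ik : k →+* K) (i' : k' →+* K),
      ik.comp a = i'.comp b := by
  letI : Algebra k1 k := a.toAlgebra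
  letI : Algebra k1 k' := b.toAlgebra
  haveI : Nontrivial (k ⊗[k1] k') :=
    Algebra.TensorProduct.nontrivial_of_algebraMap_injective_of_isDomain k1 k k'
      (RingHom.injective _) (RingHom.injective _)
  obtain ⟨m, hm⟩ := Ideal.exists_maximal (k ⊗[k1] k')
  haveI := hm
  letI : Field ((k ⊗[k1] k') ⧸ m) := Ideal.Quotient.field m
  refine ⟨AlgebraicClosure ((k ⊗[k1] k') ⧸ m), inferInstance, inferInstance,
    ((algebraMap ((k ⊗[k1] k') ⧸ m) (AlgebraicClosure ((k ⊗[k1] k') ⧸ m))).comp
      (Ideal.Quotient.mk m)).comp (Algebra.TensorProduct.includeLeftRingHom),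
    ((algebraMap ((k ⊗[k1] k') ⧸ m) (AlgebraicClosure ((k ⊗[k1] k') ⧸ m))).comp
      (Ideal.Quotient.mk m)).comp
        (Algebra.TensorProduct.includeRight (R := k1) (A := k) (B := k')).toRingHom, ?_⟩
  ext x
  simp only [RingHom.comp_apply]
  congr 2
  show (algebraMap k1 k x) ⊗ₜ[k1] (1 : k') = (1 : k) ⊗ₜ[k1] (algebraMap k1 k' x)
  rw [Algebra.algebraMap_eq_smul_one, Algebra.algebraMap_eq_smul_one, TensorProduct.smul_tmul]

lemma chain (P : ∀ (k : Type u) [Field k] (Z : Scheme.{u}), (Z ⟶ Spec (CommRingCat.of k)) → Prop)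
    (hiso : ∀ (k : Type u) [Field k] (Z Z' : Scheme.{u}) (e : Z ≅ Z')
      (g : Z' ⟶ Spec (CommRingCat.of k)), P k Z' g → P k Z (e.hom ≫ g))
    (hext : ∀ (k K : Type u) [Field k] [Field K] (i : k →+* K) (Z : Scheme.{u})
      (g : Z ⟶ Spec (CommRingCat.of k)), P k Z g ↔
        P K (pullback g (Spec.map (CommRingCat.ofHom i)))
          (pullback.snd g (Spec.map (CommRingCat.ofHom i))))
    {X T X' T' : Scheme.{u}} (f : X ⟶ T) (h : T' ⟶ T) (f' : X' ⟶ T') (h' : X' ⟶ X)
    (sq : IsPullback h' f' f h)
    (k K : Type u) [Field k] [Field K] (ik : k →+* K) (σ : Spec (CommRingCat.of k) ⟶ T)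
    (σ' : Spec (CommRingCat.of K) ⟶ T')
    (hcomm : σ' ≫ h = Spec.map (CommRingCat.ofHom ik) ≫ σ)
    (hP1 : P K (pullback f' σ') (pullback.snd f' σ')) : P k (pullback f σ) (pullback.snd f σ) := by
  have bigsq : IsPullback (pullback.fst f' σ' ≫ h') (pullback.snd f' σ') f (σ' ≫ h) :=
    (IsPullback.of_hasPullback f' σ').paste_horiz sq
  have hP2 := hiso K _ _ bigsq.isoPullback.symm _ hP1
  rw [Iso.symm_hom, IsPullback.isoPullback_inv_snd] at hP2
  rw [hcomm] at hP2
  have hP3 := hiso K _ _ (pullbackLeftPullbackSndIso f σ (Spec.map (CommRingCat.ofHom ik))) _ hP2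
  rw [pullbackLeftPullbackSndIso_hom_snd] at hP3
  exact (hext k K ik _ _).2 hP3

/-- Let P be a property of schemes over fields, invariant under isomorphisms of schemes over the base
field and invariant in both directions under every field extension k → K (Z over k has P if and only
if Z ×_k Spec K over K has P). Let f : X → T be a morphism of schemes, h : T' → T a surjective
morphism of schemes and f' : X' → T' a base change of f along h. If for every algebraically closed
field k and every Spec k → T' the fibre X' ×_{T'} Spec k has P, then for every algebraically closed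
field k and every Spec k → T the fibre X ×_T Spec k has P. (Fields are taken in the universe of the
schemes. The published statement is that families of del Pezzo surfaces form a stack for the étale
topology; this row is the step of its proof that descends the condition on geometric fibres along a
surjective base change, stated for any fibre property with the invariance above.) -/
theorem result
    (P : ∀ (k : Type u) [Field k] (Z : Scheme.{u}), (Z ⟶ Spec (CommRingCat.of k)) → Prop)
    (hiso : ∀ (k : Type u) [Field k] (Z Z' : Scheme.{u}) (e : Z ≅ Z') (g : Z' ⟶ Spec (CommRingCat.of k)),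
      P k Z' g → P k Z (e.hom ≫ g))
    (hext : ∀ (k K : Type u) [Field k] [Field K] (i : k →+* K) (Z : Scheme.{u}) (g : Z ⟶ Spec (CommRingCat.of k)),
      P k Z g ↔ P K (pullback g (Spec.map (CommRingCat.ofHom i))) (pullback.snd g (Spec.map (CommRingCat.ofHom i))))
    {X T X' T' : Scheme.{u}} (f : X ⟶ T) (h : T' ⟶ T) [Surjective h] (f' : X' ⟶ T') (h' : X' ⟶ X)
    (sq : IsPullback h' f' f h)
    (H : ∀ (k : Type u) [Field k] [IsAlgClosed k] (σ' : Spec (CommRingCat.of k) ⟶ T'),
        P k (pullback f' σ') (pullback.snd f' σ'))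
    (k : Type u) [Field k] [IsAlgClosed k] (σ : Spec (CommRingCat.of k) ⟶ T) :
    P k (pullback f σ) (pullback.snd f σ) := by
  obtain ⟨⟨t, a⟩, rfl⟩ := (Scheme.SpecToEquivOfField k T).symm.surjective σ
  obtain ⟨t', rfl⟩ := h.surjective t
  obtain ⟨K, _, _, ik, i', hcompat⟩ := exists_compositum a.hom (h.residueFieldMap t').hom
  refine chain P hiso hext f h f' h' sq k K ik _
    (Spec.map (CommRingCat.ofHom i') ≫ T'.fromSpecResidueField t') ?_ (H K _)
  rw [Scheme.SpecToEquivOfField_symm_apply, Category.assoc,
    ← Scheme.Hom.SpecMap_residueFieldMap_fromSpecResidueField, ← Category.assoc, ← Category.assoc,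
    ← Spec.map_comp, ← Spec.map_comp]
  congr 2
  ext x
  exact (RingHom.congr_fun hcompat x).symm

end Groth.Agent.S13628
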