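import Groth.Statements.S13631
-- import your own Groth.Agent.* helpers here
import Mathlib

set_option autoImplicit false
universe u v w
open CAlg

namespace Groth.Agent.S13631

/-- Let k be a field, R an integral domain which is a k-algebra of infinite dimension over k, M a finite
free R-module, σ a ring automorphism of R mapping the image of k onto itself, and φ : M → M a
σ-semilinear map. If the cokernel of φ is finite-dimensional over k, in the sense that some finitely
generated k-subspace N of M satisfies M = N + φ(M), then φ is injective. -/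
theorem result
    {k : Type u} {R : Type v} {M : Type w} [Field k] [CommRing R] [IsDomain R] [Algebra k R]
    (hR : ¬ Module.Finite k R)
    [AddCommGroup M] [Module R M] [Module k M] [IsScalarTower k R M]
    [Module.Finite R M] [Module.Free R M]
    (σ : R ≃+* R)
    (hσ : ∀ x : k, ∃ y : k, σ (algebraMap k R x) = algebraMap k R y)
    (hσ' : ∀ y : k, ∃ x : k, σ (algebraMap k R x) = algebraMap k R y)
    (φ : M →ₛₗ[(σ : R →+* R)] M)
    (hcoker : ∃ N : Submodule k M, N.FG ∧ ∀ m : M, ∃ n ∈ N, ∃ m' : M, m = n + φ m') :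
    Function.Injective φ := by
  classical
  let ι := Module.Free.ChooseBasisIndex R M
  let b : Module.Basis ι R M := Module.Free.chooseBasis R M
  haveI : Fintype ι := inferInstance
  let ψ : M →ₗ[R] M := b.constr R (fun i => φ (b i))
  have hψ : ∀ y, ψ y = ∑ i, b.repr y i • φ (b i) := fun y => by
    simp only [ψ, Module.Basis.constr_apply_fintype, Module.Basis.equivFun_apply]
  have hrepr : ∀ (v : ι → R) (i : ι), b.repr (b.equivFun.symm v) i = v i := by
    intro v i
    have := congrFun (b.equivFun.apply_symm_apply v) i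
    rw [Module.Basis.equivFun_apply] at this
    exact this
  have hψS : ∀ v : ι → R, ψ (b.equivFun.symm v) = ∑ i, v i • φ (b i) := by
    intro v
    rw [hψ]
    apply Finset.sum_congr rfl
    intro i _
    rw [hrepr]
  have hφS : ∀ v : ι → R, φ (b.equivFun.symm v) = ∑ i, σ (v i) • φ (b i) := by
    intro v
    rw [Module.Basis.equivFun_symm_apply, map_sum]
    apply Finset.sum_congr rfl
    intro i _
    rw [map_smulₛₗ]
    rfl
  have hφψ : ∀ v : ι → R, φ (b.equivFun.symm v) = ψ (b.equivFun.symm (fun i => σ (v i))) := by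
    intro v
    rw [hφS, hψS]
  have hψφ : ∀ v : ι → R, ψ (b.equivFun.symm v) = φ (b.equivFun.symm (fun i => σ.symm (v i))) := by
    intro v
    rw [hφS, hψS]
    apply Finset.sum_congr rfl
    intro i _
    rw [RingEquiv.apply_symm_apply]
  have hS : ∀ x : M, x = b.equivFun.symm (b.equivFun x) := fun x =>
    (b.equivFun.symm_apply_apply x).symm
  obtain ⟨N, hNfg, hN⟩ := hcoker
  let W : Submodule k M := (LinearMap.range ψ).restrictScalars k
  have hWmem : ∀ m, m ∈ W ↔ ∃ y, ψ y = m := fun m => Iff.rfl
  have hQfin : Module.Finite k (M ⧸ W) := by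
    have hmap : Submodule.map W.mkQ N = ⊤ := by
      rw [eq_top_iff]
      rintro q -
      obtain ⟨m, rfl⟩ := W.mkQ_surjective q
      obtain ⟨n, hn, m', rfl⟩ := hN m
      refine ⟨n, hn, ?_⟩
      rw [map_add]
      have h0 : W.mkQ (φ m') = 0 := by
        rw [Submodule.mkQ_apply, Submodule.Quotient.mk_eq_zero, hWmem]
        refine ⟨b.equivFun.symm (fun i => σ (b.equivFun m' i)), ?_⟩
        rw [← hφψ, ← hS]
      rw [h0, add_zero]
    exact ⟨by rw [← hmap]; exact hNfg.map _⟩
  have htors : ∀ m : M, ∃ r : R, r ≠ 0 ∧ ∃ y, ψ y = r • m := by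
    intro m
    let g : R →ₗ[k] (M ⧸ W) := W.mkQ ∘ₗ (LinearMap.toSpanSingleton R M m).restrictScalars k
    by_contra hcon
    apply hR
    have hg : Function.Injective g := by
      rw [← LinearMap.ker_eq_bot, LinearMap.ker_eq_bot']
      intro r hr
      by_contra hr0
      apply hcon
      refine ⟨r, hr0, ?_⟩
      have h1 : r • m ∈ W := (Submodule.Quotient.mk_eq_zero W).mp hr
      exact (hWmem _).mp h1
    exact Module.Finite.of_injective g hg
  choose r hr0 c hc using fun i => htors (b i)
  obtain ⟨rr, hrrdef⟩ : ∃ rr, rr = ∏ i, r i := ⟨_, rfl⟩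
  have hrr : rr ≠ 0 := by
    rw [hrrdef]
    exact Finset.prod_ne_zero_iff.mpr (fun i _ => hr0 i)
  let χ : M →ₗ[R] M := b.constr R (fun i => (∏ j ∈ Finset.univ.erase i, r j) • c i)
  have hcomp : ψ ∘ₗ χ = rr • LinearMap.id := by
    apply b.ext
    intro i
    rw [LinearMap.comp_apply, Module.Basis.constr_basis, map_smul, hc, smul_smul,
      LinearMap.smul_apply, LinearMap.id_apply, hrrdef]
    congr 1
    rw [mul_comm]
    exact Finset.mul_prod_erase Finset.univ r (Finset.mem_univ i)
  have hdet : LinearMap.det ψ ≠ 0 := by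
    have h1 := congrArg LinearMap.det hcomp
    rw [LinearMap.det_comp, LinearMap.det_smul, LinearMap.det_id, mul_one] at h1
    intro h0
    rw [h0, zero_mul] at h1
    exact pow_ne_zero _ hrr h1.symm
  have hψinj : Function.Injective ψ := by
    rw [← LinearMap.ker_eq_bot, LinearMap.ker_eq_bot']
    intro y hy
    have h1 := LinearMap.toMatrix_mulVec_repr b b ψ y
    rw [hy, map_zero] at h1
    have h2 : (⇑(b.repr y) : ι → R) = 0 :=
      Matrix.eq_zero_of_mulVec_eq_zero (by rw [LinearMap.det_toMatrix]; exact hdet) h1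
    apply b.repr.injective
    ext i
    simpa using congrFun h2 i
  rw [injective_iff_map_eq_zero]
  intro x hx
  rw [hS x, hφψ] at hx
  have h3 := hψinj (hx.trans (map_zero ψ).symm)
  have h4 : (fun i => σ (b.equivFun x i)) = 0 :=
    b.equivFun.symm.injective (h3.trans (map_zero _).symm)
  apply b.equivFun.injective
  ext i
  have h5 := congrFun h4 i
  simpa using h5

end Groth.Agent.S13631
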