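import Groth.Statements.S13663
-- import your own Groth.Agent.* helpers here
import Mathlib

set_option autoImplicit false
universe u
open GrRing

namespace Groth.Agent.S13663

section
variable {R A : Type u} [CommRing R] [CommRing A] [Algebra R A]
  (𝒜 : ℤ → Submodule R A) [GradedAlgebra 𝒜]

private lemma proj_mul_hom {a t : A} {j : ℤ} (ht : t ∈ 𝒜 j) (n : ℤ) :
    GradedRing.proj 𝒜 n (a * t) = GradedRing.proj 𝒜 (n - j) a * t := by
  have h := DirectSum.coe_decompose_mul_add_of_right_mem 𝒜 (i := n - j) (a := a) ht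
  rw [sub_add_cancel] at h
  rw [GradedRing.proj_apply, GradedRing.proj_apply]
  exact h

private lemma Z1' {p : ℕ} (f : Fin p → A) (deg : Fin p → ℤ) (hf : ∀ i, f i ∈ 𝒜 (deg i)) (n : ℤ)
    (x : A) (hx : x ∈ 𝒜 n) (hxT : x ∈ Ideal.span (Set.range f)) :
    ∃ b : Fin p → A, (∀ i, b i ∈ 𝒜 (n - deg i)) ∧ x = ∑ i, b i * f i := by
  obtain ⟨c, hc⟩ := Ideal.mem_span_range_iff_exists_fun.mp hxT
  refine ⟨fun i => GradedRing.proj 𝒜 (n - deg i) (c i), fun i => ?_, ?_⟩
  · show GradedRing.proj 𝒜 (n - deg i) (c i) ∈ 𝒜 (n - deg i)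
    rw [GradedRing.proj_apply]
    exact SetLike.coe_mem _
  · have h1 : GradedRing.proj 𝒜 n x = x := by
      rw [GradedRing.proj_apply]
      exact DirectSum.decompose_of_mem_same 𝒜 hx
    conv_lhs => rw [← h1, ← hc, map_sum]
    apply Finset.sum_congr rfl
    intro i _
    exact proj_mul_hom 𝒜 (hf i) n

private lemma key {p : ℕ} (f : Fin p → A) (deg : Fin p → ℤ) (hdeg : ∀ i, 0 < deg i)
    (hf : ∀ i, f i ∈ 𝒜 (deg i))
    (hpos : ∀ n : ℤ, 0 < n → ∀ a ∈ 𝒜 n, a ∈ Ideal.span (Set.range f))
    (d : ℤ) (q : Fin p → ℕ) (hq : ∀ i, (q i : ℤ) * deg i = d) :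
    ∀ (k : ℕ) (e : Fin p → ℕ), (∀ i, e i < q i) → ∑ i, (q i - 1 - e i) = k →
      ∀ (n : ℤ), (∑ i, ((q i : ℤ) - 1) * deg i) < n + ∑ i, (e i : ℤ) * deg i →
      ∀ a ∈ 𝒜 n, (∏ i, f i ^ e i) * a ∈ 𝒜 d * 𝒜 (n + ∑ i, (e i : ℤ) * deg i - d) := by
  classical
  intro k
  induction k using Nat.strong_induction_on with
  | _ k ih =>
    intro e he hk n hn a ha
    have hW : ∑ i, (e i : ℤ) * deg i ≤ ∑ i, ((q i : ℤ) - 1) * deg i :=
      Finset.sum_le_sum (fun i _ => mul_le_mul_of_nonneg_right
        (by have := he i; omega) (hdeg i).le)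
    have hn0 : 0 < n := by linarith
    obtain ⟨b, hb1, hb2⟩ := Z1' 𝒜 f deg hf n a ha (hpos n hn0 a ha)
    rw [hb2, Finset.mul_sum]
    refine Submodule.sum_mem _ (fun i _ => ?_)
    by_cases hi : e i + 1 < q i
    · have he' : ∀ j, Function.update e i (e i + 1) j < q j := by
        intro j
        by_cases hj : j = i
        · subst hj
          rw [Function.update_self]
          exact hi
        · rw [Function.update_of_ne hj]
          exact he j
      have hlt : ∑ j, (q j - 1 - Function.update e i (e i + 1) j) < k := by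
        rw [← hk]
        refine Finset.sum_lt_sum (fun j _ => ?_) ⟨i, Finset.mem_univ i, ?_⟩
        · by_cases hj : j = i
          · subst hj
            rw [Function.update_self]
            omega
          · rw [Function.update_of_ne hj]
        · rw [Function.update_self]
          omega
      have hmon : ∏ j, f j ^ Function.update e i (e i + 1) j = (∏ j, f j ^ e j) * f i := by
        have h1 : ∀ j, f j ^ Function.update e i (e i + 1) j =
            f j ^ e j * (if j = i then f i else 1) := by
          intro j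
          by_cases hj : j = i
          · subst hj
            rw [Function.update_self, if_pos rfl, pow_succ]
          · rw [Function.update_of_ne hj, if_neg hj, mul_one]
        rw [Finset.prod_congr rfl (fun j _ => h1 j), Finset.prod_mul_distrib]
        congr 1
        simp
      have hwd : ∑ j, ((Function.update e i (e i + 1) j : ℕ) : ℤ) * deg j =
          (∑ j, (e j : ℤ) * deg j) + deg i := by
        have h1 : ∀ j, ((Function.update e i (e i + 1) j : ℕ) : ℤ) * deg j =
            (e j : ℤ) * deg j + (if j = i then deg i else 0) := by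
          intro j
          by_cases hj : j = i
          · subst hj
            rw [Function.update_self, if_pos rfl]
            push_cast
            ring
          · rw [Function.update_of_ne hj, if_neg hj, add_zero]
        rw [Finset.sum_congr rfl (fun j _ => h1 j), Finset.sum_add_distrib]
        congr 1
        simp
      have hn' : (∑ j, ((q j : ℤ) - 1) * deg j) <
          (n - deg i) + ∑ j, ((Function.update e i (e i + 1) j : ℕ) : ℤ) * deg j := by
        rw [hwd]
        linarith
      have h3 := ih _ hlt (Function.update e i (e i + 1)) he' rfl (n - deg i) hn' (b i) (hb1 i)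
      rw [hmon, hwd] at h3
      have e1 : (∏ j, f j ^ e j) * (b i * f i) = (∏ j, f j ^ e j) * f i * b i := by ring
      have e2 : n - deg i + ((∑ j, (e j : ℤ) * deg j) + deg i) - d =
          n + ∑ j, (e j : ℤ) * deg j - d := by ring
      rw [e2] at h3
      rw [e1]
      exact h3
    · have hi' : e i + 1 = q i := by have := he i; omega
      have hcast : (e i : ℤ) + 1 = (q i : ℤ) := by exact_mod_cast hi'
      have hmon : ∏ j, f j ^ e j = f i ^ e i * ∏ j ∈ Finset.univ.erase i, f j ^ e j :=
        (Finset.mul_prod_erase Finset.univ (fun j => f j ^ e j) (Finset.mem_univ i)).symm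
      have hwd : ∑ j, (e j : ℤ) * deg j =
          (e i : ℤ) * deg i + ∑ j ∈ Finset.univ.erase i, (e j : ℤ) * deg j :=
        (Finset.add_sum_erase Finset.univ (fun j => (e j : ℤ) * deg j) (Finset.mem_univ i)).symm
      have hrest : ∏ j ∈ Finset.univ.erase i, f j ^ e j ∈
          𝒜 (∑ j ∈ Finset.univ.erase i, (e j : ℤ) * deg j) := by
        have h := SetLike.prod_pow_mem_graded 𝒜 (F := Finset.univ.erase i) (g := f) (i := deg) e
          (fun j _ => hf j)
        have h2 : ∑ j ∈ Finset.univ.erase i, e j • deg j =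
            ∑ j ∈ Finset.univ.erase i, (e j : ℤ) * deg j :=
          Finset.sum_congr rfl (fun j _ => nsmul_eq_mul _ _)
        rwa [h2] at h
      have hpow : f i ^ (e i + 1) ∈ 𝒜 d := by
        have h := SetLike.pow_mem_graded (q i) (hf i)
        rw [nsmul_eq_mul, hq i, ← hi'] at h
        exact h
      have hdi : (e i : ℤ) * deg i = d - deg i := by
        rw [← hq i, ← hcast]
        ring
      have hrb : (∏ j ∈ Finset.univ.erase i, f j ^ e j) * b i ∈
          𝒜 (n + ∑ j, (e j : ℤ) * deg j - d) := by
        have h := SetLike.mul_mem_graded hrest (hb1 i)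
        have e3 : (∑ j ∈ Finset.univ.erase i, (e j : ℤ) * deg j) + (n - deg i) =
            n + ∑ j, (e j : ℤ) * deg j - d := by
          rw [hwd, hdi]
          ring
        rwa [e3] at h
      have e1 : (∏ j, f j ^ e j) * (b i * f i) =
          f i ^ (e i + 1) * ((∏ j ∈ Finset.univ.erase i, f j ^ e j) * b i) := by
        rw [hmon]
        ring
      rw [e1]
      exact Submodule.mul_mem_mul hpow hrb

end

/-- Let A be a commutative ring graded by the integers whose ideal generated by the homogeneous elements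
of positive degree has homogeneous generators f_1, …, f_p, of positive degrees d_1, …, d_p, and let
d be a positive integer divisible by each d_i. Then A_N = A_d · A_{N-d} for every integer N > dp -
(d_1 + ⋯ + d_p). -/
theorem result {R A : Type u} [CommRing R] [CommRing A] [Algebra R A]
    (𝒜 : ℤ → Submodule R A) [GradedAlgebra 𝒜]
    {p : ℕ} (f : Fin p → A) (deg : Fin p → ℤ) (hdeg : ∀ i, 0 < deg i) (hf : ∀ i, f i ∈ 𝒜 (deg i))
    (hgen : Ideal.span {a : A | ∃ n : ℤ, 0 < n ∧ a ∈ 𝒜 n} = Ideal.span (Set.range f))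
    (d : ℤ) (hd : 0 < d) (hdvd : ∀ i, deg i ∣ d) (N : ℤ) (hN : d * p - ∑ i, deg i < N) :
    𝒜 N = 𝒜 d * 𝒜 (N - d) := by
  classical
  apply le_antisymm
  · intro x hx
    have hcex : ∀ i, ∃ c : ℤ, d = deg i * c := fun i => hdvd i
    choose c hc using hcex
    have hcpos : ∀ i, 0 < c i := by
      intro i
      by_contra h
      have h' := not_lt.mp h
      have := hc i
      nlinarith [hdeg i]
    have hq : ∀ i, (((c i).toNat : ℕ) : ℤ) * deg i = d := by
      intro i
      rw [Int.toNat_of_nonneg (hcpos i).le, mul_comm]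
      exact (hc i).symm
    have hpos : ∀ n : ℤ, 0 < n → ∀ a ∈ 𝒜 n, a ∈ Ideal.span (Set.range f) := by
      intro n hn a ha
      rw [← hgen]
      exact Ideal.subset_span ⟨n, hn, ha⟩
    have hB : ∑ i, ((((c i).toNat : ℕ) : ℤ) - 1) * deg i = d * p - ∑ i, deg i := by
      have h1 : ∀ i, ((((c i).toNat : ℕ) : ℤ) - 1) * deg i = d - deg i := fun i => by
        rw [sub_mul, hq i, one_mul]
      rw [Finset.sum_congr rfl (fun i _ => h1 i), Finset.sum_sub_distrib, Finset.sum_const,
        Finset.card_univ, Fintype.card_fin, nsmul_eq_mul, mul_comm]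
    have hn : ∑ i, ((((c i).toNat : ℕ) : ℤ) - 1) * deg i <
        N + ∑ i, (((0 : ℕ)) : ℤ) * deg i := by
      simp only [Nat.cast_zero, zero_mul, Finset.sum_const_zero, add_zero]
      rw [hB]
      exact hN
    have h := key 𝒜 f deg hdeg hf hpos d (fun i => (c i).toNat) hq _ (fun _ => 0)
      (fun i => by have := hcpos i; omega) rfl N hn x hx
    simpa using h
  · exact Submodule.mul_le.mpr (fun a ha b hb => by
      have h := SetLike.mul_mem_graded ha hb
      rwa [add_sub_cancel] at h)

end Groth.Agent.S13663
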