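import Groth.Statements.S13664
-- import your own Groth.Agent.* helpers here
import Mathlib
import Groth.Agent.S13663

set_option autoImplicit false
universe u
open GrRing

namespace Groth.Agent.S13664

/-- Let A be a commutative ring graded by the integers whose ideal I generated by the homogeneous
elements of positive degree has homogeneous generators f_1, …, f_p, of positive degrees d_1, …, d_p,
let d be a positive integer divisible by each d_i, and let x be an element of an A-module M. The
following are equivalent: x is annihilated by some power of I; x is annihilated by (A_d)^n for all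
sufficiently large n; there is an integer s such that A_n x = 0 for all n ≥ s. (The published
statement is for a homogeneous element of a graded module; this row drops both the grading of M and
the homogeneity of x, which play no role.) -/
theorem result {R A : Type u} [CommRing R] [CommRing A] [Algebra R A]
    (𝒜 : ℤ → Submodule R A) [GradedAlgebra 𝒜]
    {p : ℕ} (f : Fin p → A) (deg : Fin p → ℤ) (hdeg : ∀ i, 0 < deg i) (hf : ∀ i, f i ∈ 𝒜 (deg i))
    (hgen : Ideal.span {a : A | ∃ n : ℤ, 0 < n ∧ a ∈ 𝒜 n} = Ideal.span (Set.range f))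
    (d : ℤ) (hd : 0 < d) (hdvd : ∀ i, deg i ∣ d)
    {M : Type u} [AddCommGroup M] [Module A M] (x : M) :
    [x ∈ GrLC.gam (Ideal.span (Set.range f)) M,
     ∃ n₀ : ℕ, ∀ n : ℕ, n₀ ≤ n → ∀ r ∈ (𝒜 d) ^ n, r • x = 0,
     ∃ s : ℤ, ∀ n : ℤ, s ≤ n → ∀ r ∈ 𝒜 n, r • x = 0].TFAE := by
  classical
  have hI : ∀ n : ℤ, 0 < n → ∀ a ∈ 𝒜 n, a ∈ Ideal.span (Set.range f) := by
    intro n hn a ha
    rw [← hgen]
    exact Ideal.subset_span ⟨n, hn, ha⟩
  tfae_have 1 → 2 := by
    intro h1
    obtain ⟨n₀, h⟩ : ∃ n : ℕ, ∀ r ∈ (Ideal.span (Set.range f)) ^ n, r • x = 0 := h1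
    refine ⟨n₀, fun n hn r hr => ?_⟩
    have hle : ∀ k : ℕ, (𝒜 d) ^ k ≤ ((Ideal.span (Set.range f)) ^ k).restrictScalars R := by
      intro k
      induction k with
      | zero =>
        intro a _
        show a ∈ (Ideal.span (Set.range f)) ^ 0
        rw [pow_zero, Ideal.one_eq_top]
        exact Submodule.mem_top
      | succ k ih =>
        rw [pow_succ']
        refine Submodule.mul_le.mpr (fun a ha b hb => ?_)
        show a * b ∈ (Ideal.span (Set.range f)) ^ (k + 1)
        rw [pow_succ']
        exact Ideal.mul_mem_mul (hI d hd a ha) (ih hb)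
    exact h r (Ideal.pow_le_pow_right hn (hle n hr))
  tfae_have 2 → 3 := by
    rintro ⟨n₀, h⟩
    have hiter : ∀ k : ℕ, ∀ N : ℤ, d * p - ∑ i, deg i + k * d < N + d →
        𝒜 N ≤ (𝒜 d) ^ k * 𝒜 (N - k * d) := by
      intro k
      induction k with
      | zero =>
        intro N _
        rw [pow_zero, one_mul]
        simp
      | succ k ih =>
        intro N hN
        have hN1 : d * p - ∑ i, deg i + ((k + 1 : ℕ) : ℤ) * d < N + d := hN
        push_cast at hN1
        have h1 : d * p - ∑ i, deg i + k * d < N + d := by linarith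
        have hN' : d * p - ∑ i, deg i < N - k * d := by linarith
        have h2 := Groth.Agent.S13663.result 𝒜 f deg hdeg hf hgen d hd hdvd (N - k * d) hN'
        have e : N - (k : ℤ) * d - d = N - ((k + 1 : ℕ) : ℤ) * d := by
          push_cast
          ring
        rw [e] at h2
        exact (ih N h1).trans (by rw [h2, pow_succ, mul_assoc])
    refine ⟨d * p - ∑ i, deg i + n₀ * d + 1, fun n hn r hr => ?_⟩
    have h3 := hiter n₀ n (by linarith) hr
    refine Submodule.mul_induction_on h3 (fun a ha b _ => ?_) (fun u v hu hv => ?_)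
    · rw [mul_comm, mul_smul, h n₀ le_rfl a ha, smul_zero]
    · rw [add_smul, hu, hv, add_zero]
  tfae_have 3 → 1 := by
    rintro ⟨s, h⟩
    have hle : ∀ n : ℕ, (Ideal.span (Set.range f)) ^ n ≤
        Ideal.span {a : A | ∃ m : ℤ, (n : ℤ) ≤ m ∧ a ∈ 𝒜 m} := by
      intro n
      induction n with
      | zero =>
        intro a _
        have h1 : (1 : A) ∈ Ideal.span {a : A | ∃ m : ℤ, ((0 : ℕ) : ℤ) ≤ m ∧ a ∈ 𝒜 m} :=
          Ideal.subset_span ⟨0, by simp, SetLike.one_mem_graded 𝒜⟩
        rw [(Ideal.eq_top_iff_one _).mpr h1]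
        exact Submodule.mem_top
      | succ n ih =>
        rw [pow_succ']
        refine (Ideal.mul_mono_right ih).trans ?_
        rw [Ideal.span_mul_span']
        refine Ideal.span_mono ?_
        rintro _ ⟨u, ⟨i, rfl⟩, v, ⟨m, hm, hv⟩, rfl⟩
        exact ⟨deg i + m, by have := hdeg i; push_cast; omega, SetLike.mul_mem_graded (hf i) hv⟩
    show ∃ n : ℕ, ∀ r ∈ (Ideal.span (Set.range f)) ^ n, r • x = 0
    refine ⟨s.toNat, fun r hr => ?_⟩
    have h2 : Ideal.span {a : A | ∃ m : ℤ, ((s.toNat : ℕ) : ℤ) ≤ m ∧ a ∈ 𝒜 m} ≤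
        LinearMap.ker (LinearMap.toSpanSingleton A M x) := by
      refine Ideal.span_le.mpr ?_
      rintro a ⟨m, hm, ha⟩
      rw [SetLike.mem_coe, LinearMap.mem_ker, LinearMap.toSpanSingleton_apply]
      exact h m (by omega) a ha
    have h3 := h2 (hle _ hr)
    rwa [LinearMap.mem_ker, LinearMap.toSpanSingleton_apply] at h3
  tfae_finish

end Groth.Agent.S13664
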