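import Groth.Statements.S13665
-- import your own Groth.Agent.* helpers here
import Mathlib

set_option autoImplicit false
universe u
open GrRing

namespace Groth.Agent.S13665

section
variable {R A : Type u} [CommRing R] [CommRing A] [Algebra R A]
  (𝒜 : ℤ → Submodule R A) [GradedAlgebra 𝒜]

private lemma proj_mul_hom {a t : A} {j : ℤ} (ht : t ∈ 𝒜 j) (n : ℤ) :
    GradedRing.proj 𝒜 n (a * t) = GradedRing.proj 𝒜 (n - j) a * t := by
  have h := DirectSum.coe_decompose_mul_add_of_right_mem 𝒜 (i := n - j) (a := a) ht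
  rw [sub_add_cancel] at h
  rw [GradedRing.proj_apply, GradedRing.proj_apply]
  exact h

private lemma Z1 (T : Finset A) (δ : A → ℤ) (hδ : ∀ t ∈ T, t ∈ 𝒜 (δ t)) (n : ℤ) (x : A)
    (hx : x ∈ 𝒜 n) (hxT : x ∈ Ideal.span (T : Set A)) :
    ∃ b : A → A, (∀ t, b t ∈ 𝒜 (n - δ t)) ∧ x = ∑ t ∈ T, b t * t := by
  obtain ⟨c, -, hc⟩ := Submodule.mem_span_finset.mp hxT
  refine ⟨fun t => GradedRing.proj 𝒜 (n - δ t) (c t), fun t => ?_, ?_⟩
  · show GradedRing.proj 𝒜 (n - δ t) (c t) ∈ 𝒜 (n - δ t)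
    rw [GradedRing.proj_apply]
    exact SetLike.coe_mem _
  · have h1 : GradedRing.proj 𝒜 n x = x := by
      rw [GradedRing.proj_apply]
      exact DirectSum.decompose_of_mem_same 𝒜 hx
    conv_lhs => rw [← h1, ← hc, map_sum]
    apply Finset.sum_congr rfl
    intro t ht
    rw [smul_eq_mul]
    exact proj_mul_hom 𝒜 (hδ t ht) n

private lemma Z2 (H2 : ∀ I : Ideal A, I.IsHomogeneous 𝒜 → I.FG) (i : ℤ) (N : Set A)
    (hN : ∀ y ∈ N, y ∈ 𝒜 i) :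
    ∃ T : Finset A, (T : Set A) ⊆ N ∧ ∀ x ∈ 𝒜 i, x ∈ Ideal.span N →
      ∃ b : A → A, (∀ t, b t ∈ 𝒜 0) ∧ x = ∑ t ∈ T, b t * t := by
  have hhom : (Ideal.span N).IsHomogeneous 𝒜 :=
    Ideal.homogeneous_span 𝒜 N (fun y hy => ⟨i, hN y hy⟩)
  obtain ⟨T, hTN, hT⟩ := (Submodule.fg_span_iff_fg_span_finset_subset N).mp (H2 _ hhom)
  refine ⟨T, hTN, fun x hx hxN => ?_⟩
  have hT' : Ideal.span N = Ideal.span (T : Set A) := hT
  have hxT : x ∈ Ideal.span (T : Set A) := by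
    rw [← hT']
    exact hxN
  obtain ⟨b, hb1, hb2⟩ := Z1 𝒜 T (fun _ => i) (fun t ht => hN t (hTN ht)) i x hx hxT
  refine ⟨b, fun t => ?_, hb2⟩
  have h := hb1 t
  rwa [sub_self] at h

private lemma noeth_zero (H2 : ∀ I : Ideal A, I.IsHomogeneous 𝒜 → I.FG) :
    IsNoetherianRing (𝒜 0) := by
  classical
  rw [isNoetherianRing_iff_ideal_fg]
  intro I₀
  obtain ⟨T, hTN, hT⟩ := Z2 𝒜 H2 0 (Subtype.val '' (I₀ : Set (𝒜 0)))
    (by rintro _ ⟨y, _, rfl⟩; exact y.2)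
  obtain ⟨T₀, hT₀, rfl⟩ := Finset.subset_set_image_iff.mp hTN
  refine ⟨T₀, le_antisymm (Ideal.span_le.mpr hT₀) ?_⟩
  intro x₀ hx₀
  obtain ⟨b, hb1, hb2⟩ := hT x₀.1 x₀.2 (Ideal.subset_span ⟨x₀, hx₀, rfl⟩)
  have hx : x₀ = ∑ t ∈ T₀, (⟨b t.1, hb1 t.1⟩ : 𝒜 0) * t := by
    apply Subtype.ext
    have e1 : ((∑ t ∈ T₀, (⟨b t.1, hb1 t.1⟩ : 𝒜 0) * t : 𝒜 0) : A) =
        ∑ t ∈ T₀, b t.1 * t.1 :=
      map_sum (algebraMap (𝒜 0) A) (fun t : 𝒜 0 => (⟨b t.1, hb1 t.1⟩ : 𝒜 0) * t) T₀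
    rw [e1, hb2, Finset.sum_image (fun a _ b _ h => Subtype.ext h)]
  rw [hx]
  exact Ideal.sum_mem _ (fun t ht => Ideal.mul_mem_left _ _ (Ideal.subset_span ht))

private lemma fin_piece (H2 : ∀ I : Ideal A, I.IsHomogeneous 𝒜 → I.FG) (i : ℤ) :
    ∃ G : Finset A, (∀ g ∈ G, g ∈ 𝒜 i) ∧ ∀ x ∈ 𝒜 i,
      ∃ b : A → A, (∀ t, b t ∈ 𝒜 0) ∧ x = ∑ t ∈ G, b t * t := by
  obtain ⟨T, hTN, hT⟩ := Z2 𝒜 H2 i (𝒜 i : Set A) (fun y hy => hy)
  exact ⟨T, fun g hg => hTN hg, fun x hx => hT x hx (Ideal.subset_span hx)⟩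

private lemma adjoin_fg (H2 : ∀ I : Ideal A, I.IsHomogeneous 𝒜 → I.FG) (ε : ℤ)
    (hε : ε * ε = 1) :
    (Algebra.adjoin (𝒜 0) {a : A | ∃ n : ℤ, 0 ≤ ε * n ∧ a ∈ 𝒜 n}).FG := by
  classical
  have hεε : ∀ n : ℤ, ε * (ε * n) = n := fun n => by rw [← mul_assoc, hε, one_mul]
  have hhom : (Ideal.span {a : A | ∃ n : ℤ, 0 < ε * n ∧ a ∈ 𝒜 n}).IsHomogeneous 𝒜 :=
    Ideal.homogeneous_span 𝒜 _ (fun y hy => ⟨hy.choose, hy.choose_spec.2⟩)
  obtain ⟨T, hTN, hT⟩ := (Submodule.fg_span_iff_fg_span_finset_subset _).mp (H2 _ hhom)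
  have hT' : Ideal.span {a : A | ∃ n : ℤ, 0 < ε * n ∧ a ∈ 𝒜 n} = Ideal.span (T : Set A) := hT
  have hTdeg : ∀ t ∈ T, ∃ n : ℤ, 0 < ε * n ∧ t ∈ 𝒜 n := fun t ht => hTN ht
  choose! δ hδ using hTdeg
  have hDle : ∀ t ∈ T, ε * δ t ≤ ∑ t ∈ T, ε * δ t := fun t ht =>
    Finset.single_le_sum (f := fun t => ε * δ t) (fun s hs => (hδ s hs).1.le) ht
  generalize (∑ t ∈ T, ε * δ t) = D at hDle
  choose G hG1 hG2 using fin_piece 𝒜 H2
  have h𝒢P : ((T ∪ (Finset.range D.toNat).biUnion (fun k => G (ε * (k : ℤ))) : Finset A) : Set A) ⊆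
      {a : A | ∃ n : ℤ, 0 ≤ ε * n ∧ a ∈ 𝒜 n} := by
    intro a ha
    rcases Finset.mem_union.mp (Finset.mem_coe.mp ha) with h | h
    · exact ⟨δ a, (hδ a h).1.le, (hδ a h).2⟩
    · obtain ⟨k, _, hk⟩ := Finset.mem_biUnion.mp h
      exact ⟨ε * (k : ℤ), by rw [hεε]; exact Int.natCast_nonneg k, hG1 _ a hk⟩
  have key : ∀ (m : ℕ) (x : A), x ∈ 𝒜 (ε * (m : ℤ)) → x ∈ Algebra.adjoin (𝒜 0)
      ((T ∪ (Finset.range D.toNat).biUnion (fun k => G (ε * (k : ℤ))) : Finset A) : Set A) := by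
    intro m
    induction m using Nat.strong_induction_on with
    | _ m ih =>
      intro x hx
      rcases Nat.eq_zero_or_pos m with rfl | hm
      · have hx0 : x ∈ 𝒜 0 := by simpa using hx
        have e0 : x = algebraMap (𝒜 0) A ⟨x, hx0⟩ := rfl
        rw [e0]
        exact Subalgebra.algebraMap_mem _ _
      by_cases hmD : (m : ℤ) < D
      · obtain ⟨b, hb1, hb2⟩ := hG2 (ε * (m : ℤ)) x hx
        rw [hb2]
        refine Subalgebra.sum_mem _ (fun t ht => ?_)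
        have ht𝒢 : t ∈ T ∪ (Finset.range D.toNat).biUnion (fun k => G (ε * (k : ℤ))) :=
          Finset.mem_union_right _
            (Finset.mem_biUnion.mpr ⟨m, Finset.mem_range.mpr (by omega), ht⟩)
        have e1 : b t * t = (⟨b t, hb1 t⟩ : 𝒜 0) • t := by
          rw [Algebra.smul_def]
          rfl
        rw [e1]
        exact Subalgebra.smul_mem _ (Algebra.subset_adjoin (Finset.mem_coe.mpr ht𝒢)) _
      · have hxJ : x ∈ Ideal.span (T : Set A) := by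
          rw [← hT']
          exact Ideal.subset_span ⟨ε * (m : ℤ), by rw [hεε]; exact_mod_cast hm, hx⟩
        obtain ⟨b, hb1, hb2⟩ := Z1 𝒜 T δ (fun t ht => (hδ t ht).2) (ε * (m : ℤ)) x hx hxJ
        rw [hb2]
        refine Subalgebra.sum_mem _ (fun t ht => ?_)
        have h1 := (hδ t ht).1
        have h2 := hDle t ht
        have hb1t := hb1 t
        obtain ⟨X, hX⟩ : ∃ X : ℤ, X = ε * δ t := ⟨_, rfl⟩
        rw [← hX] at h1 h2
        obtain ⟨m', hm'⟩ : ∃ m' : ℕ, (m' : ℤ) = (m : ℤ) - X :=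
          ⟨((m : ℤ) - X).toNat, Int.toNat_of_nonneg (by omega)⟩
        have hdeg : ε * (m : ℤ) - δ t = ε * (m' : ℤ) := by
          rw [hm', mul_sub, hX, hεε]
        rw [hdeg] at hb1t
        have hlt : m' < m := by omega
        exact Subalgebra.mul_mem _ (ih m' hlt _ hb1t)
          (Algebra.subset_adjoin (Finset.mem_coe.mpr (Finset.mem_union_left _ ht)))
  refine ⟨T ∪ (Finset.range D.toNat).biUnion (fun k => G (ε * (k : ℤ))),
    le_antisymm (Algebra.adjoin_mono h𝒢P) (Algebra.adjoin_le ?_)⟩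
  rintro a ⟨n, hn, ha⟩
  obtain ⟨m, hm⟩ : ∃ m : ℕ, (m : ℤ) = ε * n := ⟨(ε * n).toNat, Int.toNat_of_nonneg hn⟩
  apply key m
  rw [hm, hεε]
  exact ha

end

/-- For a commutative ring A graded by the integers, with degree-zero subring A_0, the following are
equivalent: A is Noetherian; each homogeneous ideal of A has a finite generating set; A_0 is
Noetherian and the subalgebras A_{≥0}, A_{≤0} are each of finite type over A_0; A_0 is Noetherian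
and A is an A_0-algebra of finite type. -/
theorem result {R A : Type u} [CommRing R] [CommRing A] [Algebra R A]
    (𝒜 : ℤ → Submodule R A) [GradedAlgebra 𝒜] :
    [IsNoetherianRing A,
     ∀ I : Ideal A, I.IsHomogeneous 𝒜 → I.FG,
     IsNoetherianRing (𝒜 0) ∧ (Algebra.adjoin (𝒜 0) {a : A | ∃ n : ℤ, 0 ≤ n ∧ a ∈ 𝒜 n}).FG ∧
       (Algebra.adjoin (𝒜 0) {a : A | ∃ n : ℤ, n ≤ 0 ∧ a ∈ 𝒜 n}).FG,
     IsNoetherianRing (𝒜 0) ∧ Algebra.FiniteType (𝒜 0) A].TFAE := by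
  tfae_have 1 → 2 := fun h I _ => (isNoetherianRing_iff_ideal_fg A).mp h I
  tfae_have 2 → 3 := by
    intro H2
    refine ⟨noeth_zero 𝒜 H2, ?_, ?_⟩
    · have e : {a : A | ∃ n : ℤ, 0 ≤ n ∧ a ∈ 𝒜 n} =
          {a : A | ∃ n : ℤ, 0 ≤ (1 : ℤ) * n ∧ a ∈ 𝒜 n} := by
        ext a
        simp
      rw [e]
      exact adjoin_fg 𝒜 H2 1 (by norm_num)
    · have e : {a : A | ∃ n : ℤ, n ≤ 0 ∧ a ∈ 𝒜 n} =
          {a : A | ∃ n : ℤ, 0 ≤ (-1 : ℤ) * n ∧ a ∈ 𝒜 n} := by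
        ext a
        simp
      rw [e]
      exact adjoin_fg 𝒜 H2 (-1) (by norm_num)
  tfae_have 3 → 4 := by
    rintro ⟨h0, ⟨S₁, hS₁⟩, ⟨S₂, hS₂⟩⟩
    classical
    refine ⟨h0, ⟨⟨S₁ ∪ S₂, ?_⟩⟩⟩
    rw [eq_top_iff]
    intro x _
    rw [← DirectSum.sum_support_decompose 𝒜 x]
    refine Subalgebra.sum_mem _ (fun i _ => ?_)
    have hxi : ((DirectSum.decompose 𝒜 x i : 𝒜 i) : A) ∈ 𝒜 i := SetLike.coe_mem _
    rcases le_total 0 i with hi | hi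
    · have h1 : ((DirectSum.decompose 𝒜 x i : 𝒜 i) : A) ∈
          Algebra.adjoin (𝒜 0) (S₁ : Set A) := by
        rw [hS₁]
        exact Algebra.subset_adjoin ⟨i, hi, hxi⟩
      exact Algebra.adjoin_mono (by rw [Finset.coe_union]; exact Set.subset_union_left) h1
    · have h1 : ((DirectSum.decompose 𝒜 x i : 𝒜 i) : A) ∈
          Algebra.adjoin (𝒜 0) (S₂ : Set A) := by
        rw [hS₂]
        exact Algebra.subset_adjoin ⟨i, hi, hxi⟩
      exact Algebra.adjoin_mono (by rw [Finset.coe_union]; exact Set.subset_union_right) h1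
  tfae_have 4 → 1 := by
    rintro ⟨h0, hft⟩
    haveI := h0
    haveI := hft
    exact Algebra.FiniteType.isNoetherianRing (𝒜 0) A
  tfae_finish

end Groth.Agent.S13665
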