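import Groth.Statements.S13682
-- import your own Groth.Agent.* helpers here
import Mathlib

set_option autoImplicit false
universe u v w
open scoped BigOperators
open BTGrp

namespace Groth.Agent.S13682

section
variable {A : Type u} [CommRing A] {r : ℕ} {M : Fin r → Type v} {N : Type w}
  [∀ i, AddCommGroup (M i)] [∀ i, Module A (M i)] [AddCommGroup N] [Module A N]

def P (i : Fin r) (u z v : ∀ k, M k) : ∀ k, M k :=
  fun k => if k < i then u k else if k = i then z k else v k

def Q (k i : Fin r) (c z' b z a : ∀ k, M k) : ∀ k, M k :=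
  fun m => if m < k then c m else if m = k then z' m else if m < i then b m
    else if m = i then z m else a m

lemma P_self (i : Fin r) (u z v : ∀ k, M k) : P i u z v i = z i := by
  simp [P]

lemma P_eq_update (i : Fin r) (u z z' v : ∀ k, M k) :
    P i u z' v = Function.update (P i u z v) i (z' i) := by
  funext k
  by_cases hk : k = i
  · subst hk; rw [Function.update_self, P_self]
  · rw [Function.update_of_ne hk]; simp [P, hk]

lemma P_congr (i : Fin r) (u z z' v : ∀ k, M k) (h : z i = z' i) : P i u z v = P i u z' v := by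
  rw [P_eq_update i u z' z v, h, ← P_eq_update i u z' z' v]

variable (φ : MultilinearMap A M N)

lemma phi_P_smul (i : Fin r) (u z v : ∀ k, M k) (c : A) :
    φ (P i u (c • z) v) = c • φ (P i u z v) := by
  rw [P_eq_update i u z (c • z) v, Pi.smul_apply, φ.map_update_smul, ← P_eq_update i u z z v]

lemma phi_P_add (i : Fin r) (u z z' v : ∀ k, M k) :
    φ (P i u (z + z') v) = φ (P i u z v) + φ (P i u z' v) := by
  rw [P_eq_update i u z (z + z') v, Pi.add_apply, φ.map_update_add, ← P_eq_update i u z z v,
    ← P_eq_update i u z z' v]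

lemma phi_P_zero (i : Fin r) (u z v : ∀ k, M k) (h : z i = 0) : φ (P i u z v) = 0 :=
  φ.map_coord_zero i (by rw [P_self, h])

lemma phi_P_sum (i : Fin r) (u v : ∀ k, M k) {J : Type} (s : Finset J) (z : J → ∀ k, M k) :
    φ (P i u (∑ j ∈ s, z j) v) = ∑ j ∈ s, φ (P i u (z j) v) := by
  classical
  induction s using Finset.induction_on with
  | empty =>
    rw [Finset.sum_empty, Finset.sum_empty]
    exact phi_P_zero φ i u 0 v rfl
  | insert a s ha ih => rw [Finset.sum_insert ha, Finset.sum_insert ha, phi_P_add, ih]

lemma phi_sub (a b : ∀ k, M k) : φ a - φ b = ∑ i, φ (P i a (a - b) b) := by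
  have h := φ.map_sub_map_piecewise a b Finset.univ
  rw [Finset.piecewise_univ] at h
  rw [h]
  refine Finset.sum_congr rfl fun i _ => congrArg φ (funext fun k => ?_)
  by_cases h1 : k < i
  · simp [P, h1]
  · by_cases h2 : k = i
    · subst h2; simp [P]
    · have h3 : ¬ (i = k) := fun h => h2 h.symm
      simp [P, h1, h2, h3]

lemma X1 (α : A) (i : Fin r) (c z' b z a : ∀ k, M k) (hcb : ∀ k, c k - b k = α • z' k) :
    φ (P i c z a) - φ (P i b z a) = ∑ k, if k < i then α • φ (Q k i c z' b z a) else 0 := by
  rw [phi_sub]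
  refine Finset.sum_congr rfl fun k _ => ?_
  by_cases hk : k < i
  · rw [if_pos hk]
    have e1 : P k (P i c z a) (P i c z a - P i b z a) (P i b z a) =
        P k (P i c z a) (α • z') (P i b z a) := by
      apply P_congr
      simp [P, hk, hcb]
    have e2 : P k (P i c z a) z' (P i b z a) = Q k i c z' b z a := by
      funext m
      by_cases h1 : m < k
      · have h2 : m < i := h1.trans hk
        simp [P, Q, h1, h2]
      · by_cases h2 : m = k
        · subst h2; simp [P, Q]
        · simp [P, Q, h1, h2]
    rw [e1, phi_P_smul, e2]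
  · rw [if_neg hk]
    apply phi_P_zero
    by_cases h2 : k = i
    · subst h2; simp [P]
    · simp [P, hk, h2]

lemma X2 (α : A) (i : Fin r) (c z' b Y a : ∀ k, M k) (hba : ∀ k, b k - a k = α • Y k) :
    φ (P i c z' b) - φ (P i c z' a) = ∑ k, if i < k then α • φ (Q i k c z' b Y a) else 0 := by
  rw [phi_sub]
  refine Finset.sum_congr rfl fun k _ => ?_
  by_cases hk : i < k
  · rw [if_pos hk]
    have hki : ¬ k < i := not_lt.2 hk.le
    have hne : k ≠ i := hk.ne'
    have e1 : P k (P i c z' b) (P i c z' b - P i c z' a) (P i c z' a) =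
        P k (P i c z' b) (α • Y) (P i c z' a) := by
      apply P_congr
      simp [P, hki, hne, hba]
    have e2 : P k (P i c z' b) Y (P i c z' a) = Q i k c z' b Y a := by
      funext m
      by_cases h1 : m < k
      · simp [P, Q, h1]
      · by_cases h2 : m = k
        · subst h2; simp [P, Q, hki, hne]
        · have h3 : ¬ m < i := fun h => h1 (h.trans hk)
          have h4 : m ≠ i := fun h => h1 (h ▸ hk)
          simp [P, Q, h1, h2, h3, h4]
    rw [e1, phi_P_smul, e2]
  · rw [if_neg hk]
    apply phi_P_zero
    by_cases h2 : k < i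
    · simp [P, h2]
    · have h3 : k = i := le_antisymm (not_lt.1 hk) (not_lt.1 h2)
      subst h3; simp [P]

lemma cocycle (α : A) (c z' b Y a : ∀ k, M k) (hcb : ∀ k, c k - b k = α • z' k)
    (hba : ∀ k, b k - a k = α • Y k) :
    (∑ i, φ (P i c Y a)) + (∑ i, φ (P i c z' a)) =
      (∑ i, φ (P i c z' b)) + (∑ i, φ (P i b Y a)) := by
  have h : (∑ i, (φ (P i c Y a) - φ (P i b Y a))) = ∑ i, (φ (P i c z' b) - φ (P i c z' a)) := by
    simp_rw [X1 φ α _ c z' b Y a hcb, X2 φ α _ c z' b Y a hba]
    exact Finset.sum_comm
  rw [Finset.sum_sub_distrib, Finset.sum_sub_distrib, sub_eq_sub_iff_add_eq_add] at h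
  exact h

end

/-- Let A be a commutative ring, α ∈ A a non-zero-divisor, M_1, …, M_r and N modules over A and φ : M_1
× ⋯ × M_r → N an A-multilinear map. Let n be a natural number and let y_{i,j} (j < n) and w_{i,j} (j
≤ n) be elements of M_i with w_{i,j+1} = w_{i,j} + α y_{i,j} for all i and all j < n. Then Σ_i
Σ_{j<n} φ(w_{1,j+1}, …, w_{i-1,j+1}, y_{i,j}, w_{i+1,j}, …, w_{r,j}) = Σ_i Σ_{j<n} φ(w_{1,n}, …,
w_{i-1,n}, y_{i,j}, w_{i+1,0}, …, w_{r,0}). (The published statement takes n ≥ 1; for n = 0 both
sides are empty sums. The families y, w are indexed by all natural numbers here and only the indices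
named above enter.) -/
theorem result {A : Type u} [CommRing A] (α : A) (hα : α ∈ nonZeroDivisors A)
    {r : ℕ} (M : Fin r → Type v) (N : Type w) [∀ i, AddCommGroup (M i)] [∀ i, Module A (M i)]
    [AddCommGroup N] [Module A N] (φ : MultilinearMap A M N) (n : ℕ)
    (y w : ∀ i, ℕ → M i) (hw : ∀ i, ∀ j < n, w i (j + 1) = w i j + α • y i j) :
    (∑ i : Fin r, ∑ j ∈ Finset.range n,
        φ (fun k => if k < i then w k (j + 1) else if k = i then y k j else w k j)) =
      ∑ i : Fin r, ∑ j ∈ Finset.range n,
        φ (fun k => if k < i then w k n else if k = i then y k j else w k 0) := by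
  classical
  have hW : ∀ m, m ≤ n → ∀ k, w k m - w k 0 =
      α • (∑ j ∈ Finset.range m, (fun k => y k j : ∀ k, M k)) k := by
    intro m
    induction m with
    | zero => intro _ k; simp
    | succ m ih =>
      intro hm k
      rw [Finset.sum_range_succ, Pi.add_apply, smul_add, ← ih (by omega) k, hw k m (by omega)]
      abel
  have claim : ∀ m, m ≤ n →
      ∑ j ∈ Finset.range m, ∑ i, φ (P i (fun k => w k (j + 1)) (fun k => y k j) (fun k => w k j)) =
      ∑ i, φ (P i (fun k => w k m) (∑ j ∈ Finset.range m, (fun k => y k j : ∀ k, M k))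
        (fun k => w k 0)) := by
    intro m
    induction m with
    | zero =>
      intro _
      rw [Finset.sum_range_zero, Finset.sum_range_zero]
      symm
      exact Finset.sum_eq_zero fun i _ => phi_P_zero φ i _ _ _ rfl
    | succ m ih =>
      intro hm
      rw [Finset.sum_range_succ, ih (by omega), Finset.sum_range_succ]
      simp_rw [phi_P_add]
      rw [Finset.sum_add_distrib]
      have hC := cocycle φ α (fun k => w k (m + 1)) (fun k => y k m) (fun k => w k m)
        (∑ j ∈ Finset.range m, (fun k => y k j : ∀ k, M k)) (fun k => w k 0)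
        (fun k => by
          show w k (m + 1) - w k m = α • y k m
          rw [hw k m (by omega)]; abel)
        (fun k => hW m (by omega) k)
      rw [hC]
      exact add_comm _ _
  have h1 := claim n le_rfl
  calc (∑ i : Fin r, ∑ j ∈ Finset.range n,
        φ (fun k => if k < i then w k (j + 1) else if k = i then y k j else w k j))
      = ∑ j ∈ Finset.range n, ∑ i,
          φ (P i (fun k => w k (j + 1)) (fun k => y k j) (fun k => w k j)) := Finset.sum_comm
    _ = ∑ i, φ (P i (fun k => w k n) (∑ j ∈ Finset.range n, (fun k => y k j : ∀ k, M k))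
          (fun k => w k 0)) := h1
    _ = ∑ i : Fin r, ∑ j ∈ Finset.range n,
          φ (fun k => if k < i then w k n else if k = i then y k j else w k 0) := by
        refine Finset.sum_congr rfl fun i _ => ?_
        exact phi_P_sum φ i _ _ _ _

end Groth.Agent.S13682
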