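import Groth.Statements.S13708
-- import your own Groth.Agent.* helpers here
import Mathlib

set_option autoImplicit false
universe u
open CategoryTheory CategoryTheory.Limits AlgebraicGeometry
open ZeroCyc

namespace Groth.Agent.S13708

/-- Let X be a scheme over S such that every finite set of points of X over a common point of S lies in
some affine open subscheme of X (the condition (AF)). Then X is separated over S. (The published
condition (AF) asks for an open U with U → S quasi-affine rather than U affine; with U affine, as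
here, the same argument applies verbatim, and the two conditions agree over a quasi-separated base.) -/
theorem result {X S : Scheme.{u}} (f : X ⟶ S) (hX : SymProd.IsAF f) :
    IsSeparated f := by
  classical
  constructor
  apply IsClosedImmersion.of_isPreimmersion
  rw [← isOpen_compl_iff, isOpen_iff_mem_nhds]
  intro z hz
  have hx : f ((pullback.snd f f) z) = f ((pullback.fst f f) z) := by
    rw [← Scheme.Hom.comp_apply, ← Scheme.Hom.comp_apply, pullback.condition]
  obtain ⟨U, hU, hUT⟩ := hX (f ((pullback.fst f f) z))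
    {(pullback.fst f f) z, (pullback.snd f f) z} (by
      intro x hx'
      simp only [Finset.mem_insert, Finset.mem_singleton] at hx'
      rcases hx' with rfl | rfl
      · rfl
      · exact hx)
  have h1 : (pullback.fst f f) z ∈ U := hUT _ (by simp)
  have h2 : (pullback.snd f f) z ∈ U := hUT _ (by simp)
  let V : (pullback f f).Opens := (pullback.fst f f) ⁻¹ᵁ U ⊓ (pullback.snd f f) ⁻¹ᵁ U
  have hzV : z ∈ V := ⟨h1, h2⟩
  haveI : IsAffine U.toScheme := hU
  have ha : Set.range (V.ι ≫ pullback.fst f f) ⊆ Set.range U.ι := by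
    rintro _ ⟨v, rfl⟩
    rw [Scheme.Opens.range_ι]
    exact v.2.1
  have hb : Set.range (V.ι ≫ pullback.snd f f) ⊆ Set.range U.ι := by
    rintro _ ⟨v, rfl⟩
    rw [Scheme.Opens.range_ι]
    exact v.2.2
  let a : V.toScheme ⟶ U.toScheme := IsOpenImmersion.lift U.ι (V.ι ≫ pullback.fst f f) ha
  let b : V.toScheme ⟶ U.toScheme := IsOpenImmersion.lift U.ι (V.ι ≫ pullback.snd f f) hb
  have haf : a ≫ U.ι = V.ι ≫ pullback.fst f f := IsOpenImmersion.lift_fac _ _ _
  have hbf : b ≫ U.ι = V.ι ≫ pullback.snd f f := IsOpenImmersion.lift_fac _ _ _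
  let e := equalizer.ι a b
  have hcond : e ≫ a = e ≫ b := equalizer.condition a b
  have hecl : IsClosed (Set.range e) := e.isClosedEmbedding.isClosed_range
  have hee : e ≫ V.ι = (e ≫ a ≫ U.ι) ≫ pullback.diagonal f := by
    apply pullback.hom_ext
    · simp [haf]
    · calc (e ≫ V.ι) ≫ pullback.snd f f = e ≫ (V.ι ≫ pullback.snd f f) := Category.assoc _ _ _
        _ = e ≫ b ≫ U.ι := by rw [hbf]
        _ = (e ≫ a) ≫ U.ι := by rw [hcond, Category.assoc]
        _ = ((e ≫ a ≫ U.ι) ≫ pullback.diagonal f) ≫ pullback.snd f f := by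
            simp
  have hDe : ∀ x : X, pullback.diagonal f x ∈ V → ∃ t, V.ι (e t) = pullback.diagonal f x := by
    intro x hxV
    let D : X.Opens := pullback.diagonal f ⁻¹ᵁ V
    let r : D.toScheme ⟶ V.toScheme := pullback.diagonal f ∣_ V
    have hr : r ≫ V.ι = D.ι ≫ pullback.diagonal f := morphismRestrict_ι _ _
    have hra : r ≫ a = r ≫ b := by
      rw [← cancel_mono U.ι, Category.assoc, Category.assoc, haf, hbf, ← Category.assoc,
        ← Category.assoc, hr]
      simp
    let l : D.toScheme ⟶ equalizer a b := equalizer.lift r hra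
    have hl : l ≫ e = r := equalizer.lift_ι r hra
    refine ⟨l ⟨x, hxV⟩, ?_⟩
    rw [← Scheme.Hom.comp_apply, ← Scheme.Hom.comp_apply, ← Category.assoc, hl, hr,
      Scheme.Hom.comp_apply]
    rfl
  refine Filter.mem_of_superset
    ((V.ι.isOpenEmbedding.isOpenMap _ hecl.isOpen_compl).mem_nhds ?_) ?_
  · refine ⟨⟨z, hzV⟩, ?_, rfl⟩
    rintro ⟨t, ht⟩
    apply hz
    refine ⟨(e ≫ a ≫ U.ι) t, ?_⟩
    rw [← Scheme.Hom.comp_apply, ← hee, Scheme.Hom.comp_apply, ht]
    rfl
  · rintro _ ⟨v, hv, rfl⟩ ⟨x, hx⟩
    apply hv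
    have hxV : pullback.diagonal f x ∈ V := by rw [hx]; exact v.2
    obtain ⟨t, ht⟩ := hDe x hxV
    refine ⟨t, ?_⟩
    apply V.ι.isOpenEmbedding.injective
    rw [ht, hx]

end Groth.Agent.S13708
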