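import Groth.Statements.S13709
-- import your own Groth.Agent.* helpers here
import Mathlib

set_option autoImplicit false
universe u
open CategoryTheory CategoryTheory.Limits AlgebraicGeometry
open ZeroCyc

namespace Groth.Agent.S13709

/-- Let f : X → Y be a quasi-compact morphism of schemes and g : Y' → Y a faithfully flat morphism, i.e.
flat and surjective, with no quasi-compactness assumption on g. If the base change X ×_Y Y' → Y' of
f along g is a homeomorphism on underlying spaces, then so is f. -/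
theorem result {X Y Y' : Scheme.{u}} (f : X ⟶ Y) (g : Y' ⟶ Y)
    [Flat g] [Surjective g] [QuasiCompact f] (h : IsHomeomorph (pullback.snd f g).base) :
    IsHomeomorph f.base := by
  have hcond : ∀ z : ↑(pullback f g),
      f.base ((pullback.fst f g).base z) = g.base ((pullback.snd f g).base z) := by
    intro z
    have h1 := congrArg (fun φ : pullback f g ⟶ Y => φ.base z)
      (pullback.condition (f := f) (g := g))
    exact h1
  have hgs : ∀ y : ↑Y, ∃ y' : ↑Y', g.base y' = y := fun y => g.surjective y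
  have hex : ∀ (x : ↑X) (y' : ↑Y'), f.base x = g.base y' →
      ∃ z : ↑(pullback f g), (pullback.fst f g).base z = x ∧ (pullback.snd f g).base z = y' :=
    fun x y' hxy => Scheme.Pullback.exists_preimage_pullback (f := f) (g := g) x y' hxy
  have hsurj : Function.Surjective f.base := by
    intro y
    obtain ⟨y', hy'⟩ := hgs y
    obtain ⟨z, hz⟩ := h.surjective y'
    refine ⟨(pullback.fst f g).base z, ?_⟩
    rw [hcond, hz, hy']
  have hinj : Function.Injective f.base := by
    intro x₁ x₂ hx
    obtain ⟨y', hy'⟩ := hgs (f.base x₁)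
    obtain ⟨z₁, hz₁, hz₁'⟩ := hex x₁ y' hy'.symm
    obtain ⟨z₂, hz₂, hz₂'⟩ := hex x₂ y' (hx ▸ hy'.symm)
    have h12 : z₁ = z₂ := h.injective (hz₁'.trans hz₂'.symm)
    rw [← hz₁, ← hz₂, h12]
  have hgen : ∀ (a : ↑Y') (b : ↑Y), b ⤳ g.base a → ∃ a' : ↑Y', a' ⤳ a ∧ g.base a' = b :=
    fun a b hab => (Flat.generalizingMap g) hab
  have hcl : ∀ (a : ↑(pullback f g)) (b : ↑Y'), (pullback.snd f g).base a ⤳ b →
      ∃ a' : ↑(pullback f g), a ⤳ a' ∧ (pullback.snd f g).base a' = b :=
    fun a b hab => (h.isClosedMap.specializingMap) hab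
  have hspec : SpecializingMap f.base := by
    intro x y₀ hxy
    have hxy' : f.base x ⤳ y₀ := hxy
    obtain ⟨y₀', hy₀'⟩ := hgs y₀
    obtain ⟨y', hy'1, hy'2⟩ := hgen y₀' (f.base x) (by rw [hy₀']; exact hxy')
    obtain ⟨z, hz, hz'⟩ := hex x y' hy'2.symm
    obtain ⟨z₀, hz₀, hz₀'⟩ := hcl z y₀' (by rw [hz']; exact hy'1)
    refine ⟨(pullback.fst f g).base z₀, ?_, ?_⟩
    · show x ⤳ (pullback.fst f g).base z₀
      rw [← hz]
      exact hz₀.map (pullback.fst f g).continuous
    · rw [hcond, hz₀', hy₀']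
  rw [isHomeomorph_iff_continuous_isClosedMap_bijective]
  exact ⟨f.continuous, (isClosedMap_iff_specializingMap f).mpr hspec, hinj, hsurj⟩

end Groth.Agent.S13709
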