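import Groth.Statements.S13710
import Mathlib

set_option autoImplicit false
universe u
open CategoryTheory CategoryTheory.Limits AlgebraicGeometry
open ZeroCyc

namespace Groth.Agent.S13710

open TensorProduct in
lemma flat_of_ff (A B C : Type*) [CommRing A] [CommRing B] [CommRing C] [Algebra A B]
    [Algebra B C] [Algebra A C] [IsScalarTower A B C] [Module.FaithfullyFlat B C]
    [Module.Flat A C] : Module.Flat A B := by
  rw [Module.Flat.iff_lTensor_preserves_injective_linearMap]
  intro N P _ _ _ _ f hf
  have h1 : Function.Injective (f.baseChange B) → Function.Injective (f.lTensor B) := fun h => h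
  apply h1
  rw [← Module.FaithfullyFlat.lTensor_injective_iff_injective B C]
  have h2 := Module.Flat.lTensor_preserves_injective_linearMap (M := C) f hf
  have key : ∀ x, (TensorProduct.AlgebraTensorModule.cancelBaseChange A B B C P)
      (LinearMap.lTensor C (f.baseChange B) x) =
      f.lTensor C (TensorProduct.AlgebraTensorModule.cancelBaseChange A B B C N x) := by
    intro x
    induction x using TensorProduct.induction_on with
    | zero => simp
    | tmul c y =>
      induction y using TensorProduct.induction_on with
      | zero => simp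
      | tmul b n => simp
      | add a b ha hb => simp only [TensorProduct.tmul_add, map_add, ha, hb]
    | add a b ha hb => simp only [map_add, ha, hb]
  intro x y hxy
  apply (TensorProduct.AlgebraTensorModule.cancelBaseChange A B B C N).injective
  apply h2
  rw [← key, ← key, hxy]

lemma flat_of_comp_ff {A B C : Type u} [CommRing A] [CommRing B] [CommRing C] [IsLocalRing B]
    [IsLocalRing C] (φ : A →+* B) (ψ : B →+* C) [IsLocalHom ψ] (hψ : ψ.Flat)
    (h : (ψ.comp φ).Flat) : φ.Flat := by
  letI := φ.toAlgebra
  letI := ψ.toAlgebra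
  letI := (ψ.comp φ).toAlgebra
  haveI : IsScalarTower A B C := IsScalarTower.of_algebraMap_eq (fun x => rfl)
  haveI : Module.Flat B C := hψ
  haveI : Module.Flat A C := h
  haveI : IsLocalHom (algebraMap B C) := ‹IsLocalHom ψ›
  haveI : Module.FaithfullyFlat B C := Module.FaithfullyFlat.of_flat_of_isLocalHom
  exact flat_of_ff A B C

lemma flat_stalk_of_square {X Y Y' P : Scheme.{u}} (f : X ⟶ Y) (g : Y' ⟶ Y) (p : P ⟶ X)
    (q : P ⟶ Y') (hpq : p ≫ f = q ≫ g) [Flat p] [Flat g] [IsIso q] (z : P) :
    (f.stalkMap (p z)).hom.Flat := by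
  have h := Scheme.Hom.stalkMap_congr_hom (p ≫ f) (q ≫ g) hpq z
  rw [Scheme.Hom.stalkMap_comp, Scheme.Hom.stalkMap_comp] at h
  have hp : (p.stalkMap z).hom.Flat := Flat.stalkMap p z
  have hg : (g.stalkMap (q z)).hom.Flat := Flat.stalkMap g (q z)
  have hq : (q.stalkMap z).hom.Flat := Flat.stalkMap q z
  obtain ⟨e, he, h'⟩ : ∃ e : Y.presheaf.stalk (f (p z)) ⟶ Y.presheaf.stalk (g (q z)), IsIso e ∧
      f.stalkMap (p z) ≫ p.stalkMap z = e ≫ g.stalkMap (q z) ≫ q.stalkMap z :=
    ⟨_, inferInstance, h⟩
  refine flat_of_comp_ff (f.stalkMap (p z)).hom (p.stalkMap z).hom hp ?_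
  rw [← CommRingCat.hom_comp, h', CommRingCat.hom_comp, CommRingCat.hom_comp]
  refine RingHom.Flat.comp ?_ (RingHom.Flat.comp hg hq)
  exact RingHom.Flat.of_bijective (ConcreteCategory.bijective_of_isIso e)

/-- Let f : X → Y be a morphism of schemes and g : Y' → Y a faithfully flat morphism (flat and
surjective, not assumed quasi-compact). Then f is an isomorphism exactly when it is quasi-compact
and its base change X ×_Y Y' → Y' along g is an isomorphism. -/
theorem result {X Y Y' : Scheme.{u}} (f : X ⟶ Y) (g : Y' ⟶ Y)
    [Flat g] [Surjective g] :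
    IsIso f ↔ QuasiCompact f ∧ IsIso (pullback.snd f g) := by
  constructor
  · intro h
    exact ⟨inferInstance, inferInstance⟩
  · rintro ⟨hqc, hiso⟩
    have hsurj : Surjective f := by
      refine ⟨fun y => ?_⟩
      obtain ⟨y', hy'⟩ := g.surjective y
      obtain ⟨z, hz⟩ := (pullback.snd f g).surjective y'
      refine ⟨pullback.fst f g z, ?_⟩
      have h2 := congrArg (fun k : pullback f g ⟶ Y => k z) (pullback.condition (f := f) (g := g))
      simp only [Scheme.Hom.comp_apply] at h2
      rw [h2, hz, hy']
    have hmono : Mono f := by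
      refine ⟨fun {T} a b hab => ?_⟩
      have hepi : Epi (pullback.fst (a ≫ f) g) := Flat.epi_of_flat_of_surjective _
      rw [← cancel_epi (pullback.fst (a ≫ f) g)]
      have h1 : pullback.lift (pullback.fst (a ≫ f) g ≫ a) (pullback.snd (a ≫ f) g)
          (by rw [Category.assoc, pullback.condition]) =
          pullback.lift (pullback.fst (a ≫ f) g ≫ b) (pullback.snd (a ≫ f) g)
          (by rw [Category.assoc, ← hab, pullback.condition]) := by
        rw [← cancel_mono (pullback.snd f g)]
        rw [pullback.lift_snd, pullback.lift_snd]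
      calc pullback.fst (a ≫ f) g ≫ a = _ ≫ pullback.fst f g := (pullback.lift_fst _ _ _).symm
        _ = _ ≫ pullback.fst f g := by rw [h1]
        _ = pullback.fst (a ≫ f) g ≫ b := pullback.lift_fst _ _ _
    have hflat : Flat f := by
      rw [Flat.iff_flat_stalkMap]
      intro x
      obtain ⟨y', hy'⟩ := g.surjective (f x)
      obtain ⟨z, hz1, hz2⟩ := Scheme.Pullback.exists_preimage_pullback (f := f) (g := g) x y' hy'.symm
      have h3 := flat_stalk_of_square f g (pullback.fst f g) (pullback.snd f g) pullback.condition z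
      exact Eq.subst (motive := fun y => (f.stalkMap y).hom.Flat) hz1 h3
    have hQ : (@Surjective ⊓ @Flat ⊓ @QuasiCompact : MorphismProperty Scheme.{u}) f :=
      ⟨⟨hsurj, hflat⟩, hqc⟩
    have h5 : (MorphismProperty.isomorphisms Scheme.{u}) (pullback.fst f f) := by
      rw [MorphismProperty.isomorphisms.iff]
      infer_instance
    have h6 := MorphismProperty.of_pullback_fst_of_descendsAlong
      (P := MorphismProperty.isomorphisms Scheme.{u})
      (Q := (@Surjective ⊓ @Flat ⊓ @QuasiCompact : MorphismProperty Scheme.{u}))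
      (f := f) (g := f) hQ h5
    exact (MorphismProperty.isomorphisms.iff _).mp h6

end Groth.Agent.S13710
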