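import Groth.Statements.S13726
-- import your own Groth.Agent.* helpers here
import Mathlib

set_option autoImplicit false
universe u
open scoped TensorProduct
open ZeroCyc

namespace Groth.Agent.S13726

open MvPolynomial

lemma add_pow_p {Q T : Type*} [CommRing Q] [CommSemiring T] [Algebra Q T] (p : ℕ) [Fact p.Prime]
    [CharP Q p] (x y : T) : (x + y) ^ p = x ^ p + y ^ p := by
  rcases subsingleton_or_nontrivial T with hs | hn
  · exact Subsingleton.elim _ _
  · have hp0 : ((p : ℕ) : T) = 0 := by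
      have h1 : ((p : ℕ) : Q) = 0 := CharP.cast_eq_zero Q p
      rw [← map_natCast (algebraMap Q T), h1, map_zero]
    obtain ⟨q, hq⟩ := CharP.exists T
    have hqp : q ∣ p := (CharP.cast_eq_zero_iff T q p).1 hp0
    rcases (Nat.dvd_prime (Fact.out : p.Prime)).1 hqp with rfl | rfl
    · exfalso
      have h2 : ((1 : ℕ) : T) = 0 := (CharP.cast_eq_zero_iff T 1 1).2 (dvd_refl 1)
      rw [Nat.cast_one] at h2
      exact one_ne_zero h2
    · rw [add_pow_char]

lemma mem_span_X_of_constantCoeff {k : Type*} [Field k] (g : MvPolynomial ℕ k)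
    (hg : constantCoeff g = 0) :
    g ∈ Ideal.span (Set.range (X : ℕ → MvPolynomial ℕ k)) := by
  rw [← Set.image_univ, mem_ideal_span_X_image]
  intro m hm
  have hm0 : m ≠ 0 := by
    rintro rfl
    rw [mem_support_iff] at hm
    exact hm hg
  obtain ⟨i, hi⟩ := DFunLike.ne_iff.1 hm0
  exact ⟨i, Set.mem_univ i, by simpa using hi⟩

lemma constantCoeff_of_mem_span_X {k : Type*} [Field k] (g : MvPolynomial ℕ k)
    (hg : g ∈ Ideal.span (Set.range (X : ℕ → MvPolynomial ℕ k))) : constantCoeff g = 0 := by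
  have h1 : Ideal.span (Set.range (X : ℕ → MvPolynomial ℕ k)) ≤
      RingHom.ker (constantCoeff : MvPolynomial ℕ k →+* k) := by
    rw [Ideal.span_le]
    rintro _ ⟨i, rfl⟩
    simp [RingHom.mem_ker]
  exact h1 hg

lemma root_ne_zero' {k : Type*} [Field k] (p : ℕ) (hp : p.Prime) :
    AdjoinRoot.root ((Polynomial.X : Polynomial k) ^ p) ≠ 0 := by
  intro h2
  rw [← AdjoinRoot.mk_X, AdjoinRoot.mk_eq_zero] at h2
  have h3 := Polynomial.natDegree_le_of_dvd h2 Polynomial.X_ne_zero
  rw [Polynomial.natDegree_X_pow, Polynomial.natDegree_X] at h3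
  exact absurd hp.one_lt (not_lt.2 h3)

lemma root_pow_zero {k : Type*} [Field k] (p : ℕ) :
    (AdjoinRoot.root ((Polynomial.X : Polynomial k) ^ p)) ^ p = 0 := by
  rw [← AdjoinRoot.mk_X, ← map_pow, AdjoinRoot.mk_self]

open scoped TensorProduct in
lemma pow_eq_zero_of_mem_ker {A B : Type u} [CommRing A] [CommRing B] [Algebra A B] (p : ℕ)
    (hp : p ≠ 0) (b : B) (hb : b ∈ PolLaw.ker (PolLaw.MulLaw.pow A B p).law) : b ^ p = 0 := by
  have h : ((0 : A ⊗[A] B) + 1 * ((1 : A) ⊗ₜ[A] b)) ^ p = (0 : A ⊗[A] B) ^ p := hb A 0 1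
  rw [zero_add, one_mul, zero_pow hp, Algebra.TensorProduct.tmul_pow, one_pow] at h
  have h2 := congrArg (TensorProduct.lid A B) h
  rw [TensorProduct.lid_tmul, map_zero, one_smul] at h2
  exact h2

open scoped TensorProduct in
lemma mem_ker_of_pow_eq_zero {A B : Type u} [CommRing A] [CommRing B] [Algebra A B] (p : ℕ)
    [Fact p.Prime] [CharP A p] (b : B) (hb : b ^ p = 0) :
    b ∈ PolLaw.ker (PolLaw.MulLaw.pow A B p).law := by
  intro S _ _ x w
  change (x + w * _) ^ p = x ^ p
  rw [add_pow_p (Q := A) p, mul_pow, Algebra.TensorProduct.tmul_pow, hb,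
    TensorProduct.tmul_zero, mul_zero, add_zero]

open scoped TensorProduct in
lemma main_aux {k : Type u} [Field k] (p : ℕ) [Fact p.Prime] [CharP k p]
    (I : Ideal (MvPolynomial ℕ k))
    (hI : I = Ideal.span (Set.range fun i : ℕ => (X i : MvPolynomial ℕ k) ^ p)) :
    PolLaw.ker (PolLaw.MulLaw.pow (MvPolynomial ℕ k ⧸ I) (MvPolynomial ℕ k ⧸ I) p).law =
      (Ideal.span (Set.range fun i : ℕ => (X i : MvPolynomial ℕ k))).map (Ideal.Quotient.mk I) ∧
    ¬ (PolLaw.ker (PolLaw.MulLaw.pow (MvPolynomial ℕ k ⧸ I) (MvPolynomial ℕ k ⧸ I) p).law).FG := by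
  have hp : p.Prime := Fact.out
  have hIcc : ∀ a ∈ I, (constantCoeff : MvPolynomial ℕ k →+* k) a = 0 := by
    have h1 : I ≤ RingHom.ker (constantCoeff : MvPolynomial ℕ k →+* k) := by
      rw [hI, Ideal.span_le]
      rintro _ ⟨i, rfl⟩
      simp [RingHom.mem_ker, hp.ne_zero]
    exact fun a ha => h1 ha
  let eps : MvPolynomial ℕ k ⧸ I →+* k := Ideal.Quotient.lift I constantCoeff hIcc
  haveI : Nontrivial (MvPolynomial ℕ k ⧸ I) := RingHom.domain_nontrivial eps
  haveI : CharP (MvPolynomial ℕ k ⧸ I) p :=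
    charP_of_injective_algebraMap (algebraMap k (MvPolynomial ℕ k ⧸ I)).injective p
  have hXp : ∀ i : ℕ, (Ideal.Quotient.mk I (X i)) ^ p = 0 := by
    intro i
    rw [← map_pow, Ideal.Quotient.eq_zero_iff_mem, hI]
    exact Ideal.subset_span ⟨i, rfl⟩
  have hpow_mem : ∀ b : MvPolynomial ℕ k ⧸ I,
      b ∈ PolLaw.ker (PolLaw.MulLaw.pow (MvPolynomial ℕ k ⧸ I) (MvPolynomial ℕ k ⧸ I) p).law →
      b ^ p = 0 := fun b hb => pow_eq_zero_of_mem_ker p hp.ne_zero b hb
  have hX_mem : ∀ i : ℕ, Ideal.Quotient.mk I (X i) ∈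
      PolLaw.ker (PolLaw.MulLaw.pow (MvPolynomial ℕ k ⧸ I) (MvPolynomial ℕ k ⧸ I) p).law :=
    fun i => mem_ker_of_pow_eq_zero p _ (hXp i)
  have hker : PolLaw.ker (PolLaw.MulLaw.pow (MvPolynomial ℕ k ⧸ I) (MvPolynomial ℕ k ⧸ I) p).law =
      (Ideal.span (Set.range fun i : ℕ => (X i : MvPolynomial ℕ k))).map (Ideal.Quotient.mk I) := by
    apply le_antisymm
    · intro b hb
      obtain ⟨g, rfl⟩ := Ideal.Quotient.mk_surjective b
      have h1 := hpow_mem _ hb
      have h2 : constantCoeff g = 0 := by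
        have h3 := congrArg eps h1
        rw [map_pow, map_zero] at h3
        exact (pow_eq_zero_iff hp.ne_zero).1 h3
      exact Ideal.mem_map_of_mem _ (mem_span_X_of_constantCoeff g h2)
    · rw [Ideal.map_le_iff_le_comap, Ideal.span_le]
      rintro _ ⟨i, rfl⟩
      exact hX_mem i
  refine ⟨hker, ?_⟩
  rw [hker]
  rintro ⟨s, hs⟩
  have hy : ∀ y ∈ s, ∃ g : MvPolynomial ℕ k,
      g ∈ Ideal.span (Set.range fun i : ℕ => (X i : MvPolynomial ℕ k)) ∧
      Ideal.Quotient.mk I g = y := fun y hy =>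
    (Ideal.mem_map_iff_of_surjective _ Ideal.Quotient.mk_surjective).1
      (hs ▸ Ideal.subset_span hy)
  choose! g hg1 hg2 using hy
  obtain ⟨N, hN⟩ := Infinite.exists_notMem_finset (s.biUnion fun y => (g y).vars)
  let f : ℕ → AdjoinRoot ((Polynomial.X : Polynomial k) ^ p) :=
    fun i => if i = N then AdjoinRoot.root ((Polynomial.X : Polynomial k) ^ p) else 0
  have hψI : ∀ a ∈ I, (aeval f : MvPolynomial ℕ k →ₐ[k] _).toRingHom a = 0 := by
    have h1 : I ≤ RingHom.ker (aeval f : MvPolynomial ℕ k →ₐ[k] _).toRingHom := by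
      rw [hI, Ideal.span_le]
      rintro _ ⟨i, rfl⟩
      rw [SetLike.mem_coe, RingHom.mem_ker]
      change aeval f (X i ^ p) = 0
      rw [map_pow, aeval_X]
      by_cases hi : i = N
      · simp only [f, if_pos hi]; exact root_pow_zero p
      · simp only [f, if_neg hi]; exact zero_pow hp.ne_zero
    exact fun a ha => h1 ha
  let ψ' : MvPolynomial ℕ k ⧸ I →+* AdjoinRoot ((Polynomial.X : Polynomial k) ^ p) :=
    Ideal.Quotient.lift I (aeval f : MvPolynomial ℕ k →ₐ[k] _).toRingHom hψI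
  have h0 : ∀ y ∈ s, ψ' y = 0 := by
    intro y hy
    rw [← hg2 y hy]
    change aeval f (g y) = 0
    rw [aeval_eq_constantCoeff_of_vars (fun i hi => if_neg (by
      rintro rfl
      exact hN (Finset.mem_biUnion.2 ⟨y, hy, hi⟩))),
      constantCoeff_of_mem_span_X (g y) (hg1 y hy), map_zero]
  have h1 : (Ideal.span (Set.range fun i : ℕ => (X i : MvPolynomial ℕ k))).map
      (Ideal.Quotient.mk I) ≤ RingHom.ker ψ' := by
    rw [← hs, Ideal.span_le]
    intro y hy
    exact h0 y hy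
  have h2 : ψ' (Ideal.Quotient.mk I (X N)) =
      AdjoinRoot.root ((Polynomial.X : Polynomial k) ^ p) := by
    change aeval f (X N) = _
    rw [aeval_X]
    simp [f]
  have h3 : Ideal.Quotient.mk I (X N) ∈ (Ideal.span (Set.range fun i : ℕ =>
      (X i : MvPolynomial ℕ k))).map (Ideal.Quotient.mk I) :=
    Ideal.mem_map_of_mem _ (Ideal.subset_span ⟨N, rfl⟩)
  have h4 := h1 h3
  rw [RingHom.mem_ker, h2] at h4
  exact root_ne_zero' p hp h4

/-- Let k be a field of characteristic p > 0 and A = k[t_i : i ∈ ℕ]/(t_i^p : i ∈ ℕ). The law x ↦ x^p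
from A to A is multiplicative and homogeneous of degree p over A; its kernel is the ideal generated
by the classes of the variables t_i, and this ideal is not finitely generated. Hence the image of a
family of zero-cycles need not be of finite presentation over the base even when X → S is. -/
theorem result {k : Type u} [Field k] (p : ℕ) [Fact p.Prime] [CharP k p] :
    PolLaw.ker (PolLaw.MulLaw.pow
        (MvPolynomial ℕ k ⧸ Ideal.span (Set.range fun i : ℕ => (MvPolynomial.X i : MvPolynomial ℕ k) ^ p))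
        (MvPolynomial ℕ k ⧸ Ideal.span (Set.range fun i : ℕ => (MvPolynomial.X i : MvPolynomial ℕ k) ^ p)) p).law =
      (Ideal.span (Set.range fun i : ℕ => (MvPolynomial.X i : MvPolynomial ℕ k))).map
        (Ideal.Quotient.mk (Ideal.span (Set.range fun i : ℕ => (MvPolynomial.X i : MvPolynomial ℕ k) ^ p))) ∧
    ¬ (PolLaw.ker (PolLaw.MulLaw.pow
        (MvPolynomial ℕ k ⧸ Ideal.span (Set.range fun i : ℕ => (MvPolynomial.X i : MvPolynomial ℕ k) ^ p))
        (MvPolynomial ℕ k ⧸ Ideal.span (Set.range fun i : ℕ => (MvPolynomial.X i : MvPolynomial ℕ k) ^ p)) p).law).FG := by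
  exact main_aux p _ rfl

end Groth.Agent.S13726
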