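import Groth.Statements.S13757
-- import your own Groth.Agent.* helpers here
import Mathlib

set_option autoImplicit false
universe u
open LabGraph

namespace Groth.Agent.S13757

/-- Let G be a finite connected multigraph (loops and multiple edges allowed) with vertex set V, edge
set E, endpoint map E → V × V and a labelling of the edges by positive integers l. A vertex
labelling φ : V → ℤ is Cartier when l(e) divides the difference of the values of φ at the two
endpoints of every edge e; its multidegree is the vertex labelling whose value at v is the sum, over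
the edge-ends at v, of (value of φ at the other endpoint − φ(v)) / l(e). Then the Cartier vertex
labellings of multidegree zero are exactly the constant ones: the kernel of the multidegree operator
on Cartier labellings is ℤ, embedded as the constants. -/
theorem result
    {V E : Type u} [Fintype V] [Fintype E] [DecidableEq V] [DecidableEq E]
    (ends : E → V × V) (l : E → ℕ) (hl : ∀ e, 0 < l e) (hconn : LabGraph.Connected ends)
    (φ : V → ℤ) (hφ : LabGraph.IsCartier ends l φ) :
    (∀ v : V, LabGraph.mdeg ends l φ v = 0) ↔ ∀ v w : V, φ v = φ w := by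
  constructor
  · intro h
    have hk : ∀ e, φ (ends e).1 - φ (ends e).2
        = (l e : ℤ) * ((φ (ends e).1 - φ (ends e).2) / (l e : ℤ)) :=
      fun e => (Int.mul_ediv_cancel' (hφ e)).symm
    have hk' : ∀ e, (φ (ends e).2 - φ (ends e).1) / (l e : ℤ)
        = -((φ (ends e).1 - φ (ends e).2) / (l e : ℤ)) := by
      intro e
      have : φ (ends e).2 - φ (ends e).1 = -(φ (ends e).1 - φ (ends e).2) := by ring
      rw [this, Int.neg_ediv_of_dvd (hφ e)]
    have hsum : ∑ v, φ v * LabGraph.mdeg ends l φ v
        = -∑ e, (l e : ℤ) * ((φ (ends e).1 - φ (ends e).2) / (l e : ℤ)) ^ 2 := by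
      unfold LabGraph.mdeg
      simp_rw [Finset.mul_sum]
      rw [Finset.sum_comm, ← Finset.sum_neg_distrib]
      apply Finset.sum_congr rfl
      intro e _
      simp_rw [mul_add, Finset.sum_add_distrib, mul_ite, mul_zero]
      rw [Finset.sum_ite_eq, Finset.sum_ite_eq]
      simp only [Finset.mem_univ, if_true]
      rw [hk' e]
      have hke := hk e
      generalize (φ (ends e).1 - φ (ends e).2) / (l e : ℤ) = k at hke ⊢
      linear_combination (-k) * hke
    have hzero : ∑ e, (l e : ℤ) * ((φ (ends e).1 - φ (ends e).2) / (l e : ℤ)) ^ 2 = 0 := by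
      rw [← neg_eq_zero, ← hsum]
      apply Finset.sum_eq_zero
      intro v _
      rw [h v, mul_zero]
    have hterm : ∀ e, (l e : ℤ) * ((φ (ends e).1 - φ (ends e).2) / (l e : ℤ)) ^ 2 = 0 := by
      intro e
      exact (Finset.sum_eq_zero_iff_of_nonneg (fun e _ => by positivity)).1 hzero e
        (Finset.mem_univ e)
    have hedge : ∀ e, φ (ends e).1 = φ (ends e).2 := by
      intro e
      have h1 := hterm e
      have hl' : (l e : ℤ) ≠ 0 := by exact_mod_cast (hl e).ne'
      have h2 : (φ (ends e).1 - φ (ends e).2) / (l e : ℤ) = 0 := by
        rcases mul_eq_zero.1 h1 with h3 | h3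
        · exact absurd h3 hl'
        · exact pow_eq_zero_iff (two_ne_zero) |>.1 h3
      have h4 := hk e
      rw [h2, mul_zero] at h4
      exact sub_eq_zero.1 h4
    have hadj : ∀ v w, LabGraph.Adj ends v w → φ v = φ w := by
      rintro v w ⟨e, he | he⟩
      · have h5 := hedge e
        rw [he] at h5
        exact h5
      · have h5 := hedge e
        rw [he] at h5
        exact h5.symm
    intro v w
    have hvw := hconn.2 v w
    induction hvw with
    | refl => rfl
    | tail _ hbc ih => exact ih.trans (hadj _ _ hbc)
  · intro h v
    unfold LabGraph.mdeg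
    apply Finset.sum_eq_zero
    intro e _
    rw [h (ends e).2 (ends e).1]
    simp

end Groth.Agent.S13757
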