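import Groth.Statements.S13771
-- import your own Groth.Agent.* helpers here
import Mathlib

set_option autoImplicit false
universe u v w
open PLie

namespace Groth.Agent.S13771


theorem bracketWord_map {R : Type*} [CommRing R] {L₁ L₂ : Type*} [LieRing L₁] [LieAlgebra R L₁]
    [LieRing L₂] [LieAlgebra R L₂] (g : L₁ →ₗ⁅R⁆ L₂) {ι : Type*} (x : ι → L₁) (x₁ : L₁)
    (w : List ι) :
    g (PLie.bracketWord x x₁ w) = PLie.bracketWord (fun i => g (x i)) (g x₁) w := by
  induction w with
  | nil => rfl
  | cons i w ih => simp only [PLie.bracketWord_cons, LieHom.map_lie, ih]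

theorem pair_map {L₁ L₂ : Type*} (g : L₁ → L₂) (x₀ x₁ : L₁) :
    (fun b => g (PLie.pair x₀ x₁ b)) = PLie.pair (g x₀) (g x₁) := by
  funext b
  cases b <;> rfl

theorem jacobson_map (R : Type*) [CommRing R] (p : ℕ) [CharP R p] {L₁ L₂ : Type*} [LieRing L₁]
    [LieAlgebra R L₁] [LieRing L₂] [LieAlgebra R L₂] (g : L₁ →ₗ⁅R⁆ L₂) (x₀ x₁ : L₁) :
    g (PLie.jacobson R p x₀ x₁) = PLie.jacobson R p (g x₀) (g x₁) := by
  unfold PLie.jacobson
  rw [map_sum]
  refine Finset.sum_congr rfl (fun t _ => ?_)
  rw [map_smul, bracketWord_map, pair_map]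

theorem bracketWord_zero {L : Type*} [LieRing L] {ι : Type*} (x : ι → L) (w : List ι) :
    PLie.bracketWord x (0 : L) w = 0 := by
  induction w with
  | nil => rfl
  | cons i w ih => rw [PLie.bracketWord_cons, ih, lie_zero]

theorem jacobson_zero_right (R : Type*) [CommRing R] (p : ℕ) [CharP R p] {L : Type*} [LieRing L]
    [LieAlgebra R L] (x₀ : L) : PLie.jacobson R p x₀ (0 : L) = 0 := by
  unfold PLie.jacobson
  apply Finset.sum_eq_zero
  intro t _
  rw [bracketWord_zero, smul_zero]

theorem PMap_ext {R : Type*} [CommRing R] {p : ℕ} [CharP R p] {L : Type*} [LieRing L]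
    [LieAlgebra R L] (ψ ψ' : PLie.PMap R p L) (h : ψ.toFun = ψ'.toFun) : ψ = ψ' := by
  obtain ⟨a, h1, h2, h3⟩ := ψ
  obtain ⟨a', h1', h2', h3'⟩ := ψ'
  have e : a = a' := h
  subst e
  rfl

/-- Let R be a commutative ring of prime characteristic p, L₁ and L₂ Lie algebras over R, φ a p-mapping
on L₁ and f : L₁ → L₂ a morphism of Lie algebras whose kernel is stable under φ (a p-ideal). Then
the image f(L₁), a Lie subalgebra of L₂, carries exactly one p-mapping ψ for which the corestriction
of f to its image is a morphism of p-Lie algebras, i.e. ψ (f x) = f (φ x) for all x. -/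
theorem result (R : Type u) [CommRing R] (p : ℕ) [Fact p.Prime] [CharP R p]
    (L₁ : Type v) [LieRing L₁] [LieAlgebra R L₁] (L₂ : Type w) [LieRing L₂] [LieAlgebra R L₂]
    (φ : PLie.PMap R p L₁) (f : L₁ →ₗ⁅R⁆ L₂) (hker : ∀ x : L₁, f x = 0 → f (φ x) = 0) :
    ∃! ψ : PLie.PMap R p f.range, PLie.IsPHom φ ψ f.rangeRestrict := by
  have WD : ∀ a b : L₁, f a = f b → f (φ a) = f (φ b) := by
    intro a b hab
    have hn : f (b - a) = 0 := by rw [map_sub, hab, sub_self]
    have hb : b = a + (b - a) := by abel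
    rw [hb, φ.map_add, map_sub, map_add, hker _ hn, jacobson_map, hn, jacobson_zero_right]
    simp
  have hsurj : ∀ y : f.range, ∃ x, f.rangeRestrict x = y := fun y =>
    f.surjective_rangeRestrict y
  have hmem : ∀ y : f.range, ∃ x, f x = y.1 := fun y => (f.mem_range y.1).mp y.2
  let ψfun : f.range → f.range := fun y =>
    f.rangeRestrict (φ (Classical.choose (hmem y)))
  have key : ∀ x : L₁, ψfun (f.rangeRestrict x) = f.rangeRestrict (φ x) := by
    intro x
    apply Subtype.ext
    exact WD _ _ (Classical.choose_spec (hmem (f.rangeRestrict x)))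
  have hpow : ∀ (x : L₁) (n : ℕ) (v : L₁),
      f.rangeRestrict ((LieAlgebra.ad R L₁ x ^ n) v)
        = (LieAlgebra.ad R f.range (f.rangeRestrict x) ^ n) (f.rangeRestrict v) := by
    intro x n
    induction n with
    | zero => intro v; simp
    | succ n ih =>
      intro v
      rw [pow_succ', pow_succ', Module.End.mul_apply, Module.End.mul_apply, LieAlgebra.ad_apply,
        LieAlgebra.ad_apply, LieHom.map_lie, ih]
  let ψ : PLie.PMap R p f.range :=
    { toFun := ψfun
      map_smul := by
        intro c y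
        obtain ⟨x, rfl⟩ := hsurj y
        rw [← map_smul, key, key, φ.map_smul, map_smul]
      ad_map := by
        intro y
        obtain ⟨x, rfl⟩ := hsurj y
        rw [key]
        apply LinearMap.ext
        intro w
        obtain ⟨v, rfl⟩ := hsurj w
        rw [← hpow, LieAlgebra.ad_apply, ← LieHom.map_lie]
        congr 1
        exact congrArg (fun e => e v) (φ.ad_map x)
      map_add := by
        intro y₀ y₁
        obtain ⟨x₀, rfl⟩ := hsurj y₀
        obtain ⟨x₁, rfl⟩ := hsurj y₁
        rw [← map_add, key, key, key, φ.map_add, map_sub, map_add,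
          jacobson_map R p f.rangeRestrict] }
  refine ⟨ψ, fun x => (key x).symm, ?_⟩
  intro ψ' hψ'
  apply PMap_ext
  funext y
  obtain ⟨x, rfl⟩ := hsurj y
  have h1 := hψ' x
  show ψ'.toFun (f.rangeRestrict x) = ψfun (f.rangeRestrict x)
  rw [key]
  exact h1.symm

end Groth.Agent.S13771
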