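import Groth.Statements.S13772
-- import your own Groth.Agent.* helpers here
import Mathlib

set_option autoImplicit false
universe u v
open PLie

namespace Groth.Agent.S13772

/-- Let R be a commutative ring of prime characteristic p and L a Lie algebra over R with a p-mapping γ.
For a map g : L → L, there is a p-mapping γ' on L with γ' x = γ x + g x for every x if and only if g
is additive, g (c • x) = c ^ p • g x for all scalars c, and every value g x lies in the centre of L.
(Both parts of the published statement at once: the difference of two p-mappings is a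
Frobenius-semilinear map into the centre, and adding such a map to a p-mapping gives a p-mapping.) -/
theorem result (R : Type u) [CommRing R] (p : ℕ) [Fact p.Prime] [CharP R p]
    (L : Type v) [LieRing L] [LieAlgebra R L] (γ : PLie.PMap R p L) (g : L → L) :
    (∃ γ' : PLie.PMap R p L, ∀ x : L, γ' x = γ x + g x) ↔
      ((∀ x y : L, g (x + y) = g x + g y) ∧ (∀ (c : R) (x : L), g (c • x) = c ^ p • g x) ∧
        ∀ x : L, g x ∈ LieAlgebra.center R L) := by
  constructor
  · rintro ⟨γ', h⟩
    have hg : ∀ x, g x = γ'.toFun x - γ.toFun x := by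
      intro x
      have := h x
      change γ'.toFun x = γ.toFun x + g x at this
      rw [this]; abel
    refine ⟨?_, ?_, ?_⟩
    · intro x y
      rw [hg, hg, hg, γ'.map_add, γ.map_add]
      abel
    · intro c x
      rw [hg, hg, γ'.map_smul, γ.map_smul, smul_sub]
    · intro x
      rw [LieModule.mem_maxTrivSubmodule]
      intro y
      have h1 : ⁅γ'.toFun x, y⁆ = (LieAlgebra.ad R L x ^ p) y := by
        rw [← γ'.ad_map, LieAlgebra.ad_apply]
      have h2 : ⁅γ.toFun x, y⁆ = (LieAlgebra.ad R L x ^ p) y := by
        rw [← γ.ad_map, LieAlgebra.ad_apply]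
      rw [← lie_skew, hg, sub_lie, h1, h2, sub_self, neg_zero]
  · rintro ⟨hadd, hsmul, hcen⟩
    have had0 : ∀ x, LieAlgebra.ad R L (g x) = 0 := by
      intro x
      apply LinearMap.ext
      intro y
      have := (LieModule.mem_maxTrivSubmodule R L L (g x)).1 (hcen x) y
      rw [LieAlgebra.ad_apply, ← lie_skew, this, neg_zero, LinearMap.zero_apply]
    refine ⟨⟨fun x => γ.toFun x + g x, ?_, ?_, ?_⟩, fun x => rfl⟩
    · intro c x
      show γ.toFun (c • x) + g (c • x) = c ^ p • (γ.toFun x + g x)
      rw [γ.map_smul, hsmul, smul_add]
    · intro x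
      show LieAlgebra.ad R L (γ.toFun x + g x) = LieAlgebra.ad R L x ^ p
      rw [map_add, had0, add_zero, γ.ad_map]
    · intro x y
      show γ.toFun (x + y) + g (x + y) = γ.toFun x + g x + (γ.toFun y + g y) - jacobson R p x y
      rw [γ.map_add, hadd]
      abel

end Groth.Agent.S13772
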