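import Groth.Statements.S13775
-- import your own Groth.Agent.* helpers here
import Mathlib

set_option autoImplicit false
universe u v
open PLie

namespace Groth.Agent.S13775

/-- Let R be a commutative ring of prime characteristic p and L a Lie algebra over R, free as a module
with basis x = bs 0, y = bs 1, z = bs 2 and brackets [x,y] = y, [x,z] = y + z, [y,z] = 0. Then L
carries no p-mapping. (The published statement is the corresponding entry of the classification
table of three-dimensional Lie algebras over an algebraically closed field of characteristic p; this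
row states it over every commutative ring of characteristic p.) -/
theorem result (R : Type u) [CommRing R] (p : ℕ) [Fact p.Prime] [CharP R p]
    (L : Type v) [LieRing L] [LieAlgebra R L] (bs : Module.Basis (Fin 3) R L)
    (hxy : ⁅bs 0, bs 1⁆ = bs 1) (hxz : ⁅bs 0, bs 2⁆ = bs 1 + bs 2) (hyz : ⁅bs 1, bs 2⁆ = 0) :
    IsEmpty (PLie.PMap R p L) := by
  refine ⟨fun γ => ?_⟩
  have hnt : Nontrivial R := CharP.nontrivial_of_char_ne_one (v := p) (Fact.out : p.Prime).ne_one
  have hpy : ∀ n : ℕ, (LieAlgebra.ad R L (bs 0) ^ n) (bs 1) = bs 1 := by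
    intro n
    induction n with
    | zero => simp
    | succ n ih => rw [pow_succ', Module.End.mul_apply, ih, LieAlgebra.ad_apply, hxy]
  have hpz : ∀ n : ℕ, (LieAlgebra.ad R L (bs 0) ^ n) (bs 2) = (n : R) • bs 1 + bs 2 := by
    intro n
    induction n with
    | zero => simp
    | succ n ih =>
      rw [pow_succ', Module.End.mul_apply, ih, map_add, map_smul, LieAlgebra.ad_apply,
        LieAlgebra.ad_apply, hxy, hxz]
      push_cast
      module
  have hpz' : (LieAlgebra.ad R L (bs 0) ^ p) (bs 2) = bs 2 := by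
    rw [hpz, CharP.cast_eq_zero, zero_smul, zero_add]
  have hw : ∃ a b c : R, γ.toFun (bs 0) = a • bs 0 + b • bs 1 + c • bs 2 :=
    ⟨bs.repr (γ.toFun (bs 0)) 0, bs.repr (γ.toFun (bs 0)) 1, bs.repr (γ.toFun (bs 0)) 2, by
      conv_lhs => rw [← bs.sum_repr (γ.toFun (bs 0))]
      rw [Fin.sum_univ_three]⟩
  obtain ⟨a, b, c, hw⟩ := hw
  have hwy : ⁅γ.toFun (bs 0), bs 1⁆ = bs 1 := by
    rw [← LieAlgebra.ad_apply (R := R), γ.ad_map, hpy]
  have hwz : ⁅γ.toFun (bs 0), bs 2⁆ = bs 2 := by
    rw [← LieAlgebra.ad_apply (R := R), γ.ad_map, hpz']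
  have hzy : ⁅bs 2, bs 1⁆ = 0 := by rw [← lie_skew, hyz, neg_zero]
  rw [hw] at hwy hwz
  simp only [add_lie, smul_lie, hxy, hxz, hyz, hzy, lie_self, smul_zero, add_zero] at hwy hwz
  rw [smul_add, hwy] at hwz
  have h1 := congrArg (fun v => bs.repr v 1) hwz
  simp only [map_add, map_smul, Module.Basis.repr_self, Finsupp.coe_add, Finsupp.coe_smul,
    Pi.add_apply, Pi.smul_apply, Finsupp.single_apply] at h1
  have h2 : ¬ ((2 : Fin 3) = 1) := by decide
  simp only [if_neg h2, if_true, smul_zero, add_zero] at h1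
  exact one_ne_zero h1

end Groth.Agent.S13775
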