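import Groth.Statements.S13777
-- import your own Groth.Agent.* helpers here
import Mathlib

set_option autoImplicit false
universe u v
open PLie

namespace Groth.Agent.S13777

/-- Let R be a commutative ring of characteristic 2 and L a Lie algebra over R, free as a module with
basis x = bs 0, y = bs 1, z = bs 2 and brackets [x,y] = z, [x,z] = −x, [y,z] = y. Then L carries no
2-mapping. (The published statement is the corresponding entry of the classification table over an
algebraically closed field of characteristic 2; this row states it over every commutative ring of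
characteristic 2.) -/
theorem result (R : Type u) [CommRing R] [CharP R 2]
    (L : Type v) [LieRing L] [LieAlgebra R L] (bs : Module.Basis (Fin 3) R L)
    (hxy : ⁅bs 0, bs 1⁆ = bs 2) (hxz : ⁅bs 0, bs 2⁆ = -bs 0) (hyz : ⁅bs 1, bs 2⁆ = bs 1) :
    IsEmpty (PLie.PMap R 2 L) := by
  refine ⟨fun γ => ?_⟩
  have hnt : Nontrivial R := CharP.nontrivial_of_char_ne_one (v := 2) (by norm_num)
  have hp : (LieAlgebra.ad R L (bs 0) ^ 2) (bs 1) = -bs 0 := by
    rw [pow_two, Module.End.mul_apply, LieAlgebra.ad_apply, LieAlgebra.ad_apply, hxy, hxz]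
  have hw : ∃ a b c : R, γ.toFun (bs 0) = a • bs 0 + b • bs 1 + c • bs 2 :=
    ⟨bs.repr (γ.toFun (bs 0)) 0, bs.repr (γ.toFun (bs 0)) 1, bs.repr (γ.toFun (bs 0)) 2, by
      conv_lhs => rw [← bs.sum_repr (γ.toFun (bs 0))]
      rw [Fin.sum_univ_three]⟩
  obtain ⟨a, b, c, hw⟩ := hw
  have hwy : ⁅γ.toFun (bs 0), bs 1⁆ = -bs 0 := by
    rw [← LieAlgebra.ad_apply (R := R), γ.ad_map, hp]
  have hzy : ⁅bs 2, bs 1⁆ = -bs 1 := by rw [← lie_skew, hyz]
  rw [hw] at hwy
  simp only [add_lie, smul_lie, hxy, hzy, lie_self, smul_zero, add_zero] at hwy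
  have h1 := congrArg (fun v => bs.repr v 0) hwy
  simp only [map_add, map_smul, map_neg, Module.Basis.repr_self, Finsupp.coe_add, Finsupp.coe_smul,
    Finsupp.coe_neg, Pi.add_apply, Pi.smul_apply, Pi.neg_apply, Finsupp.single_apply] at h1
  have h2 : ¬ ((2 : Fin 3) = 0) := by decide
  have h3 : ¬ ((1 : Fin 3) = 0) := by decide
  simp only [if_neg h2, if_neg h3, if_true, smul_zero, add_zero, neg_zero] at h1
  exact one_ne_zero (neg_eq_zero.1 h1.symm)

end Groth.Agent.S13777
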