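import Groth.Statements.S13784
-- import your own Groth.Agent.* helpers here
import Mathlib

set_option autoImplicit false
universe u
open CAlg

namespace Groth.Agent.S13784

/-- Let A be a commutative local ring and G a finite subgroup of Aˣ. If the order of G is invertible in
A, then G is cyclic. -/
theorem result {A : Type u} [CommRing A] [IsLocalRing A]
    (G : Subgroup Aˣ) [Finite G] (hG : IsUnit ((Nat.card G : ℕ) : A)) : IsCyclic G := by
  let f : G →* IsLocalRing.ResidueField A :=
    ((IsLocalRing.residue A).toMonoidHom.comp (Units.coeHom A)).comp G.subtype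
  apply isCyclic_of_injective_ringHom f
  rw [injective_iff_map_eq_one]
  intro g hg
  have hn : g ^ Nat.card G = 1 := pow_card_eq_one'
  set a : A := ((g : Aˣ) : A) with ha
  have ha1 : IsLocalRing.residue A a = 1 := hg
  have hpow : a ^ Nat.card G = 1 := by
    have h2 := congrArg (fun x : G => ((x : Aˣ) : A)) hn
    simp only [Subgroup.coe_pow, Units.val_pow_eq_pow_val, Subgroup.coe_one, Units.val_one] at h2
    exact h2
  have hgeom : (a - 1) * ∑ i ∈ Finset.range (Nat.card G), a ^ i = 0 := by
    rw [mul_comm, geom_sum_mul, hpow, sub_self]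
  have hunit : IsUnit (∑ i ∈ Finset.range (Nat.card G), a ^ i) := by
    apply isUnit_of_map_unit (IsLocalRing.residue A)
    rw [map_sum]
    simp only [map_pow, ha1, one_pow, Finset.sum_const, Finset.card_range, nsmul_eq_mul, mul_one]
    have := hG.map (IsLocalRing.residue A)
    simpa using this
  have h0 : a - 1 = 0 := (hunit.mul_left_eq_zero).1 hgeom
  have h1 : a = 1 := sub_eq_zero.1 h0
  ext
  simpa [ha] using h1

end Groth.Agent.S13784
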