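import Groth.Statements.S13785
-- import your own Groth.Agent.* helpers here
import Mathlib

set_option autoImplicit false
universe u
open CAlg

namespace Groth.Agent.S13785

/-- For any commutative ring A, the determinant of the generic n × n matrix is a nonzerodivisor of the
polynomial ring over A in the n² matrix entries. -/
theorem result (A : Type u) [CommRing A] (n : ℕ) :
    (Matrix.mvPolynomialX (Fin n) (Fin n) A).det ∈ nonZeroDivisors (MvPolynomial (Fin n × Fin n) A) := by
  classical
  let ψ : MvPolynomial (Fin n × Fin n) A →ₐ[A] Polynomial (MvPolynomial (Fin n × Fin n) A) :=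
    MvPolynomial.aeval (fun ij : Fin n × Fin n =>
      Polynomial.C (MvPolynomial.X ij) + if ij.1 = ij.2 then Polynomial.X else 0)
  have hψX : ∀ ij : Fin n × Fin n, ψ (MvPolynomial.X ij)
      = Polynomial.C (MvPolynomial.X ij) + if ij.1 = ij.2 then Polynomial.X else 0 := by
    intro ij; exact MvPolynomial.aeval_X _ _
  have hψN : ψ (Matrix.mvPolynomialX (Fin n) (Fin n) A).det
      = (-(Matrix.mvPolynomialX (Fin n) (Fin n) A)).charpoly := by
    rw [AlgHom.map_det, Matrix.charpoly]
    congr 1
    ext i j
    rw [AlgHom.mapMatrix_apply, Matrix.map_apply, Matrix.mvPolynomialX_apply, hψX,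
      Matrix.charmatrix_apply, Matrix.diagonal_apply, Matrix.neg_apply,
      Matrix.mvPolynomialX_apply, map_neg, sub_neg_eq_add, add_comm]
  have hmonic : (-(Matrix.mvPolynomialX (Fin n) (Fin n) A)).charpoly.Monic :=
    Matrix.charpoly_monic _
  have hleft : ∀ g, Polynomial.eval 0 (ψ g) = g := by
    intro g
    have h1 : ((Polynomial.evalRingHom (0 : MvPolynomial (Fin n × Fin n) A)).comp
        (ψ : MvPolynomial (Fin n × Fin n) A →+* Polynomial (MvPolynomial (Fin n × Fin n) A)))
        = RingHom.id _ := by
      apply MvPolynomial.ringHom_ext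
      · intro a
        simp [ψ, Polynomial.algebraMap_apply, MvPolynomial.algebraMap_eq]
      · intro ij
        simp [hψX, apply_ite (Polynomial.eval (0 : MvPolynomial (Fin n × Fin n) A))]
    exact RingHom.congr_fun h1 g
  rw [mem_nonZeroDivisors_iff_right]
  intro g hg
  have h1 : ψ g * (-(Matrix.mvPolynomialX (Fin n) (Fin n) A)).charpoly = 0 := by
    rw [← hψN, ← map_mul, hg, map_zero]
  have h2 : ψ g = 0 := hmonic.mul_left_eq_zero_iff.mp h1
  rw [← hleft g, h2, Polynomial.eval_zero]

end Groth.Agent.S13785
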