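import Groth.Statements.S13786
-- import your own Groth.Agent.* helpers here
import Mathlib

set_option autoImplicit false
universe u
open CAlg

namespace Groth.Agent.S13786

section
open MvPolynomial

lemma map_detX (n : ℕ) {R S : Type*} [CommRing R] [CommRing S] (f : R →+* S) :
    MvPolynomial.map f (Matrix.mvPolynomialX (Fin n) (Fin n) R).det =
      (Matrix.mvPolynomialX (Fin n) (Fin n) S).det := by
  rw [RingHom.map_det]
  congr 1
  ext i j
  simp [Matrix.mvPolynomialX_apply]

lemma dvd_core (n : ℕ) : ∀ N : ℕ, N ≠ 0 → ∀ g : MvPolynomial (Fin n × Fin n) ℤ,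
    (Matrix.mvPolynomialX (Fin n) (Fin n) ℤ).det ∣ C (N : ℤ) * g →
    (Matrix.mvPolynomialX (Fin n) (Fin n) ℤ).det ∣ g := by
  intro N
  induction N using induction_on_primes with
  | zero => intro h; exact absurd rfl h
  | one => intro _ g hg; simpa using hg
  | prime_mul p a hp ih =>
    intro hpa g hg
    have ha : a ≠ 0 := fun h => hpa (by rw [h, mul_zero])
    apply ih ha
    haveI := Fact.mk hp
    obtain ⟨h, hh⟩ := hg
    have e1 : C (((p * a : ℕ) : ℤ)) * g = C (p : ℤ) * (C (a : ℤ) * g) := by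
      rw [Nat.cast_mul, C_mul, mul_assoc]
    rw [e1] at hh
    have hmap := congrArg (MvPolynomial.map (Int.castRingHom (ZMod p))) hh
    simp only [map_mul, MvPolynomial.map_C, map_detX] at hmap
    have hp0 : (Int.castRingHom (ZMod p)) (p : ℤ) = 0 := by simp
    rw [hp0, C_0, zero_mul] at hmap
    have hdet : (Matrix.mvPolynomialX (Fin n) (Fin n) (ZMod p)).det ≠ 0 :=
      Matrix.det_mvPolynomialX_ne_zero (Fin n) (ZMod p)
    have hh0 : MvPolynomial.map (Int.castRingHom (ZMod p)) h = 0 := by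
      rcases mul_eq_zero.mp hmap.symm with h1 | h1
      · exact absurd h1 hdet
      · exact h1
    obtain ⟨h', rfl⟩ := (MvPolynomial.C_dvd_iff_zmod p h).mpr hh0
    refine ⟨h', ?_⟩
    have hCp : (C (p : ℤ) : MvPolynomial (Fin n × Fin n) ℤ) ≠ 0 := by
      rw [Ne, C_eq_zero]
      exact_mod_cast hp.ne_zero
    apply mul_left_cancel₀ hCp
    rw [hh]
    ring

lemma flatZ (n : ℕ) : Module.Flat ℤ (MvPolynomial (Fin n × Fin n) ℤ ⧸
    Ideal.span {(Matrix.mvPolynomialX (Fin n) (Fin n) ℤ).det}) := by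
  rw [Module.Flat.flat_iff_torsion_eq_bot_of_isBezout, eq_bot_iff]
  intro x hx
  rw [Submodule.mem_torsion_iff] at hx
  obtain ⟨⟨a, ha⟩, hax⟩ := hx
  obtain ⟨g, rfl⟩ := Ideal.Quotient.mk_surjective x
  rw [Submodule.mem_bot]
  have ha0 : a ≠ 0 := nonZeroDivisors.ne_zero ha
  have hax' : a • (Ideal.Quotient.mk
      (Ideal.span {(Matrix.mvPolynomialX (Fin n) (Fin n) ℤ).det}) g) = 0 := hax
  rw [← map_zsmul, zsmul_eq_mul, Ideal.Quotient.eq_zero_iff_mem, Ideal.mem_span_singleton,
    ← eq_intCast (C : ℤ →+* MvPolynomial (Fin n × Fin n) ℤ) a] at hax'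
  rw [Ideal.Quotient.eq_zero_iff_mem, Ideal.mem_span_singleton]
  have hN : a.natAbs ≠ 0 := Int.natAbs_ne_zero.mpr ha0
  apply dvd_core n a.natAbs hN g
  rcases Int.natAbs_eq a with h | h
  · rw [h] at hax'
    exact hax'
  · rw [h, map_neg, neg_mul, dvd_neg] at hax'
    exact hax'

end

/-- For a commutative ring A and n ≥ 1, with det the determinant of the generic n × n matrix in the
polynomial ring A[X] in n² indeterminates, the A-algebra A[X]/(det) is faithfully flat over A. (For
n = 0 the determinant is 1 and the quotient is the zero ring, so n ≥ 1 is required.) -/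
theorem result (A : Type u) [CommRing A] (n : ℕ) (hn : 0 < n) :
    Module.FaithfullyFlat A
      (MvPolynomial (Fin n × Fin n) A ⧸ Ideal.span {(Matrix.mvPolynomialX (Fin n) (Fin n) A).det}) := by
  haveI hflatZ := flatZ n
  have key : (MvPolynomial.algebraTensorAlgEquiv (σ := Fin n × Fin n) ℤ A)
      (Algebra.TensorProduct.includeRight (R := ℤ) (A := A)
        (B := MvPolynomial (Fin n × Fin n) ℤ) (Matrix.mvPolynomialX (Fin n) (Fin n) ℤ).det) =
      (Matrix.mvPolynomialX (Fin n) (Fin n) A).det := by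
    rw [Algebra.TensorProduct.includeRight_apply, MvPolynomial.algebraTensorAlgEquiv_tmul,
      one_smul, map_detX]
  have hIJ : Ideal.span {(Matrix.mvPolynomialX (Fin n) (Fin n) A).det} =
      ((Ideal.span {(Matrix.mvPolynomialX (Fin n) (Fin n) ℤ).det}).map
        (Algebra.TensorProduct.includeRight (R := ℤ) (A := A)
          (B := MvPolynomial (Fin n × Fin n) ℤ))).map
        ((MvPolynomial.algebraTensorAlgEquiv (σ := Fin n × Fin n) ℤ A :
          TensorProduct ℤ A (MvPolynomial (Fin n × Fin n) ℤ) ≃ₐ[A]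
            MvPolynomial (Fin n × Fin n) A) :
          TensorProduct ℤ A (MvPolynomial (Fin n × Fin n) ℤ) →+*
            MvPolynomial (Fin n × Fin n) A) := by
    rw [Ideal.map_span, Ideal.map_span, Set.image_singleton, Set.image_singleton]
    congr 2
    exact key.symm
  let e := (Algebra.TensorProduct.tensorQuotientEquiv (R := ℤ) A
      (MvPolynomial (Fin n × Fin n) ℤ) A
      (Ideal.span {(Matrix.mvPolynomialX (Fin n) (Fin n) ℤ).det})).trans
    (Ideal.quotientEquivAlg _ (Ideal.span {(Matrix.mvPolynomialX (Fin n) (Fin n) A).det})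
      (MvPolynomial.algebraTensorAlgEquiv (σ := Fin n × Fin n) ℤ A) hIJ)
  haveI hflat : Module.Flat A (MvPolynomial (Fin n × Fin n) A ⧸
      Ideal.span {(Matrix.mvPolynomialX (Fin n) (Fin n) A).det}) :=
    Module.Flat.of_linearEquiv e.symm.toLinearEquiv
  haveI : Nonempty (Fin n) := ⟨⟨0, hn⟩⟩
  have hker : ∀ a ∈ Ideal.span {(Matrix.mvPolynomialX (Fin n) (Fin n) A).det},
      (MvPolynomial.aeval (fun _ : Fin n × Fin n => (0 : A)) : MvPolynomial (Fin n × Fin n) A →ₐ[A] A)
        a = 0 := by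
    intro a ha
    obtain ⟨c, rfl⟩ := Ideal.mem_span_singleton.mp ha
    rw [map_mul]
    have h0 : (MvPolynomial.aeval (fun _ : Fin n × Fin n => (0 : A)) :
        MvPolynomial (Fin n × Fin n) A →ₐ[A] A)
        (Matrix.mvPolynomialX (Fin n) (Fin n) A).det = 0 := by
      rw [AlgHom.map_det]
      have hz : (MvPolynomial.aeval (fun _ : Fin n × Fin n => (0 : A)) :
          MvPolynomial (Fin n × Fin n) A →ₐ[A] A).mapMatrix
          (Matrix.mvPolynomialX (Fin n) (Fin n) A) = 0 := by
        ext i j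
        simp [Matrix.mvPolynomialX_apply]
      rw [hz, Matrix.det_zero]
    rw [h0, zero_mul]
  let r : (MvPolynomial (Fin n × Fin n) A ⧸
      Ideal.span {(Matrix.mvPolynomialX (Fin n) (Fin n) A).det}) →ₐ[A] A :=
    Ideal.Quotient.liftₐ _ (MvPolynomial.aeval (fun _ : Fin n × Fin n => (0 : A))) hker
  refine { toFlat := hflat, submodule_ne_top := ?_ }
  intro m hm htop
  have hr : ∀ x ∈ (m • (⊤ : Submodule A (MvPolynomial (Fin n × Fin n) A ⧸
      Ideal.span {(Matrix.mvPolynomialX (Fin n) (Fin n) A).det}))), r x ∈ m := by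
    intro x hx
    refine Submodule.smul_induction_on hx ?_ ?_
    · intro a ha b _
      rw [map_smul, smul_eq_mul]
      exact m.mul_mem_right _ ha
    · intro x y hx hy
      rw [map_add]
      exact m.add_mem hx hy
  have h1 : (1 : MvPolynomial (Fin n × Fin n) A ⧸
      Ideal.span {(Matrix.mvPolynomialX (Fin n) (Fin n) A).det}) ∈
      m • (⊤ : Submodule A (MvPolynomial (Fin n × Fin n) A ⧸
      Ideal.span {(Matrix.mvPolynomialX (Fin n) (Fin n) A).det})) := by
    rw [htop]; trivial
  have h2 := hr 1 h1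
  rw [map_one] at h2
  exact hm.ne_top ((Ideal.eq_top_iff_one m).mpr h2)

end Groth.Agent.S13786
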