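import Groth.Statements.S13787
-- import your own Groth.Agent.* helpers here
import Mathlib

set_option autoImplicit false
universe u
open CAlg

namespace Groth.Agent.S13787

open LaurentPolynomial

noncomputable def φ₀ (A : Type u) [CommRing A] (n : ℕ) :
    MvPolynomial (Fin n × Fin n) A →ₐ[A] A[T;T⁻¹] :=
  MvPolynomial.aeval (fun ij => if ij.1 = ij.2 then T 1 else 0)

lemma φ₀_det (A : Type u) [CommRing A] (n : ℕ) :
    φ₀ A n (Matrix.mvPolynomialX (Fin n) (Fin n) A).det = T (n : ℤ) := by
  rw [AlgHom.map_det]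
  have : (φ₀ A n).mapMatrix (Matrix.mvPolynomialX (Fin n) (Fin n) A) =
      Matrix.diagonal (fun _ : Fin n => (T 1 : A[T;T⁻¹])) := by
    ext i j
    simp [φ₀, Matrix.mvPolynomialX_apply, Matrix.diagonal_apply]
  rw [this, Matrix.det_diagonal, Finset.prod_const, Finset.card_univ, Fintype.card_fin, T_pow,
    mul_one]

noncomputable def Thom (A : Type u) [CommRing A] : Multiplicative ℤ →* A[T;T⁻¹] where
  toFun m := T (Multiplicative.toAdd m)
  map_one' := T_zero
  map_mul' _ _ := T_add _ _

noncomputable def τ (A : Type u) [CommRing A] : Multiplicative ℤ →* (A[T;T⁻¹])ˣ :=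
  (Units.map (Thom A)).comp (toUnits (G := Multiplicative ℤ)).toMonoidHom

lemma τ_val (A : Type u) [CommRing A] (m : Multiplicative ℤ) :
    ((τ A m : (A[T;T⁻¹])ˣ) : A[T;T⁻¹]) = T (Multiplicative.toAdd m) := rfl

/-- Let A be a nonzero commutative ring and n ≥ 1, let det be the determinant of the generic n × n
matrix in the polynomial ring A[X] in its n² entries, and let A[X, 1/det] be the localization at det
(the coordinate ring of GL_n over A). The homomorphism Aˣ × ℤ → (A[X, 1/det])ˣ sending (a, e) to a ·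
det^e is injective. (The published statement takes the exponent in the group of locally constant
ℤ-valued functions on Spec A, which also covers A = 0; with integer exponents as here, A must be
nonzero and n ≥ 1.) -/
theorem result (A : Type u) [CommRing A] [Nontrivial A] (n : ℕ) (hn : 0 < n) :
    Function.Injective (fun p : Aˣ × ℤ =>
        Units.map (algebraMap A (Localization.Away (Matrix.mvPolynomialX (Fin n) (Fin n) A).det)).toMonoidHom p.1 *
          (IsLocalization.Away.algebraMap_isUnit (S := Localization.Away (Matrix.mvPolynomialX (Fin n) (Fin n) A).det)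
            (Matrix.mvPolynomialX (Fin n) (Fin n) A).det).unit ^ p.2) := by
  have hu : IsUnit ((φ₀ A n).toRingHom (Matrix.mvPolynomialX (Fin n) (Fin n) A).det) := by
    show IsUnit (φ₀ A n (Matrix.mvPolynomialX (Fin n) (Fin n) A).det)
    rw [φ₀_det]; exact isUnit_T _
  have hφ : ∀ a, (IsLocalization.Away.lift (S := Localization.Away
      (Matrix.mvPolynomialX (Fin n) (Fin n) A).det)
      (Matrix.mvPolynomialX (Fin n) (Fin n) A).det hu) (algebraMap _ _ a) = φ₀ A n a :=
    fun a => IsLocalization.Away.lift_eq _ hu a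
  generalize hφdef : (IsLocalization.Away.lift (S := Localization.Away
      (Matrix.mvPolynomialX (Fin n) (Fin n) A).det)
      (Matrix.mvPolynomialX (Fin n) (Fin n) A).det hu) = φ at hφ
  have hTU : Units.map φ.toMonoidHom (IsLocalization.Away.algebraMap_isUnit
      (S := Localization.Away (Matrix.mvPolynomialX (Fin n) (Fin n) A).det)
      (Matrix.mvPolynomialX (Fin n) (Fin n) A).det).unit = τ A (Multiplicative.ofAdd (n : ℤ)) := by
    apply Units.ext
    show φ (algebraMap _ _ (Matrix.mvPolynomialX (Fin n) (Fin n) A).det) = T (n : ℤ)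
    rw [hφ, φ₀_det]
  have hC : ∀ u : Aˣ, ((Units.map φ.toMonoidHom (Units.map (algebraMap A (Localization.Away
      (Matrix.mvPolynomialX (Fin n) (Fin n) A).det)).toMonoidHom u) : (A[T;T⁻¹])ˣ) : A[T;T⁻¹]) =
      C (u : A) := by
    intro u
    show φ (algebraMap A _ (u : A)) = C (u : A)
    rw [IsScalarTower.algebraMap_apply A (MvPolynomial (Fin n × Fin n) A)
      (Localization.Away (Matrix.mvPolynomialX (Fin n) (Fin n) A).det), hφ, AlgHom.commutes]
    rfl
  rintro ⟨u, k⟩ ⟨u', k'⟩ h
  have h2 := congrArg (fun x => ((Units.map φ.toMonoidHom x : (A[T;T⁻¹])ˣ) : A[T;T⁻¹])) h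
  simp only [map_mul, map_zpow, hTU, Units.val_mul, hC] at h2
  have e : ∀ k : ℤ, ((τ A (Multiplicative.ofAdd (n : ℤ)) ^ k : (A[T;T⁻¹])ˣ) : A[T;T⁻¹]) =
      T ((n : ℤ) * k) := by
    intro k
    rw [← map_zpow (τ A), τ_val, Int.toAdd_zpow, toAdd_ofAdd]
  rw [e, e] at h2
  have hu0 : (u : A) ≠ 0 := u.ne_zero
  have hu0' : (u' : A) ≠ 0 := u'.ne_zero
  have hsupp := congrArg (fun f => f.coeff.support) h2
  simp only [support_coeff_C_mul_T_of_ne_zero hu0, support_coeff_C_mul_T_of_ne_zero hu0'] at hsupp
  have hk : (n : ℤ) * k = n * k' := Finset.singleton_injective hsupp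
  have hkk : k = k' := mul_left_cancel₀ (by exact_mod_cast hn.ne') hk
  subst hkk
  have hc := congrArg (fun f => f * T (-((n : ℤ) * k))) h2
  simp only [mul_assoc, ← T_add, add_neg_cancel, T_zero, mul_one] at hc
  have h0 := congrArg (fun f => f.coeff 0) hc
  simp only [C_apply, if_true] at h0
  exact Prod.ext (Units.ext h0) rfl

end Groth.Agent.S13787
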