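import Groth.Statements.S13789
-- import your own Groth.Agent.* helpers here
import Mathlib

set_option autoImplicit false
universe u
open CAlg

namespace Groth.Agent.S13789

theorem aux1 {A Q : Type u} [CommRing A] [CommRing Q] [Algebra A Q] [IsFractionRing A Q]
    (B : Subalgebra A Q) (a : A) (ha : a ∈ nonZeroDivisors A) :
    algebraMap A B a ∈ nonZeroDivisors B := by
  have hu : IsUnit (algebraMap A Q a) := IsLocalization.map_units Q ⟨a, ha⟩
  rw [mem_nonZeroDivisors_iff_right]
  intro x hx
  have h1 : (x : Q) * algebraMap A Q a = 0 := by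
    have := congrArg Subtype.val hx
    simpa using this
  exact Subtype.ext ((hu.mul_left_eq_zero).1 h1)

theorem aux2 {A Q : Type u} [CommRing A] [CommRing Q] [Algebra A Q] [IsFractionRing A Q]
    (B : Subalgebra A Q) (b : B) (hb : b ∈ nonZeroDivisors B) :
    ∃ r u : A, r ∈ nonZeroDivisors A ∧ u ∈ nonZeroDivisors A ∧
      (b : Q) * algebraMap A Q u = algebraMap A Q r := by
  obtain ⟨⟨r, u⟩, h⟩ := IsLocalization.surj (nonZeroDivisors A) (b : Q)
  refine ⟨r, u, ?_, u.2, h⟩
  rw [mem_nonZeroDivisors_iff_right]
  intro c hc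
  have hu : IsUnit (algebraMap A Q u) := IsLocalization.map_units Q u
  have h2 : algebraMap A B c * b = 0 := by
    apply Subtype.ext
    have h3 : (algebraMap A Q c * (b : Q)) * algebraMap A Q u = 0 := by
      rw [mul_assoc]
      simp only at h
      rw [h, ← map_mul, hc, map_zero]
    have := (hu.mul_left_eq_zero).1 h3
    simpa using this
  have h4 := (mem_nonZeroDivisors_iff_right.1 hb) _ h2
  have h5 : algebraMap A Q c = 0 := by
    have := congrArg Subtype.val h4
    simpa using this
  exact (IsFractionRing.injective A Q) (by rw [h5, map_zero])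

/-- Let A be a commutative ring with total ring of fractions Q and let B be a ring with A ⊆ B ⊆ Q. Then
the inclusion A ⊆ B carries nonzerodivisors of A to nonzerodivisors of B, and every nonzerodivisor
of B has the form r/u with r and u nonzerodivisors of A. -/
theorem result {A Q : Type u} [CommRing A] [CommRing Q] [Algebra A Q] [IsFractionRing A Q] (B : Subalgebra A Q) :
    (∀ a : A, a ∈ nonZeroDivisors A → algebraMap A B a ∈ nonZeroDivisors B) ∧
    (∀ b : B, b ∈ nonZeroDivisors B → ∃ r u : A, r ∈ nonZeroDivisors A ∧ u ∈ nonZeroDivisors A ∧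
      (b : Q) * algebraMap A Q u = algebraMap A Q r) := by
  exact ⟨fun a ha => aux1 B a ha, fun b hb => aux2 B b hb⟩

end Groth.Agent.S13789
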