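import Groth.Statements.S13790
-- import your own Groth.Agent.* helpers here
import Mathlib

set_option autoImplicit false
universe u
open CAlg

namespace Groth.Agent.S13790

theorem aux1 {A Q : Type u} [CommRing A] [CommRing Q] [Algebra A Q] [IsFractionRing A Q]
    (B : Subalgebra A Q) (a : A) (ha : a ∈ nonZeroDivisors A) :
    algebraMap A B a ∈ nonZeroDivisors B := by
  have hu : IsUnit (algebraMap A Q a) := IsLocalization.map_units Q ⟨a, ha⟩
  rw [mem_nonZeroDivisors_iff_right]
  intro x hx
  have h1 : (x : Q) * algebraMap A Q a = 0 := by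
    have := congrArg Subtype.val hx
    simpa using this
  exact Subtype.ext ((hu.mul_left_eq_zero).1 h1)

theorem aux2 {A Q : Type u} [CommRing A] [CommRing Q] [Algebra A Q] [IsFractionRing A Q]
    (B : Subalgebra A Q) (b : B) (hb : b ∈ nonZeroDivisors B) :
    ∃ r u : A, r ∈ nonZeroDivisors A ∧ u ∈ nonZeroDivisors A ∧
      (b : Q) * algebraMap A Q u = algebraMap A Q r := by
  obtain ⟨⟨r, u⟩, h⟩ := IsLocalization.surj (nonZeroDivisors A) (b : Q)
  refine ⟨r, u, ?_, u.2, h⟩
  rw [mem_nonZeroDivisors_iff_right]
  intro c hc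
  have hu : IsUnit (algebraMap A Q u) := IsLocalization.map_units Q u
  have h2 : algebraMap A B c * b = 0 := by
    apply Subtype.ext
    have h3 : (algebraMap A Q c * (b : Q)) * algebraMap A Q u = 0 := by
      rw [mul_assoc]
      simp only at h
      rw [h, ← map_mul, hc, map_zero]
    have := (hu.mul_left_eq_zero).1 h3
    simpa using this
  have h4 := (mem_nonZeroDivisors_iff_right.1 hb) _ h2
  have h5 : algebraMap A Q c = 0 := by
    have := congrArg Subtype.val h4
    simpa using this
  exact (IsFractionRing.injective A Q) (by rw [h5, map_zero])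

/-- Let A be a commutative ring with total ring of fractions Q and let B be a ring with A ⊆ B ⊆ Q. Then
Q, with the inclusion B ⊆ Q, is the total ring of fractions of B. -/
theorem result {A Q : Type u} [CommRing A] [CommRing Q] [Algebra A Q] [IsFractionRing A Q] (B : Subalgebra A Q) :
    IsFractionRing B Q := by
  rw [IsFractionRing, isLocalization_iff]
  refine ⟨?_, ?_, ?_⟩
  · rintro ⟨b, hb⟩
    obtain ⟨r, u, hr, hu, h⟩ := aux2 B b hb
    have hur : IsUnit (algebraMap A Q r) := IsLocalization.map_units Q ⟨r, hr⟩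
    have : IsUnit ((b : Q) * algebraMap A Q u) := by rw [h]; exact hur
    exact (isUnit_of_mul_isUnit_left this)
  · intro z
    obtain ⟨⟨r, u⟩, h⟩ := IsLocalization.surj (nonZeroDivisors A) z
    refine ⟨⟨algebraMap A B r, ⟨algebraMap A B u, aux1 B u u.2⟩⟩, ?_⟩
    simpa using h
  · intro x y hxy
    refine ⟨1, ?_⟩
    have : x = y := Subtype.ext hxy
    rw [this]

end Groth.Agent.S13790
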