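import Groth.Statements.S13792
-- import your own Groth.Agent.* helpers here
import Mathlib

set_option autoImplicit false
universe u
open CategoryTheory AlgebraicGeometry
open Curves

namespace Groth.Agent.S13792

/-- Let k be a field and E an integral k-scheme of finite type whose underlying space has dimension 1,
and let ι : G → E be a closed immersion. Then either ι is an isomorphism or G is finite over k. (The
published statement is about a closed subgroup scheme of an elliptic curve and its proof states this
fact for E geometrically integral; this row assumes only that E is integral.) -/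
theorem result {k : Type u} [Field k]
    {E G : Scheme.{u}} (f : E ⟶ Spec (CommRingCat.of k)) [LocallyOfFiniteType f] [QuasiCompact f]
    [IsIntegral E] (hdim : topologicalKrullDim ↥E = 1) (ι : G ⟶ E) [IsClosedImmersion ι] :
    IsIso ι ∨ IsFinite (ι ≫ f) := by
  by_cases hsurj : Function.Surjective ι.base
  · left
    haveI : Surjective ι := ⟨hsurj⟩
    exact isIso_of_isClosedImmersion_of_surjective ι
  · right
    haveI : LocallyOfFiniteType (ι ≫ f) := inferInstance
    haveI : QuasiCompact (ι ≫ f) := inferInstance
    haveI : IsLocallyNoetherian G := LocallyOfFiniteType.isLocallyNoetherian (ι ≫ f)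
    have hdimG : topologicalKrullDim G ≤ 0 := by
      rw [topologicalKrullDim, Order.krullDim_nonpos_iff_forall_isMax]
      intro x y hxy
      by_contra hyx
      have hlt : x < y := lt_of_le_not_ge hxy hyx
      have hind : Topology.IsInducing ι.base := ι.isClosedEmbedding.isInducing
      have h1 : TopologicalSpace.IrreducibleCloseds.map ι.base hind.continuous x <
          TopologicalSpace.IrreducibleCloseds.map ι.base hind.continuous y :=
        TopologicalSpace.IrreducibleCloseds.map_strictMono_of_isInducing hind hlt
      let T : TopologicalSpace.IrreducibleCloseds E :=
        ⟨Set.univ, IrreducibleSpace.isIrreducible_univ _, isClosed_univ⟩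
      have h2 : TopologicalSpace.IrreducibleCloseds.map ι.base hind.continuous y < T := by
        refine lt_of_le_of_ne (fun _ _ => trivial) ?_
        intro h
        apply hsurj
        have h3 : (closure (ι.base '' (y : Set G)) : Set E) = Set.univ :=
          congrArg (fun Z : TopologicalSpace.IrreducibleCloseds E => (Z : Set E)) h
        have hcl : IsClosed (Set.range ι.base) := ι.isClosedEmbedding.isClosed_range
        have h4 : Set.univ ⊆ Set.range ι.base := by
          rw [← h3]
          exact closure_minimal (Set.image_subset_range _ _) hcl
        exact Set.range_eq_univ.mp (Set.eq_univ_of_univ_subset h4)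
      have h5 : ((2 : ℕ) : WithBot ℕ∞) ≤ Order.krullDim (TopologicalSpace.IrreducibleCloseds E) :=
        Order.le_krullDim_iff.mpr
          ⟨((RelSeries.singleton _ (TopologicalSpace.IrreducibleCloseds.map ι.base hind.continuous x)).snoc
            (TopologicalSpace.IrreducibleCloseds.map ι.base hind.continuous y)
            (by simpa using h1)).snoc T (by simpa using h2), by simp⟩
      rw [← topologicalKrullDim, hdim] at h5
      exact absurd h5 (by norm_num)
    haveI : IsLocallyArtinian G := IsLocallyArtinian.of_topologicalKrullDim_le_zero hdimG
    haveI : CompactSpace G := QuasiCompact.compactSpace_of_compactSpace (ι ≫ f)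
    haveI : IsArtinianScheme G := {}
    haveI : Finite G := IsArtinianScheme.finite
    haveI : LocallyQuasiFinite (ι ≫ f) :=
      LocallyQuasiFinite.of_finite_preimage_singleton _ (fun x => Set.toFinite _)
    exact IsFinite.of_locallyQuasiFinite (ι ≫ f)

end Groth.Agent.S13792
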