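import Groth.Statements.S13794
-- import your own Groth.Agent.* helpers here
import Mathlib

set_option autoImplicit false
universe u
open Polynomial
open Curves

namespace Groth.Agent.S13794

/-- Let k be a field of characteristic not 3 and β ∈ k. If a line ax + by + c = 0 with a³ ≠ b³ is the
tangent line at a flex point of the affine cubic x³ + y³ + β = 3xy, then β is a cube in k. Here the
line is normalised to b ≠ 0 (the roles of x and y are symmetric) and the flex-tangency is expressed
by the restriction of the cubic to the line being λ (x − x₀)³. -/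
theorem result {k : Type u} [Field k] (h3 : (3 : k) ≠ 0)
    (β a b c : k) (hb : b ≠ 0) (hab : a ^ 3 ≠ b ^ 3) (lam x₀ : k)
    (hflex : (X : k[X]) ^ 3 + (C (-a / b) * X + C (-c / b)) ^ 3 + C β - 3 * X * (C (-a / b) * X + C (-c / b)) =
      C lam * (X - C x₀) ^ 3) :
    ∃ γ : k, β = γ ^ 3 := by
  obtain ⟨m, hm⟩ : ∃ m : k, m = -a / b := ⟨_, rfl⟩
  obtain ⟨e, he⟩ : ∃ e : k, e = -c / b := ⟨_, rfl⟩
  rw [← hm, ← he] at hflex
  have hL : (X : k[X]) ^ 3 + (C m * X + C e) ^ 3 + C β - 3 * X * (C m * X + C e)
      = C (1 + m ^ 3) * X ^ 3 + C (3 * m ^ 2 * e - 3 * m) * X ^ 2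
        + C (3 * m * e ^ 2 - 3 * e) * X + C (e ^ 3 + β) := by
    simp only [map_add, map_sub, map_mul, map_pow, map_one, map_ofNat]
    ring
  have hR : C lam * ((X : k[X]) - C x₀) ^ 3
      = C lam * X ^ 3 + C (-(3 * lam * x₀)) * X ^ 2
        + C (3 * lam * x₀ ^ 2) * X + C (-(lam * x₀ ^ 3)) := by
    simp only [map_neg, map_mul, map_pow, map_ofNat]
    ring
  have E := hL.symm.trans (hflex.trans hR)
  have c3 := congrArg (fun q => Polynomial.coeff q 3) E
  have c2 := congrArg (fun q => Polynomial.coeff q 2) E
  have c1 := congrArg (fun q => Polynomial.coeff q 1) E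
  have c0 := congrArg (fun q => Polynomial.coeff q 0) E
  simp only [Polynomial.coeff_add, Polynomial.coeff_C_mul, Polynomial.coeff_X_pow,
    Polynomial.coeff_X, Polynomial.coeff_C] at c3 c2 c1 c0
  norm_num at c3 c2 c1 c0
  have hlam : lam ≠ 0 := by
    intro h0
    apply hab
    have h1 : (1 + m ^ 3) * b ^ 3 = b ^ 3 - a ^ 3 := by
      rw [hm]; field_simp; ring
    rw [c3, h0, zero_mul] at h1
    exact (sub_eq_zero.mp h1.symm).symm
  have c2' : m * (m * e - 1) = -(lam * x₀) := by
    apply mul_left_cancel₀ h3; linear_combination c2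
  have c1' : e * (m * e - 1) = lam * x₀ ^ 2 := by
    apply mul_left_cancel₀ h3; linear_combination c1
  by_cases ht : m * e - 1 = 0
  · rw [ht, mul_zero] at c2'
    have hx0 : x₀ = 0 := by
      have h1 : lam * x₀ = 0 := by linear_combination c2'
      rcases mul_eq_zero.mp h1 with h | h
      · exact absurd h hlam
      · exact h
    refine ⟨-e, ?_⟩
    linear_combination c0 - lam * x₀ ^ 2 * hx0
  · have he' : e = -m * x₀ := by
      have h1 : (e + m * x₀) * (m * e - 1) = 0 := by linear_combination c1' + x₀ * c2'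
      rcases mul_eq_zero.mp h1 with h | h
      · linear_combination h
      · exact absurd h ht
    have hx : m = x₀ := by
      have h1 := c2'
      rw [he', ← c3] at h1
      linear_combination -h1
    refine ⟨-m, ?_⟩
    rw [he', ← c3, ← hx] at c0
    linear_combination c0

end Groth.Agent.S13794
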