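import Groth.Statements.S13801
-- import your own Groth.Agent.* helpers here
import Mathlib

set_option autoImplicit false
open ChowMon

namespace Groth.Agent.S13801

/-- For a prime p and positive natural numbers a_1, ..., a_k with sum n one has v_p(a_1!) + ... +
v_p(a_k!) ≤ v_p(n!), and the inequality is strict whenever some a_i is not divisible by p^(v_p(n)). -/
theorem result {k : ℕ} (p : ℕ) [Fact p.Prime]
    (a : Fin k → ℕ) (ha : ∀ i, 0 < a i) :
    (∑ i, padicValNat p (a i).factorial ≤ padicValNat p (∑ i, a i).factorial) ∧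
      ((∃ i, ¬ p ^ padicValNat p (∑ j, a j) ∣ a i) →
        ∑ i, padicValNat p (a i).factorial < padicValNat p (∑ i, a i).factorial) := by
  classical
  have hprod : ∀ (s : Finset (Fin k)) (f : Fin k → ℕ), (∀ i, f i ≠ 0) →
      padicValNat p (∏ i ∈ s, f i) = ∑ i ∈ s, padicValNat p (f i) := by
    intro s f hf
    induction s using Finset.induction_on with
    | empty => simp
    | insert i s his ih =>
      rw [Finset.prod_insert his, Finset.sum_insert his,
        padicValNat.mul (hf i) (Finset.prod_ne_zero_iff.mpr (fun j _ => hf j)), ih]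
  have hfac : ∀ i, (a i).factorial ≠ 0 := fun i => Nat.factorial_ne_zero _
  have hsum : ∀ s : Finset (Fin k), ∑ i ∈ s, padicValNat p (a i).factorial
      = padicValNat p (∏ i ∈ s, (a i).factorial) := fun s => (hprod s _ hfac).symm
  have hle : ∀ {D n : ℕ}, D ∣ n.factorial → padicValNat p D ≤ padicValNat p n.factorial := by
    intro D n hD
    obtain ⟨m, hm⟩ := hD
    have hD0 : D ≠ 0 := by rintro rfl; rw [zero_mul] at hm; exact Nat.factorial_ne_zero n hm
    have hm0 : m ≠ 0 := by rintro rfl; rw [mul_zero] at hm; exact Nat.factorial_ne_zero n hm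
    rw [hm, padicValNat.mul hD0 hm0]
    exact Nat.le_add_right _ _
  refine ⟨?_, ?_⟩
  · rw [hsum]
    exact hle (Nat.prod_factorial_dvd_factorial_sum Finset.univ a)
  · rintro ⟨i₀, hi₀⟩
    rw [hsum]
    obtain ⟨c, hc⟩ : ∃ c, a i₀ = c + 1 := ⟨a i₀ - 1, (Nat.succ_pred_eq_of_pos (ha i₀)).symm⟩
    obtain ⟨s, hs⟩ : ∃ s, s = (Finset.univ : Finset (Fin k)).erase i₀ := ⟨_, rfl⟩
    have hN : ∑ j, a j = c + 1 + ∑ j ∈ s, a j := by
      rw [← Finset.add_sum_erase _ _ (Finset.mem_univ i₀), hc, ← hs]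
    obtain ⟨E, hE⟩ : ∃ E, E = c.factorial * ∏ j ∈ s, (a j).factorial := ⟨_, rfl⟩
    have hD : ∏ j, (a j).factorial = (c + 1) * E := by
      rw [hE, ← Finset.mul_prod_erase _ _ (Finset.mem_univ i₀), hc, Nat.factorial_succ,
        mul_assoc, ← hs]
    have hD' : E ∣ (c + ∑ j ∈ s, a j).factorial := by
      rw [hE]
      exact (Nat.mul_dvd_mul_left _ (Nat.prod_factorial_dvd_factorial_sum s a)).trans
        (Nat.factorial_mul_factorial_dvd_factorial_add _ _)
    obtain ⟨m', hm'⟩ := hD'
    have hNfac : (∑ j, a j).factorial = (c + ∑ j ∈ s, a j + 1) * (E * m') := by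
      rw [hN, ← hm', show c + 1 + ∑ j ∈ s, a j = (c + ∑ j ∈ s, a j) + 1 by ring,
        Nat.factorial_succ]
    have hE0 : E ≠ 0 := by
      rw [hE]
      exact mul_ne_zero (Nat.factorial_ne_zero _)
        (Finset.prod_ne_zero_iff.mpr (fun j _ => hfac j))
    have hm0 : m' ≠ 0 := by
      rintro rfl
      rw [mul_zero] at hm'
      exact Nat.factorial_ne_zero _ hm'
    have hlt : padicValNat p (c + 1) < padicValNat p (c + ∑ j ∈ s, a j + 1) := by
      have h1 : ¬ p ^ padicValNat p (∑ j, a j) ∣ a i₀ := hi₀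
      rw [padicValNat_dvd_iff_le (ne_of_gt (ha i₀)), not_le, hc, hN] at h1
      have e : c + ∑ j ∈ s, a j + 1 = c + 1 + ∑ j ∈ s, a j := by ring
      rw [e]
      exact h1
    rw [hD, hNfac, padicValNat.mul (by omega : c + 1 ≠ 0) hE0,
      padicValNat.mul (by omega : c + ∑ j ∈ s, a j + 1 ≠ 0) (mul_ne_zero hE0 hm0), padicValNat.mul hE0 hm0]
    omega

end Groth.Agent.S13801
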