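import Groth.Statements.S13802
-- import your own Groth.Agent.* helpers here
import Mathlib
import Groth.Agent.Lib.helper7.EtaPt

set_option autoImplicit false
universe u
open EtaPt

namespace Groth.Agent.S13802

/-- For a commutative ring A with finitely many minimal prime ideals, the canonical map q_A from A to
the pointwise ring M_η(A) is integral. Here η is a natural transformation from the identity of the
category of fields to an endofunctor F with F(η_K) bijective and η_K purely inseparable for every
field K, N_η(A) is the product of the F(k(p)) over the primes p of A with diagonal map t_A, and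
M_η(A) ⊆ N_η(A) is the subring of elements sent into the range of t_R by every ring map from A to a
valuation ring R at whose fraction field η is bijective; q_A : A → M_η(A) is the corestriction of
t_A. -/
theorem result (η : EtaPt.FieldEndo.{u}) (A : Type u) [CommRing A]
    (hA : (minimalPrimes A).Finite) : (η.q A).IsIntegral := by
  classical
  intro xB
  obtain ⟨x, hx⟩ := xB
  have hex : ∀ p : PrimeSpectrum A, ∃ P : Polynomial A, P.Monic ∧
      Polynomial.eval₂ (Groth.Agent.Lib.helper7.ep_phi η p) (x p) P = 0 :=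
    fun p => Groth.Agent.Lib.helper7.ep_isIntegralElem η hx p
  choose Pf hPm hPe using hex
  let Pg : Ideal A → Polynomial A := fun I => if h : I.IsPrime then Pf ⟨I, h⟩ else 1
  have hPmonic : (∏ I ∈ hA.toFinset, Pg I).Monic := by
    apply Polynomial.monic_prod_of_monic
    intro I _
    show (Pg I).Monic
    by_cases h : I.IsPrime
    · simp only [Pg, dif_pos h]
      exact hPm _
    · simp only [Pg, dif_neg h]
      exact Polynomial.monic_one
  refine ⟨∏ I ∈ hA.toFinset, Pg I, hPmonic, ?_⟩
  apply Subtype.ext
  have hz : ((Polynomial.eval₂ (η.q A) ⟨x, hx⟩ (∏ I ∈ hA.toFinset, Pg I) : η.M A) : η.N A) =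
      Polynomial.eval₂ (η.t A) x (∏ I ∈ hA.toFinset, Pg I) :=
    Polynomial.hom_eval₂ (∏ I ∈ hA.toFinset, Pg I) (η.q A) (η.M A).subtype ⟨x, hx⟩
  have hzM : Polynomial.eval₂ (η.t A) x (∏ I ∈ hA.toFinset, Pg I) ∈ η.M A := by
    rw [← hz]
    exact Subtype.property _
  show ((Polynomial.eval₂ (η.q A) ⟨x, hx⟩ (∏ I ∈ hA.toFinset, Pg I) : η.M A) : η.N A) = 0
  rw [hz]
  apply Groth.Agent.Lib.helper7.ep_eq_zero_of_minimalPrimes η hzM
  intro p hp
  have hev : (Polynomial.eval₂ (η.t A) x (∏ I ∈ hA.toFinset, Pg I)) p =
      Polynomial.eval₂ (Groth.Agent.Lib.helper7.ep_phi η p) (x p) (∏ I ∈ hA.toFinset, Pg I) :=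
    Polynomial.hom_eval₂ (∏ I ∈ hA.toFinset, Pg I) (η.t A)
      (Pi.evalRingHom (fun p : PrimeSpectrum A => η.obj p.asIdeal.ResidueField) p) x
  rw [hev, Polynomial.eval₂_finsetProd]
  apply Finset.prod_eq_zero (hA.mem_toFinset.mpr hp)
  have hpg : Pg p.asIdeal = Pf p := by
    simp only [Pg, dif_pos p.isPrime]
  rw [hpg]
  exact hPe p

end Groth.Agent.S13802
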