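import Groth.Statements.S13803
-- import your own Groth.Agent.* helpers here
import Mathlib
import Groth.Agent.Lib.helper7.EtaPt

set_option autoImplicit false
universe u
open EtaPt

namespace Groth.Agent.S13803

/-- For a commutative ring A with finitely many minimal prime ideals, Spec of q_A : A → M_η(A) is a
bijection, and for a prime Q of M_η(A) over the prime P of A the map η at k(P), from k(P) to
F(k(P)), factors through the residue field map k(P) → k(Q). Here η is a natural transformation from
the identity of the category of fields to an endofunctor F with F(η_K) bijective and η_K purely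
inseparable for every field K, N_η(A) is the product of the F(k(p)) over the primes p of A with
diagonal map t_A, and M_η(A) ⊆ N_η(A) is the subring of elements sent into the range of t_R by every
ring map from A to a valuation ring R at whose fraction field η is bijective; q_A : A → M_η(A) is
the corestriction of t_A. -/
theorem result (η : EtaPt.FieldEndo.{u}) (A : Type u) [CommRing A]
    (hA : (minimalPrimes A).Finite) :
    Function.Bijective (PrimeSpectrum.comap (η.q A)) ∧
      ∀ Q : PrimeSpectrum (η.M A),
        ∃ φ : Q.asIdeal.ResidueField →+* η.obj (PrimeSpectrum.comap (η.q A) Q).asIdeal.ResidueField,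
          φ.comp (Ideal.ResidueField.map (PrimeSpectrum.comap (η.q A) Q).asIdeal Q.asIdeal (η.q A) rfl) =
            η.eta (PrimeSpectrum.comap (η.q A) Q).asIdeal.ResidueField := by
  refine ⟨⟨?_, ?_⟩, ?_⟩
  · intro Q Q' h
    apply PrimeSpectrum.ext
    ext x
    rw [Groth.Agent.Lib.helper7.ep_mem_iff η hA Q (PrimeSpectrum.comap (η.q A) Q) rfl x,
      Groth.Agent.Lib.helper7.ep_mem_iff η hA Q' (PrimeSpectrum.comap (η.q A) Q') rfl x, h]
  · intro p
    refine ⟨⟨RingHom.ker (Groth.Agent.Lib.helper7.ep_evM η p), RingHom.ker_isPrime _⟩, ?_⟩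
    apply PrimeSpectrum.ext
    ext a
    show η.q A a ∈ RingHom.ker (Groth.Agent.Lib.helper7.ep_evM η p) ↔ a ∈ p.asIdeal
    rw [RingHom.mem_ker]
    exact Groth.Agent.Lib.helper7.ep_phi_eq_zero_iff η p a
  · intro Q
    have hker : Q.asIdeal ≤ RingHom.ker
        (Groth.Agent.Lib.helper7.ep_evM η (PrimeSpectrum.comap (η.q A) Q)) := fun x hx =>
      RingHom.mem_ker.mpr ((Groth.Agent.Lib.helper7.ep_mem_iff η hA Q (PrimeSpectrum.comap (η.q A) Q) rfl x).mp hx)
    have hunits : Q.asIdeal.primeCompl ≤ (IsUnit.submonoid _).comap
        (Groth.Agent.Lib.helper7.ep_evM η (PrimeSpectrum.comap (η.q A) Q)) := by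
      intro x hx
      show IsUnit (Groth.Agent.Lib.helper7.ep_evM η _ x)
      apply IsUnit.mk0
      intro h
      exact hx ((Groth.Agent.Lib.helper7.ep_mem_iff η hA Q (PrimeSpectrum.comap (η.q A) Q) rfl x).mpr h)
    refine ⟨Ideal.ResidueField.lift Q.asIdeal
      (Groth.Agent.Lib.helper7.ep_evM η (PrimeSpectrum.comap (η.q A) Q)) hker hunits, ?_⟩
    apply Ideal.ResidueField.ringHom_ext
    ext a
    rw [RingHom.comp_apply, RingHom.comp_apply, Ideal.ResidueField.map_algebraMap,
      Ideal.ResidueField.lift_algebraMap]
    rfl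

end Groth.Agent.S13803
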