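import Groth.Statements.S13804
-- import your own Groth.Agent.* helpers here
import Mathlib
import Groth.Agent.Lib.helper7.EtaPt
import Groth.Agent.S13803

set_option autoImplicit false
universe u
open EtaPt

namespace Groth.Agent.S13804

/-- For a commutative ring A with finitely many minimal prime ideals, the map N_η(q_A) : N_η(A) →
N_η(M_η(A)) is bijective. Here η is a natural transformation from the identity of the category of
fields to an endofunctor F with F(η_K) bijective and η_K purely inseparable for every field K,
N_η(A) is the product of the F(k(p)) over the primes p of A with diagonal map t_A, and M_η(A) ⊆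
N_η(A) is the subring of elements sent into the range of t_R by every ring map from A to a valuation
ring R at whose fraction field η is bijective; q_A : A → M_η(A) is the corestriction of t_A. -/
theorem result (η : EtaPt.FieldEndo.{u}) (A : Type u) [CommRing A]
    (hA : (minimalPrimes A).Finite) : Function.Bijective (η.Nmap (η.q A)) := by
  obtain ⟨⟨hinj, hsurj⟩, hres⟩ := Groth.Agent.S13803.result η A hA
  have hbij : ∀ Q : PrimeSpectrum (η.M A), Function.Bijective
      (η.map (Ideal.ResidueField.map (PrimeSpectrum.comap (η.q A) Q).asIdeal Q.asIdeal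
        (η.q A) rfl)) := by
    intro Q
    obtain ⟨φ, hφ⟩ := hres Q
    refine ⟨RingHom.injective _, ?_⟩
    have h1 : (η.map φ).comp (η.map (Ideal.ResidueField.map
        (PrimeSpectrum.comap (η.q A) Q).asIdeal Q.asIdeal (η.q A) rfl)) =
        η.map (η.eta _) := by
      rw [← η.map_comp, hφ]
    intro y
    obtain ⟨z, hz⟩ := (η.bijective_map_eta _).2 (η.map φ y)
    refine ⟨z, (η.map φ).injective ?_⟩
    rw [← RingHom.comp_apply, h1, hz]
  constructor
  · intro x x' h
    funext p
    obtain ⟨Q, rfl⟩ := hsurj p
    have h2 := congrFun h Q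
    exact (hbij Q).1 h2
  · intro y
    have hex : ∀ p : PrimeSpectrum A, ∃ xp : η.obj p.asIdeal.ResidueField,
        ∀ (Q : PrimeSpectrum (η.M A)) (hQ : p = PrimeSpectrum.comap (η.q A) Q),
          η.map (Ideal.ResidueField.map (PrimeSpectrum.comap (η.q A) Q).asIdeal Q.asIdeal
            (η.q A) rfl) (hQ ▸ xp) = y Q := by
      intro p
      obtain ⟨Q₀, rfl⟩ := hsurj p
      obtain ⟨z, hz⟩ := (hbij Q₀).2 (y Q₀)
      refine ⟨z, ?_⟩
      intro Q hQ
      have hQQ : Q₀ = Q := hinj hQ
      subst hQQ
      exact hz
    choose x hx using hex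
    exact ⟨x, funext fun Q => hx _ Q rfl⟩

end Groth.Agent.S13804
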