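import Groth.Statements.S13805
-- import your own Groth.Agent.* helpers here
import Mathlib
import Groth.Agent.Lib.helper7.EtaPt
import Groth.Agent.Lib.helper7.EtaPt2
import Groth.Agent.S13802
import Groth.Agent.S13804

set_option autoImplicit false
universe u
open EtaPt

namespace Groth.Agent.S13805

open Groth.Agent.Lib.helper7

/-- For a commutative ring A with finitely many minimal prime ideals, every integral ring map f from
M_η(A) to a reduced ring B with N_η(f) bijective is itself bijective. Here η is a natural
transformation from the identity of the category of fields to an endofunctor F with F(η_K) bijective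
and η_K purely inseparable for every field K, N_η(A) is the product of the F(k(p)) over the primes p
of A with diagonal map t_A, and M_η(A) ⊆ N_η(A) is the subring of elements sent into the range of
t_R by every ring map from A to a valuation ring R at whose fraction field η is bijective; q_A : A →
M_η(A) is the corestriction of t_A. -/
theorem result (η : EtaPt.FieldEndo.{u}) (A : Type u) [CommRing A]
    (hA : (minimalPrimes A).Finite) (B : Type u) [CommRing B] [IsReduced B] (f : η.M A →+* B)
    (hf : f.IsIntegral) (hN : Function.Bijective (η.Nmap f)) : Function.Bijective f := by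
  have hq : (η.q A).IsIntegral := Groth.Agent.S13802.result η A hA
  have hNq : Function.Bijective (η.Nmap (η.q A)) := Groth.Agent.S13804.result η A hA
  have hh : (f.comp (η.q A)).IsIntegral := RingHom.IsIntegral.trans (η.q A) f hq hf
  have hNh : Function.Bijective (η.Nmap (f.comp (η.q A))) := by
    rw [ep_Nmap_comp]
    exact hN.comp hNq
  obtain ⟨θ, hθ⟩ := ep_exists_theta η (f.comp (η.q A)) hh hNh
  have hcomp : ∀ x : η.M A, η.Nmap (f.comp (η.q A)) (x : η.N A) = η.t B (f x) := by
    intro x
    rw [ep_Nmap_comp, RingHom.comp_apply, ep_Nmap_q_eq_t η hA x]
    exact η.Nmap_t_apply f x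
  constructor
  · intro x y hxy
    have h1 : η.Nmap (f.comp (η.q A)) (x : η.N A) = η.Nmap (f.comp (η.q A)) (y : η.N A) := by
      rw [hcomp, hcomp, hxy]
    exact Subtype.ext (hNh.1 h1)
  · intro b
    refine ⟨θ b, ?_⟩
    apply ep_t_injective_of_isReduced η B
    rw [← hcomp (θ b)]
    exact hθ b

end Groth.Agent.S13805
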