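import Groth.Statements.S13806
-- import your own Groth.Agent.* helpers here
import Mathlib
import Groth.Agent.Lib.helper7.EtaPt
import Groth.Agent.Lib.helper7.EtaPt2

set_option autoImplicit false
universe u
open EtaPt

namespace Groth.Agent.S13806

open Groth.Agent.Lib.helper7

/-- For a commutative ring A with finitely many minimal prime ideals and an integral ring map g : A → B
with N_η(g) bijective, there is exactly one ring map g' : B → M_η(A) with g' ∘ g = q_A. Here η is a
natural transformation from the identity of the category of fields to an endofunctor F with F(η_K)
bijective and η_K purely inseparable for every field K, N_η(A) is the product of the F(k(p)) over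
the primes p of A with diagonal map t_A, and M_η(A) ⊆ N_η(A) is the subring of elements sent into
the range of t_R by every ring map from A to a valuation ring R at whose fraction field η is
bijective; q_A : A → M_η(A) is the corestriction of t_A. -/
theorem result (η : EtaPt.FieldEndo.{u}) (A : Type u) [CommRing A]
    (hA : (minimalPrimes A).Finite) (B : Type u) [CommRing B] (g : A →+* B)
    (hg : g.IsIntegral) (hN : Function.Bijective (η.Nmap g)) :
    ∃! g' : B →+* η.M A, g'.comp g = η.q A := by
  obtain ⟨θ, hθ⟩ := ep_exists_theta η g hg hN
  have hθg : θ.comp g = η.q A := by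
    apply RingHom.ext
    intro a
    apply Subtype.ext
    apply hN.1
    exact (hθ (g a)).trans (η.Nmap_t_apply g a).symm
  refine ⟨θ, hθg, ?_⟩
  intro u hu
  apply RingHom.ext
  intro b
  apply Subtype.ext
  funext p
  have hev : (ep_evM η p).comp (η.q A) = ep_phi η p := RingHom.ext (fun a => ep_evM_q η p a)
  have h1 : ((ep_evM η p).comp u).comp g = ep_phi η p := by
    rw [RingHom.comp_assoc, hu, hev]
  have h2 : ((ep_evM η p).comp θ).comp g = ep_phi η p := by
    rw [RingHom.comp_assoc, hθg, hev]
  have h3 := ep_ringHom_ext_of_comap_injective η g
    (ep_comap_injective_of_Nmap_surjective η g hN.2) p _ _ h1 h2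
  exact RingHom.congr_fun h3 b

end Groth.Agent.S13806
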