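import Groth.Statements.S13807
-- import your own Groth.Agent.* helpers here
import Mathlib
import Groth.Agent.Lib.helper7.EtaPt
import Groth.Agent.Lib.helper7.EtaPt2

set_option autoImplicit false
universe u
open EtaPt

namespace Groth.Agent.S13807

open Groth.Agent.Lib.helper7

/-- For a field K the pointwise ring M_η(K) is all of N_η(K) = F(k((0))). Here η is a natural
transformation from the identity of the category of fields to an endofunctor F with F(η_K) bijective
and η_K purely inseparable for every field K, N_η(A) is the product of the F(k(p)) over the primes p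
of A with diagonal map t_A, and M_η(A) ⊆ N_η(A) is the subring of elements sent into the range of
t_R by every ring map from A to a valuation ring R at whose fraction field η is bijective; q_A : A →
M_η(A) is the corestriction of t_A. -/
theorem result (η : EtaPt.FieldEndo.{u}) (K : Type u) [Field K] : η.M K = ⊤ := by
  rw [Subring.eq_top_iff']
  intro x R _ _ _ hR g
  have hq : ∀ q : PrimeSpectrum R, (ep_bot K).asIdeal = q.asIdeal.comap g := fun q =>
    (Ideal.eq_bot_of_prime (q.asIdeal.comap g)).symm
  obtain ⟨n, c, hc⟩ := η.exists_pow_mem_range_eta (ep_bot K).asIdeal.ResidueField (x (ep_bot K))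
  haveI : (ep_bot K).asIdeal.IsMaximal := Ideal.bot_isMaximal
  obtain ⟨c', hc'⟩ := Ideal.algebraMap_residueField_surjective (ep_bot K).asIdeal c
  obtain ⟨r, hr⟩ := ep_field_root η (R := R) (L := (ep_bot R).asIdeal.ResidueField)
    (ep_bijective_eta_of_InV η R _ hR).2
    (Ideal.ResidueField.map (ep_bot K).asIdeal (ep_bot R).asIdeal g (hq _)) (x (ep_bot K)) c n hc
    (g c') (by rw [← hc', Ideal.ResidueField.map_algebraMap])
  refine RingHom.mem_range.mpr ⟨r, funext fun q => ?_⟩
  rw [ep_t_apply, ep_Nmap_apply_of_eq η g x q (ep_bot K) (hq q)]
  apply ep_field_check η _ (x (ep_bot K)) c n hc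
  rw [← map_pow, hr, ← hc', Ideal.ResidueField.map_algebraMap]

end Groth.Agent.S13807
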