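import Groth.Statements.S13809
-- import your own Groth.Agent.* helpers here
import Mathlib
import Groth.Agent.Lib.helper7.EtaPt
import Groth.Agent.Lib.helper7.EtaPt2

set_option autoImplicit false
universe u
open EtaPt

namespace Groth.Agent.S13809

open Groth.Agent.Lib.helper7

/-- For an integrally closed domain A such that η is bijective at the fraction field of A, the map q_A :
A → M_η(A) is bijective. Here η is a natural transformation from the identity of the category of
fields to an endofunctor F with F(η_K) bijective and η_K purely inseparable for every field K,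
N_η(A) is the product of the F(k(p)) over the primes p of A with diagonal map t_A, and M_η(A) ⊆
N_η(A) is the subring of elements sent into the range of t_R by every ring map from A to a valuation
ring R at whose fraction field η is bijective; q_A : A → M_η(A) is the corestriction of t_A. -/
theorem result (η : EtaPt.FieldEndo.{u}) (A : Type u) [CommRing A] [IsDomain A] [IsIntegrallyClosed A]
    (hA : η.InV A) : Function.Bijective (η.q A) := by
  constructor
  · intro a b hab
    exact ep_t_injective_of_isReduced η A (congrArg Subtype.val hab)
  · intro x
    have hK : Function.Bijective (η.eta (ep_bot A).asIdeal.ResidueField) :=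
      ep_bijective_eta_of_InV η A _ hA
    obtain ⟨ℓ, hℓ⟩ := hK.2 ((x : η.N A) (ep_bot A))
    have hint : IsIntegral A ℓ := by
      obtain ⟨P, hPm, hP⟩ := ep_isIntegralElem η x.2 (ep_bot A)
      refine ⟨P, hPm, ?_⟩
      apply hK.1
      rw [map_zero, Polynomial.hom_eval₂, hℓ]
      exact hP
    obtain ⟨a, ha⟩ := IsIntegrallyClosed.isIntegral_iff.mp hint
    refine ⟨a, ?_⟩
    apply Subtype.ext
    have hz : η.t A a - (x : η.N A) ∈ η.M A := Subring.sub_mem _ (η.t_mem_M A a) x.2
    have h0 : (η.t A a - (x : η.N A)) (ep_bot A) = 0 := by
      show η.t A a (ep_bot A) - (x : η.N A) (ep_bot A) = 0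
      rw [ep_t_apply, ha, hℓ, sub_self]
    have h1 : η.t A a - (x : η.N A) = 0 := by
      funext p'
      exact ep_eq_zero_of_le η hz (ep_bot A) p' bot_le h0
    exact sub_eq_zero.mp h1

end Groth.Agent.S13809
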