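import Groth.Statements.S13810
-- import your own Groth.Agent.* helpers here
import Mathlib
import Groth.Agent.Lib.helper7.EtaPt
import Groth.Agent.Lib.helper7.EtaPt2
import Groth.Agent.Lib.helper7.EtaPt5

set_option autoImplicit false
universe u
open EtaPt

namespace Groth.Agent.S13810

open Groth.Agent.Lib.helper7

/-- For commutative rings A and B, the pair of maps N_η of the two projections restricts to a bijection
from M_η(A × B) onto M_η(A) × M_η(B). Here η is a natural transformation from the identity of the
category of fields to an endofunctor F with F(η_K) bijective and η_K purely inseparable for every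
field K, N_η(A) is the product of the F(k(p)) over the primes p of A with diagonal map t_A, and
M_η(A) ⊆ N_η(A) is the subring of elements sent into the range of t_R by every ring map from A to a
valuation ring R at whose fraction field η is bijective; q_A : A → M_η(A) is the corestriction of
t_A. -/
theorem result (η : EtaPt.FieldEndo.{u}) (A B : Type u) [CommRing A] [CommRing B] :
    Set.BijOn (fun x : η.N (A × B) => (η.Nmap (RingHom.fst A B) x, η.Nmap (RingHom.snd A B) x))
      (η.M (A × B)) ((η.M A : Set (η.N A)) ×ˢ (η.M B : Set (η.N B))) := by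
  classical
  have hfst_bij : ∀ p : PrimeSpectrum A, Function.Bijective (η.map (Ideal.ResidueField.map
      (PrimeSpectrum.comap (RingHom.fst A B) p).asIdeal p.asIdeal (RingHom.fst A B) rfl)) :=
    fun p => ep_map_bijective η _ (RingHom.SurjectiveOnStalks.residueFieldMap_bijective
      (RingHom.surjectiveOnStalks_of_surjective (f := RingHom.fst A B) Prod.fst_surjective)
      _ _ rfl)
  have hsnd_bij : ∀ q : PrimeSpectrum B, Function.Bijective (η.map (Ideal.ResidueField.map
      (PrimeSpectrum.comap (RingHom.snd A B) q).asIdeal q.asIdeal (RingHom.snd A B) rfl)) :=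
    fun q => ep_map_bijective η _ (RingHom.SurjectiveOnStalks.residueFieldMap_bijective
      (RingHom.surjectiveOnStalks_of_surjective (f := RingHom.snd A B) Prod.snd_surjective)
      _ _ rfl)
  have hfst_inj : Function.Injective (PrimeSpectrum.comap (RingHom.fst A B)) :=
    PrimeSpectrum.comap_injective_of_surjective _ Prod.fst_surjective
  have hsnd_inj : Function.Injective (PrimeSpectrum.comap (RingHom.snd A B)) :=
    PrimeSpectrum.comap_injective_of_surjective _ Prod.snd_surjective
  have hdisj : ∀ (p : PrimeSpectrum A) (q : PrimeSpectrum B),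
      PrimeSpectrum.comap (RingHom.fst A B) p ≠ PrimeSpectrum.comap (RingHom.snd A B) q := by
    intro p q h
    have h1 : ((0 : A), (1 : B)) ∈ (PrimeSpectrum.comap (RingHom.fst A B) p).asIdeal := by
      show (0 : A) ∈ p.asIdeal
      exact p.asIdeal.zero_mem
    have h2 : ((1 : A), (0 : B)) ∈ (PrimeSpectrum.comap (RingHom.snd A B) q).asIdeal := by
      show (0 : B) ∈ q.asIdeal
      exact q.asIdeal.zero_mem
    rw [h] at h1
    have h3 := (PrimeSpectrum.comap (RingHom.snd A B) q).asIdeal.add_mem h1 h2
    have h4 : ((0 : A), (1 : B)) + ((1 : A), (0 : B)) = 1 := by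
      rw [Prod.mk_add_mk, zero_add, add_zero, Prod.mk_one_one]
    rw [h4] at h3
    exact (PrimeSpectrum.comap (RingHom.snd A B) q).isPrime.ne_top
      ((Ideal.eq_top_iff_one _).mpr h3)
  refine ⟨?_, ?_, ?_⟩
  · intro x hx
    exact ⟨ep_Nmap_mem_M η _ hx, ep_Nmap_mem_M η _ hx⟩
  · intro x _ x' _ h
    have h1 : η.Nmap (RingHom.fst A B) x = η.Nmap (RingHom.fst A B) x' := congrArg Prod.fst h
    have h2 : η.Nmap (RingHom.snd A B) x = η.Nmap (RingHom.snd A B) x' := congrArg Prod.snd h
    funext P
    rcases ep_prime_prod P with ⟨p, rfl⟩ | ⟨q, rfl⟩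
    · exact (hfst_bij p).1 (congrFun h1 p)
    · exact (hsnd_bij q).1 (congrFun h2 q)
  · rintro ⟨a, b⟩ ⟨ha, hb⟩
    have hex : ∀ P : PrimeSpectrum (A × B), ∃ xP : η.obj P.asIdeal.ResidueField,
        (∀ (p : PrimeSpectrum A) (hp : P = PrimeSpectrum.comap (RingHom.fst A B) p),
          η.map (Ideal.ResidueField.map (PrimeSpectrum.comap (RingHom.fst A B) p).asIdeal
            p.asIdeal (RingHom.fst A B) rfl) (hp ▸ xP) = a p) ∧
        (∀ (q : PrimeSpectrum B) (hq : P = PrimeSpectrum.comap (RingHom.snd A B) q),
          η.map (Ideal.ResidueField.map (PrimeSpectrum.comap (RingHom.snd A B) q).asIdeal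
            q.asIdeal (RingHom.snd A B) rfl) (hq ▸ xP) = b q) := by
      intro P
      rcases ep_prime_prod P with ⟨p₀, rfl⟩ | ⟨q₀, rfl⟩
      · obtain ⟨z, hz⟩ := (hfst_bij p₀).2 (a p₀)
        refine ⟨z, ?_, ?_⟩
        · intro p hp
          have hpp : p₀ = p := hfst_inj hp
          subst hpp
          exact hz
        · intro q hq
          exact (hdisj p₀ q hq).elim
      · obtain ⟨z, hz⟩ := (hsnd_bij q₀).2 (b q₀)
        refine ⟨z, ?_, ?_⟩
        · intro p hp
          exact (hdisj p q₀ hp.symm).elim
        · intro q hq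
          have hqq : q₀ = q := hsnd_inj hq
          subst hqq
          exact hz
    choose x hx using hex
    have hxa : η.Nmap (RingHom.fst A B) x = a := funext fun p => (hx _).1 p rfl
    have hxb : η.Nmap (RingHom.snd A B) x = b := funext fun q => (hx _).2 q rfl
    refine ⟨x, ?_, ?_⟩
    · intro R _ _ _ hR g
      have he : g (1, 0) * g (0, 1) = 0 := by
        rw [← map_mul, Prod.mk_mul_mk, mul_zero, zero_mul, Prod.mk_zero_zero, map_zero]
      rcases mul_eq_zero.mp he with h10 | h01
      · have hker : RingHom.ker (RingHom.snd A B) ≤ RingHom.ker g := by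
          rintro ⟨u, v⟩ huv
          have hv : v = 0 := RingHom.mem_ker.mp huv
          rw [RingHom.mem_ker]
          have e : ((u, v) : A × B) = (u, v) * (1, 0) := by
            rw [hv, Prod.mk_mul_mk, mul_one, mul_zero]
          rw [e, map_mul, h10, mul_zero]
        obtain ⟨g₂, hg⟩ : ∃ g₂ : B →+* R, g₂.comp (RingHom.snd A B) = g :=
          ⟨_, RingHom.liftOfRightInverse_comp (RingHom.snd A B) (fun v => ((0 : A), v))
            (fun v => rfl) ⟨g, hker⟩⟩
        have h2 : η.Nmap (g₂.comp (RingHom.snd A B)) x =
            η.Nmap g₂ (η.Nmap (RingHom.snd A B) x) := by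
          rw [ep_Nmap_comp]
          rfl
        rw [hg, hxb] at h2
        rw [h2]
        exact hb R hR g₂
      · have hker : RingHom.ker (RingHom.fst A B) ≤ RingHom.ker g := by
          rintro ⟨u, v⟩ huv
          have hu : u = 0 := RingHom.mem_ker.mp huv
          rw [RingHom.mem_ker]
          have e : ((u, v) : A × B) = (u, v) * (0, 1) := by
            rw [hu, Prod.mk_mul_mk, mul_one, mul_zero]
          rw [e, map_mul, h01, mul_zero]
        obtain ⟨g₁, hg⟩ : ∃ g₁ : A →+* R, g₁.comp (RingHom.fst A B) = g :=
          ⟨_, RingHom.liftOfRightInverse_comp (RingHom.fst A B) (fun u => (u, (0 : B)))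
            (fun u => rfl) ⟨g, hker⟩⟩
        have h2 : η.Nmap (g₁.comp (RingHom.fst A B)) x =
            η.Nmap g₁ (η.Nmap (RingHom.fst A B) x) := by
          rw [ep_Nmap_comp]
          rfl
        rw [hg, hxa] at h2
        rw [h2]
        exact ha R hR g₁
    · show (η.Nmap (RingHom.fst A B) x, η.Nmap (RingHom.snd A B) x) = (a, b)
      rw [hxa, hxb]

end Groth.Agent.S13810
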