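import Groth.Statements.S13814
-- import your own Groth.Agent.* helpers here
import Mathlib
import Groth.Agent.Lib.helper7.EtaPt
import Groth.Agent.Lib.helper7.EtaPt2
import Groth.Agent.Lib.helper7.EtaPt3

set_option autoImplicit false
universe u
open EtaPt

namespace Groth.Agent.S13814

open Groth.Agent.Lib.helper7

/-- Let R be a valuation ring with fraction field K = k((0)) such that η is bijective at K, or such that
every field of the same characteristic as R at which η is bijective is perfect. Then the ring M_η(R)
is again a valuation ring, every element of F(K) is a quotient of generic components of elements of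
M_η(R), and an element of F(K) that is both the generic component of an element of M_η(R) and in the
image of K comes from R. (The published statement assumes nothing about η beyond the standing
conditions, and then fails: for the endofunctor equal to the perfect closure on the fields of
characteristic 2 and transcendence degree at least 2 over the prime field and to the identity on
every other field, and R = F_2(s)[t] localised at (t), neither of the elements (s^(1/2) t, 0) and
(t, 0) of M_η(R) ⊆ F(K) × F_2(s) divides the other, so M_η(R) is not a valuation ring. This row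
assumes that η is bijective at Frac R, or that every field of the same characteristic as R at which
η is bijective is perfect; both the identity and the perfect closure satisfy this.) Here η is a
natural transformation from the identity of the category of fields to an endofunctor F with F(η_K)
bijective and η_K purely inseparable for every field K, N_η(A) is the product of the F(k(p)) over
the primes p of A with diagonal map t_A, and M_η(A) ⊆ N_η(A) is the subring of elements sent into
the range of t_R by every ring map from A to a valuation ring R at whose fraction field η is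
bijective; q_A : A → M_η(A) is the corestriction of t_A. -/
theorem result (η : EtaPt.FieldEndo.{u}) (R : Type u) [CommRing R] [IsDomain R] [ValuationRing R]
    (hη : η.InV R ∨ ∀ (k : Type u) [Field k], ringChar k = ringChar R →
      Function.Bijective (η.eta k) → PerfectField k) :
    IsDomain (η.M R) ∧ PreValuationRing (η.M R) ∧
      (∀ y : η.obj (⊥ : Ideal R).ResidueField, ∃ a b : η.M R,
        (b : η.N R) ⟨⊥, Ideal.isPrime_bot⟩ ≠ 0 ∧
          y * (b : η.N R) ⟨⊥, Ideal.isPrime_bot⟩ = (a : η.N R) ⟨⊥, Ideal.isPrime_bot⟩) ∧
      (fun x : η.N R => x ⟨⊥, Ideal.isPrime_bot⟩) '' (η.M R : Set (η.N R)) ∩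
          Set.range (η.eta (⊥ : Ideal R).ResidueField) =
        Set.range ((η.eta (⊥ : Ideal R).ResidueField).comp (algebraMap R (⊥ : Ideal R).ResidueField)) := by
  have hinj : Function.Injective (ep_evM η (ep_bot R)) := by
    intro a b hab
    exact Subtype.ext (ep_ev_injOn η R a.2 b.2 hab)
  have hdich := ep_val_dichotomy η R hη
  have e1 : ∀ α β : η.obj (ep_bot R).asIdeal.ResidueField, α ≠ 0 → α * (β * α⁻¹) = β := by
    intro α β h
    rw [mul_comm β, ← mul_assoc, mul_inv_cancel₀ h, one_mul]
  have e2 : ∀ α β : η.obj (ep_bot R).asIdeal.ResidueField, β ≠ 0 → β * (β * α⁻¹)⁻¹ = α := by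
    intro α β h
    rw [mul_inv_rev, inv_inv, mul_comm α, ← mul_assoc, mul_inv_cancel₀ h, one_mul]
  refine ⟨Function.Injective.isDomain (ep_evM η (ep_bot R)) hinj, ⟨?_⟩, ?_, ?_⟩
  · intro a b
    by_cases hα : (a : η.N R) (ep_bot R) = 0
    · refine ⟨0, Or.inr ?_⟩
      rw [mul_zero]
      have ha0 : a = 0 := hinj (by rw [map_zero]; exact hα)
      exact ha0.symm
    · rcases hdich ((b : η.N R) (ep_bot R) * ((a : η.N R) (ep_bot R))⁻¹) with
        ⟨z, hz, hzy⟩ | ⟨hy0, z, hz, hzy⟩
      · refine ⟨⟨z, hz⟩, Or.inl (hinj ?_)⟩
        rw [map_mul]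
        show (a : η.N R) (ep_bot R) * z (ep_bot R) = (b : η.N R) (ep_bot R)
        rw [hzy]
        exact e1 _ _ hα
      · refine ⟨⟨z, hz⟩, Or.inr (hinj ?_)⟩
        rw [map_mul]
        show (b : η.N R) (ep_bot R) * z (ep_bot R) = (a : η.N R) (ep_bot R)
        have hβ : (b : η.N R) (ep_bot R) ≠ 0 := fun h => hy0 (by rw [h, zero_mul])
        rw [hzy]
        exact e2 _ _ hβ
  · intro y
    rcases hdich y with ⟨z, hz, hzy⟩ | ⟨hy0, z, hz, hzy⟩
    · refine ⟨⟨z, hz⟩, 1, ?_, ?_⟩
      · show (1 : η.obj (ep_bot R).asIdeal.ResidueField) ≠ 0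
        exact one_ne_zero
      · show y * 1 = z (ep_bot R)
        rw [mul_one, hzy]
    · refine ⟨1, ⟨z, hz⟩, ?_, ?_⟩
      · show z (ep_bot R) ≠ 0
        rw [hzy]
        exact inv_ne_zero hy0
      · show y * z (ep_bot R) = 1
        rw [hzy, mul_inv_cancel₀ hy0]
  · ext y
    constructor
    · rintro ⟨⟨x, hx, hxy⟩, ⟨ℓ, hℓ⟩⟩
      have hxy' : x (ep_bot R) = y := hxy
      obtain ⟨P, hPm, hP⟩ := ep_isIntegralElem η hx (ep_bot R)
      have hint : IsIntegral R ℓ := by
        refine ⟨P, hPm, ?_⟩
        apply (η.eta (⊥ : Ideal R).ResidueField).injective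
        rw [map_zero, Polynomial.hom_eval₂, hℓ, ← hxy']
        exact hP
      obtain ⟨r, hr⟩ := IsIntegrallyClosed.isIntegral_iff.mp hint
      exact ⟨r, by rw [RingHom.comp_apply, hr, hℓ]⟩
    · rintro ⟨r, hr⟩
      exact ⟨⟨η.t R r, η.t_mem_M R r, hr⟩, ⟨algebraMap R _ r, hr⟩⟩

end Groth.Agent.S13814
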