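import Groth.Statements.S13815
-- import your own Groth.Agent.* helpers here
import Mathlib
import Groth.Agent.Lib.helper7.EtaPt
import Groth.Agent.Lib.helper7.EtaPt2
import Groth.Agent.S13804

set_option autoImplicit false
universe u
open EtaPt

namespace Groth.Agent.S13815

open Groth.Agent.Lib.helper7

/-- For a commutative ring A with finitely many minimal prime ideals, the two maps M_η(A) → M_η(M_η(A)),
namely q at the ring M_η(A) and the restriction of N_η(q_A), coincide, and this map is bijective.
Here η is a natural transformation from the identity of the category of fields to an endofunctor F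
with F(η_K) bijective and η_K purely inseparable for every field K, N_η(A) is the product of the
F(k(p)) over the primes p of A with diagonal map t_A, and M_η(A) ⊆ N_η(A) is the subring of elements
sent into the range of t_R by every ring map from A to a valuation ring R at whose fraction field η
is bijective; q_A : A → M_η(A) is the corestriction of t_A. -/
theorem result (η : EtaPt.FieldEndo.{u}) (A : Type u) [CommRing A] (hA : (minimalPrimes A).Finite) :
    (∀ x : η.M A, η.Nmap (η.q A) (x : η.N A) = η.t (η.M A) x) ∧ Function.Bijective (η.q (η.M A)) := by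
  have part1 : ∀ x : η.M A, η.Nmap (η.q A) (x : η.N A) = η.t (η.M A) x :=
    fun x => ep_Nmap_q_eq_t η hA x
  obtain ⟨hinj, hsurj⟩ := Groth.Agent.S13804.result η A hA
  refine ⟨part1, ⟨?_, ?_⟩⟩
  · rw [injective_iff_map_eq_zero]
    intro x hx
    have h1 : η.t (η.M A) x = 0 := congrArg Subtype.val hx
    rw [← part1 x] at h1
    have h2 : (x : η.N A) = 0 := hinj (by rw [h1, map_zero])
    exact Subtype.ext h2
  · intro y
    obtain ⟨x, hx⟩ := hsurj (y : η.N (η.M A))
    have hxM : x ∈ η.M A := by
      intro R _ _ _ hR g
      obtain ⟨ρ, -, hρg⟩ := ep_exists_rho η hR g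
      have h2 : η.Nmap (ρ.comp (η.q A)) x = η.Nmap ρ (η.Nmap (η.q A) x) := by
        rw [ep_Nmap_comp]
        rfl
      rw [hρg, hx] at h2
      rw [h2]
      exact y.2 R hR ρ
    refine ⟨⟨x, hxM⟩, Subtype.ext ?_⟩
    show η.t (η.M A) ⟨x, hxM⟩ = (y : η.N (η.M A))
    rw [← part1 ⟨x, hxM⟩]
    exact hx

end Groth.Agent.S13815
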