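import Groth.Statements.S13818
-- import your own Groth.Agent.* helpers here
import Mathlib
import Groth.Agent.Lib.helper7.EtaPt
import Groth.Agent.Lib.helper7.EtaPt2
import Groth.Agent.Lib.helper7.EtaPt4
import Groth.Agent.S13802
import Groth.Agent.S13803

set_option autoImplicit false
universe u
open EtaPt

namespace Groth.Agent.S13818

open Groth.Agent.Lib.helper7

/-- For a ring map f : A → B with A having finitely many minimal prime ideals and Spec(f) surjective:
for every prime Q of (B/A)_η over the prime P of A, η at k(P) factors through the residue field map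
k(P) → k(Q), and N_η(q_{B/A}) is bijective. Here η is a natural transformation from the identity of
the category of fields to an endofunctor F with F(η_K) bijective and η_K purely inseparable for
every field K, N_η(A) is the product of the F(k(p)) over the primes p of A with diagonal map t_A,
and M_η(A) ⊆ N_η(A) is the subring of elements sent into the range of t_R by every ring map from A
to a valuation ring R at whose fraction field η is bijective; q_A : A → M_η(A) is the corestriction
of t_A. For a ring map f : A → B, (B/A)_η ⊆ B denotes the subring of elements b with t_B(b) in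
N_η(f)(M_η(A)) (the image in B of the fibre product of M_η(A) and B over M_η(B)), and q_{B/A} : A →
(B/A)_η the corestriction of f. -/
theorem result (η : EtaPt.FieldEndo.{u}) {A B : Type u} [CommRing A] [CommRing B] (hA : (minimalPrimes A).Finite)
    (f : A →+* B) (hs : Function.Surjective (PrimeSpectrum.comap f)) :
    (∀ Q : PrimeSpectrum (η.rel f),
        ∃ φ : Q.asIdeal.ResidueField →+* η.obj (PrimeSpectrum.comap (η.qRel f) Q).asIdeal.ResidueField,
          φ.comp (Ideal.ResidueField.map (PrimeSpectrum.comap (η.qRel f) Q).asIdeal Q.asIdeal (η.qRel f) rfl) =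
            η.eta (PrimeSpectrum.comap (η.qRel f) Q).asIdeal.ResidueField) ∧
      Function.Bijective (η.Nmap (η.qRel f)) := by
  obtain ⟨θ, hθ, hθq, hint, hbij, hlift⟩ := ep_rel_main η f hs (Groth.Agent.S13802.result η A hA)
    (Groth.Agent.S13803.result η A hA).1
  have hres : ∀ Q : PrimeSpectrum (η.rel f),
      ∃ φ : Q.asIdeal.ResidueField →+*
          η.obj (PrimeSpectrum.comap (η.qRel f) Q).asIdeal.ResidueField,
        φ.comp (Ideal.ResidueField.map (PrimeSpectrum.comap (η.qRel f) Q).asIdeal Q.asIdeal
          (η.qRel f) rfl) = η.eta (PrimeSpectrum.comap (η.qRel f) Q).asIdeal.ResidueField := by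
    intro Q
    obtain ⟨Q', hQ'⟩ := hlift Q
    subst hQ'
    have h1 : (PrimeSpectrum.comap θ Q').asIdeal = Q'.asIdeal.comap θ := rfl
    have h2 : (PrimeSpectrum.comap (η.qRel f) (PrimeSpectrum.comap θ Q')).asIdeal =
        (PrimeSpectrum.comap θ Q').asIdeal.comap (η.qRel f) := rfl
    have hP : (PrimeSpectrum.comap (η.qRel f) (PrimeSpectrum.comap θ Q')).asIdeal =
        Q'.asIdeal.comap (η.q A) := by
      show (Q'.asIdeal.comap θ).comap (η.qRel f) = Q'.asIdeal.comap (η.q A)
      rw [Ideal.comap_comap, hθq]
    refine ⟨(ep_resLift η hA Q' (PrimeSpectrum.comap (η.qRel f) (PrimeSpectrum.comap θ Q')) hP).comp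
      (Ideal.ResidueField.map (PrimeSpectrum.comap θ Q').asIdeal Q'.asIdeal θ h1), ?_⟩
    apply Ideal.ResidueField.ringHom_ext
    ext a
    show ep_resLift η hA Q' (PrimeSpectrum.comap (η.qRel f) (PrimeSpectrum.comap θ Q')) hP
      (Ideal.ResidueField.map (PrimeSpectrum.comap θ Q').asIdeal Q'.asIdeal θ h1
        (Ideal.ResidueField.map (PrimeSpectrum.comap (η.qRel f) (PrimeSpectrum.comap θ Q')).asIdeal
          (PrimeSpectrum.comap θ Q').asIdeal (η.qRel f) h2 (algebraMap A _ a))) =
      η.eta _ (algebraMap A _ a)
    rw [Ideal.ResidueField.map_algebraMap, Ideal.ResidueField.map_algebraMap,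
      ep_resLift_algebraMap]
    have e : θ (η.qRel f a) = η.q A a := RingHom.congr_fun hθq a
    rw [e]
    rfl
  exact ⟨hres, ep_Nmap_bijective_of η (η.qRel f) hbij hres⟩

end Groth.Agent.S13818
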