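import Groth.Statements.S13820
-- import your own Groth.Agent.* helpers here
import Mathlib
import Groth.Agent.Lib.helper7.EtaPt
import Groth.Agent.Lib.helper7.EtaPt2
import Groth.Agent.Lib.helper7.EtaPt4
import Groth.Agent.S13802
import Groth.Agent.S13803

set_option autoImplicit false
universe u
open EtaPt

namespace Groth.Agent.S13820

open Groth.Agent.Lib.helper7

/-- Let A have finitely many minimal prime ideals and let B be an A-algebra with Spec B → Spec A
surjective, C the integral closure of A in B; then the inclusion C ⊆ B carries (C/A)_η onto (B/A)_η.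
Here η is a natural transformation from the identity of the category of fields to an endofunctor F
with F(η_K) bijective and η_K purely inseparable for every field K, N_η(A) is the product of the
F(k(p)) over the primes p of A with diagonal map t_A, and M_η(A) ⊆ N_η(A) is the subring of elements
sent into the range of t_R by every ring map from A to a valuation ring R at whose fraction field η
is bijective; q_A : A → M_η(A) is the corestriction of t_A. For a ring map f : A → B, (B/A)_η ⊆ B
denotes the subring of elements b with t_B(b) in N_η(f)(M_η(A)) (the image in B of the fibre product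
of M_η(A) and B over M_η(B)), and q_{B/A} : A → (B/A)_η the corestriction of f. -/
theorem result (η : EtaPt.FieldEndo.{u}) (A B : Type u) [CommRing A] [CommRing B] [Algebra A B]
    (hA : (minimalPrimes A).Finite) (hs : Function.Surjective (PrimeSpectrum.comap (algebraMap A B))) :
    (η.rel (algebraMap A (integralClosure A B))).map (integralClosure A B).val.toRingHom =
      η.rel (algebraMap A B) := by
  obtain ⟨θ, hθ, hθq, hint, hbij, hlift⟩ := ep_rel_main η (algebraMap A B) hs
    (Groth.Agent.S13802.result η A hA) (Groth.Agent.S13803.result η A hA).1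
  have hcompAB : (integralClosure A B).val.toRingHom.comp
      (algebraMap A (integralClosure A B)) = algebraMap A B := RingHom.ext (fun a => rfl)
  apply le_antisymm
  · rintro b ⟨c, ⟨x, hx, hxc⟩, rfl⟩
    refine ⟨x, hx, ?_⟩
    rw [← hcompAB, ep_Nmap_comp, RingHom.comp_apply, hxc]
    exact η.Nmap_t_apply _ c
  · intro b hb
    obtain ⟨x, hx, hxb⟩ := hb
    have hbint : b ∈ integralClosure A B := by
      obtain ⟨P, hPm, hP⟩ := hint ⟨b, ⟨x, hx, hxb⟩⟩
      refine ⟨P, hPm, ?_⟩
      have h1 := congrArg (η.rel (algebraMap A B)).subtype hP
      rw [Polynomial.hom_eval₂, map_zero] at h1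
      exact h1
    -- surjectivity of Spec B → Spec D
    have hsD : Function.Surjective (PrimeSpectrum.comap (η.rel (algebraMap A B)).subtype) := by
      intro Q
      obtain ⟨QB, hQB⟩ := hs (PrimeSpectrum.comap (η.qRel (algebraMap A B)) Q)
      refine ⟨QB, hbij.1 ?_⟩
      rw [← hQB]
      rfl
    have hinjD := ep_Nmap_injective_of_comap_surjective η (η.rel (algebraMap A B)).subtype hsD
    have htD : η.t (η.rel (algebraMap A B)) ⟨b, ⟨x, hx, hxb⟩⟩ =
        η.Nmap (η.qRel (algebraMap A B)) x := by
      apply hinjD
      rw [η.Nmap_t_apply]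
      have h2 : η.Nmap ((η.rel (algebraMap A B)).subtype.comp (η.qRel (algebraMap A B))) x =
          η.Nmap (η.rel (algebraMap A B)).subtype (η.Nmap (η.qRel (algebraMap A B)) x) := by
        rw [ep_Nmap_comp]
        rfl
      rw [← h2]
      exact hxb.symm
    let f₂ : η.rel (algebraMap A B) →+* integralClosure A B :=
      (η.rel (algebraMap A B)).subtype.codRestrict (integralClosure A B) (fun d => by
        obtain ⟨P, hPm, hP⟩ := hint d
        refine ⟨P, hPm, ?_⟩
        have h1 := congrArg (η.rel (algebraMap A B)).subtype hP
        rw [Polynomial.hom_eval₂, map_zero] at h1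
        exact h1)
    have hf₂ : f₂.comp (η.qRel (algebraMap A B)) = algebraMap A (integralClosure A B) :=
      RingHom.ext (fun a => Subtype.ext rfl)
    refine ⟨f₂ ⟨b, ⟨x, hx, hxb⟩⟩, ⟨x, hx, ?_⟩, rfl⟩
    rw [← hf₂, ep_Nmap_comp, RingHom.comp_apply, ← htD]
    exact η.Nmap_t_apply f₂ _

end Groth.Agent.S13820
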