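import Groth.Statements.S13822
-- import your own Groth.Agent.* helpers here
import Mathlib
import Groth.Agent.Lib.helper7.EtaPt
import Groth.Agent.Lib.helper7.EtaPt2
import Groth.Agent.Lib.helper7.EtaPt4

set_option autoImplicit false
universe u
open scoped TensorProduct
open EtaPt

namespace Groth.Agent.S13822

open Groth.Agent.Lib.helper7

/-- Let A → A' be faithfully flat with A and A' having finitely many minimal prime ideals, and B an
A-algebra with Spec B → Spec A surjective; if q_{(A' ⊗ B)/A'} is bijective then q_{B/A} is
bijective. Here η is a natural transformation from the identity of the category of fields to an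
endofunctor F with F(η_K) bijective and η_K purely inseparable for every field K, N_η(A) is the
product of the F(k(p)) over the primes p of A with diagonal map t_A, and M_η(A) ⊆ N_η(A) is the
subring of elements sent into the range of t_R by every ring map from A to a valuation ring R at
whose fraction field η is bijective; q_A : A → M_η(A) is the corestriction of t_A. For a ring map f
: A → B, (B/A)_η ⊆ B denotes the subring of elements b with t_B(b) in N_η(f)(M_η(A)) (the image in B
of the fibre product of M_η(A) and B over M_η(B)), and q_{B/A} : A → (B/A)_η the corestriction of f. -/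
theorem result (η : EtaPt.FieldEndo.{u}) (A A' B : Type u) [CommRing A] [CommRing A'] [CommRing B]
    [Algebra A A'] [Algebra A B] [Module.FaithfullyFlat A A']
    (hA : (minimalPrimes A).Finite) (hA' : (minimalPrimes A').Finite)
    (hs : Function.Surjective (PrimeSpectrum.comap (algebraMap A B)))
    (h : Function.Bijective (η.qRel (Algebra.TensorProduct.includeLeftRingHom : A' →+* A' ⊗[A] B))) :
    Function.Bijective (η.qRel (algebraMap A B)) := by
  have hβ : ∀ a : A, (Algebra.TensorProduct.includeLeftRingHom : A' →+* A' ⊗[A] B)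
      (algebraMap A A' a) =
      (Algebra.TensorProduct.includeRight : B →ₐ[A] A' ⊗[A] B) (algebraMap A B a) := by
    intro a
    show (algebraMap A A' a) ⊗ₜ[A] (1 : B) = (1 : A') ⊗ₜ[A] (algebraMap A B a)
    rw [Algebra.algebraMap_eq_smul_one, Algebra.algebraMap_eq_smul_one, TensorProduct.smul_tmul]
  have hβ' : (Algebra.TensorProduct.includeLeftRingHom : A' →+* A' ⊗[A] B).comp
      (algebraMap A A') =
      ((Algebra.TensorProduct.includeRight : B →ₐ[A] A' ⊗[A] B) : B →+* A' ⊗[A] B).comp
        (algebraMap A B) := RingHom.ext hβ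
  have hιinj : Function.Injective
      (Algebra.TensorProduct.includeLeftRingHom : A' →+* A' ⊗[A] B) :=
    fun u v huv => h.1 (Subtype.ext huv)
  constructor
  · intro a a' haa
    have h1 : algebraMap A B a = algebraMap A B a' := congrArg Subtype.val haa
    have h2 : (Algebra.TensorProduct.includeLeftRingHom : A' →+* A' ⊗[A] B)
        (algebraMap A A' a) =
        (Algebra.TensorProduct.includeLeftRingHom : A' →+* A' ⊗[A] B) (algebraMap A A' a') := by
      rw [hβ a, hβ a', h1]
    exact FaithfulSMul.algebraMap_injective A A' (hιinj h2)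
  · rintro ⟨b, x, hx, hxb⟩
    have hmem : (Algebra.TensorProduct.includeRight : B →ₐ[A] A' ⊗[A] B) b ∈
        η.rel (Algebra.TensorProduct.includeLeftRingHom : A' →+* A' ⊗[A] B) := by
      refine ⟨η.Nmap (algebraMap A A') x, ep_Nmap_mem_M η _ hx, ?_⟩
      have s1 : η.Nmap ((Algebra.TensorProduct.includeLeftRingHom : A' →+* A' ⊗[A] B).comp
          (algebraMap A A')) x =
          η.Nmap (Algebra.TensorProduct.includeLeftRingHom : A' →+* A' ⊗[A] B)
            (η.Nmap (algebraMap A A') x) := by
        rw [ep_Nmap_comp]
        rfl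
      have s2 : η.Nmap (((Algebra.TensorProduct.includeRight : B →ₐ[A] A' ⊗[A] B) :
          B →+* A' ⊗[A] B).comp (algebraMap A B)) x =
          η.Nmap ((Algebra.TensorProduct.includeRight : B →ₐ[A] A' ⊗[A] B) : B →+* A' ⊗[A] B)
            (η.Nmap (algebraMap A B) x) := by
        rw [ep_Nmap_comp]
        rfl
      rw [← s1, hβ', s2, hxb]
      exact η.Nmap_t_apply _ b
    obtain ⟨a', ha'⟩ := h.2 ⟨_, hmem⟩
    have ha'' : a' ⊗ₜ[A] (1 : B) = (1 : A') ⊗ₜ[A] b := congrArg Subtype.val ha'
    have h3 := congrArg (LinearMap.lTensor A' (LinearMap.range (Algebra.linearMap A B)).mkQ) ha''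
    rw [LinearMap.lTensor_tmul, LinearMap.lTensor_tmul] at h3
    have h4 : (LinearMap.range (Algebra.linearMap A B)).mkQ (1 : B) = 0 := by
      rw [Submodule.mkQ_apply, Submodule.Quotient.mk_eq_zero]
      exact ⟨1, by rw [Algebra.linearMap_apply, map_one]⟩
    rw [h4, TensorProduct.tmul_zero] at h3
    have h5 : TensorProduct.mk A A' (B ⧸ LinearMap.range (Algebra.linearMap A B)) 1
        ((LinearMap.range (Algebra.linearMap A B)).mkQ b) =
        TensorProduct.mk A A' (B ⧸ LinearMap.range (Algebra.linearMap A B)) 1 0 := by
      rw [TensorProduct.mk_apply, TensorProduct.mk_apply, TensorProduct.tmul_zero]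
      exact h3.symm
    have h6 := Module.FaithfullyFlat.tensorProduct_mk_injective (A := A) (B := A')
      (B ⧸ LinearMap.range (Algebra.linearMap A B)) h5
    rw [Submodule.mkQ_apply, Submodule.Quotient.mk_eq_zero] at h6
    obtain ⟨a, ha⟩ := h6
    exact ⟨a, Subtype.ext ha⟩

end Groth.Agent.S13822
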