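import Groth.Statements.S13824
-- import your own Groth.Agent.* helpers here
import Mathlib

set_option autoImplicit false
universe u
open EtaPt

namespace Groth.Agent.S13824

section
open EtaPt

theorem fe_map_bijective (η : EtaPt.FieldEndo.{u}) {K L : Type u} [Field K] [Field L]
    (e : K →+* L) (he : Function.Bijective e) : Function.Bijective (η.map e) := by
  let e' : K ≃+* L := RingEquiv.ofBijective e he
  have h1 : e.comp (e'.symm : L →+* K) = RingHom.id L := by
    ext x
    exact e'.apply_symm_apply x
  have h3 : (η.map e).comp (η.map (e'.symm : L →+* K)) = RingHom.id _ := by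
    rw [← η.map_comp, h1, η.map_id]
  exact ⟨(η.map e).injective, fun b => ⟨η.map (e'.symm : L →+* K) b, RingHom.congr_fun h3 b⟩⟩

end

/-- For a commutative ring A and f ∈ A, N_η(A)[1/t_A(f)] → N_η(A_f) is bijective: every element of
N_η(A_f) times a power of the image of f comes from N_η(A), and an element of N_η(A) dies in
N_η(A_f) only if a power of t_A(f) kills it. Here η is a natural transformation from the identity of
the category of fields to an endofunctor F with F(η_K) bijective and η_K purely inseparable for
every field K, N_η(A) is the product of the F(k(p)) over the primes p of A with diagonal map t_A,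
and M_η(A) ⊆ N_η(A) is the subring of elements sent into the range of t_R by every ring map from A
to a valuation ring R at whose fraction field η is bijective; q_A : A → M_η(A) is the corestriction
of t_A. -/
theorem result (η : EtaPt.FieldEndo.{u}) (A : Type u) [CommRing A] (f : A) :
    (∀ y : η.N (Localization.Away f), ∃ (x : η.N A) (n : ℕ),
        y * η.t (Localization.Away f) (algebraMap A (Localization.Away f) f) ^ n =
          η.Nmap (algebraMap A (Localization.Away f)) x) ∧
      ∀ x : η.N A, η.Nmap (algebraMap A (Localization.Away f)) x = 0 → ∃ n : ℕ, η.t A f ^ n * x = 0 := by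
  constructor
  · intro y
    have hbij : ∀ q : PrimeSpectrum (Localization.Away f), Function.Bijective
        (η.map (Ideal.ResidueField.map
          (PrimeSpectrum.comap (algebraMap A (Localization.Away f)) q).asIdeal q.asIdeal
          (algebraMap A (Localization.Away f)) rfl)) := fun q =>
      fe_map_bijective η _ (RingHom.SurjectiveOnStalks.residueFieldMap_bijective
        (RingHom.surjectiveOnStalks_of_isLocalization (Submonoid.powers f) (Localization.Away f))
        _ _ rfl)
    have hinj : Function.Injective (PrimeSpectrum.comap (algebraMap A (Localization.Away f))) :=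
      PrimeSpectrum.localization_comap_injective (Localization.Away f) (Submonoid.powers f)
    have hex : ∀ p : PrimeSpectrum A, ∃ xp : η.obj p.asIdeal.ResidueField,
        ∀ (q : PrimeSpectrum (Localization.Away f))
          (hq : p = PrimeSpectrum.comap (algebraMap A (Localization.Away f)) q),
          η.map (Ideal.ResidueField.map
            (PrimeSpectrum.comap (algebraMap A (Localization.Away f)) q).asIdeal q.asIdeal
            (algebraMap A (Localization.Away f)) rfl) (hq ▸ xp) = y q := by
      intro p
      by_cases h : ∃ q₀, p = PrimeSpectrum.comap (algebraMap A (Localization.Away f)) q₀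
      · obtain ⟨q₀, rfl⟩ := h
        obtain ⟨z, hz⟩ := (hbij q₀).2 (y q₀)
        refine ⟨z, ?_⟩
        intro q hq
        have hqq : q₀ = q := hinj hq
        subst hqq
        exact hz
      · exact ⟨0, fun q hq => (h ⟨q, hq⟩).elim⟩
    choose x hx using hex
    refine ⟨x, 0, ?_⟩
    rw [pow_zero, mul_one]
    funext q
    exact (hx _ q rfl).symm
  · intro x hx
    refine ⟨1, ?_⟩
    rw [pow_one]
    funext p
    show (η.t A f) p * x p = 0
    by_cases hf : f ∈ p.asIdeal
    · have h0 : (η.t A f) p = 0 := by
        show η.eta _ (algebraMap A p.asIdeal.ResidueField f) = 0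
        rw [Ideal.algebraMap_residueField_eq_zero.mpr hf, map_zero]
      rw [h0, zero_mul]
    · have hp : p ∈ Set.range (PrimeSpectrum.comap (algebraMap A (Localization.Away f))) := by
        rw [PrimeSpectrum.localization_away_comap_range (Localization.Away f) f]
        exact hf
      obtain ⟨q, rfl⟩ := hp
      have h1 := congrFun hx q
      have h2 : η.map (Ideal.ResidueField.map
          (PrimeSpectrum.comap (algebraMap A (Localization.Away f)) q).asIdeal q.asIdeal
          (algebraMap A (Localization.Away f)) rfl)
          (x (PrimeSpectrum.comap (algebraMap A (Localization.Away f)) q)) = 0 := h1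
      have hx0 : x (PrimeSpectrum.comap (algebraMap A (Localization.Away f)) q) = 0 :=
        (map_eq_zero _).mp h2
      rw [hx0, mul_zero]

end Groth.Agent.S13824
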