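import Groth.Statements.S13825
-- import your own Groth.Agent.* helpers here
import Mathlib
import Groth.Agent.Lib.helper7.EtaPt
import Groth.Agent.Lib.helper7.EtaPt2
import Groth.Agent.Lib.helper7.EtaPt5
import Groth.Agent.Lib.helper7.EtaPt6
import Groth.Agent.S13802
import Groth.Agent.S13824

set_option autoImplicit false
universe u
open EtaPt

namespace Groth.Agent.S13825

open Groth.Agent.Lib.helper7

/-- For a commutative ring A with finitely many minimal prime ideals and f ∈ A, M_η(A)[1/f] → M_η(A_f)
is bijective: every element of M_η(A_f) times a power of the image of f is the image of an element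
of M_η(A), and an element of M_η(A) with zero image in N_η(A_f) is killed by a power of t_A(f). Here
η is a natural transformation from the identity of the category of fields to an endofunctor F with
F(η_K) bijective and η_K purely inseparable for every field K, N_η(A) is the product of the F(k(p))
over the primes p of A with diagonal map t_A, and M_η(A) ⊆ N_η(A) is the subring of elements sent
into the range of t_R by every ring map from A to a valuation ring R at whose fraction field η is
bijective; q_A : A → M_η(A) is the corestriction of t_A. -/
theorem result (η : EtaPt.FieldEndo.{u}) (A : Type u) [CommRing A] (hA : (minimalPrimes A).Finite) (f : A) :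
    (∀ y ∈ η.M (Localization.Away f), ∃ x ∈ η.M A, ∃ n : ℕ,
        y * η.t (Localization.Away f) (algebraMap A (Localization.Away f) f) ^ n =
          η.Nmap (algebraMap A (Localization.Away f)) x) ∧
      ∀ x ∈ η.M A, η.Nmap (algebraMap A (Localization.Away f)) x = 0 → ∃ n : ℕ, η.t A f ^ n * x = 0 := by
  obtain ⟨h1, h2⟩ := Groth.Agent.S13824.result η A f
  refine ⟨?_, fun x _ hx => h2 x hx⟩
  intro y hy
  obtain ⟨x₀, n₀, hx₀⟩ := h1 y
  have hq' : (η.q (Localization.Away f)).IsIntegral :=
    Groth.Agent.S13802.result η _ (ep_finite_minimalPrimes_away hA f)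
  obtain ⟨k, hk⟩ := ep_away_mem η f hq' y hy x₀ n₀ hx₀
  refine ⟨η.t A f ^ (k + 1) * x₀, hk, n₀ + (k + 1), ?_⟩
  rw [pow_add (η.t (Localization.Away f) (algebraMap A (Localization.Away f) f)) n₀ (k + 1),
    ← mul_assoc, hx₀, map_mul, map_pow, η.Nmap_t_apply]
  exact mul_comm _ _

end Groth.Agent.S13825
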