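import Groth.Statements.S13826
-- import your own Groth.Agent.* helpers here
import Mathlib
import Groth.Agent.Lib.helper7.UH
import Groth.Agent.Lib.helper7.EtaPt4
import Groth.Agent.S13802
import Groth.Agent.S13803
import Groth.Agent.S13806

set_option autoImplicit false
universe u
open EtaPt

namespace Groth.Agent.S13826

open Groth.Agent.Lib.helper7

/-- For the identity endofunctor and a commutative ring A with finitely many minimal prime ideals, q_A :
A → M(A) is a seminormalization of A: Spec(q_A) is a universal homeomorphism with trivial residue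
field extensions, final among ring maps out of A with these properties. Here M(A) ⊆ ∏_p k(p) is the
subring of families whose image in ∏_q k(q), for every ring map from A to a valuation ring R, is the
diagonal image of an element of R. -/
theorem result (A : Type u) [CommRing A] (hA : (minimalPrimes A).Finite) :
    HTop.IsRingSN (EtaPt.FieldEndo.ident.{u}.q A) := by
  have h2 := Groth.Agent.S13802.result EtaPt.FieldEndo.ident.{u} A hA
  obtain ⟨h3, h3'⟩ := Groth.Agent.S13803.result EtaPt.FieldEndo.ident.{u} A hA
  refine ⟨?_, ?_⟩
  · apply uh_of_ring _ h2 h3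
    intro Q
    obtain ⟨φ', hφ'⟩ := h3' Q
    have hφinj : Function.Injective φ' := RingHom.injective _
    refine ⟨RingHom.injective _, ?_⟩
    intro z
    refine ⟨φ' z, ?_⟩
    apply hφinj
    have h5 := congrFun (congrArg DFunLike.coe hφ') (φ' z)
    exact h5
  · intro C _ ψ hψ1 hψ2
    obtain ⟨hi, hb, -⟩ := uh_to_ring ψ hψ1
    have hr := uh_resIso_to_ring ψ hψ2
    have hN : Function.Bijective (EtaPt.FieldEndo.ident.{u}.Nmap ψ) := by
      apply ep_Nmap_bijective_of _ ψ hb
      intro Q
      refine ⟨(RingEquiv.ofBijective _ (hr Q)).symm.toRingHom, ?_⟩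
      exact RingHom.ext fun z => (RingEquiv.ofBijective _ (hr Q)).symm_apply_apply z
    exact Groth.Agent.S13806.result _ A hA C ψ hi hN

end Groth.Agent.S13826
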