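import Groth.Statements.S13827
-- import your own Groth.Agent.* helpers here
import Mathlib
import Groth.Agent.Lib.helper7.EtaPt
import Groth.Agent.Lib.helper7.EtaPt2
import Groth.Agent.Lib.helper7.EtaPt4
import Groth.Agent.S13809

set_option autoImplicit false
universe u
open EtaPt

namespace Groth.Agent.S13827

open Groth.Agent.Lib.helper7

section

theorem ep_normal_local (η : EtaPt.FieldEndo.{u}) {A : Type u} [CommRing A]
    (hA : (minimalPrimes A).Finite) (p : PrimeSpectrum A)
    [IsDomain (Localization.AtPrime p.asIdeal)]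
    [IsIntegrallyClosed (Localization.AtPrime p.asIdeal)]
    (hη : ∀ p₀ : PrimeSpectrum A, p₀.asIdeal ∈ minimalPrimes A →
      Function.Bijective (η.eta p₀.asIdeal.ResidueField))
    (x : η.N A) (hx : x ∈ η.M A) :
    ∃ s a : A, s ∉ p.asIdeal ∧ η.t A s * x = η.t A a := by
  classical
  haveI hkp : (RingHom.ker (algebraMap A (Localization.AtPrime p.asIdeal))).IsPrime :=
    RingHom.ker_isPrime _
  have F1 : ∀ p' : PrimeSpectrum A, p'.asIdeal ≤ p.asIdeal →
      RingHom.ker (algebraMap A (Localization.AtPrime p.asIdeal)) ≤ p'.asIdeal := by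
    intro p' hp' a ha
    obtain ⟨m, hm⟩ := (IsLocalization.map_eq_zero_iff p.asIdeal.primeCompl
      (Localization.AtPrime p.asIdeal) a).mp (RingHom.mem_ker.mp ha)
    have h1 : (m : A) * a ∈ p'.asIdeal := by
      rw [hm]
      exact p'.asIdeal.zero_mem
    rcases p'.isPrime.mem_or_mem h1 with h2 | h2
    · exact (m.2 (hp' h2)).elim
    · exact h2
  have F3 : RingHom.ker (algebraMap A (Localization.AtPrime p.asIdeal)) ∈ minimalPrimes A := by
    refine ⟨⟨hkp, bot_le⟩, ?_⟩
    intro q hq hle
    exact F1 ⟨q, hq.1⟩ (hle.trans (F1 p le_rfl))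
  have hker : RingHom.ker (algebraMap A (Localization.AtPrime p.asIdeal)) =
      (ep_bot (Localization.AtPrime p.asIdeal)).asIdeal.comap
        (algebraMap A (Localization.AtPrime p.asIdeal)) := rfl
  have hbij : Function.Bijective (Ideal.ResidueField.map
      (RingHom.ker (algebraMap A (Localization.AtPrime p.asIdeal)))
      (ep_bot (Localization.AtPrime p.asIdeal)).asIdeal
      (algebraMap A (Localization.AtPrime p.asIdeal)) hker) :=
    RingHom.SurjectiveOnStalks.residueFieldMap_bijective
      (RingHom.surjectiveOnStalks_of_isLocalization p.asIdeal.primeCompl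
        (Localization.AtPrime p.asIdeal)) _ _ hker
  have hInV : η.InV (Localization.AtPrime p.asIdeal) :=
    ep_InV_of_isFractionRing η (Localization.AtPrime p.asIdeal)
      (ep_bot (Localization.AtPrime p.asIdeal)).asIdeal.ResidueField
      (ep_bijective_eta_of_ringEquiv η (RingEquiv.ofBijective _ hbij)
        (hη ⟨RingHom.ker (algebraMap A (Localization.AtPrime p.asIdeal)), hkp⟩ F3))
  obtain ⟨u, hu⟩ := (Groth.Agent.S13809.result η (Localization.AtPrime p.asIdeal) hInV).2
    ⟨η.Nmap (algebraMap A (Localization.AtPrime p.asIdeal)) x, ep_Nmap_mem_M η _ hx⟩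
  have hu' : η.t (Localization.AtPrime p.asIdeal) u =
      η.Nmap (algebraMap A (Localization.AtPrime p.asIdeal)) x := congrArg Subtype.val hu
  obtain ⟨⟨a, s⟩, hsa⟩ := IsLocalization.surj p.asIdeal.primeCompl u
  have hsa' : u * algebraMap A (Localization.AtPrime p.asIdeal) (s : A) =
      algebraMap A (Localization.AtPrime p.asIdeal) a := hsa
  have hy : η.t A (s : A) * x - η.t A a ∈ η.M A :=
    Subring.sub_mem _ (Subring.mul_mem _ (η.t_mem_M A _) hx) (η.t_mem_M A a)
  have hNy : η.Nmap (algebraMap A (Localization.AtPrime p.asIdeal))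
      (η.t A (s : A) * x - η.t A a) = 0 := by
    rw [map_sub, map_mul, η.Nmap_t_apply, η.Nmap_t_apply, ← hu', ← map_mul, mul_comm, hsa',
      sub_self]
  have F7 : (η.t A (s : A) * x - η.t A a)
      ⟨RingHom.ker (algebraMap A (Localization.AtPrime p.asIdeal)), hkp⟩ = 0 := by
    have h1 := congrFun hNy (ep_bot (Localization.AtPrime p.asIdeal))
    rw [ep_Nmap_apply_of_eq η _ _ _
      ⟨RingHom.ker (algebraMap A (Localization.AtPrime p.asIdeal)), hkp⟩ hker] at h1
    exact (map_eq_zero _).mp h1
  have hnot : ¬ ((hA.toFinset.erase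
      (RingHom.ker (algebraMap A (Localization.AtPrime p.asIdeal)))).inf id ≤ p.asIdeal) := by
    intro hle
    obtain ⟨I, hI, hIp⟩ := (Ideal.IsPrime.inf_le' p.isPrime).mp hle
    rw [Finset.mem_erase, Set.Finite.mem_toFinset] at hI
    have h1 : RingHom.ker (algebraMap A (Localization.AtPrime p.asIdeal)) ≤ I :=
      F1 ⟨I, hI.2.1.1⟩ hIp
    have h2 : I ≤ RingHom.ker (algebraMap A (Localization.AtPrime p.asIdeal)) :=
      hI.2.2 ⟨hkp, bot_le⟩ h1
    exact hI.1 (le_antisymm h2 h1)
  obtain ⟨s', hs'mem, hs'p⟩ := SetLike.not_le_iff_exists.mp hnot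
  have F9 : η.t A s' * (η.t A (s : A) * x - η.t A a) = 0 := by
    funext P
    show η.t A s' P * (η.t A (s : A) * x - η.t A a) P = 0
    obtain ⟨I, hI, hle⟩ := Ideal.exists_minimalPrimes_le (I := ⊥) (J := P.asIdeal) bot_le
    by_cases hIp0 : I = RingHom.ker (algebraMap A (Localization.AtPrime p.asIdeal))
    · have h0 : (η.t A (s : A) * x - η.t A a) P = 0 :=
        ep_eq_zero_of_le η hy
          ⟨RingHom.ker (algebraMap A (Localization.AtPrime p.asIdeal)), hkp⟩ P
          (hIp0.symm.le.trans hle) F7
      rw [h0, mul_zero]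
    · have hsI : s' ∈ I := by
        have h1 : (hA.toFinset.erase
            (RingHom.ker (algebraMap A (Localization.AtPrime p.asIdeal)))).inf id ≤ id I :=
          Finset.inf_le (Finset.mem_erase.mpr ⟨hIp0, hA.mem_toFinset.mpr hI⟩)
        exact h1 hs'mem
      have h0 : η.t A s' P = 0 := (ep_phi_eq_zero_iff η P s').mpr (hle hsI)
      rw [h0, zero_mul]
  refine ⟨s' * (s : A), s' * a, ?_, ?_⟩
  · intro hmem
    rcases p.isPrime.mem_or_mem hmem with h1 | h1
    · exact hs'p h1
    · exact s.2 h1
  · rw [mul_sub] at F9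
    rw [map_mul, map_mul, mul_assoc]
    exact sub_eq_zero.mp F9

end

/-- For a normal ring A (every localization at a prime is an integrally closed domain) with finitely
many minimal prime ideals such that η is bijective at the residue field of every minimal prime, q_A
: A → M_η(A) is bijective. Here η is a natural transformation from the identity of the category of
fields to an endofunctor F with F(η_K) bijective and η_K purely inseparable for every field K,
N_η(A) is the product of the F(k(p)) over the primes p of A with diagonal map t_A, and M_η(A) ⊆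
N_η(A) is the subring of elements sent into the range of t_R by every ring map from A to a valuation
ring R at whose fraction field η is bijective; q_A : A → M_η(A) is the corestriction of t_A. -/
theorem result (η : EtaPt.FieldEndo.{u}) (A : Type u) [CommRing A] (hn : EGA4.IsNormalRing A)
    (hA : (minimalPrimes A).Finite)
    (hη : ∀ p : PrimeSpectrum A, p.asIdeal ∈ minimalPrimes A → Function.Bijective (η.eta p.asIdeal.ResidueField)) :
    Function.Bijective (η.q A) := by
  classical
  have hloc : ∀ p : PrimeSpectrum A, ∀ x ∈ η.M A,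
      ∃ s a : A, s ∉ p.asIdeal ∧ η.t A s * x = η.t A a := by
    intro p x hx
    haveI hdom : IsDomain (Localization.AtPrime p.asIdeal) := (hn p.asIdeal).1
    haveI hic : IsIntegrallyClosed (Localization.AtPrime p.asIdeal) := (hn p.asIdeal).2
    exact ep_normal_local η hA p hη x hx
  have hred : IsReduced A := by
    constructor
    intro a ha
    apply eq_zero_of_localization
    intro J hJ
    haveI := (hn J).1
    exact (ha.map (algebraMap A (Localization.AtPrime J))).eq_zero
  constructor
  · intro a b hab
    exact ep_t_injective_of_isReduced η A (congrArg Subtype.val hab)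
  · intro x
    let I : Ideal A :=
      { carrier := {s | ∃ a, η.t A s * (x : η.N A) = η.t A a}
        add_mem' := by
          rintro s₁ s₂ ⟨a, ha⟩ ⟨b, hb⟩
          exact ⟨a + b, by rw [map_add, add_mul, ha, hb, map_add]⟩
        zero_mem' := ⟨0, by rw [map_zero, zero_mul]⟩
        smul_mem' := by
          rintro c s₁ ⟨a, ha⟩
          exact ⟨c * a, by rw [smul_eq_mul, map_mul, mul_assoc, ha, map_mul]⟩ }
    have hI : I = ⊤ := by
      by_contra hne
      obtain ⟨m, hm, hIm⟩ := Ideal.exists_le_maximal I hne
      obtain ⟨s, a, hs, hsa⟩ := hloc ⟨m, hm.isPrime⟩ x x.2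
      exact hs (hIm ⟨a, hsa⟩)
    have h1 : (1 : A) ∈ I := by
      rw [hI]
      exact Submodule.mem_top
    obtain ⟨a, ha⟩ := h1
    rw [map_one, one_mul] at ha
    exact ⟨a, Subtype.ext ha.symm⟩

end Groth.Agent.S13827
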