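import Groth.Statements.S13829
-- import your own Groth.Agent.* helpers here
import Mathlib
import Groth.Agent.Lib.helper7.EtaPt
import Groth.Agent.Lib.helper7.EtaPt2
import Groth.Agent.Lib.helper7.EtaPt5
import Groth.Agent.Lib.helper7.EtaPt6
import Groth.Agent.S13824
import Groth.Agent.S13825

set_option autoImplicit false
universe u
open EtaPt

namespace Groth.Agent.S13829

open Groth.Agent.Lib.helper7

/-- For A with finitely many minimal prime ideals, f ∈ A and a ring map φ : A → B with Spec(φ)
surjective, the localization of (B/A)_η at f is (B_f/A_f)_η: the image of (B/A)_η in B_f lies in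
(B_f/A_f)_η, and every element of (B_f/A_f)_η times a power of the image of f is the image of an
element of (B/A)_η. Here η is a natural transformation from the identity of the category of fields
to an endofunctor F with F(η_K) bijective and η_K purely inseparable for every field K, N_η(A) is
the product of the F(k(p)) over the primes p of A with diagonal map t_A, and M_η(A) ⊆ N_η(A) is the
subring of elements sent into the range of t_R by every ring map from A to a valuation ring R at
whose fraction field η is bijective; q_A : A → M_η(A) is the corestriction of t_A. For a ring map f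
: A → B, (B/A)_η ⊆ B denotes the subring of elements b with t_B(b) in N_η(f)(M_η(A)) (the image in B
of the fibre product of M_η(A) and B over M_η(B)), and q_{B/A} : A → (B/A)_η the corestriction of f. -/
theorem result (η : EtaPt.FieldEndo.{u}) {A B : Type u} [CommRing A] [CommRing B] (hA : (minimalPrimes A).Finite)
    (φ : A →+* B) (hs : Function.Surjective (PrimeSpectrum.comap φ)) (f : A) :
    (η.rel φ).map (algebraMap B (Localization.Away (φ f))) ≤ η.rel (Localization.awayMap φ f) ∧
      ∀ y ∈ η.rel (Localization.awayMap φ f), ∃ x ∈ η.rel φ, ∃ n : ℕ,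
        y * algebraMap B (Localization.Away (φ f)) (φ f) ^ n = algebraMap B (Localization.Away (φ f)) x := by
  have hsq : (Localization.awayMap φ f).comp (algebraMap A (Localization.Away f)) =
      (algebraMap B (Localization.Away (φ f))).comp φ :=
    RingHom.ext (fun a => by
      simp only [RingHom.comp_apply, Localization.awayMap, IsLocalization.Away.map,
        IsLocalization.map_eq])
  have hcomp1 : ∀ X : η.N A, η.Nmap (algebraMap B (Localization.Away (φ f))) (η.Nmap φ X) =
      η.Nmap (Localization.awayMap φ f) (η.Nmap (algebraMap A (Localization.Away f)) X) := by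
    intro X
    have h1 : η.Nmap ((Localization.awayMap φ f).comp (algebraMap A (Localization.Away f))) X =
        η.Nmap (Localization.awayMap φ f) (η.Nmap (algebraMap A (Localization.Away f)) X) := by
      rw [ep_Nmap_comp]
      rfl
    have h2 : η.Nmap ((algebraMap B (Localization.Away (φ f))).comp φ) X =
        η.Nmap (algebraMap B (Localization.Away (φ f))) (η.Nmap φ X) := by
      rw [ep_Nmap_comp]
      rfl
    rw [← h1, hsq, h2]
  constructor
  · rintro y ⟨b, ⟨x, hx, hxb⟩, rfl⟩
    refine ⟨η.Nmap (algebraMap A (Localization.Away f)) x, ep_Nmap_mem_M η _ hx, ?_⟩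
    rw [← hcomp1, hxb]
    exact η.Nmap_t_apply (algebraMap B (Localization.Away (φ f))) b
  · intro y hy
    obtain ⟨x', hx', hxy⟩ := hy
    obtain ⟨x, hx, n, hxn⟩ := (Groth.Agent.S13825.result η A hA f).1 x' hx'
    obtain ⟨⟨b, ⟨s, hs'⟩⟩, hbs⟩ := IsLocalization.surj (Submonoid.powers (φ f)) y
    obtain ⟨m, rfl⟩ := (Submonoid.mem_powers_iff _ _).mp hs'
    have hbs' : y * algebraMap B (Localization.Away (φ f)) (φ f) ^ m =
        algebraMap B (Localization.Away (φ f)) b := by
      rw [← map_pow]
      exact hbs
    have e1 : algebraMap B (Localization.Away (φ f)) (b * φ f ^ n) =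
        y * algebraMap B (Localization.Away (φ f)) (φ f) ^ m *
          algebraMap B (Localization.Away (φ f)) (φ f) ^ n := by
      rw [map_mul, map_pow, ← hbs']
    have hL : η.Nmap (algebraMap B (Localization.Away (φ f))) (η.t B (b * φ f ^ n)) =
        η.t (Localization.Away (φ f)) (y * algebraMap B (Localization.Away (φ f)) (φ f) ^ m *
          algebraMap B (Localization.Away (φ f)) (φ f) ^ n) := by
      rw [η.Nmap_t_apply, e1]
    have s2 : η.Nmap (algebraMap A (Localization.Away f)) (x * η.t A f ^ m) =
        x' * η.t (Localization.Away f) (algebraMap A (Localization.Away f) f) ^ n *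
          η.t (Localization.Away f) (algebraMap A (Localization.Away f) f) ^ m := by
      rw [map_mul, map_pow, η.Nmap_t_apply, ← hxn]
    have s4 : η.Nmap (Localization.awayMap φ f)
        (η.t (Localization.Away f) (algebraMap A (Localization.Away f) f)) =
        η.t (Localization.Away (φ f)) (algebraMap B (Localization.Away (φ f)) (φ f)) := by
      rw [η.Nmap_t_apply]
      exact congrArg _ (RingHom.congr_fun hsq f)
    have hRt : η.Nmap (algebraMap B (Localization.Away (φ f))) (η.Nmap φ (x * η.t A f ^ m)) =
        η.t (Localization.Away (φ f)) (y * algebraMap B (Localization.Away (φ f)) (φ f) ^ m *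
          algebraMap B (Localization.Away (φ f)) (φ f) ^ n) := by
      rw [hcomp1, s2]
      simp only [map_mul, map_pow]
      rw [s4, hxy]
      ring
    have key : η.Nmap (algebraMap B (Localization.Away (φ f)))
        (η.t B (b * φ f ^ n) - η.Nmap φ (x * η.t A f ^ m)) = 0 := by
      rw [map_sub, hL, hRt, sub_self]
    obtain ⟨n', hn'⟩ := (Groth.Agent.S13824.result η B (φ f)).2 _ key
    have h5 : η.t B (φ f) ^ n' * η.t B (b * φ f ^ n) =
        η.t B (φ f) ^ n' * η.Nmap φ (x * η.t A f ^ m) := by
      rw [mul_sub] at hn'
      exact sub_eq_zero.mp hn'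
    have h6 : η.t B (φ f ^ n' * (b * φ f ^ n)) = η.t B (φ f) ^ n' * η.t B (b * φ f ^ n) := by
      rw [map_mul, map_pow]
    have h7 : η.Nmap φ (η.t A f ^ n' * (x * η.t A f ^ m)) =
        η.t B (φ f) ^ n' * η.Nmap φ (x * η.t A f ^ m) := by
      rw [map_mul, map_pow, η.Nmap_t_apply]
    refine ⟨φ f ^ n' * (b * φ f ^ n), ⟨η.t A f ^ n' * (x * η.t A f ^ m), ?_, ?_⟩, m + n + n', ?_⟩
    · exact Subring.mul_mem _ (Subring.pow_mem _ (η.t_mem_M A f) _)
        (Subring.mul_mem _ hx (Subring.pow_mem _ (η.t_mem_M A f) _))
    · rw [h7, h6, h5]
    · rw [map_mul, map_pow, e1]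
      ring

end Groth.Agent.S13829
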