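import Groth.Statements.S13830
-- import your own Groth.Agent.* helpers here
import Mathlib
import Groth.Agent.Lib.helper7.UH
import Groth.Agent.Lib.helper7.EtaPt4
import Groth.Agent.S13817
import Groth.Agent.S13818
import Groth.Agent.S13819

set_option autoImplicit false
universe u
open AlgebraicGeometry
open EtaPt

namespace Groth.Agent.S13830

open Groth.Agent.Lib.helper7

/-- For the identity endofunctor, a commutative ring A with finitely many minimal prime ideals and an
A-algebra B with Spec B → Spec A surjective, the subring (B/A) ⊆ B (elements b whose residue classes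
(b mod q)_q come from a family in M(A) ⊆ ∏_p k(p), M(A) being the families that come from an element
of R after any base change to a valuation ring R) is the seminormalization of A in B: Spec (B/A) →
Spec A is a universal homeomorphism with trivial residue field extensions, and every A-subalgebra C
of B with these two properties is contained in (B/A). -/
theorem result (A B : Type u) [CommRing A] [CommRing B] [Algebra A B] (hA : (minimalPrimes A).Finite)
    (hs : Function.Surjective (PrimeSpectrum.comap (algebraMap A B))) :
    (FlatMor.IsUnivHomeo (Spec.map (CommRingCat.ofHom (EtaPt.FieldEndo.ident.{u}.qRel (algebraMap A B)))) ∧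
      HTop.ResidueFieldsIso (Spec.map (CommRingCat.ofHom (EtaPt.FieldEndo.ident.{u}.qRel (algebraMap A B))))) ∧
    ∀ C : Subalgebra A B,
      FlatMor.IsUnivHomeo (Spec.map (CommRingCat.ofHom (algebraMap A C))) →
      HTop.ResidueFieldsIso (Spec.map (CommRingCat.ofHom (algebraMap A C))) →
      C.toSubring ≤ EtaPt.FieldEndo.ident.{u}.rel (algebraMap A B) := by
  refine ⟨?_, ?_⟩
  · obtain ⟨h1, h2⟩ := Groth.Agent.S13817.result EtaPt.FieldEndo.ident.{u} hA (algebraMap A B) hs
    obtain ⟨h3, -⟩ := Groth.Agent.S13818.result EtaPt.FieldEndo.ident.{u} hA (algebraMap A B) hs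
    apply uh_of_ring _ h1 h2
    intro Q
    obtain ⟨φ', hφ'⟩ := h3 Q
    have hφinj : Function.Injective φ' := RingHom.injective _
    refine ⟨RingHom.injective _, ?_⟩
    intro z
    refine ⟨φ' z, ?_⟩
    apply hφinj
    have h5 := congrFun (congrArg DFunLike.coe hφ') (φ' z)
    exact h5
  · intro C hC1 hC2 b hb
    obtain ⟨hi, hbij, -⟩ := uh_to_ring (algebraMap A C) hC1
    have hr := uh_resIso_to_ring (algebraMap A C) hC2
    have hN : Function.Bijective (EtaPt.FieldEndo.ident.{u}.Nmap (algebraMap A C)) := by
      apply ep_Nmap_bijective_of _ (algebraMap A C) hbij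
      intro Q
      refine ⟨(RingEquiv.ofBijective _ (hr Q)).symm.toRingHom, ?_⟩
      exact RingHom.ext fun z => (RingEquiv.ofBijective _ (hr Q)).symm_apply_apply z
    have hcomp : (C.val : C →+* B).comp (algebraMap A C) = algebraMap A B :=
      AlgHom.comp_algebraMap C.val
    have h19 := Groth.Agent.S13819.result EtaPt.FieldEndo.ident.{u} hA (algebraMap A C)
      (C.val : C →+* B) (by rw [hcomp]; exact hs) hi hN
    rw [hcomp] at h19
    exact h19 (RingHom.mem_range.mpr ⟨⟨b, Subalgebra.mem_toSubring.mp hb⟩, rfl⟩)

end Groth.Agent.S13830
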