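import Groth.Statements.S13835
-- import your own Groth.Agent.* helpers here
import Mathlib

set_option autoImplicit false
universe u
open AlgebraicGeometry CategoryTheory
open ChowMon

namespace Groth.Agent.S13835

/-- Let p : T' → T be a universal homeomorphism of separated schemes with T reduced and f' : T' → Y a
morphism (Y separated); if T has an open cover by affine opens U_i such that each restriction of f'
to p⁻¹(U_i) factors through p⁻¹(U_i) → U_i, then f' factors through p. -/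
theorem result {T' T Y : Scheme.{u}} (p : T' ⟶ T) (hp : FlatMor.IsUnivHomeo p) [IsReduced T]
    [T.IsSeparated] [T'.IsSeparated] [Y.IsSeparated] (f' : T' ⟶ Y)
    {ι : Type u} (U : ι → T.affineOpens) (hU : ⨆ i, (U i : T.Opens) = ⊤)
    (hloc : ∀ i, ∃ fi : ((U i : T.Opens) : Scheme.{u}) ⟶ Y, (p ⁻¹ᵁ (U i : T.Opens)).ι ≫ f' = (p ∣_ (U i : T.Opens)) ≫ fi) :
    ∃ f : T ⟶ Y, p ≫ f = f' := by
  classical
  choose fi hfi using hloc
  have hp0 : IsHomeomorph p.base := (MorphismProperty.universally_le _) _ hp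
  haveI : Surjective p := ⟨hp0.surjective⟩
  have key : ∀ (i : ι) {W : Scheme.{u}} (q : W ⟶ T') (g : W ⟶ ((U i : T.Opens) : Scheme.{u})),
      q ≫ p = g ≫ (U i : T.Opens).ι → q ≫ f' = g ≫ fi i := by
    intro i W q g h
    have hpb := isPullback_morphismRestrict p (U i : T.Opens)
    obtain ⟨r, hr1, hr2⟩ : ∃ r : W ⟶ ((p ⁻¹ᵁ (U i : T.Opens) : T'.Opens) : Scheme.{u}),
        r ≫ (p ∣_ (U i : T.Opens)) = g ∧ r ≫ (p ⁻¹ᵁ (U i : T.Opens)).ι = q :=
      ⟨hpb.lift g q h.symm, hpb.lift_fst _ _ _, hpb.lift_snd _ _ _⟩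
    rw [← hr2, Category.assoc, hfi i, ← Category.assoc, hr1]
  let 𝒰 : T.OpenCover := T.openCoverOfIsOpenCover (fun i => (U i : T.Opens))
    (TopologicalSpace.IsOpenCover.mk hU)
  have compat : ∀ i j : ι, Limits.pullback.fst (𝒰.f i) (𝒰.f j) ≫ fi i =
      Limits.pullback.snd (𝒰.f i) (𝒰.f j) ≫ fi j := by
    intro i j
    haveI : IsReduced (Limits.pullback (𝒰.f i) (𝒰.f j)) :=
      isReduced_of_isOpenImmersion (Limits.pullback.fst (𝒰.f i) (𝒰.f j) ≫ 𝒰.f i)
    refine ext_of_isDominant_of_isSeparated (Limits.terminal.from Y) (Limits.terminal.hom_ext _ _)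
      (Limits.pullback.snd p (Limits.pullback.fst (𝒰.f i) (𝒰.f j) ≫ 𝒰.f i)) ?_
    have e1 := key i (Limits.pullback.fst p (Limits.pullback.fst (𝒰.f i) (𝒰.f j) ≫ 𝒰.f i))
      (Limits.pullback.snd p _ ≫ Limits.pullback.fst (𝒰.f i) (𝒰.f j))
      (by rw [Category.assoc]; exact Limits.pullback.condition)
    have e2 := key j (Limits.pullback.fst p (Limits.pullback.fst (𝒰.f i) (𝒰.f j) ≫ 𝒰.f i))
      (Limits.pullback.snd p _ ≫ Limits.pullback.snd (𝒰.f i) (𝒰.f j))
      (by
        rw [Category.assoc]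
        exact Limits.pullback.condition.trans
          (congrArg (fun x => Limits.pullback.snd p _ ≫ x) Limits.pullback.condition))
    rw [Category.assoc] at e1 e2
    exact e1.symm.trans e2
  refine ⟨𝒰.glueMorphisms fi compat, ?_⟩
  refine Scheme.Cover.hom_ext (𝒰.pullback₁ p) _ _ fun i => ?_
  show Limits.pullback.fst p (𝒰.f i) ≫ p ≫ 𝒰.glueMorphisms fi compat =
    Limits.pullback.fst p (𝒰.f i) ≫ f'
  rw [← Category.assoc, Limits.pullback.condition, Category.assoc, Scheme.Cover.ι_glueMorphisms]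
  exact (key i _ _ Limits.pullback.condition).symm

end Groth.Agent.S13835
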