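import Groth.Statements.S13838
-- import your own Groth.Agent.* helpers here
import Mathlib
import Groth.Agent.Lib.helper7.UH

set_option autoImplicit false
universe u
open AlgebraicGeometry
open HTop

namespace Groth.Agent.S13838

open Groth.Agent.Lib.helper7

/-- Let A ⊆ B be an integral ring extension where A and B have finitely many minimal prime ideals, such
that every prime p of A has a prime q of B above it for which k(p) is closed under extracting
p-power roots inside k(q) (the purely inseparable closure of k(p) in k(q) is k(p)); then the semi-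
and weak normalizations of A in B coincide: every A-subalgebra C of B with Spec C → Spec A a
universal homeomorphism already induces isomorphisms on residue fields. -/
theorem result (A B : Type u) [CommRing A] [CommRing B] [Algebra A B] (hinj : Function.Injective (algebraMap A B))
    [Algebra.IsIntegral A B] (hA : (minimalPrimes A).Finite) (hB : (minimalPrimes B).Finite)
    (hpi : ∀ p : PrimeSpectrum A, ∃ q : PrimeSpectrum B, ∃ hq : p.asIdeal = Ideal.comap (algebraMap A B) q.asIdeal,
      ∀ x : q.asIdeal.ResidueField,
        (∃ n : ℕ, x ^ ringExpChar p.asIdeal.ResidueField ^ n ∈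
            Set.range (Ideal.ResidueField.map p.asIdeal q.asIdeal (algebraMap A B) hq)) →
        x ∈ Set.range (Ideal.ResidueField.map p.asIdeal q.asIdeal (algebraMap A B) hq)) :
    ∀ C : Subalgebra A B, FlatMor.IsUnivHomeo (Spec.map (CommRingCat.ofHom (algebraMap A C))) →
      HTop.ResidueFieldsIso (Spec.map (CommRingCat.ofHom (algebraMap A C))) := by
  intro C hC
  obtain ⟨hi, hbij, hpow⟩ := uh_to_ring (algebraMap A C) hC
  apply uh_resIso_of_ring
  intro y
  refine ⟨RingHom.injective _, ?_⟩
  intro x
  obtain ⟨q, hq, hprop⟩ := hpi (PrimeSpectrum.comap (algebraMap A C) y)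
  have hcomp : (C.val : C →+* B).comp (algebraMap A C) = algebraMap A B :=
    AlgHom.comp_algebraMap C.val
  have hy : PrimeSpectrum.comap (C.val : C →+* B) q = y := by
    apply hbij.1
    apply PrimeSpectrum.ext
    show Ideal.comap (algebraMap A C) (Ideal.comap (C.val : C →+* B) q.asIdeal) = _
    rw [hq, Ideal.comap_comap, hcomp]
  have hyI : y.asIdeal = Ideal.comap (C.val : C →+* B) q.asIdeal :=
    congrArg PrimeSpectrum.asIdeal hy.symm
  obtain ⟨m₂, hm⟩ : ∃ m₂ : y.asIdeal.ResidueField →+* q.asIdeal.ResidueField,
      m₂.comp (Ideal.ResidueField.map (PrimeSpectrum.comap (algebraMap A C) y).asIdeal y.asIdeal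
        (algebraMap A C) rfl)
      = Ideal.ResidueField.map (PrimeSpectrum.comap (algebraMap A C) y).asIdeal q.asIdeal
        (algebraMap A B) hq := by
    refine ⟨Ideal.ResidueField.map y.asIdeal q.asIdeal (C.val : C →+* B) hyI, ?_⟩
    apply Ideal.ResidueField.ringHom_ext
    ext a
    simp only [RingHom.comp_apply, Ideal.ResidueField.map_algebraMap]
    rfl
  obtain ⟨n, w, hw⟩ := hpow y x
  have h1 : m₂ x ∈ Set.range (Ideal.ResidueField.map
      (PrimeSpectrum.comap (algebraMap A C) y).asIdeal q.asIdeal (algebraMap A B) hq) := by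
    apply hprop
    refine ⟨n, w, ?_⟩
    rw [← hm, RingHom.comp_apply, hw, map_pow]
  obtain ⟨w', hw'⟩ := h1
  refine ⟨w', ?_⟩
  apply RingHom.injective m₂
  rw [← hw', ← hm, RingHom.comp_apply]

end Groth.Agent.S13838
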