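import Groth.Statements.S13840
import Groth.Agent.Lib.helper6.PeriodIndex

set_option autoImplicit false
universe u v
open scoped TensorProduct
open Brauer
open PiTensorProduct

namespace Groth.Agent.S13840

/-- Let κ be a field, L a finite field extension of κ of degree d, A a finite-dimensional central simple
κ-algebra and n a positive integer coprime to d such that the n-fold tensor power of A over κ is
split over κ (the period of A divides n). Then the index of A divides n if and only if the index of
the L-algebra L ⊗_κ A divides n. (The published statement is for a finite locally free morphism of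
schemes Y → X of degree d, a class in H²(X, G_m), a point p of X and the fibre of Y over p, and its
proof uses that the period of the class divides n without stating it; without that hypothesis the
backward implication fails. This row is the case of a point with Y the spectrum of a field, with the
period hypothesis made explicit.) -/
theorem result (κ : Type u) [Field κ] (L : Type u) [Field L] [Algebra κ L]
    [FiniteDimensional κ L] (A : Type v) [Ring A] [Algebra κ A] [Algebra.IsCentral κ A] [IsSimpleRing A]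
    [FiniteDimensional κ A] (n : ℕ) (hn : 0 < n) (hcop : Nat.Coprime n (Module.finrank κ L))
    (hper : Curves.Splits κ (CSAGal.tpow κ A n) κ) :
    (∃ d : ℕ, CSAGal.IsIndex κ A d ∧ d ∣ n) ↔ (∃ d' : ℕ, CSAGal.IsIndex L (L ⊗[κ] A) d' ∧ d' ∣ n) := by
  classical
  have hperS : H6Per.Sp κ (⨂[κ] _ : Fin n, A) := (H6Per.splits_iff _).mp hper
  haveI : IsSimpleRing (L ⊗[κ] A) := H6CSA.simple_tensor (K := κ) (L := L) (A := A)
  haveI : Algebra.IsCentral L (L ⊗[κ] A) := H6CSA.central_tensor (K := κ) (L := L) (A := A)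
  constructor
  · rintro ⟨d, ⟨hd0, m, D, instD, instAlgD, hm, hfr, ⟨iso⟩⟩, hdn⟩
    haveI : NeZero m := ⟨hm.ne'⟩
    haveI : FiniteDimensional κ D :=
      Module.finite_of_finrank_pos (by rw [hfr]; exact pow_pos hd0 2)
    haveI : Algebra.IsCentral κ (Matrix (Fin m) (Fin m) D) :=
      H6CSA.central_of_algEquiv (F := κ) iso
    haveI : Algebra.IsCentral κ D := H6Br.central_of_matrix_central m
    haveI : IsSimpleRing (L ⊗[κ] D) := H6CSA.simple_tensor (K := κ) (L := L) (A := D)
    haveI : Algebra.IsCentral L (L ⊗[κ] D) := H6CSA.central_tensor (K := κ) (L := L) (A := D)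
    haveI : IsArtinianRing (L ⊗[κ] D) := IsArtinianRing.of_finite L _
    obtain ⟨c, hc, D1, instD1, instAlgD1, hfdD1, ⟨eW⟩⟩ :=
      IsSimpleRing.exists_algEquiv_matrix_divisionRing_finite L (L ⊗[κ] D)
    haveI : Algebra.IsCentral L (Matrix (Fin c) (Fin c) D1) :=
      H6CSA.central_of_algEquiv (F := L) eW
    haveI : Algebra.IsCentral L D1 := H6Br.central_of_matrix_central c
    have hc0 : c ≠ 0 := NeZero.ne c
    obtain ⟨d1, hd1⟩ := H6PI.exists_sq_finrank L D1
    have hd1pos : 0 < d1 := by
      rcases Nat.eq_zero_or_pos d1 with h | h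
      · exfalso
        rw [h] at hd1
        have := Module.finrank_pos (R := L) (M := D1)
        omega
      · exact h
    have hdim : d = c * d1 := by
      have h1 := eW.toLinearEquiv.finrank_eq
      rw [Module.finrank_baseChange, hfr, Module.finrank_matrix, Fintype.card_fin, hd1] at h1
      have h2 : d ^ 2 = (c * d1) ^ 2 := by rw [h1]; ring
      exact Nat.pow_left_injective two_ne_zero h2
    obtain ⟨bc⟩ := H6Br.baseChange_matrix_equiv (k := κ) L D m
    refine ⟨d1, ⟨hd1pos, m * c, D1, instD1, instAlgD1, Nat.mul_pos hm (Nat.pos_of_ne_zero hc0),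
      hd1, ⟨?_⟩⟩, dvd_trans ⟨c, by rw [hdim, mul_comm]⟩ hdn⟩
    exact (Algebra.TensorProduct.congr (AlgEquiv.refl : L ≃ₐ[L] L) iso).trans
      (bc.trans ((eW.mapMatrix (m := Fin m)).trans
        ((Matrix.compAlgEquiv (Fin m) (Fin c) D1 L).trans
          (Matrix.reindexAlgEquiv L D1 finProdFinEquiv))))
  · rintro ⟨d', ⟨hd'0, m', D1, instD1, instAlgD1, hm', hfr', ⟨isoL⟩⟩, hd'n⟩
    haveI : FiniteDimensional L D1 :=
      Module.finite_of_finrank_pos (by rw [hfr']; exact pow_pos hd'0 2)
    haveI : Algebra.IsCentral L (Matrix (Fin m') (Fin m') D1) :=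
      H6CSA.central_of_algEquiv (F := L) isoL
    haveI : NeZero m' := ⟨hm'.ne'⟩
    haveI : Algebra.IsCentral L D1 := H6Br.central_of_matrix_central m'
    haveI : IsArtinianRing A := IsArtinianRing.of_finite κ A
    obtain ⟨c, hc, D, instD, instAlgD, hfdD, ⟨eW⟩⟩ :=
      IsSimpleRing.exists_algEquiv_matrix_divisionRing_finite κ A
    haveI : Algebra.IsCentral κ (Matrix (Fin c) (Fin c) D) :=
      H6CSA.central_of_algEquiv (F := κ) eW
    haveI : Algebra.IsCentral κ D := H6Br.central_of_matrix_central c
    have hc0 : c ≠ 0 := NeZero.ne c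
    obtain ⟨d, hd⟩ := H6PI.exists_sq_finrank κ D
    have hdpos : 0 < d := by
      rcases Nat.eq_zero_or_pos d with h | h
      · exfalso
        rw [h] at hd
        have := Module.finrank_pos (R := κ) (M := D)
        omega
      · exact h
    obtain ⟨L', instF', instAlg', hfd', hdeg', ⟨eL'⟩⟩ :=
      H6Per.splits_of_division (k := L) m' hm'.ne' isoL d' hfr'
    letI : Algebra κ L' := ((algebraMap L L').comp (algebraMap κ L)).toAlgebra
    haveI : IsScalarTower κ L L' := IsScalarTower.of_algebraMap_eq (fun _ => rfl)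
    haveI : FiniteDimensional κ L' := Module.Finite.trans L L'
    obtain ⟨cb⟩ := H6Br2.cancel_baseChange (k := κ) (K := L) (L := L') A
    let f : Matrix (Fin (2 * c)) (Fin (2 * c)) D ≃ₐ[κ] Matrix (Fin 2) (Fin 2) A :=
      (Matrix.reindexAlgEquiv κ D finProdFinEquiv).symm.trans
        ((Matrix.compAlgEquiv (Fin 2) (Fin c) D κ).symm.trans (eW.symm.mapMatrix (m := Fin 2)))
    obtain ⟨c', hc', ⟨eD⟩⟩ := H6Br.splits_of_brauer (k := κ) (K := L') (2 * c) 2
      (Nat.mul_ne_zero two_ne_zero hc0) two_ne_zero f (m' * d')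
      (Nat.mul_ne_zero hm'.ne' hd'0.ne') (cb.symm.trans eL')
    have hdvd : d ∣ Module.finrank κ L' := H6Br2.index_dvd_of_splits d hd c' eD
    rw [← Module.finrank_mul_finrank κ L L', hdeg'] at hdvd
    have hcopd : Nat.Coprime d (Module.finrank κ L) := by
      by_contra hnc
      obtain ⟨p, hp, hpd, hpr⟩ := Nat.Prime.not_coprime_iff_dvd.mp hnc
      have hpn : p ∣ n :=
        H6PI.prime_dvd_of_split_tpow κ A D c hc0 eW d hd n hn hperS p hp hpd
      exact Nat.Prime.not_coprime_iff_dvd.mpr ⟨p, hp, hpn, hpr⟩ hcop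
    have hdd' : d ∣ d' := hcopd.dvd_of_dvd_mul_left hdvd
    exact ⟨d, ⟨hdpos, c, D, instD, instAlgD, Nat.pos_of_ne_zero hc0, hd, ⟨eW⟩⟩,
      dvd_trans hdd' hd'n⟩

end Groth.Agent.S13840
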