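import Groth.Statements.S13841
import Groth.Agent.Lib.helper6.PerInd
import Groth.Agent.S13840

set_option autoImplicit false
universe u v
open scoped TensorProduct
open Brauer
open PiTensorProduct

namespace Groth.Agent.S13841

/-- Let k be a field and A a finite-dimensional central simple k-algebra of period n. Then A has index n
if and only if there is a finite field extension k' of k of degree coprime to n such that the index
of the k'-algebra k' ⊗_k A divides n. (The published statement is for a class of period n in H²(X,
G_m) on a scheme X over k; this row is the case where X is the spectrum of k.) -/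
theorem result (k : Type u) [Field k] (A : Type v) [Ring A] [Algebra k A]
    [Algebra.IsCentral k A] [IsSimpleRing A] [FiniteDimensional k A] (n : ℕ) (hper : CSAGal.IsPeriod k A n) :
    CSAGal.IsIndex k A n ↔
      ∃ (k' : Type u) (_ : Field k') (_ : Algebra k k') (_ : FiniteDimensional k k'),
        Nat.Coprime n (Module.finrank k k') ∧ ∃ d' : ℕ, CSAGal.IsIndex k' (k' ⊗[k] A) d' ∧ d' ∣ n := by
  classical
  obtain ⟨hn0, hns, hnmin⟩ := hper
  constructor
  · intro hidx
    refine ⟨k, inferInstance, Algebra.id k, inferInstance, ?_, ?_⟩
    · rw [Module.finrank_self]; exact Nat.coprime_one_right n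
    · exact (Groth.Agent.S13840.result k k A n hn0
        (by rw [Module.finrank_self]; exact Nat.coprime_one_right n) hns).mp ⟨n, hidx, dvd_rfl⟩
  · rintro ⟨k', instF, instAlg, hfd, hcop, hd'⟩
    obtain ⟨d, hd, hdn⟩ := (Groth.Agent.S13840.result k k' A n hn0 hcop hns).mpr hd'
    have hnd : n ∣ d := by
      obtain ⟨hd0, m, D, instD, instAlgD, hm, hfr, ⟨iso⟩⟩ := hd
      haveI : FiniteDimensional k D :=
        Module.finite_of_finrank_pos (by rw [hfr]; exact pow_pos hd0 2)
      haveI : NeZero m := ⟨hm.ne'⟩
      haveI : Algebra.IsCentral k (Matrix (Fin m) (Fin m) D) :=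
        H6CSA.central_of_algEquiv (F := k) iso
      haveI : Algebra.IsCentral k D := H6Br.central_of_matrix_central m
      have hsd : H6Per.Sp k (⨂[k] _ : Fin d, A) :=
        H6PI2.splits_tpow_index k A D m hm.ne' iso d hfr
      have hper := H6Per.period_dvd_iff k A n hn0 ((H6Per.splits_iff _).mp hns)
        (fun e' he' hlt hs => hnmin e' he' hlt ((H6Per.splits_iff _).mpr hs))
      exact (hper d hd0).mp hsd
    have hdeq : d = n := Nat.dvd_antisymm hdn hnd
    rw [← hdeq]
    exact hd

end Groth.Agent.S13841
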