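import Groth.Statements.S13860
-- import your own Groth.Agent.* helpers here
import Mathlib

set_option autoImplicit false
universe u v w
open ModRep

namespace Groth.Agent.S13860

/-- For k a field of characteristic p > 0, G a finite group and P a Sylow p-subgroup of G, a short exact
sequence of k[G]-modules has a k[G]-linear splitting exactly when it has a k[P]-linear one. Stated
here for the surjection of the sequence: a G-equivariant k-linear map g : B → C between k-linear
representations of G admits a G-equivariant k-linear section if and only if it admits a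
P-equivariant k-linear section. -/
theorem result {k : Type u} [Field k] (p : ℕ) [Fact p.Prime]
    [CharP k p] {G : Type v} [Group G] [Finite G] (P : Sylow p G)
    {B C : Type w} [AddCommGroup B] [Module k B] [AddCommGroup C] [Module k C]
    (ρB : Representation k G B) (ρC : Representation k G C)
    (g : B →ₗ[k] C) (hg : ∀ x : G, g ∘ₗ ρB x = ρC x ∘ₗ g) :
    (∃ s : C →ₗ[k] B, g ∘ₗ s = LinearMap.id ∧ ∀ x : G, s ∘ₗ ρC x = ρB x ∘ₗ s) ↔
      (∃ s : C →ₗ[k] B, g ∘ₗ s = LinearMap.id ∧ ∀ x : G, x ∈ P → s ∘ₗ ρC x = ρB x ∘ₗ s) := by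
  classical
  constructor
  · rintro ⟨s, hs1, hs2⟩
    exact ⟨s, hs1, fun x _ => hs2 x⟩
  · rintro ⟨s, hs1, hs2⟩
    haveI : Fintype (G ⧸ (P : Subgroup G)) := Fintype.ofFinite _
    have hBmul : ∀ (a b : G) (v : B), ρB (a * b) v = ρB a (ρB b v) := fun a b v => by
      rw [map_mul]; rfl
    have hCmul : ∀ (a b : G) (v : C), ρC (a * b) v = ρC a (ρC b v) := fun a b v => by
      rw [map_mul]; rfl
    have hC1 : ∀ v : C, ρC 1 v = v := fun v => by rw [map_one]; rfl
    have hgρ : ∀ (y : G) (w : B), g (ρB y w) = ρC y (g w) := fun y w =>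
      LinearMap.congr_fun (hg y) w
    have hgs : ∀ w : C, g (s w) = w := fun w => LinearMap.congr_fun hs1 w
    have hsP : ∀ (h : G), h ∈ P → ∀ w : C, ρB h (s w) = s (ρC h w) := fun h hh w =>
      (LinearMap.congr_fun (hs2 h hh) w).symm
    let F : G → (C →ₗ[k] B) := fun y => ρB y ∘ₗ s ∘ₗ ρC y⁻¹
    have hF : ∀ (y h : G), h ∈ P → F (y * h) = F y := by
      intro y h hh
      apply LinearMap.ext
      intro v
      show ρB (y * h) (s (ρC (y * h)⁻¹ v)) = ρB y (s (ρC y⁻¹ v))
      rw [hBmul, hsP h hh, ← hCmul, mul_inv_rev, mul_inv_cancel_left]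
    let Fbar : G ⧸ (P : Subgroup G) → (C →ₗ[k] B) := Quotient.lift F (fun a b hab => by
      have h1 : a⁻¹ * b ∈ (P : Subgroup G) := QuotientGroup.leftRel_apply.mp hab
      rw [← hF a (a⁻¹ * b) h1, mul_inv_cancel_left])
    have hn : ((P : Subgroup G).index : k) ≠ 0 := by
      intro h0
      rw [CharP.cast_eq_zero_iff k p] at h0
      exact P.not_dvd_index h0
    have hgF : ∀ (c : G ⧸ (P : Subgroup G)) (v : C), g ((Fbar c) v) = v := by
      intro c v
      obtain ⟨y, rfl⟩ := QuotientGroup.mk_surjective c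
      show g (ρB y (s (ρC y⁻¹ v))) = v
      rw [hgρ, hgs, ← hCmul, mul_inv_cancel, hC1]
    have hFx : ∀ (x : G) (c : G ⧸ (P : Subgroup G)) (v : C),
        ρB x (Fbar c v) = Fbar (x • c) (ρC x v) := by
      intro x c v
      obtain ⟨y, rfl⟩ := QuotientGroup.mk_surjective c
      show ρB x (ρB y (s (ρC y⁻¹ v))) = ρB (x * y) (s (ρC (x * y)⁻¹ (ρC x v)))
      rw [hBmul, ← hCmul (x * y)⁻¹ x v, mul_inv_rev, inv_mul_cancel_right]
    refine ⟨((P : Subgroup G).index : k)⁻¹ • ∑ c, Fbar c, ?_, ?_⟩
    · apply LinearMap.ext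
      intro v
      simp only [LinearMap.comp_apply, LinearMap.smul_apply, LinearMap.sum_apply, map_smul,
        map_sum, LinearMap.id_apply, hgF]
      rw [Finset.sum_const, Finset.card_univ, ← Nat.card_eq_fintype_card,
        ← Subgroup.index_eq_card, ← Nat.cast_smul_eq_nsmul k, smul_smul, inv_mul_cancel₀ hn,
        one_smul]
    · intro x
      apply LinearMap.ext
      intro v
      simp only [LinearMap.comp_apply, LinearMap.smul_apply, LinearMap.sum_apply, map_smul,
        map_sum]
      congr 1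
      rw [Finset.sum_congr rfl (fun c _ => hFx x c v)]
      exact (Equiv.sum_comp (MulAction.toPerm x) (fun c => Fbar c (ρC x v))).symm

end Groth.Agent.S13860
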