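import Groth.Statements.S13877
-- import your own Groth.Agent.* helpers here
import Mathlib

set_option autoImplicit false
universe u v
open Crimp

namespace Groth.Agent.S13877

open Module

lemma trace_eq_of_intertwine {R : Type*} [CommRing R] [IsDomain R] {N M : Type*}
    [AddCommGroup N] [Module R N] [AddCommGroup M] [Module R M]
    {ι : Type*} [Fintype ι] [DecidableEq ι] (bN : Module.Basis ι R N) (bM : Module.Basis ι R M)
    (j : N →ₗ[R] M) (hj : Function.Injective j) (fN : N →ₗ[R] N) (fM : M →ₗ[R] M)
    (h : j ∘ₗ fN = fM ∘ₗ j) :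
    LinearMap.trace R N fN = LinearMap.trace R M fM := by
  have hP : (LinearMap.toMatrix bN bM j).det ≠ 0 := by
    intro h0
    obtain ⟨v, hv, hPv⟩ := Matrix.exists_mulVec_eq_zero_iff.2 h0
    apply hv
    have h1 : ⇑(bN.repr (bN.equivFun.symm v)) = v := by
      rw [← Module.Basis.equivFun_apply, LinearEquiv.apply_symm_apply]
    have h2 := LinearMap.toMatrix_mulVec_repr bN bM j (bN.equivFun.symm v)
    rw [h1, hPv] at h2
    have h3 : j (bN.equivFun.symm v) = 0 := by
      apply bM.equivFun.injective
      rw [map_zero, Module.Basis.equivFun_apply, ← h2]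
    have h4 : bN.equivFun.symm v = 0 := hj (by rw [h3, map_zero])
    have h5 := congrArg bN.equivFun h4
    rwa [LinearEquiv.apply_symm_apply, map_zero] at h5
  have hMP : LinearMap.toMatrix bM bM fM * LinearMap.toMatrix bN bM j =
      LinearMap.toMatrix bN bM j * LinearMap.toMatrix bN bN fN := by
    rw [← LinearMap.toMatrix_comp bN bM bM fM j, ← LinearMap.toMatrix_comp bN bN bM j fN, h]
  rw [LinearMap.trace_eq_matrix_trace R bN, LinearMap.trace_eq_matrix_trace R bM]
  apply mul_left_cancel₀ hP
  calc (LinearMap.toMatrix bN bM j).det * (LinearMap.toMatrix bN bN fN).trace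
      = ((LinearMap.toMatrix bN bM j).adjugate *
          (LinearMap.toMatrix bN bM j * LinearMap.toMatrix bN bN fN)).trace := by
        rw [← Matrix.mul_assoc, Matrix.adjugate_mul, Matrix.smul_mul, Matrix.one_mul,
          Matrix.trace_smul, smul_eq_mul]
    _ = ((LinearMap.toMatrix bN bM j).adjugate *
          (LinearMap.toMatrix bM bM fM * LinearMap.toMatrix bN bM j)).trace := by rw [hMP]
    _ = (LinearMap.toMatrix bM bM fM *
          (LinearMap.toMatrix bN bM j * (LinearMap.toMatrix bN bM j).adjugate)).trace := by
        rw [Matrix.trace_mul_comm, Matrix.mul_assoc]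
    _ = (LinearMap.toMatrix bN bM j).det * (LinearMap.toMatrix bM bM fM).trace := by
        rw [Matrix.mul_adjugate, Matrix.mul_smul, Matrix.mul_one, Matrix.trace_smul, smul_eq_mul]

lemma assoc_discr {A B : Type*} [CommRing A] [CommRing B] [Algebra A B] {ι : Type*} [Fintype ι]
    [DecidableEq ι] (b1 b2 : Module.Basis ι A B) :
    Associated (Algebra.discr A b1) (Algebra.discr A b2) := by
  have h : (⇑b2 : ι → B) = ((b1.toMatrix b2).transpose.map (algebraMap A B)).mulVec b1 := by
    funext i
    rw [Matrix.mulVec, dotProduct]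
    simp only [Matrix.map_apply, Matrix.transpose_apply, ← Algebra.smul_def]
    exact (b1.sum_toMatrix_smul_self b2 i).symm
  have h2 := Algebra.discr_of_matrix_mulVec (⇑b1) (b1.toMatrix b2).transpose
  rw [← h, Matrix.det_transpose] at h2
  have hu : IsUnit (b1.toMatrix b2).det := by
    rw [← Module.Basis.det_apply]
    exact b1.isUnit_det b2
  refine ⟨hu.unit ^ 2, ?_⟩
  rw [h2, Units.val_pow_eq_pow_val, IsUnit.unit_spec, mul_comm]

/-- Over R = k⟦t⟧ with k an algebraically closed field of characteristic zero, let S' be a commutative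
R-algebra with an R-basis of size d whose discriminant generates the ideal (t ^ a) (a finite cover
of the formal disk of degree d, unramified over the punctured disk, with branch divisor (t ^ a)),
and let S be an R-subalgebra of S' with an R-basis of size d whose discriminant generates (t ^ b) (a
crimp with branch divisor (t ^ b)). Then t ^ b annihilates S' / S and twice the R-length of S' / S
plus a equals b. (The published statement is for a family of such subalgebras over a k-scheme T and
also asserts T-flatness of the quotient; this row is its restriction to T a point.) -/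
theorem result {k : Type u} [Field k] [IsAlgClosed k] [CharZero k]
    {St : Type v} [CommRing St] [Algebra (PowerSeries k) St] (d a b : ℕ)
    (bt : Module.Basis (Fin d) (PowerSeries k) St)
    (ha : Ideal.span {Algebra.discr (PowerSeries k) ⇑bt} = Ideal.span {(PowerSeries.X : PowerSeries k) ^ a})
    (S : Subalgebra (PowerSeries k) St) (bS : Module.Basis (Fin d) (PowerSeries k) S)
    (hb : Ideal.span {Algebra.discr (PowerSeries k) ⇑bS} = Ideal.span {(PowerSeries.X : PowerSeries k) ^ b}) :
    (∀ q : St ⧸ Subalgebra.toSubmodule S, ((PowerSeries.X : PowerSeries k) ^ b) • q = 0) ∧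
    2 * Module.length (PowerSeries k) (St ⧸ Subalgebra.toSubmodule S) + (a : ℕ∞) = (b : ℕ∞) := by
  classical
  have hXirr : Irreducible (PowerSeries.X : PowerSeries k) := PowerSeries.X_irreducible
  have hX0 : (PowerSeries.X : PowerSeries k) ≠ 0 := PowerSeries.X_ne_zero
  have hordX : ∀ m : ℕ, Ring.ord (PowerSeries k) ((PowerSeries.X : PowerSeries k) ^ m) = m := by
    intro m
    rw [Ring.ord_pow (mem_nonZeroDivisors_of_ne_zero hX0), Ring.ord_of_irreducible hXirr]
    simp
  let N : Submodule (PowerSeries k) St := Subalgebra.toSubmodule S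
  have hrank : Module.finrank (PowerSeries k) N = Module.finrank (PowerSeries k) St := by
    rw [Module.finrank_eq_card_basis (bS.map (Subalgebra.toSubmoduleEquiv S).symm),
      Module.finrank_eq_card_basis bt]
  have hab : ∀ i, ((Submodule.smithNormalFormBotBasis bt hrank) i : St) =
      (Submodule.smithNormalFormCoeffs bt hrank) i • (Submodule.smithNormalFormTopBasis bt hrank) i :=
    Submodule.smithNormalFormBotBasis_def bt hrank
  have hc0 : ∀ i, (Submodule.smithNormalFormCoeffs bt hrank) i ≠ 0 :=
    Submodule.smithNormalFormCoeffs_ne_zero bt hrank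
  generalize Submodule.smithNormalFormTopBasis bt hrank = bT' at hab
  generalize Submodule.smithNormalFormBotBasis bt hrank = cb at hab
  have hn : ∀ i, ∃ n : ℕ, Associated ((Submodule.smithNormalFormCoeffs bt hrank) i)
      ((PowerSeries.X : PowerSeries k) ^ n) := fun i =>
    IsDiscreteValuationRing.associated_pow_irreducible (hc0 i) hXirr
  choose n hn using hn
  have hlen : Module.length (PowerSeries k) (St ⧸ N) = ((∑ i, n i : ℕ) : ℕ∞) := by
    rw [(Submodule.quotientEquivPiSpan N bt hrank).length_eq, Module.length_pi_of_fintype,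
      Nat.cast_sum]
    refine Finset.sum_congr rfl fun i _ => ?_
    show Ring.ord (PowerSeries k) ((Submodule.smithNormalFormCoeffs bt hrank) i) = _
    rw [Ring.ord_eq_of_associated (hn i), hordX]
  let abS : Module.Basis (Fin d) (PowerSeries k) S := cb.map (Subalgebra.toSubmoduleEquiv S)
  have habS : ∀ i, ((abS i : S) : St) =
      (Submodule.smithNormalFormCoeffs bt hrank) i • bT' i := fun i => hab i
  have htr : ∀ x : S, Algebra.trace (PowerSeries k) S x =
      Algebra.trace (PowerSeries k) St (x : St) := by
    intro x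
    rw [Algebra.trace_apply, Algebra.trace_apply]
    exact trace_eq_of_intertwine bS bt S.val.toLinearMap Subtype.val_injective _ _
      (LinearMap.ext fun y => rfl)
  have hd1 : Algebra.discr (PowerSeries k) ⇑abS =
      Algebra.discr (PowerSeries k)
        (fun i => (Submodule.smithNormalFormCoeffs bt hrank) i • bT' i) := by
    rw [Algebra.discr_def, Algebra.discr_def]
    congr 1
    ext i j
    rw [Algebra.traceMatrix_apply, Algebra.traceMatrix_apply, Algebra.traceForm_apply,
      Algebra.traceForm_apply, htr, MulMemClass.coe_mul, habS, habS]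
  have hd2 : Algebra.discr (PowerSeries k)
      (fun i => (Submodule.smithNormalFormCoeffs bt hrank) i • bT' i) =
      (∏ i, (Submodule.smithNormalFormCoeffs bt hrank) i) ^ 2 *
        Algebra.discr (PowerSeries k) ⇑bT' := by
    have h := Algebra.discr_of_matrix_mulVec (⇑bT')
      (Matrix.diagonal (Submodule.smithNormalFormCoeffs bt hrank))
    rw [Matrix.det_diagonal] at h
    rw [← h]
    congr 1
    funext i
    rw [Matrix.diagonal_map (map_zero _), Matrix.mulVec_diagonal, Algebra.smul_def]
  have hA1 : Associated (Algebra.discr (PowerSeries k) ⇑bS) (Algebra.discr (PowerSeries k) ⇑abS) :=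
    assoc_discr bS abS
  have hA2 : Associated (Algebra.discr (PowerSeries k) ⇑bt) (Algebra.discr (PowerSeries k) ⇑bT') :=
    assoc_discr bt bT'
  have hA3 : Associated (Algebra.discr (PowerSeries k) ⇑bt)
      ((PowerSeries.X : PowerSeries k) ^ a) := Ideal.span_singleton_eq_span_singleton.1 ha
  have hprod : Associated (∏ i, (Submodule.smithNormalFormCoeffs bt hrank) i)
      ((PowerSeries.X : PowerSeries k) ^ (∑ i, n i)) := by
    have hu : ∀ i, ∃ u : (PowerSeries k)ˣ,
        (Submodule.smithNormalFormCoeffs bt hrank) i * (u : PowerSeries k) = PowerSeries.X ^ n i := fun i => hn i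
    choose u hu using hu
    refine ⟨∏ i, u i, ?_⟩
    rw [Units.coe_prod, ← Finset.prod_mul_distrib, ← Finset.prod_pow_eq_pow_sum]
    exact Finset.prod_congr rfl fun i _ => hu i
  have hfin : Associated ((PowerSeries.X : PowerSeries k) ^ b)
      (PowerSeries.X ^ (2 * ∑ i, n i + a)) := by
    have h1 := (Ideal.span_singleton_eq_span_singleton.1 hb).symm.trans hA1
    rw [hd1, hd2] at h1
    have h2 : Associated ((∏ i, (Submodule.smithNormalFormCoeffs bt hrank) i) ^ 2 *
        Algebra.discr (PowerSeries k) ⇑bT')
        (((PowerSeries.X : PowerSeries k) ^ (∑ i, n i)) ^ 2 * PowerSeries.X ^ a) :=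
      (hprod.pow_pow).mul_mul (hA2.symm.trans hA3)
    have h3 := h1.trans h2
    have h4 : ((PowerSeries.X : PowerSeries k) ^ (∑ i, n i)) ^ 2 * PowerSeries.X ^ a =
        PowerSeries.X ^ (2 * ∑ i, n i + a) := by
      rw [← pow_mul, ← pow_add, mul_comm]
    rwa [h4] at h3
  have hnum : b = 2 * ∑ i, n i + a := by
    have h := Ring.ord_eq_of_associated hfin
    rw [hordX, hordX] at h
    exact_mod_cast h
  refine ⟨fun q => ?_, ?_⟩
  · apply (Submodule.quotientEquivPiSpan N bt hrank).injective
    rw [map_smul, map_zero]
    funext i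
    rw [Pi.smul_apply, Pi.zero_apply]
    obtain ⟨r, hr⟩ := Ideal.Quotient.mk_surjective
      ((Submodule.quotientEquivPiSpan N bt hrank) q i)
    rw [← hr]
    show (PowerSeries.X : PowerSeries k) ^ b • Submodule.Quotient.mk r = 0
    rw [← Submodule.Quotient.mk_smul, Submodule.Quotient.mk_eq_zero, smul_eq_mul,
      Ideal.mem_span_singleton]
    have h1 : (Submodule.smithNormalFormCoeffs bt hrank) i ∣ PowerSeries.X ^ n i := (hn i).dvd
    have h2 : n i ≤ b := by
      have := Finset.single_le_sum (f := n) (fun j _ => Nat.zero_le _) (Finset.mem_univ i)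
      omega
    exact Dvd.dvd.mul_right (h1.trans (pow_dvd_pow _ h2)) r
  · show 2 * Module.length (PowerSeries k) (St ⧸ N) + (a : ℕ∞) = (b : ℕ∞)
    rw [hlen, hnum]
    push_cast
    rfl

end Groth.Agent.S13877
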