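import Groth.Statements.S13878
-- import your own Groth.Agent.* helpers here
import Mathlib

set_option autoImplicit false
universe u
open Crimp

namespace Groth.Agent.S13878

open Module

lemma third : ∀ i0 i2 : Fin 3, i0 ≠ i2 →
    ∃ i1 : Fin 3, i1 ≠ i0 ∧ i1 ≠ i2 ∧ ∀ i, i = i0 ∨ i = i1 ∨ i = i2 := by decide

lemma sum_three (i0 i1 i2 : Fin 3) (h01 : i1 ≠ i0) (h12 : i1 ≠ i2) (h02 : i0 ≠ i2)
    (hall : ∀ i, i = i0 ∨ i = i1 ∨ i = i2) {β : Type*} [AddCommMonoid β] (w : Fin 3 → β) :
    ∑ i, w i = w i0 + w i1 + w i2 := by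
  have hU : (Finset.univ : Finset (Fin 3)) = {i0, i1, i2} := by
    ext i
    simp only [Finset.mem_univ, Finset.mem_insert, Finset.mem_singleton, true_iff]
    exact hall i
  rw [hU, Finset.sum_insert, Finset.sum_insert, Finset.sum_singleton, add_assoc]
  · simp [h12]
  · simp [h01.symm, h02]

/-- Over R = k⟦t⟧ with k an algebraically closed field of characteristic zero, let S' = R × R × R (the
unramified triple cover of the formal disk) and let S be an R-submodule of S' containing 1 such that
S' / S is isomorphic to R / (t ^ m) ⊕ R / (t ^ n) with m ≤ n. Then t ^ n S' is contained in S, and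
there is f in S', not lying in R·1 + t S', such that S = R·1 + R·(t ^ m f) + t ^ n S'. -/
theorem result {k : Type u} [Field k] [IsAlgClosed k] [CharZero k] (m n : ℕ) (hmn : m ≤ n)
    (S : Submodule (PowerSeries k) (Fin 3 → PowerSeries k))
    (h1 : (1 : (Fin 3 → PowerSeries k)) ∈ S)
    (e : ((Fin 3 → PowerSeries k) ⧸ S) ≃ₗ[PowerSeries k]
      ((PowerSeries k ⧸ Ideal.span {(PowerSeries.X : PowerSeries k) ^ m}) × (PowerSeries k ⧸ Ideal.span {(PowerSeries.X : PowerSeries k) ^ n}))) :
    Ideal.span {(PowerSeries.X : PowerSeries k) ^ n} • (⊤ : Submodule (PowerSeries k) (Fin 3 → PowerSeries k)) ≤ S ∧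
    ∃ f : (Fin 3 → PowerSeries k),
      f ∉ Submodule.span (PowerSeries k) {(1 : (Fin 3 → PowerSeries k))} ⊔ Ideal.span {(PowerSeries.X : PowerSeries k)} • (⊤ : Submodule (PowerSeries k) (Fin 3 → PowerSeries k)) ∧
      S = Submodule.span (PowerSeries k) {(1 : (Fin 3 → PowerSeries k)), ((PowerSeries.X : PowerSeries k) ^ m) • f} ⊔
        Ideal.span {(PowerSeries.X : PowerSeries k) ^ n} • (⊤ : Submodule (PowerSeries k) (Fin 3 → PowerSeries k)) := by
  classical
  have hXirr : Irreducible (PowerSeries.X : PowerSeries k) := PowerSeries.X_irreducible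
  have hX0 : (PowerSeries.X : PowerSeries k) ≠ 0 := PowerSeries.X_ne_zero
  have hXnu : ¬ IsUnit (PowerSeries.X : PowerSeries k) := hXirr.not_isUnit
  have hordX : ∀ j : ℕ, Ring.ord (PowerSeries k) ((PowerSeries.X : PowerSeries k) ^ j) = j := by
    intro j
    rw [Ring.ord_pow (mem_nonZeroDivisors_of_ne_zero hX0), Ring.ord_of_irreducible hXirr]
    simp
  have hkillQ : ∀ (j i : ℕ) (hji : j ≤ i)
      (z : PowerSeries k ⧸ Ideal.span {(PowerSeries.X : PowerSeries k) ^ j}),
      (PowerSeries.X : PowerSeries k) ^ i • z = 0 := by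
    intro j i hji z
    obtain ⟨z', rfl⟩ := Ideal.Quotient.mk_surjective z
    show (PowerSeries.X : PowerSeries k) ^ i • Submodule.Quotient.mk z' = 0
    rw [← Submodule.Quotient.mk_smul, Submodule.Quotient.mk_eq_zero, smul_eq_mul,
      Ideal.mem_span_singleton]
    exact Dvd.dvd.mul_right (pow_dvd_pow _ hji) z'
  -- Part 1
  have hXnS : ∀ y : Fin 3 → PowerSeries k, (PowerSeries.X : PowerSeries k) ^ n • y ∈ S := by
    intro y
    rw [← Submodule.Quotient.mk_eq_zero S]
    apply e.injective
    rw [Submodule.Quotient.mk_smul, map_smul, map_zero]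
    exact Prod.ext (hkillQ m n hmn _) (hkillQ n n le_rfl _)
  have hpart1 : Ideal.span {(PowerSeries.X : PowerSeries k) ^ n} •
      (⊤ : Submodule (PowerSeries k) (Fin 3 → PowerSeries k)) ≤ S := by
    intro x hx
    rw [Submodule.ideal_span_singleton_smul] at hx
    obtain ⟨y, -, rfl⟩ := (Submodule.mem_smul_pointwise_iff_exists _ _ _).1 hx
    exact hXnS y
  -- rank
  have hrank : Module.finrank (PowerSeries k) S =
      Module.finrank (PowerSeries k) (Fin 3 → PowerSeries k) := by
    apply le_antisymm (Submodule.finrank_le S)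
    exact LinearMap.finrank_le_finrank_of_injective
      (f := LinearMap.codRestrict S
        (LinearMap.lsmul (PowerSeries k) (Fin 3 → PowerSeries k)
          ((PowerSeries.X : PowerSeries k) ^ n)) hXnS)
      (by
        intro y1 y2 h
        have h' := congrArg Subtype.val h
        simp only [LinearMap.codRestrict_apply, LinearMap.lsmul_apply] at h'
        exact smul_right_injective _ (pow_ne_zero n hX0) h')
  -- Smith normal form
  have hcb : ∀ i, ((Submodule.smithNormalFormBotBasis (Pi.basisFun (PowerSeries k) (Fin 3)) hrank) i :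
      Fin 3 → PowerSeries k) =
      (Submodule.smithNormalFormCoeffs (Pi.basisFun (PowerSeries k) (Fin 3)) hrank) i •
        (Submodule.smithNormalFormTopBasis (Pi.basisFun (PowerSeries k) (Fin 3)) hrank) i :=
    Submodule.smithNormalFormBotBasis_def _ hrank
  have hc0 : ∀ i, (Submodule.smithNormalFormCoeffs (Pi.basisFun (PowerSeries k) (Fin 3)) hrank) i ≠ 0 :=
    Submodule.smithNormalFormCoeffs_ne_zero _ hrank
  have hlenS0 : Module.length (PowerSeries k) ((Fin 3 → PowerSeries k) ⧸ S) =
      ∑ i, Ring.ord (PowerSeries k)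
        ((Submodule.smithNormalFormCoeffs (Pi.basisFun (PowerSeries k) (Fin 3)) hrank) i) := by
    rw [(Submodule.quotientEquivPiSpan S (Pi.basisFun (PowerSeries k) (Fin 3)) hrank).length_eq,
      Module.length_pi_of_fintype]
    rfl
  generalize Submodule.smithNormalFormTopBasis (Pi.basisFun (PowerSeries k) (Fin 3)) hrank = g
    at hcb
  generalize Submodule.smithNormalFormBotBasis (Pi.basisFun (PowerSeries k) (Fin 3)) hrank = cb
    at hcb
  generalize Submodule.smithNormalFormCoeffs (Pi.basisFun (PowerSeries k) (Fin 3)) hrank = c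
    at hcb hc0 hlenS0
  have hv : ∀ i, ∃ v : ℕ, Associated (c i) ((PowerSeries.X : PowerSeries k) ^ v) := fun i =>
    IsDiscreteValuationRing.associated_pow_irreducible (hc0 i) hXirr
  choose v hv using hv
  -- membership criterion
  have hmem : ∀ y : Fin 3 → PowerSeries k, y ∈ S ↔ ∀ i, c i ∣ g.repr y i := by
    intro y
    constructor
    · intro hy i
      have h2 := congrArg Subtype.val (cb.sum_repr ⟨y, hy⟩)
      rw [AddSubmonoidClass.coe_finset_sum] at h2
      simp only [Submodule.coe_smul, hcb] at h2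
      have h3 : g.repr y i = ∑ j, cb.repr ⟨y, hy⟩ j * (c j * (g.repr (g j) i)) := by
        conv_lhs => rw [← h2]
        simp only [map_sum, map_smul, Finsupp.coe_finset_sum, Finset.sum_apply,
          Finsupp.smul_apply, smul_eq_mul]
      rw [h3]
      apply Finset.dvd_sum
      intro j _
      rw [Module.Basis.repr_self, Finsupp.single_apply]
      by_cases hji : j = i
      · rw [if_pos hji, hji, mul_one]
        exact Dvd.intro_left _ rfl
      · rw [if_neg hji, mul_zero, mul_zero]
        exact dvd_zero _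
    · intro hdiv
      choose t ht using hdiv
      have h2 : y = ((∑ i, t i • cb i : S) : Fin 3 → PowerSeries k) := by
        rw [AddSubmonoidClass.coe_finset_sum]
        simp only [Submodule.coe_smul, hcb]
        conv_lhs => rw [← g.sum_repr y]
        exact Finset.sum_congr rfl (fun i _ => by rw [ht i, mul_comm, mul_smul])
      rw [h2]
      exact Submodule.coe_mem _
  have hρ : ∀ i, c i ∣ g.repr 1 i := (hmem 1).1 h1
  -- a unit coordinate of 1
  have hunit : ∃ i0, IsUnit (g.repr (1 : Fin 3 → PowerSeries k) i0) := by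
    by_contra hno
    have hX : ∀ i, (PowerSeries.X : PowerSeries k) ∣ g.repr 1 i := fun i => by
      have hnu : ¬ IsUnit (g.repr (1 : Fin 3 → PowerSeries k) i) := fun h => hno ⟨i, h⟩
      rw [PowerSeries.X_dvd_iff]
      by_contra hcc
      exact hnu (PowerSeries.isUnit_iff_constantCoeff.2 (isUnit_iff_ne_zero.2 hcc))
    choose t ht using hX
    have h1' : (1 : Fin 3 → PowerSeries k) =
        (PowerSeries.X : PowerSeries k) • ∑ i, t i • g i := by
      rw [Finset.smul_sum]
      conv_lhs => rw [← g.sum_repr 1]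
      exact Finset.sum_congr rfl (fun i _ => by rw [ht i, mul_smul])
    have h2 := congrFun h1' 0
    rw [Pi.one_apply, Pi.smul_apply, smul_eq_mul] at h2
    exact hXnu (isUnit_iff_exists_inv.2 ⟨_, h2.symm⟩)
  obtain ⟨i0, hi0⟩ := hunit
  have hpow_unit : ∀ j : ℕ, IsUnit ((PowerSeries.X : PowerSeries k) ^ j) → j = 0 := by
    intro j hj
    by_contra hj0
    exact hXnu ((isUnit_pow_iff hj0).1 hj)
  have hv_i0 : v i0 = 0 :=
    hpow_unit _ ((hv i0).isUnit (isUnit_of_dvd_unit (hρ i0) hi0))
  -- v i ≤ n
  have hvn : ∀ i, v i ≤ n := by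
    intro i
    have h2 := (hmem _).1 (hXnS (g i)) i
    rw [map_smul, Module.Basis.repr_self, Finsupp.smul_apply, Finsupp.single_eq_same,
      smul_eq_mul, mul_one] at h2
    exact (_root_.pow_dvd_pow_iff hX0 hXnu).1 ((hv i).symm.dvd.trans h2)
  -- sum of v
  have hlenS : Module.length (PowerSeries k) ((Fin 3 → PowerSeries k) ⧸ S) =
      ((∑ i, v i : ℕ) : ℕ∞) := by
    rw [hlenS0, Nat.cast_sum]
    refine Finset.sum_congr rfl fun i _ => ?_
    rw [Ring.ord_eq_of_associated (hv i), hordX]
  have hlenE : Module.length (PowerSeries k) ((Fin 3 → PowerSeries k) ⧸ S) =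
      ((m + n : ℕ) : ℕ∞) := by
    rw [e.length_eq, Module.length_prod]
    show Ring.ord (PowerSeries k) ((PowerSeries.X : PowerSeries k) ^ m) +
      Ring.ord (PowerSeries k) ((PowerSeries.X : PowerSeries k) ^ n) = _
    rw [hordX, hordX]
    push_cast
    rfl
  have hsum : ∑ i, v i = m + n := by exact_mod_cast hlenS.symm.trans hlenE
  -- max
  have hmax : 1 ≤ n → ∃ i, v i = n := by
    intro hn1
    by_contra hno
    have hlt : ∀ i, v i ≤ n - 1 := fun i => by
      have h3 := hvn i
      have h4 : v i ≠ n := fun h => hno ⟨i, h⟩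
      omega
    have hall : ∀ y : Fin 3 → PowerSeries k, (PowerSeries.X : PowerSeries k) ^ (n - 1) • y ∈ S := by
      intro y
      rw [hmem]
      intro i
      rw [map_smul, Finsupp.smul_apply, smul_eq_mul]
      exact Dvd.dvd.mul_right ((hv i).dvd.trans (pow_dvd_pow _ (hlt i))) _
    obtain ⟨q0, hq0⟩ := e.surjective (0, 1)
    obtain ⟨y0, rfl⟩ := Submodule.Quotient.mk_surjective S q0
    have h0 : (Submodule.Quotient.mk ((PowerSeries.X : PowerSeries k) ^ (n - 1) • y0) :
        (Fin 3 → PowerSeries k) ⧸ S) = 0 := (Submodule.Quotient.mk_eq_zero S).2 (hall y0)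
    have h1' := congrArg e h0
    rw [Submodule.Quotient.mk_smul, map_smul, hq0, map_zero] at h1'
    have h2 : (PowerSeries.X : PowerSeries k) ^ (n - 1) •
        (1 : PowerSeries k ⧸ Ideal.span {(PowerSeries.X : PowerSeries k) ^ n}) = 0 :=
      congrArg Prod.snd h1'
    have h3 : (PowerSeries.X : PowerSeries k) ^ (n - 1) ∈
        Ideal.span {(PowerSeries.X : PowerSeries k) ^ n} := by
      have h4 : (PowerSeries.X : PowerSeries k) ^ (n - 1) •
          (Submodule.Quotient.mk (1 : PowerSeries k) :
            PowerSeries k ⧸ Ideal.span {(PowerSeries.X : PowerSeries k) ^ n}) = 0 := h2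
      rw [← Submodule.Quotient.mk_smul, Submodule.Quotient.mk_eq_zero, smul_eq_mul, mul_one] at h4
      exact h4
    rw [Ideal.mem_span_singleton, _root_.pow_dvd_pow_iff hX0 hXnu] at h3
    omega
  -- choose i2, i1
  obtain ⟨i2, hi2ne, hvi2⟩ : ∃ i2, i2 ≠ i0 ∧ v i2 = n := by
    rcases Nat.eq_zero_or_pos n with hn0 | hnpos
    · obtain ⟨i2, hi2⟩ : ∃ i2 : Fin 3, i2 ≠ i0 := exists_ne i0
      exact ⟨i2, hi2, by have := hvn i2; omega⟩
    · obtain ⟨i2, hi2⟩ := hmax hnpos
      refine ⟨i2, fun h => ?_, hi2⟩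
      rw [h, hv_i0] at hi2
      omega
  obtain ⟨i1, h10, h12, hall3⟩ := third i0 i2 hi2ne.symm
  have hvi1 : v i1 = m := by
    have h3 := sum_three i0 i1 i2 h10 h12 hi2ne.symm hall3 v
    rw [hsum, hv_i0, hvi2] at h3
    omega
  have hdvd1 : ∀ z : PowerSeries k, c i1 ∣ z → ∃ s1, z = s1 * (PowerSeries.X : PowerSeries k) ^ m := by
    intro z hz
    obtain ⟨s1, hs1⟩ := (hv i1).symm.dvd.trans hz
    exact ⟨s1, by rw [hs1, hvi1, mul_comm]⟩
  have hdvd2 : ∀ z : PowerSeries k, c i2 ∣ z → ∃ s2, z = s2 * (PowerSeries.X : PowerSeries k) ^ n := by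
    intro z hz
    obtain ⟨s2, hs2⟩ := (hv i2).symm.dvd.trans hz
    exact ⟨s2, by rw [hs2, hvi2, mul_comm]⟩
  refine ⟨hpart1, g i1, ?_, ?_⟩
  · -- non-membership
    intro hf
    rw [Submodule.ideal_span_singleton_smul] at hf
    obtain ⟨a1, ha1, a2, ha2, hsum12⟩ := Submodule.mem_sup.1 hf
    obtain ⟨r, rfl⟩ := Submodule.mem_span_singleton.1 ha1
    obtain ⟨y, -, rfl⟩ := (Submodule.mem_smul_pointwise_iff_exists _ _ _).1 ha2
    have hco : ∀ i, r * g.repr 1 i + (PowerSeries.X : PowerSeries k) * g.repr y i =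
        g.repr (g i1) i := fun i => by
      rw [← hsum12]
      simp only [map_add, map_smul, Finsupp.add_apply, Finsupp.smul_apply, smul_eq_mul]
    have h0 := hco i0
    rw [Module.Basis.repr_self, Finsupp.single_apply, if_neg h10] at h0
    have hXr : (PowerSeries.X : PowerSeries k) ∣ r := by
      have h5 : (PowerSeries.X : PowerSeries k) ∣ r * g.repr 1 i0 :=
        ⟨-(g.repr y i0), by linear_combination h0⟩
      exact (hi0.dvd_mul_right).1 h5
    have h1' := hco i1
    rw [Module.Basis.repr_self, Finsupp.single_eq_same] at h1'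
    obtain ⟨r', rfl⟩ := hXr
    have hX1 : (PowerSeries.X : PowerSeries k) ∣ 1 :=
      ⟨r' * g.repr 1 i1 + g.repr y i1, by rw [← h1']; ring⟩
    exact hXnu (isUnit_of_dvd_one hX1)
  · apply le_antisymm
    · intro y hy
      have hT1 : (1 : Fin 3 → PowerSeries k) ∈
          Submodule.span (PowerSeries k) {(1 : (Fin 3 → PowerSeries k)),
            ((PowerSeries.X : PowerSeries k) ^ m) • g i1} ⊔
          Ideal.span {(PowerSeries.X : PowerSeries k) ^ n} •
            (⊤ : Submodule (PowerSeries k) (Fin 3 → PowerSeries k)) :=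
        Submodule.mem_sup_left (Submodule.subset_span (by simp))
      have hT2 : ∀ t : PowerSeries k, (t * (PowerSeries.X : PowerSeries k) ^ m) • g i1 ∈
          Submodule.span (PowerSeries k) {(1 : (Fin 3 → PowerSeries k)),
            ((PowerSeries.X : PowerSeries k) ^ m) • g i1} ⊔
          Ideal.span {(PowerSeries.X : PowerSeries k) ^ n} •
            (⊤ : Submodule (PowerSeries k) (Fin 3 → PowerSeries k)) := fun t =>
        Submodule.mem_sup_left (by
          rw [mul_smul]
          exact Submodule.smul_mem _ _ (Submodule.subset_span (by simp)))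
      have hT3 : ∀ (t : PowerSeries k) (z : Fin 3 → PowerSeries k),
          (t * (PowerSeries.X : PowerSeries k) ^ n) • z ∈
          Submodule.span (PowerSeries k) {(1 : (Fin 3 → PowerSeries k)),
            ((PowerSeries.X : PowerSeries k) ^ m) • g i1} ⊔
          Ideal.span {(PowerSeries.X : PowerSeries k) ^ n} •
            (⊤ : Submodule (PowerSeries k) (Fin 3 → PowerSeries k)) := fun t z =>
        Submodule.mem_sup_right (by
          rw [mul_comm, mul_smul]
          exact Submodule.smul_mem_smul (Ideal.mem_span_singleton_self _) Submodule.mem_top)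
      obtain ⟨t1, ht1⟩ := hdvd1 _ (hρ i1)
      obtain ⟨t2, ht2⟩ := hdvd2 _ (hρ i2)
      have hg0 : g i0 ∈
          Submodule.span (PowerSeries k) {(1 : (Fin 3 → PowerSeries k)),
            ((PowerSeries.X : PowerSeries k) ^ m) • g i1} ⊔
          Ideal.span {(PowerSeries.X : PowerSeries k) ^ n} •
            (⊤ : Submodule (PowerSeries k) (Fin 3 → PowerSeries k)) := by
        have h1eq : (1 : Fin 3 → PowerSeries k) =
            g.repr 1 i0 • g i0 + g.repr 1 i1 • g i1 + g.repr 1 i2 • g i2 := by
          conv_lhs => rw [← g.sum_repr 1]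
          exact sum_three i0 i1 i2 h10 h12 hi2ne.symm hall3 (fun i => g.repr 1 i • g i)
        obtain ⟨u, hu⟩ := hi0
        have h3 : g i0 = (↑u⁻¹ : PowerSeries k) • ((1 : Fin 3 → PowerSeries k) -
            (t1 * (PowerSeries.X : PowerSeries k) ^ m) • g i1 -
            (t2 * (PowerSeries.X : PowerSeries k) ^ n) • g i2) := by
          rw [← ht1, ← ht2]
          have h4 : (1 : Fin 3 → PowerSeries k) - g.repr 1 i1 • g i1 - g.repr 1 i2 • g i2 =
              (u : PowerSeries k) • g i0 := by
            rw [hu, sub_sub, sub_eq_iff_eq_add]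
            exact h1eq.trans (add_assoc _ _ _)
          rw [h4, smul_smul, Units.inv_mul, one_smul]
        rw [h3]
        exact Submodule.smul_mem _ _
          (Submodule.sub_mem _ (Submodule.sub_mem _ hT1 (hT2 t1)) (hT3 t2 _))
      have hyeq : y = g.repr y i0 • g i0 + g.repr y i1 • g i1 + g.repr y i2 • g i2 := by
        conv_lhs => rw [← g.sum_repr y]
        exact sum_three i0 i1 i2 h10 h12 hi2ne.symm hall3 (fun i => g.repr y i • g i)
      obtain ⟨s1, hs1⟩ := hdvd1 _ ((hmem y).1 hy i1)
      obtain ⟨s2, hs2⟩ := hdvd2 _ ((hmem y).1 hy i2)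
      rw [hyeq, hs1, hs2]
      exact Submodule.add_mem _ (Submodule.add_mem _ (Submodule.smul_mem _ _ hg0) (hT2 s1))
        (hT3 s2 _)
    · apply sup_le
      · rw [Submodule.span_le]
        rintro z (rfl | rfl)
        · exact h1
        · rw [SetLike.mem_coe, hmem]
          intro i
          rw [map_smul, Module.Basis.repr_self, Finsupp.smul_apply, smul_eq_mul,
            Finsupp.single_apply]
          by_cases hi : i1 = i
          · rw [if_pos hi, mul_one, ← hi, ← hvi1]
            exact (hv i1).dvd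
          · rw [if_neg hi, mul_zero]
            exact dvd_zero _
      · exact hpart1

end Groth.Agent.S13878
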