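import Groth.Statements.S13879
-- import your own Groth.Agent.* helpers here
import Mathlib

set_option autoImplicit false
universe u
open Crimp

namespace Groth.Agent.S13879

/-- Over R = k⟦t⟧ with k an algebraically closed field of characteristic zero, let S' = R × R × R and
let S be the R-submodule R·1 + R·(t ^ m f) + t ^ n S' of S' for some f in S' and natural numbers m,
n. Then S is closed under multiplication (equivalently, is an R-subalgebra of S') if and only if t ^
(2m) f ^ 2 lies in S. (The published statement has m ≤ n and S' / S isomorphic to R / (t ^ m) ⊕ R /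
(t ^ n), under which S has this shape; this row states the criterion for every submodule of this
shape.) -/
theorem result {k : Type u} [Field k] [IsAlgClosed k] [CharZero k] (m n : ℕ) (f : (Fin 3 → PowerSeries k))
    (S : Submodule (PowerSeries k) (Fin 3 → PowerSeries k))
    (hS : S = Submodule.span (PowerSeries k) {(1 : (Fin 3 → PowerSeries k)), ((PowerSeries.X : PowerSeries k) ^ m) • f} ⊔
        Ideal.span {(PowerSeries.X : PowerSeries k) ^ n} • (⊤ : Submodule (PowerSeries k) (Fin 3 → PowerSeries k))) :
    (∀ x ∈ S, ∀ y ∈ S, x * y ∈ S) ↔ ((PowerSeries.X : PowerSeries k) ^ (2 * m)) • (f * f) ∈ S := by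
  obtain ⟨u, hu⟩ : ∃ u : Fin 3 → PowerSeries k,
      u = ((PowerSeries.X : PowerSeries k) ^ m) • f := ⟨_, rfl⟩
  rw [← hu] at hS
  have huS : u ∈ S := by
    rw [hS]
    exact Submodule.mem_sup_left (Submodule.subset_span (by simp))
  have huu : u * u = ((PowerSeries.X : PowerSeries k) ^ (2 * m)) • (f * f) := by
    rw [hu, smul_mul_smul_comm, ← pow_add, two_mul]
  constructor
  · intro h
    rw [← huu]
    exact h u huS u huS
  · intro h
    have hIS : Ideal.span {(PowerSeries.X : PowerSeries k) ^ n} •
        (⊤ : Submodule (PowerSeries k) (Fin 3 → PowerSeries k)) ≤ S := by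
      rw [hS]
      exact le_sup_right
    have hImul : ∀ z ∈ Ideal.span {(PowerSeries.X : PowerSeries k) ^ n} •
        (⊤ : Submodule (PowerSeries k) (Fin 3 → PowerSeries k)),
        ∀ y : Fin 3 → PowerSeries k, z * y ∈ Ideal.span {(PowerSeries.X : PowerSeries k) ^ n} •
        (⊤ : Submodule (PowerSeries k) (Fin 3 → PowerSeries k)) := by
      intro z hz y
      refine Submodule.smul_induction_on hz ?_ ?_
      · intro r hr g _
        rw [smul_mul_assoc]
        exact Submodule.smul_mem_smul hr trivial
      · intro a b ha hb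
        rw [add_mul]
        exact Submodule.add_mem _ ha hb
    have huy : ∀ y ∈ S, u * y ∈ S := by
      intro y hy
      have hy' := hy
      rw [hS] at hy'
      obtain ⟨y1, hy1, y2, hy2, rfl⟩ := Submodule.mem_sup.mp hy'
      obtain ⟨c, d, rfl⟩ := Submodule.mem_span_pair.mp hy1
      rw [mul_add, mul_add, mul_smul_comm, mul_smul_comm, mul_one]
      refine S.add_mem (S.add_mem (S.smul_mem c huS) (S.smul_mem d ?_)) (hIS ?_)
      · rw [huu]
        exact h
      · rw [mul_comm]
        exact hImul y2 hy2 u
    intro x hx y hy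
    have hx' := hx
    rw [hS] at hx'
    obtain ⟨x1, hx1, x2, hx2, rfl⟩ := Submodule.mem_sup.mp hx'
    obtain ⟨a, b, rfl⟩ := Submodule.mem_span_pair.mp hx1
    rw [add_mul, add_mul, smul_mul_assoc, smul_mul_assoc, one_mul]
    exact S.add_mem (S.add_mem (S.smul_mem a hy) (S.smul_mem b (huy y hy)))
      (hIS (hImul x2 hx2 y))

end Groth.Agent.S13879
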