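import Groth.Statements.S13888
-- import your own Groth.Agent.* helpers here
import Mathlib

set_option autoImplicit false
universe u
open CategoryTheory CategoryTheory.Limits MonoidalCategory
attribute [local instance] HasDerivedCategory.standard
open DTen

namespace Groth.Agent.S13888

variable {A : Type u} [CommRing A] [DTen.HasLTen A] [DTen.HasLTen₃ A]
  [DTen.IsSymMonoidal A] [DTen.HasRHom A]

/-- `f ⊗^L X`. -/
noncomputable abbrev tR {T T' : Dual.D A} (f : T ⟶ T') (X : Dual.D A) :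
    (DTen.LTen₂ A).obj (T, X) ⟶ (DTen.LTen₂ A).obj (T', X) :=
  (DTen.LTen₂ A).map (Prod.mkHom f (𝟙 X))

omit [DTen.HasLTen₃ A] [DTen.IsSymMonoidal A] [DTen.HasRHom A] in
theorem tR_comp {T T' T'' : Dual.D A} (f : T ⟶ T') (g : T' ⟶ T'') (X : Dual.D A) :
    tR (f ≫ g) X = tR f X ≫ tR g X := by
  rw [tR, tR, tR, ← CategoryTheory.Functor.map_comp]
  congr 1

omit [DTen.HasLTen₃ A] [DTen.IsSymMonoidal A] [DTen.HasRHom A] in
theorem tR_id (T X : Dual.D A) : tR (𝟙 T) X = 𝟙 _ := by
  rw [tR]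
  erw [← prod_id, CategoryTheory.Functor.map_id]

omit [DTen.HasLTen₃ A] [DTen.IsSymMonoidal A] in
theorem uncurry_inj {T X M : Dual.D A} (g g' : T ⟶ (DTen.RHomR A X).obj M)
    (h : tR g X ≫ DTen.ev X M = tR g' X ≫ DTen.ev X M) : g = g' := by
  apply ((DTen.rhomAdj A X).homEquiv T M).symm.injective
  rw [Adjunction.homEquiv_counit, Adjunction.homEquiv_counit]
  exact h

omit [DTen.HasLTen₃ A] [DTen.IsSymMonoidal A] in
theorem curry_fac {T X M : Dual.D A} (φ : (DTen.LTen₂ A).obj (T, X) ⟶ M) :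
    tR (DTen.rhomHomEquiv T X M φ) X ≫ DTen.ev X M = φ :=
  ((DTen.rhomAdj A X).homEquiv _ _).left_inv φ

omit [DTen.HasRHom A] in
theorem assoc_nat {a a' : Dual.D A} (f : a ⟶ a') (b c : Dual.D A) :
    tR (tR f b) c ≫ (DTen.associator a' b c).hom =
      (DTen.associator a b c).hom ≫ tR f ((DTen.LTen₂ A).obj (b, c)) := by
  have hL := (DTen.assocL A).naturality (X := (a, (b, c))) (Y := (a', (b, c)))
    (Prod.mkHom f (Prod.mkHom (𝟙 b) (𝟙 c)))
  have hR := (DTen.assocR A).naturality (X := (a, (b, c))) (Y := (a', (b, c)))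
    (Prod.mkHom f (Prod.mkHom (𝟙 b) (𝟙 c)))
  have hL' : tR (tR f b) c ≫ (DTen.assocL A).app (a', (b, c)) =
      (DTen.assocL A).app (a, (b, c)) ≫
        (DTen.LTen₃ A).map (Prod.mkHom f (Prod.mkHom (𝟙 b) (𝟙 c))) := hL
  have hR' : tR f ((DTen.LTen₂ A).obj (b, c)) ≫ (DTen.assocR A).app (a', (b, c)) =
      (DTen.assocR A).app (a, (b, c)) ≫
        (DTen.LTen₃ A).map (Prod.mkHom f (Prod.mkHom (𝟙 b) (𝟙 c))) := by
    have h0 : (DTen.LTenR A).map (Prod.mkHom f (Prod.mkHom (𝟙 b) (𝟙 c))) =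
        tR f ((DTen.LTen₂ A).obj (b, c)) := by
      show (DTen.LTen₂ A).map (Prod.mkHom f ((DTen.LTen₂ A).map (Prod.mkHom (𝟙 b) (𝟙 c)))) =
        (DTen.LTen₂ A).map (Prod.mkHom f (𝟙 ((DTen.LTen₂ A).obj (b, c))))
      congr 2
      erw [← prod_id, CategoryTheory.Functor.map_id]
    rw [← h0]; exact hR
  rw [← cancel_mono ((DTen.assocR A).app (a', (b, c))), Category.assoc,
    DTen.associator_hom_assocR, Category.assoc, hR', ← Category.assoc,
    DTen.associator_hom_assocR]
  exact hL'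

/-- the inverse of `curryHom`. -/
noncomputable def uncurryHom (K L M : Dual.D A) :
    (DTen.RHomR A K).obj ((DTen.RHomR A L).obj M) ⟶
      (DTen.RHomR A ((DTen.LTen₂ A).obj (K, L))).obj M :=
  DTen.rhomHomEquiv _ _ _
    ((DTen.associator ((DTen.RHomR A K).obj ((DTen.RHomR A L).obj M)) K L).inv ≫
      tR (DTen.ev K ((DTen.RHomR A L).obj M)) L ≫ DTen.ev L M)

theorem uncurryHom_fac (K L M : Dual.D A) :
    tR (uncurryHom K L M) ((DTen.LTen₂ A).obj (K, L)) ≫ DTen.ev ((DTen.LTen₂ A).obj (K, L)) M =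
      (DTen.associator ((DTen.RHomR A K).obj ((DTen.RHomR A L).obj M)) K L).inv ≫
        tR (DTen.ev K ((DTen.RHomR A L).obj M)) L ≫ DTen.ev L M :=
  curry_fac _

theorem curryHom_fac' (K L M : Dual.D A) :
    tR (tR (DTen.curryHom K L M) K ≫ DTen.ev K ((DTen.RHomR A L).obj M)) L ≫ DTen.ev L M =
      (DTen.associator ((DTen.RHomR A ((DTen.LTen₂ A).obj (K, L))).obj M) K L).hom ≫
        DTen.ev ((DTen.LTen₂ A).obj (K, L)) M :=
  DTen.curryHom_fac K L M

theorem curry_uncurry (K L M : Dual.D A) :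
    DTen.curryHom K L M ≫ uncurryHom K L M = 𝟙 _ := by
  apply uncurry_inj
  rw [tR_comp, Category.assoc, uncurryHom_fac, tR_id, Category.id_comp]
  have hn := assoc_nat (DTen.curryHom K L M) K L
  have hn' : tR (DTen.curryHom K L M) ((DTen.LTen₂ A).obj (K, L)) ≫
      (DTen.associator ((DTen.RHomR A K).obj ((DTen.RHomR A L).obj M)) K L).inv =
      (DTen.associator ((DTen.RHomR A ((DTen.LTen₂ A).obj (K, L))).obj M) K L).inv ≫
        tR (tR (DTen.curryHom K L M) K) L := by
    rw [Iso.comp_inv_eq, Category.assoc, hn, Iso.inv_hom_id_assoc]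
  rw [← Category.assoc, hn', Category.assoc,
    ← Category.assoc (tR (tR (DTen.curryHom K L M) K) L), ← tR_comp, curryHom_fac',
    Iso.inv_hom_id_assoc]

theorem uncurry_curry (K L M : Dual.D A) :
    uncurryHom K L M ≫ DTen.curryHom K L M = 𝟙 _ := by
  apply uncurry_inj
  apply uncurry_inj
  have e1 : tR (uncurryHom K L M ≫ DTen.curryHom K L M) K ≫
      DTen.ev K ((DTen.RHomR A L).obj M) = tR (uncurryHom K L M) K ≫
        (tR (DTen.curryHom K L M) K ≫ DTen.ev K ((DTen.RHomR A L).obj M)) := by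
    rw [tR_comp, Category.assoc]
  rw [e1, tR_comp, Category.assoc, curryHom_fac', ← Category.assoc, assoc_nat, Category.assoc,
    uncurryHom_fac, Iso.hom_inv_id_assoc, tR_id, Category.id_comp]

/-- For a commutative ring `A` (assuming the derived tensor product on `D(A)` with its triple version
exists, that its symmetry, unit and associativity maps are isomorphisms, and that every `- ⊗^L L`
has a right adjoint `RHom(L, -)`) and objects `K`, `L`, `M` of `D(A)`, the canonical morphism
`RHom(K ⊗^L L, M) ⟶ RHom(K, RHom(L, M))`, namely the double adjunct of the associativity isomorphism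
followed by evaluation at `K ⊗^L L`, is an isomorphism. (Functoriality in the three objects is built
into the construction; the identification on `H^0` with the hom bijection of the adjunction is not
part of this row.) -/
theorem result (A : Type u) [CommRing A] [DTen.HasLTen A] [DTen.HasLTen₃ A]
    [DTen.IsSymMonoidal A] [DTen.HasRHom A] (K L M : Dual.D A) :
    IsIso (DTen.curryHom K L M) := by
  exact ⟨⟨uncurryHom K L M, curry_uncurry K L M, uncurry_curry K L M⟩⟩

end Groth.Agent.S13888
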