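import Groth.Statements.S1389
import Mathlib

set_option autoImplicit false
universe u
open FlatMor

namespace Groth.Agent.S1389

open AlgebraicGeometry CategoryTheory Limits in
lemma eq_locus {X Y S : Scheme.{u}} (p : Y ⟶ S) (f g : X ⟶ Y) (hfg : f ≫ p = g ≫ p) :
    ∃ (E : Scheme.{u}) (ι : E ⟶ X), ι ≫ f = ι ≫ g ∧
      (∀ {T : Scheme.{u}} (k : T ⟶ X), k ≫ f = k ≫ g → ∃ l : T ⟶ E, l ≫ ι = k) ∧
      (IsOpenImmersion (pullback.diagonal p) → IsOpenImmersion ι) ∧
      (IsClosedImmersion (pullback.diagonal p) → IsClosedImmersion ι) := by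
  refine ⟨pullback (pullback.lift f g hfg) (pullback.diagonal p), pullback.fst _ _, ?_, ?_, ?_, ?_⟩
  · have h := pullback.condition (f := pullback.lift f g hfg) (g := pullback.diagonal p)
    have h1 := congrArg (fun k => k ≫ pullback.fst p p) h
    have h2 := congrArg (fun k => k ≫ pullback.snd p p) h
    simp only [Category.assoc, pullback.lift_fst, pullback.lift_snd, pullback.diagonal_fst,
      pullback.diagonal_snd, Category.comp_id] at h1 h2
    rw [h1, h2]
  · intro T k hk
    have hc : k ≫ pullback.lift f g hfg = (k ≫ f) ≫ pullback.diagonal p := by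
      apply pullback.hom_ext
      · rw [Category.assoc, pullback.lift_fst, Category.assoc, pullback.diagonal_fst,
          Category.comp_id]
      · rw [Category.assoc, pullback.lift_snd, Category.assoc, pullback.diagonal_snd,
          Category.comp_id, hk]
    exact ⟨pullback.lift k (k ≫ f) hc, pullback.lift_fst _ _ _⟩
  · intro h
    infer_instance
  · intro h
    exact MorphismProperty.pullback_fst (P := @IsClosedImmersion) _ _ h

open AlgebraicGeometry CategoryTheory Limits in
lemma fromSpecResidueField_comp_eq {X Y : Scheme.{u}} (f g : X ⟶ Y) (x : X) (h1 : f x = g x)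
    (h2 : f.residueFieldMap x = (Y.residueFieldCongr h1).hom ≫ g.residueFieldMap x) :
    X.fromSpecResidueField x ≫ f = X.fromSpecResidueField x ≫ g := by
  have e1 := Scheme.Hom.SpecMap_residueFieldMap_fromSpecResidueField f x
  have e2 := Scheme.Hom.SpecMap_residueFieldMap_fromSpecResidueField g x
  have e3 := Scheme.residueFieldCongr_fromSpecResidueField (X := Y) h1
  rw [← e1, ← e2, ← e3, ← Category.assoc, ← Spec.map_comp, h2]

open AlgebraicGeometry CategoryTheory Limits in
/-- Let (U, u) and (U', u') be étale neighbourhoods of a point s of S and h₁, h₂ two S-morphisms U → U'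
sending u to u' which induce the same map of residue fields κ(u') → κ(u). Then there is an étale
neighbourhood (U'', u'') of s with an S-morphism h : U'' → U sending u'' to u and with h followed by
h₁ equal to h followed by h₂. -/
theorem result {S U U' : Scheme.{u}} (s : S) (g : U ⟶ S) (g' : U' ⟶ S) [Etale g] [Etale g'] (u : U) (u' : U')
    (hu : g u = s) (hu' : g' u' = s) (h₁ h₂ : U ⟶ U') (w₁ : h₁ ≫ g' = g) (w₂ : h₂ ≫ g' = g) (e₁ : h₁ u = u') (e₂ : h₂ u = u')
    (hres : (U'.residueFieldCongr e₁).inv ≫ h₁.residueFieldMap u = (U'.residueFieldCongr e₂).inv ≫ h₂.residueFieldMap u) :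
    ∃ (U'' : Scheme.{u}) (g'' : U'' ⟶ S) (u'' : U'') (h : U'' ⟶ U), Etale g'' ∧ g'' u'' = s ∧ h ≫ g = g'' ∧ h u'' = u ∧ h ≫ h₁ = h ≫ h₂ := by
  obtain ⟨E, ι, hι, hlift, hopen, -⟩ := eq_locus g' h₁ h₂ (w₁.trans w₂.symm)
  haveI : IsOpenImmersion ι := hopen inferInstance
  have h1x : h₁ u = h₂ u := e₁.trans e₂.symm
  have hA : h₁.residueFieldMap u = (U'.residueFieldCongr h1x).hom ≫ h₂.residueFieldMap u := by
    have h2 := congrArg (fun k => (U'.residueFieldCongr e₁).hom ≫ k) hres
    simp only [Iso.hom_inv_id_assoc] at h2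
    rw [h2, Scheme.residueFieldCongr_inv, ← Category.assoc, Scheme.residueFieldCongr_trans_hom]
  obtain ⟨l, hl⟩ := hlift (U.fromSpecResidueField u) (fromSpecResidueField_comp_eq h₁ h₂ u h1x hA)
  have hx : u ∈ Set.range (U.fromSpecResidueField u) := by
    rw [Scheme.range_fromSpecResidueField]
    exact Set.mem_singleton u
  obtain ⟨t, ht⟩ := hx
  have hlt : ι (l t) = u := by
    have h3 := congrArg (fun k : Spec (U.residueField u) ⟶ U => k t) hl
    exact h3.trans ht
  refine ⟨E, ι ≫ g, l t, ι, inferInstance, ?_, rfl, hlt, hι⟩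
  change g (ι (l t)) = s
  rw [hlt, hu]

end Groth.Agent.S1389
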