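import Groth.Statements.S13904
-- import your own Groth.Agent.* helpers here
import Mathlib

set_option autoImplicit false
universe u
open CAlg

namespace Groth.Agent.S13904

/-- Let k be a field, A a commutative k-algebra and φ : k[x_1, …, x_r] → A a finite k-algebra map such
that A/p has Krull dimension r for every minimal prime p of A (an equidimensional affine scheme of
dimension r, finite over affine r-space). Then for every minimal prime p of A and every prime q of
k[x_1, …, x_r] there is a prime P ⊇ p of A with φ⁻¹(P) = q: the finite map restricted to each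
irreducible component of Spec A is surjective onto affine r-space. (The published statement is over
an algebraically closed field with φ a Noether normalisation; this row allows any field and any
finite k-algebra map φ.) -/
theorem result (k : Type u) [Field k] (r : ℕ)
    (A : Type u) [CommRing A] [Algebra k A] (φ : MvPolynomial (Fin r) k →ₐ[k] A)
    (hφ : φ.toRingHom.Finite)
    (hdim : ∀ p ∈ minimalPrimes A, ringKrullDim (A ⧸ p) = r)
    (p : Ideal A) (hp : p ∈ minimalPrimes A)
    (q : Ideal (MvPolynomial (Fin r) k)) [q.IsPrime] :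
    ∃ P : Ideal A, P.IsPrime ∧ p ≤ P ∧ P.comap φ.toRingHom = q := by
  classical
  letI : Algebra (MvPolynomial (Fin r) k) A := φ.toRingHom.toAlgebra
  haveI : Algebra.IsIntegral (MvPolynomial (Fin r) k) A := ⟨hφ.to_isIntegral⟩
  haveI hpprime : p.IsPrime := hp.1.1
  have hdimle : ∀ (R' S' : Type u) [CommRing R'] [CommRing S'] [Algebra R' S']
      [Algebra.IsIntegral R' S'], ringKrullDim S' ≤ ringKrullDim R' := by
    intro R' S' _ _ _ _
    exact Order.krullDim_le_of_strictMono (PrimeSpectrum.comap (algebraMap R' S'))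
      (fun Q Q' h => Ideal.IsIntegral.comap_lt_comap (R := R') (I := Q.asIdeal) (J := Q'.asIdeal) h)
  have hbot : p.under (MvPolynomial (Fin r) k) = ⊥ := by
    by_contra hne
    obtain ⟨x, hx, hx0⟩ := Submodule.exists_mem_ne_zero_of_ne_bot hne
    have h1 : ringKrullDim (A ⧸ p) ≤
        ringKrullDim (MvPolynomial (Fin r) k ⧸ p.under (MvPolynomial (Fin r) k)) := hdimle _ _
    have h2 : ringKrullDim (MvPolynomial (Fin r) k ⧸ p.under (MvPolynomial (Fin r) k)) + 1 ≤
        ringKrullDim (MvPolynomial (Fin r) k) :=
      ringKrullDim_succ_le_of_surjective (Ideal.Quotient.mk _) Ideal.Quotient.mk_surjective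
        (mem_nonZeroDivisors_of_ne_zero hx0) (Ideal.Quotient.eq_zero_iff_mem.mpr hx)
    have h3 : ringKrullDim (MvPolynomial (Fin r) k) = r := by
      rw [MvPolynomial.ringKrullDim_of_isNoetherianRing, ringKrullDim_eq_zero_of_field, zero_add,
        Nat.card_fin]
    rw [hdim p hp] at h1
    rw [h3] at h2
    have h4 : (r : WithBot ℕ∞) + 1 ≤ r := (add_le_add_left h1 1).trans h2
    have h5 : ((r : ℕ∞) : WithBot ℕ∞) + ((1 : ℕ∞) : WithBot ℕ∞) ≤ ((r : ℕ∞) : WithBot ℕ∞) := by
      exact_mod_cast h4
    rw [← WithBot.coe_add, WithBot.coe_le_coe, ENat.add_one_le_iff (ENat.coe_ne_top r)] at h5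
    exact lt_irrefl _ h5
  obtain ⟨Q, hQp, hQprime, hQ⟩ := Ideal.exists_ideal_over_prime_of_isIntegral_of_isPrime q p (by
    show p.comap (algebraMap _ A) ≤ q
    have : p.comap (algebraMap (MvPolynomial (Fin r) k) A) = ⊥ := hbot
    rw [this]; exact bot_le)
  exact ⟨Q, hQprime, hQp, hQ⟩

end Groth.Agent.S13904
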