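import Groth.Statements.S13905
-- import your own Groth.Agent.* helpers here
import Mathlib

set_option autoImplicit false
universe u
open ProjGeom

namespace Groth.Agent.S13905

lemma lemA {k V : Type*} [Field k] [AddCommGroup V] [Module k V] [FiniteDimensional k V] {n : ℕ}
    (hV : Module.finrank k V = n + 1) (H W : Submodule k V) (hH : Module.finrank k H = n)
    (hW : ¬ W ≤ H) :
    Module.finrank k ↥(W ⊓ H) + 1 = Module.finrank k W := by
  have h1 := Submodule.finrank_sup_add_finrank_inf_eq W H
  have hlt : H < W ⊔ H := lt_of_le_of_ne le_sup_right (fun h => hW (by rw [h]; exact le_sup_left))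
  have h2 := Submodule.finrank_lt_finrank_of_lt hlt
  have h3 := Submodule.finrank_le (W ⊔ H)
  omega

open W4c1etcurveeff3b in
/-- Hyperplanes of projective n-space in general position, in linear-algebra form (V of dimension n + 1
over a field k, hyperplanes as n-dimensional subspaces, points as nonzero vectors): if S is a finite
set of hyperplanes in general position with at least n members and H is a hyperplane containing none
of the lines cut out by n members of S, then S with H added is again in general position. (The
published statement is for hyperplanes of P^n_k and closed points; a closed point lying on n + 1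
members is automatically one of the rational points cut out by n of them, so the condition on
nonzero vectors of V is the same condition.) -/
theorem result (k V : Type u) [Field k]
    [AddCommGroup V] [Module k V] [DecidableEq (Submodule k V)] (n : ℕ) (S : Finset (Submodule k V))
    (hS : InGeneralPosition k V n S) (hn : n ≤ S.card) (H : Submodule k V)
    (hH : Module.finrank k H = n)
    (havoid : ∀ T ⊆ S, T.card = n → ¬ (T.inf id ≤ H)) :
    InGeneralPosition k V n (insert H S) := by
  unfold W4c1etcurveeff3b.InGeneralPosition at hS ⊢
  obtain ⟨hV, hdim, hinf, hvec⟩ := hS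
  haveI : FiniteDimensional k V := Module.finite_of_finrank_pos (by omega)
  have hB : ∀ T ⊆ S, T.card ≤ n → ¬ T.inf id ≤ H := by
    intro T hT hc hle
    obtain ⟨T₁, hTT₁, hT₁S, hcard⟩ := Finset.exists_subsuperset_card_eq hT hc hn
    exact havoid T₁ hT₁S hcard (le_trans (Finset.inf_mono hTT₁) hle)
  by_cases hHS : H ∈ S
  · rw [Finset.insert_eq_of_mem hHS]; exact ⟨hV, hdim, hinf, hvec⟩
  refine ⟨hV, ?_, ?_, ?_⟩
  · intro H' hH'
    rcases Finset.mem_insert.1 hH' with rfl | h
    · exact hH
    · exact hdim H' h
  · intro T' hT' hc
    by_cases hHT : H ∈ T'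
    · have hTS : T'.erase H ⊆ S := Finset.subset_insert_iff.1 hT'
      have hcard : (T'.erase H).card + 1 = T'.card := Finset.card_erase_add_one hHT
      have h1 := hinf _ hTS (by omega)
      have h2 := lemA hV H ((T'.erase H).inf id) hH (hB _ hTS (by omega))
      have h3 : T'.inf id = H ⊓ (T'.erase H).inf id := by
        conv_lhs => rw [← Finset.insert_erase hHT]
        rw [Finset.inf_insert]; rfl
      rw [h3, inf_comm]
      omega
    · have hTS : T' ⊆ S := (Finset.subset_insert_iff_of_notMem hHT).1 hT'
      exact hinf T' hTS hc
  · intro v hv T' hT' hmem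
    by_cases hHT : H ∈ T'
    · have hTS : T'.erase H ⊆ S := Finset.subset_insert_iff.1 hT'
      have hcard : (T'.erase H).card + 1 = T'.card := Finset.card_erase_add_one hHT
      have hmem' : ∀ H' ∈ T'.erase H, v ∈ H' := fun H' h => hmem H' (Finset.mem_of_mem_erase h)
      have h1 := hvec v hv _ hTS hmem'
      by_contra hcon
      have h2 : (T'.erase H).card = n := by omega
      have h3 := hinf _ hTS (le_of_eq h2)
      have h4 := lemA hV H ((T'.erase H).inf id) hH (havoid _ hTS h2)
      have h5 : Module.finrank k ↥((T'.erase H).inf id ⊓ H) = 0 := by omega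
      rw [Submodule.finrank_eq_zero] at h5
      have h6 : v ∈ (T'.erase H).inf id ⊓ H :=
        Submodule.mem_inf.2 ⟨Submodule.mem_finsetInf.2 hmem', hmem H hHT⟩
      rw [h5] at h6
      exact hv ((Submodule.mem_bot k).1 h6)
    · have hTS : T' ⊆ S := (Finset.subset_insert_iff_of_notMem hHT).1 hT'
      exact hvec v hv T' hTS hmem

end Groth.Agent.S13905
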