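import Groth.Statements.S13913
-- import your own Groth.Agent.* helpers here
import Mathlib

set_option autoImplicit false
universe u
open PlaneCubic

namespace Groth.Agent.S13913

/-- Over an algebraically closed field of characteristic zero, for linearly independent linear forms z₁,
z₂ and quadratic forms q₁, q₂ in three variables and a nonzero common zero p of z₁ and z₂, the point
p is a singular point of the plane cubic z₁q₂ − z₂q₁ = 0 (all three partial derivatives vanish at p)
if and only if q₁ and q₂ both vanish at p. -/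
theorem result (k : Type u) [Field k] [IsAlgClosed k] [CharZero k]
    (z₁ z₂ q₁ q₂ : MvPolynomial (Fin 3) k) (hz₁ : z₁.IsHomogeneous 1) (hz₂ : z₂.IsHomogeneous 1)
    (hq₁ : q₁.IsHomogeneous 2) (hq₂ : q₂.IsHomogeneous 2) (hind : LinearIndependent k ![z₁, z₂])
    (p : Fin 3 → k) (hp : p ≠ 0) (hp₁ : MvPolynomial.eval p z₁ = 0) (hp₂ : MvPolynomial.eval p z₂ = 0) :
    (∀ i : Fin 3, MvPolynomial.eval p (MvPolynomial.pderiv i (z₁ * q₂ - z₂ * q₁)) = 0) ↔
      (MvPolynomial.eval p q₁ = 0 ∧ MvPolynomial.eval p q₂ = 0) := by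
  have key : ∀ i, MvPolynomial.eval p (MvPolynomial.pderiv i (z₁ * q₂ - z₂ * q₁)) =
      MvPolynomial.eval p (MvPolynomial.pderiv i z₁) * MvPolynomial.eval p q₂ -
        MvPolynomial.eval p (MvPolynomial.pderiv i z₂) * MvPolynomial.eval p q₁ := by
    intro i
    simp only [map_sub, Derivation.leibniz, smul_eq_mul, map_add, map_mul, hp₁, hp₂]
    ring
  constructor
  · intro h
    have hc : ∀ (z : MvPolynomial (Fin 3) k), z.IsHomogeneous 1 → ∀ i,
        MvPolynomial.pderiv i z =
          MvPolynomial.C (MvPolynomial.eval p (MvPolynomial.pderiv i z)) := by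
      intro z hz i
      have h0 : (MvPolynomial.pderiv i z).IsHomogeneous 0 := hz.pderiv
      rw [← MvPolynomial.totalDegree_zero_iff_isHomogeneous,
        MvPolynomial.totalDegree_eq_zero_iff_eq_C] at h0
      rw [h0]
      simp
    have hw : (MvPolynomial.eval p q₂) • z₁ + (-(MvPolynomial.eval p q₁)) • z₂ = 0 := by
      have hwh : ((MvPolynomial.eval p q₂) • z₁ +
          (-(MvPolynomial.eval p q₁)) • z₂).IsHomogeneous 1 :=
        (MvPolynomial.homogeneousSubmodule (Fin 3) k 1).add_mem
          ((MvPolynomial.homogeneousSubmodule (Fin 3) k 1).smul_mem _ hz₁)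
          ((MvPolynomial.homogeneousSubmodule (Fin 3) k 1).smul_mem _ hz₂)
      have e := hwh.sum_X_mul_pderiv
      rw [one_nsmul] at e
      rw [← e]
      apply Finset.sum_eq_zero
      intro i _
      have hi := h i
      rw [key] at hi
      have : MvPolynomial.pderiv i ((MvPolynomial.eval p q₂) • z₁ +
          (-(MvPolynomial.eval p q₁)) • z₂) = 0 := by
        rw [map_add, (MvPolynomial.pderiv i).map_smul, (MvPolynomial.pderiv i).map_smul,
          hc z₁ hz₁ i, hc z₂ hz₂ i, MvPolynomial.smul_eq_C_mul, MvPolynomial.smul_eq_C_mul,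
          ← MvPolynomial.C_mul, ← MvPolynomial.C_mul, ← MvPolynomial.C_add]
        have : MvPolynomial.eval p q₂ * MvPolynomial.eval p (MvPolynomial.pderiv i z₁) +
            -(MvPolynomial.eval p q₁) * MvPolynomial.eval p (MvPolynomial.pderiv i z₂) = 0 := by
          linear_combination hi
        rw [this, map_zero]
      rw [this, mul_zero]
    have hlin := Fintype.linearIndependent_iff.mp hind
      ![MvPolynomial.eval p q₂, -(MvPolynomial.eval p q₁)] (by
        simpa [Fin.sum_univ_two] using hw)
    have ha := hlin 0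
    have hb := hlin 1
    simp at ha hb
    exact ⟨hb, ha⟩
  · rintro ⟨h1, h2⟩ i
    rw [key, h1, h2]
    ring

end Groth.Agent.S13913
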