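import Groth.Statements.S13916
-- import your own Groth.Agent.* helpers here
import Mathlib

set_option autoImplicit false
universe u
open PlaneConic

namespace Groth.Agent.S13916

/-- Over an algebraically closed field k of characteristic zero, with u_0, u_1, u_2 the coordinate
linear forms of k[X_0, X_1, X_2] and 2 × 2 matrices of linear forms compared up to M ↦ g M h with g,
h invertible scalar matrices: (1) the matrices with rows (u_1, 0), (u_0, u_2) and (u_2, 0), (u_0,
u_1) are not equivalent; (2) for α ≠ 0 the matrix with rows (u_1, 0), (αu_0 + βu_1 + γu_2, u_2) is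
equivalent to the one with rows (u_1, 0), (u_0, u_2). -/
theorem result (k : Type u) [Field k] [IsAlgClosed k] [CharZero k] :
    (¬ ∃ g h : GL (Fin 2) k,
      (MvPolynomial.C : k →+* MvPolynomial (Fin 3) k).mapMatrix g.val *
          !![MvPolynomial.X 1, 0; MvPolynomial.X 0, MvPolynomial.X 2] *
        (MvPolynomial.C : k →+* MvPolynomial (Fin 3) k).mapMatrix h.val =
      !![MvPolynomial.X 2, 0; MvPolynomial.X 0, MvPolynomial.X 1]) ∧
    (∀ α β γ : k, α ≠ 0 → ∃ g h : GL (Fin 2) k,
      (MvPolynomial.C : k →+* MvPolynomial (Fin 3) k).mapMatrix g.val *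
          !![MvPolynomial.X 1, 0;
             MvPolynomial.C α * MvPolynomial.X 0 + MvPolynomial.C β * MvPolynomial.X 1 + MvPolynomial.C γ * MvPolynomial.X 2,
             MvPolynomial.X 2] *
        (MvPolynomial.C : k →+* MvPolynomial (Fin 3) k).mapMatrix h.val =
      !![MvPolynomial.X 1, 0; MvPolynomial.X 0, MvPolynomial.X 2]) := by
  constructor
  · rintro ⟨g, h, e⟩
    have E : ∀ (x : Fin 3 → k) (i j : Fin 2),
        MvPolynomial.eval x (((MvPolynomial.C : k →+* MvPolynomial (Fin 3) k).mapMatrix g.val *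
          !![MvPolynomial.X 1, 0; MvPolynomial.X 0, MvPolynomial.X 2] *
          (MvPolynomial.C : k →+* MvPolynomial (Fin 3) k).mapMatrix h.val :
            Matrix (Fin 2) (Fin 2) (MvPolynomial (Fin 3) k)) i j) =
        MvPolynomial.eval x ((!![MvPolynomial.X 2, 0; MvPolynomial.X 0, MvPolynomial.X 1] :
          Matrix (Fin 2) (Fin 2) (MvPolynomial (Fin 3) k)) i j) := fun x i j => by rw [e]
    have e1 := E ![0,1,0] 1 1
    have e2 := E ![0,0,1] 0 0
    have e3 := E ![1,0,0] 0 1
    simp [Matrix.mul_apply, Fin.sum_univ_two] at e1 e2 e3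
    rcases e3 with e3 | e3 <;> simp [e3] at e1 e2
  · intro α β γ hα
    refine ⟨Matrix.GeneralLinearGroup.mkOfDetNeZero !![1, 0; -(β * α⁻¹), α⁻¹]
        (by simp [Matrix.det_fin_two, hα]),
      Matrix.GeneralLinearGroup.mkOfDetNeZero !![1, 0; -γ, α]
        (by simp [Matrix.det_fin_two, hα]), ?_⟩
    change (MvPolynomial.C : k →+* MvPolynomial (Fin 3) k).mapMatrix !![1, 0; -(β * α⁻¹), α⁻¹] *
      !![MvPolynomial.X 1, 0; MvPolynomial.C α * MvPolynomial.X 0 +
        MvPolynomial.C β * MvPolynomial.X 1 + MvPolynomial.C γ * MvPolynomial.X 2,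
        MvPolynomial.X 2] *
      (MvPolynomial.C : k →+* MvPolynomial (Fin 3) k).mapMatrix !![1, 0; -γ, α] = _
    have ha : (MvPolynomial.C α : MvPolynomial (Fin 3) k) * MvPolynomial.C α⁻¹ = 1 := by
      rw [← MvPolynomial.C_mul, mul_inv_cancel₀ hα, MvPolynomial.C_1]
    refine Matrix.ext fun i j => ?_
    fin_cases i <;> fin_cases j <;> simp [Matrix.mul_apply, Fin.sum_univ_two]
    · linear_combination (MvPolynomial.X 0 : MvPolynomial (Fin 3) k) * ha
    · linear_combination (MvPolynomial.X 2 : MvPolynomial (Fin 3) k) * ha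

end Groth.Agent.S13916
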