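import Groth.Statements.S13926
-- import your own Groth.Agent.* helpers here
import Mathlib

set_option autoImplicit false
universe u v w
open W4c1limliniiii

namespace Groth.Agent.S13926

theorem exists_between_aux {k : Type u} [Field k] {E : Type w} [AddCommGroup E] [Module k E]
    [FiniteDimensional k E] (U : Submodule k E) (d m : ℕ) :
    ∀ L : Submodule k E, L ≤ U → d ≤ Module.finrank k U → d = Module.finrank k L + m →
      ∃ V : Submodule k E, L ≤ V ∧ V ≤ U ∧ Module.finrank k V = d := by
  induction m with
  | zero =>
    intro L hLU _ hd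
    exact ⟨L, le_rfl, hLU, by omega⟩
  | succ m ih =>
    intro L hLU hdU hd
    have hlt : L < U := by
      refine lt_of_le_of_ne hLU ?_
      rintro rfl
      omega
    obtain ⟨u, huU, huL⟩ := SetLike.exists_of_lt hlt
    have hu0 : u ≠ 0 := fun h => huL (h ▸ L.zero_mem)
    have hdisj : Disjoint L (Submodule.span k {u}) := (Submodule.disjoint_span_singleton' hu0).2 huL
    have hfr : Module.finrank k ↥(L ⊔ Submodule.span k {u}) = Module.finrank k L + 1 := by
      have h1 := Submodule.finrank_sup_add_finrank_inf_eq L (Submodule.span k {u})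
      rw [hdisj.eq_bot, finrank_bot, add_zero, finrank_span_singleton hu0] at h1
      exact h1
    have hle : L ⊔ Submodule.span k {u} ≤ U :=
      sup_le hLU ((Submodule.span_singleton_le_iff_mem u U).2 huU)
    obtain ⟨V, hV1, hV2, hV3⟩ := ih (L ⊔ Submodule.span k {u}) hle hdU (by omega)
    exact ⟨V, le_trans le_sup_left hV1, hV2, hV3⟩

/-- Let k be a field, E₁ and E₂ finite-dimensional vector spaces over k of the same dimension, f : E₁ →
E₂ and g : E₂ → E₁ linear maps whose composite g ∘ f is multiplication by a scalar s, and V₁ a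
subspace of E₁. Then there is a subspace V₂ of E₂ of the same dimension as V₁ with f(V₁) ≤ V₂ and
g(V₂) ≤ V₁. (The published statement is the surjectivity of the truncation morphisms of a linked
Grassmannian, with a further assertion on lifting families; this row is the lifting step over a
field — over a point the chain of linked subspaces V_1, …, V_{n'} extends one index at a time — and
assumes only g ∘ f = s.) -/
theorem result (k : Type u) [Field k]
    (E₁ : Type v) (E₂ : Type w) [AddCommGroup E₁] [Module k E₁] [FiniteDimensional k E₁]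
    [AddCommGroup E₂] [Module k E₂] [FiniteDimensional k E₂]
    (hdim : Module.finrank k E₁ = Module.finrank k E₂)
    (f : E₁ →ₗ[k] E₂) (g : E₂ →ₗ[k] E₁) (s : k) (hgf : g.comp f = s • LinearMap.id)
    (V₁ : Submodule k E₁) :
    ∃ V₂ : Submodule k E₂, Module.finrank k V₂ = Module.finrank k V₁ ∧
      Submodule.map f V₁ ≤ V₂ ∧ Submodule.map g V₂ ≤ V₁ := by
  set L := Submodule.map f V₁ with hL
  set U := Submodule.comap g V₁ with hU
  have hLU : L ≤ U := by
    rintro _ ⟨v, hv, rfl⟩
    change g (f v) ∈ V₁
    have : g (f v) = s • v := by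
      have := LinearMap.congr_fun hgf v
      simpa using this
    rw [this]
    exact V₁.smul_mem s hv
  have hL1 : Module.finrank k L ≤ Module.finrank k V₁ := Submodule.finrank_map_le f V₁
  have hU1 : Module.finrank k V₁ ≤ Module.finrank k U := by
    set g' : E₂ →ₗ[k] E₁ ⧸ V₁ := V₁.mkQ.comp g with hg'
    have hker : LinearMap.ker g' = U := by
      rw [hg', LinearMap.ker_comp, Submodule.ker_mkQ]
    have h1 := LinearMap.finrank_range_add_finrank_ker g'
    have h2 : Module.finrank k (LinearMap.range g') ≤ Module.finrank k (E₁ ⧸ V₁) :=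
      Submodule.finrank_le _
    have h3 := Submodule.finrank_quotient_add_finrank V₁
    rw [hker] at h1
    omega
  obtain ⟨m, hm⟩ : ∃ m, Module.finrank k V₁ = Module.finrank k L + m := ⟨_, (Nat.add_sub_cancel' hL1).symm⟩
  obtain ⟨V, hV1, hV2, hV3⟩ := exists_between_aux U (Module.finrank k V₁) m L hLU hU1 hm
  exact ⟨V, hV3, hV1, Submodule.map_le_iff_le_comap.2 hV2⟩

end Groth.Agent.S13926
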