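import Groth.Statements.S13953
-- import your own Groth.Agent.* helpers here
import Mathlib

set_option autoImplicit false
universe u
open TateLoc

namespace Groth.Agent.S13953

/-- Let (R_i) be a family of local commutative rings and R = ∏ R_i. Any open cover of Spec R can be
refined by one coming from a finite partition of the index set: there is a map c from the index set
to a finite set such that, for each value m, the basic open subset of Spec R defined by the
idempotent which is 1 at the indices with c i = m and 0 elsewhere (this open is the spectrum of the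
product of the R_i over that class) is contained in some member of the cover. -/
theorem result {ι : Type u} (R : ι → Type u)
    [∀ i, CommRing (R i)] [∀ i, IsLocalRing (R i)] {J : Type u}
    (U : J → TopologicalSpace.Opens (PrimeSpectrum (∀ i, R i))) (hU : ⨆ j, U j = ⊤) :
    ∃ (n : ℕ) (c : ι → Fin n), ∀ m : Fin n, ∃ j : J,
      PrimeSpectrum.basicOpen (fun i => if c i = m then (1 : R i) else 0) ≤ U j := by
  classical
  have hmem : ∀ j (f : ∀ i, R i), f ∈ PrimeSpectrum.vanishingIdeal ((U j : Set _)ᶜ) →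
      ∀ 𝔭 : PrimeSpectrum (∀ i, R i), 𝔭 ∉ U j → f ∈ 𝔭.asIdeal := by
    intro j f hf 𝔭 h𝔭
    exact (PrimeSpectrum.mem_vanishingIdeal _ _).mp hf 𝔭 h𝔭
  have htop : (⨆ j, PrimeSpectrum.vanishingIdeal ((U j : Set (PrimeSpectrum (∀ i, R i)))ᶜ)) = ⊤ := by
    rw [← PrimeSpectrum.zeroLocus_empty_iff_eq_top, PrimeSpectrum.zeroLocus_iSup]
    rw [Set.eq_empty_iff_forall_notMem]
    intro 𝔭 h𝔭
    rw [Set.mem_iInter] at h𝔭
    have h1 : 𝔭 ∈ (⨆ j, U j) := by rw [hU]; trivial
    obtain ⟨j, hj⟩ := TopologicalSpace.Opens.mem_iSup.mp h1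
    have h2 := h𝔭 j
    rw [PrimeSpectrum.zeroLocus_vanishingIdeal_eq_closure,
      (U j).isOpen.isClosed_compl.closure_eq] at h2
    exact h2 hj
  have h1 : (1 : ∀ i, R i) ∈
      ⨆ j, PrimeSpectrum.vanishingIdeal ((U j : Set (PrimeSpectrum (∀ i, R i)))ᶜ) := by
    rw [htop]; trivial
  obtain ⟨s, hs⟩ := (Submodule.mem_iSup_iff_exists_finset).mp h1
  obtain ⟨μ, hμ⟩ := (Submodule.mem_iSup_finset_iff_exists_sum _ _).mp hs
  have hunit : ∀ i : ι, ∃ j ∈ s, IsUnit ((μ j : ∀ i, R i) i) := by
    intro i
    by_contra hcon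
    simp only [not_exists, not_and] at hcon
    have hsum : ∑ j ∈ s, ((μ j : ∀ i, R i) i) = 1 := by
      have := congrFun hμ i
      simpa [Finset.sum_apply] using this
    have : (1 : R i) ∈ IsLocalRing.maximalIdeal (R i) := by
      rw [← hsum]
      apply Ideal.sum_mem
      intro j hj
      exact (IsLocalRing.mem_maximalIdeal _).mpr (hcon j hj)
    exact (Ideal.ne_top_iff_one _).mp (IsLocalRing.maximalIdeal.isMaximal (R i)).ne_top this
  choose jj hjs hju using hunit
  refine ⟨s.card, fun i => s.equivFin ⟨jj i, hjs i⟩, fun m => ⟨(s.equivFin.symm m : J), ?_⟩⟩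
  intro 𝔭 h𝔭
  by_contra hnot
  have hμp : (μ (s.equivFin.symm m : J) : ∀ i, R i) ∈ 𝔭.asIdeal :=
    hmem _ _ (μ (s.equivFin.symm m : J)).2 𝔭 hnot
  apply (PrimeSpectrum.mem_basicOpen _ _).mp h𝔭
  have : (fun i => if s.equivFin ⟨jj i, hjs i⟩ = m then (1 : R i) else 0) =
      (μ (s.equivFin.symm m : J) : ∀ i, R i) *
        (fun i => if s.equivFin ⟨jj i, hjs i⟩ = m then
          Ring.inverse ((μ (s.equivFin.symm m : J) : ∀ i, R i) i) else 0) := by
    funext i
    simp only [Pi.mul_apply]
    split_ifs with hc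
    · have hji : jj i = (s.equivFin.symm m : J) := by
        rw [← hc]; simp
      rw [← hji]
      exact (Ring.mul_inverse_cancel _ (hju i)).symm
    · simp
  rw [this]
  exact Ideal.mul_mem_right _ _ hμp

end Groth.Agent.S13953
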