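import Groth.Statements.S13958
-- import your own Groth.Agent.* helpers here
import Mathlib
import Groth.Agent.S13379

set_option autoImplicit false
universe u
open TateLoc

namespace Groth.Agent.S13958

section
open ProfiniteGrp ProfiniteGrp.ProfiniteCompletion CategoryTheory

theorem exists_finiteIndex_sep (B : Type u) [CommGroup B] [Group.FG B] (A : Subgroup B) (x : B)
    (hx : x ∉ A) : ∃ K : Subgroup B, K.FiniteIndex ∧ A ≤ K ∧ x ∉ K := by
  have hz : ∀ c ⊆ {K : Subgroup B | A ≤ K ∧ x ∉ K}, IsChain (· ≤ ·) c → ∀ y ∈ c,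
      ∃ ub ∈ {K : Subgroup B | A ≤ K ∧ x ∉ K}, ∀ z ∈ c, z ≤ ub := by
    intro c hcs hc y hy
    refine ⟨sSup c, ⟨(hcs hy).1.trans (le_sSup hy), ?_⟩, fun z hz => le_sSup hz⟩
    intro hxs
    obtain ⟨L, hL, hxL⟩ := (Subgroup.mem_sSup_of_directedOn ⟨y, hy⟩ hc.directedOn).mp hxs
    exact (hcs hL).2 hxL
  obtain ⟨K, -, hK⟩ := zorn_le_nonempty₀ _ hz A ⟨le_rfl, hx⟩
  have hKs : A ≤ K ∧ x ∉ K := hK.1
  have hKA : A ≤ K := hKs.1
  have hxK : x ∉ K := hKs.2
  have hmax : ∀ y : B, y ∉ K →
      ∃ n : ℤ, (QuotientGroup.mk y : B ⧸ K) ^ n = QuotientGroup.mk x := by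
    intro y hy
    have hL : x ∈ K ⊔ Subgroup.zpowers y := by
      by_contra hcon
      have hle : K ⊔ Subgroup.zpowers y ≤ K :=
        hK.2 (⟨hKA.trans le_sup_left, hcon⟩ : A ≤ K ⊔ Subgroup.zpowers y ∧ x ∉ K ⊔ Subgroup.zpowers y)
          le_sup_left
      exact hy (hle (Subgroup.mem_sup_right (Subgroup.mem_zpowers y)))
    obtain ⟨k, hk, w, hw, hkw⟩ := Subgroup.mem_sup.mp hL
    obtain ⟨n, rfl⟩ := Subgroup.mem_zpowers_iff.mp hw
    refine ⟨n, ?_⟩
    rw [← hkw, QuotientGroup.mk_mul, QuotientGroup.mk_zpow,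
      (QuotientGroup.eq_one_iff k).mpr hk, one_mul]
  have hq1 : (QuotientGroup.mk x : B ⧸ K) ≠ 1 :=
    fun h => hxK ((QuotientGroup.eq_one_iff x).mp h)
  have hqfin : ∃ m : ℤ, m ≠ 0 ∧ (QuotientGroup.mk x : B ⧸ K) ^ m = 1 := by
    by_cases h2 : x * x ∈ K
    · refine ⟨2, by norm_num, ?_⟩
      rw [zpow_two, ← QuotientGroup.mk_mul]
      exact (QuotientGroup.eq_one_iff _).mpr h2
    · obtain ⟨n, hn⟩ := hmax (x * x) h2
      rw [QuotientGroup.mk_mul] at hn
      refine ⟨n + n - 1, by omega, ?_⟩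
      rw [zpow_sub_one, zpow_add, ← mul_zpow, hn, mul_inv_cancel]
  obtain ⟨m, hm0, hm⟩ := hqfin
  have htors : IsMulTorsion (B ⧸ K) := by
    intro p
    obtain ⟨y, rfl⟩ := QuotientGroup.mk_surjective p
    by_cases hy : y ∈ K
    · rw [(QuotientGroup.eq_one_iff y).mpr hy]
      exact IsOfFinOrder.one
    · obtain ⟨n, hn⟩ := hmax y hy
      have hn0 : n ≠ 0 := by
        rintro rfl
        rw [zpow_zero] at hn
        exact hq1 hn.symm
      refine isOfFinOrder_iff_zpow_eq_one.mpr ⟨n * m, mul_ne_zero hn0 hm0, ?_⟩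
      rw [zpow_mul, hn, hm]
  haveI : Finite (B ⧸ K) := CommGroup.finite_of_fg_isMulTorsion (B ⧸ K) htors
  exact ⟨K, Subgroup.finiteIndex_of_finite_quotient, hKA, hxK⟩

end

open CategoryTheory in
/-- Let A' be a finitely generated abelian group (written multiplicatively, discrete) and A a subgroup.
If the image of x ∈ A' in the profinite completion of A' lies in the image of the profinite
completion of A under the map induced by the inclusion, then x ∈ A. (The published statement says
that the square formed by the two completion maps and the two inclusions is Cartesian; given the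
injectivity of the induced map on completions, which holds here, that amounts to this membership
criterion.) -/
theorem result (A' : Type u) [CommGroup A'] [Group.FG A']
    (A : Subgroup A') (x : A')
    (hx : ProfiniteGrp.ProfiniteCompletion.etaFn (GrpCat.of A') x ∈
      Set.range ⇑(ProfiniteGrp.profiniteCompletion.map (GrpCat.ofHom A.subtype)).hom) :
    x ∈ A := by
  by_contra hxA
  obtain ⟨K, hKfin, hAK, hxK⟩ := exists_finiteIndex_sep A' A x hxA
  obtain ⟨w, hw⟩ := hx
  obtain ⟨N, hN⟩ : ∃ N : FiniteIndexNormalSubgroup (GrpCat.of A'), N.toSubgroup = K :=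
    ⟨{ toSubgroup := K
       isNormal' := ⟨fun n hn g => by rw [mul_comm g n, mul_inv_cancel_right]; exact hn⟩
       isFiniteIndex' := hKfin }, rfl⟩
  have key : ∀ w : ProfiniteGrp.ProfiniteCompletion.completion (GrpCat.of A),
      ((ProfiniteGrp.profiniteCompletion.map (GrpCat.ofHom A.subtype)).hom w).1 N = 1 := by
    intro w
    refine DenseRange.induction_on
      (p := fun w : ProfiniteGrp.ProfiniteCompletion.completion (GrpCat.of A) =>
        ((ProfiniteGrp.profiniteCompletion.map (GrpCat.ofHom A.subtype)).hom w).1 N = 1)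
      (ProfiniteGrp.ProfiniteCompletion.denseRange (GrpCat.of A)) w
      (isClosed_eq ?_ continuous_const) ?_
    · exact ((continuous_apply N).comp continuous_subtype_val).comp
        (map_continuous (ProfiniteGrp.profiniteCompletion.map (GrpCat.ofHom A.subtype)).hom)
    · intro a
      show ((ProfiniteGrp.profiniteCompletion.map (GrpCat.ofHom A.subtype)).hom
        (ProfiniteGrp.ProfiniteCompletion.etaFn (GrpCat.of A) a)).1 N = 1
      rw [Groth.Agent.S13379.pc_map_etaFn]
      show (QuotientGroup.mk a.1 : A' ⧸ N.toSubgroup) = 1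
      rw [QuotientGroup.eq_one_iff, hN]
      exact hAK a.2
  have h1 := key w
  rw [hw] at h1
  have h2 : (QuotientGroup.mk x : A' ⧸ N.toSubgroup) = 1 := h1
  rw [QuotientGroup.eq_one_iff, hN] at h2
  exact hxK h2

end Groth.Agent.S13958
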