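import Groth.Statements.S1399
import Mathlib
import Groth.Agent.S2338

set_option autoImplicit false
set_option linter.style.haveILetI false
universe u
open FlatMor

namespace Groth.Agent.S1399

open AlgebraicGeometry CategoryTheory Limits

lemma qa_iff_image {X : Scheme.{u}} (O : X.Opens) (U : (O : Scheme.{u}).Opens) :
    Scheme.IsQuasiAffine (U : Scheme.{u}) ↔ Scheme.IsQuasiAffine (O.ι ''ᵁ U : Scheme.{u}) :=
  ⟨fun h => by haveI := h; exact Scheme.IsQuasiAffine.of_isAffineHom (O.ι.isoImage U).inv,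
   fun h => by haveI := h; exact Scheme.IsQuasiAffine.of_isAffineHom (O.ι.isoImage U).hom⟩

lemma indQA_iff {X : Scheme.{u}} (O : X.Opens) :
    MoreMor.IsIndQuasiAffine (O : Scheme.{u}) ↔
      ∀ U' : X.Opens, U' ≤ O → IsCompact (U' : Set X) → Scheme.IsQuasiAffine (U' : Scheme.{u}) := by
  constructor
  · intro h U' hle hc
    have h1 : O.ι ''ᵁ (O.ι ⁻¹ᵁ U') = U' := by
      rw [Scheme.Hom.image_preimage_eq_opensRange_inf, Scheme.Opens.opensRange_ι]
      exact inf_eq_right.mpr hle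
    have hc' : IsCompact ((O.ι ⁻¹ᵁ U' : (O : Scheme.{u}).Opens) : Set (O : Scheme.{u})) := by
      refine (O.ι.isOpenEmbedding.isInducing.isCompact_preimage_iff ?_).2 hc
      rw [Scheme.Opens.range_ι]
      exact hle
    have := (qa_iff_image O _).1 (h _ hc')
    rwa [h1] at this
  · intro h U hc
    refine (qa_iff_image O U).2 (h _ (O.ι_image_le U) ?_)
    simpa using hc.image O.ι.continuous

open AlgebraicGeometry CategoryTheory Limits in
/-- If g ∘ f is ind-quasi-affine then so is f. -/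
theorem result {X Y Z : Scheme.{u}} (f : X ⟶ Y) (g : Y ⟶ Z) (h : MoreMor.IsIndQuasiAffineHom (f ≫ g)) :
    MoreMor.IsIndQuasiAffineHom f := by
  intro V hV
  rw [indQA_iff]
  intro U' hle hc
  haveI : CompactSpace (U' : Scheme.{u}) := isCompact_iff_compactSpace.mp hc
  apply Groth.Agent.S2338.quasiAffine_of_cover
  intro x
  have hxV : f (U'.ι x) ∈ V := hle x.2
  obtain ⟨W, hW, hxW⟩ : ∃ W : Z.Opens, IsAffineOpen W ∧ g (f (U'.ι x)) ∈ W := by
    obtain ⟨_, ⟨W, hW, rfl⟩, hxW, -⟩ := Z.isBasis_affineOpens.exists_subset_of_mem_open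
      (Set.mem_univ (g (f (U'.ι x)))) isOpen_univ
    exact ⟨W, hW, hxW⟩
  obtain ⟨a, ha1, ha2⟩ : ∃ a : Γ(Y, V), Y.basicOpen a ≤ g ⁻¹ᵁ W ∧ f (U'.ι x) ∈ Y.basicOpen a :=
    hV.exists_basicOpen_le ⟨f (U'.ι x), hxW⟩ hxV
  have hUV : (⊤ : (U' : Scheme.{u}).Opens) ≤ (U'.ι ≫ f) ⁻¹ᵁ V := fun z _ => by
    have : f (U'.ι z) ∈ V := hle z.2
    simpa using this
  let r : Γ((U' : Scheme.{u}), ⊤) := (U'.ι ≫ f).appLE V ⊤ hUV a
  have hr : (U' : Scheme.{u}).basicOpen r = (U'.ι ≫ f) ⁻¹ᵁ (Y.basicOpen a) := by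
    rw [Scheme.basicOpen_appLE]
    simp
  refine ⟨r, ?_, ?_⟩
  · have hc1 : IsCompact (((U' : Scheme.{u}).basicOpen r : (U' : Scheme.{u}).Opens) :
        Set (U' : Scheme.{u})) := by
      have := (isRetrocompact_basicOpen r) isCompact_univ isOpen_univ
      simpa using this
    rw [qa_iff_image]
    have hind := (indQA_iff ((f ≫ g) ⁻¹ᵁ W)).1 (h W hW)
    apply hind
    · rintro _ ⟨z, hz, rfl⟩
      rw [hr] at hz
      have h2 : f (U'.ι z) ∈ Y.basicOpen a := hz
      have h3 := ha1 h2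
      simpa using h3
    · simpa using hc1.image U'.ι.continuous
  · rw [hr]
    exact ha2

end Groth.Agent.S1399
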