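import Groth.Statements.S1396
import Mathlib
import Groth.Agent.S2338
import Groth.Agent.S1399

set_option autoImplicit false
set_option linter.style.haveILetI false
universe u
open FlatMor

namespace Groth.Agent.S1396

open AlgebraicGeometry CategoryTheory Limits in
/-- (1) ⇔ (4): a morphism f : X → Y is ind-quasi-affine (the preimage of every affine open is a scheme
all of whose quasi-compact opens are quasi-affine) if and only if for every quasi-compact
quasi-separated open V of Y and every quasi-compact open U of the preimage of V, the induced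
morphism U → V is quasi-affine (quasi-compact with quasi-affine preimages of affine opens). -/
theorem result {X Y : Scheme.{u}} (f : X ⟶ Y) :
    MoreMor.IsIndQuasiAffineHom f ↔ ∀ (V : Y.Opens), IsCompact (V : Set ↑Y) → IsQuasiSeparated (V : Set ↑Y) →
      ∀ (U : X.Opens) (hUV : U ≤ f ⁻¹ᵁ V), IsCompact (U : Set ↑X) → MoreMor.IsQuasiAffineHom (f.resLE V U hUV) := by
  constructor
  · intro h V hVc hVqs U hUV hUc
    haveI : CompactSpace (U : Scheme.{u}) := isCompact_iff_compactSpace.mp hUc
    haveI : QuasiSeparatedSpace (V : Scheme.{u}) :=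
      (isQuasiSeparated_iff_quasiSeparatedSpace _ V.2).1 hVqs
    haveI hqc : QuasiCompact (f.resLE V U hUV) := inferInstance
    refine ⟨hqc, fun V₁ hV₁ => ?_⟩
    have hA : IsAffineOpen (V.ι ''ᵁ V₁) := hV₁.image_of_isOpenImmersion V.ι
    have hind := (Groth.Agent.S1399.indQA_iff (f ⁻¹ᵁ (V.ι ''ᵁ V₁))).1 (h _ hA)
    rw [Groth.Agent.S1399.qa_iff_image]
    apply hind
    · exact (Scheme.Hom.le_resLE_preimage_iff f hUV V₁ _).1 le_rfl
    · have hc1 : IsCompact ((f.resLE V U hUV ⁻¹ᵁ V₁ : (U : Scheme.{u}).Opens) :
          Set (U : Scheme.{u})) :=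
        hqc.isCompact_preimage _ V₁.2 hV₁.isCompact
      simpa using hc1.image U.ι.continuous
  · intro h V hV
    rw [Groth.Agent.S1399.indQA_iff]
    intro U' hle hc
    have hq := h V hV.isCompact hV.isQuasiSeparated U' hle hc
    haveI : IsAffine (V : Scheme.{u}) := hV
    have h1 := hq.2 ⊤ (isAffineOpen_top _)
    haveI : Scheme.IsQuasiAffine ((⊤ : (U' : Scheme.{u}).Opens) : Scheme.{u}) := h1
    exact Scheme.IsQuasiAffine.of_isAffineHom (Scheme.topIso (U' : Scheme.{u})).inv

end Groth.Agent.S1396
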