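import Groth.Statements.S13963
-- import your own Groth.Agent.* helpers here
import Mathlib

set_option autoImplicit false
universe u
open TateLoc

namespace Groth.Agent.S13963

open scoped Pointwise

/-- Let A' → A → A'' be continuous homomorphisms of locally compact, second-countable, Hausdorff abelian
topological groups which form a short exact sequence of abstract groups (the first injective, the
second surjective, image equal to kernel). If A' and A'' are compact, then A is compact. -/
theorem result (A' A A'' : Type u)
    [AddCommGroup A'] [TopologicalSpace A'] [IsTopologicalAddGroup A'] [SecondCountableTopology A'] [T2Space A']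
    [CompactSpace A']
    [AddCommGroup A] [TopologicalSpace A] [IsTopologicalAddGroup A] [LocallyCompactSpace A]
    [SecondCountableTopology A] [T2Space A]
    [AddCommGroup A''] [TopologicalSpace A''] [IsTopologicalAddGroup A''] [SecondCountableTopology A''] [T2Space A'']
    [CompactSpace A'']
    (f : A' →+ A) (g : A →+ A'') (hf : Continuous f) (hg : Continuous g)
    (hinj : Function.Injective f) (hsurj : Function.Surjective g) (hex : g.ker = f.range) :
    CompactSpace A := by
  classical
  have hK : IsCompact (Set.range f) := isCompact_range hf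
  have hopen : IsOpenMap g := AddMonoidHom.isOpenMap_of_sigmaCompact g hsurj hg
  have hN : ∀ x : A, ∃ N : Set A, IsCompact N ∧ N ∈ nhds x := fun x => exists_compact_mem_nhds x
  choose N hNc hNn using hN
  have hcover : (Set.univ : Set A'') ⊆ ⋃ x : A, g '' interior (N x) := by
    intro y _
    obtain ⟨x, rfl⟩ := hsurj y
    exact Set.mem_iUnion.2 ⟨x, x, mem_interior_iff_mem_nhds.2 (hNn x), rfl⟩
  obtain ⟨t, ht⟩ := isCompact_univ.elim_finite_subcover (fun x => g '' interior (N x))
    (fun x => hopen _ isOpen_interior) hcover
  have hA : (Set.univ : Set A) ⊆ ⋃ x ∈ t, (N x + Set.range f) := by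
    intro a _
    have h1 := ht (Set.mem_univ (g a))
    rw [Set.mem_iUnion₂] at h1
    obtain ⟨x, hxt, n, hn, hgn⟩ := h1
    have hk : a - n ∈ g.ker := by rw [AddMonoidHom.mem_ker, map_sub, hgn, sub_self]
    rw [hex] at hk
    obtain ⟨a', ha'⟩ := hk
    refine Set.mem_biUnion hxt ?_
    exact Set.mem_add.2 ⟨n, interior_subset hn, a - n, ⟨a', ha'⟩, by abel⟩
  have hc : IsCompact (⋃ x ∈ t, (N x + Set.range f)) :=
    t.isCompact_biUnion (fun x _ => (hNc x).add hK)
  exact isCompact_univ_iff.1 (hc.of_isClosed_subset isClosed_univ hA)

end Groth.Agent.S13963
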