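import Groth.Statements.S1397
import Mathlib
import Groth.Agent.S2338
import Groth.Agent.S1399

set_option autoImplicit false
set_option linter.style.haveILetI false
universe u
open FlatMor

namespace Groth.Agent.S1397

open AlgebraicGeometry CategoryTheory Limits in
/-- Ind-quasi-affine morphisms are stable under composition. -/
theorem result {X Y Z : Scheme.{u}} (f : X ⟶ Y) (g : Y ⟶ Z) (hf : MoreMor.IsIndQuasiAffineHom f) (hg : MoreMor.IsIndQuasiAffineHom g) :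
    MoreMor.IsIndQuasiAffineHom (f ≫ g) := by
  intro W hW
  rw [Groth.Agent.S1399.indQA_iff]
  intro U' hle hc
  haveI : CompactSpace (U' : Scheme.{u}) := isCompact_iff_compactSpace.mp hc
  obtain ⟨Y₁, hY₁le, hY₁c, hUY₁⟩ : ∃ Y₁ : Y.Opens, Y₁ ≤ g ⁻¹ᵁ W ∧ IsCompact (Y₁ : Set Y) ∧
      U' ≤ f ⁻¹ᵁ Y₁ := by
    have hK : IsCompact (f '' (U' : Set X)) := hc.image f.continuous
    have hKO : f '' (U' : Set X) ⊆ ((g ⁻¹ᵁ W : Y.Opens) : Set Y) := by
      rintro _ ⟨x, hx, rfl⟩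
      have := hle hx
      simpa using this
    have hex : ∀ y ∈ ((g ⁻¹ᵁ W : Y.Opens) : Set Y), ∃ V : Y.Opens, IsAffineOpen V ∧ y ∈ V ∧
        V ≤ g ⁻¹ᵁ W := by
      intro y hy
      obtain ⟨_, ⟨V, hV, rfl⟩, hyV, hVO⟩ :=
        Y.isBasis_affineOpens.exists_subset_of_mem_open hy (g ⁻¹ᵁ W).2
      exact ⟨V, hV, hyV, hVO⟩
    choose! Vy hVy1 hVy2 hVy3 using hex
    obtain ⟨t, ht1, ht2⟩ := hK.elim_nhds_subcover (fun y => (Vy y : Set Y))
      (fun y hy => (Vy y).2.mem_nhds (hVy2 y (hKO hy)))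
    let Y₁ : Y.Opens := ⟨⋃ y ∈ t, (Vy y : Set Y), isOpen_biUnion fun y _ => (Vy y).2⟩
    refine ⟨Y₁, ?_, ?_, ?_⟩
    · intro z hz
      obtain ⟨y, hy, hzy⟩ := Set.mem_iUnion₂.mp hz
      exact hVy3 y (hKO (ht1 y hy)) hzy
    · exact t.isCompact_biUnion fun y hy => (hVy1 y (hKO (ht1 y hy))).isCompact
    · intro x hx
      exact ht2 ⟨x, hx, rfl⟩
  haveI : Scheme.IsQuasiAffine (Y₁ : Scheme.{u}) :=
    (Groth.Agent.S1399.indQA_iff (g ⁻¹ᵁ W)).1 (hg W hW) Y₁ hY₁le hY₁c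
  apply Groth.Agent.S2338.quasiAffine_of_cover
  intro x
  obtain ⟨_, ⟨_, ⟨r, hr, rfl⟩, rfl⟩, hxr, -⟩ :=
    (Scheme.IsQuasiAffine.isBasis_basicOpen (Y₁ : Scheme.{u})).exists_subset_of_mem_open
      (Set.mem_univ (f.resLE Y₁ U' hUY₁ x)) isOpen_univ
  refine ⟨(f.resLE Y₁ U' hUY₁).appTop r, ?_, ?_⟩
  · have hc1 : IsCompact (((U' : Scheme.{u}).basicOpen ((f.resLE Y₁ U' hUY₁).appTop r) :
        (U' : Scheme.{u}).Opens) : Set (U' : Scheme.{u})) := by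
      have := (isRetrocompact_basicOpen ((f.resLE Y₁ U' hUY₁).appTop r)) isCompact_univ isOpen_univ
      simpa using this
    have hA : IsAffineOpen (Y₁.ι ''ᵁ ((Y₁ : Scheme.{u}).basicOpen r)) :=
      hr.image_of_isOpenImmersion Y₁.ι
    have hind := (Groth.Agent.S1399.indQA_iff (f ⁻¹ᵁ (Y₁.ι ''ᵁ ((Y₁ : Scheme.{u}).basicOpen r)))).1
      (hf _ hA)
    rw [Groth.Agent.S1399.qa_iff_image]
    apply hind
    · rw [← Scheme.preimage_basicOpen_top]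
      exact (Scheme.Hom.le_resLE_preimage_iff f hUY₁ _ _).1 le_rfl
    · simpa using hc1.image U'.ι.continuous
  · rw [← Scheme.preimage_basicOpen_top]
    exact hxr

end Groth.Agent.S1397
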