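import Groth.Statements.S13985
-- import your own Groth.Agent.* helpers here
import Mathlib

set_option autoImplicit false
universe u
open CategoryTheory
open CohGab

namespace Groth.Agent.S13985

/-- For a ring A, the canonical map from the centre of A to the centre of the category of finitely
generated left A-modules (the endomorphism ring of its identity functor), sending a to
multiplication by a, is bijective: every natural endomorphism of the identity functor acts on each
finitely generated module as multiplication by a unique element of A, and that element is central.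
(The published statement calls this map an isomorphism of commutative rings; this row states its
bijectivity.) -/
theorem result (A : Type u) [Ring A]
    (φ : 𝟭 (FGModuleCat.{u} A) ⟶ 𝟭 (FGModuleCat.{u} A)) :
    ∃! a : A, a ∈ Subring.center A ∧
      ∀ (M : FGModuleCat.{u} A) (x : M), (φ.app M).hom.hom x = a • x := by
  have nat : ∀ (M N : FGModuleCat.{u} A) (g : M ⟶ N) (x : M),
      (φ.app N).hom.hom (g.hom.hom x) = g.hom.hom ((φ.app M).hom.hom x) := by
    intro M N g x
    exact congrArg (fun t => t.hom.hom x) (φ.naturality g)
  have hform : ∀ (M : FGModuleCat.{u} A) (x : M),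
      (φ.app M).hom.hom x = ((φ.app (FGModuleCat.of A A)).hom.hom (1 : A)) • x := by
    intro M x
    have h : (φ.app M).hom.hom ((1 : A) • x)
        = ((φ.app (FGModuleCat.of A A)).hom.hom (1 : A)) • x :=
      nat (FGModuleCat.of A A) M
        (ObjectProperty.homMk (ModuleCat.ofHom (LinearMap.toSpanSingleton A M x))) (1 : A)
    rwa [one_smul] at h
  refine ⟨(φ.app (FGModuleCat.of A A)).hom.hom (1 : A), ⟨?_, hform⟩, ?_⟩
  · rw [Subring.mem_center_iff]
    intro b
    have h1 := hform (FGModuleCat.of A A) b
    have h2 : (φ.app (FGModuleCat.of A A)).hom.hom (b • (1 : A))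
        = b • (φ.app (FGModuleCat.of A A)).hom.hom (1 : A) := map_smul _ b (1 : A)
    rw [smul_eq_mul, mul_one] at h2
    rw [h2] at h1
    exact h1
  · rintro a' ⟨_, ha'⟩
    have h3 := ha' (FGModuleCat.of A A) (1 : A)
    rw [h3]
    exact (mul_one a').symm

end Groth.Agent.S13985
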