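import Groth.Statements.S13996
-- import your own Groth.Agent.* helpers here
import Mathlib

set_option autoImplicit false
universe u
open CAlg

namespace Groth.Agent.S13996

/-- Let R be a reduced Noetherian local ring of Krull dimension one with maximal ideal m, and M a
non-zero finitely generated R-module. Then M is torsion-free in the sense that no element of m which
is a non-zero-divisor on R is a zero-divisor on M, if and only if M has depth one, i.e. some element
of m is a non-zero-divisor on M. (The published statement is for a non-zero coherent sheaf F on a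
connected reduced projective curve over a characteristic-zero algebraically closed field and asserts
the equivalence of: F torsion-free in the above sense at every closed point; F pure of dimension
one; depth of F_p equal to one at every closed point p. This row is the equivalence of the first and
third conditions at a single closed point p with F_p ≠ 0; at points outside the support the third
condition as published cannot hold, so the row assumes the stalk non-zero.) -/
theorem result (R : Type u) [CommRing R] [IsLocalRing R] [IsNoetherianRing R] [IsReduced R] (hdim : ringKrullDim R = 1) (M : Type u) [AddCommGroup M] [Module R M] [Module.Finite R M] [Nontrivial M] : (∀ r : R, r ∈ IsLocalRing.maximalIdeal R → IsSMulRegular R r → IsSMulRegular M r) ↔ (∃ x : R, x ∈ IsLocalRing.maximalIdeal R ∧ IsSMulRegular M x) := by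
  classical
  have hF := minimalPrimes.finite_of_isNoetherianRing R
  have hmh : (IsLocalRing.maximalIdeal R).height = 1 := by
    have h1 := IsLocalRing.maximalIdeal_height_eq_ringKrullDim (R := R)
    rw [hdim] at h1
    exact_mod_cast h1
  have hreg_of : ∀ r : R, r ∈ nonZeroDivisors R → IsSMulRegular R r := by
    intro r hr
    exact isLeftRegular_iff.mp (isLeftRegular_iff_mem_nonZeroDivisorsLeft.mpr hr.1)
  have hnzd_of : ∀ r : R, IsSMulRegular R r → r ∈ nonZeroDivisors R := by
    intro r hr
    rw [mem_nonZeroDivisors_iff_right]
    intro x hx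
    have h2 : r * x = r * 0 := by rw [mul_zero, mul_comm, hx]
    exact hr.isLeftRegular h2
  constructor
  · intro H
    have hex : ∃ r ∈ IsLocalRing.maximalIdeal R, r ∈ nonZeroDivisors R := by
      by_contra hcon
      have hsub : ((IsLocalRing.maximalIdeal R : Ideal R) : Set R) ⊆
          ⋃ i ∈ ((hF.toFinset : Finset (Ideal R)) : Set (Ideal R)), (i : Set R) := by
        intro r hr
        have hr' : r ∉ nonZeroDivisors R := fun h => hcon ⟨r, hr, h⟩
        rw [mem_nonZeroDivisors_iff_right] at hr'
        have hr2 : ∃ y, y * r = 0 ∧ y ≠ 0 := by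
          by_contra h3
          apply hr'
          intro y hy
          by_contra hy0
          exact h3 ⟨y, hy, hy0⟩
        obtain ⟨y, hyr, hy0⟩ := hr2
        have h4 : r ∈ ⋃ p ∈ (⊥ : Ideal R).minimalPrimes, (p : Set R) := by
          rw [Ideal.iUnion_minimalPrimes]
          refine ⟨y, ?_, ?_⟩
          · intro hy
            obtain ⟨n, hn⟩ := Ideal.mem_radical_iff.mp hy
            rw [Ideal.mem_bot] at hn
            exact hy0 (IsReduced.eq_zero y ⟨n, hn⟩)
          · apply Ideal.le_radical
            rw [Ideal.mem_bot, mul_comm, hyr]
        obtain ⟨p, hp, hrp⟩ := Set.mem_iUnion₂.mp h4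
        exact Set.mem_iUnion₂.mpr ⟨p, Finset.mem_coe.mpr (hF.mem_toFinset.mpr hp), hrp⟩
      obtain ⟨p, hp, hmp⟩ := (Ideal.subset_union_prime (⊥ : Ideal R) ⊥
        (fun i hi _ _ => (hF.mem_toFinset.mp hi).1.1)).mp hsub
      have hpmin : p ∈ minimalPrimes R := hF.mem_toFinset.mp hp
      haveI : p.IsPrime := hpmin.1.1
      have hpm : p = IsLocalRing.maximalIdeal R :=
        le_antisymm (IsLocalRing.le_maximalIdeal (Ideal.IsPrime.ne_top ‹_›)) hmp
      rw [hpm] at hpmin
      have h0 := Ideal.height_eq_zero_iff.mpr hpmin
      rw [hmh] at h0
      exact one_ne_zero h0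
    obtain ⟨r, hrm, hr⟩ := hex
    exact ⟨r, hrm, H r hrm (hreg_of r hr)⟩
  · rintro ⟨x, hxm, hx⟩ r hrm hr
    have hrnzd := hnzd_of r hr
    intro a b hab
    by_contra hne
    have hz : a - b ≠ 0 := sub_ne_zero.mpr hne
    have hrz : r • (a - b) = 0 := by
      rw [smul_sub]; exact sub_eq_zero.mpr hab
    obtain ⟨P, hPass, hPle⟩ := exists_le_isAssociatedPrime_of_isNoetherianRing R (a - b) hz
    obtain ⟨hPprime, w, hPw⟩ := isAssociatedPrime_iff.mp hPass
    have hrP : r ∈ P :=
      hPle (by rw [Submodule.mem_colon_singleton, Submodule.mem_bot]; exact hrz)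
    have hxP : x ∉ P := by
      intro hxP
      rw [hPw, Submodule.mem_colon_singleton, Submodule.mem_bot] at hxP
      have hw0 : w = 0 := hx.right_eq_zero_of_smul hxP
      apply hPprime.ne_top
      rw [Ideal.eq_top_iff_one, hPw, Submodule.mem_colon_singleton, hw0, smul_zero]
      exact Submodule.zero_mem _
    have hPm : P < IsLocalRing.maximalIdeal R := by
      refine lt_of_le_of_ne (IsLocalRing.le_maximalIdeal hPprime.ne_top) ?_
      intro h; rw [h] at hxP; exact hxP hxm
    haveI := hPprime
    have h1 := Ideal.height_strict_mono_of_isPrime hPm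
    rw [hmh] at h1
    have h2 : P.height = 0 := by
      rwa [Order.lt_one_iff] at h1
    have hPmin : P ∈ minimalPrimes R := Ideal.height_eq_zero_iff.mp h2
    exact notMem_nonZeroDivisors_of_mem_mem_minimalPrimes hrP hPmin hrnzd

end Groth.Agent.S13996
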