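import Groth.Statements.S13997
-- import your own Groth.Agent.* helpers here
import Mathlib

set_option autoImplicit false
universe u
open FlatMor

namespace Groth.Agent.S13997

lemma ft_lift {B A A₀ : Type*} [CommRing B] [CommRing A] [CommRing A₀] (φ : B →+* A) (π : A →+* A₀)
    (hπ : Function.Surjective π) (hnil : IsNilpotent (RingHom.ker π)) (hfg : (RingHom.ker π).FG)
    (h : (π.comp φ).FiniteType) : φ.FiniteType := by
  classical
  letI := φ.toAlgebra
  letI := (π.comp φ).toAlgebra
  let πₐ : A →ₐ[B] A₀ := { π with commutes' := fun b => rfl }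
  obtain ⟨s, hs⟩ := (h : Algebra.FiniteType B A₀).out
  obtain ⟨g, hg⟩ := hfg
  obtain ⟨N, hN⟩ := hnil
  let t : Finset A := s.image (Function.surjInv hπ)
  let A' : Subalgebra B A := Algebra.adjoin B ((t ∪ g : Finset A) : Set A)
  have hgA' : ∀ x ∈ g, x ∈ A' := fun x hx =>
    Algebra.subset_adjoin (by simp [hx])
  have h1 : ∀ a : A, ∃ a' ∈ A', a - a' ∈ RingHom.ker π := by
    intro a
    have hmem : πₐ a ∈ (Algebra.adjoin B ((t : Finset A) : Set A)).map πₐ := by
      rw [AlgHom.map_adjoin]
      have him : (πₐ '' ((t : Finset A) : Set A)) = (s : Set A₀) := by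
        simp only [t, Finset.coe_image, Set.image_image]
        have : ∀ y, πₐ (Function.surjInv hπ y) = y := fun y => Function.surjInv_eq hπ y
        simp [this]
      rw [him, hs]; trivial
    obtain ⟨a', ha', hpa⟩ := hmem
    refine ⟨a', Algebra.adjoin_mono (by simp) ha', ?_⟩
    rw [RingHom.mem_ker, map_sub, sub_eq_zero]; exact hpa.symm
  have R : ∀ k : ℕ, ∀ d ∈ (RingHom.ker π) ^ k, ∃ d' ∈ A', d - d' ∈ (RingHom.ker π) ^ (k + 1) := by
    intro k
    induction k with
    | zero => intro d _; simpa using h1 d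
    | succ k ih =>
      intro d hd
      rw [pow_succ] at hd
      refine Submodule.mul_induction_on hd ?_ ?_
      · intro y hy z hz
        rw [← hg] at hz
        obtain ⟨c, -, rfl⟩ := Submodule.mem_span_finset.mp hz
        have hex : ∀ x : A, ∃ e ∈ A', y * c x - e ∈ (RingHom.ker π) ^ (k + 1) :=
          fun x => ih _ (Ideal.mul_mem_right _ _ hy)
        choose e heA he using hex
        refine ⟨∑ x ∈ g, e x * x,
          Subalgebra.sum_mem _ fun x hx => Subalgebra.mul_mem _ (heA x) (hgA' x hx), ?_⟩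
        have hsum : y * ∑ x ∈ g, c x • x - ∑ x ∈ g, e x * x = ∑ x ∈ g, (y * c x - e x) * x := by
          rw [Finset.mul_sum, ← Finset.sum_sub_distrib]
          refine Finset.sum_congr rfl fun x _ => ?_
          simp only [smul_eq_mul]; ring
        rw [hsum, pow_succ (RingHom.ker π) (k + 1)]
        refine Ideal.sum_mem _ fun x hx => Ideal.mul_mem_mul (he x) ?_
        rw [← hg]; exact Ideal.subset_span hx
      · rintro d₁ d₂ ⟨d₁', h1', h1''⟩ ⟨d₂', h2', h2''⟩
        refine ⟨d₁' + d₂', Subalgebra.add_mem _ h1' h2', ?_⟩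
        have : d₁ + d₂ - (d₁' + d₂') = (d₁ - d₁') + (d₂ - d₂') := by ring
        rw [this]; exact Ideal.add_mem _ h1'' h2''
  have Q : ∀ k : ℕ, ∀ a : A, ∃ a' ∈ A', a - a' ∈ (RingHom.ker π) ^ k := by
    intro k
    induction k with
    | zero => intro a; exact ⟨0, Subalgebra.zero_mem _, by simp⟩
    | succ k ih =>
      intro a
      obtain ⟨a', ha', hd⟩ := ih a
      obtain ⟨d', hd', hdd⟩ := R k _ hd
      refine ⟨a' + d', Subalgebra.add_mem _ ha' hd', ?_⟩
      have : a - (a' + d') = a - a' - d' := by ring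
      rw [this]; exact hdd
  have htop : A' = ⊤ := by
    rw [eq_top_iff]
    intro a _
    obtain ⟨a', ha', hd⟩ := Q N a
    rw [hN] at hd
    have : a = a' := by rwa [Ideal.zero_eq_bot, Ideal.mem_bot, sub_eq_zero] at hd
    rw [this]; exact ha'
  exact ⟨⟨t ∪ g, htop⟩⟩

open AlgebraicGeometry CategoryTheory in
/-- Consider a commutative square of schemes F₀ ≫ j = i ≫ F in which i : Y₀ ⟶ Y and j : X₀ ⟶ X are
closed immersions surjective on points whose ideals are locally nilpotent (nilpotent on every affine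
open), and suppose moreover that the ideal of i is of finite type (finitely generated on every
affine open of Y). Then F : Y ⟶ X is locally of finite type if and only if F₀ : Y₀ ⟶ X₀ is. The
square is not assumed cartesian and the ideal of j need not be of finite type. (The published
statement also asserts the version for morphisms of finite type; that version follows from this one,
because quasi-compactness of a morphism transfers along closed immersions surjective on points, and
it is not restated here.) -/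
theorem result {X X₀ Y Y₀ : Scheme.{u}}
    (F : Y ⟶ X) (F₀ : Y₀ ⟶ X₀) (i : Y₀ ⟶ Y) (j : X₀ ⟶ X)
    (hi : MoreMor.IsThickening i) (hj : MoreMor.IsThickening j)
    (hinil : ∀ U : Y.affineOpens, IsNilpotent (i.ker.ideal U))
    (hjnil : ∀ U : X.affineOpens, IsNilpotent (j.ker.ideal U))
    (hfg : ∀ U : Y.affineOpens, (i.ker.ideal U).FG)
    (w : F₀ ≫ j = i ≫ F) :
    LocallyOfFiniteType F ↔ LocallyOfFiniteType F₀ := by
  obtain ⟨hi1, hi2⟩ := hi
  obtain ⟨hj1, hj2⟩ := hj
  haveI := hi1; haveI := hj1
  constructor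
  · intro hF
    haveI : LocallyOfFiniteType (F₀ ≫ j) := by rw [w]; infer_instance
    exact locallyOfFiniteType_of_comp F₀ j
  · intro hF₀
    haveI : LocallyOfFiniteType (i ≫ F) := by rw [← w]; infer_instance
    rw [HasRingHomProperty.iff_appLE (P := @LocallyOfFiniteType)]
    intro U V e
    have hV₀ : IsAffineOpen (i ⁻¹ᵁ V.1) := V.2.preimage i
    have e₀ : i ⁻¹ᵁ V.1 ≤ (i ≫ F) ⁻¹ᵁ U.1 := fun x hx => e hx
    have h := (HasRingHomProperty.iff_appLE (P := @LocallyOfFiniteType)).mp
      ‹LocallyOfFiniteType (i ≫ F)› U ⟨_, hV₀⟩ e₀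
    rw [← Scheme.Hom.appLE_comp_appLE i F U.1 V.1 (i ⁻¹ᵁ V.1) e le_rfl, CommRingCat.hom_comp] at h
    refine ft_lift _ (i.appLE V.1 (i ⁻¹ᵁ V.1) le_rfl).hom ?_ ?_ ?_ h
    · rw [← Scheme.Hom.app_eq_appLE]; exact i.app_surjective V.1 V.2
    · rw [← Scheme.Hom.app_eq_appLE, ← Scheme.Hom.ker_apply]; exact hinil V
    · rw [← Scheme.Hom.app_eq_appLE, ← Scheme.Hom.ker_apply]; exact hfg V

end Groth.Agent.S13997
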