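import Groth.Statements.S1400
import Mathlib
import Groth.Agent.S2338
import Groth.Agent.S1399
import Groth.Agent.S1397

set_option autoImplicit false
set_option linter.style.haveILetI false
universe u
open FlatMor

namespace Groth.Agent.S1400

open AlgebraicGeometry CategoryTheory Limits

lemma exists_compact_open {Y : Scheme.{u}} (K : Set Y) (hK : IsCompact K) (O : Y.Opens)
    (hKO : K ⊆ (O : Set Y)) :
    ∃ Y₁ : Y.Opens, Y₁ ≤ O ∧ IsCompact (Y₁ : Set Y) ∧ K ⊆ (Y₁ : Set Y) := by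
  have hex : ∀ y ∈ (O : Set Y), ∃ V : Y.Opens, IsAffineOpen V ∧ y ∈ V ∧ V ≤ O := by
    intro y hy
    obtain ⟨_, ⟨V, hV, rfl⟩, hyV, hVO⟩ :=
      Y.isBasis_affineOpens.exists_subset_of_mem_open hy O.2
    exact ⟨V, hV, hyV, hVO⟩
  choose! Vy hVy1 hVy2 hVy3 using hex
  obtain ⟨t, ht1, ht2⟩ := hK.elim_nhds_subcover (fun y => (Vy y : Set Y))
    (fun y hy => (Vy y).2.mem_nhds (hVy2 y (hKO hy)))
  let Y₁ : Y.Opens := ⟨⋃ y ∈ t, (Vy y : Set Y), isOpen_biUnion fun y _ => (Vy y).2⟩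
  refine ⟨Y₁, ?_, ?_, ?_⟩
  · intro z hz
    obtain ⟨y, hy, hzy⟩ := Set.mem_iUnion₂.mp hz
    exact hVy3 y (hKO (ht1 y hy)) hzy
  · exact t.isCompact_biUnion fun y hy => (hVy1 y (hKO (ht1 y hy))).isCompact
  · exact ht2

lemma indQA_of_affineHom {X Y : Scheme.{u}} (φ : X ⟶ Y) [IsAffineHom φ] :
    MoreMor.IsIndQuasiAffineHom φ := by
  intro V hV U hU
  haveI : IsAffine (φ ⁻¹ᵁ V : Scheme.{u}) := hV.preimage φ
  haveI : CompactSpace (U : Scheme.{u}) := isCompact_iff_compactSpace.mp hU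
  exact Scheme.IsQuasiAffine.of_isImmersion U.ι

lemma main {X S S' : Scheme.{u}} (f : X ⟶ S) (g : S' ⟶ S) (hf : MoreMor.IsIndQuasiAffineHom f) :
    MoreMor.IsIndQuasiAffineHom (pullback.snd f g) := by
  intro V' hV'
  rw [Groth.Agent.S1399.indQA_iff]
  intro U' hle hc
  haveI : CompactSpace (U' : Scheme.{u}) := isCompact_iff_compactSpace.mp hc
  apply Groth.Agent.S2338.quasiAffine_of_cover
  intro x
  have hxV' : pullback.snd f g (U'.ι x) ∈ V' := hle x.2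
  obtain ⟨V, hV, hxV⟩ : ∃ V : S.Opens, IsAffineOpen V ∧ g (pullback.snd f g (U'.ι x)) ∈ V := by
    obtain ⟨_, ⟨V, hV, rfl⟩, hxV, -⟩ := S.isBasis_affineOpens.exists_subset_of_mem_open
      (Set.mem_univ (g (pullback.snd f g (U'.ι x)))) isOpen_univ
    exact ⟨V, hV, hxV⟩
  obtain ⟨a, ha1, ha2⟩ : ∃ a : Γ(S', V'), S'.basicOpen a ≤ g ⁻¹ᵁ V ∧
      pullback.snd f g (U'.ι x) ∈ S'.basicOpen a :=
    hV'.exists_basicOpen_le ⟨pullback.snd f g (U'.ι x), hxV⟩ hxV'
  have hE : IsAffineOpen (S'.basicOpen a) := hV'.basicOpen a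
  have hUV : (⊤ : (U' : Scheme.{u}).Opens) ≤ (U'.ι ≫ pullback.snd f g) ⁻¹ᵁ V' := fun z _ => by
    have : pullback.snd f g (U'.ι z) ∈ V' := hle z.2
    simpa using this
  let r : Γ((U' : Scheme.{u}), ⊤) := (U'.ι ≫ pullback.snd f g).appLE V' ⊤ hUV a
  have hr : (U' : Scheme.{u}).basicOpen r = (U'.ι ≫ pullback.snd f g) ⁻¹ᵁ (S'.basicOpen a) := by
    rw [Scheme.basicOpen_appLE]
    simp
  refine ⟨r, ?_, by rw [hr]; exact ha2⟩
  have hc1 : IsCompact (((U' : Scheme.{u}).basicOpen r : (U' : Scheme.{u}).Opens) :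
      Set (U' : Scheme.{u})) := by
    have := (isRetrocompact_basicOpen r) isCompact_univ isOpen_univ
    simpa using this
  rw [Groth.Agent.S1399.qa_iff_image]
  have hU₁c : IsCompact ((U'.ι ''ᵁ ((U' : Scheme.{u}).basicOpen r) : (pullback f g).Opens) :
      Set (pullback f g : Scheme.{u})) := by
    simpa using hc1.image U'.ι.continuous
  have hU₁E : U'.ι ''ᵁ ((U' : Scheme.{u}).basicOpen r) ≤ pullback.snd f g ⁻¹ᵁ (S'.basicOpen a) := by
    rintro _ ⟨z, hz, rfl⟩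
    rw [hr] at hz
    exact hz
  generalize U'.ι ''ᵁ ((U' : Scheme.{u}).basicOpen r) = U₁ at hU₁c hU₁E ⊢
  have hKO : pullback.fst f g '' (U₁ : Set (pullback f g : Scheme.{u})) ⊆
      ((f ⁻¹ᵁ V : X.Opens) : Set X) := by
    rintro _ ⟨z, hz, rfl⟩
    have h1 : g (pullback.snd f g z) ∈ V := ha1 (hU₁E hz)
    have h2 : f (pullback.fst f g z) = g (pullback.snd f g z) := by
      have := congrArg (fun φ : pullback f g ⟶ S => φ z) (pullback.condition (f := f) (g := g))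
      simpa using this
    show f (pullback.fst f g z) ∈ V
    rw [h2]
    exact h1
  obtain ⟨X₁, hX₁le, hX₁c, hUX₁⟩ := exists_compact_open _ (hU₁c.image (pullback.fst f g).continuous)
    (f ⁻¹ᵁ V) hKO
  haveI : Scheme.IsQuasiAffine (X₁ : Scheme.{u}) :=
    (Groth.Agent.S1399.indQA_iff (f ⁻¹ᵁ V)).1 (hf V hV) X₁ hX₁le hX₁c
  haveI : IsAffine (S'.basicOpen a : Scheme.{u}) := hE
  haveI : IsAffine (V : Scheme.{u}) := hV
  have hg₁ : IsAffineHom (g.resLE V (S'.basicOpen a) ha1) := inferInstance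
  haveI : IsAffineHom (pullback.fst (f.resLE V X₁ hX₁le) (g.resLE V (S'.basicOpen a) ha1)) :=
    MorphismProperty.pullback_fst _ _ hg₁
  haveI : Scheme.IsQuasiAffine (pullback (f.resLE V X₁ hX₁le) (g.resLE V (S'.basicOpen a) ha1)) :=
    Scheme.IsQuasiAffine.of_isAffineHom
      (pullback.fst (f.resLE V X₁ hX₁le) (g.resLE V (S'.basicOpen a) ha1))
  have e₁ : f.resLE V X₁ hX₁le ≫ V.ι = X₁.ι ≫ f := Scheme.Hom.resLE_comp_ι _ _
  have e₂ : g.resLE V (S'.basicOpen a) ha1 ≫ V.ι = (S'.basicOpen a).ι ≫ g :=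
    Scheme.Hom.resLE_comp_ι _ _
  have hrange : (U₁ : Set (pullback f g : Scheme.{u})) ⊆ Set.range
      (pullback.map (f.resLE V X₁ hX₁le) (g.resLE V (S'.basicOpen a) ha1) f g X₁.ι
        (S'.basicOpen a).ι V.ι e₁ e₂) := by
    rw [Scheme.Pullback.range_map]
    intro z hz
    refine ⟨?_, ?_⟩
    · show pullback.fst f g z ∈ Set.range X₁.ι
      rw [Scheme.Opens.range_ι]
      exact hUX₁ ⟨z, hz, rfl⟩
    · show pullback.snd f g z ∈ Set.range (S'.basicOpen a).ι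
      rw [Scheme.Opens.range_ι]
      exact hU₁E hz
  have hrange' : Set.range U₁.ι ⊆ Set.range
      (pullback.map (f.resLE V X₁ hX₁le) (g.resLE V (S'.basicOpen a) ha1) f g X₁.ι
        (S'.basicOpen a).ι V.ι e₁ e₂) := by
    rw [Scheme.Opens.range_ι]
    exact hrange
  haveI : IsOpenImmersion (IsOpenImmersion.lift _ U₁.ι hrange' ≫
      (pullback.map (f.resLE V X₁ hX₁le) (g.resLE V (S'.basicOpen a) ha1) f g X₁.ι
        (S'.basicOpen a).ι V.ι e₁ e₂)) := by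
    rw [IsOpenImmersion.lift_fac]
    infer_instance
  haveI : IsOpenImmersion (IsOpenImmersion.lift (pullback.map (f.resLE V X₁ hX₁le)
      (g.resLE V (S'.basicOpen a) ha1) f g X₁.ι (S'.basicOpen a).ι V.ι e₁ e₂) U₁.ι hrange') :=
    IsOpenImmersion.of_comp _ (pullback.map (f.resLE V X₁ hX₁le)
      (g.resLE V (S'.basicOpen a) ha1) f g X₁.ι (S'.basicOpen a).ι V.ι e₁ e₂)
  haveI : CompactSpace (U₁ : Scheme.{u}) := isCompact_iff_compactSpace.mp hU₁c
  exact Scheme.IsQuasiAffine.of_isImmersion (IsOpenImmersion.lift (pullback.map (f.resLE V X₁ hX₁le)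
      (g.resLE V (S'.basicOpen a) ha1) f g X₁.ι (S'.basicOpen a).ι V.ι e₁ e₂) U₁.ι hrange')

open AlgebraicGeometry CategoryTheory Limits in
/-- The base change of an ind-quasi-affine morphism is ind-quasi-affine. -/
theorem result {X S X' S' : Scheme.{u}} (f : X ⟶ S) (f' : X' ⟶ S') (g' : X' ⟶ X) (g : S' ⟶ S)
    (hc : IsPullback g' f' f g) (hf : MoreMor.IsIndQuasiAffineHom f) : MoreMor.IsIndQuasiAffineHom f' := by
  have h1 : MoreMor.IsIndQuasiAffineHom (pullback.snd f g) := main f g hf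
  have h2 : MoreMor.IsIndQuasiAffineHom hc.isoPullback.hom := indQA_of_affineHom _
  have h3 := Groth.Agent.S1397.result _ _ h2 h1
  rwa [hc.isoPullback_hom_snd] at h3

end Groth.Agent.S1400
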