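import Groth.Statements.S14000
-- import your own Groth.Agent.* helpers here
import Mathlib

set_option autoImplicit false
universe u
open Perf

namespace Groth.Agent.S14000

section
open CategoryTheory CategoryTheory.Limits

theorem exact_altsum {R : Type u} [CommRing R] [IsLocalRing R]
    (M : ℕ → Type u) [∀ n, AddCommGroup (M n)] [∀ n, Module R (M n)]
    [∀ n, Module.Finite R (M n)] [∀ n, Module.Projective R (M n)]
    (ε : ℕ → ℤ) (hε : ∀ n, ε (n + 1) = - ε n)
    (d : ∀ n, M (n + 1) →ₗ[R] M n)
    (h0 : Subsingleton (M 0))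
    (hdd : ∀ n (y : M (n + 1 + 1)), d n (d (n + 1) y) = 0)
    (hex : ∀ n (z : M (n + 1)), d n z = 0 → ∃ y : M (n + 1 + 1), d (n + 1) y = z)
    (N : ℕ) (hN : Subsingleton (M (N + 1))) :
    ∑ j ∈ Finset.range (N + 2), ε j * (Module.finrank R (M j) : ℤ) = 0 := by
  have key : ∀ n : ℕ, Module.Projective R (LinearMap.ker (d n)) ∧
      Module.Finite R (LinearMap.ker (d n)) ∧
      ∑ j ∈ Finset.range (n + 2), ε j * (Module.finrank R (M j) : ℤ) =
        ε (n + 1) * (Module.finrank R (LinearMap.ker (d n)) : ℤ) := by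
    intro n
    induction n with
    | zero =>
      have hker : LinearMap.ker (d 0) = ⊤ := by
        rw [LinearMap.ker_eq_top]
        ext z
        exact Subsingleton.elim _ _
      let e0 : LinearMap.ker (d 0) ≃ₗ[R] M 1 := LinearEquiv.ofTop _ hker
      refine ⟨Module.Projective.of_equiv e0.symm, Module.Finite.equiv e0.symm, ?_⟩
      have hr0 : Module.finrank R (M 0) = 0 := Module.finrank_zero_of_subsingleton
      have e2 : ∑ j ∈ Finset.range (0 + 2), ε j * (Module.finrank R (M j) : ℤ) =
          (∑ j ∈ Finset.range 1, ε j * (Module.finrank R (M j) : ℤ)) +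
            ε 1 * (Module.finrank R (M 1) : ℤ) := Finset.sum_range_succ _ 1
      rw [e2, Finset.sum_range_one, hr0, LinearEquiv.finrank_eq e0, Nat.cast_zero, mul_zero,
        zero_add]
    | succ n ih =>
      obtain ⟨hP, hF, hsum⟩ := ih
      haveI := hP
      haveI := hF
      let g : M (n + 1 + 1) →ₗ[R] LinearMap.ker (d n) :=
        (d (n + 1)).codRestrict (LinearMap.ker (d n)) (fun y => LinearMap.mem_ker.mpr (hdd n y))
      have hg : Function.Surjective g := by
        rintro ⟨z, hz⟩
        obtain ⟨y, hy⟩ := hex n z (LinearMap.mem_ker.mp hz)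
        exact ⟨y, Subtype.ext hy⟩
      obtain ⟨σ, hσ⟩ := Module.projective_lifting_property g LinearMap.id hg
      let e : M (n + 1 + 1) ≃ₗ[R] (LinearMap.ker g) × (LinearMap.ker (d n)) :=
        ((LinearMap.exact_subtype_ker_map g).splitSurjectiveEquiv
          (Submodule.subtype_injective _) ⟨σ, hσ⟩).1
      have hkg : LinearMap.ker g = LinearMap.ker (d (n + 1)) := LinearMap.ker_codRestrict _ _ _
      let e1 : LinearMap.ker g ≃ₗ[R] LinearMap.ker (d (n + 1)) := LinearEquiv.ofEq _ _ hkg
      haveI : Module.Projective R (LinearMap.ker g × LinearMap.ker (d n)) :=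
        Module.Projective.of_equiv e
      haveI : Module.Finite R (LinearMap.ker g × LinearMap.ker (d n)) := Module.Finite.equiv e
      haveI hPg : Module.Projective R (LinearMap.ker g) :=
        Module.Projective.of_split (LinearMap.inl R (LinearMap.ker g) (LinearMap.ker (d n)))
          (LinearMap.fst R (LinearMap.ker g) (LinearMap.ker (d n))) (LinearMap.ext fun x => rfl)
      haveI hFg : Module.Finite R (LinearMap.ker g) :=
        Module.Finite.of_surjective (LinearMap.fst R (LinearMap.ker g) (LinearMap.ker (d n)))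
          LinearMap.fst_surjective
      haveI : Module.Free R (LinearMap.ker g) := Module.free_of_flat_of_isLocalRing
      haveI : Module.Free R (LinearMap.ker (d n)) := Module.free_of_flat_of_isLocalRing
      have hrank : Module.finrank R (M (n + 2)) =
          Module.finrank R (LinearMap.ker g) + Module.finrank R (LinearMap.ker (d n)) :=
        (LinearEquiv.finrank_eq e).trans (Module.finrank_prod)
      refine ⟨Module.Projective.of_equiv e1, Module.Finite.equiv e1, ?_⟩
      have e2 : ∑ j ∈ Finset.range (n + 1 + 2), ε j * (Module.finrank R (M j) : ℤ) =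
          (∑ j ∈ Finset.range (n + 2), ε j * (Module.finrank R (M j) : ℤ)) +
            ε (n + 2) * (Module.finrank R (M (n + 2)) : ℤ) := Finset.sum_range_succ _ (n + 2)
      have hε' : ε (n + 2) = - ε (n + 1) := hε (n + 1)
      have hε'' : ε (n + 1 + 1) = - ε (n + 1) := hε (n + 1)
      rw [e2, hsum, hrank, ← LinearEquiv.finrank_eq e1, hε']
      push_cast
      ring
  obtain ⟨-, -, hsum⟩ := key N
  have hz : Module.finrank R (LinearMap.ker (d N)) = 0 := by
    haveI : Subsingleton (LinearMap.ker (d N)) :=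
      ⟨fun a c => Subtype.ext (Subsingleton.elim _ _)⟩
    exact Module.finrank_zero_of_subsingleton
  rw [hsum, hz, Nat.cast_zero, mul_zero]

theorem loc_exact_of_homology {A : Type u} [CommRing A] (P : CochainComplex (ModuleCat.{u} A) ℤ)
    (S : Submonoid A) (i j k : ℤ) (hij : i + 1 = j) (hjk : j + 1 = k)
    (h : Subsingleton (LocalizedModule S (P.homology j)))
    (z : P.X j) (hz : (P.d j k).hom z = 0) :
    ∃ t ∈ S, ∃ y : P.X i, (P.d i j).hom y = t • z := by
  let T := P.sc' i j k
  let E : P.homology j ≃ₗ[A] T.moduleCatLeftHomologyData.H :=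
    ((P.homologyIsoSc' i j k (by simp; omega) (by simp; omega)) ≪≫
      T.moduleCatHomologyIso).toLinearEquiv
  have hzk : z ∈ LinearMap.ker T.g.hom := hz
  let cl : T.moduleCatLeftHomologyData.H :=
    (LinearMap.range T.moduleCatToCycles).mkQ (⟨z, hzk⟩ : LinearMap.ker T.g.hom)
  obtain ⟨u, huS, hu⟩ := LocalizedModule.subsingleton_iff.mp h (E.symm cl)
  have h3 : u • cl = 0 := by
    have := congrArg E hu
    rwa [map_smul, LinearEquiv.apply_symm_apply, map_zero] at this
  have h4 : (LinearMap.range T.moduleCatToCycles).mkQ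
      (u • (⟨z, hzk⟩ : LinearMap.ker T.g.hom)) = 0 := by
    rw [map_smul]
    exact h3
  rw [Submodule.mkQ_apply, Submodule.Quotient.mk_eq_zero] at h4
  obtain ⟨y, hy⟩ := h4
  exact ⟨u, huS, y, congrArg Subtype.val hy⟩

theorem euler_ix {A : Type u} [CommRing A] (P : CochainComplex (ModuleCat.{u} A) ℤ)
    [∀ i, Module.Finite A (P.X i)] [∀ i, Module.Projective A (P.X i)]
    (S : Submonoid A) [IsLocalRing (Localization S)]
    (hloc : ∀ i : ℤ, Subsingleton (LocalizedModule S (P.homology i)))
    (ix : ℕ → ℤ) (hix : ∀ n, ix (n + 1) + 1 = ix n)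
    (h0 : Subsingleton (P.X (ix 0))) (N : ℕ) (hN : Subsingleton (P.X (ix (N + 1)))) :
    ∑ j ∈ Finset.range (N + 2), (((ix j).negOnePow : ℤˣ) : ℤ) *
      (Module.finrank (Localization S) (LocalizedModule S (P.X (ix j))) : ℤ) = 0 := by
  haveI : ∀ i, Module.Projective (Localization S) (LocalizedModule S (P.X i)) := fun i => by
    haveI : Module.Free (Localization S) (LocalizedModule S (P.X i)) :=
      Module.free_of_flat_of_isLocalRing
    infer_instance
  have hε : ∀ n, (((ix (n + 1)).negOnePow : ℤˣ) : ℤ) = - (((ix n).negOnePow : ℤˣ) : ℤ) := by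
    intro n
    rw [← hix n, Int.negOnePow_succ, Units.val_neg, neg_neg]
  have hdd : ∀ (n : ℕ) (y : LocalizedModule S (P.X (ix (n + 1 + 1)))),
      LocalizedModule.map S (P.d (ix (n + 1)) (ix n)).hom
        (LocalizedModule.map S (P.d (ix (n + 1 + 1)) (ix (n + 1))).hom y) = 0 := by
    intro n y
    induction y using LocalizedModule.induction_on with
    | _ m t =>
      rw [LocalizedModule.map_mk, LocalizedModule.map_mk]
      have h1 : (P.d (ix (n + 1)) (ix n)).hom ((P.d (ix (n + 1 + 1)) (ix (n + 1))).hom m) = 0 := by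
        have h2 := LinearMap.congr_fun (congrArg ModuleCat.Hom.hom
          (P.d_comp_d (ix (n + 1 + 1)) (ix (n + 1)) (ix n))) m
        rw [ModuleCat.hom_comp, ModuleCat.hom_zero] at h2
        exact h2
      rw [h1, LocalizedModule.zero_mk]
  have hex : ∀ (n : ℕ) (z : LocalizedModule S (P.X (ix (n + 1)))),
      LocalizedModule.map S (P.d (ix (n + 1)) (ix n)).hom z = 0 →
      ∃ y : LocalizedModule S (P.X (ix (n + 1 + 1))),
        LocalizedModule.map S (P.d (ix (n + 1 + 1)) (ix (n + 1))).hom y = z := by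
    intro n z
    induction z using LocalizedModule.induction_on with
    | _ m t =>
      intro hz
      rw [LocalizedModule.map_mk, ← LocalizedModule.zero_mk t, LocalizedModule.mk_eq] at hz
      obtain ⟨u, hu⟩ := hz
      have hc : (u : A) * (t : A) ∈ S := S.mul_mem u.2 t.2
      have hu' : (P.d (ix (n + 1)) (ix n)).hom (((u : A) * (t : A)) • m) = 0 := by
        rw [map_smul, mul_smul]
        simpa [Submonoid.smul_def] using hu
      obtain ⟨v, hv, y, hy⟩ := loc_exact_of_homology P S (ix (n + 1 + 1)) (ix (n + 1)) (ix n)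
        (hix (n + 1)) (hix n) (hloc _) (((u : A) * (t : A)) • m) hu'
      refine ⟨LocalizedModule.mk y ((⟨v * ((u : A) * (t : A)), S.mul_mem hv hc⟩ : S) * t), ?_⟩
      have e1 : v • ((u : A) * (t : A)) • m =
          (⟨v * ((u : A) * (t : A)), S.mul_mem hv hc⟩ : S) • m := by
        rw [Submonoid.mk_smul, ← mul_smul]
      rw [LocalizedModule.map_mk, hy, e1, LocalizedModule.mk_cancel_common_left]
  haveI := h0
  haveI := hN
  exact exact_altsum (fun n => LocalizedModule S (P.X (ix n)))
    (fun n => (((ix n).negOnePow : ℤˣ) : ℤ)) hε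
    (fun n => LocalizedModule.map S (P.d (ix (n + 1)) (ix n)).hom) inferInstance hdd hex N
    inferInstance

theorem euler_loc {A : Type u} [CommRing A] (P : CochainComplex (ModuleCat.{u} A) ℤ) (s : Finset ℤ)
    (hP : ∀ i : ℤ, Module.Finite A (P.X i) ∧ Module.Projective A (P.X i))
    (hs : ∀ i : ℤ, i ∉ s → IsZero (P.X i))
    (S : Submonoid A) [IsLocalRing (Localization S)]
    (hloc : ∀ i : ℤ, Subsingleton (LocalizedModule S (P.homology i))) :
    (s.sum fun i => ((i.negOnePow : ℤˣ) : ℤ) *
      (Module.finrank (Localization S) (LocalizedModule S (P.X i)) : ℤ)) = 0 := by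
  classical
  haveI : ∀ i, Module.Finite A (P.X i) := fun i => (hP i).1
  haveI : ∀ i, Module.Projective A (P.X i) := fun i => (hP i).2
  have hzero : ∀ i : ℤ, i ∉ s → Subsingleton (P.X i) := fun i hi =>
    ModuleCat.subsingleton_of_isZero (hs i hi)
  obtain ⟨b, hb0, hb⟩ : ∃ b : ℤ, 0 ≤ b ∧ ∀ i ∈ s, |i| ≤ b :=
    ⟨∑ i ∈ s, |i|, Finset.sum_nonneg (fun j _ => abs_nonneg j), fun i hi =>
      Finset.single_le_sum (f := fun i => |i|) (fun j _ => abs_nonneg j) hi⟩
  have hin : ∀ i ∈ s, -b ≤ i ∧ i ≤ b := fun i hi => abs_le.mp (hb i hi)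
  have h0 : Subsingleton (P.X (b + 1 - ((0 : ℕ) : ℤ))) :=
    hzero _ (fun h => by have := (hin _ h).2; push_cast at this; omega)
  have hN : Subsingleton (P.X (b + 1 - (((2 * b + 1).toNat + 1 : ℕ) : ℤ))) :=
    hzero _ (fun h => by have := (hin _ h).1; push_cast at this; omega)
  have key := euler_ix P S hloc (fun n : ℕ => b + 1 - (n : ℤ))
    (fun n => by push_cast; ring) h0 (2 * b + 1).toNat hN
  have hsub : s ⊆ (Finset.range ((2 * b + 1).toNat + 2)).image (fun n : ℕ => b + 1 - (n : ℤ)) := by
    intro i hi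
    obtain ⟨h1, h2⟩ := hin i hi
    refine Finset.mem_image.mpr ⟨(b + 1 - i).toNat, Finset.mem_range.mpr ?_, ?_⟩
    · omega
    · rw [Int.toNat_of_nonneg (by omega)]
      ring
  have e1 := Finset.sum_subset hsub
    (f := fun i : ℤ => ((i.negOnePow : ℤˣ) : ℤ) *
      (Module.finrank (Localization S) (LocalizedModule S (P.X i)) : ℤ))
    (fun i _ hi => by
      haveI := hzero i hi
      rw [Module.finrank_zero_of_subsingleton, Nat.cast_zero, mul_zero])
  rw [e1, Finset.sum_image (fun a _ c _ h => by
    have h' : b + 1 - (a : ℤ) = b + 1 - (c : ℤ) := h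
    omega)]
  exact key

end

open CategoryTheory CategoryTheory.Limits in
/-- Let A be a commutative ring and P a strictly perfect complex over A, that is a cochain complex of
finitely generated projective A-modules which is zero outside a finite set s of degrees. Suppose the
cohomological support of P has positive codimension: for every minimal prime q of A and every degree
i the localization at q of the cohomology module H^i(P) is zero. Then the Euler characteristic of P
vanishes identically: at every prime of A the alternating sum over i ∈ s of the ranks of the P^i is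
zero. -/
theorem result {A : Type u} [CommRing A]
    (P : CochainComplex (ModuleCat.{u} A) ℤ) (s : Finset ℤ)
    (hP : ∀ i : ℤ, Module.Finite A (P.X i) ∧ Module.Projective A (P.X i))
    (hs : ∀ i : ℤ, i ∉ s → IsZero (P.X i))
    (hsupp : ∀ q : PrimeSpectrum A, q.asIdeal ∈ minimalPrimes A →
      ∀ i : ℤ, Subsingleton (LocalizedModule q.asIdeal.primeCompl (P.homology i))) :
    ∀ x : PrimeSpectrum A,
      (s.sum fun i => ((i.negOnePow : ℤˣ) : ℤ) * (Module.rankAtStalk (R := A) (P.X i) x : ℤ)) = 0 := by
  intro x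
  obtain ⟨p, hp, hpx⟩ := Ideal.exists_minimalPrimes_le (bot_le : (⊥ : Ideal A) ≤ x.asIdeal)
  haveI hpp : p.IsPrime := hp.1.1
  have hqx : (⟨p, hpp⟩ : PrimeSpectrum A) ≤ x := hpx
  haveI : ∀ i, Module.Finite A (P.X i) := fun i => (hP i).1
  haveI : ∀ i, Module.Projective A (P.X i) := fun i => (hP i).2
  have hrk : ∀ i, Module.rankAtStalk (R := A) (P.X i) x =
      Module.rankAtStalk (R := A) (P.X i) (⟨p, hpp⟩ : PrimeSpectrum A) :=
    fun i => (Module.rankAtStalk_eq_of_le_of_finite_of_flat (P.X i) hqx).symm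
  simp only [hrk]
  exact euler_loc P s hP hs p.primeCompl (fun i => hsupp ⟨p, hpp⟩ hp i)

end Groth.Agent.S14000
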