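import Groth.Statements.S14002
-- import your own Groth.Agent.* helpers here
import Mathlib

set_option autoImplicit false
universe u
open CAlg

namespace Groth.Agent.S14002

open TensorProduct

lemma flat_transfer_r {B A : Type u} [CommRing B] [CommRing A] [Algebra B A] (L : Ideal B)
    (hflat : Module.Flat (B ⧸ L) ((B ⧸ L) ⊗[B] A)) (𝔠 : Ideal (B ⧸ L)) :
    Function.Injective (LinearMap.rTensor A ((𝔠.subtype).restrictScalars B)) := by
  have hinj : Function.Injective (LinearMap.rTensor ((B ⧸ L) ⊗[B] A) 𝔠.subtype) :=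
    Module.Flat.rTensor_preserves_injective_linearMap 𝔠.subtype (Submodule.subtype_injective 𝔠)
  obtain ⟨e1, he1⟩ : ∃ e : ↥𝔠 ⊗[B ⧸ L] ((B ⧸ L) ⊗[B] A) ≃ₗ[B ⧸ L] ↥𝔠 ⊗[B] A,
      ∀ (n : ↥𝔠) (b' : B ⧸ L) (a : A), e (n ⊗ₜ (b' ⊗ₜ a)) = (b' • n) ⊗ₜ a :=
    ⟨TensorProduct.AlgebraTensorModule.cancelBaseChange B (B ⧸ L) (B ⧸ L) ↥𝔠 A,
      fun _ _ _ => rfl⟩
  obtain ⟨e2, he2⟩ : ∃ e : (B ⧸ L) ⊗[B ⧸ L] ((B ⧸ L) ⊗[B] A) ≃ₗ[B ⧸ L] (B ⧸ L) ⊗[B] A,
      ∀ (n : B ⧸ L) (b' : B ⧸ L) (a : A), e (n ⊗ₜ (b' ⊗ₜ a)) = (b' • n) ⊗ₜ a :=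
    ⟨TensorProduct.AlgebraTensorModule.cancelBaseChange B (B ⧸ L) (B ⧸ L) (B ⧸ L) A,
      fun _ _ _ => rfl⟩
  have hnat : ∀ x : ↥𝔠 ⊗[B ⧸ L] ((B ⧸ L) ⊗[B] A),
      (LinearMap.rTensor A ((𝔠.subtype).restrictScalars B)) (e1 x)
        = e2 (LinearMap.rTensor ((B ⧸ L) ⊗[B] A) 𝔠.subtype x) := by
    intro x
    induction x using TensorProduct.induction_on with
    | zero => simp
    | tmul n y =>
      induction y using TensorProduct.induction_on with
      | zero => simp
      | tmul b' a =>
        rw [he1, LinearMap.rTensor_tmul, LinearMap.rTensor_tmul, he2]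
        rfl
      | add y z hy hz => simp only [TensorProduct.tmul_add, map_add, hy, hz]
    | add x y hx hy => simp only [map_add, hx, hy]
  intro u v huv
  have hu := hnat (e1.symm u)
  have hv := hnat (e1.symm v)
  rw [LinearEquiv.apply_symm_apply] at hu hv
  rw [hu, hv] at huv
  have h3 := hinj (e2.injective huv)
  exact e1.symm.injective h3

lemma flat_transfer_l {B A : Type u} [CommRing B] [CommRing A] [Algebra B A] (L : Ideal B)
    (hflat : Module.Flat (B ⧸ L) ((B ⧸ L) ⊗[B] A)) (𝔠 : Ideal (B ⧸ L)) :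
    Function.Injective (LinearMap.lTensor A ((𝔠.subtype).restrictScalars B)) :=
  (((𝔠.subtype).restrictScalars B).lTensor_inj_iff_rTensor_inj A).mpr
    (flat_transfer_r L hflat 𝔠)

lemma tmul_mem_pow_smul {B A : Type u} [CommRing B] [CommRing A] [Algebra B A] (J : Ideal B)
    (𝔞 : Ideal B) (k : ℕ) (a : A) (z : ↥𝔞)
    (hz : z ∈ (J ^ k) • (⊤ : Submodule B ↥𝔞)) :
    a ⊗ₜ[B] z ∈ ((J.map (algebraMap B A)) ^ k • ⊤ : Submodule A (A ⊗[B] ↥𝔞)) := by
  refine Submodule.smul_induction_on hz ?_ ?_
  · intro b hb z' _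
    have h1 : a ⊗ₜ[B] (b • z') = (algebraMap B A b) • (a ⊗ₜ[B] z') := by
      rw [TensorProduct.smul_tmul', smul_eq_mul, ← Algebra.smul_def, TensorProduct.smul_tmul]
    rw [h1]
    apply Submodule.smul_mem_smul _ Submodule.mem_top
    rw [← Ideal.map_pow]
    exact Ideal.mem_map_of_mem _ hb
  · intro z1 z2 h1 h2
    rw [TensorProduct.tmul_add]
    exact Submodule.add_mem _ h1 h2

open TensorProduct in
/-- Flatness of an adic morphism of locally Noetherian formal schemes is detected on the truncations.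
Let B → A be a homomorphism of Noetherian rings and J an ideal of B such that A is adically
separated and complete with respect to the extended ideal JA. Then A is a flat B-module if and only
if for every n ≥ 1 the base change (B/Jⁿ) ⊗_B A = A/JⁿA is a flat (B/Jⁿ)-module. The ring B is not
assumed separated or complete for the J-adic topology. (The published statement is about an adic
morphism of locally Noetherian formal schemes, so that both rings are adic there; the criterion
holds without that assumption on B.) -/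
theorem result (B A : Type u) [CommRing B] [CommRing A]
    [IsNoetherianRing B] [IsNoetherianRing A] [Algebra B A] (J : Ideal B)
    [IsAdicComplete (J.map (algebraMap B A)) A] :
    Module.Flat B A ↔ ∀ n : ℕ, 0 < n → Module.Flat (B ⧸ J ^ n) ((B ⧸ J ^ n) ⊗[B] A) := by
  constructor
  · intro h n _
    infer_instance
  · intro h
    rw [Module.Flat.iff_lTensor_injective']
    intro 𝔞
    rw [injective_iff_map_eq_zero]
    intro x hx
    have hjac : J.map (algebraMap B A) ≤ (⊥ : Ideal A).jacobson :=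
      IsAdicComplete.le_jacobson_bot (J.map (algebraMap B A))
    have hkrull : (⨅ i : ℕ, (J.map (algebraMap B A)) ^ i • ⊤ : Submodule A (A ⊗[B] ↥𝔞)) = ⊥ :=
      Ideal.iInf_pow_smul_eq_bot_of_le_jacobson (J.map (algebraMap B A)) hjac
    have hmem : x ∈ (⨅ i : ℕ, (J.map (algebraMap B A)) ^ i • ⊤ :
        Submodule A (A ⊗[B] ↥𝔞)) := by
      rw [Submodule.mem_iInf]
      intro n
      obtain ⟨c, hc⟩ := Ideal.exists_pow_inf_eq_pow_smul J (𝔞 : Submodule B B)
      have hm := hc (n + c + 1) (by omega)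
      have hflat := h (n + c + 1) (by omega)
      obtain ⟨𝔠, h𝔠⟩ : ∃ 𝔠 : Ideal (B ⧸ J ^ (n + c + 1)),
          𝔠 = 𝔞.map (Ideal.Quotient.mk (J ^ (n + c + 1))) := ⟨_, rfl⟩
      let q : ↥𝔞 →ₗ[B] ↥𝔠 :=
        { toFun := fun y => ⟨Ideal.Quotient.mk (J ^ (n + c + 1)) (y : B), by
            rw [h𝔠]
            exact Ideal.mem_map_of_mem _ y.2⟩
          map_add' := fun y z => Subtype.ext (by simp)
          map_smul' := fun b y => Subtype.ext (by simp [Algebra.smul_def]) }
      have hq_apply : ∀ y : ↥𝔞, ((q y : ↥𝔠) : B ⧸ J ^ (n + c + 1))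
          = Ideal.Quotient.mk (J ^ (n + c + 1)) (y : B) := fun y => rfl
      have hqsurj : Function.Surjective q := by
        intro z
        have hz : (z : B ⧸ J ^ (n + c + 1)) ∈ 𝔞.map (Ideal.Quotient.mk (J ^ (n + c + 1))) :=
          (le_of_eq h𝔠) z.2
        rw [Ideal.mem_map_iff_of_surjective _ Ideal.Quotient.mk_surjective] at hz
        obtain ⟨y, hy, hyz⟩ := hz
        exact ⟨⟨y, hy⟩, Subtype.ext hyz⟩
      have hex := lTensor_exact A (LinearMap.exact_subtype_ker_map q) hqsurj
      have hsq : ((𝔠.subtype).restrictScalars B) ∘ₗ q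
          = (Ideal.Quotient.mkₐ B (J ^ (n + c + 1))).toLinearMap ∘ₗ 𝔞.subtype := by
        ext y
        rfl
      have h1 : LinearMap.lTensor A ((𝔠.subtype).restrictScalars B)
          (LinearMap.lTensor A q x) = 0 := by
        rw [← LinearMap.lTensor_comp_apply, hsq, LinearMap.lTensor_comp_apply, hx, map_zero]
      have h2 : LinearMap.lTensor A q x = 0 :=
        flat_transfer_l (J ^ (n + c + 1)) hflat 𝔠 (h1.trans (map_zero _).symm)
      obtain ⟨w, hw⟩ := (hex x).mp h2
      have hker : LinearMap.ker q ≤ (J ^ (n + 1)) • (⊤ : Submodule B ↥𝔞) := by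
        intro y hy
        have hyL : (y : B) ∈ J ^ (n + c + 1) := by
          have h3 := congrArg Subtype.val (LinearMap.mem_ker.mp hy)
          rw [hq_apply] at h3
          exact Ideal.Quotient.eq_zero_iff_mem.mp h3
        have hy2 : (y : B) ∈ (J ^ (n + c + 1) • (⊤ : Submodule B B) ⊓ (𝔞 : Submodule B B)) := by
          refine ⟨?_, y.2⟩
          rw [Ideal.smul_eq_mul, Ideal.mul_top]
          exact hyL
        rw [hm] at hy2
        have hmc : n + c + 1 - c = n + 1 := by omega
        rw [hmc] at hy2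
        have hy3 : (y : B) ∈ J ^ (n + 1) • (𝔞 : Submodule B B) :=
          Submodule.smul_mono le_rfl inf_le_right hy2
        have hy4 : (y : B) ∈ ((J ^ (n + 1)) • (⊤ : Submodule B ↥𝔞)).map 𝔞.subtype := by
          rw [Submodule.map_smul'', Submodule.map_top, Submodule.range_subtype]
          exact hy3
        obtain ⟨y', hy', hyy⟩ := hy4
        have hyeq : y' = y := Subtype.ext hyy
        rwa [hyeq] at hy'
      have hfin : ∀ w : A ⊗[B] ↥(LinearMap.ker q),
          LinearMap.lTensor A (LinearMap.ker q).subtype w ∈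
            ((J.map (algebraMap B A)) ^ (n + 1) • ⊤ : Submodule A (A ⊗[B] ↥𝔞)) := by
        intro w
        induction w using TensorProduct.induction_on with
        | zero => simp
        | tmul a y =>
          rw [LinearMap.lTensor_tmul]
          exact tmul_mem_pow_smul J 𝔞 (n + 1) a _ (hker y.2)
        | add u v hu hv =>
          rw [map_add]
          exact Submodule.add_mem _ hu hv
      have hx1 := hfin w
      rw [hw] at hx1
      exact Submodule.smul_mono_left (Ideal.pow_le_pow_right (Nat.le_succ n)) hx1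
    rw [hkrull] at hmem
    exact (Submodule.mem_bot A).mp hmem

end Groth.Agent.S14002
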