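import Groth.Statements.S14005
-- import your own Groth.Agent.* helpers here
import Mathlib

set_option autoImplicit false
universe u
open CategoryTheory AlgebraicGeometry
open CohTop

namespace Groth.Agent.S14005

private lemma TL {α : Type*} [TopologicalSpace α] [TopologicalSpace.NoetherianSpace α]
    [QuasiSober α] (Z : Set α) (hZc : IsClosed Z) (x : α) (hZ : ∀ η ∈ Z, η ⤳ x → η = x) :
    ∃ O : Set α, IsOpen O ∧ x ∈ O ∧ Z ∩ O ⊆ closure {x} := by
  obtain ⟨S, hSfin, hSc, hSi, rfl⟩ :=
    TopologicalSpace.NoetherianSpace.exists_finite_set_isClosed_irreducible hZc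
  refine ⟨(⋃ T ∈ {T ∈ S | x ∉ T}, T)ᶜ, ?_, ?_, ?_⟩
  · rw [isOpen_compl_iff]
    exact Set.Finite.isClosed_biUnion (f := fun T => T) (hSfin.subset (Set.sep_subset _ _))
      (fun T hT => hSc T hT.1)
  · intro hx
    obtain ⟨T, ⟨_, hxT⟩, hx'⟩ := Set.mem_iUnion₂.mp hx
    exact hxT hx'
  · rintro u ⟨⟨T, hTS, huT⟩, huO⟩
    have hxT : x ∈ T := by
      by_contra hcon
      exact huO (Set.mem_iUnion₂.mpr ⟨T, ⟨hTS, hcon⟩, huT⟩)
    obtain ⟨η, hη⟩ := QuasiSober.sober (hSi T hTS) (hSc T hTS)
    have hηT : η ∈ T := hη.mem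
    have hηx : η ⤳ x := specializes_iff_mem_closure.mpr (by rw [hη.def]; exact hxT)
    have h1 := hZ η ⟨T, hTS, hηT⟩ hηx
    rw [← h1, hη.def]
    exact huT

/-- Take a scheme X with a locally Noetherian underlying topological space, F a sheaf of abelian groups
on X, x a point of X and s an element of the stalk F_x. Then the following are equivalent: (i) s is
the germ of a section t over some open neighbourhood U of x whose support in U is contained in the
closure of {x} (that is, s belongs to the subgroup Γ_x(F) of F_x); (ii) for every generization y ≠ x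
of x the image of s under the cospecialisation map F_x → F_y is zero (that is, viewed as a global
section of the inverse image of F on Spec O_{X,x}, s is supported at the closed point). -/
theorem result {X : Scheme.{u}}
    (hX : ∀ x : X, ∃ U : X.Opens, x ∈ U ∧ TopologicalSpace.NoetherianSpace U)
    (F : TopCat.Sheaf AddCommGrpCat.{u} X.carrier) (x : X) (s : F.presheaf.stalk x) :
    (∃ (U : X.Opens) (hx : x ∈ U) (t : F.presheaf.obj (Opposite.op U)),
        F.presheaf.germ U x hx t = s ∧
          ∀ (u : X) (hu : u ∈ U), F.presheaf.germ U u hu t ≠ 0 → u ∈ closure ({x} : Set X)) ↔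
      ∀ (y : X) (h : y ⤳ x), y ≠ x → F.presheaf.stalkSpecializes h s = 0 := by
  constructor
  · rintro ⟨U, hx, t, rfl, hsupp⟩ y h hy
    rw [TopCat.Presheaf.germ_stalkSpecializes_apply]
    by_contra hne
    have h1 := hsupp y (h.mem_open U.isOpen hx) hne
    have h2 : x ⤳ y := specializes_iff_mem_closure.mpr h1
    exact hy (h.antisymm h2).eq
  · intro H
    obtain ⟨U₁, hxU₁, hU₁⟩ := hX x
    haveI hU₁' : TopologicalSpace.NoetherianSpace ((U₁ : Set X) : Type u) := hU₁
    obtain ⟨W, hWU, hxW, t, ht⟩ := F.presheaf.exists_le_germ_eq s hxU₁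
    have hW' : TopologicalSpace.NoetherianSpace ((W : Set X) : Type u) :=
      (TopologicalSpace.Opens.isOpenEmbedding_of_le hWU).isInducing.noetherianSpace
    haveI : TopologicalSpace.NoetherianSpace W := hW'
    haveI : QuasiSober W := W.isOpenEmbedding'.quasiSober
    have hZc : IsClosed {u : W | F.presheaf.germ W u.1 u.2 t ≠ 0} := by
      rw [← isOpen_compl_iff, isOpen_iff_forall_mem_open]
      intro u hu
      have hu0 : F.presheaf.germ W u.1 u.2 t = 0 := by simpa using hu
      obtain ⟨W', hW', iU, iV, heq⟩ := F.presheaf.germ_eq u.1 u.2 u.2 t 0 (by rw [hu0, map_zero])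
      refine ⟨Subtype.val ⁻¹' (W' : Set X), ?_, W'.isOpen.preimage continuous_subtype_val, hW'⟩
      intro u' hu'
      simp only [Set.mem_compl_iff, Set.mem_ofPred_eq, not_not]
      have h1 := TopCat.Presheaf.germ_res_apply F.presheaf iU u'.1 hu' t
      rw [← h1, heq, map_zero, map_zero]
    have hZ : ∀ η ∈ {u : W | F.presheaf.germ W u.1 u.2 t ≠ 0},
        η ⤳ (⟨x, hxW⟩ : W) → η = ⟨x, hxW⟩ := by
      intro η hη hspec
      by_contra hne
      have hspecX : η.1 ⤳ x := hspec.map continuous_subtype_val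
      have hneX : η.1 ≠ x := fun h => hne (Subtype.ext h)
      have h0 := H η.1 hspecX hneX
      rw [← ht, TopCat.Presheaf.germ_stalkSpecializes_apply] at h0
      exact hη h0
    have hqs : QuasiSober W := inferInstance
    have hns : TopologicalSpace.NoetherianSpace W := inferInstance
    obtain ⟨O, hOopen, hxO, hOsub⟩ := @TL W _ hns hqs _ hZc (⟨x, hxW⟩ : W) hZ
    obtain ⟨O', hO'open, rfl⟩ := isOpen_induced_iff.mp hOopen
    refine ⟨W ⊓ ⟨O', hO'open⟩, ⟨hxW, hxO⟩,
      F.presheaf.map (homOfLE (inf_le_left : W ⊓ ⟨O', hO'open⟩ ≤ W)).op t, ?_, ?_⟩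
    · rw [← ht]
      exact TopCat.Presheaf.germ_res_apply F.presheaf (homOfLE inf_le_left) x _ t
    · intro u hu hne
      rw [TopCat.Presheaf.germ_res_apply] at hne
      have h1 : (⟨u, hu.1⟩ : W) ∈ closure {(⟨x, hxW⟩ : W)} := hOsub ⟨hne, hu.2⟩
      have h2 : (⟨x, hxW⟩ : W) ⤳ ⟨u, hu.1⟩ := specializes_iff_mem_closure.mpr h1
      exact specializes_iff_mem_closure.mp (h2.map continuous_subtype_val)

end Groth.Agent.S14005
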