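import Groth.Statements.S14018
-- import your own Groth.Agent.* helpers here
import Mathlib

set_option autoImplicit false
open CategoryTheory CategoryTheory.Limits Opposite
universe w v u
open CohSite

namespace Groth.Agent.S14018

section
open CategoryTheory CategoryTheory.Limits Opposite

variable {C : Type u} [Category.{v} C] (J : GrothendieckTopology C)

noncomputable abbrev evU (U : C) : Sheaf J (Type w) ⥤ Type w :=
  sheafToPresheaf J (Type w) ⋙ (evaluation Cᵒᵖ (Type w)).obj (op U)

lemma result0
    (hwc : ∀ V : C, ∃ S : Sieve V, S ∈ J V ∧ ∀ ⦃W : C⦄ (f : W ⟶ V), S.arrows f →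
      ∃ (U : C) (g : W ⟶ U) (h : U ⟶ V), (∀ (A B : Sheaf J (Type w)) (ψ : A ⟶ B), Epi ψ →
        Function.Surjective (ψ.hom.app (op U))) ∧ g ≫ h = f)
    (F : ℕᵒᵖ ⥤ Sheaf J (Type w))
    (hF : ∀ n : ℕ, Epi (F.map (homOfLE (Nat.le_succ n)).op))
    (c : Cone F) (hc : IsLimit c) : Epi (c.π.app (op 0)) := by
  haveI : Sheaf.IsLocallySurjective (c.π.app (op 0)) := by
    constructor
    intro V s
    obtain ⟨S, hS, hfac⟩ := hwc V
    refine J.superset_covering ?_ hS
    intro W f hf
    obtain ⟨U, g, h, hU, hgh⟩ := hfac f hf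
    have hlim : IsLimit ((evU J U).mapCone c) := isLimitOfPreserves (evU J U) hc
    have hsurj : ∀ n, Function.Surjective
        ((F ⋙ evU J U).map (homOfLE (Nat.le_succ n)).op) :=
      fun n => hU _ _ (F.map (homOfLE (Nat.le_succ n)).op) (hF n)
    obtain ⟨t, ht⟩ := Types.surjective_π_app_zero_of_surjective_map hlim hsurj
      ((F.obj (op 0)).obj.map h.op s)
    refine ⟨c.pt.obj.map g.op t, ?_⟩
    have nat := ConcreteCategory.congr_hom ((c.π.app (op 0)).hom.naturality g.op) t
    have ht' : (c.π.app (op 0)).hom.app (op U) t = (F.obj (op 0)).obj.map h.op s := ht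
    have e1 : (c.π.app (op 0)).hom.app (op W) (c.pt.obj.map g.op t) =
        (F.obj (op 0)).obj.map g.op ((c.π.app (op 0)).hom.app (op U) t) := nat
    show (c.π.app (op 0)).hom.app (op W) (c.pt.obj.map g.op t) = (F.obj (op 0)).obj.map f.op s
    rw [e1, ht', ← hgh, op_comp, Functor.map_comp]
    rfl
  infer_instance

end

section
open CategoryTheory CategoryTheory.Limits Opposite

lemma shift_mono (n : ℕ) : Monotone (fun m : ℕ => n + m) := fun _ _ h => Nat.add_le_add_left h n

instance shift_final (n : ℕ) : (shift_mono n).functor.Final :=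
  (Monotone.final_functor_iff (shift_mono n)).mpr (fun k => ⟨k, Nat.le_add_left k n⟩)

end

/-- Let (C, J) be a site with enough weakly contractible objects — every object V has a covering sieve
all of whose arrows factor through some weakly contractible object, an object U being weakly
contractible when every epimorphism of sheaves of sets (valued in a fixed universe) is surjective on
sections over U. Then the topos of sheaves of sets is replete: if (F_n) is an inverse system of
sheaves of sets indexed by ℕ with every transition map F_(n+1) ⟶ F_n an epimorphism, then each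
projection lim_n F_n ⟶ F_n is an epimorphism; the limit is taken as any limit cone. (The small
pro-étale site of a scheme is such a site.) -/
theorem result
    {C : Type u} [Category.{v} C] (J : GrothendieckTopology C)
    (hwc : ∀ V : C, ∃ S : Sieve V, S ∈ J V ∧ ∀ ⦃W : C⦄ (f : W ⟶ V), S.arrows f →
      ∃ (U : C) (g : W ⟶ U) (h : U ⟶ V), (∀ (A B : Sheaf J (Type w)) (ψ : A ⟶ B), Epi ψ → Function.Surjective (ψ.hom.app (op U))) ∧ g ≫ h = f)
    (F : ℕᵒᵖ ⥤ Sheaf J (Type w))
    (hF : ∀ n : ℕ, Epi (F.map (homOfLE (Nat.le_succ n)).op))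
    (c : Cone F) (hc : IsLimit c) (n : ℕ) :
    Epi (c.π.app (op n)) := by
  let G : ℕᵒᵖ ⥤ ℕᵒᵖ := (shift_mono n).functor.op
  have hc' : IsLimit (c.whisker G) := (Functor.Initial.isLimitWhiskerEquiv G c).symm hc
  have hF' : ∀ m : ℕ, Epi ((G ⋙ F).map (homOfLE (Nat.le_succ m)).op) := by
    intro m
    have : (G ⋙ F).map (homOfLE (Nat.le_succ m)).op =
        F.map (homOfLE (Nat.le_succ (n + m))).op := congrArg F.map (Subsingleton.elim _ _)
    rw [this]
    exact hF (n + m)
  exact result0 J hwc (G ⋙ F) hF' (c.whisker G) hc'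

end Groth.Agent.S14018
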