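import Groth.Statements.S14020
-- import your own Groth.Agent.* helpers here
import Mathlib

set_option autoImplicit false
universe u
open CAlg

namespace Groth.Agent.S14020

theorem artinian_of_killed {R : Type u} [CommRing R] (I : Ideal R) [IsArtinianRing (R ⧸ I)]
    (N : Type u) [AddCommGroup N] [Module R N] [Module.Finite R N]
    (h : Module.IsTorsionBySet R N I) : IsArtinian R N := by
  let _ : Module (R ⧸ I) N := h.module
  have : IsScalarTower R (R ⧸ I) N := h.isScalarTower
  have : Module.Finite (R ⧸ I) N := Module.Finite.of_restrictScalars_finite R (R ⧸ I) N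
  have : IsArtinian (R ⧸ I) N := inferInstance
  exact isArtinian_of_surjective_algebraMap (S := R) (R := R ⧸ I) Ideal.Quotient.mk_surjective

theorem artinian_mod_pow {R : Type u} [CommRing R] (I : Ideal R) (hI : I.FG) [IsArtinianRing (R ⧸ I)]
    (n : ℕ) : IsArtinian R (R ⧸ I ^ n) := by
  induction n with
  | zero =>
    rw [pow_zero, Ideal.one_eq_top]
    have : Subsingleton (R ⧸ (⊤ : Ideal R)) := Ideal.Quotient.subsingleton_iff.2 rfl
    exact isArtinian_of_finite
  | succ n ih =>
    have hle : I ^ (n + 1) ≤ I ^ n := Ideal.pow_le_pow_right (Nat.le_succ n)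
    let g : (R ⧸ I ^ (n + 1)) →ₗ[R] (R ⧸ I ^ n) := Submodule.factor hle
    have hker : LinearMap.ker g = Submodule.map (Submodule.mkQ (I ^ (n + 1))) (I ^ n) := by
      ext x
      obtain ⟨y, rfl⟩ := Submodule.mkQ_surjective _ x
      simp only [LinearMap.mem_ker, Submodule.mem_map]
      constructor
      · intro hy
        refine ⟨y, ?_, rfl⟩
        have h0 : (Submodule.mkQ (I ^ n)) y = 0 := by simpa [g] using hy
        exact (Submodule.Quotient.mk_eq_zero _).1 h0
      · rintro ⟨z, hz, hzy⟩
        have h1 : g ((I ^ (n + 1)).mkQ z) = 0 := by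
          simp only [g, Submodule.factor_mk]
          exact (Submodule.Quotient.mk_eq_zero _).2 hz
        rw [← hzy, h1]
    have : Module.Finite R (LinearMap.ker g) := by
      rw [Module.Finite.iff_fg, hker]
      exact Submodule.FG.map _ (Ideal.FG.pow hI)
    have htors : Module.IsTorsionBySet R (LinearMap.ker g) I := by
      rintro ⟨x, hx⟩ ⟨a, ha⟩
      apply Subtype.ext
      rw [hker] at hx
      obtain ⟨z, hz, rfl⟩ := hx
      change a • (Submodule.mkQ (I ^ (n + 1)) z) = 0
      rw [← map_smul, Submodule.mkQ_apply, Submodule.Quotient.mk_eq_zero, smul_eq_mul, pow_succ']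
      exact Ideal.mul_mem_mul ha hz
    have : IsArtinian R (LinearMap.ker g) := artinian_of_killed I _ htors
    exact isArtinian_of_range_eq_ker (LinearMap.ker g).subtype g (Submodule.range_subtype _)

/-- Let R be a commutative ring and I a finitely generated ideal such that the quotient ring R/I is
artinian. Then R/I^n is artinian for every n. -/
theorem result
    (R : Type u) [CommRing R] (I : Ideal R) (hI : I.FG) [IsArtinianRing (R ⧸ I)] (n : ℕ) :
    IsArtinianRing (R ⧸ I ^ n) := by
  have h := artinian_mod_pow I hI n
  exact isArtinian_of_tower R h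

end Groth.Agent.S14020
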