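import Groth.Statements.S14023
-- import your own Groth.Agent.* helpers here
import Mathlib

set_option autoImplicit false
open CategoryTheory CategoryTheory.Limits Opposite
universe v u
open ARSys

namespace Groth.Agent.S14023

section
open CategoryTheory CategoryTheory.Limits Opposite

variable {A : Type u} [Category.{v} A] [Abelian A]

noncomputable def π' (I : ℕ → A) (t m : ℕ) (h : m ≤ t) :
    (∏ᶜ fun k : Fin (t + 1) => I k.1) ⟶ I m :=
  Pi.π (fun k : Fin (t + 1) => I k.1) ⟨m, Nat.lt_succ_of_le h⟩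

lemma hom_ext_π' (I : ℕ → A) (t : ℕ) {Z : A} (a b : Z ⟶ ∏ᶜ fun k : Fin (t + 1) => I k.1)
    (h : ∀ m (hm : m ≤ t), a ≫ π' I t m hm = b ≫ π' I t m hm) : a = b := by
  apply Pi.hom_ext
  intro k
  exact h k.1 (Nat.le_of_lt_succ k.2)

noncomputable def liftJ (I : ℕ → A) (t : ℕ) {Z : A} (φ : ∀ m, m ≤ t → (Z ⟶ I m)) :
    Z ⟶ ∏ᶜ fun k : Fin (t + 1) => I k.1 :=
  Pi.lift fun k : Fin (t + 1) => φ k.1 (Nat.le_of_lt_succ k.2)

@[reassoc (attr := simp)]
lemma liftJ_π' (I : ℕ → A) (t : ℕ) {Z : A} (φ : ∀ m, m ≤ t → (Z ⟶ I m)) (m : ℕ)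
    (hm : m ≤ t) : liftJ I t φ ≫ π' I t m hm = φ m hm := by
  simp [liftJ, π']

noncomputable def J (I : ℕ → A) : ℕᵒᵖ ⥤ A where
  obj t := ∏ᶜ fun k : Fin (t.unop + 1) => I k.1
  map {s t} f := liftJ I t.unop (fun m hm => π' I s.unop m (hm.trans (leOfHom f.unop)))
  map_id t := by
    apply hom_ext_π'; intro m hm; simp
  map_comp f g := by
    apply hom_ext_π'; intro m hm; simp

noncomputable def πJ (I : ℕ → A) (t : ℕᵒᵖ) (m : ℕ) (h : m ≤ t.unop) : (J I).obj t ⟶ I m :=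
  π' I t.unop m h

noncomputable def liftJ' (I : ℕ → A) (t : ℕᵒᵖ) {Z : A} (φ : ∀ m, m ≤ t.unop → (Z ⟶ I m)) :
    Z ⟶ (J I).obj t :=
  liftJ I t.unop φ

lemma hom_ext_J (I : ℕ → A) (t : ℕᵒᵖ) {Z : A} (a b : Z ⟶ (J I).obj t)
    (h : ∀ m (hm : m ≤ t.unop), a ≫ πJ I t m hm = b ≫ πJ I t m hm) : a = b :=
  hom_ext_π' I t.unop a b h

@[reassoc (attr := simp)]
lemma liftJ'_πJ (I : ℕ → A) (t : ℕᵒᵖ) {Z : A} (φ : ∀ m, m ≤ t.unop → (Z ⟶ I m)) (m : ℕ)
    (hm : m ≤ t.unop) : liftJ' I t φ ≫ πJ I t m hm = φ m hm :=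
  liftJ_π' I t.unop φ m hm

@[reassoc (attr := simp)]
lemma J_map_πJ (I : ℕ → A) {s t : ℕᵒᵖ} (f : s ⟶ t) (m : ℕ) (hm : m ≤ t.unop) :
    (J I).map f ≫ πJ I t m hm = πJ I s m (hm.trans (leOfHom f.unop)) :=
  liftJ_π' I t.unop (fun m hm => π' I s.unop m (hm.trans (leOfHom f.unop))) m hm

def toOp (t : ℕᵒᵖ) (m : ℕ) (hm : m ≤ t.unop) : t ⟶ op m := (homOfLE hm).op

noncomputable def liftNat (G : ℕᵒᵖ ⥤ A) (I : ℕ → A) (φ : ∀ m, G.obj (op m) ⟶ I m) :
    G ⟶ J I where
  app t := liftJ' I t (fun m hm => G.map (toOp t m hm) ≫ φ m)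
  naturality s t f := by
    apply hom_ext_J
    intro m hm
    simp only [Category.assoc, J_map_πJ, liftJ'_πJ]
    rw [← G.map_comp_assoc]
    congr 2

lemma liftNat_app_π' (G : ℕᵒᵖ ⥤ A) (I : ℕ → A) (φ : ∀ m, G.obj (op m) ⟶ I m) (m : ℕ) :
    (liftNat G I φ).app (op m) ≫ πJ I (op m) m le_rfl = φ m := by
  have h1 : toOp (op m) m le_rfl = 𝟙 (op m) := Subsingleton.elim _ _
  simp only [liftNat, liftJ'_πJ, h1, G.map_id, Category.id_comp]

lemma mono_liftNat (G : ℕᵒᵖ ⥤ A) (I : ℕ → A) (φ : ∀ m, G.obj (op m) ⟶ I m)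
    [∀ m, Mono (φ m)] : Mono (liftNat G I φ) := by
  haveI : ∀ t, Mono ((liftNat G I φ).app t) := fun t =>
    mono_of_mono_fac (liftNat_app_π' G I φ t.unop)
  apply NatTrans.mono_of_mono_app

lemma ext_J {G : ℕᵒᵖ ⥤ A} {I : ℕ → A} (a b : G ⟶ J I)
    (h : ∀ m, a.app (op m) ≫ πJ I (op m) m le_rfl = b.app (op m) ≫ πJ I (op m) m le_rfl) :
    a = b := by
  ext t
  apply hom_ext_J
  intro m hm
  have key : ∀ c : G ⟶ J I, c.app t ≫ πJ I t m hm =
      G.map (toOp t m hm) ≫ c.app (op m) ≫ πJ I (op m) m le_rfl := by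
    intro c
    have := c.naturality (toOp t m hm)
    rw [← Category.assoc, this, Category.assoc, J_map_πJ]
  rw [key a, key b, h m]

lemma injective_J (I : ℕ → A) [∀ m, Injective (I m)] : Injective (J I) where
  factors {X Y} g η _ := by
    have hη : ∀ m, Mono (η.app (op m)) := fun m =>
      (NatTrans.mono_iff_mono_app η).mp inferInstance (op m)
    refine ⟨liftNat Y I (fun m =>
      Injective.factorThru (g.app (op m) ≫ πJ I (op m) m le_rfl) (η.app (op m))), ?_⟩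
    apply ext_J
    intro m
    rw [NatTrans.comp_app, Category.assoc, liftNat_app_π', Injective.comp_factorThru]

lemma functor_enough [EnoughInjectives A] : EnoughInjectives (ℕᵒᵖ ⥤ A) :=
  ⟨fun F => ⟨{ J := J (fun m => Injective.under (F.obj (op m)))
               injective := injective_J _
               f := liftNat F _ (fun m => Injective.ι _)
               mono := mono_liftNat _ _ _ }⟩⟩

lemma enough_of_functor [EnoughInjectives (ℕᵒᵖ ⥤ A)] : EnoughInjectives A := by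
  haveI : HasFiniteBiproducts A := HasFiniteBiproducts.of_hasFiniteProducts
  haveI : ∀ a b : ℕᵒᵖ, HasBiproductsOfShape (a ⟶ b) A := fun a b =>
    hasBiproductsOfShape_finite (J := a ⟶ b) (C := A)
  haveI : (evaluationLeftAdjoint A (op 0 : ℕᵒᵖ)).PreservesMonomorphisms := by
    refine ⟨fun {X Y} f hf => ?_⟩
    have : ∀ t, ((evaluationLeftAdjoint A (op 0 : ℕᵒᵖ)).map f).app t =
        Limits.Sigma.map (fun _ : (op 0 : ℕᵒᵖ) ⟶ t => f) := by
      intro t
      apply Sigma.hom_ext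
      intro b
      exact (Sigma.ι_desc (fun h : (op 0 : ℕᵒᵖ) ⟶ t => f ≫ Sigma.ι (fun _ => Y) h) b).trans
        (Sigma.ι_map (fun _ : (op 0 : ℕᵒᵖ) ⟶ t => f) b).symm
    haveI : ∀ t, Mono (((evaluationLeftAdjoint A (op 0 : ℕᵒᵖ)).map f).app t) := by
      intro t
      rw [this]
      haveI : ∀ j : (op 0 : ℕᵒᵖ) ⟶ t, Mono ((fun _ : (op 0 : ℕᵒᵖ) ⟶ t => f) j) :=
        fun j => hf
      exact Sigma.map_mono _
    apply NatTrans.mono_of_mono_app
  refine ⟨fun X => ?_⟩
  obtain ⟨P⟩ := EnoughInjectives.presentation ((Functor.const ℕᵒᵖ).obj X)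
  haveI := P.injective
  haveI := P.mono
  exact ⟨{ J := P.J.obj (op 0)
           injective := Injective.injective_of_adjoint
             (evaluationAdjunctionRight A (op 0 : ℕᵒᵖ)) P.J
           f := P.f.app (op 0)
           mono := (NatTrans.mono_iff_mono_app P.f).mp inferInstance (op 0) }⟩

end

/-- For an abelian category A, the category of inverse systems (A_n)_n indexed by ℕ, i.e. of functors
ℕᵒᵖ ⥤ A, has enough injectives if and only if A has enough injectives. (The second assertion of the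
published proposition, describing the injective systems, is not part of this row.) -/
theorem result
    (A : Type u) [Category.{v} A] [Abelian A] :
    EnoughInjectives (ℕᵒᵖ ⥤ A) ↔ EnoughInjectives A := by
  constructor
  · intro h
    exact enough_of_functor
  · intro h
    exact functor_enough

end Groth.Agent.S14023
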