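import Groth.Statements.S14026
import Mathlib

set_option autoImplicit false
open CategoryTheory CategoryTheory.Limits Opposite
universe v u
open CohSite

namespace Groth.Agent.S14026

set_option backward.isDefEq.respectTransparency false in
theorem aux_S14026
    {C : Type u} [Category.{v} C] (J : GrothendieckTopology C) (U : C)
    (hU : ∀ V : C, Subsingleton (V ⟶ U))
    [HasWeakSheafify J (Type (max u v))]
    [∀ (P : (Over U)ᵒᵖ ⥤ (Type (max u v))), (Over.forget U).op.HasLeftKanExtension P]
    (F : Sheaf (J.over U) (Type (max u v))) :
    IsIso (((Over.forget U).sheafAdjunctionContinuous (Type (max u v)) (J.over U) J).unit.app F) := by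
  haveI : (Over.forget U).Full :=
    ⟨fun {X Y} f => ⟨Over.homMk f (@Subsingleton.elim _ (hU X.left) _ _), rfl⟩⟩
  let t : Adjunction.Triple ((Over.forget U).sheafPullback (Type (max u v)) (J.over U) J)
      ((Over.forget U).sheafPushforwardContinuous (Type (max u v)) (J.over U) J)
      ((Over.forget U).sheafPushforwardCocontinuous (Type (max u v)) (J.over U) J) :=
    ⟨(Over.forget U).sheafAdjunctionContinuous (Type (max u v)) (J.over U) J,
      (Over.forget U).sheafAdjunctionCocontinuous (Type (max u v)) (J.over U) J⟩
  haveI : IsIso t.adj₂.counit := by
    rw [NatTrans.isIso_iff_isIso_app]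
    intro F
    have h : IsIso ((sheafToPresheaf (J.over U) (Type (max u v))).map (t.adj₂.counit.app F)) := by
      show IsIso (((Over.forget U).sheafAdjunctionCocontinuous (Type (max u v)) (J.over U) J).counit.app F).hom
      rw [Functor.sheafAdjunctionCocontinuous_counit_app_hom]
      infer_instance
    exact isIso_of_reflects_iso _ (sheafToPresheaf (J.over U) (Type (max u v)))
  have h1 : IsIso t.adj₁.unit := t.isIso_unit_iff_isIso_counit.2 inferInstance
  exact NatIso.isIso_app_of_isIso t.adj₁.unit F

/-- Let C be a site with topology J and U an object of C such that every object has at most one morphism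
to U (a subobject of the terminal object). For sheaves of sets, let j^* be restriction to the
localized site C/U and j_! its left adjoint (extension by the empty set), which exists under the
stated sheafification and Kan-extension hypotheses. Then for every sheaf F on C/U the unit morphism
F ⟶ j^* j_! F is an isomorphism. -/
theorem result
    {C : Type u} [Category.{v} C] (J : GrothendieckTopology C) (U : C)
    (hU : ∀ V : C, Subsingleton (V ⟶ U))
    [HasWeakSheafify J (Type (max u v))]
    [∀ (P : (Over U)ᵒᵖ ⥤ (Type (max u v))), (Over.forget U).op.HasLeftKanExtension P]
    (F : Sheaf (J.over U) (Type (max u v))) :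
    IsIso (((Over.forget U).sheafAdjunctionContinuous (Type (max u v)) (J.over U) J).unit.app F) := by
  exact aux_S14026 J U hU F

end Groth.Agent.S14026
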