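import Groth.Statements.S14027
import Mathlib

set_option autoImplicit false
open CategoryTheory CategoryTheory.Limits Opposite
universe v u
open CohSite

namespace Groth.Agent.S14027

set_option backward.isDefEq.respectTransparency false in
theorem aux_S14027
    {C : Type u} [Category.{v} C] (J : GrothendieckTopology C) (U : C)
    (hU : ∀ V : C, Subsingleton (V ⟶ U))
    [HasWeakSheafify J AddCommGrpCat.{max u v}]
    [∀ (P : (Over U)ᵒᵖ ⥤ AddCommGrpCat.{max u v}), (Over.forget U).op.HasLeftKanExtension P]
    (F : Sheaf (J.over U) AddCommGrpCat.{max u v}) :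
    IsIso (((Over.forget U).sheafAdjunctionContinuous AddCommGrpCat.{max u v} (J.over U) J).unit.app F) := by
  haveI : (Over.forget U).Full :=
    ⟨fun {X Y} f => ⟨Over.homMk f (@Subsingleton.elim _ (hU X.left) _ _), rfl⟩⟩
  let t : Adjunction.Triple ((Over.forget U).sheafPullback AddCommGrpCat.{max u v} (J.over U) J)
      ((Over.forget U).sheafPushforwardContinuous AddCommGrpCat.{max u v} (J.over U) J)
      ((Over.forget U).sheafPushforwardCocontinuous AddCommGrpCat.{max u v} (J.over U) J) :=
    ⟨(Over.forget U).sheafAdjunctionContinuous AddCommGrpCat.{max u v} (J.over U) J,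
      (Over.forget U).sheafAdjunctionCocontinuous AddCommGrpCat.{max u v} (J.over U) J⟩
  haveI : IsIso t.adj₂.counit := by
    rw [NatTrans.isIso_iff_isIso_app]
    intro F
    have h : IsIso ((sheafToPresheaf (J.over U) AddCommGrpCat.{max u v}).map (t.adj₂.counit.app F)) := by
      show IsIso (((Over.forget U).sheafAdjunctionCocontinuous AddCommGrpCat.{max u v} (J.over U) J).counit.app F).hom
      rw [Functor.sheafAdjunctionCocontinuous_counit_app_hom]
      infer_instance
    exact isIso_of_reflects_iso _ (sheafToPresheaf (J.over U) AddCommGrpCat.{max u v})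
  have h1 : IsIso t.adj₁.unit := t.isIso_unit_iff_isIso_counit.2 inferInstance
  exact NatIso.isIso_app_of_isIso t.adj₁.unit F

/-- Let C be a site with topology J and U an object of C such that every object has at most one morphism
to U (a subobject of the terminal object). For abelian sheaves, let j^* be restriction to the
localized site C/U and j_! its left adjoint (extension by zero), which exists under the stated
sheafification and Kan-extension hypotheses. Then for every sheaf F on C/U the unit morphism F ⟶ j^*
j_! F is an isomorphism. -/
theorem result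
    {C : Type u} [Category.{v} C] (J : GrothendieckTopology C) (U : C)
    (hU : ∀ V : C, Subsingleton (V ⟶ U))
    [HasWeakSheafify J AddCommGrpCat.{max u v}]
    [∀ (P : (Over U)ᵒᵖ ⥤ AddCommGrpCat.{max u v}), (Over.forget U).op.HasLeftKanExtension P]
    (F : Sheaf (J.over U) AddCommGrpCat.{max u v}) :
    IsIso (((Over.forget U).sheafAdjunctionContinuous AddCommGrpCat.{max u v} (J.over U) J).unit.app F) := by
  exact aux_S14027 J U hU F

end Groth.Agent.S14027
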