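import Groth.Statements.S14029
import Mathlib

set_option autoImplicit false
open CategoryTheory CategoryTheory.Limits Opposite
universe v u
open CohSite

namespace Groth.Agent.S14029

set_option backward.isDefEq.respectTransparency false in
theorem aux_S14029
    {C : Type u} [Category.{v} C] (J : GrothendieckTopology C) (U : C)
    (hU : ∀ V : C, Subsingleton (V ⟶ U))
    [HasWeakSheafify J (Type (max u v))]
    [∀ (P : (Over U)ᵒᵖ ⥤ (Type (max u v))), (Over.forget U).op.HasLeftKanExtension P]
    (F : Sheaf (J.over U) (Type (max u v))) :
    IsIso (((Over.forget U).sheafAdjunctionContinuous (Type (max u v)) (J.over U) J).unit.app F) := by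
  haveI : (Over.forget U).Full :=
    ⟨fun {X Y} f => ⟨Over.homMk f (@Subsingleton.elim _ (hU X.left) _ _), rfl⟩⟩
  let t : Adjunction.Triple ((Over.forget U).sheafPullback (Type (max u v)) (J.over U) J)
      ((Over.forget U).sheafPushforwardContinuous (Type (max u v)) (J.over U) J)
      ((Over.forget U).sheafPushforwardCocontinuous (Type (max u v)) (J.over U) J) :=
    ⟨(Over.forget U).sheafAdjunctionContinuous (Type (max u v)) (J.over U) J,
      (Over.forget U).sheafAdjunctionCocontinuous (Type (max u v)) (J.over U) J⟩
  haveI : IsIso t.adj₂.counit := by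
    rw [NatTrans.isIso_iff_isIso_app]
    intro F
    have h : IsIso ((sheafToPresheaf (J.over U) (Type (max u v))).map (t.adj₂.counit.app F)) := by
      show IsIso (((Over.forget U).sheafAdjunctionCocontinuous (Type (max u v)) (J.over U) J).counit.app F).hom
      rw [Functor.sheafAdjunctionCocontinuous_counit_app_hom]
      infer_instance
    exact isIso_of_reflects_iso _ (sheafToPresheaf (J.over U) (Type (max u v)))
  have h1 : IsIso t.adj₁.unit := t.isIso_unit_iff_isIso_counit.2 inferInstance
  exact NatIso.isIso_app_of_isIso t.adj₁.unit F

/-- Let (C, J) be a site and U an object such that every object has at most one morphism to U; assume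
extension by the empty set j_! from sheaves of sets on the localized site C/U to sheaves of sets on
C exists (through sheafification on C and left Kan extensions along C/U → C). If V is weakly
contractible in C — every epimorphism of sheaves of sets on C is surjective on sections over V —
then for any morphism a : V ⟶ U the object V → U of C/U is weakly contractible in C/U: every
epimorphism of sheaves of sets on C/U is surjective on sections over it. Hence C/U has enough weakly
contractible objects when C does. -/
theorem result
    {C : Type u} [Category.{v} C] (J : GrothendieckTopology C) (U : C)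
    (hU : ∀ W : C, Subsingleton (W ⟶ U))
    [HasWeakSheafify J (Type (max u v))]
    [∀ (P : (Over U)ᵒᵖ ⥤ Type (max u v)), (Over.forget U).op.HasLeftKanExtension P]
    (V : C) (hV : (∀ (A B : Sheaf J (Type (max u v))) (ψ : A ⟶ B), Epi ψ → Function.Surjective (ψ.hom.app (op V)))) (a : V ⟶ U) :
    ∀ (A B : Sheaf (J.over U) (Type (max u v))) (ψ : A ⟶ B), Epi ψ →
      Function.Surjective (ψ.hom.app (op (Over.mk a))) := by
  intro A B ψ hψ
  let adj := (Over.forget U).sheafAdjunctionContinuous (Type (max u v)) (J.over U) J
  let L := (Over.forget U).sheafPullback (Type (max u v)) (J.over U) J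
  let R := (Over.forget U).sheafPushforwardContinuous (Type (max u v)) (J.over U) J
  let E : Sheaf (J.over U) (Type (max u v)) ⥤ Type (max u v) :=
    sheafToPresheaf _ _ ⋙ (evaluation _ _).obj (op (Over.mk a))
  haveI : L.IsLeftAdjoint := adj.isLeftAdjoint
  haveI : Epi (L.map ψ) := inferInstance
  have hs : Function.Surjective ((L.map ψ).hom.app (op V)) := hV _ _ (L.map ψ) inferInstance
  haveI iA : IsIso (adj.unit.app A) := aux_S14029 J U hU A
  haveI iB : IsIso (adj.unit.app B) := aux_S14029 J U hU B
  have nat : E.map ψ ≫ E.map (adj.unit.app B) =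
      E.map (adj.unit.app A) ≫ E.map (R.map (L.map ψ)) := by
    rw [← E.map_comp, ← E.map_comp]
    exact congrArg E.map (adj.unit.naturality ψ)
  have hbij : Function.Bijective (E.map (adj.unit.app A)) :=
    (isIso_iff_bijective _).1 inferInstance
  have hbijB : Function.Bijective (E.map (adj.unit.app B)) :=
    (isIso_iff_bijective _).1 inferInstance
  have hs' : Function.Surjective (E.map (R.map (L.map ψ))) := hs
  intro b
  obtain ⟨a', ha'⟩ := hs' (E.map (adj.unit.app B) b)
  obtain ⟨a0, ha0⟩ := hbij.2 a'
  refine ⟨a0, hbijB.1 ?_⟩
  have h3 : (E.map ψ ≫ E.map (adj.unit.app B)) a0 =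
      (E.map (adj.unit.app A) ≫ E.map (R.map (L.map ψ))) a0 := by rw [nat]
  simp only [types_comp_apply] at h3
  show E.map (adj.unit.app B) (E.map ψ a0) = _
  rw [h3, ha0, ha']

end Groth.Agent.S14029
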