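import Groth.Statements.S14032
-- import your own Groth.Agent.* helpers here
import Mathlib
import Groth.Agent.Lib.helper7.ArtFlat

set_option autoImplicit false
universe u v
open W4c1frobunstiva

namespace Groth.Agent.S14032

open Groth.Agent.Lib.helper7

lemma nak {R : Type*} {M : Type*} [CommRing R] [AddCommGroup M] [Module R M] (N : Ideal R) {n : ℕ}
    (hn : N ^ n = ⊥) (S : Submodule R M) (h : S ⊔ N • (⊤ : Submodule R M) = ⊤) : S = ⊤ := by
  have hstep : ∀ j : ℕ, S ⊔ (N ^ j) • (⊤ : Submodule R M) = ⊤ := by
    intro j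
    induction j with
    | zero => simp
    | succ j ih =>
      rw [eq_top_iff]
      calc ⊤ = S ⊔ N • (⊤ : Submodule R M) := h.symm
        _ = S ⊔ N • (S ⊔ (N ^ j) • (⊤ : Submodule R M)) := by rw [ih]
        _ = S ⊔ (N • S ⊔ N • (N ^ j) • (⊤ : Submodule R M)) := by rw [Submodule.smul_sup]
        _ ≤ S ⊔ (N ^ (j + 1)) • (⊤ : Submodule R M) := by
          refine sup_le le_sup_left (sup_le (le_sup_of_le_left Submodule.smul_le_right)
            (le_sup_of_le_right ?_))
          rw [← Submodule.mul_smul, ← pow_succ']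
  have h4 := hstep n
  rw [hn, Submodule.bot_smul, sup_bot_eq] at h4
  exact h4

lemma tsum {R : Type*} {M : Type*} [CommRing R] [AddCommGroup M] [Module R M] (N : Ideal R)
    {r : ℕ} (a : Fin r → R) (m : Fin r → M) :
    ∑ i, (Ideal.Quotient.mk N (a i)) • ((1 : R ⧸ N) ⊗ₜ[R] m i)
      = (1 : R ⧸ N) ⊗ₜ[R] (∑ i, a i • m i) := by
  rw [TensorProduct.tmul_sum]
  refine Finset.sum_congr rfl fun i _ => ?_
  rw [TensorProduct.tmul_smul, ← algebraMap_smul (R ⧸ N) (a i) ((1 : R ⧸ N) ⊗ₜ[R] m i)]
  rfl

lemma exists_coeff_mem {R : Type*} {M : Type*} [CommRing R] [AddCommGroup M] [Module R M]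
    (N : Ideal R) {r : ℕ} (m : Fin r → M) (hsp : Submodule.span R (Set.range m) = ⊤) (y : M)
    (hy : y ∈ N • (⊤ : Submodule R M)) : ∃ c : Fin r → R, (∀ i, c i ∈ N) ∧ ∑ i, c i • m i = y := by
  refine Submodule.smul_induction_on hy ?_ ?_
  · intro n hn y' _
    have hy' : y' ∈ Submodule.span R (Set.range m) := by rw [hsp]; exact Submodule.mem_top
    obtain ⟨d, hd⟩ := (Submodule.mem_span_range_iff_exists_fun R).1 hy'
    refine ⟨fun i => n * d i, fun i => N.mul_mem_right _ hn, ?_⟩
    rw [← hd, Finset.smul_sum]
    exact Finset.sum_congr rfl fun i _ => by rw [mul_smul]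
  · rintro x y ⟨c, hc, rfl⟩ ⟨c', hc', rfl⟩
    exact ⟨fun i => c i + c' i, fun i => N.add_mem (hc i) (hc' i), by
      simp [add_smul, Finset.sum_add_distrib]⟩

open TensorProduct in
/-- Let R be a commutative Noetherian ring with nilradical n, M an R-module and r a natural number. Then
M is NR-free of rank r — generated by r elements such that every linear relation among them has
nilpotent coefficients — if and only if (R/n) ⊗_R M is free of rank r over R/n, in the sense of
admitting a basis indexed by r elements. (The published statement assumes M finitely generated and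
also gives the converse when R is local; over a Noetherian ring the nilradical is nilpotent, the
case used here, and finite generation is not needed.) -/
theorem result (R : Type u) [CommRing R]
    [IsNoetherianRing R] (M : Type v) [AddCommGroup M] [Module R M] (r : ℕ) :
    W4c1frobunstiva.IsNRFree R M r ↔
      Nonempty (Module.Basis (Fin r) (R ⧸ nilradical R) ((R ⧸ nilradical R) ⊗[R] M)) := by
  classical
  obtain ⟨n, hn⟩ : ∃ n, (nilradical R) ^ n = ⊥ := by
    obtain ⟨n, hn⟩ := IsNoetherianRing.isNilpotent_nilradical R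
    exact ⟨n, by rw [← Ideal.zero_eq_bot]; exact hn⟩
  constructor
  · rintro ⟨m, hsp, hrel⟩
    have hli : LinearIndependent (R ⧸ nilradical R)
        (fun i => (1 : R ⧸ nilradical R) ⊗ₜ[R] m i) := by
      rw [Fintype.linearIndependent_iff]
      intro g hg i
      choose a ha using fun i => Ideal.Quotient.mk_surjective (g i)
      have h1 : (1 : R ⧸ nilradical R) ⊗ₜ[R] (∑ i, a i • m i) = 0 := by
        rw [← tsum (nilradical R) a m, ← hg]
        exact Finset.sum_congr rfl fun i _ => by rw [ha i]
      have h2 := (af_mk_eq_zero_iff (nilradical R) M _).mp h1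
      obtain ⟨c, hc, hcs⟩ := exists_coeff_mem (nilradical R) m hsp _ h2
      have h3 : ∑ i, (a i - c i) • m i = 0 := by
        simp only [sub_smul, Finset.sum_sub_distrib, hcs, sub_self]
      have h4 := hrel _ h3 i
      have h5 : a i - c i ∈ nilradical R := mem_nilradical.2 h4
      have h6 : a i ∈ nilradical R := by
        have h7 := (nilradical R).add_mem h5 (hc i)
        simpa using h7
      rw [← ha i]; exact Ideal.Quotient.eq_zero_iff_mem.2 h6
    have hspan : ⊤ ≤ Submodule.span (R ⧸ nilradical R)
        (Set.range fun i => (1 : R ⧸ nilradical R) ⊗ₜ[R] m i) := by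
      intro z _
      obtain ⟨y, rfl⟩ := TensorProduct.mk_surjective R M (R ⧸ nilradical R)
        Ideal.Quotient.mk_surjective z
      have hy : y ∈ Submodule.span R (Set.range m) := by rw [hsp]; exact Submodule.mem_top
      obtain ⟨d, hd⟩ := (Submodule.mem_span_range_iff_exists_fun R).1 hy
      change (1 : R ⧸ nilradical R) ⊗ₜ[R] y ∈ _
      rw [← hd, ← tsum (nilradical R) d m]
      exact Submodule.sum_mem _ fun i _ =>
        Submodule.smul_mem _ _ (Submodule.subset_span ⟨i, rfl⟩)
    exact ⟨Module.Basis.mk hli hspan⟩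
  · rintro ⟨b⟩
    choose m hm using fun i => TensorProduct.mk_surjective R M (R ⧸ nilradical R)
      Ideal.Quotient.mk_surjective (b i)
    have hm' : ∀ i, (1 : R ⧸ nilradical R) ⊗ₜ[R] m i = b i := hm
    refine ⟨m, ?_, ?_⟩
    · apply nak (nilradical R) hn
      rw [eq_top_iff]
      intro y _
      choose a ha using fun i => Ideal.Quotient.mk_surjective
        (b.repr ((1 : R ⧸ nilradical R) ⊗ₜ[R] y) i)
      have h1 : (1 : R ⧸ nilradical R) ⊗ₜ[R] (y - ∑ i, a i • m i) = 0 := by
        rw [TensorProduct.tmul_sub, ← tsum (nilradical R) a m, sub_eq_zero]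
        conv_lhs => rw [← b.sum_repr ((1 : R ⧸ nilradical R) ⊗ₜ[R] y)]
        exact Finset.sum_congr rfl fun i _ => by rw [ha i, hm' i]
      have h2 := (af_mk_eq_zero_iff (nilradical R) M _).mp h1
      have h3 : y = ∑ i, a i • m i + (y - ∑ i, a i • m i) := by abel
      rw [h3]
      exact Submodule.add_mem_sup (Submodule.sum_mem _ fun i _ =>
        Submodule.smul_mem _ _ (Submodule.subset_span ⟨i, rfl⟩)) h2
    · intro a ha i
      have h1 : ∑ i, (Ideal.Quotient.mk (nilradical R) (a i)) • b i = 0 := by
        have h0 := tsum (nilradical R) a m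
        rw [ha, TensorProduct.tmul_zero] at h0
        rw [← h0]
        exact Finset.sum_congr rfl fun i _ => by rw [hm' i]
      have h2 := Fintype.linearIndependent_iff.1 b.linearIndependent _ h1 i
      exact mem_nilradical.1 (Ideal.Quotient.eq_zero_iff_mem.1 h2)

end Groth.Agent.S14032
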