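import Groth.Statements.S14033
-- import your own Groth.Agent.* helpers here
import Mathlib

set_option autoImplicit false
universe u v
open W4c1frobunstiva

namespace Groth.Agent.S14033

open DualNumber Pointwise

section dn
variable {R : Type u} [CommRing R] {M : Type v} [AddCommGroup M] [Module R[ε] M] [Module R M]
  [IsScalarTower R R[ε] M]

lemma dn_decomp (x : R[ε]) :
    x = algebraMap R R[ε] (TrivSqZeroExt.fst x) + (TrivSqZeroExt.snd x) • (ε : R[ε]) := by
  apply TrivSqZeroExt.ext <;> simp [TrivSqZeroExt.algebraMap_eq_inl]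

lemma dn_smul (x : R[ε]) (m : M) :
    x • m = (TrivSqZeroExt.fst x) • m + (TrivSqZeroExt.snd x) • ((ε : R[ε]) • m) := by
  conv_lhs => rw [dn_decomp x]
  rw [add_smul, algebraMap_smul, smul_assoc]

lemma dn_eps_eps (m : M) : (ε : R[ε]) • ((ε : R[ε]) • m) = 0 := by
  rw [← mul_smul, DualNumber.eps_mul_eps, zero_smul]

lemma dn_memE (m : M) : (ε : R[ε]) • m ∈ ((ε : R[ε]) • (⊤ : Submodule R[ε] M)) :=
  Submodule.smul_mem_pointwise_smul m ε ⊤ Submodule.mem_top

lemma dn_mk_eps (m : M) :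
    (Submodule.Quotient.mk ((ε : R[ε]) • m) : M ⧸ ((ε : R[ε]) • (⊤ : Submodule R[ε] M))) = 0 :=
  (Submodule.Quotient.mk_eq_zero _).mpr (dn_memE m)

lemma dn_mk_smul (x : R[ε]) (m : M) :
    (Submodule.Quotient.mk (x • m) : M ⧸ ((ε : R[ε]) • (⊤ : Submodule R[ε] M)))
      = (TrivSqZeroExt.fst x) • (Submodule.Quotient.mk m :
        M ⧸ ((ε : R[ε]) • (⊤ : Submodule R[ε] M))) := by
  rw [dn_smul x m, Submodule.Quotient.mk_add, Submodule.Quotient.mk_smul,
    smul_comm (TrivSqZeroExt.snd x) (ε : R[ε]) m, dn_mk_eps, add_zero]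

lemma dn_exists_of_mk_eq_zero (m : M)
    (h : (Submodule.Quotient.mk m : M ⧸ ((ε : R[ε]) • (⊤ : Submodule R[ε] M))) = 0) :
    ∃ m' : M, (ε : R[ε]) • m' = m := by
  obtain ⟨m', -, hm'⟩ := (Submodule.mem_smul_pointwise_iff_exists _ _ _).mp
    ((Submodule.Quotient.mk_eq_zero _).mp h)
  exact ⟨m', hm'⟩

theorem dn_forward (r : ℕ) (b : Module.Basis (Fin r) R[ε] M) :
    Nonempty (Module.Basis (Fin r) R (M ⧸ ((ε : R[ε]) • (⊤ : Submodule R[ε] M)))) ∧
      Nonempty (Module.Basis (Fin r) R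
        (((ε : R[ε]) • (⊤ : Submodule R[ε] M)).restrictScalars R)) := by
  classical
  have hB1 := Fintype.linearIndependent_iff.mp b.linearIndependent
  have hmk_sum : ∀ x : Fin r → R[ε],
      (Submodule.Quotient.mk (∑ i, x i • b i) : M ⧸ ((ε : R[ε]) • (⊤ : Submodule R[ε] M)))
        = ∑ i, (TrivSqZeroExt.fst (x i)) • (Submodule.Quotient.mk (b i) :
          M ⧸ ((ε : R[ε]) • (⊤ : Submodule R[ε] M))) := by
    intro x
    have h0 : (Submodule.Quotient.mk (∑ i, x i • b i) :
        M ⧸ ((ε : R[ε]) • (⊤ : Submodule R[ε] M)))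
        = ((ε : R[ε]) • (⊤ : Submodule R[ε] M)).mkQ (∑ i, x i • b i) := rfl
    rw [h0, map_sum]
    apply Finset.sum_congr rfl
    intro i _
    rw [Submodule.mkQ_apply, dn_mk_smul]
  have hLIQ : LinearIndependent R (fun i => (Submodule.Quotient.mk (b i) :
      M ⧸ ((ε : R[ε]) • (⊤ : Submodule R[ε] M)))) := by
    rw [Fintype.linearIndependent_iff]
    intro a ha i
    have h1 : (Submodule.Quotient.mk (∑ j, algebraMap R R[ε] (a j) • b j) :
        M ⧸ ((ε : R[ε]) • (⊤ : Submodule R[ε] M))) = 0 := by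
      rw [hmk_sum, ← ha]
      apply Finset.sum_congr rfl
      intro j _
      simp [TrivSqZeroExt.algebraMap_eq_inl]
    obtain ⟨m', hm'⟩ := dn_exists_of_mk_eq_zero _ h1
    have h2 : ∑ j, (algebraMap R R[ε] (a j) - ε * b.repr m' j) • b j = 0 := by
      simp only [sub_smul, Finset.sum_sub_distrib, mul_smul]
      rw [← Finset.smul_sum, b.sum_repr, hm', sub_self]
    have h3 := hB1 _ h2 i
    have h4 := congrArg TrivSqZeroExt.fst h3
    simpa [TrivSqZeroExt.fst_mul, TrivSqZeroExt.algebraMap_eq_inl] using h4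
  have hSpQ : ⊤ ≤ Submodule.span R (Set.range (fun i => (Submodule.Quotient.mk (b i) :
      M ⧸ ((ε : R[ε]) • (⊤ : Submodule R[ε] M))))) := by
    rintro q -
    obtain ⟨m, rfl⟩ := Submodule.Quotient.mk_surjective _ q
    have h1 := hmk_sum (fun i => b.repr m i)
    rw [b.sum_repr] at h1
    rw [h1]
    apply Submodule.sum_mem
    intro j _
    exact Submodule.smul_mem _ _ (Submodule.subset_span ⟨j, rfl⟩)
  have hLIE : LinearIndependent R (fun i => (⟨(ε : R[ε]) • b i, dn_memE (b i)⟩ :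
      ↥(((ε : R[ε]) • (⊤ : Submodule R[ε] M)).restrictScalars R))) := by
    rw [Fintype.linearIndependent_iff]
    intro a ha i
    have h1 := congrArg Subtype.val ha
    rw [Submodule.coe_sum] at h1
    simp only [Submodule.coe_smul, Submodule.coe_zero] at h1
    have h2 : ∑ j, (algebraMap R R[ε] (a j) * ε) • b j = 0 := by
      rw [← h1]
      apply Finset.sum_congr rfl
      intro j _
      rw [mul_smul, algebraMap_smul]
    have h3 := hB1 _ h2 i
    have h4 := congrArg TrivSqZeroExt.snd h3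
    simpa [TrivSqZeroExt.snd_mul, TrivSqZeroExt.algebraMap_eq_inl] using h4
  have hSpE : ⊤ ≤ Submodule.span R (Set.range (fun i => (⟨(ε : R[ε]) • b i, dn_memE (b i)⟩ :
      ↥(((ε : R[ε]) • (⊤ : Submodule R[ε] M)).restrictScalars R)))) := by
    rintro ⟨y, hy⟩ -
    have hy' : y ∈ ((ε : R[ε]) • (⊤ : Submodule R[ε] M)) := hy
    obtain ⟨m, -, hm⟩ := (Submodule.mem_smul_pointwise_iff_exists _ _ _).mp hy'
    have h1 : (⟨y, hy⟩ : ↥(((ε : R[ε]) • (⊤ : Submodule R[ε] M)).restrictScalars R))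
        = ∑ j, (TrivSqZeroExt.fst (b.repr m j)) • (⟨(ε : R[ε]) • b j, dn_memE (b j)⟩ :
          ↥(((ε : R[ε]) • (⊤ : Submodule R[ε] M)).restrictScalars R)) := by
      apply Subtype.ext
      rw [Submodule.coe_sum]
      simp only [Submodule.coe_smul]
      show y = ∑ j, (TrivSqZeroExt.fst (b.repr m j)) • ((ε : R[ε]) • b j)
      rw [← hm]
      conv_lhs => rw [← b.sum_repr m]
      rw [Finset.smul_sum]
      apply Finset.sum_congr rfl
      intro j _
      rw [dn_smul (b.repr m j) (b j), smul_add,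
        smul_comm (ε : R[ε]) (TrivSqZeroExt.fst (b.repr m j)) (b j),
        smul_comm (ε : R[ε]) (TrivSqZeroExt.snd (b.repr m j)) ((ε : R[ε]) • b j),
        dn_eps_eps, smul_zero, add_zero]
    rw [h1]
    apply Submodule.sum_mem
    intro j _
    exact Submodule.smul_mem _ _ (Submodule.subset_span ⟨j, rfl⟩)
  exact ⟨⟨Module.Basis.mk hLIQ hSpQ⟩, ⟨Module.Basis.mk hLIE hSpE⟩⟩

theorem dn_backward (r : ℕ)
    (v : Module.Basis (Fin r) R (M ⧸ ((ε : R[ε]) • (⊤ : Submodule R[ε] M))))
    (w : Module.Basis (Fin r) R (((ε : R[ε]) • (⊤ : Submodule R[ε] M)).restrictScalars R)) :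
    Nonempty (Module.Basis (Fin r) R[ε] M) := by
  classical
  have hlift : ∀ i, ∃ e : M, (Submodule.Quotient.mk e :
      M ⧸ ((ε : R[ε]) • (⊤ : Submodule R[ε] M))) = v i :=
    fun i => Submodule.Quotient.mk_surjective _ (v i)
  choose e he using hlift
  let f0 : M →ₗ[R[ε]] M := LinearMap.lsmul R[ε] M ε
  have hf0 : ∀ m, f0 m = (ε : R[ε]) • m := fun m => rfl
  have hker : ((ε : R[ε]) • (⊤ : Submodule R[ε] M)) ≤ LinearMap.ker f0 := by
    intro y hy
    obtain ⟨m, -, rfl⟩ := (Submodule.mem_smul_pointwise_iff_exists _ _ _).mp hy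
    rw [LinearMap.mem_ker, hf0, dn_eps_eps]
  let μ0 : (M ⧸ ((ε : R[ε]) • (⊤ : Submodule R[ε] M))) →ₗ[R[ε]] M :=
    ((ε : R[ε]) • (⊤ : Submodule R[ε] M)).liftQ f0 hker
  let μ1 : (M ⧸ ((ε : R[ε]) • (⊤ : Submodule R[ε] M))) →ₗ[R] M := μ0.restrictScalars R
  have hμ1 : ∀ m, μ1 (Submodule.Quotient.mk m) = (ε : R[ε]) • m := fun m => rfl
  have hμ1mem : ∀ q, μ1 q ∈ ((ε : R[ε]) • (⊤ : Submodule R[ε] M)).restrictScalars R := by
    intro q
    obtain ⟨m, rfl⟩ := Submodule.Quotient.mk_surjective _ q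
    rw [hμ1]
    exact dn_memE m
  let μ : (M ⧸ ((ε : R[ε]) • (⊤ : Submodule R[ε] M))) →ₗ[R]
      ↥(((ε : R[ε]) • (⊤ : Submodule R[ε] M)).restrictScalars R) :=
    μ1.codRestrict _ hμ1mem
  have hμ : ∀ m, ((μ (Submodule.Quotient.mk m) :
      ↥(((ε : R[ε]) • (⊤ : Submodule R[ε] M)).restrictScalars R)) : M) = (ε : R[ε]) • m :=
    fun m => rfl
  have hμsurj : Function.Surjective μ := by
    rintro ⟨y, hy⟩
    have hy' : y ∈ ((ε : R[ε]) • (⊤ : Submodule R[ε] M)) := hy
    obtain ⟨m, -, hm⟩ := (Submodule.mem_smul_pointwise_iff_exists _ _ _).mp hy'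
    exact ⟨Submodule.Quotient.mk m, Subtype.ext (by rw [hμ]; exact hm)⟩
  haveI : Module.Finite R ↥(((ε : R[ε]) • (⊤ : Submodule R[ε] M)).restrictScalars R) :=
    Module.Finite.of_basis w
  have hμinj : Function.Injective μ := by
    let i0 : (M ⧸ ((ε : R[ε]) • (⊤ : Submodule R[ε] M))) →ₗ[R]
        ↥(((ε : R[ε]) • (⊤ : Submodule R[ε] M)).restrictScalars R) :=
      ((v.equivFun).trans (w.equivFun).symm).toLinearMap
    exact OrzechProperty.injective_of_surjective_of_injective i0 μ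
      ((v.equivFun).trans (w.equivFun).symm).injective hμsurj
  have hmk_sum : ∀ x : Fin r → R[ε],
      (Submodule.Quotient.mk (∑ i, x i • e i) : M ⧸ ((ε : R[ε]) • (⊤ : Submodule R[ε] M)))
        = ∑ i, (TrivSqZeroExt.fst (x i)) • v i := by
    intro x
    have h0 : (Submodule.Quotient.mk (∑ i, x i • e i) :
        M ⧸ ((ε : R[ε]) • (⊤ : Submodule R[ε] M)))
        = ((ε : R[ε]) • (⊤ : Submodule R[ε] M)).mkQ (∑ i, x i • e i) := rfl
    rw [h0, map_sum]
    apply Finset.sum_congr rfl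
    intro i _
    rw [Submodule.mkQ_apply, dn_mk_smul, he]
  have hLI : LinearIndependent R[ε] e := by
    rw [Fintype.linearIndependent_iff]
    intro x hx
    have h1 : ∑ i, (TrivSqZeroExt.fst (x i)) • v i = 0 := by
      rw [← hmk_sum, hx, Submodule.Quotient.mk_zero]
    have hfst : ∀ i, TrivSqZeroExt.fst (x i) = 0 :=
      Fintype.linearIndependent_iff.mp v.linearIndependent _ h1
    have h2 : μ (∑ i, (TrivSqZeroExt.snd (x i)) • v i) = 0 := by
      apply Subtype.ext
      rw [map_sum, Submodule.coe_sum, Submodule.coe_zero, ← hx]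
      apply Finset.sum_congr rfl
      intro i _
      rw [map_smul, Submodule.coe_smul, ← he i, hμ, dn_smul (x i) (e i), hfst i, zero_smul,
        zero_add]
    have h3 : ∑ i, (TrivSqZeroExt.snd (x i)) • v i = 0 := hμinj (by rw [h2, map_zero])
    have hsnd : ∀ i, TrivSqZeroExt.snd (x i) = 0 :=
      Fintype.linearIndependent_iff.mp v.linearIndependent _ h3
    intro i
    exact TrivSqZeroExt.ext (hfst i) (hsnd i)
  have hrep : ∀ m : M, ∃ m' : M, m = ∑ i, (algebraMap R R[ε] (v.repr (Submodule.Quotient.mk m) i))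
      • e i + (ε : R[ε]) • m' := by
    intro m
    have h : (Submodule.Quotient.mk (m - ∑ i, (algebraMap R R[ε]
        (v.repr (Submodule.Quotient.mk m) i)) • e i) :
        M ⧸ ((ε : R[ε]) • (⊤ : Submodule R[ε] M))) = 0 := by
      rw [Submodule.Quotient.mk_sub, sub_eq_zero, hmk_sum]
      conv_lhs => rw [← v.sum_repr (Submodule.Quotient.mk m)]
      apply Finset.sum_congr rfl
      intro i _
      simp [TrivSqZeroExt.algebraMap_eq_inl]
    obtain ⟨m', hm'⟩ := dn_exists_of_mk_eq_zero _ h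
    exact ⟨m', by rw [hm']; abel⟩
  have hSp : ⊤ ≤ Submodule.span R[ε] (Set.range e) := by
    rintro m -
    obtain ⟨m', hm'⟩ := hrep m
    obtain ⟨m'', hm''⟩ := hrep m'
    rw [hm', hm'', smul_add, dn_eps_eps, add_zero]
    apply Submodule.add_mem
    · apply Submodule.sum_mem; intro i _
      exact Submodule.smul_mem _ _ (Submodule.subset_span ⟨i, rfl⟩)
    · rw [Finset.smul_sum]
      apply Submodule.sum_mem; intro i _
      exact Submodule.smul_mem _ _ (Submodule.smul_mem _ _ (Submodule.subset_span ⟨i, rfl⟩))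
  exact ⟨Module.Basis.mk hLI hSp⟩

end dn

open DualNumber Pointwise in
/-- Let R be a commutative ring, R[ε] its ring of dual numbers (ε² = 0), M an R[ε]-module and r a
natural number. Then M is free of rank r over R[ε] (admits a basis of r elements) if and only if the
R-modules M/εM and εM are both free of rank r. (The published statement concerns a coherent sheaf on
the product of a scheme S with Spec ℤ[ε] and local freeness of rank r; that assertion is local, and
this row is its form over one ring, with no finiteness assumption on M and no hypothesis on R.) -/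
theorem result (R : Type u) [CommRing R] (M : Type v)
    [AddCommGroup M] [Module R[ε] M] [Module R M] [IsScalarTower R R[ε] M] (r : ℕ) :
    Nonempty (Module.Basis (Fin r) R[ε] M) ↔
      (Nonempty (Module.Basis (Fin r) R (M ⧸ ((ε : R[ε]) • (⊤ : Submodule R[ε] M)))) ∧
        Nonempty (Module.Basis (Fin r) R (((ε : R[ε]) • (⊤ : Submodule R[ε] M)).restrictScalars R))) := by
  constructor
  · rintro ⟨b⟩
    exact dn_forward r b
  · rintro ⟨⟨v⟩, ⟨w⟩⟩
    exact dn_backward r v w

end Groth.Agent.S14033
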