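import Groth.Statements.S14035
-- import your own Groth.Agent.* helpers here
import Mathlib

set_option autoImplicit false
universe u v
open W4c1frobunstiva

namespace Groth.Agent.S14035

open TensorProduct in
/-- Let A → B be a ring homomorphism with B Noetherian. If B modulo its nilradical is flat over A and
every fibre ring κ(p) ⊗_A B, p a prime of A, is reduced, then B is reduced. (This is the affine form
of the statement for a morphism of schemes X → Y all of whose fibres are reduced and whose
restriction to the reduced closed subscheme X_red is flat. The published statement does not say X is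
locally Noetherian, but its proof applies Nakayama's lemma to the nilradical as a finitely generated
ideal; without it the square-zero extension of a discrete valuation ring A by Frac(A)/A is a
counterexample.) -/
theorem result (A : Type u) (B : Type v)
    [CommRing A] [CommRing B] [Algebra A B] [IsNoetherianRing B]
    [Module.Flat A (B ⧸ nilradical B)]
    (hfib : ∀ p : PrimeSpectrum A, IsReduced (p.asIdeal.ResidueField ⊗[A] B)) :
    IsReduced B := by
  classical
  have ha : ∀ (p : PrimeSpectrum A) (n : nilradical B),
      (1 : p.asIdeal.ResidueField) ⊗ₜ[A] n = 0 := by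
    intro p n
    let g : ↥(nilradical B) →ₗ[A] B := (nilradical B).subtype.restrictScalars A
    let f : B →ₗ[A] B ⧸ nilradical B := (Ideal.Quotient.mkₐ A (nilradical B)).toLinearMap
    have hinj : Function.Injective (g.lTensor p.asIdeal.ResidueField) := by
      apply LinearMap.lTensor_injective_of_exact_of_flat f
      · exact Ideal.Quotient.mk_surjective
      · exact Subtype.val_injective
      · intro b
        constructor
        · intro hb
          exact ⟨⟨b, Ideal.Quotient.eq_zero_iff_mem.mp hb⟩, rfl⟩
        · rintro ⟨x, rfl⟩
          exact Ideal.Quotient.eq_zero_iff_mem.mpr x.2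
    apply hinj
    rw [map_zero, LinearMap.lTensor_tmul]
    show (1 : p.asIdeal.ResidueField) ⊗ₜ[A] (n : B) = 0
    haveI := hfib p
    apply IsNilpotent.eq_zero
    obtain ⟨k, hk⟩ := mem_nilradical.mp n.2
    refine ⟨k, ?_⟩
    rw [Algebra.TensorProduct.tmul_pow, hk, one_pow, TensorProduct.tmul_zero]
  have hb : ∀ q : PrimeSpectrum B,
      Subsingleton (q.asIdeal.ResidueField ⊗[B] (nilradical B)) := by
    intro q
    let p : PrimeSpectrum A := ⟨q.asIdeal.comap (algebraMap A B), inferInstance⟩
    let ι : p.asIdeal.ResidueField →ₐ[A] q.asIdeal.ResidueField :=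
      Ideal.ResidueField.mapₐ p.asIdeal q.asIdeal (Algebra.ofId A B) rfl
    let Φ : p.asIdeal.ResidueField ⊗[A] (nilradical B) →ₗ[A]
        q.asIdeal.ResidueField ⊗[B] (nilradical B) :=
      (TensorProduct.mapOfCompatibleSMul B A A q.asIdeal.ResidueField (nilradical B)) ∘ₗ
        (LinearMap.rTensor (nilradical B) ι.toLinearMap)
    have hΦ : ∀ n : nilradical B, (1 : q.asIdeal.ResidueField) ⊗ₜ[B] n = 0 := by
      intro n
      have h1 : Φ ((1 : p.asIdeal.ResidueField) ⊗ₜ[A] n)
          = (1 : q.asIdeal.ResidueField) ⊗ₜ[B] n := by
        simp [Φ]
      rw [← h1, ha p n, map_zero]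
    have h0 : ∀ z : q.asIdeal.ResidueField ⊗[B] (nilradical B), z = 0 := by
      intro z
      induction z using TensorProduct.induction_on with
      | zero => rfl
      | tmul c n =>
        have h2 : c ⊗ₜ[B] n = c • ((1 : q.asIdeal.ResidueField) ⊗ₜ[B] n) := by
          rw [TensorProduct.smul_tmul', smul_eq_mul, mul_one]
        rw [h2, hΦ, smul_zero]
      | add a b ha hb => rw [ha, hb, add_zero]
    exact ⟨fun x y => by rw [h0 x, h0 y]⟩
  have hsub : Subsingleton (nilradical B) := by
    rw [← Module.support_eq_empty_iff (R := B)]
    ext q
    simp only [Set.mem_empty_iff_false, iff_false]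
    rw [Module.mem_support_iff_nontrivial_residueField_tensorProduct]
    haveI := hb q
    exact not_nontrivial _
  constructor
  intro x hx
  have h3 : (⟨x, mem_nilradical.mpr hx⟩ : nilradical B) = 0 := Subsingleton.elim _ _
  exact congrArg Subtype.val h3

end Groth.Agent.S14035
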