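import Groth.Statements.S14039
-- import your own Groth.Agent.* helpers here
import Mathlib

set_option autoImplicit false
open W4c1frobunstiva

namespace Groth.Agent.S14039

open PowerSeries

noncomputable def S (p : ℕ) : Finset (Fin p) := Finset.univ.filter (fun e : Fin p => 1 ≤ (e : ℕ))

noncomputable def g (p : ℕ) : ℤ⟦X⟧ := ∑ e ∈ S p, (X : ℤ⟦X⟧) ^ (e : ℕ)

lemma g_mul (p : ℕ) : g p * (1 - X) = X * (1 - X ^ (p - 1)) := by
  unfold g S
  rw [Finset.sum_filter]
  rw [Fin.sum_univ_eq_sum_range (fun i => if 1 ≤ i then (X : ℤ⟦X⟧) ^ i else 0) p]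
  cases p with
  | zero => simp
  | succ q =>
    rw [Finset.sum_range_succ']
    simp only [Nat.add_sub_cancel]
    have h1 : ∀ i ∈ Finset.range q,
        (if 1 ≤ i + 1 then (X : ℤ⟦X⟧) ^ (i + 1) else 0) = X * X ^ i := by
      intro i _; rw [if_pos (Nat.le_add_left 1 i), pow_succ']
    rw [Finset.sum_congr rfl h1, ← Finset.mul_sum]
    simp only [show ¬ (1 ≤ 0) by omega, if_false, add_zero]
    rw [mul_assoc, mul_comm _ (1 - X), mul_neg_geom_sum]

lemma coeff_gpow (p n s : ℕ) (hn : 1 ≤ n) :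
    coeff s ((g p) ^ n) = ∑ i ∈ Finset.range (n + 1), (-1 : ℤ) ^ i * (n.choose i : ℤ) *
      (if i * (p - 1) + n ≤ s then (((s - i * (p - 1) - 1).choose (n - 1) : ℕ) : ℤ) else 0) := by
  obtain ⟨d, rfl⟩ : ∃ d, n = d + 1 := ⟨n - 1, by omega⟩
  have h1 : (g p) ^ (d + 1) =
      X ^ (d + 1) * (1 - X ^ (p - 1)) ^ (d + 1) * (mk 1 : ℤ⟦X⟧) ^ (d + 1) := by
    have h2 : (g p) ^ (d + 1) * (1 - X) ^ (d + 1) = X ^ (d + 1) * (1 - X ^ (p - 1)) ^ (d + 1) := by
      rw [← mul_pow, g_mul, mul_pow]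
    have h3 : (1 - X : ℤ⟦X⟧) ^ (d + 1) * (mk 1 : ℤ⟦X⟧) ^ (d + 1) = 1 := by
      rw [← mul_pow, mul_comm, PowerSeries.mk_one_mul_one_sub_eq_one, one_pow]
    calc (g p) ^ (d + 1) = (g p) ^ (d + 1) * ((1 - X) ^ (d + 1) * (mk 1) ^ (d + 1)) := by
          rw [h3, mul_one]
      _ = _ := by rw [← mul_assoc, h2]
  rw [h1, PowerSeries.mk_one_pow_eq_mk_choose_add]
  have h4 : (1 - (X : ℤ⟦X⟧) ^ (p - 1)) ^ (d + 1) = ∑ i ∈ Finset.range (d + 1 + 1),
      (-1 : ℤ⟦X⟧) ^ i * X ^ ((p - 1) * i) * ((d + 1).choose i : ℤ⟦X⟧) := by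
    rw [sub_eq_neg_add, add_pow]
    refine Finset.sum_congr rfl fun i _ => ?_
    rw [one_pow, mul_one, neg_pow, ← pow_mul]
  rw [h4, Finset.mul_sum, Finset.sum_mul, map_sum]
  refine Finset.sum_congr rfl fun i _ => ?_
  have h5 : X ^ (d + 1) * ((-1 : ℤ⟦X⟧) ^ i * X ^ ((p - 1) * i) * ((d + 1).choose i : ℤ⟦X⟧)) *
      (mk fun m => (((d + m).choose d : ℕ) : ℤ)) =
      (C (((-1 : ℤ) ^ i * ((d + 1).choose i : ℤ)))) *
        (X ^ (i * (p - 1) + (d + 1)) * mk fun m => (((d + m).choose d : ℕ) : ℤ)) := by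
    rw [pow_add, map_mul, map_pow, map_neg, map_one, map_natCast, mul_comm i (p - 1)]
    ring
  rw [h5, PowerSeries.coeff_C_mul, PowerSeries.coeff_X_pow_mul', PowerSeries.coeff_mk]
  congr 1
  split_ifs with h
  · congr 2
    generalize i * (p - 1) = t at h ⊢
    omega
  · rfl

lemma card_eq_coeff (p n s : ℕ) :
    (Fintype.card {e : Fin n → Fin p // (∀ i, 1 ≤ (e i : ℕ)) ∧ ∑ i, (e i : ℕ) = s} : ℤ) =
      coeff s ((g p) ^ n) := by
  classical
  have h1 : (g p) ^ n = ∑ f ∈ Fintype.piFinset (fun _ : Fin n => S p),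
      (X : ℤ⟦X⟧) ^ (∑ i, (f i : ℕ)) := by
    have h0 : (g p) ^ n = ∏ _i : Fin n, g p := by
      rw [Finset.prod_const, Finset.card_univ, Fintype.card_fin]
    rw [h0]
    unfold g
    rw [Finset.prod_univ_sum]
    refine Finset.sum_congr rfl fun f _ => ?_
    rw [Finset.prod_pow_eq_pow_sum]
  have hset : (Finset.univ.filter fun e : Fin n → Fin p =>
      (∀ i, 1 ≤ (e i : ℕ)) ∧ ∑ i, (e i : ℕ) = s) =
      (Fintype.piFinset (fun _ : Fin n => S p)).filter (fun f => s = ∑ i, (f i : ℕ)) := by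
    ext f
    simp only [Finset.mem_filter, Fintype.mem_piFinset, S, Finset.mem_univ, true_and]
    constructor
    · rintro ⟨h1, h2⟩; exact ⟨h1, h2.symm⟩
    · rintro ⟨h1, h2⟩; exact ⟨h1, h2.symm⟩
  rw [h1, map_sum]
  simp only [coeff_X_pow]
  rw [Finset.sum_boole, Fintype.card_subtype, hset]

/-- For natural numbers p, n ≥ 1 and s, the number of monomials of degree s in n variables in which
every variable occurs with a positive exponent strictly less than p — that is, of exponent vectors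
(e_1, …, e_n) with sum s and 1 ≤ e_i ≤ p − 1 — equals the inclusion–exclusion sum over i from 0 to n
of (−1)^i · C(n, i) · C(s − i(p − 1) − 1, n − 1), the last factor counting monomials of degree s −
i(p − 1) − n in n variables and read as 0 when s < i(p − 1) + n. (A companion count, by how many
exponents lie below p/2, and a remark on polynomiality in s and p are not part of this row.) -/
theorem result (p n s : ℕ)
    (hn : 1 ≤ n) :
    (Fintype.card {e : Fin n → Fin p // (∀ i, 1 ≤ (e i : ℕ)) ∧ ∑ i, (e i : ℕ) = s} : ℤ) =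
      ∑ i ∈ Finset.range (n + 1),
        (-1 : ℤ) ^ i * (n.choose i : ℤ) *
          (if i * (p - 1) + n ≤ s then (((s - i * (p - 1) - 1).choose (n - 1) : ℕ) : ℤ) else 0) := by
  rw [card_eq_coeff, coeff_gpow p n s hn]

end Groth.Agent.S14039
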