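import Groth.Statements.S14043
-- import your own Groth.Agent.* helpers here
import Mathlib

set_option autoImplicit false
universe u v
open W4c1frobunstiva

namespace Groth.Agent.S14043


theorem exists_matrix_of_span {R M : Type*} [CommRing R] [AddCommGroup M] [Module R M] {r : ℕ}
    (x y : Fin r → M) (hx : Submodule.span R (Set.range x) = ⊤) :
    ∃ P : Matrix (Fin r) (Fin r) R, ∀ j, y j = ∑ i, P j i • x i := by
  have : ∀ j, ∃ c : Fin r → R, ∑ i, c i • x i = y j := fun j =>
    (Submodule.mem_span_range_iff_exists_fun R).mp (by rw [hx]; trivial)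
  choose c hc using this
  exact ⟨Matrix.of c, fun j => (hc j).symm⟩

theorem comp_matrix {R M : Type*} [CommRing R] [AddCommGroup M] [Module R M] {r : ℕ}
    (x y z : Fin r → M) (P Q : Matrix (Fin r) (Fin r) R)
    (h1 : ∀ j, z j = ∑ i, P j i • y i) (h2 : ∀ i, y i = ∑ k, Q i k • x k) :
    ∀ j, z j = ∑ k, (P * Q) j k • x k := by
  intro j
  rw [h1 j]
  simp only [h2, Finset.smul_sum, smul_smul, Matrix.mul_apply, Finset.sum_smul]
  rw [Finset.sum_comm]

theorem isUnit_of_nr {R M : Type*} [CommRing R] [AddCommGroup M] [Module R M] {r : ℕ}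
    (e : Fin r → M)
    (he : ∀ a : Fin r → R, (∑ i, a i • e i) = 0 → ∀ i, IsNilpotent (a i))
    (T : Matrix (Fin r) (Fin r) R) (hT : ∀ j, e j = ∑ k, T j k • e k) : IsUnit T := by
  have hn : ∀ j k, IsNilpotent ((T - 1) j k) := by
    intro j k
    apply he (fun k => (T - 1) j k)
    simp only [Matrix.sub_apply, sub_smul, Finset.sum_sub_distrib, ← hT j]
    simp [Matrix.one_apply, ite_smul]
  rw [Matrix.isUnit_iff_isUnit_det]
  have hdet : IsNilpotent (T.det - 1) := by
    rw [← mem_nilradical, ← Ideal.Quotient.eq_zero_iff_mem, map_sub, map_one, RingHom.map_det]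
    have : (Ideal.Quotient.mk (nilradical R)).mapMatrix T = 1 := by
      ext j k
      simp only [RingHom.mapMatrix_apply, Matrix.map_apply]
      have := hn j k
      rw [← mem_nilradical, ← Ideal.Quotient.eq_zero_iff_mem, Matrix.sub_apply, map_sub,
        sub_eq_zero] at this
      rw [this]
      by_cases hjk : j = k <;> simp [Matrix.one_apply, hjk]
    rw [this, Matrix.det_one, sub_self]
  have := hdet.isUnit_add_one
  simpa using this

/-- Let R be a commutative Noetherian ring, M an R-module that is NR-free of rank r — generated by some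
r elements all of whose linear relations have nilpotent coefficients — and m, m' two generating
families of M, each indexed by the same finite set of size r. Then some invertible r × r matrix T
over R expresses m' in terms of m, m'_j = Σ_i T_{ji} m_i; reducing modulo the nilradical n, such a T
induces the change-of-basis matrix between the bases of M/nM given by the images of m and m' (an
r-element generating family of M is itself an NR-basis), so only the existence of an invertible T is
asserted here. (T is not unique.) -/
theorem result (R : Type u) [CommRing R]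
    [IsNoetherianRing R] (M : Type v) [AddCommGroup M] [Module R M] (r : ℕ)
    (hM : W4c1frobunstiva.IsNRFree R M r) (m m' : Fin r → M)
    (hm : Submodule.span R (Set.range m) = ⊤) (hm' : Submodule.span R (Set.range m') = ⊤) :
    ∃ T : Matrix (Fin r) (Fin r) R, IsUnit T ∧ ∀ j, m' j = ∑ i, T j i • m i := by
  obtain ⟨e, hespan, henr⟩ := hM
  obtain ⟨P, hP⟩ := exists_matrix_of_span m e hm
  obtain ⟨Q, hQ⟩ := exists_matrix_of_span e m hespan
  obtain ⟨P', hP'⟩ := exists_matrix_of_span m' e hm'
  obtain ⟨Q', hQ'⟩ := exists_matrix_of_span e m' hespan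
  have hPQ : IsUnit (P * Q) := isUnit_of_nr e henr (P * Q) (comp_matrix e m e P Q hP hQ)
  have hP'Q' : IsUnit (P' * Q') :=
    isUnit_of_nr e henr (P' * Q') (comp_matrix e m' e P' Q' hP' hQ')
  have hPu : IsUnit P := by
    rw [Matrix.isUnit_iff_isUnit_det] at hPQ ⊢
    rw [Matrix.det_mul] at hPQ
    exact isUnit_of_mul_isUnit_left hPQ
  have hQ'u : IsUnit Q' := by
    rw [Matrix.isUnit_iff_isUnit_det] at hP'Q' ⊢
    rw [Matrix.det_mul] at hP'Q'
    exact isUnit_of_mul_isUnit_right hP'Q'
  exact ⟨Q' * P, hQ'u.mul hPu, comp_matrix m e m' Q' P hQ' hP⟩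

end Groth.Agent.S14043
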