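import Groth.Statements.S14046
-- import your own Groth.Agent.* helpers here
import Mathlib

set_option autoImplicit false
universe u v w
open W4c1frobunstiva

namespace Groth.Agent.S14046

open TensorProduct

open TensorProduct in
/-- Let R → A be a homomorphism of commutative rings and I, J ideals of A with I ∩ J = 0 — so that A is
the fibre product of A/I and A/J over A/(I + J), i.e. Spec A is the union of the two closed
subschemes in the strong sense — and suppose A/(I + J) is flat over R. Then this persists under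
every base change: for every commutative R-algebra R', the ideals generated by I and J in R' ⊗_R A
again meet in 0. (This is the ideal-theoretic, affine form of the base-change step; the exact
sequence of unit sheaves deduced from it in the published statement — restriction of units to a
closed subscheme being surjective locally — is not restated. Without flatness of A/(I + J) the
conclusion fails: for A = k[x, y]/(xy) over R = k[u] with u ↦ x + y, I = (x) and J = (y), the base
change to R/(u) gives k[x]/(x²), in which both ideals become (x).) -/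
theorem result (R : Type u) (A : Type v)
    [CommRing R] [CommRing A] [Algebra R A] (I J : Ideal A) (hIJ : I ⊓ J = ⊥)
    [Module.Flat R (A ⧸ (I ⊔ J))] (R' : Type w) [CommRing R'] [Algebra R R'] :
    I.map (Algebra.TensorProduct.includeRight : A →ₐ[R] R' ⊗[R] A) ⊓
      J.map (Algebra.TensorProduct.includeRight : A →ₐ[R] R' ⊗[R] A) = ⊥ := by
  classical
  let qI : A →ₐ[R] A ⧸ I := Ideal.Quotient.mkₐ R I
  let qJ : A →ₐ[R] A ⧸ J := Ideal.Quotient.mkₐ R J
  let fI : A ⧸ I →ₐ[R] A ⧸ (I ⊔ J) := Ideal.Quotient.factorₐ R le_sup_left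
  let fJ : A ⧸ J →ₐ[R] A ⧸ (I ⊔ J) := Ideal.Quotient.factorₐ R le_sup_right
  let g : A →ₗ[R] (A ⧸ I) × (A ⧸ J) := qI.toLinearMap.prod qJ.toLinearMap
  let f : (A ⧸ I) × (A ⧸ J) →ₗ[R] A ⧸ (I ⊔ J) :=
    fI.toLinearMap.comp (LinearMap.fst R _ _) - fJ.toLinearMap.comp (LinearMap.snd R _ _)
  have hfapp : ∀ a b : A, f (qI a, qJ b) = Ideal.Quotient.mk (I ⊔ J) (a - b) := by
    intro a b
    rw [map_sub]
    rfl
  have hg : Function.Injective g := by
    rw [← LinearMap.ker_eq_bot, LinearMap.ker_eq_bot']
    intro a ha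
    have h1 : qI a = 0 := congrArg Prod.fst ha
    have h2 : qJ a = 0 := congrArg Prod.snd ha
    have h3 : a ∈ I ⊓ J :=
      ⟨Ideal.Quotient.eq_zero_iff_mem.mp h1, Ideal.Quotient.eq_zero_iff_mem.mp h2⟩
    rw [hIJ] at h3
    exact h3
  have hf : Function.Surjective f := by
    intro y
    obtain ⟨a, rfl⟩ := Ideal.Quotient.mk_surjective y
    refine ⟨(qI a, qJ 0), ?_⟩
    rw [hfapp, sub_zero]
  have hex : Function.Exact g f := by
    rintro ⟨y1, y2⟩
    obtain ⟨a, rfl⟩ := Ideal.Quotient.mk_surjective y1
    obtain ⟨b, rfl⟩ := Ideal.Quotient.mk_surjective y2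
    constructor
    · intro h
      have h0 : f (qI a, qJ b) = 0 := h
      rw [hfapp, Ideal.Quotient.eq_zero_iff_mem] at h0
      obtain ⟨i, hi, j, hj, hij⟩ := Submodule.mem_sup.mp h0
      refine ⟨a - i, ?_⟩
      refine Prod.ext ?_ ?_
      · show Ideal.Quotient.mk I (a - i) = Ideal.Quotient.mk I a
        rw [Ideal.Quotient.eq]
        have : a - i - a = -i := by ring
        rw [this]
        exact I.neg_mem hi
      · show Ideal.Quotient.mk J (a - i) = Ideal.Quotient.mk J b
        rw [Ideal.Quotient.eq]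
        have : a - i - b = j := by linear_combination -hij
        rw [this]
        exact hj
    · rintro ⟨c, hc⟩
      have h1 : Ideal.Quotient.mk I c = Ideal.Quotient.mk I a := congrArg Prod.fst hc
      have h2 : Ideal.Quotient.mk J c = Ideal.Quotient.mk J b := congrArg Prod.snd hc
      show f (qI a, qJ b) = 0
      rw [hfapp, Ideal.Quotient.eq_zero_iff_mem]
      rw [Ideal.Quotient.eq] at h1 h2
      have : a - b = -(c - a) + (c - b) := by ring
      rw [this]
      exact Submodule.add_mem_sup (I.neg_mem h1) h2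
  have hinj := LinearMap.lTensor_injective_of_exact_of_flat f hf g hg hex R'
  let φI : R' ⊗[R] A →ₐ[R] R' ⊗[R] (A ⧸ I) := Algebra.TensorProduct.map (AlgHom.id R R') qI
  let φJ : R' ⊗[R] A →ₐ[R] R' ⊗[R] (A ⧸ J) := Algebra.TensorProduct.map (AlgHom.id R R') qJ
  have key : ∀ z : R' ⊗[R] A,
      TensorProduct.prodRight R R R' (A ⧸ I) (A ⧸ J) (g.lTensor R' z) = (φI z, φJ z) := by
    intro z
    induction z using TensorProduct.induction_on with
    | zero =>
      simp only [map_zero]
      rfl
    | tmul r a =>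
      rw [LinearMap.lTensor_tmul, TensorProduct.prodRight_tmul]
      rfl
    | add x y hx hy => simp only [map_add, hx, hy, Prod.mk_add_mk]
  have hI : I.map (Algebra.TensorProduct.includeRight : A →ₐ[R] R' ⊗[R] A) ≤ RingHom.ker φI := by
    rw [Ideal.map_le_iff_le_comap]
    intro i hi
    rw [Ideal.mem_comap, RingHom.mem_ker]
    show φI ((1 : R') ⊗ₜ[R] i) = 0
    show (AlgHom.id R R' 1) ⊗ₜ[R] (qI i) = 0
    have : qI i = 0 := Ideal.Quotient.eq_zero_iff_mem.mpr hi
    rw [this, TensorProduct.tmul_zero]
  have hJ : J.map (Algebra.TensorProduct.includeRight : A →ₐ[R] R' ⊗[R] A) ≤ RingHom.ker φJ := by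
    rw [Ideal.map_le_iff_le_comap]
    intro i hi
    rw [Ideal.mem_comap, RingHom.mem_ker]
    show φJ ((1 : R') ⊗ₜ[R] i) = 0
    show (AlgHom.id R R' 1) ⊗ₜ[R] (qJ i) = 0
    have : qJ i = 0 := Ideal.Quotient.eq_zero_iff_mem.mpr hi
    rw [this, TensorProduct.tmul_zero]
  rw [eq_bot_iff]
  rintro z ⟨hzI, hzJ⟩
  rw [Ideal.mem_bot]
  apply hinj
  rw [map_zero]
  apply (TensorProduct.prodRight R R R' (A ⧸ I) (A ⧸ J)).injective
  rw [map_zero, key]
  have h1 : φI z = 0 := hI hzI
  have h2 : φJ z = 0 := hJ hzJ
  rw [h1, h2]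
  rfl

end Groth.Agent.S14046
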