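import Groth.Statements.S14053
-- import your own Groth.Agent.* helpers here
import Mathlib

set_option autoImplicit false
universe u
open CAlg

namespace Groth.Agent.S14053


section
variable {k : Type u} [Field k] {R : Type u} [CommRing R] [Algebra k R]
  (ℛ : ℕ → Submodule k R) [GradedAlgebra ℛ]

private lemma gmul (i j : ℕ) : ℛ i * ℛ j ≤ ℛ (i + j) :=
  Submodule.mul_le.mpr (fun _ hx _ hy => SetLike.mul_mem_graded hx hy)

private lemma gpow (i n : ℕ) : ℛ i ^ n ≤ ℛ (n * i) := by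
  induction n with
  | zero =>
    rw [pow_zero, Nat.zero_mul]
    exact Submodule.one_le.mpr (SetLike.one_mem_graded ℛ)
  | succ n ih =>
    rw [pow_succ, Nat.succ_mul]
    exact (mul_le_mul' ih le_rfl).trans (gmul ℛ _ _)

private def Mon (a b c : ℕ) : Submodule k R := ℛ 1 ^ a * ℛ 2 ^ b * ℛ 3 ^ c

private lemma Mon_le (a b c : ℕ) : Mon ℛ a b c ≤ ℛ (a + 2 * b + 3 * c) := by
  unfold Mon
  have h1 := gpow ℛ 1 a
  have h2 := gpow ℛ 2 b
  have h3 := gpow ℛ 3 c
  have h4 := mul_le_mul' (mul_le_mul' h1 h2) h3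
  refine h4.trans (((mul_le_mul' (gmul ℛ _ _) le_rfl).trans (gmul ℛ _ _)).trans ?_)
  exact (congrArg ℛ (by ring)).le

private lemma Mon_split (a1 b1 c1 a2 b2 c2 : ℕ) (h : a1 + 2 * b1 + 3 * c1 = 6) :
    Mon ℛ (a1 + a2) (b1 + b2) (c1 + c2) ≤ ℛ 6 * ℛ (a2 + 2 * b2 + 3 * c2) := by
  have e : Mon ℛ (a1 + a2) (b1 + b2) (c1 + c2) = Mon ℛ a1 b1 c1 * Mon ℛ a2 b2 c2 := by
    unfold Mon
    ring
  rw [e]
  exact mul_le_mul' ((Mon_le ℛ a1 b1 c1).trans (congrArg ℛ h).le) (Mon_le ℛ a2 b2 c2)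

private lemma Mon_big (a b c N : ℕ) (h : a + 2 * b + 3 * c = N) (hN : 12 ≤ N) :
    Mon ℛ a b c ≤ ℛ 6 * ℛ (N - 6) := by
  by_cases ha : 6 ≤ a
  · obtain ⟨a2, rfl⟩ := Nat.exists_eq_add_of_le ha
    have h1 := Mon_split ℛ 6 0 0 a2 b c rfl
    rw [Nat.zero_add, Nat.zero_add] at h1
    exact h1.trans (mul_le_mul' le_rfl (congrArg ℛ (by omega)).le)
  by_cases hb : 3 ≤ b
  · obtain ⟨b2, rfl⟩ := Nat.exists_eq_add_of_le hb
    have h1 := Mon_split ℛ 0 3 0 a b2 c rfl
    rw [Nat.zero_add, Nat.zero_add] at h1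
    exact h1.trans (mul_le_mul' le_rfl (congrArg ℛ (by omega)).le)
  by_cases hc : 2 ≤ c
  · obtain ⟨c2, rfl⟩ := Nat.exists_eq_add_of_le hc
    have h1 := Mon_split ℛ 0 0 2 a b c2 rfl
    rw [Nat.zero_add, Nat.zero_add] at h1
    exact h1.trans (mul_le_mul' le_rfl (congrArg ℛ (by omega)).le)
  obtain rfl : a = 5 := by omega
  obtain rfl : b = 2 := by omega
  obtain rfl : c = 1 := by omega
  have h1 := Mon_split ℛ 3 0 1 2 2 0 rfl
  exact h1.trans (mul_le_mul' le_rfl (congrArg ℛ (by omega)).le)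

private lemma key
    (hgen : Algebra.adjoin k ((ℛ 1 : Set R) ∪ (ℛ 2 : Set R) ∪ (ℛ 3 : Set R)) = ⊤)
    (N : ℕ) (hN : 12 ≤ N) : ℛ N ≤ ℛ 6 * ℛ (N - 6) := by
  classical
  let Mon' : ℕ × ℕ × ℕ → Submodule k R := fun t => Mon ℛ t.1 t.2.1 t.2.2
  let W : Submodule k R := ⨆ t, Mon' t
  have hmul : ∀ x y, x ∈ W → y ∈ W → x * y ∈ W := by
    intro x y hx hy
    have h1 : W * W ≤ W := by
      change (⨆ t, Mon' t) * (⨆ t, Mon' t) ≤ W
      rw [Submodule.iSup_mul]
      refine iSup_le fun t => ?_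
      rw [Submodule.mul_iSup]
      refine iSup_le fun t' => ?_
      have e : Mon' t * Mon' t' = Mon' (t + t') := by
        change Mon ℛ _ _ _ * Mon ℛ _ _ _ = Mon ℛ _ _ _
        unfold Mon
        simp only [Prod.fst_add, Prod.snd_add]
        ring
      rw [e]
      exact le_iSup Mon' (t + t')
    exact h1 (Submodule.mul_mem_mul hx hy)
  have hone : (1 : R) ∈ W := by
    have e : Mon' (0, 0, 0) = 1 := by
      change Mon ℛ 0 0 0 = 1
      unfold Mon
      simp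
    have h1 : (1 : R) ∈ Mon' (0, 0, 0) := by
      rw [e]
      exact Submodule.one_le.mp le_rfl
    exact (le_iSup Mon' (0, 0, 0)) h1
  have hS : (ℛ 1 : Set R) ∪ (ℛ 2 : Set R) ∪ (ℛ 3 : Set R) ⊆
      (Submodule.toSubalgebra W hone hmul : Set R) := by
    rintro x ((hx | hx) | hx)
    · have e : Mon' (1, 0, 0) = ℛ 1 := by
        change Mon ℛ 1 0 0 = ℛ 1
        unfold Mon
        simp
      exact (le_iSup Mon' (1, 0, 0)) (by rw [e]; exact hx)
    · have e : Mon' (0, 1, 0) = ℛ 2 := by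
        change Mon ℛ 0 1 0 = ℛ 2
        unfold Mon
        simp
      exact (le_iSup Mon' (0, 1, 0)) (by rw [e]; exact hx)
    · have e : Mon' (0, 0, 1) = ℛ 3 := by
        change Mon ℛ 0 0 1 = ℛ 3
        unfold Mon
        simp
      exact (le_iSup Mon' (0, 0, 1)) (by rw [e]; exact hx)
  have htop : ∀ x : R, x ∈ W := by
    intro x
    have h1 : x ∈ Algebra.adjoin k ((ℛ 1 : Set R) ∪ (ℛ 2 : Set R) ∪ (ℛ 3 : Set R)) := by
      rw [hgen]
      exact Algebra.mem_top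
    exact Algebra.adjoin_le hS h1
  intro x hx
  obtain ⟨f, hf, hsum⟩ := (Submodule.mem_iSup_iff_exists_finsupp Mon' x).mp (htop x)
  have hx' : GradedRing.proj ℛ N x = x := by
    rw [GradedRing.proj_apply]
    exact DirectSum.decompose_of_mem_same ℛ hx
  have hx2 : x = ∑ t ∈ f.support, GradedRing.proj ℛ N (f t) := by
    rw [← map_sum]
    have h2 : ∑ t ∈ f.support, f t = x := hsum
    rw [h2, hx']
  rw [hx2]
  refine Submodule.sum_mem _ fun t _ => ?_
  have hft : f t ∈ ℛ (t.1 + 2 * t.2.1 + 3 * t.2.2) := Mon_le ℛ _ _ _ (hf t)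
  by_cases hd : t.1 + 2 * t.2.1 + 3 * t.2.2 = N
  · have h3 : GradedRing.proj ℛ N (f t) = f t := by
      rw [GradedRing.proj_apply]
      exact DirectSum.decompose_of_mem_same ℛ (hd ▸ hft)
    rw [h3]
    exact Mon_big ℛ _ _ _ N hd hN (hf t)
  · have h3 : GradedRing.proj ℛ N (f t) = 0 := by
      rw [GradedRing.proj_apply]
      exact DirectSum.decompose_of_mem_ne ℛ hft hd
    rw [h3]
    exact Submodule.zero_mem _

end

/-- Let k be a field and R a commutative ℕ-graded k-algebra with R_0 = k · 1 which is generated as a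
k-algebra by R_1, R_2 and R_3, each a finite-dimensional k-vector space, of dimensions d_1, d_2,
d_3. Then for every natural number e ≥ 5 d_1 + 4 d_2 + 3 d_3 the (6e)-th Veronese subring of R is
generated in degree one over k: R_{6em} = (R_{6e})^m for every m > 0. -/
theorem result
    (k : Type u) [Field k] (R : Type u) [CommRing R] [Algebra k R]
    (ℛ : ℕ → Submodule k R) [GradedAlgebra ℛ]
    (h0 : ℛ 0 = 1)
    (hgen : Algebra.adjoin k ((ℛ 1 : Set R) ∪ (ℛ 2 : Set R) ∪ (ℛ 3 : Set R)) = ⊤)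
    [Module.Finite k (ℛ 1)] [Module.Finite k (ℛ 2)] [Module.Finite k (ℛ 3)]
    (e : ℕ) (he : 5 * Module.finrank k (ℛ 1) + 4 * Module.finrank k (ℛ 2) + 3 * Module.finrank k (ℛ 3) ≤ e)
    (m : ℕ) (hm : 0 < m) :
    ℛ (m * (6 * e)) = ℛ (6 * e) ^ m := by
  have hkey := key ℛ hgen
  have L1 : ∀ t n : ℕ, 6 ≤ n → ℛ (n + 6 * t) ≤ ℛ (6 * t) * ℛ n := by
    intro t n hn
    induction t with
    | zero =>
      rw [Nat.mul_zero, Nat.add_zero, h0, one_mul]
    | succ t ih =>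
      have h1 := hkey (n + 6 * (t + 1)) (by omega)
      have e1 : n + 6 * (t + 1) - 6 = n + 6 * t := by omega
      rw [e1] at h1
      refine h1.trans ?_
      refine (mul_le_mul' le_rfl ih).trans ?_
      rw [← mul_assoc]
      exact mul_le_mul' ((gmul ℛ 6 (6 * t)).trans (congrArg ℛ (by ring)).le) le_rfl
  rcases Nat.eq_zero_or_pos e with he0 | he0
  · subst he0
    simp [h0]
  · obtain ⟨m', rfl⟩ : ∃ m', m = m' + 1 := ⟨m - 1, by omega⟩
    clear hm
    induction m' with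
    | zero => simp
    | succ m' ih =>
      apply le_antisymm
      · have h6 : 6 ≤ (m' + 1) * (6 * e) :=
          Nat.le_trans (by omega : 6 ≤ 6 * e) (Nat.le_mul_of_pos_left _ (Nat.succ_pos m'))
        have h2 := L1 e ((m' + 1) * (6 * e)) h6
        have e2 : (m' + 1 + 1) * (6 * e) = (m' + 1) * (6 * e) + 6 * e := by ring
        rw [e2]
        refine h2.trans ?_
        rw [ih, ← pow_succ']
      · exact gpow ℛ (6 * e) (m' + 1 + 1)

end Groth.Agent.S14053
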