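import Groth.Statements.S14612
-- import your own Groth.Agent.* helpers here
import Mathlib

set_option autoImplicit false
universe u
open FlatCx

namespace Groth.Agent.S14612

open CategoryTheory CategoryTheory.Limits

lemma flat_ker_of_flat {A : Type u} [CommRing A] {K N P : Type u} [AddCommGroup K] [Module A K]
    [AddCommGroup N] [Module A N] [AddCommGroup P] [Module A P] [Module.Flat A N] [Module.Flat A P]
    (g : K →ₗ[A] N) (f : N →ₗ[A] P) (hg : Function.Injective g) (hf : Function.Surjective f)
    (H : Function.Exact g f) : Module.Flat A K := by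
  rw [Module.Flat.iff_rTensor_preserves_injective_linearMap]
  intro X Y _ _ _ _ u hu
  have h1 : Function.Injective (g.lTensor X) :=
    LinearMap.lTensor_injective_of_exact_of_flat f hf g hg H X
  have h2 : Function.Injective (u.rTensor N) :=
    Module.Flat.rTensor_preserves_injective_linearMap u hu
  have h3 : (g.lTensor Y) ∘ₗ (u.rTensor K) = (u.rTensor N) ∘ₗ (g.lTensor X) := by
    rw [LinearMap.lTensor_comp_rTensor, LinearMap.rTensor_comp_lTensor]
  apply Function.Injective.of_comp (f := g.lTensor Y)
  rw [← LinearMap.coe_comp, h3, LinearMap.coe_comp]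
  exact h2.comp h1

lemma flat_cycles_ker {A : Type u} [CommRing A] (F : CochainComplex (ModuleCat.{u} A) ℤ)
    (hF : ∀ i, Module.Flat A (F.X i)) (b : ℤ) (hb : ∀ i, b < i → IsZero (F.X i)) (d : ℤ)
    (hac : ∀ p, d < p → IsZero (F.homology p)) :
    ∀ p : ℤ, d ≤ p → Module.Flat A (LinearMap.ker (F.d p (p + 1)).hom) := by
  have hex : ∀ p : ℤ, d ≤ p →
      Function.Exact (F.d p (p + 1)).hom (F.d (p + 1) (p + 1 + 1)).hom := by
    intro p hp
    have h := (HomologicalComplex.exactAt_iff_isZero_homology F (p + 1)).2 (hac (p + 1) (by omega))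
    rw [HomologicalComplex.exactAt_iff' F p (p + 1) (p + 1 + 1) (by simp) (by simp)] at h
    exact (ShortComplex.ShortExact.moduleCat_exact_iff_function_exact _).1 h
  have key : ∀ k : ℕ, ∀ p : ℤ, d ≤ p → b < p + k →
      Module.Flat A (LinearMap.ker (F.d p (p + 1)).hom) := by
    intro k
    induction k with
    | zero =>
      intro p _ hbp
      haveI : Subsingleton (F.X p) := ModuleCat.subsingleton_of_isZero (hb p (by simpa using hbp))
      infer_instance
    | succ k ih =>
      intro p hdp hbp
      haveI : Module.Flat A (LinearMap.ker (F.d (p + 1) (p + 1 + 1)).hom) :=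
        ih (p + 1) (by omega) (by push_cast at hbp ⊢; omega)
      haveI : Module.Flat A (F.X p) := hF p
      have hdd : ∀ x, (F.d p (p + 1)).hom x ∈ LinearMap.ker (F.d (p + 1) (p + 1 + 1)).hom := by
        intro x
        rw [LinearMap.mem_ker]
        have h1 := F.d_comp_d p (p + 1) (p + 1 + 1)
        have h2 := congrArg (fun φ => (ModuleCat.Hom.hom φ) x) h1
        exact h2
      exact flat_ker_of_flat (LinearMap.ker (F.d p (p + 1)).hom).subtype
        ((F.d p (p + 1)).hom.codRestrict _ hdd) (Submodule.subtype_injective _)
        (by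
          rintro ⟨y, hy⟩
          obtain ⟨x, hx⟩ := (hex p hdp y).1 hy
          exact ⟨x, Subtype.ext hx⟩)
        (by
          intro x
          constructor
          · intro hx
            exact ⟨⟨x, congrArg Subtype.val hx⟩, rfl⟩
          · rintro ⟨⟨x, hx⟩, rfl⟩
            exact Subtype.ext hx)
  intro p hp
  exact key (b - p + 1).toNat p hp (by omega)

open CategoryTheory CategoryTheory.Limits in
/-- Let A be a commutative ring and F a cochain complex of flat A-modules which is bounded above (F^i =
0 for all large i) and whose cohomology H^p(F) vanishes for every p > d. Then the module of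
d-cocycles Z^d = ker(F^d → F^{d+1}) is flat over A; hence the truncation τ_{≤ d} F is again a
complex of flat modules (and τ_{≤ d} F → F is a quasi-isomorphism, which is not restated).
Boundedness cannot be dropped. -/
theorem result (A : Type u) [CommRing A]
    (F : CochainComplex (ModuleCat.{u} A) ℤ) (hF : ∀ i, Module.Flat A (F.X i))
    (hb : ∃ b : ℤ, ∀ i, b < i → IsZero (F.X i)) (d : ℤ) (hac : ∀ p, d < p → IsZero (F.homology p)) :
    Module.Flat A (F.cycles d) := by
  obtain ⟨b, hb⟩ := hb
  haveI := flat_cycles_ker F hF b hb d hac d le_rfl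
  have e : F.cycles d ≃ₗ[A] LinearMap.ker (F.d d (d + 1)).hom :=
    (F.cyclesIsoSc' (d - 1) d (d + 1) (by simp) (by simp) ≪≫
      (F.sc' (d - 1) d (d + 1)).moduleCatCyclesIso).toLinearEquiv
  exact Module.Flat.of_linearEquiv e

end Groth.Agent.S14612
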