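import Groth.Statements.S14085
-- import your own Groth.Agent.* helpers here
import Mathlib
import Groth.Agent.S14612

set_option autoImplicit false
universe u
open FlatMor

namespace Groth.Agent.S14085

lemma flat_prod {R : Type u} [CommRing R] {M N : Type u} [AddCommGroup M] [Module R M]
    [AddCommGroup N] [Module R N] [Module.Flat R M] [Module.Flat R N] :
    Module.Flat R (M × N) := by
  rw [Module.Flat.iff_lTensor_preserves_injective_linearMap]
  intro X Y _ _ _ _ u hu
  have h1 : Function.Injective (u.lTensor M) :=
    Module.Flat.lTensor_preserves_injective_linearMap u hu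
  have h2 : Function.Injective (u.lTensor N) :=
    Module.Flat.lTensor_preserves_injective_linearMap u hu
  have hcomm : (TensorProduct.prodLeft R R M N Y).toLinearMap ∘ₗ (u.lTensor (M × N)) =
      ((u.lTensor M).prodMap (u.lTensor N)) ∘ₗ (TensorProduct.prodLeft R R M N X).toLinearMap := by
    apply TensorProduct.ext'
    intro mn x
    obtain ⟨m, n⟩ := mn
    simp [TensorProduct.prodLeft_tmul]
  have hinj : Function.Injective (((u.lTensor M).prodMap (u.lTensor N)) ∘ₗ
      (TensorProduct.prodLeft R R M N X).toLinearMap) := by
    rw [LinearMap.coe_comp]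
    exact (Prod.map_injective.2 ⟨h1, h2⟩).comp (LinearEquiv.injective _)
  rw [← hcomm, LinearMap.coe_comp] at hinj
  exact Function.Injective.of_comp hinj

/-- Let R be a ring, A and B flat R-algebras, I an ideal of A and B → A/I an injective finite flat map
of R-algebras. Then the fibre product ring B ×_{A/I} A, realised as the subalgebra of B × A of pairs
with equal image in A/I, is flat over R. (This is the affine statement behind flatness over the base
of the pushout of a closed immersion along a finite flat morphism.) -/
theorem result (R A B : Type u) [CommRing R] [CommRing A] [CommRing B]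
    [Algebra R A] [Algebra R B] [Module.Flat R A] [Module.Flat R B] (I : Ideal A)
    [Algebra B (A ⧸ I)] [IsScalarTower R B (A ⧸ I)] [Module.Finite B (A ⧸ I)] [Module.Flat B (A ⧸ I)]
    (hinj : Function.Injective (algebraMap B (A ⧸ I))) :
    Module.Flat R ↥(AlgHom.equalizer ((IsScalarTower.toAlgHom R B (A ⧸ I)).comp (AlgHom.fst R B A))
          ((Ideal.Quotient.mkₐ R I).comp (AlgHom.snd R B A))) := by
  haveI : Module.Flat R (A ⧸ I) := Module.Flat.trans R B (A ⧸ I)
  haveI : Module.Flat R (B × A) := flat_prod
  let f : (B × A) →ₐ[R] (A ⧸ I) := (IsScalarTower.toAlgHom R B (A ⧸ I)).comp (AlgHom.fst R B A)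
  let g : (B × A) →ₐ[R] (A ⧸ I) := (Ideal.Quotient.mkₐ R I).comp (AlgHom.snd R B A)
  let h : (B × A) →ₗ[R] (A ⧸ I) := f.toLinearMap - g.toLinearMap
  have hsurj : Function.Surjective h := by
    intro c
    obtain ⟨a, rfl⟩ := Ideal.Quotient.mk_surjective c
    refine ⟨(0, -a), ?_⟩
    simp [h, f, g]
  have hflat : Module.Flat R ↥(LinearMap.ker h) :=
    Groth.Agent.S14612.flat_ker_of_flat (LinearMap.ker h).subtype h
      (Submodule.subtype_injective _) hsurj (LinearMap.exact_subtype_ker_map h)
  have heq : Subalgebra.toSubmodule (AlgHom.equalizer f g) = LinearMap.ker h := by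
    ext x
    simp only [Subalgebra.mem_toSubmodule, AlgHom.mem_equalizer, LinearMap.mem_ker, h,
      LinearMap.sub_apply, AlgHom.toLinearMap_apply, sub_eq_zero]
  have e : ↥(Subalgebra.toSubmodule (AlgHom.equalizer f g)) ≃ₗ[R] ↥(LinearMap.ker h) :=
    LinearEquiv.ofEq _ _ heq
  exact Module.Flat.of_linearEquiv e

end Groth.Agent.S14085
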