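import Groth.Statements.S14086
-- import your own Groth.Agent.* helpers here
import Mathlib

set_option autoImplicit false
universe u
open FlatMor

namespace Groth.Agent.S14086

open TensorProduct

lemma map_id_eq_lTensor {R R' X Y : Type u} [CommRing R] [CommRing R'] [Algebra R R']
    [CommRing X] [Algebra R X] [CommRing Y] [Algebra R Y] (φ : X →ₐ[R] Y) (x : R' ⊗[R] X) :
    Algebra.TensorProduct.map (AlgHom.id R' R') φ x = LinearMap.lTensor R' φ.toLinearMap x := by
  induction x using TensorProduct.induction_on with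
  | zero => simp
  | tmul a b => simp
  | add a b ha hb => rw [map_add, map_add, ha, hb]

lemma ff_of_finite_flat_injective (B S : Type u) [CommRing B] [CommRing S] [Algebra B S]
    [Module.Finite B S] [Module.Flat B S] (hinj : Function.Injective (algebraMap B S)) :
    Module.FaithfullyFlat B S := by
  haveI : Algebra.IsIntegral B S := Algebra.IsIntegral.of_finite B S
  apply Module.FaithfullyFlat.of_comap_surjective
  intro P
  obtain ⟨Q, _, hQ1, hQ2⟩ := Ideal.exists_ideal_over_prime_of_isIntegral P.asIdeal (⊥ : Ideal S)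
    (by
      rw [← RingHom.ker_eq_comap_bot, (RingHom.injective_iff_ker_eq_bot _).1 hinj]
      exact bot_le)
  exact ⟨⟨Q, hQ1⟩, PrimeSpectrum.ext hQ2⟩

lemma pure_of_ff (R B S R' : Type u) [CommRing R] [CommRing B] [CommRing S] [CommRing R']
    [Algebra R B] [Algebra R S] [Algebra B S] [IsScalarTower R B S] [Algebra R R']
    [Module.FaithfullyFlat B S] :
    Function.Injective (LinearMap.lTensor R' (IsScalarTower.toAlgHom R B S).toLinearMap) := by
  rw [LinearMap.lTensor_inj_iff_rTensor_inj]
  have key : ∀ x : B ⊗[R] R',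
      TensorProduct.AlgebraTensorModule.cancelBaseChange R B B S R'
        (TensorProduct.mk B S (B ⊗[R] R') 1 x) =
      LinearMap.rTensor R' (IsScalarTower.toAlgHom R B S).toLinearMap x := by
    intro x
    induction x using TensorProduct.induction_on with
    | zero => simp
    | tmul b r =>
      rw [TensorProduct.mk_apply, TensorProduct.AlgebraTensorModule.cancelBaseChange_tmul,
        LinearMap.rTensor_tmul, Algebra.smul_def, mul_one]
      rfl
    | add a b ha hb => rw [map_add, map_add, map_add, ha, hb]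
  intro x x' hxx'
  rw [← key, ← key] at hxx'
  exact Module.FaithfullyFlat.tensorProduct_mk_injective (A := B) (B := S) (B ⊗[R] R')
    ((LinearEquiv.injective _) hxx')

/-- Let R be a ring, A and B flat R-algebras, I an ideal of A, B → A/I an injective finite flat map of
R-algebras and P = B ×_{A/I} A the fibre product ring (pairs in B × A with equal image in A/I). For
any R-algebra R' the base change R' ⊗_R P maps injectively to R' ⊗_R A, and any b' in R' ⊗_R B and
a' in R' ⊗_R A with the same image in R' ⊗_R (A/I) are the two components of some element of R' ⊗_R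
P; that is, R' ⊗_R P is the fibre product of R' ⊗_R B and R' ⊗_R A over R' ⊗_R (A/I). -/
theorem result (R A B R' : Type u) [CommRing R] [CommRing A]
    [CommRing B] [CommRing R'] [Algebra R A] [Algebra R B] [Algebra R R'] [Module.Flat R A] [Module.Flat R B]
    (I : Ideal A) [Algebra B (A ⧸ I)] [IsScalarTower R B (A ⧸ I)] [Module.Finite B (A ⧸ I)] [Module.Flat B (A ⧸ I)]
    (hinj : Function.Injective (algebraMap B (A ⧸ I))) :
    Function.Injective (Algebra.TensorProduct.map (AlgHom.id R' R')
        ((AlgHom.snd R B A).comp (AlgHom.equalizer ((IsScalarTower.toAlgHom R B (A ⧸ I)).comp (AlgHom.fst R B A))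
          ((Ideal.Quotient.mkₐ R I).comp (AlgHom.snd R B A))).val)) ∧
    ∀ (b : TensorProduct R R' B) (a : TensorProduct R R' A),
      Algebra.TensorProduct.map (AlgHom.id R' R') (IsScalarTower.toAlgHom R B (A ⧸ I)) b =
        Algebra.TensorProduct.map (AlgHom.id R' R') (Ideal.Quotient.mkₐ R I) a →
      ∃ x : TensorProduct R R' ↥(AlgHom.equalizer ((IsScalarTower.toAlgHom R B (A ⧸ I)).comp (AlgHom.fst R B A))
          ((Ideal.Quotient.mkₐ R I).comp (AlgHom.snd R B A))),
        Algebra.TensorProduct.map (AlgHom.id R' R') ((AlgHom.fst R B A).comp (AlgHom.equalizer ((IsScalarTower.toAlgHom R B (A ⧸ I)).comp (AlgHom.fst R B A))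
          ((Ideal.Quotient.mkₐ R I).comp (AlgHom.snd R B A))).val) x = b ∧
        Algebra.TensorProduct.map (AlgHom.id R' R') ((AlgHom.snd R B A).comp (AlgHom.equalizer ((IsScalarTower.toAlgHom R B (A ⧸ I)).comp (AlgHom.fst R B A))
          ((Ideal.Quotient.mkₐ R I).comp (AlgHom.snd R B A))).val) x = a := by
  classical
  haveI : Module.Flat R (A ⧸ I) := Module.Flat.trans R B (A ⧸ I)
  haveI : Module.FaithfullyFlat B (A ⧸ I) := ff_of_finite_flat_injective B (A ⧸ I) hinj
  have hβ : Function.Injective
      (LinearMap.lTensor R' (IsScalarTower.toAlgHom R B (A ⧸ I)).toLinearMap) :=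
    pure_of_ff R B (A ⧸ I) R'
  generalize hfE : (IsScalarTower.toAlgHom R B (A ⧸ I)).comp (AlgHom.fst R B A) = fE
  generalize hgE : (Ideal.Quotient.mkₐ R I).comp (AlgHom.snd R B A) = gE
  have hq : Function.Surjective (fE.toLinearMap - gE.toLinearMap) := by
    intro c
    obtain ⟨a, rfl⟩ := Ideal.Quotient.mk_surjective c
    refine ⟨(0, -a), ?_⟩
    simp [← hfE, ← hgE]
  have hj : Function.Injective (AlgHom.equalizer fE gE).val.toLinearMap := Subtype.val_injective
  have hex : Function.Exact (AlgHom.equalizer fE gE).val.toLinearMap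
      (fE.toLinearMap - gE.toLinearMap) := by
    intro y
    constructor
    · intro hy
      have h1 : fE y = gE y := sub_eq_zero.1 hy
      exact ⟨⟨y, h1⟩, rfl⟩
    · rintro ⟨x, rfl⟩
      exact sub_eq_zero.2 ((AlgHom.mem_equalizer fE gE _).1 x.2)
  have hex2 := lTensor_exact R' hex hq
  have hjinj : Function.Injective (LinearMap.lTensor R' (AlgHom.equalizer fE gE).val.toLinearMap) :=
    LinearMap.lTensor_injective_of_exact_of_flat _ hq _ hj hex R'
  have c1 : (LinearMap.fst R B A) ∘ₗ (AlgHom.equalizer fE gE).val.toLinearMap =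
      ((AlgHom.fst R B A).comp (AlgHom.equalizer fE gE).val).toLinearMap := rfl
  have c2 : (LinearMap.snd R B A) ∘ₗ (AlgHom.equalizer fE gE).val.toLinearMap =
      ((AlgHom.snd R B A).comp (AlgHom.equalizer fE gE).val).toLinearMap := rfl
  have c3 : (IsScalarTower.toAlgHom R B (A ⧸ I)).toLinearMap ∘ₗ ((LinearMap.fst R B A) ∘ₗ
      (AlgHom.equalizer fE gE).val.toLinearMap) =
      (Ideal.Quotient.mkₐ R I).toLinearMap ∘ₗ ((LinearMap.snd R B A) ∘ₗ
        (AlgHom.equalizer fE gE).val.toLinearMap) := by
    have h2 : ∀ z : B × A, fE z = gE z →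
        (IsScalarTower.toAlgHom R B (A ⧸ I)) z.1 = (Ideal.Quotient.mkₐ R I) z.2 := by
      intro z hz
      rw [← hfE, ← hgE] at hz
      exact hz
    ext x
    exact h2 _ ((AlgHom.mem_equalizer fE gE _).1 x.2)
  have c4 : (fE.toLinearMap - gE.toLinearMap) ∘ₗ (LinearMap.inl R B A) =
      (IsScalarTower.toAlgHom R B (A ⧸ I)).toLinearMap := by
    ext b; simp [← hfE, ← hgE]
  have c5 : (fE.toLinearMap - gE.toLinearMap) ∘ₗ (LinearMap.inr R B A) =
      -(Ideal.Quotient.mkₐ R I).toLinearMap := by
    ext a; simp [← hfE, ← hgE]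
  have c6 : (LinearMap.inl R B A) ∘ₗ (LinearMap.fst R B A) +
      (LinearMap.inr R B A) ∘ₗ (LinearMap.snd R B A) = LinearMap.id := by
    ext x <;> simp
  refine ⟨?_, ?_⟩
  · rw [injective_iff_map_eq_zero]
    intro x hx
    rw [map_id_eq_lTensor, ← c2, LinearMap.lTensor_comp_apply] at hx
    apply hjinj
    rw [map_zero]
    have e0 : (LinearMap.lTensor R' (IsScalarTower.toAlgHom R B (A ⧸ I)).toLinearMap) ∘ₗ
        ((LinearMap.lTensor R' (LinearMap.fst R B A)) ∘ₗ
          (LinearMap.lTensor R' (AlgHom.equalizer fE gE).val.toLinearMap)) =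
        (LinearMap.lTensor R' (Ideal.Quotient.mkₐ R I).toLinearMap) ∘ₗ
        ((LinearMap.lTensor R' (LinearMap.snd R B A)) ∘ₗ
          (LinearMap.lTensor R' (AlgHom.equalizer fE gE).val.toLinearMap)) := by
      rw [← LinearMap.lTensor_comp, ← LinearMap.lTensor_comp, ← LinearMap.lTensor_comp,
        ← LinearMap.lTensor_comp, c3]
    have e1 := LinearMap.congr_fun e0 x
    simp only [LinearMap.comp_apply] at e1
    rw [hx, map_zero] at e1
    have h1 : LinearMap.lTensor R' (LinearMap.fst R B A)
        (LinearMap.lTensor R' (AlgHom.equalizer fE gE).val.toLinearMap x) = 0 :=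
      hβ (by rw [e1, map_zero])
    have e2 := LinearMap.congr_fun (congrArg (LinearMap.lTensor R') c6)
      (LinearMap.lTensor R' (AlgHom.equalizer fE gE).val.toLinearMap x)
    rw [LinearMap.lTensor_add, LinearMap.lTensor_comp, LinearMap.lTensor_comp,
      LinearMap.lTensor_id, LinearMap.add_apply, LinearMap.comp_apply, LinearMap.comp_apply,
      h1, hx, map_zero, map_zero, add_zero, LinearMap.id_apply] at e2
    exact e2.symm
  · intro b a hba
    rw [map_id_eq_lTensor, map_id_eq_lTensor] at hba
    have hy0 : LinearMap.lTensor R' (fE.toLinearMap - gE.toLinearMap)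
        (LinearMap.lTensor R' (LinearMap.inl R B A) b +
          LinearMap.lTensor R' (LinearMap.inr R B A) a) = 0 := by
      rw [map_add, ← LinearMap.lTensor_comp_apply, ← LinearMap.lTensor_comp_apply, c4, c5,
        LinearMap.lTensor_neg, LinearMap.neg_apply, hba, add_neg_cancel]
    obtain ⟨x, hx⟩ := (hex2 _).1 hy0
    refine ⟨x, ?_, ?_⟩
    · rw [map_id_eq_lTensor, ← c1, LinearMap.lTensor_comp_apply, hx, map_add,
        ← LinearMap.lTensor_comp_apply, ← LinearMap.lTensor_comp_apply, LinearMap.fst_comp_inl,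
        LinearMap.fst_comp_inr, LinearMap.lTensor_id, LinearMap.lTensor_zero,
        LinearMap.id_apply, LinearMap.zero_apply, add_zero]
    · rw [map_id_eq_lTensor, ← c2, LinearMap.lTensor_comp_apply, hx, map_add,
        ← LinearMap.lTensor_comp_apply, ← LinearMap.lTensor_comp_apply, LinearMap.snd_comp_inl,
        LinearMap.snd_comp_inr, LinearMap.lTensor_id, LinearMap.lTensor_zero,
        LinearMap.id_apply, LinearMap.zero_apply, zero_add]

end Groth.Agent.S14086
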