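import Groth.Statements.S14088
-- import your own Groth.Agent.* helpers here
import Mathlib

set_option autoImplicit false
universe u
open ArSing

namespace Groth.Agent.S14088

/-- The identity behind the torus-equivariant classes h_i = h_0 + i τ of the coordinate hyperplanes of a
projective space of binary forms, stated in an arbitrary commutative ring: for n ≤ m, (h_0 ⋯
h_(n-1))^2 · h_n ⋯ h_(m-1) equals the sum over s = 0, …, n of (-1)^s s! (n choose s) (m choose s)
τ^s h_0 ⋯ h_(m+n-s-1), where h_i = h + i τ. (The published statement is in the equivariant Chow ring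
of that projective space; only the relations h_i = h_j + (j - i) τ are used, so it holds in any
commutative ring.) -/
theorem result (A : Type u) [CommRing A] (h τ : A) (n m : ℕ) (hnm : n ≤ m) :
    (∏ i ∈ Finset.range n, (h + (i : A) * τ) ^ 2) * ∏ i ∈ Finset.Ico n m, (h + (i : A) * τ) =
      ∑ s ∈ Finset.range (n + 1), (-1 : A) ^ s * (Nat.factorial s : A) * (Nat.choose n s : A) *
        (Nat.choose m s : A) * τ ^ s * ∏ i ∈ Finset.range (m + n - s), (h + (i : A) * τ) := by
  classical
  have hch : ∀ s : ℕ, ((Nat.choose m (s+1) : ℕ) : A) * ((s : A) + 1)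
      = (Nat.choose m s : A) * ((m : A) - (s : A)) := by
    intro s
    by_cases hs : s ≤ m
    · have h1 := Nat.choose_succ_right_eq m s
      have h2 : ((m.choose (s+1) * (s+1) : ℕ) : A) = ((m.choose s * (m - s) : ℕ) : A) := by
        rw [h1]
      rw [Nat.cast_mul, Nat.cast_mul, Nat.cast_sub hs, Nat.cast_succ] at h2
      exact h2
    · have hs' : m < s := not_le.mp hs
      rw [Nat.choose_eq_zero_of_lt hs', Nat.choose_eq_zero_of_lt (Nat.lt_succ_of_lt hs')]
      simp
  obtain ⟨P, hP⟩ : ∃ P : ℕ → A, ∀ k, P k = ∏ i ∈ Finset.range k, (h + (i : A) * τ) :=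
    ⟨_, fun _ => rfl⟩
  obtain ⟨c, hc⟩ : ∃ c : ℕ → ℕ → A, ∀ n s, c n s = (-1 : A) ^ s * (Nat.factorial s : A)
      * (Nat.choose n s : A) * (Nat.choose m s : A) * τ ^ s := ⟨_, fun _ _ => rfl⟩
  have hP0 : P 0 = 1 := by rw [hP]; simp
  have hPs : ∀ k : ℕ, P (k+1) = P k * (h + (k : A) * τ) := by
    intro k; rw [hP, hP, Finset.prod_range_succ]
  have hc0 : ∀ n, c n 0 = 1 := by intro n; rw [hc]; simp
  have hcn : ∀ n, c n (n+1) = 0 := by intro n; rw [hc, Nat.choose_succ_self]; simp
  have hcs : ∀ n s, c (n+1) (s+1) = c n (s+1) - c n s * ((m : A) - (s : A)) * τ := by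
    intro n s
    rw [hc, hc, hc, Nat.factorial_succ, Nat.choose_succ_succ n s]
    push_cast
    linear_combination (-((-1 : A) ^ s * (Nat.factorial s : A) * (Nat.choose n s : A)
      * τ ^ (s+1))) * hch s
  have key : ∀ n : ℕ, P n * P m = ∑ s ∈ Finset.range (n + 1), c n s * P (m + n - s) := by
    intro n
    induction n with
    | zero => rw [Finset.sum_range_one, hc0, hP0]; simp
    | succ n ih =>
      rw [hPs n, mul_right_comm (P n) _ (P m), ih, Finset.sum_mul,
        Finset.sum_range_succ' _ (n+1)]
      have hterm : ∀ s ∈ Finset.range (n+1), c n s * P (m+n-s) * (h + (n:A) * τ)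
          = c n s * P (m + n + 1 - s) - c n s * ((m:A) - (s:A)) * τ * P (m+n-s) := by
        intro s hs
        have hs' : s ≤ m + n := by have := Finset.mem_range.mp hs; omega
        have e1 : m + n + 1 - s = (m + n - s) + 1 := by omega
        rw [e1, hPs, Nat.cast_sub hs', Nat.cast_add]
        ring
      refine (Finset.sum_congr rfl hterm).trans ?_
      rw [Finset.sum_sub_distrib]
      have h0 := Finset.sum_range_succ' (fun s => c n s * P (m + n + 1 - s)) (n+1)
      have h1 := Finset.sum_range_succ (fun s => c n s * P (m + n + 1 - s)) (n+1)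
      rw [hcn n, zero_mul, add_zero] at h1
      rw [← h1, h0, add_sub_right_comm, ← Finset.sum_sub_distrib]
      congr 1
      · apply Finset.sum_congr rfl
        intro s _
        have e2 : m + (n + 1) - (s + 1) = m + n - s := by omega
        have e3 : m + n + 1 - (s + 1) = m + n - s := by omega
        rw [e2, e3, hcs n s]
        ring
      · have e4 : m + (n+1) - 0 = m + n + 1 - 0 := by omega
        rw [hc0, hc0, e4]
  have hL : (∏ i ∈ Finset.range n, (h + (i : A) * τ) ^ 2)
      * ∏ i ∈ Finset.Ico n m, (h + (i : A) * τ) = P n * P m := by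
    rw [Finset.prod_pow, sq, mul_assoc, Finset.prod_range_mul_prod_Ico _ hnm, hP, hP]
  rw [hL, key n]
  apply Finset.sum_congr rfl
  intro s _
  rw [hc, hP]

end Groth.Agent.S14088
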