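import Groth.Statements.S14091
-- import your own Groth.Agent.* helpers here
import Mathlib

set_option autoImplicit false
universe u
open ArSing

namespace Groth.Agent.S14091

open Polynomial in
/-- Over an algebraically closed field k, a finite local k-algebra B whose cotangent space m/m^2 has
dimension at most one over the residue field is isomorphic, as a k-algebra, to k[t]/(t^n) with n =
dim_k B (curvilinear pointed algebras of degree n have a single isomorphism class). -/
theorem result (k B : Type u) [Field k] [IsAlgClosed k]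
    [CommRing B] [IsLocalRing B] [Algebra k B] [Module.Finite k B]
    (hcurv : Module.finrank (IsLocalRing.ResidueField B) (IsLocalRing.CotangentSpace B) ≤ 1) :
    Nonempty (B ≃ₐ[k] (Polynomial k ⧸ Ideal.span {(X : Polynomial k) ^ Module.finrank k B})) := by
  classical
  haveI : IsArtinianRing B := IsArtinianRing.of_finite k B
  obtain ⟨t, ht⟩ := ((IsLocalRing.finrank_cotangentSpace_le_one_iff).mp hcurv).principal
  have hm : IsLocalRing.maximalIdeal B = Ideal.span {t} := ht
  have htm : t ∈ IsLocalRing.maximalIdeal B := by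
    rw [hm]; exact Ideal.mem_span_singleton_self t
  obtain ⟨N, hN⟩ : ∃ N, t ^ N = 0 := by
    have h1 := IsArtinianRing.isNilpotent_jacobson_bot (R := B)
    rw [IsLocalRing.jacobson_eq_maximalIdeal ⊥ bot_ne_top] at h1
    obtain ⟨N, hN⟩ := h1
    refine ⟨N, ?_⟩
    have h2 : t ^ N ∈ (IsLocalRing.maximalIdeal B) ^ N := Ideal.pow_mem_pow htm N
    have h3 : t ^ N ∈ (0 : Ideal B) := by rw [← hN]; exact h2
    simpa using h3
  have hbij := IsAlgClosed.algebraMap_bijective_of_isIntegral (k := k)
    (K := IsLocalRing.ResidueField B)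
  have hdecomp : ∀ b : B, ∃ c : k, b - algebraMap k B c ∈ IsLocalRing.maximalIdeal B := by
    intro b
    obtain ⟨c, hc⟩ := hbij.2 (IsLocalRing.residue B b)
    refine ⟨c, ?_⟩
    rw [← IsLocalRing.residue_eq_zero_iff, map_sub, ← hc, sub_eq_zero,
      IsScalarTower.algebraMap_apply k B (IsLocalRing.ResidueField B)]
    rfl
  have hstep : ∀ j : ℕ, ∀ b : B, ∃ p : Polynomial k, ∃ b' : B,
      b = Polynomial.aeval t p + t ^ j * b' := by
    intro j
    induction j with
    | zero => intro b; exact ⟨0, b, by simp⟩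
    | succ j ih =>
      intro b
      obtain ⟨p, b', hb⟩ := ih b
      obtain ⟨c, hc⟩ := hdecomp b'
      rw [hm, Ideal.mem_span_singleton'] at hc
      obtain ⟨b'', hb''⟩ := hc
      refine ⟨p + Polynomial.C c * Polynomial.X ^ j, b'', ?_⟩
      have h5 : b' = algebraMap k B c + b'' * t := by rw [hb'']; ring
      rw [hb, map_add, map_mul, Polynomial.aeval_C, map_pow, Polynomial.aeval_X, pow_succ, h5]
      ring
  have hsurj : Function.Surjective (Polynomial.aeval t : Polynomial k →ₐ[k] B) := by
    intro b
    obtain ⟨p, b', hb⟩ := hstep N b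
    exact ⟨p, by rw [hb, hN, zero_mul, add_zero]⟩
  obtain ⟨e, -, he⟩ : ∃ e ≤ N, Associated (Submodule.IsPrincipal.generator
      (RingHom.ker (Polynomial.aeval t : Polynomial k →ₐ[k] B))) (Polynomial.X ^ e) := by
    apply (dvd_prime_pow Polynomial.prime_X N).mp
    rw [← Submodule.IsPrincipal.mem_iff_generator_dvd, RingHom.mem_ker, map_pow, Polynomial.aeval_X, hN]
  have hker : RingHom.ker (Polynomial.aeval t : Polynomial k →ₐ[k] B)
      = Ideal.span {(Polynomial.X : Polynomial k) ^ e} := by
    rw [← Ideal.span_singleton_generator (RingHom.ker (Polynomial.aeval t : Polynomial k →ₐ[k] B))]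
    exact Ideal.span_singleton_eq_span_singleton.mpr he
  let E1 : (Polynomial k ⧸ RingHom.ker (Polynomial.aeval t : Polynomial k →ₐ[k] B)) ≃ₐ[k] B :=
    Ideal.quotientKerAlgEquivOfSurjective hsurj
  let E2 : (Polynomial k ⧸ RingHom.ker (Polynomial.aeval t : Polynomial k →ₐ[k] B)) ≃ₐ[k]
      (Polynomial k ⧸ Ideal.span {(Polynomial.X : Polynomial k) ^ e}) :=
    Ideal.quotientEquivAlgOfEq k hker
  let E : B ≃ₐ[k] (Polynomial k ⧸ Ideal.span {(Polynomial.X : Polynomial k) ^ e}) :=
    E1.symm.trans E2
  have hfr : Module.finrank k B = e := by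
    rw [E.toLinearEquiv.finrank_eq, finrank_quotient_span_eq_natDegree' (Polynomial.monic_X_pow e),
      Polynomial.natDegree_X_pow]
  rw [hfr]
  exact ⟨E⟩

end Groth.Agent.S14091
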