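import Groth.Statements.S14097
-- import your own Groth.Agent.* helpers here
import Mathlib

set_option autoImplicit false
universe u
open ArSing

namespace Groth.Agent.S14097


theorem esymm_cons_succ {R : Type*} [CommSemiring R] (a : R) (s : Multiset R) (j : ℕ) :
    (a ::ₘ s).esymm (j + 1) = s.esymm (j + 1) + a * s.esymm j := by
  simp only [Multiset.esymm, Multiset.powersetCard_cons, Multiset.map_add, Multiset.sum_add,
    Multiset.map_map, Function.comp_def, Multiset.prod_cons, Multiset.sum_map_mul_left]

theorem esymm_zero' {R : Type*} [CommSemiring R] (s : Multiset R) : s.esymm 0 = 1 := by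
  simp [Multiset.esymm, Multiset.powersetCard_zero_left]

theorem esymm_card' {R : Type*} [CommSemiring R] (s : Multiset R) :
    s.esymm (Multiset.card s) = s.prod := by
  simp [Multiset.esymm, Multiset.powersetCard_self]

theorem T_cons {R : Type*} [CommRing R] (τ a : R) (s : Multiset R) (m : ℕ) :
    ∑ j ∈ Finset.range (m + 1), τ ^ (m - j) * (a ::ₘ s).esymm j =
      (τ + a) * ∑ j ∈ Finset.range m, τ ^ (m - 1 - j) * s.esymm j + s.esymm m := by
  have e1 : ∀ j, m - (j + 1) = m - 1 - j := fun j => by omega
  have e2 : ∑ j ∈ Finset.range m, τ ^ (m - 1 - j) * s.esymm (j + 1) + τ ^ m =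
      τ * ∑ j ∈ Finset.range m, τ ^ (m - 1 - j) * s.esymm j + s.esymm m := by
    have h1 : ∑ j ∈ Finset.range (m + 1), τ ^ (m - j) * s.esymm j =
        ∑ j ∈ Finset.range m, τ ^ (m - 1 - j) * s.esymm (j + 1) + τ ^ m := by
      rw [Finset.sum_range_succ', esymm_zero', Nat.sub_zero, mul_one]
      congr 1
      apply Finset.sum_congr rfl
      intro j _
      rw [e1]
    have h2 : ∑ j ∈ Finset.range (m + 1), τ ^ (m - j) * s.esymm j =
        τ * ∑ j ∈ Finset.range m, τ ^ (m - 1 - j) * s.esymm j + s.esymm m := by
      rw [Finset.sum_range_succ, Finset.mul_sum]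
      simp only [Nat.sub_self, pow_zero, one_mul]
      congr 1
      apply Finset.sum_congr rfl
      intro j hj
      have : m - j = (m - 1 - j) + 1 := by
        have := Finset.mem_range.mp hj
        omega
      rw [this, pow_succ]
      ring
    rw [← h1, h2]
  have e3 : ∑ j ∈ Finset.range m, τ ^ (m - 1 - j) * (a * s.esymm j) =
      a * ∑ j ∈ Finset.range m, τ ^ (m - 1 - j) * s.esymm j := by
    rw [Finset.mul_sum]
    apply Finset.sum_congr rfl
    intro j _
    ring
  have e4 : ∀ j, τ ^ (m - (j + 1)) = τ ^ (m - 1 - j) := fun j => by rw [e1]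
  rw [Finset.sum_range_succ']
  simp only [esymm_cons_succ, esymm_zero', Nat.sub_zero, mul_one, e4, mul_add,
    Finset.sum_add_distrib]
  rw [e3]
  linear_combination e2

theorem main_aux {A : Type*} [CommRing A] (τ : A) (h : ℕ → A) (n : ℕ) :
    (∀ i, i < n + 1 → h i ^ 2 + τ * h i = 0) →
    (∏ i ∈ Finset.range n, (h i + h (i + 1) + τ) =
      ∑ j ∈ Finset.range (n + 1), τ ^ (n - j) * (((Finset.range (n + 1)).val.map h).esymm j)) ∧
    (∏ i ∈ Finset.range n, (h i + h (i + 1) + τ)) * h n =
      ((Finset.range (n + 1)).val.map h).prod := by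
  induction n with
  | zero =>
    intro _
    simp [esymm_zero']
  | succ n ih =>
    intro hrel
    obtain ⟨iha, ihb⟩ := ih (fun i hi => hrel i (by omega))
    have hs : (Finset.range (n + 1 + 1)).val.map h =
        h (n + 1) ::ₘ (Finset.range (n + 1)).val.map h := by
      rw [Finset.range_val, Multiset.range_succ, Multiset.map_cons, ← Finset.range_val]
    have hcard : Multiset.card ((Finset.range (n + 1)).val.map h) = n + 1 := by
      simp
    have hE : ((Finset.range (n + 1)).val.map h).esymm (n + 1) =
        ((Finset.range (n + 1)).val.map h).prod := by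
      have := esymm_card' ((Finset.range (n + 1)).val.map h)
      rwa [hcard] at this
    have hr := hrel (n + 1) (by omega)
    constructor
    · rw [hs, T_cons, Finset.prod_range_succ, hE, ← ihb]
      simp only [Nat.add_sub_cancel]
      rw [← iha]
      ring
    · rw [hs, Multiset.prod_cons, Finset.prod_range_succ, ← ihb]
      linear_combination (∏ i ∈ Finset.range n, (h i + h (i + 1) + τ)) * hr

/-- In any commutative ring, if h_0, …, h_(k-1) (k ≥ 2) and τ satisfy h_i^2 + τ h_i = 0, then ∏_(i ≤
k-2) (h_i + h_(i+1) + τ) = Σ_(j ≤ k-1) τ^(k-1-j) e_j(h), e_j the elementary symmetric functions.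
(The published statement is the resulting formula for the class of the small diagonal in the Chow
ring of (P^1)^k, where the h_i are the hyperplane classes of the factors and satisfy these
relations; only the ring identity is asserted here.) -/
theorem result (A : Type u) [CommRing A] (k : ℕ) (hk : 2 ≤ k) (τ : A)
    (h : ℕ → A) (hrel : ∀ i, i < k → h i ^ 2 + τ * h i = 0) :
    ∏ i ∈ Finset.range (k - 1), (h i + h (i + 1) + τ) =
      ∑ j ∈ Finset.range k, τ ^ (k - 1 - j) * (((Finset.range k).val.map h).esymm j) := by
  obtain ⟨n, rfl⟩ : ∃ n, k = n + 1 := ⟨k - 1, by omega⟩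
  have := (main_aux τ h n hrel).1
  simpa using this

end Groth.Agent.S14097
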