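import Groth.Statements.S14100
-- import your own Groth.Agent.* helpers here
import Mathlib

set_option autoImplicit false
universe w v u
open DCoh

namespace Groth.Agent.S14100


section
open CategoryTheory Pretriangulated Limits DerivedCategory

variable {C : Type u} [Category.{v} C] [Abelian C] [HasDerivedCategory.{w} C]

private lemma lemmaA {X Y : DerivedCategory C} (b : ℤ) (hX1 : X.IsGE b) (hX2 : X.IsLE b)
    (hY1 : Y.IsGE b) (hY2 : Y.IsLE b) (f : X ⟶ Y)
    (hf : (homologyFunctor C b).map f = 0) : f = 0 := by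
  obtain ⟨A, ⟨eX⟩⟩ := X.exists_iso_singleFunctor_obj_of_isGE_of_isLE b
  obtain ⟨B, ⟨eY⟩⟩ := Y.exists_iso_singleFunctor_obj_of_isGE_of_isLE b
  obtain ⟨φ, hφ⟩ := (singleFunctor C b).map_surjective (eX.inv ≫ f ≫ eY.hom)
  have h1 : (homologyFunctor C b).map ((singleFunctor C b).map φ) = 0 := by
    rw [hφ, Functor.map_comp, Functor.map_comp, hf, zero_comp, comp_zero]
  have h2 : φ = 0 := by
    have eq₁ := NatIso.naturality_1 (singleFunctorCompHomologyFunctorIso C b) φ
    dsimp at eq₁
    rw [← eq₁, h1, zero_comp, comp_zero]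
  have h3 : eX.inv ≫ f ≫ eY.hom = 0 := by rw [← hφ, h2, Functor.map_zero]
  have h4 : f = eX.hom ≫ (eX.inv ≫ f ≫ eY.hom) ≫ eY.inv := by simp
  rw [h4, h3, zero_comp, comp_zero]

private lemma mono_H_truncLEι (X : DerivedCategory C) (c q : ℤ) :
    Mono ((homologyFunctor C q).map ((TStructure.t.truncLEι c).app X)) := by
  have hT := (TStructure.t (C := C)).triangleLEGT_distinguished c X
  have key := HomologySequence.mono_homologyMap_mor₁_iff _ hT (q - 1) q (by omega)
  have hδ : HomologySequence.δ (((TStructure.t (C := C)).triangleLEGT c).obj X) (q - 1) q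
      (by omega) = 0 := by
    by_cases hq : q ≤ c
    · apply IsZero.eq_of_src
      exact DerivedCategory.isZero_of_isGE (((TStructure.t (C := C)).truncGT c).obj X)
        (c + 1) (q - 1) (by omega)
    · apply IsZero.eq_of_tgt
      exact DerivedCategory.isZero_of_isLE (((TStructure.t (C := C)).truncLE c).obj X)
        c q (by omega)
  exact key.mpr hδ

private lemma epi_H_truncGTπ (X : DerivedCategory C) (c : ℤ) :
    Epi ((homologyFunctor C c).map ((TStructure.t.truncGTπ (c - 1)).app X)) := by
  have hT := (TStructure.t (C := C)).triangleLEGT_distinguished (c - 1) X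
  have key := HomologySequence.epi_homologyMap_mor₂_iff _ hT c (c + 1) rfl
  apply key.mpr
  apply IsZero.eq_of_tgt
  exact DerivedCategory.isZero_of_isLE (((TStructure.t (C := C)).truncLE (c - 1)).obj X)
    (c - 1) (c + 1) (by omega)

private lemma lemmaB {X G : DerivedCategory C} (c : ℤ) (hX : X.IsLE c) (hG1 : G.IsGE c)
    (hG2 : G.IsLE c) (g : X ⟶ G) (hg : (homologyFunctor C c).map g = 0) : g = 0 := by
  obtain ⟨g', hg'⟩ := (TStructure.t (C := C)).descTruncGT_aux g (c - 1) c (by omega)
  have hepi := epi_H_truncGTπ X c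
  have h1 : (homologyFunctor C c).map g' = 0 := by
    rw [← cancel_epi ((homologyFunctor C c).map ((TStructure.t.truncGTπ (c - 1)).app X)),
      ← Functor.map_comp, ← hg', hg, comp_zero]
  have h2 : g' = 0 := lemmaA c inferInstance inferInstance hG1 hG2 g' h1
  rw [hg', h2, comp_zero]

private lemma Hzero_trunc {X Y : DerivedCategory C} (f : X ⟶ Y) (c : ℤ)
    (hf : ∀ q, (homologyFunctor C q).map f = 0) (q : ℤ) :
    (homologyFunctor C q).map ((TStructure.t.truncLE c).map f) = 0 := by
  have hm := mono_H_truncLEι Y c q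
  rw [← cancel_mono ((homologyFunctor C q).map ((TStructure.t.truncLEι c).app Y)), zero_comp,
    ← Functor.map_comp]
  have h1 := ((TStructure.t (C := C)).truncLEι c).naturality f
  rw [h1, Functor.id_map, Functor.map_comp, hf q, comp_zero]

inductive HChain (a c : ℤ) : ℕ → ∀ {X Y : DerivedCategory C}, (X ⟶ Y) → Prop
  | single {X Y : DerivedCategory C} (f : X ⟶ Y) (hX : X.IsGE a) (hX' : X.IsLE c)
      (hY : Y.IsGE a) (hY' : Y.IsLE c) (hf : ∀ q, (homologyFunctor C q).map f = 0) :
      HChain a c 0 f
  | cons {X Z Y : DerivedCategory C} (k : ℕ) (f : X ⟶ Z) (ψ : Z ⟶ Y) (hX : X.IsGE a)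
      (hX' : X.IsLE c) (hf : ∀ q, (homologyFunctor C q).map f = 0) (hψ : HChain a c k ψ) :
      HChain a c (k + 1) (f ≫ ψ)

lemma HChain.src {a c : ℤ} {k : ℕ} {X Y : DerivedCategory C} {ψ : X ⟶ Y}
    (h : HChain a c k ψ) : X.IsGE a ∧ X.IsLE c := by
  cases h with
  | single f hX hX' _ _ _ => exact ⟨hX, hX'⟩
  | cons k f ψ hX hX' _ _ => exact ⟨hX, hX'⟩

lemma HChain.trunc {a c : ℤ} {k : ℕ} {X Y : DerivedCategory C} {ψ : X ⟶ Y}
    (h : HChain a c k ψ) : HChain a (c - 1) k ((TStructure.t.truncLE (c - 1)).map ψ) := by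
  induction h with
  | single f hX hX' hY hY' hf =>
    exact HChain.single _ inferInstance inferInstance inferInstance inferInstance
      (Hzero_trunc f (c - 1) hf)
  | cons k f ψ hX hX' hf hψ ih =>
    rw [Functor.map_comp]
    exact HChain.cons k _ _ inferInstance inferInstance (Hzero_trunc f (c - 1) hf) ih

lemma HChain.eq_zero : ∀ (m : ℕ) (a c : ℤ), c = a + m →
    ∀ {X Y : DerivedCategory C} (φ : X ⟶ Y), HChain a c m φ → φ = 0 := by
  intro m
  induction m with
  | zero =>
    intro a c hc X Y φ h
    have hca : c = a := by simpa using hc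
    subst hca
    cases h with
    | single f hX hX' hY hY' hf => exact lemmaA c hX hX' hY hY' _ (hf c)
  | succ m ih =>
    intro a c hc X Y φ h
    cases h with
    | cons k f ψ hX hX' hf hψ =>
      obtain ⟨hZ, hZ'⟩ := hψ.src
      have hc' : c - 1 = a + (m : ℤ) := by
        rw [hc, Nat.cast_succ]
        ring
      have h0 : (TStructure.t.truncLE (c - 1)).map ψ = 0 := ih a (c - 1) hc' _ hψ.trunc
      have h1 : f ≫ (TStructure.t.truncGTπ (c - 1)).app _ = 0 := by
        apply lemmaB c hX' inferInstance inferInstance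
        rw [Functor.map_comp, hf c, zero_comp]
      obtain ⟨f', hf'⟩ : ∃ f' : X ⟶ (TStructure.t.truncLE (c - 1)).obj _,
          f = f' ≫ (TStructure.t.truncLEι (c - 1)).app _ :=
        Triangle.coyoneda_exact₂ _
          ((TStructure.t (C := C)).triangleLEGT_distinguished (c - 1) _) f h1
      have hnat := ((TStructure.t (C := C)).truncLEι (c - 1)).naturality ψ
      rw [Functor.id_map] at hnat
      have h2 : (TStructure.t.truncLEι (c - 1)).app _ ≫ ψ = 0 := by
        rw [← hnat, h0, zero_comp]
      rw [hf', Category.assoc, h2, comp_zero]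

end

open CategoryTheory in
/-- Let C be an abelian category, a an integer and n a natural number, and let K_0 → K_1 → ⋯ → K_{n+1}
be composable morphisms in the derived category of C such that each K_i has cohomology concentrated
in degrees a, …, a+n and each map K_i → K_{i+1} induces zero on every cohomology object. Then the
composite K_0 → K_{n+1} is zero. (The chain is given as a functor from the ordered set of natural
numbers; only its values on 0, …, n+1 matter.) -/
theorem result
    (C : Type u) [Category.{v} C] [Abelian C] [HasDerivedCategory.{w} C]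
    (a : ℤ) (n : ℕ) (K : ℕ ⥤ DerivedCategory C)
    (hGE : ∀ i : ℕ, i ≤ n + 1 → (K.obj i).IsGE a)
    (hLE : ∀ i : ℕ, i ≤ n + 1 → (K.obj i).IsLE (a + n))
    (hzero : ∀ i : ℕ, i ≤ n → ∀ q : ℤ,
      (DerivedCategory.homologyFunctor C q).map (K.map (homOfLE (Nat.le_succ i))) = 0) :
    K.map (homOfLE (Nat.zero_le (n + 1))) = 0 := by
  have hmap : ∀ (d j : ℕ) (hj : j + d = n),
      HChain a (a + n) d (K.map (homOfLE (by omega : j ≤ n + 1))) := by
    intro d
    induction d with
    | zero =>
      intro j hj
      have hjn : j = n := by omega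
      subst hjn
      exact HChain.single _ (hGE j (by omega)) (hLE j (by omega)) (hGE (j + 1) (by omega))
        (hLE (j + 1) (by omega)) (hzero j le_rfl)
    | succ d ih =>
      intro j hj
      have e : K.map (homOfLE (by omega : j ≤ n + 1)) =
          K.map (homOfLE (Nat.le_succ j)) ≫ K.map (homOfLE (by omega : j + 1 ≤ n + 1)) := by
        rw [← K.map_comp]
        congr 1
      rw [e]
      exact HChain.cons d _ _ (hGE j (by omega)) (hLE j (by omega)) (hzero j (by omega))
        (ih (j + 1) (by omega))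
  have h := hmap n 0 (by omega)
  exact HChain.eq_zero n a (a + n) rfl _ h

end Groth.Agent.S14100
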