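import Groth.Statements.S14115
-- import your own Groth.Agent.* helpers here
import Mathlib

set_option autoImplicit false
universe u v
open SuperComm

namespace Groth.Agent.S14115

/-- Let S be an associative unital algebra over a commutative ring R, x an element and y_0, …, y_n
elements such that the anticommutator x y_i + y_i x equals r_i · 1 for scalars r_i ∈ R. Then the
graded commutator of x with the ordered product y_0 ⋯ y_n, namely x (y_0 ⋯ y_n) + (-1)^n (y_0 ⋯ y_n)
x, equals the sum over p of (-1)^p r_p times the ordered product of the y_q with q ≠ p. (The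
published statement takes x homogeneous of degree 1 and the y_i homogeneous of degree -1 in a graded
algebra with unit in degree 0, the signs being those of the supercommutator; this row states the
identity for arbitrary elements satisfying the anticommutation relations, which is what the
computation proves.) -/
theorem result {R : Type u} {S : Type v} [CommRing R] [Ring S]
    [Algebra R S] (n : ℕ) (x : S) (y : Fin (n + 1) → S) (r : Fin (n + 1) → R)
    (h : ∀ i : Fin (n + 1), x * y i + y i * x = algebraMap R S (r i)) :
    x * (List.ofFn y).prod + (-1 : S) ^ n * ((List.ofFn y).prod * x) =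
      ∑ p : Fin (n + 1), (-1 : S) ^ (p : ℕ) * (r p • (List.ofFn (fun q : Fin n => y (p.succAbove q))).prod) := by
  induction n with
  | zero =>
    have h0 := h 0
    simp only [List.ofFn_succ, List.ofFn_zero, List.prod_cons, List.prod_nil, mul_one, pow_zero,
      one_mul]
    rw [h0, Algebra.algebraMap_eq_smul_one, Fin.sum_univ_succ, Fin.sum_univ_zero, add_zero,
      Fin.val_zero, pow_zero, one_mul]
  | succ n ih =>
    have ih' := ih (fun i => y i.succ) (fun i => r i.succ) (fun i => h i.succ)
    have hY : (List.ofFn y).prod = y 0 * (List.ofFn (fun i : Fin (n + 1) => y i.succ)).prod := by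
      rw [List.ofFn_succ, List.prod_cons]
    have h0 : (List.ofFn (fun q : Fin (n + 1) => y ((0 : Fin (n + 2)).succAbove q))).prod
        = (List.ofFn (fun i : Fin (n + 1) => y i.succ)).prod := by
      simp only [Fin.succAbove_zero]
    have hp : ∀ p' : Fin (n + 1),
        (List.ofFn (fun q : Fin (n + 1) => y (p'.succ.succAbove q))).prod
          = y 0 * (List.ofFn (fun q : Fin n => y (p'.succAbove q).succ)).prod := by
      intro p'
      rw [List.ofFn_succ, List.prod_cons]
      simp only [Fin.succ_succAbove_zero, Fin.succ_succAbove_succ]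
    have hcomm : ∀ (m : ℕ) (z : S), (-1 : S) ^ m * z = z * (-1 : S) ^ m := fun m z =>
      ((Commute.neg_one_left z).pow_left m).eq
    have hsum : ∑ p' : Fin (n + 1), (-1 : S) ^ ((p'.succ : Fin (n + 2)) : ℕ) *
          (r p'.succ • (List.ofFn (fun q : Fin (n + 1) => y (p'.succ.succAbove q))).prod)
        = -(y 0 * ∑ p' : Fin (n + 1), (-1 : S) ^ (p' : ℕ) *
          (r p'.succ • (List.ofFn (fun q : Fin n => y (p'.succAbove q).succ)).prod)) := by
      rw [Finset.mul_sum, ← Finset.sum_neg_distrib]
      refine Finset.sum_congr rfl (fun p' _ => ?_)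
      rw [hp p', Fin.val_succ, pow_succ, mul_neg_one, neg_mul, ← mul_smul_comm, ← mul_assoc,
        hcomm, mul_assoc]
    rw [Fin.sum_univ_succ, hsum, h0, hY, ← ih']
    have hx0 : x * y 0 = algebraMap R S (r 0) - y 0 * x := eq_sub_of_add_eq (h 0)
    have e1 : (-1 : S) ^ (n + 1) * (y 0 * (List.ofFn (fun i : Fin (n + 1) => y i.succ)).prod * x)
        = -(y 0 * ((-1 : S) ^ n * ((List.ofFn (fun i : Fin (n + 1) => y i.succ)).prod * x))) := by
      rw [pow_succ, mul_neg_one, neg_mul, mul_assoc (y 0), ← mul_assoc ((-1 : S) ^ n) (y 0),
        hcomm, mul_assoc]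
    rw [e1, ← mul_assoc x, hx0, Fin.val_zero, pow_zero, one_mul, Algebra.smul_def]
    simp only [sub_mul, mul_add, mul_assoc]
    abel

end Groth.Agent.S14115
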