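import Groth.Statements.S14118
-- import your own Groth.Agent.* helpers here
import Mathlib

set_option autoImplicit false
universe u v w
open SuperComm

namespace Groth.Agent.S14118

/-- Let R be a commutative ring and M a finitely ℤ-graded R-module with finitely many nonzero graded
pieces, each finite free, presented as a finite family of finite free R-modules M_i with integer
degrees deg i (the piece of degree n being the product of the M_i with deg i = n); an endomorphism φ
of the total module Π_i M_i has degree a when its (i, j) block vanishes unless deg j = deg i + a;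
the supertrace of an endomorphism is the trace of its composite with the grading involution ε = Σ_i
(-1)^{deg i} pr_i. If φ and ψ have degrees a and b, the supertrace of the supercommutator φψ -
(-1)^{ab} ψφ vanishes. (The published statement allows the graded pieces to be finitely generated
projective; this row takes them finite free, where the trace is the ordinary trace of a free
module.) -/
theorem result {R : Type u} [CommRing R] {ι : Type v} [Fintype ι] [DecidableEq ι]
    (deg : ι → ℤ) (M : ι → Type w) [∀ i, AddCommGroup (M i)] [∀ i, Module R (M i)]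
    [∀ i, Module.Free R (M i)] [∀ i, Module.Finite R (M i)]
    (a b : ℤ) (φ ψ : (Π k, M k) →ₗ[R] (Π k, M k))
    (hφ : ∀ i j : ι, deg j ≠ deg i + a → (LinearMap.proj j) ∘ₗ φ ∘ₗ (LinearMap.single R M i) = 0)
    (hψ : ∀ i j : ι, deg j ≠ deg i + b → (LinearMap.proj j) ∘ₗ ψ ∘ₗ (LinearMap.single R M i) = 0) :
    LinearMap.trace R (Π k, M k)
      ((∑ i : ι, (LinearMap.single R M i) ∘ₗ (((-1 : R) ^ (deg i).natAbs) • (LinearMap.proj i : (Π k, M k) →ₗ[R] M i))) ∘ₗ (φ ∘ₗ ψ - ((-1 : R) ^ (a * b).natAbs) • (ψ ∘ₗ φ))) = 0 := by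
  classical
  have hsgn : ∀ m : ℤ, ((-1 : R) ^ m.natAbs) = if Even m then 1 else -1 := by
    intro m
    split_ifs with h
    · exact Even.neg_one_pow (Int.natAbs_even.mpr h)
    · exact Odd.neg_one_pow (Int.natAbs_odd.mpr (Int.not_even_iff_odd.mp h))
  have L1 : ∀ θ : (Π k, M k) →ₗ[R] (Π k, M k),
      LinearMap.trace R (Π k, M k) ((∑ i : ι, (LinearMap.single R M i) ∘ₗ
        (((-1 : R) ^ (deg i).natAbs) • (LinearMap.proj i : (Π k, M k) →ₗ[R] M i))) ∘ₗ θ)
        = ∑ i, (-1 : R) ^ (deg i).natAbs *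
          LinearMap.trace R (M i) ((LinearMap.proj i) ∘ₗ θ ∘ₗ (LinearMap.single R M i)) := by
    intro θ
    have e : (∑ i : ι, (LinearMap.single R M i) ∘ₗ
          (((-1 : R) ^ (deg i).natAbs) • (LinearMap.proj i : (Π k, M k) →ₗ[R] M i))) ∘ₗ θ
        = ∑ i : ι, (LinearMap.single R M i) ∘ₗ
          ((((-1 : R) ^ (deg i).natAbs) • (LinearMap.proj i : (Π k, M k) →ₗ[R] M i)) ∘ₗ θ) := by
      apply LinearMap.ext
      intro v
      simp only [LinearMap.comp_apply, LinearMap.sum_apply]
    rw [e, map_sum]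
    refine Finset.sum_congr rfl (fun i _ => ?_)
    rw [LinearMap.trace_comp_comm', LinearMap.smul_comp, LinearMap.smul_comp, map_smul,
      smul_eq_mul, LinearMap.comp_assoc]
  have L2 : ∀ (θ₁ θ₂ : (Π k, M k) →ₗ[R] (Π k, M k)) (i : ι),
      (LinearMap.proj i) ∘ₗ (θ₁ ∘ₗ θ₂) ∘ₗ (LinearMap.single R M i)
        = ∑ k, ((LinearMap.proj i) ∘ₗ θ₁ ∘ₗ (LinearMap.single R M k)) ∘ₗ
            ((LinearMap.proj k) ∘ₗ θ₂ ∘ₗ (LinearMap.single R M i)) := by
    intro θ₁ θ₂ i
    apply LinearMap.ext
    intro v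
    simp only [LinearMap.comp_apply, LinearMap.sum_apply, LinearMap.proj_apply,
      LinearMap.single_apply]
    rw [← Finset.sum_apply, ← map_sum, Finset.univ_sum_single]
  have hτ : ∀ i k, LinearMap.trace R (M k)
        (((LinearMap.proj k) ∘ₗ ψ ∘ₗ (LinearMap.single R M i)) ∘ₗ
          ((LinearMap.proj i) ∘ₗ φ ∘ₗ (LinearMap.single R M k)))
      = LinearMap.trace R (M i)
        (((LinearMap.proj i) ∘ₗ φ ∘ₗ (LinearMap.single R M k)) ∘ₗ
          ((LinearMap.proj k) ∘ₗ ψ ∘ₗ (LinearMap.single R M i))) :=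
    fun i k => LinearMap.trace_comp_comm' _ _
  have hterm : ∀ i k, (-1 : R) ^ (deg i).natAbs * LinearMap.trace R (M i)
        (((LinearMap.proj i) ∘ₗ φ ∘ₗ (LinearMap.single R M k)) ∘ₗ
          ((LinearMap.proj k) ∘ₗ ψ ∘ₗ (LinearMap.single R M i)))
      = (-1 : R) ^ (a * b).natAbs * ((-1 : R) ^ (deg k).natAbs * LinearMap.trace R (M i)
        (((LinearMap.proj i) ∘ₗ φ ∘ₗ (LinearMap.single R M k)) ∘ₗ
          ((LinearMap.proj k) ∘ₗ ψ ∘ₗ (LinearMap.single R M i)))) := by
    intro i k
    by_cases h1 : deg i = deg k + a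
    · by_cases h2 : deg k = deg i + b
      · have hb : b = -a := by linarith
        have hs : (-1 : R) ^ (deg i).natAbs
            = (-1 : R) ^ (a * b).natAbs * (-1 : R) ^ (deg k).natAbs := by
          rw [h1, hb, hsgn, hsgn, hsgn]
          rcases Int.even_or_odd a with ha | ha <;> rcases Int.even_or_odd (deg k) with hk | hk
          · simp [Int.even_add, Int.even_mul, ha, hk]
          · rw [← Int.not_even_iff_odd] at hk
            simp [Int.even_add, Int.even_mul, ha, hk]
          · rw [← Int.not_even_iff_odd] at ha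
            simp [Int.even_add, Int.even_mul, ha, hk]
          · rw [← Int.not_even_iff_odd] at ha hk
            simp [Int.even_add, Int.even_mul, ha, hk]
        rw [hs, mul_assoc]
      · rw [hψ i k h2, LinearMap.comp_zero, map_zero, mul_zero, mul_zero, mul_zero]
    · rw [hφ k i h1, LinearMap.zero_comp, map_zero, mul_zero, mul_zero, mul_zero]
  rw [LinearMap.comp_sub, LinearMap.comp_smul, map_sub, map_smul, L1, L1, smul_eq_mul, sub_eq_zero]
  calc ∑ i, (-1 : R) ^ (deg i).natAbs *
        LinearMap.trace R (M i) ((LinearMap.proj i) ∘ₗ (φ ∘ₗ ψ) ∘ₗ (LinearMap.single R M i))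
      = ∑ i, ∑ k, (-1 : R) ^ (deg i).natAbs * LinearMap.trace R (M i)
        (((LinearMap.proj i) ∘ₗ φ ∘ₗ (LinearMap.single R M k)) ∘ₗ
          ((LinearMap.proj k) ∘ₗ ψ ∘ₗ (LinearMap.single R M i))) := by
        simp only [L2, map_sum, Finset.mul_sum]
    _ = ∑ i, ∑ k, (-1 : R) ^ (a * b).natAbs * ((-1 : R) ^ (deg k).natAbs *
        LinearMap.trace R (M i)
        (((LinearMap.proj i) ∘ₗ φ ∘ₗ (LinearMap.single R M k)) ∘ₗ
          ((LinearMap.proj k) ∘ₗ ψ ∘ₗ (LinearMap.single R M i)))) :=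
        Finset.sum_congr rfl (fun i _ => Finset.sum_congr rfl (fun k _ => hterm i k))
    _ = ∑ k, ∑ i, (-1 : R) ^ (a * b).natAbs * ((-1 : R) ^ (deg k).natAbs *
        LinearMap.trace R (M i)
        (((LinearMap.proj i) ∘ₗ φ ∘ₗ (LinearMap.single R M k)) ∘ₗ
          ((LinearMap.proj k) ∘ₗ ψ ∘ₗ (LinearMap.single R M i)))) := Finset.sum_comm
    _ = (-1 : R) ^ (a * b).natAbs * ∑ k, (-1 : R) ^ (deg k).natAbs *
        LinearMap.trace R (M k) ((LinearMap.proj k) ∘ₗ (ψ ∘ₗ φ) ∘ₗ (LinearMap.single R M k)) := by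
        simp only [L2, map_sum, Finset.mul_sum, hτ]

end Groth.Agent.S14118
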