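import Groth.Statements.S14175
-- import your own Groth.Agent.* helpers here
import Mathlib

set_option autoImplicit false
universe u v w
open GalCoh

namespace Groth.Agent.S14175

private def Ssum {k V : Type*} [CommRing k] [AddCommGroup V] [Module k V] (T : V →ₗ[k] V)
    (v : V) (i : ℕ) : V :=
  ∑ j ∈ Finset.range i, (T ^ j) v

private lemma Ssum_zero {k V : Type*} [CommRing k] [AddCommGroup V] [Module k V]
    (T : V →ₗ[k] V) (v : V) : Ssum T v 0 = 0 := by
  simp [Ssum]

private lemma Ssum_succ {k V : Type*} [CommRing k] [AddCommGroup V] [Module k V]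
    (T : V →ₗ[k] V) (v : V) (i : ℕ) : Ssum T v (i + 1) = Ssum T v i + (T ^ i) v :=
  Finset.sum_range_succ _ _

private lemma Ssum_add {k V : Type*} [CommRing k] [AddCommGroup V] [Module k V]
    (T : V →ₗ[k] V) (v : V) (i j : ℕ) :
    Ssum T v (i + j) = Ssum T v i + (T ^ i) (Ssum T v j) := by
  unfold Ssum
  rw [Finset.sum_range_add, map_sum]
  congr 1
  apply Finset.sum_congr rfl
  intro x _
  rw [pow_add, Module.End.mul_apply]

private lemma Ssum_tel {k V : Type*} [CommRing k] [AddCommGroup V] [Module k V]
    (T : V →ₗ[k] V) (v : V) (i : ℕ) : T (Ssum T v i) - Ssum T v i = (T ^ i) v - v := by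
  induction i with
  | zero => simp [Ssum]
  | succ i ih =>
    have h1 : (T ^ (i + 1)) v = T ((T ^ i) v) := by rw [pow_succ', Module.End.mul_apply]
    rw [h1, Ssum_succ, map_add, add_sub_add_comm, ih]
    abel

/-- Let G be a finite cyclic group generated by t, let m be a natural number dividing the order of G,
and let ρ be a linear representation of G on a module V over a commutative ring k such that m·V = 0
and every element of G whose m-th power is the identity acts trivially on V. Then evaluating a
crossed homomorphism at t induces a bijection from the first cohomology of G with values in V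
(crossed homomorphisms f, i.e. f(gh) = ρ(g)f(h) + f(g), modulo the principal ones g ↦ ρ(g)x − x)
onto the coinvariants V_G (the quotient of V by the span of all ρ(g)v − v): the class of f(t) in V_G
vanishes exactly when f is principal, and every class of V_G is the class of f(t) for some crossed
homomorphism f. The bijection depends on the choice of the generator t. -/
theorem result
    {k : Type u} {G : Type v} {V : Type w} [CommRing k] [Group G] [Finite G]
    [AddCommGroup V] [Module k V] (ρ : Representation k G V)
    (t : G) (ht : ∀ g : G, g ∈ Subgroup.zpowers t)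
    (m : ℕ) (hm : m ∣ Nat.card G) (htors : ∀ v : V, m • v = 0)
    (htriv : ∀ g : G, g ^ m = 1 → ∀ v : V, ρ g v = v) :
    (∀ f : G → V, (∀ g h : G, f (g * h) = ρ g (f h) + f g) →
        (Representation.Coinvariants.mk ρ (f t) = 0 ↔ ∃ x : V, ∀ g : G, f g = ρ g x - x)) ∧
    (∀ v : V, ∃ f : G → V, (∀ g h : G, f (g * h) = ρ g (f h) + f g) ∧
        Representation.Coinvariants.mk ρ (f t) = Representation.Coinvariants.mk ρ v) := by
  classical
  set T : V →ₗ[k] V := ρ t with hT
  have hρpow : ∀ i : ℕ, ρ (t ^ i) = T ^ i := fun i => map_pow ρ t i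
  have hord : orderOf t = Nat.card G := orderOf_eq_card_of_forall_mem_zpowers ht
  have hexp : ∀ g : G, ∃ i : ℕ, t ^ i = g := by
    intro g
    have h1 := (mem_powers_iff_mem_zpowers).mpr (ht g)
    exact (Submonoid.mem_powers_iff g t).mp h1
  choose e he using hexp
  obtain ⟨c, hc⟩ := hm
  have hTc : T ^ c = 1 := by
    have h1 : (t ^ c) ^ m = 1 := by
      rw [← pow_mul, mul_comm, ← hc, ← hord]
      exact pow_orderOf_eq_one t
    ext v
    rw [← hρpow, Module.End.one_apply]
    exact htriv _ h1 v
  have hSac : ∀ (v : V) (a : ℕ), Ssum T v (a * c) = a • Ssum T v c := by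
    intro v a
    induction a with
    | zero => simp [Ssum_zero]
    | succ a ih =>
      rw [Nat.succ_mul, Ssum_add, ih, pow_mul', hTc, one_pow, Module.End.one_apply, succ_nsmul]
  have hSN : ∀ v, Ssum T v (Nat.card G) = 0 := by
    intro v
    rw [hc, hSac, htors]
  have hSaN : ∀ (v : V) (a : ℕ), Ssum T v (a * Nat.card G) = 0 := by
    intro v a
    induction a with
    | zero => simp [Ssum_zero]
    | succ a ih => rw [Nat.succ_mul, Ssum_add, ih, hSN, map_zero, add_zero]
  have hSmod : ∀ (v : V) (i j : ℕ), i ≡ j [MOD Nat.card G] → Ssum T v i = Ssum T v j := by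
    have h1 : ∀ (v : V) (i : ℕ), Ssum T v i = Ssum T v (i % Nat.card G) := by
      intro v i
      conv_lhs => rw [← Nat.mod_add_div i (Nat.card G)]
      rw [Ssum_add, mul_comm, hSaN, map_zero, add_zero]
    intro v i j hij
    have h2 : i % Nat.card G = j % Nat.card G := hij
    rw [h1 v i, h1 v j, h2]
  have hcoc : ∀ f : G → V, (∀ g h : G, f (g * h) = ρ g (f h) + f g) →
      ∀ i : ℕ, f (t ^ i) = Ssum T (f t) i := by
    intro f hf i
    induction i with
    | zero =>
      have h1 := hf 1 1
      rw [mul_one, map_one, Module.End.one_apply] at h1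
      have h2 : f 1 = 0 := by simpa using h1
      rw [pow_zero, h2, Ssum_zero]
    | succ i ih =>
      rw [pow_succ, hf, ih, hρpow, Ssum_succ, add_comm]
  have part2 : ∀ v : V, ∃ f : G → V, (∀ g h, f (g * h) = ρ g (f h) + f g) ∧ f t = v := by
    intro v
    refine ⟨fun g => Ssum T v (e g), ?_, ?_⟩
    · intro g h
      have h1 : e (g * h) ≡ e g + e h [MOD Nat.card G] := by
        rw [← hord, ← pow_eq_pow_iff_modEq, pow_add, he, he, he]
      show Ssum T v (e (g * h)) = ρ g (Ssum T v (e h)) + Ssum T v (e g)
      rw [hSmod v _ _ h1, Ssum_add, add_comm]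
      congr 1
      rw [← hρpow, he]
    · show Ssum T v (e t) = v
      have h1 : e t ≡ 1 [MOD Nat.card G] := by
        rw [← hord, ← pow_eq_pow_iff_modEq, he, pow_one]
      rw [hSmod v _ _ h1]
      simp [Ssum]
  refine ⟨?_, fun v => ?_⟩
  · intro f hf
    constructor
    · intro h0
      have h1 : f t ∈ Representation.Coinvariants.ker ρ :=
        (Representation.Coinvariants.mk_eq_zero ρ).mp h0
      have hle : Representation.Coinvariants.ker ρ ≤ LinearMap.range (T - 1) := by
        apply Submodule.span_le.mpr
        rintro _ ⟨⟨g, x⟩, rfl⟩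
        refine ⟨Ssum T x (e g), ?_⟩
        show (T - 1) (Ssum T x (e g)) = ρ g x - x
        rw [LinearMap.sub_apply, Module.End.one_apply, Ssum_tel, ← hρpow, he]
      obtain ⟨y, hy⟩ := hle h1
      refine ⟨y, fun g => ?_⟩
      have hf' : ∀ g h : G, (fun g => ρ g y - y) (g * h) =
          ρ g ((fun g => ρ g y - y) h) + (fun g => ρ g y - y) g := by
        intro g h
        simp only [map_mul, Module.End.mul_apply, map_sub]
        abel
      have e1 := hcoc f hf (e g)
      have e2 : ρ g y - y = Ssum T (ρ t y - y) (e g) := by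
        have h3 := hcoc (fun g => ρ g y - y) hf' (e g)
        rw [he] at h3
        exact h3
      rw [he] at e1
      rw [e1, e2]
      congr 1
      rw [← hy, LinearMap.sub_apply, Module.End.one_apply]
    · rintro ⟨x, hx⟩
      rw [hx t]
      exact (Representation.Coinvariants.mk_eq_zero ρ).mpr
        (Representation.Coinvariants.sub_mem_ker t x)
  · obtain ⟨f, hf, hft⟩ := part2 v
    exact ⟨f, hf, by rw [hft]⟩

end Groth.Agent.S14175
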