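import Groth.Statements.S14181
-- import your own Groth.Agent.* helpers here
import Mathlib

set_option autoImplicit false
universe u
open CategoryTheory
open GalCoh

namespace Groth.Agent.S14181

open groupCohomology Rep Representation

set_option backward.defeqAttrib.useBackward true in
set_option backward.isDefEq.respectTransparency false in
lemma exists_descend {k G : Type u} [CommRing k] [Group G] (A : Rep.{u} k G) (S : Subgroup G)
    [S.Normal] (x : cocycles₁ A) (y : A) (h2 : ∀ s ∈ S, x s = A.ρ s y - y) :
    ∃ z : cocycles₁ (A.quotientToInvariants S),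
      ∀ g : G, ((z (g : G ⧸ S)) : A) = x g - A.ρ g y + y := by
  have h1 := (mem_cocycles₁_iff x).1 x.2
  refine ⟨⟨fun g => Quotient.liftOn' g (fun g => ⟨x.1 g - A.ρ g y + y, ?_⟩) ?_, ?_⟩, ?_⟩
  · intro s
    calc
      _ = x (s * g) - x s - A.ρ s (A.ρ g y) + (x s + y) := by
        simp [add_eq_of_eq_sub (h2 s s.2), sub_eq_of_eq_add (h1 s g)]
      _ = x (g * (g⁻¹ * s * g)) - A.ρ g (A.ρ (g⁻¹ * s * g) y - y) - A.ρ g y + y := by
        simp only [mul_assoc, mul_inv_cancel_left, map_mul, Module.End.mul_apply, map_sub,
          Representation.self_inv_apply]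
        abel
      _ = x g - A.ρ g y + y := by
        simp [eq_sub_of_add_eq' (h1 g (g⁻¹ * s * g)).symm,
          h2 (g⁻¹ * s * g) (Subgroup.Normal.conj_mem' ‹_› _ s.2 _)]
  · intro g h hgh
    have := congr(A.ρ g $(h2 (g⁻¹ * h) <| QuotientGroup.leftRel_apply.1 hgh))
    simp_all [← sub_eq_add_neg, sub_eq_sub_iff_sub_eq_sub]
  · rw [mem_cocycles₁_iff]
    intro g h
    induction g using QuotientGroup.induction_on with | @H g =>
    induction h using QuotientGroup.induction_on with | @H h =>
    apply Subtype.ext
    simp [← QuotientGroup.mk_mul, h1 g h, sub_add_eq_add_sub, add_assoc]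
  · intro g
    rfl

lemma key_h2 {k G : Type u} [CommRing k] [Group G] (A : Rep.{u} k G) (P : Subgroup G) [Fintype P]
    (hinj : Function.Injective fun a : A => (Fintype.card P : k) • a)
    (x : cocycles₁ A) (y : A) (hy : (Fintype.card P : k) • y = - ∑ q : P, x (q : G)) :
    ∀ s ∈ P, x s = A.ρ s y - y := by
  intro s hs
  have h1 := (mem_cocycles₁_iff x).1 x.2
  have hre : ∑ q : P, x ((s : G) * (q : G)) = ∑ q : P, x (q : G) := by
    have h0 := Equiv.sum_comp (Equiv.mulLeft (⟨s, hs⟩ : P)) (fun q : P => x (q : G))
    simpa using h0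
  have hsum : ∑ q : P, x ((s : G) * (q : G)) =
      A.ρ s (∑ q : P, x (q : G)) + (Fintype.card P : k) • x s := by
    simp only [h1, Finset.sum_add_distrib, map_sum, Finset.sum_const, Finset.card_univ,
      Nat.cast_smul_eq_nsmul]
  apply hinj
  show (Fintype.card P : k) • x s = (Fintype.card P : k) • (A.ρ s y - y)
  rw [smul_sub, ← LinearMap.map_smul (A.ρ s), hy, map_neg]
  have h3 : (Fintype.card P : k) • x s =
      ∑ q : P, x (q : G) - A.ρ s (∑ q : P, x (q : G)) := by
    rw [eq_sub_iff_add_eq, add_comm, ← hsum, hre]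
  rw [h3]; abel

/-- Let G be a group with a finite normal subgroup P, k a commutative ring and A a k-linear
representation of G such that multiplication by the order of P is a bijection of A. Then the
inflation map on 1-cocycles (crossed homomorphisms) Z¹(G/P, A^P) → Z¹(G, A) has a k-linear left
inverse. (The published statement is for the inertia group of a Galois cover of smooth curves at a
point, its normal Sylow p-subgroup P and a module of n-torsion with n prime to p; the argument uses
only that the order of P acts invertibly, which is the hypothesis taken here.) -/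
theorem result
    {k G : Type u} [CommRing k] [Group G] (A : Rep.{u} k G) (P : Subgroup G) [P.Normal] [Finite P]
    (hP : Function.Bijective fun a : A => (Nat.card P : k) • a) :
    ∃ r : ModuleCat.of k (groupCohomology.cocycles₁ A) ⟶
        ModuleCat.of k (groupCohomology.cocycles₁ (A.quotientToInvariants P)),
      (groupCohomology.mapCocycles₁ (QuotientGroup.mk' P) (Rep.ofHom (A.ρ.quotientToInvariants_lift P)) :
          ModuleCat.of k (groupCohomology.cocycles₁ (A.quotientToInvariants P)) ⟶
            ModuleCat.of k (groupCohomology.cocycles₁ A)) ≫ r = 𝟙 _ := by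
  classical
  haveI : Fintype P := Fintype.ofFinite P
  rw [Nat.card_eq_fintype_card] at hP
  let L : A →ₗ[k] A := (Fintype.card P : k) • LinearMap.id
  have hL : Function.Bijective L := hP
  let Leq : A ≃ₗ[k] A := LinearEquiv.ofBijective L hL
  let Ylin : (G → A) →ₗ[k] A := -(Leq.symm.toLinearMap ∘ₗ ∑ q : P, LinearMap.proj (q : G))
  have hY : ∀ x : G → A, (Fintype.card P : k) • Ylin x = -∑ q : P, x q := by
    intro x
    simp only [Ylin, LinearMap.neg_apply, LinearMap.comp_apply, smul_neg, LinearMap.sum_apply,
      LinearMap.proj_apply, LinearEquiv.coe_coe]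
    congr 1
    exact Leq.apply_symm_apply _
  have h2 : ∀ x : cocycles₁ A, ∀ s ∈ P, x s = A.ρ s (Ylin x) - Ylin x :=
    fun x => key_h2 A P hP.1 x (Ylin x) (hY x)
  choose r hr using fun x : cocycles₁ A => exists_descend A P x (Ylin x) (h2 x)
  have hadd : ∀ x x', r (x + x') = r x + r x' := by
    intro x x'
    apply cocycles₁_ext
    intro g
    induction g using QuotientGroup.induction_on with | @H g =>
    apply Subtype.ext
    have e1 : ((r x + r x') (g : G ⧸ P) : A) =
        (r x (g : G ⧸ P) : A) + (r x' (g : G ⧸ P) : A) := rfl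
    rw [e1, hr, hr, hr]
    have e2 : ⇑(x + x') = ⇑x + ⇑x' := rfl
    rw [e2, map_add, map_add, Pi.add_apply]
    abel
  have hsmul : ∀ (c : k) x, r (c • x) = c • r x := by
    intro c x
    apply cocycles₁_ext
    intro g
    induction g using QuotientGroup.induction_on with | @H g =>
    apply Subtype.ext
    have e1 : ((c • r x) (g : G ⧸ P) : A) = c • (r x (g : G ⧸ P) : A) := rfl
    rw [e1, hr, hr]
    have e2 : ⇑(c • x) = c • ⇑x := rfl
    rw [e2, map_smul, map_smul, Pi.smul_apply, smul_add, smul_sub]
  let rlin : cocycles₁ A →ₗ[k] cocycles₁ (A.quotientToInvariants P) :=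
    { toFun := r, map_add' := hadd, map_smul' := fun c x => hsmul c x }
  refine ⟨ModuleCat.ofHom rlin, ?_⟩
  refine ModuleCat.hom_ext (LinearMap.ext fun h => ?_)
  show r (mapCocycles₁ (QuotientGroup.mk' P) (Rep.ofHom (A.ρ.quotientToInvariants_lift P)) h) = h
  apply cocycles₁_ext
  intro g
  induction g using QuotientGroup.induction_on with | @H g =>
  apply Subtype.ext
  rw [hr]
  have hq : ∀ q : P, (mapCocycles₁ (QuotientGroup.mk' P)
      (Rep.ofHom (A.ρ.quotientToInvariants_lift P)) h) (q : G) = 0 := by
    intro q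
    show ((h ((q : G) : G ⧸ P)) : A) = 0
    rw [(QuotientGroup.eq_one_iff (q : G)).2 q.2, cocycles₁_map_one]
    rfl
  have hY0 : Ylin ⇑(mapCocycles₁ (QuotientGroup.mk' P)
      (Rep.ofHom (A.ρ.quotientToInvariants_lift P)) h) = 0 := by
    apply hP.1
    show (Fintype.card P : k) • Ylin _ = (Fintype.card P : k) • 0
    rw [hY, smul_zero, Finset.sum_eq_zero (fun q _ => hq q), neg_zero]
  rw [hY0, map_zero, sub_zero, add_zero]
  rfl

end Groth.Agent.S14181
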