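import Groth.Statements.S14192
import Mathlib
import Groth.Agent.Lib.helper1.PSExp

set_option autoImplicit false
open PowerSeries
open StackCount

namespace Groth.Agent.S14192

/-- Let R = Σ_n r_n X^n be a Laurent polynomial with integer coefficients and q > 1 an integer. In the
ring of formal power series in t over ℚ, the exponential of Σ_{v ≥ 1} R(q^v) t^v / v equals the
finite product Π_n (1 - q^n t)^(-r_n). Stated here with denominators cleared: the exponential series
multiplied by Π_{n : r_n > 0} (1 - q^n t)^(r_n) equals Π_{n : r_n < 0} (1 - q^n t)^(-r_n) (each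
factor 1 - q^n t is a unit, so this is equivalent). -/
theorem result (R : LaurentPolynomial ℤ) (q : ℤ) (hq : 1 < q) :
    (PowerSeries.exp ℚ).subst
        (PowerSeries.mk fun v : ℕ => if v = 0 then (0 : ℚ)
          else (R.coeff.sum fun (n : ℤ) (r : ℤ) => (r : ℚ) * (q : ℚ) ^ (n * (v : ℤ))) / (v : ℚ))
      * ∏ n ∈ R.coeff.support, (1 - PowerSeries.C ((q : ℚ) ^ n) * PowerSeries.X) ^ (R.coeff n).toNat
    = ∏ n ∈ R.coeff.support, (1 - PowerSeries.C ((q : ℚ) ^ n) * PowerSeries.X) ^ (-(R.coeff n)).toNat := by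
  have hexp : (PowerSeries.mk fun v : ℕ => if v = 0 then (0 : ℚ)
          else (R.coeff.sum fun (n : ℤ) (r : ℤ) => (r : ℚ) * (q : ℚ) ^ (n * (v : ℤ))) / (v : ℚ))
      = ∑ n ∈ R.coeff.support, ((R.coeff n : ℤ) : ℚ) • Helper1.PSExp.L ((q : ℚ) ^ n) := by
    ext v
    rw [PowerSeries.coeff_mk, Helper1.PSExp.coeff_sum_L]
    split_ifs with hv
    · rfl
    · congr 1
      unfold Finsupp.sum
      refine Finset.sum_congr rfl fun n _ => ?_
      show ((R.coeff n : ℤ) : ℚ) * (q : ℚ) ^ (n * (v : ℤ)) = _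
      rw [zpow_mul, zpow_natCast]
  rw [hexp]
  exact Helper1.PSExp.main R.coeff.support (fun n => R.coeff n) (fun n => (q : ℚ) ^ n)

end Groth.Agent.S14192
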