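import Groth.Statements.S14205
import Groth.Agent.Lib.helper6.Period

set_option autoImplicit false
universe u v
open scoped TensorProduct
open Brauer

namespace Groth.Agent.S14205

/-- Let A be a finite-dimensional central simple algebra over a field k with period p: p is the least
positive integer for which the p-fold tensor power of A over k is a full matrix algebra over k. Then
for every r ≥ 1 the r-fold tensor power of A has period p / gcd(p, r) (the order of the r-th
multiple of an element of order p). -/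
theorem result (k : Type u) [Field k] (A : Type v) [Ring A] [Algebra k A]
    [Algebra.IsCentral k A] [IsSimpleRing A] [FiniteDimensional k A] (p : ℕ)
    (hp : CSAGal.IsPeriod k A p) (r : ℕ) (hr : 0 < r) :
    CSAGal.IsPeriod k (CSAGal.tpow k A r) (p / Nat.gcd p r) := by
  classical
  obtain ⟨hp0, hsp, hmin⟩ := hp
  have key := H6Per.period_dvd_iff k A p hp0 ((H6Per.splits_iff _).mp hsp)
    (fun e' h1 h2 h3 => hmin e' h1 h2 ((H6Per.splits_iff _).mpr h3))
  have key2 : ∀ s : ℕ, 1 ≤ s →
      (Curves.Splits k (CSAGal.tpow k (CSAGal.tpow k A r) s) k ↔ p ∣ r * s) := by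
    intro s hs
    obtain ⟨f⟩ := H6Per.tpow_tpow k A r s hs
    rw [H6Per.splits_iff, H6Per.sp_congr f]
    exact key (r * s) (Nat.mul_pos hr hs)
  obtain ⟨g, hgdef⟩ : ∃ g, g = Nat.gcd p r := ⟨_, rfl⟩
  rw [← hgdef]
  have hg : 0 < g := by rw [hgdef]; exact Nat.gcd_pos_of_pos_left r hp0
  obtain ⟨p', hp'⟩ : g ∣ p := by rw [hgdef]; exact Nat.gcd_dvd_left p r
  obtain ⟨r', hr'⟩ : g ∣ r := by rw [hgdef]; exact Nat.gcd_dvd_right p r
  have hdivp : p / g = p' := by rw [hp']; exact Nat.mul_div_cancel_left p' hg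
  have hdivr : r / g = r' := by rw [hr']; exact Nat.mul_div_cancel_left r' hg
  have hcop : Nat.Coprime p' r' := by
    have h := Nat.coprime_div_gcd_div_gcd (m := p) (n := r) (by rw [← hgdef]; exact hg)
    rw [← hgdef, hdivp, hdivr] at h
    exact h
  have hp'0 : 0 < p' := by
    rcases Nat.eq_zero_or_pos p' with h | h
    · rw [h, mul_zero] at hp'; omega
    · exact h
  rw [hdivp]
  refine ⟨hp'0, (key2 p' hp'0).mpr ?_, ?_⟩
  · refine ⟨r', ?_⟩
    rw [hr']
    conv_rhs => rw [hp']
    ring
  · intro s hs hlt hsplit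
    have h1 := (key2 s hs).mp hsplit
    have h2 : g * p' ∣ g * (r' * s) := by
      have e1 : r * s = g * (r' * s) := by rw [hr']; ring
      rw [← hp', ← e1]; exact h1
    have h3 : p' ∣ r' * s := (Nat.mul_dvd_mul_iff_left hg).mp h2
    have h4 : p' ∣ s := hcop.dvd_of_dvd_mul_left h3
    exact absurd (Nat.le_of_dvd hs h4) (not_le.mpr hlt)

end Groth.Agent.S14205
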