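import Groth.Statements.S14211
import Groth.Agent.Lib.helper6.QuatDiv
import Groth.Agent.Lib.helper6.PerInd
import Groth.Agent.S0193

set_option autoImplicit false
universe u v
open scoped TensorProduct
open Brauer

namespace Groth.Agent.S14211

/-- Let k be a field in which 2 ≠ 0 and A a finite-dimensional central simple k-algebra. Then A has
period 2 and index 2 (its Severi–Brauer variety has type (2, 2, 2m)) if and only if A is isomorphic
over k to a matrix algebra M_m(Q), m ≥ 1, over a quaternion algebra Q = (a, b)_k (the k-algebra with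
basis 1, i, j, ij, i² = a, j² = b, ij = −ji) which is a division ring; moreover such a quaternion
algebra is unique up to k-isomorphism. -/
theorem result (k : Type u) [Field k] (h2 : (2 : k) ≠ 0)
    (A : Type v) [Ring A] [Algebra k A] [Algebra.IsCentral k A] [IsSimpleRing A]
    [FiniteDimensional k A] :
    ((CSAGal.IsPeriod k A 2 ∧ CSAGal.IsIndex k A 2) ↔
      ∃ (a b : k) (m : ℕ), 0 < m ∧ (∀ x : QuaternionAlgebra k a 0 b, x ≠ 0 → IsUnit x) ∧
        Nonempty (A ≃ₐ[k] Matrix (Fin m) (Fin m) (QuaternionAlgebra k a 0 b))) ∧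
    (∀ (a b a' b' : k) (m m' : ℕ),
      (∀ x : QuaternionAlgebra k a 0 b, x ≠ 0 → IsUnit x) →
      (∀ x : QuaternionAlgebra k a' 0 b', x ≠ 0 → IsUnit x) →
      Nonempty (A ≃ₐ[k] Matrix (Fin m) (Fin m) (QuaternionAlgebra k a 0 b)) →
      Nonempty (A ≃ₐ[k] Matrix (Fin m') (Fin m') (QuaternionAlgebra k a' 0 b')) →
      Nonempty (QuaternionAlgebra k a 0 b ≃ₐ[k] QuaternionAlgebra k a' 0 b')) := by
  classical
  have key : ∀ (a b : k) (m : ℕ),
      Nonempty (A ≃ₐ[k] Matrix (Fin m) (Fin m) (QuaternionAlgebra k a 0 b)) →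
      m ≠ 0 ∧ Algebra.IsCentral k (QuaternionAlgebra k a 0 b) ∧
        FiniteDimensional k (QuaternionAlgebra k a 0 b) := by
    rintro a b m ⟨iso⟩
    have hm : m ≠ 0 := by
      rintro rfl
      haveI : Subsingleton A := iso.toEquiv.subsingleton
      exact not_subsingleton A ‹_›
    haveI : NeZero m := ⟨hm⟩
    haveI : Algebra.IsCentral k (Matrix (Fin m) (Fin m) (QuaternionAlgebra k a 0 b)) :=
      H6CSA.central_of_algEquiv iso
    refine ⟨hm, H6Br.central_of_matrix_central m, ?_⟩
    exact Module.finite_of_finrank_pos (by rw [QuaternionAlgebra.finrank_eq_four]; norm_num)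
  refine ⟨⟨?_, ?_⟩, ?_⟩
  · rintro ⟨_, hd0, m, D, instD, instAlgD, hm, hfr, ⟨iso⟩⟩
    haveI : NeZero m := ⟨hm.ne'⟩
    haveI : FiniteDimensional k D := Module.finite_of_finrank_pos (by rw [hfr]; norm_num)
    haveI : Algebra.IsCentral k (Matrix (Fin m) (Fin m) D) := H6CSA.central_of_algEquiv iso
    haveI : Algebra.IsCentral k D := H6Br.central_of_matrix_central m
    obtain ⟨a, b, ⟨f⟩⟩ := H6Quat.exists_quaternion_equiv k h2 D hfr
    refine ⟨a, b, m, hm, ?_, ⟨iso.trans f.symm.mapMatrix⟩⟩
    intro x hx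
    have hfx : f x ≠ 0 := fun h => hx (by rw [← map_zero f] at h; exact f.injective h)
    have hu : IsUnit (f x) := IsUnit.mk0 _ hfx
    have hu2 := hu.map f.symm
    rwa [AlgEquiv.symm_apply_apply] at hu2
  · rintro ⟨a, b, m, hm, hu, ⟨iso⟩⟩
    obtain ⟨hm0, hcen, hfin⟩ := key a b m ⟨iso⟩
    haveI := hcen
    haveI := hfin
    letI : DivisionRing (QuaternionAlgebra k a 0 b) :=
      DivisionRing.ofIsUnitOrEqZero (fun x => by
        by_cases hx : x = 0
        · exact Or.inr hx
        · exact Or.inl (hu x hx))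
    have hfr : Module.finrank k (QuaternionAlgebra k a 0 b) = 2 ^ 2 := by
      rw [QuaternionAlgebra.finrank_eq_four]; norm_num
    have hT2 : Curves.Splits k (CSAGal.tpow k A 2) k :=
      (H6Per.splits_iff _).mpr
        (H6PI2.splits_tpow_index k A (QuaternionAlgebra k a 0 b) m hm0 iso 2 hfr)
    have hnot1 : ¬ Curves.Splits k (CSAGal.tpow k A 1) k := by
      intro hs
      obtain ⟨n, hn, ⟨g⟩⟩ := (H6Per.splits_iff _).mp hs
      have e1 : Matrix (Fin m) (Fin m) (QuaternionAlgebra k a 0 b) ≃ₐ[k]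
          Matrix (Fin n) (Fin n) k :=
        iso.symm.trans ((H6TPow.oneEquiv k A).symm.trans g)
      obtain ⟨e2⟩ := Groth.Agent.S0193.result k (QuaternionAlgebra k a 0 b) k m n hm0 hn e1
      have h3 := e2.toLinearEquiv.finrank_eq
      rw [hfr, Module.finrank_self] at h3
      norm_num at h3
    refine ⟨⟨by norm_num, hT2, ?_⟩, ?_⟩
    · intro e' he' he2
      have h1 : e' = 1 := by omega
      subst h1
      exact hnot1
    · haveI : Small.{v} (QuaternionAlgebra k a 0 b) :=
        H6Br.small_of_finite (k := k) A (QuaternionAlgebra k a 0 b)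
      have φ : Shrink.{v} (QuaternionAlgebra k a 0 b) ≃ₐ[k] QuaternionAlgebra k a 0 b :=
        Shrink.algEquiv k _
      refine ⟨by norm_num, m, Shrink.{v} (QuaternionAlgebra k a 0 b), inferInstance,
        inferInstance, Nat.pos_of_ne_zero hm0, ?_, ⟨iso.trans φ.symm.mapMatrix⟩⟩
      rw [φ.toLinearEquiv.finrank_eq, hfr]
  · rintro a b a' b' m m' hu hu' ⟨iso⟩ ⟨iso'⟩
    obtain ⟨hm0, hcen, hfin⟩ := key a b m ⟨iso⟩
    obtain ⟨hm0', hcen', hfin'⟩ := key a' b' m' ⟨iso'⟩
    haveI := hcen
    haveI := hfin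
    haveI := hcen'
    haveI := hfin'
    letI : DivisionRing (QuaternionAlgebra k a 0 b) :=
      DivisionRing.ofIsUnitOrEqZero (fun x => by
        by_cases hx : x = 0
        · exact Or.inr hx
        · exact Or.inl (hu x hx))
    letI : DivisionRing (QuaternionAlgebra k a' 0 b') :=
      DivisionRing.ofIsUnitOrEqZero (fun x => by
        by_cases hx : x = 0
        · exact Or.inr hx
        · exact Or.inl (hu' x hx))
    exact Groth.Agent.S0193.result k (QuaternionAlgebra k a 0 b) (QuaternionAlgebra k a' 0 b')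
      m m' hm0 hm0' (iso.symm.trans iso')

end Groth.Agent.S14211
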