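import Groth.Statements.S14262
-- import your own Groth.Agent.* helpers here
import Mathlib

set_option autoImplicit false
universe u
open FrobAlg

namespace Groth.Agent.S14262

/-- Let p be a prime, A a perfect ring of characteristic p and f ∈ A. The radical of the principal ideal
(f) — equivalently the ideal generated by all p^n-th roots of f, n ≥ 0 — is a flat A-module. -/
theorem result (p : ℕ) [Fact p.Prime] (A : Type u) [CommRing A]
    [CharP A p] [PerfectRing A p] (f : A) :
    Module.Flat A ((Ideal.span {f}).radical) := by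
  classical
  apply Module.Flat.of_forall_isTrivialRelation
  intro l a x hax
  have hp2 : 2 ≤ p := (Fact.out : p.Prime).two_le
  have hm : ∀ i, ∃ m, ((x i : A)) ^ m ∈ Ideal.span {f} := fun i => (x i).2
  choose m hm using hm
  obtain ⟨n, hn⟩ : ∃ n, n = ∑ i, m i := ⟨_, rfl⟩
  have hpow : ∀ i, ((x i : A)) ^ (p ^ n) ∈ Ideal.span {f} := by
    intro i
    refine Ideal.pow_mem_of_pow_mem _ (hm i) ?_
    calc m i ≤ n := by
          rw [hn]
          exact Finset.single_le_sum (fun _ _ => Nat.zero_le _) (Finset.mem_univ i)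
      _ ≤ p ^ n := (Nat.lt_pow_self (Fact.out : p.Prime).one_lt).le
  let φ := iterateFrobeniusEquiv A p n
  have hφ : ∀ y, φ y = y ^ p ^ n := fun y => rfl
  obtain ⟨F, hF⟩ : ∃ F, F = φ.symm f := ⟨_, rfl⟩
  have hFf : F ^ p ^ n = f := by rw [← hφ, hF, RingEquiv.apply_symm_apply]
  have hc : ∀ i, ∃ c, (x i : A) = c * F := by
    intro i
    obtain ⟨c, hc⟩ := Ideal.mem_span_singleton'.mp (hpow i)
    refine ⟨φ.symm c, ?_⟩
    apply φ.injective
    rw [map_mul, RingEquiv.apply_symm_apply, hF, RingEquiv.apply_symm_apply, hφ, hc]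
  choose c hc using hc
  obtain ⟨G, hG⟩ : ∃ G, G = (frobeniusEquiv A p).symm F := ⟨_, rfl⟩
  have hGF : G ^ p = F := by rw [hG]; exact frobeniusEquiv_symm_pow_p A p F
  have hGI : G ∈ (Ideal.span {f}).radical := by
    refine ⟨p * p ^ n, ?_⟩
    rw [pow_mul, hGF, hFf]
    exact Ideal.mem_span_singleton_self f
  have hred : ∀ y : A, y ^ p = 0 → y = 0 := by
    intro y hy
    apply (frobeniusEquiv A p).injective
    rw [frobeniusEquiv_def, map_zero, hy]
  obtain ⟨s, hs⟩ : ∃ s, s = ∑ i, a i * c i := ⟨_, rfl⟩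
  have hsF : s * F = 0 := by
    have h1 : (((∑ i, a i • x i : ↥((Ideal.span {f}).radical)) : A)) = 0 := by rw [hax]; rfl
    rw [Submodule.coe_sum] at h1
    rw [hs, Finset.sum_mul, ← h1]
    apply Finset.sum_congr rfl
    intro i _
    rw [Submodule.coe_smul, smul_eq_mul, hc i, mul_assoc]
  have hpp : ∀ y : A, y ^ p = y ^ (p - 1) * y := by
    intro y
    rw [← pow_succ, Nat.sub_add_cancel (by omega)]
  have hsG : s * G = 0 := by
    apply hred
    rw [mul_pow, hGF, hpp s, mul_assoc, hsF, mul_zero]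
  refine ⟨1, fun i _ => c i * G ^ (p - 1), fun _ => ⟨G, hGI⟩, ?_, ?_⟩
  · intro i
    rw [Fin.sum_univ_one]
    apply Subtype.ext
    rw [Submodule.coe_smul, smul_eq_mul, hc i]
    show c i * F = c i * G ^ (p - 1) * G
    rw [mul_assoc, ← hpp, hGF]
  · intro j
    have h2 : ∑ i, a i * (c i * G ^ (p - 1)) = s * G ^ (p - 1) := by
      rw [hs, Finset.sum_mul]; apply Finset.sum_congr rfl; intro i _; ring
    rw [h2]
    have h3 : G ^ (p - 1) = G * G ^ (p - 2) := by
      rw [← pow_succ']
      congr 1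
      omega
    rw [h3, ← mul_assoc, hsG, zero_mul]

end Groth.Agent.S14262
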