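import Groth.Statements.S14271
-- import your own Groth.Agent.* helpers here
import Mathlib

set_option autoImplicit false
universe u
open FlatPur

namespace Groth.Agent.S14271

lemma algL {R L : Type*} [CommRing R] [CommRing L] [IsLocalRing L] [Algebra R L] (p : Ideal R) [p.IsPrime]
    [IsLocalization.AtPrime L p] (s : R)
    (hmin : p ∈ Ideal.minimalPrimes (LinearMap.ker (LinearMap.toSpanSingleton R R s)))
    (a : L) (ha : a ∈ IsLocalRing.maximalIdeal L) (hreg : IsSMulRegular L a) : False := by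
  have memI : ∀ r : R, r ∈ LinearMap.ker (LinearMap.toSpanSingleton R R s) ↔ r * s = 0 := by
    intro r
    simp [LinearMap.mem_ker, LinearMap.toSpanSingleton_apply]
  obtain ⟨⟨r, t⟩, hrt⟩ := IsLocalization.surj p.primeCompl a
  simp only at hrt
  have hrp : r ∈ p := by
    rw [← IsLocalization.AtPrime.to_map_mem_maximal_iff L p r inferInstance, ← hrt]
    exact Ideal.mul_mem_right _ _ ha
  have key : ∃ (u : R) (N : ℕ), u ∉ p ∧ u * r ^ N ∈ LinearMap.ker (LinearMap.toSpanSingleton R R s) := by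
    by_contra hcon
    push Not at hcon
    have hdisj : Disjoint ((LinearMap.ker (LinearMap.toSpanSingleton R R s) : Ideal R) : Set R)
        ((p.primeCompl ⊔ Submonoid.powers r : Submonoid R) : Set R) := by
      rw [Set.disjoint_left]
      intro x hxI hxS
      obtain ⟨y, hy, z, ⟨N, rfl⟩, rfl⟩ := Submonoid.mem_sup.mp hxS
      exact hcon y N hy hxI
    obtain ⟨q, hq, hIq, hqS⟩ := Ideal.exists_le_prime_disjoint _ _ hdisj
    have hqp : q ≤ p := by
      intro x hxq
      by_contra hxp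
      exact Set.disjoint_left.mp hqS hxq (Submonoid.mem_sup_left hxp)
    have hpq : p ≤ q := hmin.2 ⟨hq, hIq⟩ hqp
    exact Set.disjoint_left.mp hqS (hpq hrp) (Submonoid.mem_sup_right (Submonoid.mem_powers r))
  obtain ⟨u, N, hu, huI⟩ := key
  rw [memI] at huI
  have h1 : algebraMap R L u * ((algebraMap R L r) ^ N * algebraMap R L s) = 0 := by
    rw [← map_pow, ← map_mul, ← map_mul, ← mul_assoc, huI, map_zero]
  have hu' : IsUnit (algebraMap R L u) := IsLocalization.map_units L (⟨u, hu⟩ : p.primeCompl)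
  have ht' : IsUnit (algebraMap R L t) := IsLocalization.map_units L t
  have h2 : (algebraMap R L r) ^ N * algebraMap R L s = 0 := (hu'.mul_right_eq_zero).mp h1
  rw [← hrt, mul_pow, mul_assoc] at h2
  have h3 : (algebraMap R L t) ^ N * algebraMap R L s = 0 := by
    have hregN : IsSMulRegular L (a ^ N) := hreg.pow N
    apply hregN
    show a ^ N * _ = a ^ N * 0
    rw [mul_zero]; exact h2
  have h4 : algebraMap R L s = 0 := ((ht'.pow N).mul_right_eq_zero).mp h3
  obtain ⟨v, hv⟩ := (IsLocalization.map_eq_zero_iff p.primeCompl L s).mp h4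
  exact v.2 (hmin.1.2 ((memI _).mpr hv))

open AlgebraicGeometry CategoryTheory in
lemma geomL (X : Scheme.{u}) (U : X.Opens)
    (hZ : ∀ z : X, z ∉ U → ∃ a ∈ IsLocalRing.maximalIdeal (X.presheaf.stalk z),
      IsSMulRegular (X.presheaf.stalk z) a)
    {E : Scheme.{u}} (e : E ⟶ X) (l : (U : Scheme.{u}) ⟶ E) (hl : l ≫ e = U.ι)
    (W : X.affineOpens) (s : Γ(X, W.1)) (hs : (e.app W.1).hom s = 0) : s = 0 := by
  by_contra hs0
  have memI : ∀ r : Γ(X, W.1), r ∈ LinearMap.ker (LinearMap.toSpanSingleton Γ(X, W.1) Γ(X, W.1) s) ↔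
      r * s = 0 := by
    intro r
    simp [LinearMap.mem_ker, LinearMap.toSpanSingleton_apply]
  have hItop : LinearMap.ker (LinearMap.toSpanSingleton Γ(X, W.1) Γ(X, W.1) s) ≠ ⊤ := by
    intro h
    have h1 : (1 : Γ(X, W.1)) ∈ LinearMap.ker (LinearMap.toSpanSingleton Γ(X, W.1) Γ(X, W.1) s) :=
      h ▸ Submodule.mem_top
    rw [memI, one_mul] at h1
    exact hs0 h1
  obtain ⟨⟨p, hp⟩⟩ := Ideal.nonempty_minimalPrimes hItop
  haveI : p.IsPrime := hp.1.1
  obtain ⟨y, hy⟩ : ∃ y : PrimeSpectrum Γ(X, W.1), y.asIdeal = p := ⟨⟨p, hp.1.1⟩, rfl⟩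
  subst hy
  have hzW : W.2.fromSpec y ∈ W.1 := by
    have := W.2.range_fromSpec
    rw [← SetLike.mem_coe, ← this]; exact ⟨y, rfl⟩
  letI : Algebra Γ(X, W.1) (X.presheaf.stalk (W.2.fromSpec y)) :=
    TopCat.Presheaf.algebra_section_stalk X.presheaf ⟨W.2.fromSpec y, hzW⟩
  haveI : IsLocalization.AtPrime (X.presheaf.stalk (W.2.fromSpec y)) y.asIdeal :=
    W.2.isLocalization_stalk' y hzW
  by_cases hzU : W.2.fromSpec y ∈ U
  · have aux : ∀ (g : (U : Scheme.{u}) ⟶ X), l ≫ e = g → (g.app W.1).hom s = 0 := by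
      rintro g rfl
      show (l.app (e ⁻¹ᵁ W.1)).hom ((e.app W.1).hom s) = 0
      rw [hs, map_zero]
    have hres := aux U.ι hl
    rw [Scheme.Opens.ι_app] at hres
    have hzV : W.2.fromSpec y ∈ U.ι ''ᵁ U.ι ⁻¹ᵁ W.1 := by
      rw [Scheme.Hom.image_preimage_eq_opensRange_inf, Scheme.Opens.opensRange_ι]
      exact ⟨hzU, hzW⟩
    have hgerm : algebraMap Γ(X, W.1) (X.presheaf.stalk (W.2.fromSpec y)) s = 0 := by
      show (X.presheaf.germ W.1 (W.2.fromSpec y) hzW).hom s = 0
      have := TopCat.Presheaf.germ_res_apply X.presheaf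
        (homOfLE (x := U.ι ''ᵁ U.ι ⁻¹ᵁ W.1) (Set.image_preimage_subset _ _)) (W.2.fromSpec y) hzV s
      erw [← this, hres, map_zero]
    obtain ⟨v, hv⟩ := (IsLocalization.map_eq_zero_iff y.asIdeal.primeCompl
      (X.presheaf.stalk (W.2.fromSpec y)) s).mp hgerm
    exact v.2 (hp.1.2 ((memI _).mpr hv))
  · obtain ⟨a, ha, hreg⟩ := hZ _ hzU
    exact algL y.asIdeal s hp a ha hreg

open AlgebraicGeometry CategoryTheory CategoryTheory.Limits in
/-- Let X be a scheme and U an open subscheme whose inclusion is quasi-compact, such that for every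
point z of X outside U the maximal ideal of O_{X,z} contains an element that is regular (a
nonzerodivisor) on that local ring. Then for every separated X-scheme Y the restriction map from
X-sections of Y to U-sections of Y is injective: two sections of Y -> X that agree on U are equal. -/
theorem result (X : Scheme.{u}) (U : X.Opens) [QuasiCompact U.ι]
    (hZ : ∀ z : X, z ∉ U → ∃ a ∈ IsLocalRing.maximalIdeal (X.presheaf.stalk z), IsSMulRegular (X.presheaf.stalk z) a)
    (Y : Scheme.{u}) (f : Y ⟶ X) [IsSeparated f] (s₁ s₂ : X ⟶ Y) (h₁ : s₁ ≫ f = 𝟙 X) (h₂ : s₂ ≫ f = 𝟙 X)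
    (hU : U.ι ≫ s₁ = U.ι ≫ s₂) : s₁ = s₂ := by
  obtain ⟨E, e, l, hcl, hl, hcond⟩ : ∃ (E : Scheme.{u}) (e : E ⟶ X) (l : (U : Scheme.{u}) ⟶ E),
      IsClosedImmersion e ∧ l ≫ e = U.ι ∧ e ≫ s₁ = e ≫ s₂ := by
    let X' : Over X := Over.mk (𝟙 X)
    let Y' : Over X := Over.mk f
    let f₁ : X' ⟶ Y' := Over.homMk s₁ h₁
    let f₂ : X' ⟶ Y' := Over.homMk s₂ h₂
    let U' : Over X := Over.mk U.ι
    let ι' : U' ⟶ X' := Over.homMk U.ι (Category.comp_id _)
    haveI : IsSeparated Y'.hom := ‹IsSeparated f›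
    have hlift : ι' ≫ f₁ = ι' ≫ f₂ := by ext1; exact hU
    refine ⟨_, (equalizer.ι f₁ f₂).left, (equalizer.lift ι' hlift).left, inferInstance, ?_, ?_⟩
    · rw [← Over.comp_left, equalizer.lift_ι]; rfl
    · exact congr($(equalizer.condition f₁ f₂).left)
  suffices IsIso e by
    rw [← cancel_epi e]; exact hcond
  rw [IsClosedImmersion.isIso_iff_ker_eq_bot]
  apply Scheme.IdealSheafData.ext
  funext W
  rw [Scheme.Hom.ker_apply, Scheme.IdealSheafData.ideal_bot, Pi.bot_apply, eq_bot_iff]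
  intro s hs
  rw [RingHom.mem_ker] at hs
  rw [Ideal.mem_bot]
  exact geomL X U hZ e l hl W s hs

end Groth.Agent.S14271
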