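import Groth.Statements.S14280
-- import your own Groth.Agent.* helpers here
import Mathlib

set_option autoImplicit false
universe u
open SpSeq

namespace Groth.Agent.S14280

/-- Let E^{p,q} (p, q ≥ 0) be finite-dimensional complex vector spaces each carrying an endomorphism Φ,
and suppose that for a natural number N and functions a, c ≥ 0 (real) and b, d (natural numbers) one
has E^{p,q} = 0 for q > N, |μ| ≤ a(q)c(p) for every eigenvalue μ of Φ on E^{p,q}, and dim E^{p,q} ≤
b(q)d(p). If Σ_p c(p)d(p) converges then the family of traces tr(Φ | E^{p,q}) is absolutely summable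
over all pairs (p, q). (The published statement takes a and b defined on {0, …, N} only; here they
are functions on all natural numbers, which changes nothing since E^{p,q} = 0 for q > N.) -/
theorem result
    (E : ℕ → ℕ → Type u) [∀ p q, AddCommGroup (E p q)] [∀ p q, Module ℂ (E p q)]
    [∀ p q, FiniteDimensional ℂ (E p q)] (Φ : ∀ p q, E p q →ₗ[ℂ] E p q)
    (N : ℕ) (a c : ℕ → ℝ) (b d : ℕ → ℕ) (ha : ∀ q, 0 ≤ a q) (hc : ∀ p, 0 ≤ c p)
    (h1 : ∀ p q, N < q → Subsingleton (E p q))
    (h2 : ∀ p q (μ : ℂ), Module.End.HasEigenvalue (Φ p q) μ → ‖μ‖ ≤ a q * c p)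
    (h3 : ∀ p q, Module.finrank ℂ (E p q) ≤ b q * d p)
    (hsum : Summable fun p : ℕ => c p * (d p : ℝ)) :
    Summable fun pq : ℕ × ℕ => ‖LinearMap.trace ℂ (E pq.1 pq.2) (Φ pq.1 pq.2)‖ := by
  have hb : ∀ p q, ‖LinearMap.trace ℂ (E p q) (Φ p q)‖ ≤
      (c p * (d p : ℝ)) * (if q ≤ N then a q * (b q : ℝ) else 0) := by
    intro p q
    by_cases hq : q ≤ N
    · rw [if_pos hq]
      have hsplit : (LinearMap.charpoly (Φ p q)).Splits := IsAlgClosed.splits _
      rw [Module.End.trace_eq_sum_roots_charpoly_of_splits hsplit]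
      have h4 : ‖(LinearMap.charpoly (Φ p q)).roots.sum‖ ≤
          ((LinearMap.charpoly (Φ p q)).roots.map (fun μ => ‖μ‖)).sum :=
        Multiset.le_sum_of_subadditive (fun μ : ℂ => ‖μ‖) norm_zero.le norm_add_le _
      have h5 : ((LinearMap.charpoly (Φ p q)).roots.map (fun μ => ‖μ‖)).sum ≤
          ((LinearMap.charpoly (Φ p q)).roots.map (fun μ => ‖μ‖)).card • (a q * c p) := by
        apply Multiset.sum_le_card_nsmul
        intro x hx
        obtain ⟨μ, hμ, rfl⟩ := Multiset.mem_map.mp hx
        apply h2 p q μ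
        rw [Module.End.hasEigenvalue_iff_isRoot_charpoly]
        exact Polynomial.isRoot_of_mem_roots hμ
      rw [Multiset.card_map, ← hsplit.natDegree_eq_card_roots, LinearMap.charpoly_natDegree,
        nsmul_eq_mul] at h5
      have h6 : (Module.finrank ℂ (E p q) : ℝ) ≤ (b q : ℝ) * (d p : ℝ) := by
        exact_mod_cast h3 p q
      calc ‖(LinearMap.charpoly (Φ p q)).roots.sum‖
          ≤ ((LinearMap.charpoly (Φ p q)).roots.map (fun μ => ‖μ‖)).sum := h4
        _ ≤ (Module.finrank ℂ (E p q) : ℝ) * (a q * c p) := h5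
        _ ≤ ((b q : ℝ) * (d p : ℝ)) * (a q * c p) :=
            mul_le_mul_of_nonneg_right h6 (mul_nonneg (ha q) (hc p))
        _ = (c p * (d p : ℝ)) * (a q * (b q : ℝ)) := by ring
    · rw [if_neg hq]
      have hss := h1 p q (not_le.mp hq)
      have h0 : Φ p q = 0 := LinearMap.ext (fun x => Subsingleton.elim _ _)
      rw [h0, map_zero, norm_zero, mul_zero]
  have hsummable : Summable fun pq : ℕ × ℕ =>
      (c pq.1 * (d pq.1 : ℝ)) * (if pq.2 ≤ N then a pq.2 * (b pq.2 : ℝ) else 0) := by
    apply Summable.mul_of_nonneg hsum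
      (g := fun q : ℕ => if q ≤ N then a q * (b q : ℝ) else 0)
    · apply summable_of_ne_finset_zero (s := Finset.range (N + 1))
      intro q hq
      rw [if_neg]
      simpa [Finset.mem_range, Nat.lt_succ_iff] using hq
    · intro p
      exact mul_nonneg (hc p) (Nat.cast_nonneg _)
    · intro q
      dsimp only
      split_ifs
      · exact mul_nonneg (ha q) (Nat.cast_nonneg _)
      · exact le_rfl
  exact Summable.of_nonneg_of_le (fun _ => norm_nonneg _) (fun pq => hb pq.1 pq.2) hsummable

end Groth.Agent.S14280
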