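import Groth.Statements.S14295
-- import your own Groth.Agent.* helpers here
import Mathlib

set_option autoImplicit false
universe u v
open PtDeg

namespace Groth.Agent.S14295

/-- Let A and G be abelian groups, written additively, and f : A → G a map which is pointed of degree 2,
that is f(x+y+z) + f(x) + f(y) + f(z) = f(x+y) + f(x+z) + f(y+z) for all x, y, z in A. Then for
every integer n and every x in A one has f(n·x) = (n(n+1)/2)·f(x) + (n(n−1)/2)·f(−x) (the two
coefficients are the integers n(n+1)/2 and n(n−1)/2). -/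
theorem result {A : Type u} {G : Type v} [AddCommGroup A] [AddCommGroup G]
    (f : A → G) (hf : ∀ x y z : A, f (x + y + z) + f x + f y + f z = f (x + y) + f (x + z) + f (y + z))
    (n : ℤ) (x : A) :
    f (n • x) = (n * (n + 1) / 2) • f x + (n * (n - 1) / 2) • f (-x) := by
  have hf0 : f 0 = 0 := by
    have h := hf 0 0 0
    simp only [add_zero] at h
    calc f 0 = (f 0 + f 0 + f 0 + f 0) - (f 0 + f 0 + f 0) := by abel
      _ = 0 := by rw [h]; abel
  set T : ℤ → ℤ := fun m => m * (m + 1) / 2 with hTdef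
  have hT : ∀ m : ℤ, T (m + 1) = T m + (m + 1) := by
    intro m
    simp only [hTdef]
    have h1 : (m + 1) * (m + 1 + 1) = m * (m + 1) + (m + 1) * 2 := by ring
    rw [h1, Int.add_mul_ediv_right _ _ (by norm_num)]
  have hT' : ∀ m : ℤ, T (m - 1) = T m - m := by
    intro m
    have := hT (m - 1)
    rw [sub_add_cancel] at this
    linarith
  have hT0 : T 0 = 0 := by simp [hTdef]
  have hrec : ∀ m : ℤ, f ((m + 1) • x) + f ((m - 1) • x) = f (m • x) + f (m • x) + f x + f (-x) := by
    intro m
    have h := hf (m • x) x (-x)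
    rw [add_neg_cancel_right, add_neg_cancel, hf0, add_zero] at h
    rw [add_smul, one_smul, sub_smul, one_smul, sub_eq_add_neg, ← h]
  have key : ∀ m : ℤ, f (m • x) = T m • f x + T (m - 1) • f (-x) ∧
      f ((m - 1) • x) = T (m - 1) • f x + T (m - 1 - 1) • f (-x) := by
    intro m
    induction m using Int.induction_on with
    | zero =>
      have e1 : T (0 - 1) = 0 := by rw [hT', hT0]; ring
      have e2 : T (0 - 1 - 1) = 1 := by rw [hT', e1]; ring
      constructor
      · rw [e1, hT0]; simp [hf0]
      · rw [e1, e2]; simp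
    | succ i ih =>
      obtain ⟨h1, h2⟩ := ih
      refine ⟨?_, ?_⟩
      · have hr := hrec (i : ℤ)
        have e : f (((i : ℤ) + 1) • x) = f ((i : ℤ) • x) + f ((i : ℤ) • x) + f x + f (-x) - f (((i : ℤ) - 1) • x) := by
          rw [← hr]; abel
        rw [e, h1, h2, hT, add_sub_cancel_right, hT' (i : ℤ), hT' ((i : ℤ) - 1), hT' (i : ℤ)]
        module
      · rw [add_sub_cancel_right]; exact h1
    | pred i ih =>
      obtain ⟨h1, h2⟩ := ih
      refine ⟨h2, ?_⟩
      have hr := hrec (-(i : ℤ) - 1)
      rw [sub_add_cancel] at hr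
      have e : f ((-(i : ℤ) - 1 - 1) • x) = f ((-(i : ℤ) - 1) • x) + f ((-(i : ℤ) - 1) • x) + f x + f (-x) - f ((-(i : ℤ)) • x) := by
        rw [← hr]; abel
      rw [e, h1, h2, hT' (-(i : ℤ) - 1 - 1), hT' (-(i : ℤ) - 1), hT' (-(i : ℤ))]
      module
  have h := (key n).1
  rw [h]
  simp only [hTdef]
  have e3 : (n - 1) * (n - 1 + 1) = n * (n - 1) := by ring
  rw [e3]

end Groth.Agent.S14295
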