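import Groth.Statements.S14294
-- import your own Groth.Agent.* helpers here
import Mathlib
import Groth.Agent.S14295

set_option autoImplicit false
universe u v
open PtDeg

namespace Groth.Agent.S14294

/-- Let A and G be abelian groups, written additively, and f : A → G a map which is pointed of degree 2,
that is f(x+y+z) + f(x) + f(y) + f(z) = f(x+y) + f(x+z) + f(y+z) for all x, y, z in A. If an integer
n satisfies n·x = 0 for every x in A, then 2n·f(x) = 0 for every x in A, and if moreover n is odd
then n·f(x) = 0 for every x in A. -/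
theorem result {A : Type u} {G : Type v} [AddCommGroup A] [AddCommGroup G]
    (f : A → G) (hf : ∀ x y z : A, f (x + y + z) + f x + f y + f z = f (x + y) + f (x + z) + f (y + z))
    (n : ℤ) (hn : ∀ x : A, n • x = 0) :
    (∀ x : A, (2 * n) • f x = 0) ∧ (Odd n → ∀ x : A, n • f x = 0) := by
  have key := fun (m : ℤ) (y : A) => Groth.Agent.S14295.result f hf m y
  have hf0 : f 0 = 0 := by
    have := key 0 0
    simpa using this
  obtain ⟨a, ha⟩ : ∃ a : ℤ, n * (n - 1) = 2 * a := by
    have : Even (n * (n - 1)) := by
      have := Int.even_mul_succ_self (n - 1)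
      rwa [sub_add_cancel, mul_comm] at this
    obtain ⟨a, ha⟩ := this
    exact ⟨a, by rw [ha]; ring⟩
  have e1 : n * (n - 1) / 2 = a := by
    rw [ha]; exact Int.mul_ediv_cancel_left a (by norm_num)
  have e2 : n * (n + 1) / 2 = a + n := by
    have : n * (n + 1) = 2 * (a + n) := by linarith
    rw [this]; exact Int.mul_ediv_cancel_left _ (by norm_num)
  have e3 : (n + 1) * (n + 1 + 1) / 2 = a + 2 * n + 1 := by
    have : (n + 1) * (n + 1 + 1) = 2 * (a + 2 * n + 1) := by linarith
    rw [this]; exact Int.mul_ediv_cancel_left _ (by norm_num)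
  have e4 : (n + 1) * (n + 1 - 1) / 2 = a + n := by
    have : (n + 1) * (n + 1 - 1) = 2 * (a + n) := by linarith
    rw [this]; exact Int.mul_ediv_cancel_left _ (by norm_num)
  have h1 : ∀ y, (a + n) • f y + a • f (-y) = 0 := by
    intro y
    have := key n y
    rw [hn, hf0, e1, e2] at this
    exact this.symm
  have h3 : ∀ y, f y = (a + 2 * n + 1) • f y + (a + n) • f (-y) := by
    intro y
    have := key (n + 1) y
    rwa [add_smul, hn, zero_add, one_smul, e3, e4] at this
  have h5 : ∀ y, n • f y + n • f (-y) = 0 := by
    intro y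
    have h3' := h3 y
    have h1' := h1 y
    have : n • f y + n • f (-y) = ((a + 2 * n + 1) • f y + (a + n) • f (-y)) - f y
        - ((a + n) • f y + a • f (-y)) := by module
    rw [this, ← h3', h1']; abel
  constructor
  · intro x
    have h : (2 * n) • f x = (2 : ℤ) • ((a + n) • f x + a • f (-x)) - (n - 1) • (n • f x + n • f (-x))
        + (n * (n - 1) - 2 * a) • (f x + f (-x)) := by module
    rw [h, h1, h5, ha]; simp
  · rintro ⟨k, hk⟩ x
    have hak : a = n * k := by
      have : 2 * a = 2 * (n * k) := by rw [← ha, hk]; ring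
      linarith
    have h : n • f x = ((a + n) • f x + a • f (-x)) - k • (n • f x + n • f (-x))
        + (n * k - a) • (f x + f (-x)) := by module
    rw [h, h1, h5, hak]; simp

end Groth.Agent.S14294
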