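import Groth.Statements.S14305
-- import your own Groth.Agent.* helpers here
import Mathlib

set_option autoImplicit false
universe u v
open PtDeg

namespace Groth.Agent.S14305

def F {A : Type u} {G : Type v} [AddCommGroup A] [AddCommGroup G] (f : A → G) {ι : Type*}
    (s : Finset ι) (x : ι → A) (v : A) : G :=
  ∑ t ∈ s.powerset, ((-1 : ℤ) ^ t.card) • f (∑ i ∈ t, x i + v)

lemma F_insert {A : Type u} {G : Type v} [AddCommGroup A] [AddCommGroup G] (f : A → G) {ι : Type*}
    [DecidableEq ι] (s : Finset ι) (c : ι) (hc : c ∉ s) (x : ι → A) (v : A) :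
    F f (insert c s) x v = F f s x v - F f s x (x c + v) := by
  unfold F
  rw [Finset.sum_powerset_insert hc, sub_eq_add_neg, ← Finset.sum_neg_distrib]
  congr 1
  apply Finset.sum_congr rfl
  intro t ht
  have hct : c ∉ t := fun h => hc (Finset.mem_powerset.1 ht h)
  have e : x c + ∑ i ∈ t, x i + v = ∑ i ∈ t, x i + (x c + v) := by abel
  rw [Finset.card_insert_of_notMem hct, Finset.sum_insert hct, pow_succ, mul_neg_one, neg_smul, e]

lemma F_update {A : Type u} {G : Type v} [AddCommGroup A] [AddCommGroup G] (f : A → G) {ι : Type*}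
    [DecidableEq ι] (s : Finset ι) (j : ι) (hj : j ∉ s) (x : ι → A) (w v : A) :
    F f s (Function.update x j w) v = F f s x v := by
  unfold F
  apply Finset.sum_congr rfl
  intro t ht
  have hsum : ∑ i ∈ t, Function.update x j w i = ∑ i ∈ t, x i :=
    Finset.sum_congr rfl (fun i hi =>
      Function.update_of_ne (fun (h : i = j) => hj (by rw [← h]; exact Finset.mem_powerset.1 ht hi)) _ _)
  rw [hsum]

lemma F_key {A : Type u} {G : Type v} [AddCommGroup A] [AddCommGroup G] (f : A → G) {ι : Type*}
    [DecidableEq ι] (s : Finset ι) (c j : ι) (hc : c ∉ s) (hj : j ∈ s) (x : ι → A) :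
    F f (insert c s) x 0 = F f s x 0 - F f s (Function.update x j (x j + x c)) 0
      + F f s (Function.update x j (x c)) 0 := by
  obtain ⟨r, hjr, rfl⟩ : ∃ r, j ∉ r ∧ s = insert j r :=
    ⟨s.erase j, Finset.notMem_erase j s, (Finset.insert_erase hj).symm⟩
  rw [F_insert f (insert j r) c hc x 0, F_insert f r j hjr x (x c + 0),
    F_insert f r j hjr (Function.update x j (x j + x c)) 0,
    F_insert f r j hjr (Function.update x j (x c)) 0]
  simp only [F_update f r j hjr, Function.update_self, add_zero]
  abel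

lemma F_map {A : Type u} {G : Type v} [AddCommGroup A] [AddCommGroup G] (f : A → G) {ι κ : Type*}
    (e : ι ↪ κ) (s : Finset ι) (x : κ → A) (v : A) :
    F f (s.map e) x v = F f s (x ∘ e) v := by
  classical
  unfold F
  rw [Finset.map_eq_image, Finset.powerset_image, Finset.sum_image]
  · apply Finset.sum_congr rfl
    intro t _
    rw [Finset.card_image_of_injective _ e.injective,
      Finset.sum_image (fun a _ b _ h => e.injective h)]
    rfl
  · intro a _ b _ h
    exact Finset.image_injective e.injective h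

lemma dev_eq {A : Type u} {G : Type v} [AddCommGroup A] [AddCommGroup G] (f : A → G) (m : ℕ)
    (z : Fin m → A) :
    ∑ I ∈ ((Finset.univ : Finset (Fin m)).powerset.erase ∅),
        ((-1 : ℤ) ^ (m + I.card)) • f (∑ i ∈ I, z i)
      = ((-1 : ℤ) ^ m) • (F f Finset.univ z 0 - f 0) := by
  rw [Finset.sum_erase_eq_sub (Finset.empty_mem_powerset _)]
  unfold F
  rw [smul_sub, Finset.smul_sum]
  congr 1
  · apply Finset.sum_congr rfl
    intro t _
    rw [pow_add, mul_smul, add_zero]

lemma smul_cancel {G : Type v} [AddCommGroup G] (k : ℕ) {g h : G}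
    (e : ((-1 : ℤ) ^ k) • g = ((-1 : ℤ) ^ k) • h) : g = h := by
  rcases neg_one_pow_eq_or ℤ k with e1 | e1
  · rw [e1, one_smul, one_smul] at e; exact e
  · rw [e1, neg_smul, neg_smul, one_smul, one_smul] at e; exact neg_injective e

lemma F_snoc {A : Type u} {G : Type v} [AddCommGroup A] [AddCommGroup G] (f : A → G) (n : ℕ)
    (j : Fin n) (y : Fin n → A) (b : A) :
    F f (Finset.univ : Finset (Fin (n + 1))) (Fin.snoc y b : Fin (n + 1) → A) 0
      = F f Finset.univ y 0 - F f Finset.univ (Function.update y j (y j + b)) 0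
        + F f Finset.univ (Function.update y j b) 0 := by
  have hc : Fin.last n ∉ (Finset.univ : Finset (Fin n)).map Fin.castSuccEmb := by
    simp [Fin.castSucc_ne_last]
  have hj : Fin.castSucc j ∈ (Finset.univ : Finset (Fin n)).map Fin.castSuccEmb := by simp
  have hu : (Finset.univ : Finset (Fin (n + 1)))
      = insert (Fin.last n) ((Finset.univ : Finset (Fin n)).map Fin.castSuccEmb) := by
    rw [Fin.univ_castSuccEmb, Finset.cons_eq_insert]
  have e1 : (Fin.snoc y b : Fin (n + 1) → A) ∘ Fin.castSuccEmb = y := by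
    funext i; simp
  have e2 : ∀ w, Function.update (Fin.snoc y b : Fin (n + 1) → A) (Fin.castSucc j) w
      ∘ Fin.castSuccEmb = Function.update y j w := by
    intro w
    funext i
    simp only [Function.comp_apply, Fin.coe_castSuccEmb]
    by_cases h : i = j
    · subst h; rw [Function.update_self, Function.update_self]
    · rw [Function.update_of_ne h, Function.update_of_ne ((Fin.castSucc_injective n).ne h),
        Fin.snoc_castSucc]
  rw [hu, F_key f _ (Fin.last n) (Fin.castSucc j) hc hj, F_map, F_map, F_map, e1, e2, e2]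
  simp only [Fin.snoc_castSucc, Fin.snoc_last]

/-- Let A and G be abelian groups, written additively, f : A → G a map and n ≥ 1. For k ≥ 0 the k-th
deviation of f is the map A^k → G, (y_1, …, y_k) ↦ Σ_{∅ ≠ I ⊆ {1,…,k}} (−1)^{k+|I|} f(Σ_{i ∈ I}
y_i). Then f is pointed of degree n, meaning that its (n+1)-st deviation vanishes identically, if
and only if its n-th deviation is additive in each variable separately (with the other variables
fixed). -/
theorem result {A : Type u} {G : Type v} [AddCommGroup A] [AddCommGroup G]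
    (f : A → G) (n : ℕ) (hn : 1 ≤ n) :
    (∀ x : Fin (n + 1) → A, ∑ I ∈ ((Finset.univ : Finset (Fin (n + 1))).powerset.erase ∅), ((-1 : ℤ) ^ (n + 1 + I.card)) • f (∑ i ∈ I, x i) = 0) ↔
      (∀ (j : Fin n) (y : Fin n → A) (a b : A),
        ∑ I ∈ ((Finset.univ : Finset (Fin n)).powerset.erase ∅), ((-1 : ℤ) ^ (n + I.card)) • f (∑ i ∈ I, (Function.update y j (a + b)) i) =
          ∑ I ∈ ((Finset.univ : Finset (Fin n)).powerset.erase ∅), ((-1 : ℤ) ^ (n + I.card)) • f (∑ i ∈ I, (Function.update y j a) i) + ∑ I ∈ ((Finset.univ : Finset (Fin n)).powerset.erase ∅), ((-1 : ℤ) ^ (n + I.card)) • f (∑ i ∈ I, (Function.update y j b) i)) := by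
  constructor
  · intro hL j y a b
    rw [dev_eq, dev_eq, dev_eq, ← smul_add]
    congr 1
    have h1 := hL (Fin.snoc (Function.update y j a) b)
    rw [dev_eq] at h1
    have h2 : F f Finset.univ (Fin.snoc (Function.update y j a) b : Fin (n + 1) → A) 0 - f 0 = 0 := by
      apply smul_cancel (n + 1)
      rw [h1, smul_zero]
    rw [F_snoc f n j, Function.update_self, Function.update_idem, Function.update_idem,
      sub_eq_zero] at h2
    rw [← h2]
    abel
  · intro hR x
    rw [dev_eq]
    have h1 := hR ⟨0, Nat.lt_of_lt_of_le Nat.zero_lt_one hn⟩ (Fin.init x)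
      (Fin.init x ⟨0, Nat.lt_of_lt_of_le Nat.zero_lt_one hn⟩) (x (Fin.last n))
    rw [dev_eq, dev_eq, dev_eq, ← smul_add, Function.update_eq_self] at h1
    have h2 := smul_cancel n h1
    have h4 := F_snoc f n ⟨0, Nat.lt_of_lt_of_le Nat.zero_lt_one hn⟩ (Fin.init x) (x (Fin.last n))
    rw [Fin.snoc_init_self] at h4
    rw [h4]
    apply smul_eq_zero_of_right
    have h3 := sub_eq_iff_eq_add.1 h2
    rw [h3]
    abel

end Groth.Agent.S14305
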