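import Groth.Statements.S14307
-- import your own Groth.Agent.* helpers here
import Mathlib

set_option autoImplicit false
universe u v
open PtDeg

namespace Groth.Agent.S14307

/-- Let A and G be abelian groups, written additively, f : A → G a map and n ≥ 1. If a tuple x ∈ A^n has
some coordinate equal to 0, then the n-th deviation of f at x, namely Σ_{∅ ≠ I ⊆ {1,…,n}}
(−1)^{n+|I|} f(Σ_{i ∈ I} x_i), equals (−1)^{n+1} f(0). -/
theorem result {A : Type u} {G : Type v} [AddCommGroup A] [AddCommGroup G]
    (f : A → G) (n : ℕ) (hn : 1 ≤ n) (x : Fin n → A) (i : Fin n) (hx : x i = 0) :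
    ∑ I ∈ ((Finset.univ : Finset (Fin n)).powerset.erase ∅), ((-1 : ℤ) ^ (n + I.card)) • f (∑ j ∈ I, x j) =
      ((-1 : ℤ) ^ (n + 1)) • f 0 := by
  classical
  set g : Finset (Fin n) → G := fun I => ((-1 : ℤ) ^ (n + I.card)) • f (∑ j ∈ I, x j) with hg
  have htot : ∑ I ∈ (Finset.univ : Finset (Fin n)).powerset, g I = 0 := by
    have hu : (Finset.univ : Finset (Fin n)) = insert i (Finset.univ.erase i) := by
      rw [Finset.insert_erase (Finset.mem_univ i)]
    rw [hu, Finset.sum_powerset_insert (Finset.notMem_erase i _)]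
    rw [← Finset.sum_add_distrib]
    apply Finset.sum_eq_zero
    intro I hI
    have hiI : i ∉ I := fun h => Finset.notMem_erase i _ (Finset.mem_powerset.1 hI h)
    simp only [hg]
    rw [Finset.card_insert_of_notMem hiI, Finset.sum_insert hiI, hx, zero_add, ← add_assoc, pow_succ]
    simp
  have hsplit : g ∅ + ∑ I ∈ (Finset.univ : Finset (Fin n)).powerset.erase ∅, g I =
      ∑ I ∈ (Finset.univ : Finset (Fin n)).powerset, g I :=
    Finset.add_sum_erase _ _ (Finset.empty_mem_powerset _)
  have h3 : ∑ I ∈ (Finset.univ : Finset (Fin n)).powerset.erase ∅, g I = - g ∅ := by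
    rw [htot] at hsplit
    exact (neg_eq_of_add_eq_zero_right hsplit).symm
  rw [h3]
  simp [hg, pow_succ]

end Groth.Agent.S14307
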