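import Groth.Statements.S14309
-- import your own Groth.Agent.* helpers here
import Mathlib

set_option autoImplicit false
universe u v w x y
open CAlg

namespace Groth.Agent.S14309

/-- Let R be a commutative ring; A, B, C commutative R-algebras; i : A → B and j : A → C jointly
injective R-algebra maps; c a non-zero-divisor of B; u : C → B/(c) a ring map with u ∘ j equal to i
followed by reduction modulo c; ζ in A with i ζ = c and j ζ = 0; η : R[X_σ, Z] → A an R-algebra map
with η(Z) = ζ; a : R[Y_τ] → B a surjective R-algebra map; η_Z : R[X_σ, Z] → R[Y_τ] a surjective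
R-algebra map with a ∘ η_Z = i ∘ η. Fix c̃ in R[Y_τ] with a(c̃) = c, a family (p_h) generating the
kernel of the composite R[X_σ] → R[X_σ, Z] → A → C, a family (q'_h) generating the kernel of a
together with lifts q_h along η_Z, a family (v_h) generating the kernel of η_Z, and elements g'_h of
R[Y_τ] with η_Z(p_h) + g'_h c̃ in the ideal (q'_h), together with lifts g_h along η_Z. Then the
kernel of η is the ideal generated by the elements Z q_h, Z v_h and p_h + Z g_h. (The published
statement is for the rings of cycle classes, with coefficients ℤ[1/6], of a smooth quotient stack, a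
smooth closed substack whose normal bundle has top Chern class c a non-zero-divisor, and the open
complement; this row states the ring-theoretic content for any such square of commutative rings in
which A embeds in B × C.) -/
theorem result
    {R : Type u} [CommRing R] {A : Type v} {B : Type w} {C : Type x}
    [CommRing A] [CommRing B] [CommRing C] [Algebra R A] [Algebra R B] [Algebra R C]
    (i : A →ₐ[R] B) (j : A →ₐ[R] C)
    (hinj : ∀ t : A, i t = 0 → j t = 0 → t = 0)
    (c : B) (hc : c ∈ nonZeroDivisors B) (u : C →+* B ⧸ Ideal.span ({c} : Set B))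
    (hu : ∀ t : A, u (j t) = Ideal.Quotient.mk (Ideal.span ({c} : Set B)) (i t))
    (ζ : A) (hiζ : i ζ = c) (hjζ : j ζ = 0)
    {σ τ ιp ιq ιv : Type y}
    (η : MvPolynomial (Option σ) R →ₐ[R] A) (hη : η (MvPolynomial.X none) = ζ)
    (a : MvPolynomial τ R →ₐ[R] B) (ha : Function.Surjective a)
    (ηZ : MvPolynomial (Option σ) R →ₐ[R] MvPolynomial τ R)
    (hcomm : ∀ t, a (ηZ t) = i (η t)) (hηZ : Function.Surjective ηZ)
    (cZ : MvPolynomial τ R) (hcZ : a cZ = c)
    (p : ιp → MvPolynomial σ R)
    (hp : Ideal.span (Set.range p) =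
      RingHom.ker ((j.comp η).comp (MvPolynomial.rename (Option.some : σ → Option σ))))
    (q' : ιq → MvPolynomial τ R) (hq' : Ideal.span (Set.range q') = RingHom.ker a)
    (q : ιq → MvPolynomial (Option σ) R) (hq : ∀ h, ηZ (q h) = q' h)
    (v : ιv → MvPolynomial (Option σ) R) (hv : Ideal.span (Set.range v) = RingHom.ker ηZ)
    (g' : ιp → MvPolynomial τ R)
    (hg' : ∀ h, ηZ (MvPolynomial.rename (Option.some : σ → Option σ) (p h)) + g' h * cZ ∈
      Ideal.span (Set.range q'))
    (g : ιp → MvPolynomial (Option σ) R) (hg : ∀ h, ηZ (g h) = g' h) :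
    RingHom.ker η = Ideal.span
      (Set.range (fun h : ιq => MvPolynomial.X none * q h) ∪
        Set.range (fun h : ιv => MvPolynomial.X none * v h) ∪
        Set.range (fun h : ιp =>
          MvPolynomial.rename (Option.some : σ → Option σ) (p h) + MvPolynomial.X none * g h)) := by
  classical
  set Z : MvPolynomial (Option σ) R := MvPolynomial.X none with hZdef
  set ρ : MvPolynomial σ R →ₐ[R] MvPolynomial (Option σ) R :=
    MvPolynomial.rename (Option.some : σ → Option σ) with hρdef
  set K : Ideal (MvPolynomial (Option σ) R) := Ideal.span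
      (Set.range (fun h : ιq => Z * q h) ∪
        Set.range (fun h : ιv => Z * v h) ∪
        Set.range (fun h : ιp => ρ (p h) + Z * g h)) with hK
  have hZi : ∀ G, i (η (Z * G)) = c * a (ηZ G) := by
    intro G; rw [map_mul, map_mul, hη, hiζ, hcomm]
  have hZj : ∀ G, j (η (Z * G)) = 0 := by
    intro G; rw [map_mul, map_mul, hη, hjζ, zero_mul]
  have hq0 : ∀ h, a (q' h) = 0 := by
    intro h
    have : q' h ∈ RingHom.ker a := by rw [← hq']; exact Ideal.subset_span ⟨h, rfl⟩
    exact this
  have hv0 : ∀ h, ηZ (v h) = 0 := by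
    intro h
    have : v h ∈ RingHom.ker ηZ := by rw [← hv]; exact Ideal.subset_span ⟨h, rfl⟩
    exact this
  have hp0 : ∀ h, j (η (ρ (p h))) = 0 := by
    intro h
    have : p h ∈ RingHom.ker ((j.comp η).comp ρ) := by
      rw [← hp]; exact Ideal.subset_span ⟨h, rfl⟩
    exact this
  have hKle : K ≤ RingHom.ker η := by
    apply Ideal.span_le.mpr
    rintro x ((⟨h, rfl⟩ | ⟨h, rfl⟩) | ⟨h, rfl⟩)
    · show η (Z * q h) = 0
      apply hinj
      · rw [hZi, hq, hq0, mul_zero]
      · exact hZj _
    · show η (Z * v h) = 0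
      apply hinj
      · rw [hZi, hv0, map_zero, mul_zero]
      · exact hZj _
    · show η (ρ (p h) + Z * g h) = 0
      apply hinj
      · rw [map_add, map_add, hZi, hg, ← hcomm]
        have h1 := hg' h
        rw [hq'] at h1
        have h2 : a (ηZ (ρ (p h)) + g' h * cZ) = 0 := h1
        rw [map_add, map_mul, hcZ] at h2
        linear_combination h2
      · rw [map_add, map_add, hZj, add_zero]
        exact hp0 h
  have hdecomp : ∀ F : MvPolynomial (Option σ) R, ∃ F0 F1, F = ρ F0 + Z * F1 := by
    intro F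
    induction F using MvPolynomial.induction_on with
    | C r =>
      exact ⟨MvPolynomial.C r, 0, by rw [hρdef, MvPolynomial.rename_C, mul_zero, add_zero]⟩
    | add f1 f2 h1 h2 =>
      obtain ⟨a0, a1, rfl⟩ := h1
      obtain ⟨b0, b1, rfl⟩ := h2
      exact ⟨a0 + b0, a1 + b1, by rw [map_add]; ring⟩
    | mul_X f n hf =>
      obtain ⟨a0, a1, rfl⟩ := hf
      cases n with
      | none => exact ⟨0, ρ a0 + Z * a1, by rw [map_zero, zero_add, mul_comm]⟩
      | some s =>
        exact ⟨a0 * MvPolynomial.X s, a1 * MvPolynomial.X (some s), by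
          rw [map_mul, hρdef, MvPolynomial.rename_X]; ring⟩
  have hmulZ : ∀ (s : Set (MvPolynomial (Option σ) R)), (∀ x ∈ s, Z * x ∈ K) →
      ∀ T ∈ Ideal.span s, Z * T ∈ K := by
    intro s hs T hT
    induction hT using Submodule.span_induction with
    | mem x hx => exact hs x hx
    | zero => rw [mul_zero]; exact K.zero_mem
    | add x y _ _ hx hy => rw [mul_add]; exact K.add_mem hx hy
    | smul r x _ hx => rw [smul_eq_mul, mul_left_comm]; exact K.mul_mem_left r hx
  apply le_antisymm _ hKle
  intro F hF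
  have hF0 : η F = 0 := hF
  obtain ⟨F0, F1, rfl⟩ := hdecomp F
  have hψ : F0 ∈ Ideal.span (Set.range p) := by
    rw [hp]
    show j (η (ρ F0)) = 0
    have : j (η (ρ F0 + Z * F1)) = 0 := by rw [hF0, map_zero]
    rw [map_add, map_add, hZj, add_zero] at this
    exact this
  have hstep3 : ∀ x ∈ Ideal.span (Set.range p), ∃ G, ρ x + Z * G ∈ K := by
    intro x hx
    induction hx using Submodule.span_induction with
    | mem x hx =>
      obtain ⟨h, rfl⟩ := hx
      exact ⟨g h, Ideal.subset_span (Or.inr ⟨h, rfl⟩)⟩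
    | zero => exact ⟨0, by rw [map_zero, mul_zero, add_zero]; exact K.zero_mem⟩
    | add x y _ _ hx hy =>
      obtain ⟨G1, h1⟩ := hx
      obtain ⟨G2, h2⟩ := hy
      refine ⟨G1 + G2, ?_⟩
      have : ρ (x + y) + Z * (G1 + G2) = (ρ x + Z * G1) + (ρ y + Z * G2) := by
        rw [map_add]; ring
      rw [this]; exact K.add_mem h1 h2
    | smul r x _ hx =>
      obtain ⟨G1, h1⟩ := hx
      refine ⟨ρ r * G1, ?_⟩
      have : ρ (r • x) + Z * (ρ r * G1) = ρ r * (ρ x + Z * G1) := by
        rw [smul_eq_mul, map_mul]; ring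
      rw [this]; exact K.mul_mem_left _ h1
  obtain ⟨G, hG⟩ := hstep3 F0 hψ
  have hsplit : ρ F0 + Z * F1 = (ρ F0 + Z * G) + Z * (F1 - G) := by ring
  have hH : η (Z * (F1 - G)) = 0 := by
    have h1 : η (ρ F0 + Z * G) = 0 := hKle hG
    have h2 : η (ρ F0 + Z * F1) = 0 := hF0
    rw [hsplit, map_add, h1, zero_add] at h2
    exact h2
  rw [hsplit]
  refine K.add_mem hG ?_
  obtain ⟨H, hHdef⟩ : ∃ H, H = F1 - G := ⟨_, rfl⟩
  rw [← hHdef] at hH ⊢
  have haH : a (ηZ H) = 0 := by
    have : c * a (ηZ H) = 0 := by rw [← hZi, hH, map_zero]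
    exact (mul_left_mem_nonZeroDivisors_eq_zero_iff hc).mp this
  have hmem : ηZ H ∈ Ideal.map ηZ (Ideal.span (Set.range q)) := by
    rw [Ideal.map_span]
    have : (ηZ '' Set.range q) = Set.range q' := by
      ext y; constructor
      · rintro ⟨_, ⟨h, rfl⟩, rfl⟩; exact ⟨h, (hq h).symm⟩
      · rintro ⟨h, rfl⟩; exact ⟨q h, ⟨h, rfl⟩, hq h⟩
    rw [this, hq']
    exact haH
  obtain ⟨T, hT, hTH⟩ := (Ideal.mem_map_iff_of_surjective ηZ hηZ).mp hmem
  have hHT : H - T ∈ Ideal.span (Set.range v) := by
    rw [hv]; show ηZ (H - T) = 0; rw [map_sub, hTH, sub_self]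
  have hsp2 : Z * H = Z * T + Z * (H - T) := by ring
  rw [hsp2]
  refine K.add_mem (hmulZ _ ?_ T hT) (hmulZ _ ?_ _ hHT)
  · rintro x ⟨h, rfl⟩; exact Ideal.subset_span (Or.inl (Or.inl ⟨h, rfl⟩))
  · rintro x ⟨h, rfl⟩; exact Ideal.subset_span (Or.inl (Or.inr ⟨h, rfl⟩))

end Groth.Agent.S14309
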