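import Groth.Statements.S14337
-- import your own Groth.Agent.* helpers here
import Mathlib

set_option autoImplicit false
universe u
open scoped TensorProduct
open CAlg

namespace Groth.Agent.S14337

lemma split_of_proj {B : Type*} [CommRing B] {K' : Type*} [AddCommGroup K'] [Module B K']
    (R : Submodule B K') [Module.Projective B (K' ⧸ R)] :
    ∃ ρ : K' →ₗ[B] R, ρ ∘ₗ R.subtype = LinearMap.id := by
  obtain ⟨s, hs⟩ := Module.projective_lifting_property R.mkQ LinearMap.id R.mkQ_surjective
  have hs' : ∀ q, R.mkQ (s q) = q := fun q => LinearMap.congr_fun hs q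
  have hπ : ∀ x, (LinearMap.id - s ∘ₗ R.mkQ : K' →ₗ[B] K') x ∈ R := by
    intro x
    rw [← Submodule.Quotient.mk_eq_zero R]
    have h1 := hs' (R.mkQ x)
    simp only [LinearMap.sub_apply, LinearMap.id_apply, LinearMap.comp_apply,
      Submodule.Quotient.mk_sub]
    rw [← Submodule.mkQ_apply, ← Submodule.mkQ_apply, h1, sub_self]
  refine ⟨(LinearMap.id - s ∘ₗ R.mkQ).codRestrict R hπ, ?_⟩
  refine LinearMap.ext fun r => Subtype.ext ?_
  simp only [LinearMap.comp_apply, Submodule.subtype_apply, LinearMap.codRestrict_apply,
    LinearMap.sub_apply, LinearMap.id_apply]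
  have h0 : R.mkQ (r : K') = 0 := by
    rw [Submodule.mkQ_apply]
    exact (Submodule.Quotient.mk_eq_zero R).2 r.2
  rw [h0, map_zero, sub_zero]

/-- Let B be a Noetherian ring, K and K' finitely generated flat B-modules and φ : K → K' a B-linear
map; for a prime y of B write κ(y) for its residue field and φ_y for the base change κ(y) ⊗ K → κ(y)
⊗ K'. If the cokernel K'/Im φ is a projective (locally free) B-module, then Im φ is projective, and
the formation of Im φ commutes with every base change: for every commutative B-algebra B' the map B'
⊗ Im φ → B' ⊗ K' induced by the inclusion is injective and its range is the range of the base change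
B' ⊗ K → B' ⊗ K' of φ. -/
theorem result (B : Type u) [CommRing B] [IsNoetherianRing B] (K K' : Type u) [AddCommGroup K] [Module B K] [Module.Finite B K] [Module.Flat B K] [AddCommGroup K'] [Module B K'] [Module.Finite B K'] [Module.Flat B K'] (φ : K →ₗ[B] K') (hc : Module.Projective B (K' ⧸ LinearMap.range φ)) : Module.Projective B ↥(LinearMap.range φ) ∧ ∀ (B' : Type u) [CommRing B'] [Algebra B B'], Function.Injective ((LinearMap.range φ).subtype.baseChange B') ∧ LinearMap.range ((LinearMap.range φ).subtype.baseChange B') = LinearMap.range (φ.baseChange B') := by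
  haveI : Module.FinitePresentation B K' := Module.finitePresentation_of_finite B K'
  haveI : Module.Projective B K' := Module.Flat.projective_of_finitePresentation
  obtain ⟨ρ, hρ⟩ := split_of_proj (LinearMap.range φ)
  refine ⟨Module.Projective.of_split (LinearMap.range φ).subtype ρ hρ, ?_⟩
  intro B' _ _
  constructor
  · have h : (ρ.baseChange B') ∘ₗ ((LinearMap.range φ).subtype.baseChange B') = LinearMap.id := by
      rw [← LinearMap.baseChange_comp, hρ, LinearMap.baseChange_id]
    exact Function.LeftInverse.injective (g := ρ.baseChange B')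
      (fun x => LinearMap.congr_fun h x)
  · have hφ : φ = (LinearMap.range φ).subtype ∘ₗ φ.rangeRestrict := by
      ext x; rfl
    have hsurj : Function.Surjective (φ.rangeRestrict.baseChange B') := by
      have h1 := LinearMap.lTensor_surjective B' φ.surjective_rangeRestrict
      intro y
      obtain ⟨x, hx⟩ := h1 y
      exact ⟨x, by rw [← hx]; rfl⟩
    conv_rhs => rw [hφ, LinearMap.baseChange_comp]
    rw [LinearMap.range_comp_of_range_eq_top _ (LinearMap.range_eq_top.2 hsurj)]

end Groth.Agent.S14337
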