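import Groth.Statements.S14346
-- import your own Groth.Agent.* helpers here
import Mathlib

set_option autoImplicit false
universe u v
open TensorProduct
open QuotLF

namespace Groth.Agent.S14346

/-- Let R be a commutative ring, M an R-module, k ≥ 0, and A an R-algebra for which A ⊗_R M is finite
projective of constant rank k, i.e. Spec A → Spec R factors through the locally closed stratum where
M is locally free of rank k. Then A ⊗_R M has exactly one rank-k locally free quotient: the zero
submodule has finite projective quotient of constant rank k, and every submodule with such a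
quotient is zero. In other words the Quot scheme of rank-k locally free quotients of M restricted to
that stratum maps isomorphically onto it. -/
theorem result (R : Type u) [CommRing R]
    (M : Type v) [AddCommGroup M] [Module R M] (k : ℕ)
    (A : Type u) [CommRing A] [Algebra R A] [Module.Finite A (A ⊗[R] M)] [Module.Projective A (A ⊗[R] M)]
    (hk : ∀ p : PrimeSpectrum A, Module.rankAtStalk (R := A) (A ⊗[R] M) p = k) :
    (∃ N : Module.Grassmannian A (A ⊗[R] M) k, N.toSubmodule = ⊥) ∧
      ∀ N : Module.Grassmannian A (A ⊗[R] M) k, N.toSubmodule = ⊥ := by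
  constructor
  · refine ⟨⟨⊥, ?_, ?_, ?_⟩, rfl⟩
    · exact Module.Finite.equiv
        (Submodule.quotEquivOfEqBot (⊥ : Submodule A (A ⊗[R] M)) rfl).symm
    · exact Module.Projective.of_equiv
        (Submodule.quotEquivOfEqBot (⊥ : Submodule A (A ⊗[R] M)) rfl).symm
    · intro p
      rw [Module.rankAtStalk_eq_of_equiv
        (Submodule.quotEquivOfEqBot (⊥ : Submodule A (A ⊗[R] M)) rfl)]
      exact hk p
  · intro N
    obtain ⟨s, hs⟩ := LinearMap.exists_rightInverse_of_surjective N.toSubmodule.mkQ
      (LinearMap.range_eq_top.mpr (Submodule.mkQ_surjective _))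
    have hex : Function.Exact N.toSubmodule.subtype N.toSubmodule.mkQ :=
      LinearMap.exact_subtype_mkQ _
    obtain ⟨e, he1, he2⟩ := hex.splitSurjectiveEquiv (Submodule.injective_subtype _) ⟨s, hs⟩
    have : Module.Finite A N.toSubmodule :=
      Module.Finite.of_surjective ((LinearMap.fst A _ _).comp e.toLinearMap) (by
        intro x
        exact ⟨e.symm (x, 0), by simp⟩)
    have : Module.Projective A N.toSubmodule :=
      Module.Projective.of_split (e.symm.toLinearMap.comp (LinearMap.inl A _ _))
        ((LinearMap.fst A _ _).comp e.toLinearMap) (by ext x; simp)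
    have hr : Module.rankAtStalk (R := A) (A ⊗[R] M) =
        Module.rankAtStalk (R := A) N.toSubmodule +
          Module.rankAtStalk (R := A) ((A ⊗[R] M) ⧸ N.toSubmodule) := by
      have hr1 : Module.rankAtStalk (R := A) (A ⊗[R] M) =
          Module.rankAtStalk (R := A) (N.toSubmodule × ((A ⊗[R] M) ⧸ N.toSubmodule)) :=
        Module.rankAtStalk_eq_of_equiv (N := N.toSubmodule × ((A ⊗[R] M) ⧸ N.toSubmodule)) e
      rw [hr1, Module.rankAtStalk_prod]
    have h0 : Module.rankAtStalk (R := A) N.toSubmodule = 0 := by
      ext p
      have := congrFun hr p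
      rw [Pi.add_apply, hk p, N.rankAtStalk_eq p] at this
      simpa using this
    rw [Module.rankAtStalk_eq_zero_iff_subsingleton] at h0
    exact Submodule.subsingleton_iff_eq_bot.mp h0

end Groth.Agent.S14346
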