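import Groth.Statements.S14351
-- import your own Groth.Agent.* helpers here
import Mathlib

set_option autoImplicit false
universe u
open CAlg

namespace Groth.Agent.S14351

open TensorProduct in
theorem flat_of_comp (A B C : Type u) [CommRing A] [CommRing B]
    [CommRing C] [Algebra A B] [Algebra B C] [Algebra A C] [IsScalarTower A B C]
    [Module.FaithfullyFlat B C] [Module.Flat A C] : Module.Flat A B := by
  rw [Module.Flat.iff_lTensor_preserves_injective_linearMap]
  intro N N' _ _ _ _ f hf
  have h1 : Function.Injective (f.lTensor C) := Module.Flat.lTensor_preserves_injective_linearMap f hf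
  let g : B ⊗[A] N →ₗ[B] B ⊗[A] N' := f.baseChange B
  have hg : (g : B ⊗[A] N → B ⊗[A] N') = f.lTensor B := by
    ext x; simp [g, LinearMap.baseChange_eq_ltensor]
  rw [← hg]
  rw [← Module.FaithfullyFlat.lTensor_injective_iff_injective B C g]
  let e := TensorProduct.AlgebraTensorModule.cancelBaseChange A B C C N
  let e' := TensorProduct.AlgebraTensorModule.cancelBaseChange A B C C N'
  have hnat : ∀ x, e' (g.lTensor C x) = f.lTensor C (e x) := by
    intro x
    induction x using TensorProduct.induction_on with
    | zero => simp
    | tmul c y =>
      induction y using TensorProduct.induction_on with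
      | zero => simp
      | tmul b n => simp [e, e', g]
      | add y z hy hz => simp only [tmul_add, map_add, hy, hz]
    | add x y hx hy => simp only [map_add, hx, hy]
  intro x y hxy
  have h2 : f.lTensor C (e x) = f.lTensor C (e y) := by rw [← hnat, ← hnat, hxy]
  exact e.injective (h1 h2)

/-- For ring maps A → B → C with C faithfully flat over B and C faithfully flat over A, the ring B is
faithfully flat over A. -/
theorem result (A B C : Type u) [CommRing A] [CommRing B]
    [CommRing C] [Algebra A B] [Algebra B C] [Algebra A C] [IsScalarTower A B C]
    [Module.FaithfullyFlat B C] [Module.FaithfullyFlat A C] : Module.FaithfullyFlat A B := by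
  haveI : Module.Flat A B := flat_of_comp A B C
  apply Module.FaithfullyFlat.of_comap_surjective
  intro p
  obtain ⟨q, hq⟩ := PrimeSpectrum.comap_surjective_of_faithfullyFlat (A := A) (B := C) p
  refine ⟨PrimeSpectrum.comap (algebraMap B C) q, ?_⟩
  rw [← hq]
  ext1
  simp only [PrimeSpectrum.comap_asIdeal]
  rw [Ideal.comap_comap, ← IsScalarTower.algebraMap_eq A B C]

end Groth.Agent.S14351
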