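import Groth.Statements.S14358
-- import your own Groth.Agent.* helpers here
import Mathlib

set_option autoImplicit false
universe u
open CAlg

namespace Groth.Agent.S14358

/-- Let A be a Noetherian integral domain with fraction field K and let r ∈ K. Then r belongs to A if
and only if, for every nonzero g ∈ A and every associated prime p of the A-module A/(g), the element
r belongs to the local ring A_p inside K, i.e. s r = a in K for some a ∈ A and some s ∈ A outside p. -/
theorem result (A K : Type u)
    [CommRing A] [IsDomain A] [IsNoetherianRing A] [Field K] [Algebra A K] [IsFractionRing A K]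
    (r : K) :
    r ∈ Set.range (algebraMap A K) ↔
      ∀ g : A, g ≠ 0 → ∀ p ∈ associatedPrimes A (A ⧸ Ideal.span {g}),
        ∃ a s : A, s ∉ p ∧ algebraMap A K s * r = algebraMap A K a := by
  constructor
  · rintro ⟨a0, rfl⟩ g hg p hp
    refine ⟨a0, 1, ?_, by simp⟩
    exact (Ideal.ne_top_iff_one p).mp (IsAssociatedPrime.isPrime hp).ne_top
  · intro h
    obtain ⟨x, y, rfl⟩ := IsLocalization.exists_mk'_eq (nonZeroDivisors A) r
    have hy0 : (y : A) ≠ 0 := nonZeroDivisors.ne_zero y.2
    have hinj : Function.Injective (algebraMap A K) := IsFractionRing.injective A K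
    have hyK : algebraMap A K (y : A) ≠ 0 := fun h0 => hy0 (hinj (by rw [h0, map_zero]))
    have hspec : IsLocalization.mk' K x y * algebraMap A K (y : A) = algebraMap A K x :=
      IsLocalization.mk'_spec K x y
    by_cases hm : (Ideal.Quotient.mk (Ideal.span {(y : A)}) x) = 0
    · rw [Ideal.Quotient.eq_zero_iff_mem, Ideal.mem_span_singleton'] at hm
      obtain ⟨c, hc⟩ := hm
      refine ⟨c, ?_⟩
      apply mul_right_cancel₀ hyK
      rw [hspec, ← map_mul, hc]
    · exfalso
      obtain ⟨p, hp, hle⟩ := exists_le_isAssociatedPrime_of_isNoetherianRing A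
        (Ideal.Quotient.mk (Ideal.span {(y : A)}) x) hm
      obtain ⟨a, s, hs, hsa⟩ := h (y : A) hy0 p hp
      apply hs
      apply hle
      rw [Submodule.mem_colon_singleton, Submodule.mem_bot]
      have e1 : s • (Ideal.Quotient.mk (Ideal.span {(y : A)}) x) =
          Ideal.Quotient.mk (Ideal.span {(y : A)}) (s * x) := rfl
      rw [e1, Ideal.Quotient.eq_zero_iff_mem, Ideal.mem_span_singleton']
      refine ⟨a, ?_⟩
      apply hinj
      rw [map_mul, map_mul, ← hsa, ← hspec]
      ring

end Groth.Agent.S14358
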