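import Groth.Statements.S14359
-- import your own Groth.Agent.* helpers here
import Mathlib

set_option autoImplicit false
universe u
open CAlg

namespace Groth.Agent.S14359

/-- Let A be a Noetherian integrally closed integral domain and b a nonzero element of A. Then every
associated prime of the A-module A/(b) has height one, so that A/(b) has no embedded associated
primes. -/
theorem result
    (A : Type u) [CommRing A] [IsDomain A] [IsNoetherianRing A] [IsIntegrallyClosed A]
    (b : A) (hb : b ≠ 0) (p : Ideal A) (hp : p ∈ associatedPrimes A (A ⧸ Ideal.span {b})) :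
    p.height = 1 := by
  classical
  obtain ⟨hpprime, xbar, hpx⟩ := isAssociatedPrime_iff.mp hp
  obtain ⟨x, rfl⟩ := Ideal.Quotient.mk_surjective xbar
  have hmem : ∀ a, a ∈ p ↔ b ∣ a * x := by
    intro a
    rw [hpx, Submodule.mem_colon_singleton, Submodule.mem_bot]
    have h1 : a • (Ideal.Quotient.mk (Ideal.span {b}) x)
        = Ideal.Quotient.mk (Ideal.span {b}) (a * x) := by
      rw [map_mul]; rfl
    rw [h1, Ideal.Quotient.eq_zero_iff_mem, Ideal.mem_span_singleton]
  have hbp : b ∈ p := (hmem b).mpr (dvd_mul_right b x)
  have hbx : ¬ b ∣ x := by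
    intro h
    apply hpprime.ne_top
    rw [Ideal.eq_top_iff_one, hmem]
    simpa using h
  have hkey : ∃ a₀ ∈ p, ∃ u, u ∉ p ∧ a₀ * x = u * b := by
    by_contra hcon
    have hcon' : ∀ a ∈ p, ∀ u, a * x = u * b → u ∈ p := by
      intro a ha u hu
      by_contra huP
      exact hcon ⟨a, ha, u, huP, hu⟩
    apply hbx
    have hbK : algebraMap A (FractionRing A) b ≠ 0 := by
      intro h
      exact hb ((injective_iff_map_eq_zero (algebraMap A (FractionRing A))).mp
        (IsFractionRing.injective A (FractionRing A)) _ h)
    let N : Submodule A (FractionRing A) :=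
      Submodule.map (Algebra.linearMap A (FractionRing A)) p
    have hN : N ≠ ⊥ := by
      intro h
      have h1 : algebraMap A (FractionRing A) b ∈ N := ⟨b, hbp, rfl⟩
      rw [h, Submodule.mem_bot] at h1
      exact hbK h1
    have hN' : N.FG := (IsNoetherian.noetherian p).map _
    have hint : IsIntegral A
        (algebraMap A (FractionRing A) x / algebraMap A (FractionRing A) b) := by
      refine isIntegral_of_smul_mem_submodule N hN hN' _ ?_
      rintro _ ⟨a, ha, rfl⟩
      obtain ⟨c, hc⟩ := (hmem a).mp ha
      refine ⟨c, hcon' a ha c (by rw [hc, mul_comm]), ?_⟩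
      rw [Algebra.linearMap_apply, Algebra.linearMap_apply, smul_eq_mul]
      have h2 : algebraMap A (FractionRing A) a * algebraMap A (FractionRing A) x
          = algebraMap A (FractionRing A) b * algebraMap A (FractionRing A) c := by
        rw [← map_mul, ← map_mul, hc]
      rw [div_mul_eq_mul_div, eq_div_iff hbK]
      linear_combination (-1 : FractionRing A) * h2
    obtain ⟨z, hz⟩ := IsIntegrallyClosed.algebraMap_eq_of_integral hint
    refine ⟨z, ?_⟩
    apply IsFractionRing.injective A (FractionRing A)
    rw [map_mul, hz]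
    field_simp
  obtain ⟨a₀, ha₀, u, hu, hau⟩ := hkey
  have hmin : p ∈ (Ideal.span {a₀}).minimalPrimes := by
    refine ⟨⟨hpprime, ?_⟩, ?_⟩
    · rw [Ideal.span_singleton_le_iff_mem]; exact ha₀
    · rintro q ⟨hq, hqa⟩ hqp
      intro a ha
      obtain ⟨c, hc⟩ := (hmem a).mp ha
      have h1 : u * a = a₀ * c := by
        apply mul_right_cancel₀ hb
        calc u * a * b = a * (u * b) := by ring
          _ = a * (a₀ * x) := by rw [hau]
          _ = a₀ * (a * x) := by ring
          _ = a₀ * (b * c) := by rw [hc]
          _ = a₀ * c * b := by ring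
      have h2 : u * a ∈ q := by
        rw [h1]; exact Ideal.mul_mem_right _ _ (hqa (Ideal.mem_span_singleton_self a₀))
      rcases hq.mem_or_mem h2 with h | h
      · exact absurd (hqp h) hu
      · exact h
  haveI : (Ideal.span {a₀}).IsPrincipal := ⟨⟨a₀, rfl⟩⟩
  have hle : p.height ≤ 1 := Ideal.height_le_one_of_isPrincipal_of_mem_minimalPrimes _ p hmin
  have hge : 1 ≤ p.height := by
    have hbot : (⊥ : Ideal A) < p := by
      rw [bot_lt_iff_ne_bot]; intro h; rw [h, Ideal.mem_bot] at hbp; exact hb hbp
    haveI := hpprime
    haveI : (⊥ : Ideal A).IsPrime := Ideal.isPrime_bot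
    have h3 := Ideal.height_strict_mono_of_isPrime hbot
    rw [Order.one_le_iff_pos]
    exact lt_of_le_of_lt zero_le h3
  exact le_antisymm hle hge

end Groth.Agent.S14359
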