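import Groth.Statements.S14360
-- import your own Groth.Agent.* helpers here
import Mathlib

set_option autoImplicit false
universe u
open AlgebraicGeometry
open Variety

namespace Groth.Agent.S14360

open AlgebraicGeometry CategoryTheory in
lemma E1 {X Y : Scheme.{u}} {D W : X.Opens} {E V : Y.Opens} (hWD : W ≤ D) (hVE : V ≤ E)
    (a : (D : Scheme.{u}) ⟶ Y) (b : (E : Scheme.{u}) ⟶ X)
    (c : (W : Scheme.{u}) ⟶ (E : Scheme.{u}))
    (hc1 : c ≫ E.ι = X.homOfLE hWD ≫ a) (hc2 : c ≫ b = W.ι) :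
    ((X.homOfLE hWD ≫ a) ∣_ V) ≫ (Y.homOfLE hVE ≫ b) =
      ((X.homOfLE hWD ≫ a) ⁻¹ᵁ V).ι ≫ W.ι := by
  have h : ((X.homOfLE hWD ≫ a) ∣_ V) ≫ Y.homOfLE hVE =
      ((X.homOfLE hWD ≫ a) ⁻¹ᵁ V).ι ≫ c := by
    rw [← cancel_mono E.ι]
    simp only [Category.assoc, Scheme.homOfLE_ι, morphismRestrict_ι, hc1]
  rw [← Category.assoc, h, Category.assoc, hc2]

open AlgebraicGeometry CategoryTheory in
lemma liftα {X Y : Scheme.{u}} {D W : X.Opens} {E V : Y.Opens} (hWD : W ≤ D) (hVE : V ≤ E)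
    (a : (D : Scheme.{u}) ⟶ Y) (b : (E : Scheme.{u}) ⟶ X)
    (c : (W : Scheme.{u}) ⟶ (E : Scheme.{u}))
    (hc1 : c ≫ E.ι = X.homOfLE hWD ≫ a) (hc2 : c ≫ b = W.ι) :
    ∃ α : (((X.homOfLE hWD ≫ a) ⁻¹ᵁ V : (W : Scheme.{u}).Opens) : Scheme.{u}) ⟶
        (((Y.homOfLE hVE ≫ b) ⁻¹ᵁ W : (V : Scheme.{u}).Opens) : Scheme.{u}),
      α ≫ ((Y.homOfLE hVE ≫ b) ⁻¹ᵁ W).ι = (X.homOfLE hWD ≫ a) ∣_ V := by
  refine ⟨IsOpenImmersion.lift ((Y.homOfLE hVE ≫ b) ⁻¹ᵁ W).ι ((X.homOfLE hWD ≫ a) ∣_ V) ?_,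
    IsOpenImmersion.lift_fac _ _ _⟩
  rintro _ ⟨u, rfl⟩
  rw [Scheme.Opens.range_ι]
  show (Y.homOfLE hVE ≫ b) (((X.homOfLE hWD ≫ a) ∣_ V) u) ∈ W
  have h := E1 hWD hVE a b c hc1 hc2
  have h2 : (Y.homOfLE hVE ≫ b) (((X.homOfLE hWD ≫ a) ∣_ V) u) =
      W.ι (((X.homOfLE hWD ≫ a) ⁻¹ᵁ V).ι u) := by
    rw [← Scheme.Hom.comp_apply, ← Scheme.Hom.comp_apply, h]
  rw [h2]
  exact (((X.homOfLE hWD ≫ a) ⁻¹ᵁ V).ι u).2

open AlgebraicGeometry CategoryTheory in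
lemma isoCore {X Y : Scheme.{u}} {D W : X.Opens} {E V : Y.Opens} (hWD : W ≤ D) (hVE : V ≤ E)
    (a : (D : Scheme.{u}) ⟶ Y) (b : (E : Scheme.{u}) ⟶ X)
    (c : (W : Scheme.{u}) ⟶ (E : Scheme.{u})) (d : (V : Scheme.{u}) ⟶ (D : Scheme.{u}))
    (hc1 : c ≫ E.ι = X.homOfLE hWD ≫ a) (hc2 : c ≫ b = W.ι)
    (hd1 : d ≫ D.ι = Y.homOfLE hVE ≫ b) (hd2 : d ≫ a = V.ι) :
    Nonempty ((((X.homOfLE hWD ≫ a) ⁻¹ᵁ V : (W : Scheme.{u}).Opens) : Scheme.{u}) ≅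
        (((Y.homOfLE hVE ≫ b) ⁻¹ᵁ W : (V : Scheme.{u}).Opens) : Scheme.{u})) := by
  obtain ⟨α, hα⟩ := liftα hWD hVE a b c hc1 hc2
  obtain ⟨β, hβ⟩ := liftα hVE hWD b a d hd1 hd2
  refine ⟨⟨α, β, ?_, ?_⟩⟩
  · rw [← cancel_mono ((X.homOfLE hWD ≫ a) ⁻¹ᵁ V).ι, ← cancel_mono W.ι]
    simp only [Category.assoc, Category.id_comp]
    rw [reassoc_of% hβ, morphismRestrict_ι, reassoc_of% hα]
    exact E1 hWD hVE a b c hc1 hc2
  · rw [← cancel_mono ((Y.homOfLE hVE ≫ b) ⁻¹ᵁ W).ι, ← cancel_mono V.ι]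
    simp only [Category.assoc, Category.id_comp]
    rw [reassoc_of% hα, morphismRestrict_ι, reassoc_of% hβ]
    exact E1 hVE hWD b a d hd1 hd2

open AlgebraicGeometry CategoryTheory in
lemma extract {X Y : Scheme.{u}} [PreirreducibleSpace X] [Nonempty Y] (f' : X.PartialMap Y)
    [IsDominant f'.hom] (g' : Y.PartialMap X)
    (h : (f'.comp g').equiv (Scheme.PartialMap.id X)) :
    ∃ (W : X.Opens) (_ : Dense (W : Set X)) (hWD : W ≤ f'.domain)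
      (c : (W : Scheme.{u}) ⟶ (g'.domain : Scheme.{u})),
      c ≫ g'.domain.ι = X.homOfLE hWD ≫ f'.hom ∧ c ≫ g'.hom = W.ι := by
  obtain ⟨W, hW, hWl, hWr, e⟩ := h
  have hWl' : W ≤ f'.domain.ι ''ᵁ f'.hom ⁻¹ᵁ g'.domain := hWl
  have hWD : W ≤ f'.domain := hWl'.trans (f'.domain.ι_image_le _)
  refine ⟨W, hW, hWD,
    X.homOfLE hWl' ≫ (f'.domain.ι.isoImage _).inv ≫ (f'.hom ∣_ g'.domain), ?_, ?_⟩
  · simp only [Category.assoc, morphismRestrict_ι]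
    rw [Scheme.Opens.isoImage_ι_inv_ι_assoc, Scheme.homOfLE_homOfLE_assoc]
  · have e' : X.homOfLE hWl' ≫ (f'.domain.ι.isoImage _).inv ≫ (f'.hom ∣_ g'.domain) ≫ g'.hom =
        X.homOfLE hWr ≫ (Scheme.PartialMap.id X).hom := e
    simp only [Category.assoc]
    rw [e']
    exact X.homOfLE_ι _

open AlgebraicGeometry CategoryTheory in
lemma pm_comp {X Y : Scheme.{u}} [PreirreducibleSpace X] [Nonempty Y] (D : X.Opens)
    (hD : Dense (D : Set X)) (E : Y.Opens) (hE : Dense (E : Set Y))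
    (i : (D : Scheme.{u}) ≅ (E : Scheme.{u})) [IsDominant (i.hom ≫ E.ι)] :
    (Scheme.PartialMap.comp (⟨D, hD, i.hom ≫ E.ι⟩ : X.PartialMap Y)
      (⟨E, hE, i.inv ≫ D.ι⟩ : Y.PartialMap X)).equiv (Scheme.PartialMap.id X) := by
  refine ⟨_, (Scheme.PartialMap.comp (⟨D, hD, i.hom ≫ E.ι⟩ : X.PartialMap Y)
      (⟨E, hE, i.inv ≫ D.ι⟩ : Y.PartialMap X)).dense_domain, le_rfl, le_top, ?_⟩
  have key : ((i.hom ≫ E.ι) ∣_ E) = ((i.hom ≫ E.ι) ⁻¹ᵁ E).ι ≫ i.hom := by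
    rw [← cancel_mono E.ι, morphismRestrict_ι, Category.assoc]
  show X.homOfLE _ ≫ ((D.ι.isoImage _).inv ≫ ((i.hom ≫ E.ι) ∣_ E) ≫ i.inv ≫ D.ι) =
    X.homOfLE _ ≫ (Scheme.PartialMap.id X).hom
  rw [key]
  simp only [Category.assoc, Iso.hom_inv_id_assoc]
  rw [Scheme.Hom.isoImage_inv_ι]
  exact (X.homOfLE_ι _).trans (X.homOfLE_ι _).symm

open AlgebraicGeometry CategoryTheory in
lemma pi_comp {X Y : Scheme.{u}} [PreirreducibleSpace X] [Nonempty Y] (φ : X.PartialIso Y)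
    [h : IsDominant φ.toPartialMap.hom] :
    (φ.toPartialMap.comp φ.symm.toPartialMap).equiv (Scheme.PartialMap.id X) := by
  haveI : IsDominant (φ.iso.hom ≫ φ.target.ι) := h
  exact pm_comp φ.source φ.dense_source φ.target φ.dense_target φ.iso

open AlgebraicGeometry CategoryTheory in
lemma dom_of_pi {X Y : Scheme.{u}} (φ : X.PartialIso Y) : IsDominant φ.toPartialMap.hom := by
  dsimp [Scheme.PartialIso.toPartialMap]
  haveI := Opens.isDominant_ι φ.dense_target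
  infer_instance

open AlgebraicGeometry CategoryTheory in
lemma mk_birational {X Y : Scheme.{u}} [IrreducibleSpace X] [IrreducibleSpace Y]
    (f' : X.PartialMap Y) (g' : Y.PartialMap X) [IsDominant f'.hom] [IsDominant g'.hom]
    (h1' : (f'.comp g').equiv (Scheme.PartialMap.id X))
    (h2' : (g'.comp f').equiv (Scheme.PartialMap.id Y)) : Scheme.Birational X Y := by
  obtain ⟨W, hW, hWD, c, hc1, hc2⟩ := extract f' g' h1'
  obtain ⟨V, hV, hVE, d, hd1, hd2⟩ := extract g' f' h2'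
  obtain ⟨iso'⟩ := isoCore hWD hVE f'.hom g'.hom c d hc1 hc2 hd1 hd2
  haveI : IsDominant (X.homOfLE hWD ≫ f'.hom) := by
    haveI := Opens.isDominant_homOfLE hW hWD
    infer_instance
  haveI : IsDominant (Y.homOfLE hVE ≫ g'.hom) := by
    haveI := Opens.isDominant_homOfLE hV hVE
    infer_instance
  refine ⟨⟨W.ι ''ᵁ ((X.homOfLE hWD ≫ f'.hom) ⁻¹ᵁ V), ?_,
    V.ι ''ᵁ ((Y.homOfLE hVE ≫ g'.hom) ⁻¹ᵁ W), ?_,
    (W.ι.isoImage _).symm ≪≫ iso' ≪≫ V.ι.isoImage _⟩⟩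
  · refine (W.ι ''ᵁ ((X.homOfLE hWD ≫ f'.hom) ⁻¹ᵁ V)).2.dense ?_
    obtain ⟨y, hy, u, rfl⟩ :=
      (X.homOfLE hWD ≫ f'.hom).denseRange.inter_open_nonempty _ V.2 hV.nonempty
    exact ⟨W.ι u, u, hy, rfl⟩
  · refine (V.ι ''ᵁ ((Y.homOfLE hVE ≫ g'.hom) ⁻¹ᵁ W)).2.dense ?_
    obtain ⟨y, hy, u, rfl⟩ :=
      (Y.homOfLE hVE ≫ g'.hom).denseRange.inter_open_nonempty _ W.2 hW.nonempty
    exact ⟨V.ι u, u, hy, rfl⟩

/-- Let X and Y be integral schemes. Then X and Y have isomorphic dense open subschemes if and only if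
they are birational in the sense of rational maps, i.e. there exist dominant rational maps f : X ⤏ Y
and g : Y ⤏ X such that the composites g ∘ f and f ∘ g are the identity rational maps of X and of Y. -/
theorem result (X Y : Scheme.{u})
    [IsIntegral X] [IsIntegral Y] :
    Scheme.Birational X Y ↔
      ∃ (f : X ⤏ Y) (g : Y ⤏ X) (_ : f.IsDominant) (_ : g.IsDominant),
        f.comp g = Scheme.RationalMap.id X ∧ g.comp f = Scheme.RationalMap.id Y := by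
  constructor
  · rintro ⟨φ⟩
    haveI : IsDominant φ.toPartialMap.hom := dom_of_pi φ
    haveI : IsDominant φ.symm.toPartialMap.hom := dom_of_pi φ.symm
    refine ⟨φ.toRationalMap, φ.symm.toRationalMap, inferInstance, inferInstance, ?_, ?_⟩
    · rw [Scheme.RationalMap.toRationalMap_comp]
      exact Scheme.PartialMap.toRationalMap_eq_iff.mpr (pi_comp φ)
    · rw [Scheme.RationalMap.toRationalMap_comp]
      exact Scheme.PartialMap.toRationalMap_eq_iff.mpr (pi_comp φ.symm)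
  · rintro ⟨f, g, hf, hg, h1, h2⟩
    obtain ⟨f', rfl⟩ := f.exists_rep
    obtain ⟨g', rfl⟩ := g.exists_rep
    haveI : IsDominant f'.hom := (Scheme.PartialMap.isDominant_toRationalMap_iff f').mp hf
    haveI : IsDominant g'.hom := (Scheme.PartialMap.isDominant_toRationalMap_iff g').mp hg
    have h1' : (f'.comp g').equiv (Scheme.PartialMap.id X) :=
      Scheme.PartialMap.toRationalMap_eq_iff.mp
        (by rw [← Scheme.RationalMap.toRationalMap_comp]; exact h1)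
    have h2' : (g'.comp f').equiv (Scheme.PartialMap.id Y) :=
      Scheme.PartialMap.toRationalMap_eq_iff.mp
        (by rw [← Scheme.RationalMap.toRationalMap_comp]; exact h2)
    exact mk_birational f' g' h1' h2'

end Groth.Agent.S14360
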