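import Groth.Statements.S14361
-- import your own Groth.Agent.* helpers here
import Mathlib

set_option autoImplicit false
universe u
open AlgebraicGeometry
open SchImage

namespace Groth.Agent.S14361

open CategoryTheory TopologicalSpace

set_option backward.defeqAttrib.useBackward true in
set_option backward.isDefEq.respectTransparency false in
theorem ker_apply_of_isReduced (X Y : Scheme.{u}) [IsReduced X]
    (f : X ⟶ Y) (U : Y.affineOpens) :
    f.ker.ideal U = RingHom.ker (f.app U).hom := by
  let I : Scheme.IdealSheafData Y := ⟨fun U ↦ RingHom.ker (f.app U).hom, ?_, _, rfl⟩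
  · exact congr($(Scheme.IdealSheafData.ofIdeals_ideal I).ideal U)
  intro U s
  apply le_antisymm
  · refine Ideal.map_le_iff_le_comap.mpr fun x hx ↦ ?_
    simp_rw [RingHom.comap_ker, ← CommRingCat.hom_comp, Scheme.affineBasicOpen_coe, f.naturality,
      CommRingCat.hom_comp, ← RingHom.comap_ker]
    exact Ideal.ker_le_comap _ hx
  · intro x hx
    have := U.2.isLocalization_basicOpen s
    obtain ⟨x, ⟨_, n, rfl⟩, rfl⟩ := IsLocalization.exists_mk'_eq (.powers s) x
    refine (IsLocalization.mk'_mem_map_algebraMap_iff _ _ _ _ _).mpr ?_
    replace hx : (Y.presheaf.map (homOfLE (Y.basicOpen_le s)).op ≫ f.app _).hom x = 0 := by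
      trans (f.app (Y.basicOpen s)).hom (algebraMap Γ(Y, U) _ x)
      · simp [-NatTrans.naturality, RingHom.algebraMap_toAlgebra]
      · simp only [Scheme.affineBasicOpen_coe, RingHom.mem_ker] at hx
        rw [← IsLocalization.mk'_spec' (M := .powers s), map_mul, hx, mul_zero]
    rw [f.naturality] at hx
    refine ⟨s, ⟨1, pow_one s⟩, ?_⟩
    rw [RingHom.mem_ker, map_mul]
    rw [← AlgebraicGeometry.basicOpen_eq_bot_iff, Scheme.basicOpen_mul, ← Scheme.preimage_basicOpen]
    have h2 : X.basicOpen ((X.presheaf.map
        ((Opens.map f.base).map (homOfLE (Y.basicOpen_le s)).op.unop).op).hom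
        ((f.app U).hom x)) = ⊥ := by
      have : (X.presheaf.map ((Opens.map f.base).map (homOfLE (Y.basicOpen_le s)).op.unop).op).hom
        ((f.app U).hom x) = 0 := hx
      rw [this, Scheme.basicOpen_zero]
    rw [Scheme.basicOpen_res] at h2
    exact h2

/-- Let π : X → Y be a morphism of schemes with X reduced. Then the scheme-theoretic image of π is
computed affine-locally: on every affine open U of Y, the ideal of the kernel ideal sheaf of π (the
largest quasi-coherent ideal sheaf contained in the componentwise kernels) equals the ideal of those
sections over U which pull back to zero on π⁻¹(U). (The published statement allows, as an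
alternative to X being reduced, that π be quasi-compact; this row is the reduced case and assumes no
quasi-compactness.) -/
theorem result (X Y : Scheme.{u}) [IsReduced X]
    (π : X ⟶ Y) (U : Y.affineOpens) :
    π.ker.ideal U = RingHom.ker (π.app U).hom := by
  exact ker_apply_of_isReduced X Y π U

end Groth.Agent.S14361
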