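import Groth.Statements.S14362
-- import your own Groth.Agent.* helpers here
import Mathlib
import Groth.Agent.S14361

set_option autoImplicit false
universe u
open AlgebraicGeometry
open SchImage

namespace Groth.Agent.S14362

open CategoryTheory TopologicalSpace

/-- Let π : X → Y be a morphism of schemes with X reduced. Then the closed subset underlying the
scheme-theoretic image of π, i.e. the support of its kernel ideal sheaf, is the closure of the image
of π. (The published statement allows, as an alternative to X being reduced, that π be
quasi-compact; this row is the reduced case and assumes no quasi-compactness.) -/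
theorem result (X Y : Scheme.{u}) [IsReduced X]
    (π : X ⟶ Y) :
    (π.ker.support : Set Y) = closure (Set.range π) := by
  apply subset_antisymm
  · intro y hy
    by_contra hcl
    obtain ⟨_, ⟨U, hU, rfl⟩, hyU, -⟩ :=
      Y.isBasis_affineOpens.exists_subset_of_mem_open (Set.mem_univ y) isOpen_univ
    let W : Y.Opens := ⟨(closure (Set.range π))ᶜ, isClosed_closure.isOpen_compl⟩
    have hyW : y ∈ W := hcl
    obtain ⟨s, hsW, hys⟩ := hU.exists_basicOpen_le (V := W) ⟨y, hyW⟩ hyU
    have hbot : X.basicOpen ((π.app U).hom s) = ⊥ := by
      rw [← Scheme.preimage_basicOpen]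
      ext x
      simp only [Opens.coe_bot, Set.mem_empty_iff_false, iff_false]
      intro hx
      have h1 : π x ∈ W := hsW hx
      exact h1 (subset_closure ⟨x, rfl⟩)
    have hs0 : (π.app U).hom s = 0 := (AlgebraicGeometry.basicOpen_eq_bot_iff _).mp hbot
    have hsker : s ∈ π.ker.ideal ⟨U, hU⟩ := by
      rw [Groth.Agent.S14361.result X Y π ⟨U, hU⟩]
      exact hs0
    have hz := (Scheme.IdealSheafData.mem_support_iff_of_mem (I := π.ker) (U := ⟨U, hU⟩) hyU).mp hy
    rw [Scheme.mem_zeroLocus_iff] at hz
    exact hz s hsker hys
  · rw [(Scheme.IdealSheafData.support _).isClosed.closure_subset_iff]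
    exact π.range_subset_ker_support

end Groth.Agent.S14362
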