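import Groth.Statements.S14363
-- import your own Groth.Agent.* helpers here
import Mathlib

set_option autoImplicit false
universe u
open CAlg

namespace Groth.Agent.S14363

/-- Let A be a Noetherian ring and 0 → M' → M → M'' → 0 a short exact sequence of A-modules. If a prime
p of A is an associated prime of M'' and is not in the support of M', then p is an associated prime
of M. -/
theorem result (A : Type u) [CommRing A] [IsNoetherianRing A]
    (M' M M'' : Type u) [AddCommGroup M'] [Module A M'] [AddCommGroup M] [Module A M]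
    [AddCommGroup M''] [Module A M'']
    (f : M' →ₗ[A] M) (g : M →ₗ[A] M'') (hf : Function.Injective f) (hg : Function.Surjective g)
    (hfg : Function.Exact f g)
    (p : PrimeSpectrum A) (hp : p.asIdeal ∈ associatedPrimes A M'') (hsupp : p ∉ Module.support A M') :
    p.asIdeal ∈ associatedPrimes A M := by
  classical
  rw [AssociatedPrimes.mem_iff, isAssociatedPrime_iff] at hp ⊢
  obtain ⟨hprime, x'', hx''⟩ := hp
  refine ⟨hprime, ?_⟩
  obtain ⟨x, rfl⟩ := hg x''
  have hmem : ∀ a, a ∈ p.asIdeal ↔ a • g x = 0 := by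
    intro a; rw [hx'']; simp [Submodule.mem_colon_singleton]
  rw [Module.notMem_support_iff'] at hsupp
  have h1 : ∀ a ∈ p.asIdeal, ∃ m' : M', f m' = a • x := by
    intro a ha
    have h0 : g (a • x) = 0 := by rw [map_smul]; exact (hmem a).1 ha
    exact (hfg _).1 h0
  obtain ⟨S, hS⟩ := (isNoetherianRing_iff_ideal_fg A).1 inferInstance p.asIdeal
  have h2 : ∀ a ∈ S, ∃ r : A, r ∉ p.asIdeal ∧ r • (a • x) = 0 := by
    intro a ha
    have hap : a ∈ p.asIdeal := by rw [← hS]; exact Ideal.subset_span ha
    obtain ⟨m', hm'⟩ := h1 a hap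
    obtain ⟨r, hr, hrm⟩ := hsupp m'
    exact ⟨r, hr, by rw [← hm', ← map_smul, hrm, map_zero]⟩
  choose! r hr hrx using h2
  set s := ∏ a ∈ S, r a with hs_def
  have hs : s ∉ p.asIdeal := by
    intro h
    obtain ⟨a, ha, hra⟩ := (Ideal.IsPrime.prod_mem_iff (hp := hprime)).1 h
    exact hr a ha hra
  have hsx : ∀ a ∈ p.asIdeal, a • (s • x) = 0 := by
    intro a ha
    rw [← hS] at ha
    refine Submodule.span_induction ?_ ?_ ?_ ?_ ha
    · intro a haS
      have h3 : s = (∏ b ∈ S.erase a, r b) * r a := (Finset.prod_erase_mul S r haS).symm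
      rw [smul_comm, h3, mul_smul, hrx a haS, smul_zero]
    · simp
    · intro a b _ _ ha hb; rw [add_smul, ha, hb, add_zero]
    · intro c a _ ha; rw [smul_eq_mul, mul_smul, ha, smul_zero]
  refine ⟨s • x, ?_⟩
  ext b
  rw [Submodule.mem_colon_singleton, Submodule.mem_bot]
  constructor
  · exact hsx b
  · intro hb
    have h4 : (b * s) • g x = 0 := by rw [mul_smul, ← map_smul, ← map_smul, hb, map_zero]
    have h5 := (hmem (b * s)).2 h4
    exact (hprime.mem_or_mem h5).resolve_right hs

end Groth.Agent.S14363
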