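import Groth.Statements.S14388
-- import your own Groth.Agent.* helpers here
import Mathlib

set_option autoImplicit false
open CategoryTheory CategoryTheory.Limits
universe w v u
open CohDer

namespace Groth.Agent.S14388

section
open CategoryTheory Pretriangulated Limits DerivedCategory

private lemma P3 {D : Type*} [Category D] {X X' Q P' TX TX' : D} (φ : X ⟶ X') (π : X ⟶ Q)
    (e : Q ⟶ TX) [IsIso e] (πt : X ⟶ TX) (he : π ≫ e = πt) (ι : P' ⟶ X') (d : P' ⟶ TX')
    [IsIso d] (ιt : TX' ⟶ X') (hd : d ≫ ιt = ι)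
    (H : ∃! Lt : TX ⟶ TX', φ = πt ≫ Lt ≫ ιt) : ∃! L : Q ⟶ P', φ = π ≫ L ≫ ι := by
  obtain ⟨L0, hL0, huniq⟩ := H
  have hL0' : φ = πt ≫ L0 ≫ ιt := hL0
  have key : ∀ L : Q ⟶ P', π ≫ L ≫ ι = πt ≫ (inv e ≫ L ≫ d) ≫ ιt := by
    intro L
    rw [← he, ← hd]
    simp
  refine ⟨e ≫ L0 ≫ inv d, ?_, ?_⟩
  · change φ = π ≫ (e ≫ L0 ≫ inv d) ≫ ι
    rw [key]
    simpa using hL0'
  · intro L hL
    have hL' : φ = π ≫ L ≫ ι := hL
    have h1 := huniq (inv e ≫ L ≫ d) (by
      change φ = πt ≫ (inv e ≫ L ≫ d) ≫ ιt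
      rw [← key]
      exact hL')
    rw [← h1]
    simp

variable {C : Type u} [Category.{v} C] [Abelian C] [HasDerivedCategory.{w} C]

private noncomputable abbrev tS (C : Type u) [Category.{v} C] [Abelian C]
    [HasDerivedCategory.{w} C] : Triangulated.TStructure (DerivedCategory C) :=
  DerivedCategory.TStructure.t

private lemma lemmaA {X Y : DerivedCategory C} (b : ℤ) (hX1 : X.IsGE b) (hX2 : X.IsLE b)
    (hY1 : Y.IsGE b) (hY2 : Y.IsLE b) (f : X ⟶ Y)
    (hf : (homologyFunctor C b).map f = 0) : f = 0 := by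
  obtain ⟨A, ⟨eX⟩⟩ := X.exists_iso_singleFunctor_obj_of_isGE_of_isLE b
  obtain ⟨B, ⟨eY⟩⟩ := Y.exists_iso_singleFunctor_obj_of_isGE_of_isLE b
  obtain ⟨φ, hφ⟩ := (singleFunctor C b).map_surjective (eX.inv ≫ f ≫ eY.hom)
  have h1 : (homologyFunctor C b).map ((singleFunctor C b).map φ) = 0 := by
    rw [hφ, Functor.map_comp, Functor.map_comp, hf, zero_comp, comp_zero]
  have h2 : φ = 0 := by
    have eq₁ := NatIso.naturality_1 (singleFunctorCompHomologyFunctorIso C b) φ
    dsimp at eq₁
    rw [← eq₁, h1, zero_comp, comp_zero]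
  have h3 : eX.inv ≫ f ≫ eY.hom = 0 := by rw [← hφ, h2, Functor.map_zero]
  have h4 : f = eX.hom ≫ (eX.inv ≫ f ≫ eY.hom) ≫ eY.inv := by simp
  rw [h4, h3, zero_comp, comp_zero]

private lemma mono_H_ι (Z : DerivedCategory C) (m n : ℤ) :
    Mono ((homologyFunctor C n).map (((tS C).truncLTι m).app Z)) := by
  have hT := (tS C).triangleLTGE_distinguished m Z
  have key := HomologySequence.mono_homologyMap_mor₁_iff _ hT (n - 1) n (by omega)
  apply key.mpr
  by_cases hn : n ≤ m
  · apply IsZero.eq_of_src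
    exact DerivedCategory.isZero_of_isGE (((tS C).truncGE m).obj Z) m (n - 1) (by omega)
  · apply IsZero.eq_of_tgt
    exact DerivedCategory.isZero_of_isLE (((tS C).truncLT m).obj Z) (m - 1) n (by omega)

private lemma epi_H_ι (Z : DerivedCategory C) (m n : ℤ) (hn : n < m) :
    Epi ((homologyFunctor C n).map (((tS C).truncLTι m).app Z)) := by
  have hT := (tS C).triangleLTGE_distinguished m Z
  have key := HomologySequence.epi_homologyMap_mor₁_iff _ hT n
  apply key.mpr
  apply IsZero.eq_of_tgt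
  exact DerivedCategory.isZero_of_isGE (((tS C).truncGE m).obj Z) m n hn

private lemma epi_H_π (Z : DerivedCategory C) (m n : ℤ) :
    Epi ((homologyFunctor C n).map (((tS C).truncGEπ m).app Z)) := by
  have hT := (tS C).triangleLTGE_distinguished m Z
  have key := HomologySequence.epi_homologyMap_mor₂_iff _ hT n (n + 1) rfl
  apply key.mpr
  by_cases hn : n < m
  · apply IsZero.eq_of_src
    exact DerivedCategory.isZero_of_isGE (((tS C).truncGE m).obj Z) m n hn
  · apply IsZero.eq_of_tgt
    exact DerivedCategory.isZero_of_isLE (((tS C).truncLT m).obj Z) (m - 1) (n + 1) (by omega)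

private lemma mono_H_π (Z : DerivedCategory C) (m n : ℤ) (hn : m ≤ n) :
    Mono ((homologyFunctor C n).map (((tS C).truncGEπ m).app Z)) := by
  have hT := (tS C).triangleLTGE_distinguished m Z
  have key := HomologySequence.mono_homologyMap_mor₂_iff _ hT n
  apply key.mpr
  apply IsZero.eq_of_src
  exact DerivedCategory.isZero_of_isLE (((tS C).truncLT m).obj Z) (m - 1) n (by omega)

private lemma iso_H_ι (Z : DerivedCategory C) (m n : ℤ) (hn : n < m) :
    IsIso ((homologyFunctor C n).map (((tS C).truncLTι m).app Z)) := by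
  haveI := mono_H_ι Z m n
  haveI := epi_H_ι Z m n hn
  exact isIso_of_mono_of_epi _

private lemma iso_H_π (Z : DerivedCategory C) (m n : ℤ) (hn : m ≤ n) :
    IsIso ((homologyFunctor C n).map (((tS C).truncGEπ m).app Z)) := by
  haveI := mono_H_π Z m n hn
  haveI := epi_H_π Z m n
  exact isIso_of_mono_of_epi _

private lemma H_truncLT_map_zero {K K' : DerivedCategory C} (f : K ⟶ K') (m n : ℤ)
    (hf : (homologyFunctor C n).map f = 0) :
    (homologyFunctor C n).map (((tS C).truncLT m).map f) = 0 := by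
  have hm := mono_H_ι K' m n
  rw [← cancel_mono ((homologyFunctor C n).map (((tS C).truncLTι m).app K')), zero_comp,
    ← Functor.map_comp]
  have h1 := ((tS C).truncLTι m).naturality f
  rw [h1, Functor.id_map, Functor.map_comp, hf, comp_zero]

private lemma H_truncGE_map_zero {Y Y' : DerivedCategory C} (g : Y ⟶ Y') (m n : ℤ)
    (hg : (homologyFunctor C n).map g = 0) :
    (homologyFunctor C n).map (((tS C).truncGE m).map g) = 0 := by
  have he := epi_H_π Y m n
  rw [← cancel_epi ((homologyFunctor C n).map (((tS C).truncGEπ m).app Y)), comp_zero,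
    ← Functor.map_comp]
  have h1 := ((tS C).truncGEπ m).naturality g
  rw [← h1, Functor.id_map, Functor.map_comp, hg, zero_comp]

private lemma P1 {X X' : DerivedCategory C} (φ : X ⟶ X') (q : ℤ)
    [X.IsGE (q - 1)] [X'.IsGE (q - 1)] [X.IsLE q] [X'.IsLE q]
    (h₁ : (homologyFunctor C (q - 1)).map φ = 0) (h₂ : (homologyFunctor C q).map φ = 0) :
    ∃! L : ((tS C).truncGE q).obj X ⟶ ((tS C).truncLT q).obj X',
      φ = ((tS C).truncGEπ q).app X ≫ L ≫ ((tS C).truncLTι q).app X' := by
  have U1 : ∀ g : ((tS C).truncGE q).obj X ⟶ X', ((tS C).truncGEπ q).app X ≫ g = 0 → g = 0 := by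
    intro g hg
    obtain ⟨k, hk⟩ := Triangle.yoneda_exact₃ _ ((tS C).triangleLTGE_distinguished q X) g hg
    have hk' := (tS C).zero_of_isLE_of_isGE k (q - 2) (q - 1) (by omega)
      (by exact (tS C).isLE_shift _ (q - 1) 1 (q - 2) (by omega)) inferInstance
    rw [hk, hk']
    exact comp_zero
  have U2 : ∀ g : ((tS C).truncGE q).obj X ⟶ ((tS C).truncLT q).obj X',
      g ≫ ((tS C).truncLTι q).app X' = 0 → g = 0 := by
    intro g hg
    obtain ⟨k, hk⟩ := Triangle.coyoneda_exact₂ _ (inv_rot_of_distTriang _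
      ((tS C).triangleLTGE_distinguished q X')) g hg
    have hk' := (tS C).zero_of_isLE_of_isGE k q (q + 1) (by omega) inferInstance
      (by apply ((tS C).isGE_shift _ q (-1) (q + 1) (by omega)))
    rw [hk, hk']
    exact zero_comp
  have h0 : ((tS C).truncLT q).map φ = 0 :=
    lemmaA (q - 1) inferInstance inferInstance inferInstance inferInstance
      (((tS C).truncLT q).map φ) (H_truncLT_map_zero φ q (q - 1) h₁)
  have h3 : ((tS C).truncLTι q).app X ≫ φ = 0 := by
    have hn := ((tS C).truncLTι q).naturality φ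
    rw [Functor.id_map] at hn
    rw [← hn, h0, zero_comp]
  obtain ⟨ψ, hψ⟩ : ∃ ψ : ((tS C).truncGE q).obj X ⟶ X',
      φ = ((tS C).truncGEπ q).app X ≫ ψ :=
    Triangle.yoneda_exact₂ _ ((tS C).triangleLTGE_distinguished q X) φ h3
  have h5 : ((tS C).truncGE q).map φ = 0 :=
    lemmaA q inferInstance inferInstance inferInstance inferInstance
      (((tS C).truncGE q).map φ) (H_truncGE_map_zero φ q q h₂)
  have h4 : ψ ≫ ((tS C).truncGEπ q).app X' = 0 := by
    apply (tS C).from_truncGE_obj_ext
    have hn2 := ((tS C).truncGEπ q).naturality φ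
    rw [Functor.id_map] at hn2
    rw [← Category.assoc, ← hψ, hn2, h5]
  obtain ⟨L, hL⟩ : ∃ L : ((tS C).truncGE q).obj X ⟶ ((tS C).truncLT q).obj X',
      ψ = L ≫ ((tS C).truncLTι q).app X' :=
    Triangle.coyoneda_exact₂ _ ((tS C).triangleLTGE_distinguished q X') ψ h4
  refine ⟨L, ?_, ?_⟩
  · change φ = ((tS C).truncGEπ q).app X ≫ L ≫ ((tS C).truncLTι q).app X'
    rw [← hL]
    exact hψ
  · intro L2 hL2
    have hL2' : φ = ((tS C).truncGEπ q).app X ≫ L2 ≫ ((tS C).truncLTι q).app X' := hL2
    have h6 : ((tS C).truncGEπ q).app X ≫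
        (L2 ≫ ((tS C).truncLTι q).app X' - L ≫ ((tS C).truncLTι q).app X') = 0 := by
      rw [Preadditive.comp_sub, ← hL2', ← hL, ← hψ, sub_self]
    have h7 := U1 _ h6
    have h8 : (L2 - L) ≫ ((tS C).truncLTι q).app X' = 0 := by
      rw [Preadditive.sub_comp]
      exact h7
    have h9 := U2 _ h8
    exact sub_eq_zero.mp h9

private lemma heLemma (Y : DerivedCategory C) (q : ℤ) (hq1 : q - 1 ≤ q) :
    ((tS C).natTransTruncGEOfLE (q - 1) q hq1).app Y ≫
      ((tS C).truncGE q).map (((tS C).truncGEπ (q - 1)).app Y) =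
    ((tS C).truncGEπ q).app (((tS C).truncGE (q - 1)).obj Y) := by
  haveI : (tS C).IsGE (((tS C).truncGE q).obj (((tS C).truncGE (q - 1)).obj Y)) (q - 1) :=
    (tS C).isGE_of_ge _ (q - 1) q hq1
  apply (tS C).from_truncGE_obj_ext
  have hnat := ((tS C).truncGEπ q).naturality (((tS C).truncGEπ (q - 1)).app Y)
  rw [Functor.id_map] at hnat
  rw [hnat, ← Category.assoc, (tS C).π_natTransTruncGEOfLE_app]
  rfl

private lemma ιIso (K' : DerivedCategory C) (q : ℤ) (hq2 : q ≤ q + 1) :
    IsIso ((homologyFunctor C (q - 1)).map (((tS C).truncGE (q - 1)).map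
      (((tS C).natTransTruncLTOfLE q (q + 1) hq2).app K'))) := by
  have hnat := ((tS C).truncGEπ (q - 1)).naturality
    (((tS C).natTransTruncLTOfLE q (q + 1) hq2).app K')
  rw [Functor.id_map] at hnat
  have h2 := congrArg (fun g => (homologyFunctor C (q - 1)).map g) hnat
  simp only [CategoryTheory.Functor.map_comp] at h2
  haveI : IsIso ((homologyFunctor C (q - 1)).map (((tS C).truncGEπ (q - 1)).app
      (((tS C).truncLT q).obj K'))) := iso_H_π _ (q - 1) (q - 1) le_rfl
  haveI : IsIso ((homologyFunctor C (q - 1)).map (((tS C).truncGEπ (q - 1)).app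
      (((tS C).truncLT (q + 1)).obj K'))) := iso_H_π _ (q - 1) (q - 1) le_rfl
  haveI : IsIso ((homologyFunctor C (q - 1)).map
      (((tS C).natTransTruncLTOfLE q (q + 1) hq2).app K')) := by
    have h3 := congrArg (fun g => (homologyFunctor C (q - 1)).map g)
      ((tS C).natTransTruncLTOfLE_ι_app q (q + 1) hq2 K')
    simp only [CategoryTheory.Functor.map_comp] at h3
    haveI := iso_H_ι K' (q + 1) (q - 1) (by omega)
    haveI := iso_H_ι K' q (q - 1) (by omega)
    exact IsIso.of_isIso_fac_right h3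
  exact IsIso.of_isIso_fac_left h2.symm

private lemma dIso (K' : DerivedCategory C) (q : ℤ) (hq2 : q ≤ q + 1) :
    IsIso ((tS C).liftTruncLT (((tS C).truncGE (q - 1)).map
      (((tS C).natTransTruncLTOfLE q (q + 1) hq2).app K')) (q - 1) q (by omega)) := by
  rw [DerivedCategory.isIso_iff]
  intro n
  by_cases hn : n = q - 1
  · subst hn
    have hd := (tS C).liftTruncLT_ι (((tS C).truncGE (q - 1)).map
      (((tS C).natTransTruncLTOfLE q (q + 1) hq2).app K')) (q - 1) q (by omega)
    have h1 := congrArg (fun g => (homologyFunctor C (q - 1)).map g) hd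
    simp only [CategoryTheory.Functor.map_comp] at h1
    haveI : IsIso ((homologyFunctor C (q - 1)).map (((tS C).truncLTι q).app
        (((tS C).truncGE (q - 1)).obj (((tS C).truncLT (q + 1)).obj K')))) :=
      iso_H_ι _ q (q - 1) (by omega)
    haveI : IsIso ((homologyFunctor C (q - 1)).map (((tS C).truncGE (q - 1)).map
        (((tS C).natTransTruncLTOfLE q (q + 1) hq2).app K'))) := ιIso K' q hq2
    exact IsIso.of_isIso_fac_right h1
  · have hz1 : IsZero ((homologyFunctor C n).obj
        (((tS C).truncGE (q - 1)).obj (((tS C).truncLT q).obj K'))) := by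
      rcases lt_or_gt_of_ne hn with h | h
      · exact DerivedCategory.isZero_of_isGE _ (q - 1) n h
      · exact DerivedCategory.isZero_of_isLE _ (q - 1) n h
    have hz2 : IsZero ((homologyFunctor C n).obj (((tS C).truncLT q).obj
        (((tS C).truncGE (q - 1)).obj (((tS C).truncLT (q + 1)).obj K')))) := by
      rcases lt_or_gt_of_ne hn with h | h
      · exact DerivedCategory.isZero_of_isGE _ (q - 1) n h
      · exact DerivedCategory.isZero_of_isLE _ (q - 1) n h
    exact ⟨⟨0, hz1.eq_of_src _ _, hz2.eq_of_src _ _⟩⟩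

private lemma main {K K' : DerivedCategory C} (f : K ⟶ K') (q : ℤ)
    (h₁ : (homologyFunctor C (q - 1)).map f = 0) (h₂ : (homologyFunctor C q).map f = 0)
    (hq1 : q - 1 ≤ q) (hq2 : q ≤ q + 1) :
    ∃! L : ((tS C).truncGELT q (q + 1)).obj K ⟶ ((tS C).truncGELT (q - 1) q).obj K',
      ((tS C).truncGELT (q - 1) (q + 1)).map f =
        ((tS C).natTransTruncGEOfLE (q - 1) q hq1).app (((tS C).truncLT (q + 1)).obj K) ≫ L ≫
          ((tS C).truncGE (q - 1)).map (((tS C).natTransTruncLTOfLE q (q + 1) hq2).app K') := by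
  have hφ1 : (homologyFunctor C (q - 1)).map
      (((tS C).truncGE (q - 1)).map (((tS C).truncLT (q + 1)).map f)) = 0 :=
    H_truncGE_map_zero _ (q - 1) (q - 1) (H_truncLT_map_zero f (q + 1) (q - 1) h₁)
  have hφ2 : (homologyFunctor C q).map
      (((tS C).truncGE (q - 1)).map (((tS C).truncLT (q + 1)).map f)) = 0 :=
    H_truncGE_map_zero _ (q - 1) q (H_truncLT_map_zero f (q + 1) q h₂)
  haveI := (tS C).isIso_truncGE_map_truncGEπ_app q (q - 1) hq1 (((tS C).truncLT (q + 1)).obj K)
  haveI := dIso K' q hq2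
  exact P3 (((tS C).truncGE (q - 1)).map (((tS C).truncLT (q + 1)).map f))
    (((tS C).natTransTruncGEOfLE (q - 1) q hq1).app (((tS C).truncLT (q + 1)).obj K))
    (((tS C).truncGE q).map (((tS C).truncGEπ (q - 1)).app (((tS C).truncLT (q + 1)).obj K)))
    (((tS C).truncGEπ q).app (((tS C).truncGE (q - 1)).obj (((tS C).truncLT (q + 1)).obj K)))
    (heLemma _ q hq1)
    (((tS C).truncGE (q - 1)).map (((tS C).natTransTruncLTOfLE q (q + 1) hq2).app K'))
    ((tS C).liftTruncLT (((tS C).truncGE (q - 1)).map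
      (((tS C).natTransTruncLTOfLE q (q + 1) hq2).app K')) (q - 1) q (sub_add_cancel q 1))
    (((tS C).truncLTι q).app (((tS C).truncGE (q - 1)).obj (((tS C).truncLT (q + 1)).obj K')))
    ((tS C).liftTruncLT_ι _ _ _ _)
    (P1 _ q hφ1 hφ2)

end

/-- Let A be an abelian category, D(A) its derived category with the canonical t-structure and
truncation functors τ_{≥a}, τ_{<b}, and write τ_[a,b] = τ_{≥a} ∘ τ_{<b+1}, so that τ_[q,q] K is
H^q(K) placed in degree q. Let f : K → K' be a morphism in D(A) and q an integer such that the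
induced maps H^(q-1)(K) → H^(q-1)(K') and H^q(K) → H^q(K') are both zero. Then there is a unique
morphism L : τ_[q,q] K → τ_[q-1,q-1] K' such that τ_[q-1,q](f) : τ_[q-1,q] K → τ_[q-1,q] K' is the
composite of the canonical projection τ_[q-1,q] K → τ_[q,q] K, the morphism L, and the canonical
inclusion τ_[q-1,q-1] K' → τ_[q-1,q] K'. (Under τ_[n,n] ≅ H^n(−)[−n] the morphism L corresponds to a
morphism L_f[−q] : H^q(K)[−q] → H^(q-1)(K')[1−q].) -/
theorem result {C : Type u} [Category.{v} C] [Abelian C]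
    [HasDerivedCategory.{w} C] {K K' : DerivedCategory C} (f : K ⟶ K') (q : ℤ)
    (h₁ : (DerivedCategory.homologyFunctor C (q - 1)).map f = 0)
    (h₂ : (DerivedCategory.homologyFunctor C q).map f = 0) :
    ∃! L : ((DerivedCategory.TStructure.t (C := C)).truncGELT q (q + 1)).obj K ⟶
        ((DerivedCategory.TStructure.t (C := C)).truncGELT (q - 1) q).obj K',
      ((DerivedCategory.TStructure.t (C := C)).truncGELT (q - 1) (q + 1)).map f =
        ((DerivedCategory.TStructure.t (C := C)).natTransTruncGEOfLE (q - 1) q (sub_one_lt q).le).app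
            (((DerivedCategory.TStructure.t (C := C)).truncLT (q + 1)).obj K) ≫ L ≫
          ((DerivedCategory.TStructure.t (C := C)).truncGE (q - 1)).map
            (((DerivedCategory.TStructure.t (C := C)).natTransTruncLTOfLE q (q + 1) (lt_add_one q).le).app K') := by
  exact main f q h₁ h₂ (sub_one_lt q).le (lt_add_one q).le

end Groth.Agent.S14388
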