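import Groth.Statements.S14397
-- import your own Groth.Agent.* helpers here
import Mathlib

set_option autoImplicit false
universe u
open DualGr

namespace Groth.Agent.S14397

/-- Let (V, E) with endpoint map E → V × V be a finite multigraph (loops and parallel edges allowed; the
order of the two endpoints is an auxiliary orientation), and let D_1, …, D_n be finite sets of edges
such that every edge lies outside at least one D_i. For each i let Γ_i be the multigraph obtained by
contracting the edges of D_i, and let H₁(Γ, ℤ) → H₁(Γ_i, ℤ) be the map of cycle lattices (integer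
edge vectors with zero boundary) given by restriction to the surviving edges. Then the map H₁(Γ, ℤ)
→ ⊕_i H₁(Γ_i, ℤ) has torsion-free cokernel. (The published statement is about the connected labelled
dual graph of the closed fibre of a nodal curve, smooth outside a normal crossing divisor with
components D_1, …, D_n, over a Noetherian regular strictly local base; Γ_i is the dual graph of the
fibre over the generic point of D_i, the lattices are identified with the character groups of the
toric parts of the Picard schemes of these fibres, and the map is the generization map of character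
groups; this row states the assertion about cycle lattices, for any finite multigraph, which is what
the argument establishes.) -/
theorem result
    {V E : Type u} [Fintype V] [Fintype E] [DecidableEq V] [DecidableEq E]
    (ends : E → V × V) {n : ℕ} (D : Fin n → Finset E) (hcover : ∀ e : E, ∃ i : Fin n, e ∉ D i) :
    IsAddTorsionFree (((i : Fin n) → ↥(DualGr.cycleLattice (DualGr.ctrEnds ends (D i)))) ⧸
      LinearMap.range (LinearMap.pi fun i : Fin n => DualGr.genMap ends (D i))) := by
  classical
  refine ⟨fun m hm a a' haa' => ?_⟩
  have hsub : m • (a - a') = 0 := by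
    have h0 : m • a = m • a' := haa'
    rw [smul_sub, h0, sub_self]
  suffices h : a - a' = 0 from sub_eq_zero.mp h
  obtain ⟨q, hq⟩ := Submodule.Quotient.mk_surjective _ (a - a')
  rw [← hq] at hsub ⊢
  have h1 : Submodule.Quotient.mk (m • q) = (0 : _ ⧸ LinearMap.range
      (LinearMap.pi fun i : Fin n => DualGr.genMap ends (D i))) := by
    rw [← hsub]; exact (map_nsmul (Submodule.mkQ _) m q)
  rw [Submodule.Quotient.mk_eq_zero] at h1 ⊢
  obtain ⟨z, hz⟩ := h1
  have hm' : (m : ℤ) ≠ 0 := by exact_mod_cast hm
  have hzq : ∀ (i : Fin n) (e : E) (he : e ∉ D i),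
      z.1 e = (m : ℤ) * (q i).1 ⟨e, he⟩ := by
    intro i e he
    have := congrArg (fun t => (t i).1 ⟨e, he⟩) hz
    simpa [DualGr.genMap, DualGr.resE] using this
  have hdiv : ∀ e, z.1 e = (m : ℤ) * (z.1 e / (m : ℤ)) := by
    intro e
    obtain ⟨i, hi⟩ := hcover e
    rw [hzq i e hi, Int.mul_ediv_cancel_left _ hm']
  have hz'mem : (fun e => z.1 e / (m : ℤ)) ∈ DualGr.cycleLattice ends := by
    change (fun e => z.1 e / (m : ℤ)) ∈ LinearMap.ker (DualGr.boundaryHom ends)
    rw [LinearMap.mem_ker]
    have hz0 : DualGr.boundaryHom ends z.1 = 0 := z.2
    have hzeq : z.1 = (m : ℤ) • (fun e => z.1 e / (m : ℤ)) := by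
      funext e
      rw [Pi.smul_apply, smul_eq_mul]
      exact hdiv e
    rw [hzeq, map_smul] at hz0
    funext x
    have hx := congrFun hz0 x
    rw [Pi.smul_apply, smul_eq_mul, Pi.zero_apply] at hx
    exact (mul_eq_zero.mp hx).resolve_left hm'
  refine ⟨⟨fun e => z.1 e / (m : ℤ), hz'mem⟩, ?_⟩
  funext i
  apply Subtype.ext
  funext e
  obtain ⟨e, he⟩ := e
  simp only [LinearMap.pi_apply, DualGr.genMap, DualGr.resE, LinearMap.codRestrict_apply,
    LinearMap.comp_apply, LinearMap.coe_mk, AddHom.coe_mk, Submodule.subtype_apply]
  rw [hzq i e he, Int.mul_ediv_cancel_left _ hm']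

end Groth.Agent.S14397
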