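import Groth.Statements.S14401
-- import your own Groth.Agent.* helpers here
import Mathlib

set_option autoImplicit false
universe u
open CategoryTheory AlgebraicGeometry
open Props

namespace Groth.Agent.S14401

/-- Let X be a Noetherian scheme all of whose local rings are integral domains. Then each irreducible
component of X is an open subset of X, and each point of X lies on exactly one irreducible component
(so the irreducible components of X are pairwise disjoint, open and closed, and coincide with the
connected components). (The published statement assumes X regular and Noetherian; its argument uses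
only that the local rings of X are domains, which is the hypothesis taken here.) -/
theorem result (X : Scheme.{u}) [AlgebraicGeometry.IsNoetherian X]
    (hX : ∀ x : X, IsDomain (X.presheaf.stalk x)) :
    (∀ Z ∈ irreducibleComponents (X : Type u), IsOpen Z) ∧
      ∀ x : X, ∃! Z, Z ∈ irreducibleComponents (X : Type u) ∧ x ∈ Z := by
  haveI : ∀ x : X, IsDomain (X.presheaf.stalk x) := hX
  have key : ∀ x : X, ∀ Z ∈ irreducibleComponents (X : Type u), x ∈ Z →
      Z = closure {(X.fromSpecStalk x)
        ((⟨⊥, Ideal.bot_prime⟩ : PrimeSpectrum (X.presheaf.stalk x)) : ↥(Spec (X.presheaf.stalk x)))} := by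
    intro x Z hZ hxZ
    have hZc : IsClosed Z := isClosed_of_mem_irreducibleComponents Z hZ
    obtain ⟨η, hη⟩ := QuasiSober.sober hZ.1 hZc
    have hηx : η ⤳ x := by
      rw [specializes_iff_mem_closure, hη.def]; exact hxZ
    have hηr : η ∈ Set.range (X.fromSpecStalk x) := by
      rw [Scheme.range_fromSpecStalk]; exact hηx
    obtain ⟨q, rfl⟩ := hηr
    have hsp : ((⟨⊥, Ideal.bot_prime⟩ : PrimeSpectrum (X.presheaf.stalk x)) :
        ↥(Spec (X.presheaf.stalk x))) ⤳ q := by
      refine (PrimeSpectrum.le_iff_specializes
        (⟨⊥, Ideal.bot_prime⟩ : PrimeSpectrum (X.presheaf.stalk x)) q).mp ?_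
      exact bot_le (a := (q : PrimeSpectrum (X.presheaf.stalk x)).asIdeal)
    have hsp' := hsp.map (X.fromSpecStalk x).continuous
    have hle : Z ⊆ closure {(X.fromSpecStalk x)
        ((⟨⊥, Ideal.bot_prime⟩ : PrimeSpectrum (X.presheaf.stalk x)) : ↥(Spec (X.presheaf.stalk x)))} := by
      rw [← hη.def]
      exact closure_minimal (Set.singleton_subset_iff.mpr hsp'.mem_closure) isClosed_closure
    exact le_antisymm hle (hZ.2 isIrreducible_singleton.closure hle)
  have huniq : ∀ x : X, ∀ Z ∈ irreducibleComponents (X : Type u),
      ∀ Z' ∈ irreducibleComponents (X : Type u), x ∈ Z → x ∈ Z' → Z = Z' := by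
    intro x Z hZ Z' hZ' hx hx'
    exact (key x Z hZ hx).trans (key x Z' hZ' hx').symm
  refine ⟨?_, ?_⟩
  · intro Z hZ
    have hα : (irreducibleComponents (X : Type u)).Finite :=
      TopologicalSpace.NoetherianSpace.finite_irreducibleComponents
    have hcompl : Zᶜ = ⋃₀ (irreducibleComponents (X : Type u) \ {Z}) := by
      ext y
      simp only [Set.mem_compl_iff, Set.mem_sUnion, Set.mem_diff, Set.mem_singleton_iff]
      constructor
      · intro hy
        exact ⟨irreducibleComponent y, ⟨irreducibleComponent_mem_irreducibleComponents y,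
          fun h => hy (h ▸ mem_irreducibleComponent)⟩, mem_irreducibleComponent⟩
      · rintro ⟨W, ⟨hW, hWZ⟩, hyW⟩ hyZ
        exact hWZ (huniq y W hW Z hZ hyW hyZ)
    rw [← isClosed_compl_iff, hcompl, Set.sUnion_eq_biUnion]
    exact (hα.subset Set.diff_subset).isClosed_biUnion
      fun W hW => isClosed_of_mem_irreducibleComponents W hW.1
  · intro x
    refine ⟨irreducibleComponent x,
      ⟨irreducibleComponent_mem_irreducibleComponents x, mem_irreducibleComponent⟩, ?_⟩
    rintro Z ⟨hZ, hxZ⟩
    exact huniq x Z hZ _ (irreducibleComponent_mem_irreducibleComponents x) hxZ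
      mem_irreducibleComponent

end Groth.Agent.S14401
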