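import Groth.Statements.S14405
-- import your own Groth.Agent.* helpers here
import Mathlib

set_option autoImplicit false
open Polynomial
open HilbNum

namespace Groth.Agent.S14405

/-- Let φ be a function from the integers to the rationals and Q a nonzero polynomial with rational
coefficients of degree d such that φ(m) - φ(m-1) = Q(m) for every integer m. Then there is a
polynomial P with rational coefficients, of degree d + 1, such that φ(m) = P(m) for every integer m.
(The explicit form of P in the binomial basis is not part of this statement.) -/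
theorem result (φ : ℤ → ℚ) (d : ℕ) (Q : ℚ[X]) (hQ : Q ≠ 0)
    (hd : Q.natDegree = d) (h : ∀ m : ℤ, φ m - φ (m - 1) = Q.eval (m : ℚ)) :
    ∃ P : ℚ[X], P.natDegree = d + 1 ∧ ∀ m : ℤ, φ m = P.eval (m : ℚ) := by
  classical
  obtain ⟨S, hSdef⟩ : ∃ S : ℚ[X], S = ∑ n ∈ Finset.range (d + 1),
      C (Q.coeff n / ((n : ℚ) + 1)) * Polynomial.bernoulli (n + 1) := ⟨_, rfl⟩
  have hdiff : ∀ x : ℚ, S.eval (1 + x) - S.eval x = Q.eval x := by
    intro x
    rw [hSdef, Polynomial.eval_finsetSum, Polynomial.eval_finsetSum, ← Finset.sum_sub_distrib,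
      Polynomial.eval_eq_sum_range, hd]
    refine Finset.sum_congr rfl (fun n _ => ?_)
    simp only [Polynomial.eval_mul, Polynomial.eval_C, Polynomial.bernoulli_eval_one_add]
    have hn1 : ((n : ℚ) + 1) ≠ 0 := by positivity
    simp only [Nat.add_sub_cancel, Nat.cast_add, Nat.cast_one]
    field_simp
    ring
  have hstep : ∀ m : ℤ, φ m - S.eval ((m : ℚ) + 1)
      = φ (m - 1) - S.eval (((m - 1 : ℤ) : ℚ) + 1) := by
    intro m
    have h1 := h m
    have h2 := hdiff (m : ℚ)
    have e1 : ((m - 1 : ℤ) : ℚ) + 1 = (m : ℚ) := by push_cast; ring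
    have e2 : (m : ℚ) + 1 = 1 + (m : ℚ) := by ring
    rw [e1, e2]
    linarith
  have hconst : ∀ m : ℤ, φ m - S.eval ((m : ℚ) + 1) = φ 0 - S.eval (((0 : ℤ) : ℚ) + 1) := by
    intro m
    refine Int.induction_on m rfl ?_ ?_
    · intro i ih
      rw [hstep ((i : ℤ) + 1), add_sub_cancel_right]
      exact ih
    · intro i ih
      rw [← hstep (-(i : ℤ))]
      exact ih
  have hSdeg : S.natDegree = d + 1 := by
    apply le_antisymm
    · rw [hSdef]
      apply Polynomial.natDegree_sum_le_of_forall_le
      intro n hn
      refine (Polynomial.natDegree_C_mul_le _ _).trans ?_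
      have h1 : (Polynomial.bernoulli (n + 1)).natDegree ≤ n + 1 := by
        rw [Polynomial.natDegree_le_iff_coeff_eq_zero]
        intro N hN
        rw [Polynomial.coeff_bernoulli, if_neg (not_le.mpr hN)]
      have h2 := Finset.mem_range.mp hn
      omega
    · apply Polynomial.le_natDegree_of_ne_zero
      rw [hSdef, Polynomial.finsetSum_coeff, Finset.sum_eq_single d]
      · rw [Polynomial.coeff_C_mul, Polynomial.coeff_bernoulli, if_pos le_rfl, Nat.sub_self,
          _root_.bernoulli_zero, Nat.choose_self]
        have hlc : Q.coeff d ≠ 0 := by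
          rw [← hd]; exact Polynomial.leadingCoeff_ne_zero.mpr hQ
        have hd1 : ((d : ℚ) + 1) ≠ 0 := by positivity
        simp only [Nat.cast_one, mul_one]
        exact div_ne_zero hlc hd1
      · intro n hn hnd
        have h2 := Finset.mem_range.mp hn
        rw [Polynomial.coeff_C_mul, Polynomial.coeff_bernoulli, if_neg (by omega), mul_zero]
      · intro hd'
        exact absurd (Finset.mem_range.mpr (Nat.lt_succ_self d)) hd'
  refine ⟨Polynomial.taylor 1 S + C (φ 0 - S.eval (((0 : ℤ) : ℚ) + 1)), ?_, ?_⟩
  · rw [Polynomial.natDegree_add_C, Polynomial.natDegree_taylor, hSdeg]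
  · intro m
    rw [Polynomial.eval_add, Polynomial.taylor_eval, Polynomial.eval_C, ← hconst m]
    ring

end Groth.Agent.S14405
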