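import Groth.Statements.S14413
-- import your own Groth.Agent.* helpers here
import Mathlib

set_option autoImplicit false
universe u
open CategoryTheory CategoryTheory.Limits
open CAlg

namespace Groth.Agent.S14413

section splice
open CategoryTheory Limits

variable {C : Type*} [Category C] [Abelian C]

noncomputable def q0 {K : C} (Q : ProjectiveResolution K) : Q.complex.X 0 ⟶ K := Q.π.f 0

instance {K : C} (Q : ProjectiveResolution K) : Epi (q0 Q) := by
  have : Epi (Q.π.f 0) := inferInstance
  exact this

lemma d_q0 {K : C} (Q : ProjectiveResolution K) : Q.complex.d 1 0 ≫ q0 Q = 0 :=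
  Q.complex_d_comp_π_f_zero

lemma exact_q0 {K : C} (Q : ProjectiveResolution K) :
    (ShortComplex.mk (Q.complex.d 1 0) (q0 Q) (d_q0 Q)).Exact := Q.exact₀

noncomputable def spliceCplx {K P₀ : C} (Q : ProjectiveResolution K) (ι : K ⟶ P₀) :
    ChainComplex C ℕ :=
  ChainComplex.augment Q.complex (q0 Q ≫ ι) (by rw [← Category.assoc, d_q0, zero_comp])

noncomputable def spliceπ {M K P₀ : C} (Q : ProjectiveResolution K) (ι : K ⟶ P₀) (p : P₀ ⟶ M)
    (w : ι ≫ p = 0) : spliceCplx Q ι ⟶ (ChainComplex.single₀ C).obj M :=
  (ChainComplex.toSingle₀Equiv _ _).symm ⟨p, by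
    show (q0 Q ≫ ι) ≫ p = 0
    rw [Category.assoc, w, comp_zero]⟩

lemma spliceπ_f0 {M K P₀ : C} (Q : ProjectiveResolution K) (ι : K ⟶ P₀) (p : P₀ ⟶ M)
    (w : ι ≫ p = 0) : (spliceπ Q ι p w).f 0 = p :=
  ChainComplex.toSingle₀Equiv_symm_apply_f_zero _ _

lemma splice_quasiIso {M K P₀ : C} (Q : ProjectiveResolution K) (ι : K ⟶ P₀) (p : P₀ ⟶ M)
    (w : ι ≫ p = 0) (hex : (ShortComplex.mk ι p w).Exact) [Mono ι] [Epi p] :
    QuasiIso (spliceπ Q ι p w) where
  quasiIsoAt m := by
    cases m with
    | zero =>
      rw [ChainComplex.quasiIsoAt₀_iff, ShortComplex.quasiIso_iff_of_zeros' _ rfl rfl rfl]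
      constructor
      · let φ : ShortComplex.mk (q0 Q ≫ ι) p (by rw [Category.assoc, w, comp_zero]) ⟶
            ShortComplex.mk ι p w :=
          { τ₁ := q0 Q, τ₂ := 𝟙 _, τ₃ := 𝟙 _ }
        have h := (ShortComplex.exact_iff_of_epi_of_isIso_of_mono φ).mpr hex
        have e : (spliceπ Q ι p w).f 0 = p := spliceπ_f0 Q ι p w
        refine (ShortComplex.exact_iff_of_iso ?_).2 h
        exact ShortComplex.isoMk (Iso.refl _) (Iso.refl _) (Iso.refl _)
          (by exact (Category.id_comp _).trans (Category.comp_id _).symm)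
          (by simp [e]; exact (Category.id_comp _).trans (Category.comp_id _).symm)
      · show Epi ((spliceπ Q ι p w).f 0)
        rw [spliceπ_f0]
        exact ‹Epi p›
    | succ m =>
      rw [quasiIsoAt_iff_exactAt' (hL := ChainComplex.exactAt_succ_single_obj ..),
        HomologicalComplex.exactAt_iff' _ (m + 2) (m + 1) m (by simp) (by simp)]
      cases m with
      | zero =>
        let φ : ShortComplex.mk (Q.complex.d 1 0) (q0 Q) (d_q0 Q) ⟶
            ShortComplex.mk (Q.complex.d 1 0) (q0 Q ≫ ι)
              (by rw [← Category.assoc, d_q0, zero_comp]) :=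
          { τ₁ := 𝟙 _, τ₂ := 𝟙 _, τ₃ := ι }
        exact (ShortComplex.exact_iff_of_epi_of_isIso_of_mono φ).mp (exact_q0 Q)
      | succ m =>
        exact Q.exact_succ m

noncomputable def splice {M K P₀ : C} [Projective P₀] (Q : ProjectiveResolution K) (ι : K ⟶ P₀)
    (p : P₀ ⟶ M) (w : ι ≫ p = 0) (hex : (ShortComplex.mk ι p w).Exact) [Mono ι] [Epi p] :
    ProjectiveResolution M where
  complex := spliceCplx Q ι
  projective n := by
    cases n with
    | zero => exact ‹Projective P₀›
    | succ n => exact Q.projective n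
  π := spliceπ Q ι p w
  quasiIso := splice_quasiIso Q ι p w hex

end splice

open CategoryTheory Limits in
lemma exists_res (R : Type u) [CommRing R] : ∀ (d : ℕ) (M : ModuleCat.{u} R),
    HasProjectiveDimensionLE M d →
      ∃ P : ProjectiveResolution M, ∀ i : ℕ, d < i → IsZero (P.complex.X i)
  | 0, M, h => by
    haveI : Projective M := projective_iff_hasProjectiveDimensionLT_one.mpr h
    refine ⟨ProjectiveResolution.self M, fun i hi => ?_⟩
    obtain ⟨j, rfl⟩ : ∃ j, i = j + 1 := ⟨i - 1, by omega⟩
    exact HomologicalComplex.isZero_single_obj_X _ _ _ _ (by simp)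
  | d + 1, M, h => by
    have hS : (ShortComplex.mk (kernel.ι (Projective.π M)) (Projective.π M)
        (kernel.condition _)).ShortExact :=
      { exact := ShortComplex.exact_of_f_is_kernel _ (kernelIsKernel _)
        mono_f := by dsimp; infer_instance
        epi_g := by dsimp; infer_instance }
    have h2 : HasProjectiveDimensionLT (Projective.over M) (d + 1) :=
      hasProjectiveDimensionLT_of_ge (Projective.over M) 1 (d + 1) (by omega)
    have hK : HasProjectiveDimensionLE (kernel (Projective.π M)) d :=
      hS.hasProjectiveDimensionLT_X₁ (d + 1) h2 h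
    obtain ⟨Q, hQ⟩ := exists_res R d _ hK
    refine ⟨splice Q (kernel.ι (Projective.π M)) (Projective.π M) (kernel.condition _)
      hS.exact, fun i hi => ?_⟩
    obtain ⟨j, rfl⟩ : ∃ j, i = j + 1 := ⟨i - 1, by omega⟩
    exact hQ j (by omega)

/-- Let R be a commutative ring, M an R-module and d ≥ 0. Then M has projective dimension at most d in
the sense that Ext^i_R(M, N) = 0 for every i > d and every R-module N (Mathlib's Ext-vanishing
definition) if and only if M has a projective resolution of length at most d, i.e. a projective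
resolution P whose terms P_i are zero for all i > d (the definition of pd_R(M) ≤ d by resolutions). -/
theorem result (R : Type u) [CommRing R]
    (M : ModuleCat.{u} R) (d : ℕ) :
    HasProjectiveDimensionLE M d ↔
      ∃ P : ProjectiveResolution M, ∀ i : ℕ, d < i → IsZero (P.complex.X i) := by
  constructor
  · intro h
    exact exists_res R d M h
  · rintro ⟨P, hP⟩
    letI := HasExt.standard (ModuleCat.{u} R)
    refine (hasProjectiveDimensionLT_iff M (d + 1)).mpr ?_
    intro i hi Y e
    obtain ⟨f, hf, rfl⟩ := P.extMk_surjective e (i + 1) rfl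
    have hf0 : f = 0 := (hP i (by omega)).eq_of_src _ _
    subst hf0
    exact P.extMk_zero (i + 1) rfl

end Groth.Agent.S14413
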