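import Groth.Statements.S14414
-- import your own Groth.Agent.* helpers here
import Groth.Agent.S14413

set_option autoImplicit false
universe u
open CategoryTheory CategoryTheory.Limits
open CAlg

namespace Groth.Agent.S14414

/-- Let R be a commutative ring and N an R-module of projective dimension at most q, in the sense that
Ext^i_R(N, N′) = 0 for all i > q and all N′ (equivalently, N has a projective resolution of length
at most q). Then for every R-module M and every i > q, Tor_i^R(M, N) — the value at N of the i-th
left derived functor of M ⊗_R (-) — is zero. -/
theorem result (R : Type u) [CommRing R]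
    (M N : ModuleCat.{u} R) (q : ℕ) [HasProjectiveDimensionLE N q] (i : ℕ) (hi : q < i) :
    IsZero (((CategoryTheory.Tor (ModuleCat.{u} R) i).obj M).obj N) := by
  obtain ⟨P, hP⟩ := (Groth.Agent.S14413.result R N q).mp inferInstance
  refine IsZero.of_iso ?_ (P.isoLeftDerivedObj _ i)
  show IsZero (((((MonoidalCategory.tensoringLeft (ModuleCat.{u} R)).obj
    M).mapHomologicalComplex _).obj P.complex).homology i)
  rw [← HomologicalComplex.exactAt_iff_isZero_homology, HomologicalComplex.exactAt_iff]
  refine ShortComplex.exact_of_isZero_X₂ _ ?_
  show IsZero (((MonoidalCategory.tensoringLeft (ModuleCat.{u} R)).obj M).obj (P.complex.X i))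
  exact Functor.map_isZero _ (hP i hi)

end Groth.Agent.S14414
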