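import Groth.Statements.S14416
-- import your own Groth.Agent.* helpers here
import Mathlib

set_option autoImplicit false
universe u
open scoped TensorProduct
open CAlg

namespace Groth.Agent.S14416

/-- Let B → A be a ring map with A a finitely generated B-module such that for every prime ideal p of B
the fibre κ(p) ⊗_B A has dimension at most one over the residue field κ(p). Then B → A is
surjective. In scheme language: a finite morphism whose degree at every point of the target is 0 or
1 is a closed immersion. (The published statement assumes the two schemes Noetherian; that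
hypothesis plays no role and is dropped here.) -/
theorem result
    (B A : Type u) [CommRing B] [CommRing A] [Algebra B A] [Module.Finite B A]
    (h : ∀ p : PrimeSpectrum B,
      Module.finrank p.asIdeal.ResidueField (p.asIdeal.ResidueField ⊗[B] A) ≤ 1) :
    Function.Surjective (algebraMap B A) := by
  set φ : B →ₗ[B] A := Algebra.linearMap B A with hφ
  have hC : Subsingleton (A ⧸ LinearMap.range φ) := by
    rw [← Module.support_eq_empty_iff (R := B), Set.eq_empty_iff_forall_notMem]
    intro p hp
    rw [Module.mem_support_iff_nontrivial_residueField_tensorProduct] at hp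
    have hsurj : Function.Surjective (φ.lTensor p.asIdeal.ResidueField) := by
      intro w
      by_cases h1 : ((1 : p.asIdeal.ResidueField) ⊗ₜ[B] (1 : A)) = 0
      · have hw : w = 0 := by
          have h0 : (1 : p.asIdeal.ResidueField ⊗[B] A) = 0 := by
            rw [Algebra.TensorProduct.one_def]; exact h1
          rw [← one_mul w, h0, zero_mul]
        exact ⟨0, by simp [hw]⟩
      · have h2 := h p
        have h3 : Module.finrank p.asIdeal.ResidueField (p.asIdeal.ResidueField ⊗[B] A) = 1 := by
          apply le_antisymm h2
          rw [Nat.one_le_iff_ne_zero, Ne, Module.finrank_zero_iff]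
          intro hs; exact h1 (Subsingleton.elim _ _)
        obtain ⟨c, hc⟩ := (finrank_eq_one_iff_of_nonzero' _ h1).1 h3 w
        refine ⟨c ⊗ₜ 1, ?_⟩
        simp [hφ, ← hc, TensorProduct.smul_tmul']
    have hex : Function.Exact (φ.lTensor p.asIdeal.ResidueField)
        ((LinearMap.range φ).mkQ.lTensor p.asIdeal.ResidueField) :=
      lTensor_exact p.asIdeal.ResidueField (LinearMap.exact_map_mkQ_range φ) (Submodule.mkQ_surjective _)
    have hsurj2 : Function.Surjective ((LinearMap.range φ).mkQ.lTensor p.asIdeal.ResidueField) :=
      LinearMap.lTensor_surjective p.asIdeal.ResidueField (Submodule.mkQ_surjective _)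
    have hss : Subsingleton (p.asIdeal.ResidueField ⊗[B] (A ⧸ LinearMap.range φ)) := by
      refine ⟨fun x y => ?_⟩
      obtain ⟨x', rfl⟩ := hsurj2 x
      obtain ⟨y', rfl⟩ := hsurj2 y
      obtain ⟨x'', rfl⟩ := hsurj x'
      obtain ⟨y'', rfl⟩ := hsurj y'
      rw [hex.apply_apply_eq_zero, hex.apply_apply_eq_zero]
    exact not_subsingleton _ hss
  intro a
  have h0 : (LinearMap.range φ).mkQ a = 0 := Subsingleton.elim _ _
  rw [Submodule.mkQ_apply, Submodule.Quotient.mk_eq_zero] at h0
  obtain ⟨b, hb⟩ := h0
  exact ⟨b, hb⟩

end Groth.Agent.S14416
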