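import Groth.Statements.S14418
-- import your own Groth.Agent.* helpers here
import Mathlib

set_option autoImplicit false
universe u
open CategoryTheory
open CAlg

namespace Groth.Agent.S14418

lemma HE {B A : Type u} [CommRing B] [CommRing A] (T : ModuleCat.{u} B ⥤ ModuleCat.{u} A) [T.Additive]
    (hex : ∀ S : ShortComplex (ModuleCat.{u} B), S.ShortExact → Module.Finite B S.X₁ →
      Module.Finite B S.X₂ → Module.Finite B S.X₃ → (S.map T).Exact)
    {X₁ X₂ X₃ : Type u} [AddCommGroup X₁] [Module B X₁] [AddCommGroup X₂] [Module B X₂]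
    [AddCommGroup X₃] [Module B X₃]
    [Module.Finite B X₁] [Module.Finite B X₂] [Module.Finite B X₃]
    (f : X₁ →ₗ[B] X₂) (g : X₂ →ₗ[B] X₃) (hf : Function.Injective f) (hg : Function.Surjective g)
    (hfg : Function.Exact f g) (y : T.obj (ModuleCat.of B X₂))
    (hy : (T.map (ModuleCat.ofHom g)).hom y = 0) :
    ∃ z : T.obj (ModuleCat.of B X₁), (T.map (ModuleCat.ofHom f)).hom z = y := by
  have hzero : ModuleCat.ofHom f ≫ ModuleCat.ofHom g = 0 := by
    rw [← ModuleCat.ofHom_comp]
    have h0 : g ∘ₗ f = 0 := LinearMap.ext fun x => hfg.apply_apply_eq_zero x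
    rw [h0]
    rfl
  let S : ShortComplex (ModuleCat.{u} B) :=
    ShortComplex.mk (ModuleCat.ofHom f) (ModuleCat.ofHom g) hzero
  have hS : S.ShortExact := ModuleCat.shortComplex_shortExact S hfg hf hg
  have h := hex S hS (show Module.Finite B X₁ from inferInstance)
    (show Module.Finite B X₂ from inferInstance) (show Module.Finite B X₃ from inferInstance)
  have h2 := (ShortComplex.ShortExact.moduleCat_exact_iff_function_exact (S.map T)).1 h
  exact (h2 y).1 hy

lemma SE {B A : Type u} [CommRing B] [CommRing A] (T : ModuleCat.{u} B ⥤ ModuleCat.{u} A) [T.Additive]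
    (hex : ∀ S : ShortComplex (ModuleCat.{u} B), S.ShortExact → Module.Finite B S.X₁ →
      Module.Finite B S.X₂ → Module.Finite B S.X₃ → (S.map T).Exact)
    {X₁ X₂ X₃ : Type u} [AddCommGroup X₁] [Module B X₁] [AddCommGroup X₂] [Module B X₂]
    [AddCommGroup X₃] [Module B X₃]
    [Module.Finite B X₁] [Module.Finite B X₂] [Module.Finite B X₃]
    (f : X₁ →ₗ[B] X₂) (g : X₂ →ₗ[B] X₃) (hf : Function.Injective f) (hg : Function.Surjective g)
    (hfg : Function.Exact f g)
    (h1 : Limits.IsZero (T.obj (ModuleCat.of B X₁))) (h3 : Limits.IsZero (T.obj (ModuleCat.of B X₃))) :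
    Limits.IsZero (T.obj (ModuleCat.of B X₂)) := by
  haveI := ModuleCat.subsingleton_of_isZero h1
  haveI := ModuleCat.subsingleton_of_isZero h3
  rw [ModuleCat.isZero_iff_subsingleton]
  have key : ∀ y : T.obj (ModuleCat.of B X₂), y = 0 := by
    intro y
    obtain ⟨z, rfl⟩ := HE T hex f g hf hg hfg y (Subsingleton.elim _ _)
    rw [Subsingleton.elim z 0, map_zero]
  exact ⟨fun y y' => by rw [key y, key y']⟩

lemma NAK {B A : Type u} [CommRing B] [CommRing A] [IsLocalRing B] [IsLocalRing A] [Algebra B A]
    [IsLocalHom (algebraMap B A)] (T : ModuleCat.{u} B ⥤ ModuleCat.{u} A) [T.Additive]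
    (hlin : ∀ (N : ModuleCat.{u} B) (b : B), T.map (ModuleCat.ofHom (b • (LinearMap.id : N →ₗ[B] N))) = ModuleCat.ofHom (algebraMap B A b • (LinearMap.id : T.obj N →ₗ[A] T.obj N)))
    (hfin : ∀ N : ModuleCat.{u} B, Module.Finite B N → Module.Finite A (T.obj N))
    (hex : ∀ S : ShortComplex (ModuleCat.{u} B), S.ShortExact → Module.Finite B S.X₁ →
      Module.Finite B S.X₂ → Module.Finite B S.X₃ → (S.map T).Exact)
    {Q : Type u} [AddCommGroup Q] [Module B Q] [Module.Finite B Q] (a : B)
    (ha : a ∈ IsLocalRing.maximalIdeal B)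
    (hinj : Function.Injective (a • (LinearMap.id : Q →ₗ[B] Q)))
    (h3 : Limits.IsZero (T.obj (ModuleCat.of B
      (Q ⧸ LinearMap.range (a • (LinearMap.id : Q →ₗ[B] Q)))))) :
    Limits.IsZero (T.obj (ModuleCat.of B Q)) := by
  haveI := ModuleCat.subsingleton_of_isZero h3
  haveI : Module.Finite A (T.obj (ModuleCat.of B Q)) :=
    hfin (ModuleCat.of B Q) (show Module.Finite B Q from inferInstance)
  rw [ModuleCat.isZero_iff_subsingleton]
  have hl := hlin (ModuleCat.of B Q) a
  have hmem : algebraMap B A a ∈ IsLocalRing.maximalIdeal A :=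
    (IsLocalRing.mem_maximalIdeal _).2 (fun hu =>
      (IsLocalRing.mem_maximalIdeal _).1 ha (isUnit_of_map_unit (algebraMap B A) a hu))
  have htop : (⊤ : Submodule A (T.obj (ModuleCat.of B Q))) ≤ IsLocalRing.maximalIdeal A • ⊤ := by
    intro y _
    obtain ⟨z, rfl⟩ := HE T hex (a • (LinearMap.id : Q →ₗ[B] Q))
      (LinearMap.range (a • (LinearMap.id : Q →ₗ[B] Q))).mkQ hinj (Submodule.mkQ_surjective _)
      (LinearMap.exact_map_mkQ_range _) y (Subsingleton.elim _ _)
    have hy : (T.map (ModuleCat.ofHom (a • (LinearMap.id : Q →ₗ[B] Q)))).hom z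
        = algebraMap B A a • z := by
      have := congrArg (fun φ => (ModuleCat.Hom.hom φ) z) hl
      exact this
    rw [hy]
    exact Submodule.smul_mem_smul hmem trivial
  have hbot := Submodule.eq_bot_of_le_smul_of_le_jacobson_bot (IsLocalRing.maximalIdeal A) ⊤
    (Module.finite_def.1 inferInstance) htop
    (IsLocalRing.jacobson_eq_maximalIdeal ⊥ bot_ne_top).ge
  have h0 : ∀ y : T.obj (ModuleCat.of B Q), y = 0 := fun y => by
    have hy : y ∈ (⊤ : Submodule A (T.obj (ModuleCat.of B Q))) := trivial
    rw [hbot] at hy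
    exact (Submodule.mem_bot A).1 hy
  exact ⟨fun y y' => by rw [h0 y, h0 y']⟩

/-- Let B → A be a local homomorphism of Noetherian local rings, n the maximal ideal of B, and T an
additive functor from B-modules to A-modules which is B-linear (T applied to multiplication by b ∈ B
is multiplication by the image of b in A), carries finitely generated B-modules to finitely
generated A-modules, and is half-exact on finitely generated modules (every short exact sequence of
finitely generated B-modules goes to a sequence exact at its middle term). If T(B/n) = 0 then T(N) =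
0 for every finitely generated B-module N. (The published statement takes T defined on finitely
generated modules only; here T is defined on all B-modules while every hypothesis and the conclusion
concern finitely generated modules.) -/
theorem result {B A : Type u} [CommRing B] [CommRing A]
    [IsNoetherianRing B] [IsLocalRing B] [IsNoetherianRing A] [IsLocalRing A] [Algebra B A]
    [IsLocalHom (algebraMap B A)] (T : ModuleCat.{u} B ⥤ ModuleCat.{u} A) [T.Additive]
    (hlin : ∀ (N : ModuleCat.{u} B) (b : B),
      T.map (ModuleCat.ofHom (b • (LinearMap.id : N →ₗ[B] N))) =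
        ModuleCat.ofHom (algebraMap B A b • (LinearMap.id : T.obj N →ₗ[A] T.obj N)))
    (hfin : ∀ N : ModuleCat.{u} B, Module.Finite B N → Module.Finite A (T.obj N))
    (hex : ∀ S : ShortComplex (ModuleCat.{u} B), S.ShortExact → Module.Finite B S.X₁ →
      Module.Finite B S.X₂ → Module.Finite B S.X₃ → (S.map T).Exact)
    (h0 : Limits.IsZero (T.obj (ModuleCat.of B (B ⧸ IsLocalRing.maximalIdeal B))))
    (N : ModuleCat.{u} B) [Module.Finite B N] : Limits.IsZero (T.obj N) := by
  classical
  haveI : IsNoetherian B N := isNoetherian_of_isNoetherianRing_of_finite B N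
  have P : ∀ K : Submodule B N, ∀ (Q : Type u) [AddCommGroup Q] [Module B Q] (π : N →ₗ[B] Q),
      Function.Surjective π → LinearMap.ker π = K → Limits.IsZero (T.obj (ModuleCat.of B Q)) := by
    intro K
    refine WellFoundedGT.induction (motive := fun K => ∀ (Q : Type u) [AddCommGroup Q] [Module B Q]
      (π : N →ₗ[B] Q), Function.Surjective π → LinearMap.ker π = K →
        Limits.IsZero (T.obj (ModuleCat.of B Q))) K ?_
    intro K ih Q _ _ π hπ hker
    haveI : Module.Finite B Q := Module.Finite.of_surjective π hπ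
    haveI : IsNoetherian B Q := isNoetherian_of_isNoetherianRing_of_finite B Q
    have Hq : ∀ K' : Submodule B Q, K' ≠ ⊥ →
        Limits.IsZero (T.obj (ModuleCat.of B (Q ⧸ K'))) := by
      intro K' hK'
      obtain ⟨k, hk, hk0⟩ := Submodule.exists_mem_ne_zero_of_ne_bot hK'
      obtain ⟨x, rfl⟩ := hπ k
      refine ih (LinearMap.ker (K'.mkQ ∘ₗ π)) ?_ (Q ⧸ K') (K'.mkQ ∘ₗ π)
        ((Submodule.mkQ_surjective _).comp hπ) rfl
      rw [← hker]
      refine SetLike.lt_iff_le_and_exists.2 ⟨LinearMap.ker_le_ker_comp _ _, x, ?_, ?_⟩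
      · rw [LinearMap.mem_ker, LinearMap.comp_apply, Submodule.mkQ_apply,
          Submodule.Quotient.mk_eq_zero]
        exact hk
      · rw [LinearMap.mem_ker]; exact hk0
    have Hs : ∀ (ψ : Q →ₗ[B] Q), LinearMap.ker ψ ≠ ⊥ →
        Limits.IsZero (T.obj (ModuleCat.of B (LinearMap.range ψ))) := by
      intro ψ hψ
      obtain ⟨k, hk, hk0⟩ := Submodule.exists_mem_ne_zero_of_ne_bot hψ
      obtain ⟨x, rfl⟩ := hπ k
      refine ih (LinearMap.ker (ψ.rangeRestrict ∘ₗ π)) ?_ (LinearMap.range ψ)
        (ψ.rangeRestrict ∘ₗ π) ((LinearMap.surjective_rangeRestrict ψ).comp hπ) rfl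
      rw [← hker]
      refine SetLike.lt_iff_le_and_exists.2 ⟨LinearMap.ker_le_ker_comp _ _, x, ?_, ?_⟩
      · rw [LinearMap.mem_ker, LinearMap.comp_apply]
        apply Subtype.ext
        exact LinearMap.mem_ker.1 hk
      · rw [LinearMap.mem_ker]; exact hk0
    by_cases hsub : Subsingleton Q
    · haveI := hsub
      exact T.map_isZero (ModuleCat.isZero_of_subsingleton (ModuleCat.of B Q))
    by_cases hkill : ∀ a ∈ IsLocalRing.maximalIdeal B, ∀ q : Q, a • q = 0
    · haveI : Nontrivial Q := not_subsingleton_iff_nontrivial.1 hsub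
      obtain ⟨q, hq⟩ := exists_ne (0 : Q)
      have hle : IsLocalRing.maximalIdeal B ≤ LinearMap.ker (LinearMap.toSpanSingleton B Q q) := by
        intro a ha
        rw [LinearMap.mem_ker, LinearMap.toSpanSingleton_apply]
        exact hkill a ha q
      have hge : LinearMap.ker (LinearMap.toSpanSingleton B Q q) ≤ IsLocalRing.maximalIdeal B := by
        apply IsLocalRing.le_maximalIdeal
        intro htop
        have h1 : (1 : B) ∈ LinearMap.ker (LinearMap.toSpanSingleton B Q q) := by rw [htop]; trivial
        rw [LinearMap.mem_ker, LinearMap.toSpanSingleton_apply, one_smul] at h1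
        exact hq h1
      have hf : Function.Injective (Submodule.liftQ _ (LinearMap.toSpanSingleton B Q q) hle) :=
        LinearMap.ker_eq_bot.1 (Submodule.ker_liftQ_eq_bot _ _ hle hge)
      have hfr : LinearMap.range (Submodule.liftQ _ (LinearMap.toSpanSingleton B Q q) hle) ≠ ⊥ := by
        intro hbot
        have h1 : (Submodule.liftQ _ (LinearMap.toSpanSingleton B Q q) hle) (Submodule.Quotient.mk 1)
            ∈ LinearMap.range (Submodule.liftQ _ (LinearMap.toSpanSingleton B Q q) hle) := ⟨_, rfl⟩
        rw [hbot, Submodule.mem_bot, Submodule.liftQ_apply, LinearMap.toSpanSingleton_apply,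
          one_smul] at h1
        exact hq h1
      exact SE T hex (Submodule.liftQ _ (LinearMap.toSpanSingleton B Q q) hle)
        (LinearMap.range (Submodule.liftQ _ (LinearMap.toSpanSingleton B Q q) hle)).mkQ hf
        (Submodule.mkQ_surjective _) (LinearMap.exact_map_mkQ_range _) h0 (Hq _ hfr)
    · have hkill' : ∃ a ∈ IsLocalRing.maximalIdeal B, ∃ q : Q, a • q ≠ 0 := by
        by_contra hcon
        apply hkill
        intro a ha q
        by_contra hne
        exact hcon ⟨a, ha, q, hne⟩
      obtain ⟨a, ha, q, hq⟩ := hkill'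
      have hr : LinearMap.range (a • (LinearMap.id : Q →ₗ[B] Q)) ≠ ⊥ := by
        intro hbot
        have h1 : (a • (LinearMap.id : Q →ₗ[B] Q)) q
            ∈ LinearMap.range (a • (LinearMap.id : Q →ₗ[B] Q)) := ⟨q, rfl⟩
        rw [hbot, Submodule.mem_bot] at h1
        exact hq h1
      by_cases hinj : Function.Injective (a • (LinearMap.id : Q →ₗ[B] Q))
      · exact NAK T hlin hfin hex a ha hinj (Hq _ hr)
      · have hk : LinearMap.ker (a • (LinearMap.id : Q →ₗ[B] Q)) ≠ ⊥ :=
          fun h => hinj (LinearMap.ker_eq_bot.1 h)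
        exact SE T hex (LinearMap.range (a • (LinearMap.id : Q →ₗ[B] Q))).subtype
          (LinearMap.range (a • (LinearMap.id : Q →ₗ[B] Q))).mkQ (Submodule.subtype_injective _)
          (Submodule.mkQ_surjective _) (LinearMap.exact_subtype_mkQ _) (Hs _ hk) (Hq _ hr)
  exact P ⊥ N LinearMap.id Function.surjective_id LinearMap.ker_id

end Groth.Agent.S14418
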