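import Groth.Statements.S14427
-- import your own Groth.Agent.* helpers here
import Mathlib

set_option autoImplicit false
universe u
open CAlgX

namespace Groth.Agent.S14427

section
open MvPolynomial

theorem finrank_homog3 (k : Type u) [Field k] (m : ℕ) :
    Module.finrank k (homogeneousSubmodule (Fin 3) k m) = (m + 2).choose m := by
  classical
  rw [homogeneousSubmodule_eq_finsupp_supported]
  rw [LinearEquiv.finrank_eq
    (AddMonoidAlgebra.supportedEquivFinsupp {d : Fin 3 →₀ ℕ | d.degree = m})]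
  rw [Module.finrank_eq_nat_card_basis (Finsupp.basisSingleOne (R := k))]
  rw [Nat.card_coe_set_eq]
  have hs : {d : Fin 3 →₀ ℕ | d.degree = m} =
      ↑((Finset.univ : Finset (Fin 3)).finsuppAntidiag m) := by
    ext d
    simp [Finset.mem_finsuppAntidiag, Finsupp.degree_eq_sum]
  rw [hs, Set.ncard_coe_finset, Finset.card_finsuppAntidiag_nat_eq_choose, Finset.card_univ,
    Fintype.card_fin]
  congr 1
  omega

noncomputable def Lin (k : Type u) [Field k] (φ : (Fin 3 → k) →ₗ[k] k) : MvPolynomial (Fin 3) k :=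
  ∑ i : Fin 3, C (φ (fun j => if i = j then 1 else 0)) * X i

theorem Lin_hom (k : Type u) [Field k] (φ : (Fin 3 → k) →ₗ[k] k) : (Lin k φ).IsHomogeneous 1 :=
  IsHomogeneous.sum _ _ _ (fun i _ => isHomogeneous_C_mul_X _ _)

theorem Lin_eval (k : Type u) [Field k] (φ : (Fin 3 → k) →ₗ[k] k) (u : Fin 3 → k) :
    aeval u (Lin k φ) = φ u := by
  rw [LinearMap.pi_apply_eq_sum_univ φ u, Lin, map_sum]
  apply Finset.sum_congr rfl
  intro i _
  simp [mul_comm]

theorem indep_count (k : Type u) [Field k] (m n : ℕ) (Λ : Finset (Fin 3 → k)) (hcard : Λ.card = n)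
    (hex : ∀ v ∈ Λ, ∃ f ∈ homogeneousSubmodule (Fin 3) k m, aeval v f ≠ 0 ∧
      ∀ w ∈ Λ, w ≠ v → aeval w f = 0) :
    Module.finrank k ↥(homogeneousSubmodule (Fin 3) k m ⊓
      ⨅ v ∈ Λ, LinearMap.ker (aeval v).toLinearMap) + n =
    Module.finrank k (homogeneousSubmodule (Fin 3) k m) := by
  classical
  haveI : Module.Finite k (homogeneousSubmodule (Fin 3) k m) :=
    Module.Finite.iff_fg.mpr (homogeneousSubmodule_fg (Fin 3) k m)
  let ev : (homogeneousSubmodule (Fin 3) k m) →ₗ[k] (Λ → k) :=
    LinearMap.pi (fun v : Λ => (aeval (v : Fin 3 → k)).toLinearMap ∘ₗ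
      (homogeneousSubmodule (Fin 3) k m).subtype)
  have hev : ∀ (f : homogeneousSubmodule (Fin 3) k m) (v : Λ),
      ev f v = aeval (v : Fin 3 → k) (f : MvPolynomial (Fin 3) k) := fun f v => rfl
  have hsurj : Function.Surjective ev := by
    intro y
    choose! F hFH hFne hFz using hex
    refine ⟨∑ v ∈ Λ.attach, (y v * (aeval (v : Fin 3 → k) (F v))⁻¹) •
      (⟨F v, hFH v v.2⟩ : homogeneousSubmodule (Fin 3) k m), ?_⟩
    funext w
    rw [hev, Submodule.coe_sum, map_sum, Finset.sum_eq_single w]
    · rw [Submodule.coe_smul, map_smul, smul_eq_mul]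
      exact inv_mul_cancel_right₀ (hFne w w.2) (y w)
    · intro v _ hvw
      rw [Submodule.coe_smul, map_smul, smul_eq_mul]
      have h1 : aeval (w : Fin 3 → k) (F v) = 0 :=
        hFz v v.2 w w.2 (fun h => hvw (Subtype.ext h).symm)
      show y v * (aeval (v : Fin 3 → k) (F v))⁻¹ * aeval (w : Fin 3 → k) (F v) = 0
      rw [h1, mul_zero]
    · intro h
      exact absurd (Finset.mem_attach _ _) h
  have hker : LinearMap.ker ev = Submodule.comap (homogeneousSubmodule (Fin 3) k m).subtype
      (homogeneousSubmodule (Fin 3) k m ⊓ ⨅ v ∈ Λ, LinearMap.ker (aeval v).toLinearMap) := by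
    ext f
    simp only [LinearMap.mem_ker, Submodule.mem_comap, Submodule.mem_inf, Submodule.mem_iInf,
      Submodule.subtype_apply, AlgHom.toLinearMap_apply]
    constructor
    · intro h
      refine ⟨f.2, fun v hv => ?_⟩
      exact congrFun h ⟨v, hv⟩
    · rintro ⟨-, h⟩
      funext v
      exact h v v.2
  have hrn := LinearMap.finrank_range_add_finrank_ker ev
  rw [LinearMap.range_eq_top.mpr hsurj, finrank_top, Module.finrank_fintype_fun_eq_card,
    Fintype.card_coe, hcard, hker,
    LinearEquiv.finrank_eq (Submodule.comapSubtypeEquivOfLe inf_le_left)] at hrn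
  rw [← hrn, add_comm]

end

/-- Let k be a field and Λ a set of n ≥ 3 nonzero vectors of k^3 which are pairwise linearly
independent, i.e. n distinct k-rational points of the projective plane. Then the space of
homogeneous forms of degree n − 1 in k[x_0, x_1, x_2] vanishing at every point of Λ — the global
sections of I_Λ(n − 1) — has dimension C(n+1, 2) − n over k, the same for all such Λ. (The published
statement is over an algebraically closed field; this row allows any field and k-rational points,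
which is all its argument uses.) -/
theorem result (k : Type u) [Field k] (n : ℕ) (hn : 3 ≤ n)
    (Λ : Finset (Fin 3 → k)) (hcard : Λ.card = n) (h0 : ∀ v ∈ Λ, v ≠ 0)
    (hdist : ∀ v ∈ Λ, ∀ w ∈ Λ, v ≠ w → LinearIndependent k ![v, w]) :
    Module.finrank k ↥(MvPolynomial.homogeneousSubmodule (Fin 3) k (n - 1) ⊓ ⨅ v ∈ Λ, LinearMap.ker (MvPolynomial.aeval v).toLinearMap) = Nat.choose (n + 1) 2 - n := by
  classical
  have hφ : ∀ v ∈ Λ, ∀ w ∈ Λ, w ≠ v → ∃ φ : (Fin 3 → k) →ₗ[k] k, φ w = 0 ∧ φ v ≠ 0 := by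
    intro v hv w hw hwv
    have hli := hdist v hv w hw (Ne.symm hwv)
    have hvw : v ∉ Submodule.span k {w} := by
      intro hmem
      obtain ⟨c, hc⟩ := Submodule.mem_span_singleton.mp hmem
      have h1 := (LinearIndependent.pair_iff.mp hli) 1 (-c)
        (by rw [one_smul, neg_smul, hc, add_neg_cancel])
      exact one_ne_zero h1.1
    obtain ⟨f, hf1, hf2⟩ := Submodule.exists_dual_map_eq_bot_of_notMem hvw inferInstance
    refine ⟨f, ?_, hf1⟩
    have h2 : f w ∈ (Submodule.span k {w}).map f :=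
      Submodule.mem_map_of_mem (Submodule.mem_span_singleton_self w)
    rw [hf2] at h2
    exact (Submodule.mem_bot k).mp h2
  choose! φ hφspec using hφ
  have hex : ∀ v ∈ Λ, ∃ f ∈ MvPolynomial.homogeneousSubmodule (Fin 3) k (n - 1),
      MvPolynomial.aeval v f ≠ 0 ∧ ∀ w ∈ Λ, w ≠ v → MvPolynomial.aeval w f = 0 := by
    intro v hv
    refine ⟨∏ w ∈ Λ.erase v, Lin k (φ v w), ?_, ?_, ?_⟩
    · have h := MvPolynomial.IsHomogeneous.prod (Λ.erase v) (fun w => Lin k (φ v w))
        (fun _ => 1) (fun w _ => Lin_hom k _)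
      rw [Finset.sum_const, smul_eq_mul, mul_one, Finset.card_erase_of_mem hv, hcard] at h
      exact h
    · rw [map_prod]
      refine Finset.prod_ne_zero_iff.mpr (fun w hw => ?_)
      rw [Lin_eval]
      exact (hφspec v hv w (Finset.mem_of_mem_erase hw) (Finset.ne_of_mem_erase hw)).2
    · intro w hw hwv
      rw [map_prod]
      refine Finset.prod_eq_zero (Finset.mem_erase.mpr ⟨hwv, hw⟩) ?_
      rw [Lin_eval]
      exact (hφspec v hv w hw hwv).1
  have h1 := indep_count k (n - 1) n Λ hcard hex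
  rw [finrank_homog3] at h1
  have e : n - 1 + 2 = n + 1 := by omega
  have h2 := Nat.choose_symm (show 2 ≤ n + 1 by omega)
  have e2 : n + 1 - 2 = n - 1 := by omega
  rw [e2] at h2
  rw [e, h2] at h1
  omega

end Groth.Agent.S14427
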