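import Groth.Statements.S14428
-- import your own Groth.Agent.* helpers here
import Mathlib
import Groth.Agent.S14427

set_option autoImplicit false
universe u
open CAlgX

namespace Groth.Agent.S14428

section
open MvPolynomial Groth.Agent.S14427

theorem dualsep (k : Type u) [Field k] (p : Submodule k (Fin 3 → k)) (x : Fin 3 → k) (hx : x ∉ p) :
    ∃ φ : (Fin 3 → k) →ₗ[k] k, φ x ≠ 0 ∧ ∀ y ∈ p, φ y = 0 := by
  obtain ⟨f, hf1, hf2⟩ := Submodule.exists_dual_map_eq_bot_of_notMem hx inferInstance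
  refine ⟨f, hf1, fun y hy => ?_⟩
  have h2 : f y ∈ p.map f := Submodule.mem_map_of_mem hy
  rw [hf2] at h2
  exact (Submodule.mem_bot k).mp h2

theorem half (k : Type u) [Field k] (n : ℕ) (hn : 3 ≤ n) (Λ Λ' : Finset (Fin 3 → k))
    (hcard' : Λ'.card = n)
    (hline' : ¬ ∃ ℓ : (Fin 3 → k) →ₗ[k] k, ℓ ≠ 0 ∧ ∀ v ∈ Λ', ℓ v = 0)
    (hle : (homogeneousSubmodule (Fin 3) k (n - 1) ⊓
        ⨅ v ∈ Λ', LinearMap.ker (aeval v).toLinearMap) ≤
      (homogeneousSubmodule (Fin 3) k (n - 1) ⊓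
        ⨅ v ∈ Λ, LinearMap.ker (aeval v).toLinearMap)) :
    ∀ v ∈ Λ, ∃ w ∈ Λ', ∃ c : k, v = c • w := by
  classical
  intro v hv
  by_contra hcon
  have hnp : ∀ w ∈ Λ', ∀ c : k, v ≠ c • w := by
    intro w hw c hc
    exact hcon ⟨w, hw, c, hc⟩
  have hvspan : ∀ w ∈ Λ', v ∉ Submodule.span k {w} := by
    intro w hw hmem
    obtain ⟨c, hc⟩ := Submodule.mem_span_singleton.mp hmem
    exact hnp w hw c hc.symm
  have hne : Λ'.Nonempty := Finset.card_pos.mp (by omega)
  obtain ⟨w1, hw1⟩ := hne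
  have hstep1 : ∃ w2 ∈ Λ', w2 ≠ w1 ∧ v ∉ Submodule.span k {w1, w2} := by
    by_contra hno
    have hall : ∀ w2 ∈ Λ', w2 ≠ w1 → v ∈ Submodule.span k {w1, w2} := by
      intro w2 hw2 hne2
      by_contra h
      exact hno ⟨w2, hw2, hne2, h⟩
    have hQ : ∀ w ∈ Λ', w ∈ Submodule.span k ({v, w1} : Set (Fin 3 → k)) := by
      intro w hw
      by_cases hww : w = w1
      · rw [hww]
        exact Submodule.subset_span (by simp)
      · obtain ⟨a, b, hab⟩ := Submodule.mem_span_pair.mp (hall w hw hww)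
        have hb : b ≠ 0 := by
          intro hb0
          rw [hb0, zero_smul, add_zero] at hab
          exact hnp w1 hw1 a hab.symm
        have hw' : w = b⁻¹ • v + (-(b⁻¹ * a)) • w1 := by
          rw [← hab, smul_add, smul_smul, smul_smul, inv_mul_cancel₀ hb, one_smul, neg_smul]
          abel
        rw [hw']
        exact Submodule.mem_span_pair.mpr ⟨b⁻¹, -(b⁻¹ * a), rfl⟩
    have hQtop : Submodule.span k ({v, w1} : Set (Fin 3 → k)) ≠ ⊤ := by
      intro htop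
      have h1 : Module.finrank k (Submodule.span k
          (↑({v, w1} : Finset (Fin 3 → k)) : Set (Fin 3 → k))) ≤
          ({v, w1} : Finset (Fin 3 → k)).card := finrank_span_finset_le_card _
      rw [Finset.coe_pair, htop, finrank_top, Module.finrank_fintype_fun_eq_card,
        Fintype.card_fin] at h1
      have h2 := Finset.card_le_two (a := v) (b := w1)
      omega
    obtain ⟨x, -, hx⟩ := SetLike.exists_of_lt (lt_top_iff_ne_top.mpr hQtop)
    obtain ⟨f, hf1, hf2⟩ := dualsep k _ x hx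
    exact hline' ⟨f, fun hf0 => hf1 (by rw [hf0]; rfl), fun w hw => hf2 w (hQ w hw)⟩
  obtain ⟨w2, hw2, hw21, hv12⟩ := hstep1
  obtain ⟨ℓ0, hℓ0v, hℓ0⟩ := dualsep k _ v hv12
  have hℓ : ∀ w ∈ Λ', ∃ φ : (Fin 3 → k) →ₗ[k] k, φ v ≠ 0 ∧ φ w = 0 := by
    intro w hw
    obtain ⟨f, hf1, hf2⟩ := dualsep k _ v (hvspan w hw)
    exact ⟨f, hf1, hf2 w (Submodule.mem_span_singleton_self w)⟩
  choose! φ hφv hφw using hℓ
  have hFhom : (Lin k ℓ0 * ∏ w ∈ (Λ'.erase w1).erase w2, Lin k (φ w)) ∈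
      homogeneousSubmodule (Fin 3) k (n - 1) := by
    have h1 := IsHomogeneous.prod ((Λ'.erase w1).erase w2) (fun w => Lin k (φ w))
      (fun _ => 1) (fun w _ => Lin_hom k _)
    have h2 := (Lin_hom k ℓ0).mul h1
    have hc : ((Λ'.erase w1).erase w2).card = n - 2 := by
      rw [Finset.card_erase_of_mem (Finset.mem_erase.mpr ⟨hw21, hw2⟩),
        Finset.card_erase_of_mem hw1, hcard']
      omega
    rw [Finset.sum_const, smul_eq_mul, mul_one, hc] at h2
    have e : 1 + (n - 2) = n - 1 := by omega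
    rw [e] at h2
    exact h2
  have hFv : aeval v (Lin k ℓ0 * ∏ w ∈ (Λ'.erase w1).erase w2, Lin k (φ w)) ≠ 0 := by
    rw [map_mul, map_prod, Lin_eval]
    refine mul_ne_zero hℓ0v (Finset.prod_ne_zero_iff.mpr (fun w hw => ?_))
    rw [Lin_eval]
    exact hφv w (Finset.mem_of_mem_erase (Finset.mem_of_mem_erase hw))
  have hFw : ∀ w ∈ Λ', aeval w (Lin k ℓ0 * ∏ w' ∈ (Λ'.erase w1).erase w2, Lin k (φ w')) = 0 := by
    intro w hw
    rw [map_mul, map_prod, Lin_eval]
    by_cases h1 : w = w1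
    · rw [h1, hℓ0 w1 (Submodule.subset_span (by simp)), zero_mul]
    by_cases h2 : w = w2
    · rw [h2, hℓ0 w2 (Submodule.subset_span (by simp)), zero_mul]
    · have hz : ∏ w' ∈ (Λ'.erase w1).erase w2, aeval w (Lin k (φ w')) = 0 :=
        Finset.prod_eq_zero (i := w)
          (Finset.mem_erase.mpr ⟨h2, Finset.mem_erase.mpr ⟨h1, hw⟩⟩)
          (by rw [Lin_eval]; exact hφw w hw)
      rw [hz, mul_zero]
  have hFW' : (Lin k ℓ0 * ∏ w ∈ (Λ'.erase w1).erase w2, Lin k (φ w)) ∈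
      homogeneousSubmodule (Fin 3) k (n - 1) ⊓
        ⨅ v ∈ Λ', LinearMap.ker (aeval v).toLinearMap := by
    refine Submodule.mem_inf.mpr ⟨hFhom, ?_⟩
    simp only [Submodule.mem_iInf, LinearMap.mem_ker, AlgHom.toLinearMap_apply]
    exact hFw
  have hFW := hle hFW'
  have h3 := (Submodule.mem_inf.mp hFW).2
  simp only [Submodule.mem_iInf, LinearMap.mem_ker, AlgHom.toLinearMap_apply] at h3
  exact hFv (h3 v hv)

end

/-- Let k be a field, n ≥ 3, and let Λ and Λ' be two sets of n nonzero, pairwise linearly independent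
vectors of k^3 (n distinct k-rational points of the projective plane each), neither lying on a line
(no nonzero linear form vanishes on all of Λ, resp. Λ'). If the spaces of homogeneous forms of
degree n − 1 vanishing on Λ and on Λ' coincide, then Λ and Λ' define the same set of points of the
plane: the assignment Λ ↦ H^0(P^2, I_Λ(n − 1)), with values in a Grassmannian, is injective on
non-collinear sets. (The published statement is over an algebraically closed field; this row allows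
any field and k-rational points, which is all its argument uses.) -/
theorem result (k : Type u) [Field k] (n : ℕ) (hn : 3 ≤ n)
    (Λ Λ' : Finset (Fin 3 → k)) (hcard : Λ.card = n) (hcard' : Λ'.card = n)
    (h0 : ∀ v ∈ Λ, v ≠ 0) (h0' : ∀ v ∈ Λ', v ≠ 0)
    (hdist : ∀ v ∈ Λ, ∀ w ∈ Λ, v ≠ w → LinearIndependent k ![v, w])
    (hdist' : ∀ v ∈ Λ', ∀ w ∈ Λ', v ≠ w → LinearIndependent k ![v, w])
    (hline : ¬ ∃ ℓ : (Fin 3 → k) →ₗ[k] k, ℓ ≠ 0 ∧ ∀ v ∈ Λ, ℓ v = 0)
    (hline' : ¬ ∃ ℓ : (Fin 3 → k) →ₗ[k] k, ℓ ≠ 0 ∧ ∀ v ∈ Λ', ℓ v = 0)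
    (heq : (MvPolynomial.homogeneousSubmodule (Fin 3) k (n - 1) ⊓ ⨅ v ∈ Λ, LinearMap.ker (MvPolynomial.aeval v).toLinearMap) = (MvPolynomial.homogeneousSubmodule (Fin 3) k (n - 1) ⊓ ⨅ v ∈ Λ', LinearMap.ker (MvPolynomial.aeval v).toLinearMap)) :
    (∀ v ∈ Λ, ∃ w ∈ Λ', ∃ c : k, v = c • w) ∧ (∀ w ∈ Λ', ∃ v ∈ Λ, ∃ c : k, w = c • v) := by
  exact ⟨half k n hn Λ Λ' hcard' hline' heq.ge, half k n hn Λ' Λ hcard hline heq.le⟩

end Groth.Agent.S14428
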