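import Groth.Statements.S14433
-- import your own Groth.Agent.* helpers here
import Mathlib

set_option autoImplicit false
universe u
open Koszul3

namespace Groth.Agent.S14433

open CategoryTheory CategoryTheory.Limits CochainComplex HomComplex

section gen
variable {C : Type*} [Category C] [Preadditive C] [HasBinaryBiproducts C]
  {R : Type*} [Ring R] [Linear R C]

lemma ofHom_smul' {F G : CochainComplex C ℤ} (a : R) (φ : F ⟶ G) :
    Cochain.ofHom (a • φ) = a • Cochain.ofHom φ := by
  ext p
  simp

lemma homotopyA (K : CochainComplex C ℤ) (f : R) :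
    Nonempty (Homotopy (f • 𝟙 (mappingCone (f • 𝟙 K))) 0) := by
  refine ⟨mappingCone.descHomotopy (f • 𝟙 K) _ _ 0 (mappingCone.inl (f • 𝟙 K)) ?_ ?_⟩
  · rw [δ_zero, zero_add, ofHom_smul', ofHom_smul', Cochain.ofHom_zero, Cochain.comp_zero,
      add_zero, Cochain.comp_smul, Cochain.comp_id, Cochain.smul_comp, Cochain.id_comp]
  · rw [mappingCone.δ_inl, Limits.comp_zero, Cochain.ofHom_zero, add_zero, Linear.comp_smul,
      Category.comp_id, Linear.smul_comp, Category.id_comp]

lemma homotopyB (K : CochainComplex C ℤ) (f a : R) (H : Homotopy (a • 𝟙 K) 0) :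
    Nonempty (Homotopy (a • 𝟙 (mappingCone (f • 𝟙 K))) 0) := by
  obtain ⟨z, hz⟩ := Cochain.equivHomotopy _ _ H
  have hδ : δ (-1) 0 z = a • Cochain.ofHom (𝟙 K) := by
    rw [ofHom_smul', Cochain.ofHom_zero, add_zero] at hz
    exact hz.symm
  refine ⟨mappingCone.descHomotopy (f • 𝟙 K) _ _
    (-(z.comp (mappingCone.inl (f • 𝟙 K)) (by norm_num : (-1 : ℤ) + -1 = -2)))
    (z.comp (Cochain.ofHom (mappingCone.inr (f • 𝟙 K))) (add_zero (-1))) ?_ ?_⟩
  · rw [δ_neg, δ_comp z (mappingCone.inl (f • 𝟙 K)) (by norm_num : (-1 : ℤ) + -1 = -2) 0 0 (-1)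
      (by norm_num) (by norm_num) (by norm_num), mappingCone.δ_inl, hδ]
    simp only [ofHom_smul', Cochain.ofHom_zero, Cochain.comp_zero, add_zero, Cochain.comp_smul,
      Cochain.comp_id, Cochain.smul_comp, Cochain.id_comp, Linear.smul_comp, Category.id_comp,
      Int.negOnePow_neg, Int.negOnePow_one, Units.neg_smul, one_smul]
    abel
  · rw [δ_comp_ofHom, hδ, Limits.comp_zero, Cochain.ofHom_zero, add_zero, Linear.comp_smul,
      Category.comp_id, ofHom_smul', Cochain.smul_comp, Cochain.id_comp]

lemma homotopy_add {K : CochainComplex C ℤ} {a b : R}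
    (ha : Nonempty (Homotopy (a • 𝟙 K) 0)) (hb : Nonempty (Homotopy (b • 𝟙 K) 0)) :
    Nonempty (Homotopy ((a + b) • 𝟙 K) 0) := by
  obtain ⟨ha⟩ := ha
  obtain ⟨hb⟩ := hb
  exact ⟨(Homotopy.ofEq (add_smul a b (𝟙 K))).trans ((ha.add hb).trans (Homotopy.ofEq (add_zero 0)))⟩

lemma homotopy_mul {K : CochainComplex C ℤ} {a : R} (r : R)
    (ha : Nonempty (Homotopy (a • 𝟙 K) 0)) :
    Nonempty (Homotopy ((r * a) • 𝟙 K) 0) := by
  obtain ⟨ha⟩ := ha
  exact ⟨(Homotopy.ofEq (mul_smul r a (𝟙 K))).trans ((ha.smul r).trans (Homotopy.ofEq (smul_zero r)))⟩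

end gen

lemma koszul_mem {R : Type u} [CommRing R] (M : ModuleCat.{u} R) :
    ∀ (xs : List R) (x : R), x ∈ xs → Nonempty (Homotopy (x • 𝟙 (CohIII.koszulCx M xs)) 0)
  | [], x, hx => by simp at hx
  | (f :: fs), x, hx => by
    show Nonempty (Homotopy (x • 𝟙 (mappingCone (f • 𝟙 (CohIII.koszulCx M fs)))) 0)
    by_cases hxf : x = f
    · subst hxf
      exact homotopyA _ x
    · have hx' : x ∈ fs := by
        rcases List.mem_cons.1 hx with h | h
        · exact absurd h hxf
        · exact h
      obtain ⟨H⟩ := koszul_mem M fs x hx'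
      exact homotopyB _ f x H

open CategoryTheory CategoryTheory.Limits in
/-- Let R be a commutative ring, M an R-module, x = (x_1, …, x_n) elements of R and a an element of the
ideal (x_1, …, x_n). Then multiplication by a on the Koszul complex K(x; M) is homotopic to the zero
map (so a annihilates every Koszul cohomology module, and K(x; M) is exact when the x_i generate the
unit ideal). (The published statement is for the Koszul complex of a linear form φ : E → R and a ∈
φ(E); stated here for E free of finite rank, with the Koszul complex realised by iterated mapping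
cones as in the prelude, which is isomorphic to the exterior-algebra complex.) -/
theorem result {R : Type u} [CommRing R] (M : Type u) [AddCommGroup M] [Module R M]
    (xs : List R) (a : R) (ha : a ∈ Ideal.span {x | x ∈ xs}) :
    Nonempty (Homotopy (a • 𝟙 (CohIII.koszulCx (ModuleCat.of R M) xs)) 0) := by
  classical
  induction ha using Submodule.span_induction with
  | mem x hx => exact koszul_mem (ModuleCat.of R M) xs x hx
  | zero => exact ⟨Homotopy.ofEq (zero_smul R _)⟩
  | add x y _ _ hx hy => exact homotopy_add hx hy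
  | smul r x _ hx => exact homotopy_mul r hx

end Groth.Agent.S14433
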