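import Groth.Statements.S14434
-- import your own Groth.Agent.* helpers here
import Mathlib

set_option autoImplicit false
universe u
open CAlg

namespace Groth.Agent.S14434

open CategoryTheory Limits in
noncomputable def cX (R : Type u) [CommRing R] : ℕ → ModuleCat.{u} R
  | 0 => ModuleCat.of R R
  | 1 => ModuleCat.of R R
  | _ + 2 => ModuleCat.of R PUnit.{u + 1}

open CategoryTheory Limits in
noncomputable def cd {R : Type u} [CommRing R] (x : R) : ∀ n, cX R (n + 1) ⟶ cX R n
  | 0 => ModuleCat.ofHom (LinearMap.mulLeft R x)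
  | _ + 1 => 0

open CategoryTheory Limits in
noncomputable def cplx {R : Type u} [CommRing R] (x : R) : ChainComplex (ModuleCat.{u} R) ℕ :=
  ChainComplex.of (cX R) (cd x) (fun _ => zero_comp)

open CategoryTheory Limits in
lemma cX_proj (R : Type u) [CommRing R] (n : ℕ) : Projective (cX R n) := by
  match n with
  | 0 => exact (IsProjective.iff_projective (R := R) (P := R)).mp inferInstance
  | 1 => exact (IsProjective.iff_projective (R := R) (P := R)).mp inferInstance
  | _ + 2 => exact (IsProjective.iff_projective (R := R) (P := PUnit.{u + 1})).mp inferInstance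

open CategoryTheory Limits in
lemma cplx_d_comp {R : Type u} [CommRing R] (x : R) :
    (cplx x).d 1 0 ≫ ModuleCat.ofHom (Ideal.span {x}).mkQ = 0 := by
  have : (cplx x).d 1 0 = cd x 0 := ChainComplex.of_d (cX R) (cd x) 0
  rw [this]
  have key : ∀ r : R, (Ideal.span {x}).mkQ (x * r) = 0 := by
    intro r
    rw [Submodule.mkQ_apply, Submodule.Quotient.mk_eq_zero]
    exact Ideal.mem_span_singleton.mpr ⟨r, rfl⟩
  refine ModuleCat.hom_ext (LinearMap.ext fun r => ?_)
  exact key r

open CategoryTheory Limits in
noncomputable def cπ {R : Type u} [CommRing R] (x : R) :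
    cplx x ⟶ (ChainComplex.single₀ (ModuleCat.{u} R)).obj (ModuleCat.of R (R ⧸ Ideal.span {x})) :=
  (ChainComplex.toSingle₀Equiv _ _).symm ⟨ModuleCat.ofHom (Ideal.span {x}).mkQ, cplx_d_comp x⟩

open CategoryTheory Limits in
lemma cπ_f0 {R : Type u} [CommRing R] (x : R) :
    (cπ x).f 0 = ModuleCat.ofHom (Ideal.span {x}).mkQ :=
  ChainComplex.toSingle₀Equiv_symm_apply_f_zero _ _

open CategoryTheory Limits in
lemma cplx_d10 {R : Type u} [CommRing R] (x : R) : (cplx x).d 1 0 = cd x 0 :=
  ChainComplex.of_d (cX R) (cd x) 0

open CategoryTheory Limits in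
lemma cplx_d21 {R : Type u} [CommRing R] (x : R) : (cplx x).d 2 1 = 0 :=
  ChainComplex.of_d (cX R) (cd x) 1

open CategoryTheory Limits in
lemma cπ_quasiIso {R : Type u} [CommRing R] (x : R) (hx : IsSMulRegular R x) :
    QuasiIso (cπ x) where
  quasiIsoAt m := by
    cases m with
    | zero =>
      rw [ChainComplex.quasiIsoAt₀_iff, ShortComplex.quasiIso_iff_of_zeros' _ rfl rfl rfl]
      constructor
      · rw [ShortComplex.moduleCat_exact_iff]
        intro r hr
        have hr' : (Ideal.span {x}).mkQ (show R from r) = 0 := by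
          have : (ConcreteCategory.hom ((cπ x).f 0)) r = 0 := hr
          rw [cπ_f0] at this
          exact this
        rw [Submodule.mkQ_apply, Submodule.Quotient.mk_eq_zero, Ideal.mem_span_singleton] at hr'
        obtain ⟨s, hs⟩ := hr'
        refine ⟨s, ?_⟩
        show (ConcreteCategory.hom ((cplx x).d 1 0)) s = r
        rw [cplx_d10]
        exact hs.symm
      · rw [ModuleCat.epi_iff_surjective]
        show Function.Surjective (ConcreteCategory.hom ((cπ x).f 0))
        rw [cπ_f0]
        exact Submodule.mkQ_surjective _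
    | succ m =>
      rw [quasiIsoAt_iff_exactAt' (hL := ChainComplex.exactAt_succ_single_obj ..),
        HomologicalComplex.exactAt_iff' _ (m + 2) (m + 1) m (by simp) (by simp)]
      cases m with
      | zero =>
        rw [ShortComplex.exact_iff_mono _ (cplx_d21 x)]
        show Mono ((cplx x).d 1 0)
        rw [cplx_d10, ModuleCat.mono_iff_injective]
        exact hx
      | succ m =>
        refine ShortComplex.exact_of_isZero_X₂ _ ?_
        show IsZero (ModuleCat.of R PUnit.{u + 1})
        exact ModuleCat.isZero_of_subsingleton _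

open CategoryTheory Limits in
noncomputable def res {R : Type u} [CommRing R] (x : R) (hx : IsSMulRegular R x) :
    ProjectiveResolution (ModuleCat.of R (R ⧸ Ideal.span {x})) where
  complex := cplx x
  projective n := cX_proj R n
  π := cπ x
  quasiIso := cπ_quasiIso x hx

lemma inj_lTensor {R : Type u} [CommRing R] (M : Type u) [AddCommGroup M] [Module R M] (x : R)
    (hxM : IsSMulRegular M x) :
    Function.Injective ((LinearMap.mulLeft R x).lTensor M) := by
  have h1 : LinearMap.mulLeft R x = x • (LinearMap.id : R →ₗ[R] R) := by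
    ext; simp
  rw [h1, LinearMap.lTensor_smul, LinearMap.lTensor_id]
  intro a b hab
  have hab' : x • a = x • b := hab
  have := congrArg (TensorProduct.rid R M) hab'
  rw [map_smul, map_smul] at this
  exact (TensorProduct.rid R M).injective (hxM this)

open CategoryTheory Limits MonoidalCategory in
lemma tor_zero {R : Type u} [CommRing R] (M : Type u) [AddCommGroup M] [Module R M]
    (x : R) (hxR : IsSMulRegular R x) (hxM : IsSMulRegular M x) (m : ℕ) :
    IsZero ((((tensoringLeft (ModuleCat.{u} R)).obj (ModuleCat.of R M)).leftDerived (m + 1)).obj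
      (ModuleCat.of R (R ⧸ Ideal.span {x}))) := by
  refine IsZero.of_iso ?_ ((res x hxR).isoLeftDerivedObj _ (m + 1))
  show IsZero (((((tensoringLeft (ModuleCat.{u} R)).obj
    (ModuleCat.of R M)).mapHomologicalComplex _).obj (cplx x)).homology (m + 1))
  rw [← HomologicalComplex.exactAt_iff_isZero_homology,
    HomologicalComplex.exactAt_iff' _ (m + 2) (m + 1) m (by simp) (by simp)]
  cases m with
  | zero =>
    have hf0 : (HomologicalComplex.sc' ((((tensoringLeft (ModuleCat.{u} R)).obj
        (ModuleCat.of R M)).mapHomologicalComplex _).obj (cplx x)) 2 1 0).f = 0 := by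
      show ((tensoringLeft (ModuleCat.{u} R)).obj (ModuleCat.of R M)).map ((cplx x).d 2 1) = 0
      rw [cplx_d21, Functor.map_zero]
    rw [ShortComplex.exact_iff_mono _ hf0]
    show Mono (((tensoringLeft (ModuleCat.{u} R)).obj (ModuleCat.of R M)).map ((cplx x).d 1 0))
    rw [cplx_d10, ModuleCat.mono_iff_injective]
    exact inj_lTensor M x hxM
  | succ m =>
    refine ShortComplex.exact_of_isZero_X₂ _ ?_
    show IsZero (((tensoringLeft (ModuleCat.{u} R)).obj (ModuleCat.of R M)).obj
      (ModuleCat.of R PUnit.{u + 1}))
    exact Functor.map_isZero _ (ModuleCat.isZero_of_subsingleton _)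

/-- Let R be a commutative ring, M an R-module and x ∈ R a non-zero-divisor on R and on M. Then
Tor_i^R(M, R/(x)) = 0 for all i ≥ 1 (Tor computed as the left derived functors of the tensor product
on R-modules). -/
theorem result {R : Type u} [CommRing R] (M : Type u) [AddCommGroup M] [Module R M]
    (x : R) (hxR : IsSMulRegular R x) (hxM : IsSMulRegular M x) (i : ℕ) (hi : 1 ≤ i) :
    Subsingleton (DRing.Tor R i M (R ⧸ Ideal.span {x})) := by
  obtain ⟨m, rfl⟩ : ∃ m, i = m + 1 := ⟨i - 1, by omega⟩
  exact ModuleCat.subsingleton_of_isZero (tor_zero M x hxR hxM m)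

end Groth.Agent.S14434
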