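import Groth.Statements.S14436
-- import your own Groth.Agent.* helpers here
import Mathlib

set_option autoImplicit false
universe u
open CAlg

namespace Groth.Agent.S14436

section
open TensorProduct

theorem finrank_kaehler_of_isFractionRing_mvPolynomial (K E : Type u) [Field K] [Field E]
    [Algebra K E] (n : ℕ)
    [Algebra (MvPolynomial (Fin n) K) E] [IsScalarTower K (MvPolynomial (Fin n) K) E]
    [IsFractionRing (MvPolynomial (Fin n) K) E] : Module.finrank E (Ω[E⁄K]) = n := by
  haveI : Algebra.FormallyEtale (MvPolynomial (Fin n) K) E :=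
    Algebra.FormallyEtale.of_isLocalization (Rₘ := E) (nonZeroDivisors (MvPolynomial (Fin n) K))
  haveI : Module.Free (MvPolynomial (Fin n) K) (Ω[MvPolynomial (Fin n) K⁄K]) :=
    Module.Free.of_basis (KaehlerDifferential.mvPolynomialBasis K (Fin n))
  rw [← (KaehlerDifferential.tensorKaehlerEquivOfFormallyEtale K
      (MvPolynomial (Fin n) K) E).finrank_eq,
    Module.finrank_baseChange,
    Module.finrank_eq_card_basis (KaehlerDifferential.mvPolynomialBasis K (Fin n)),
    Fintype.card_fin]

theorem finrank_kaehler_of_isSeparable (K E L : Type u) [Field K] [Field E] [Field L]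
    [Algebra K E] [Algebra E L] [Algebra K L] [IsScalarTower K E L] [Algebra.IsSeparable E L] :
    Module.finrank L (Ω[L⁄K]) = Module.finrank E (Ω[E⁄K]) := by
  haveI : Algebra.FormallyEtale E L := Algebra.FormallyEtale.of_isSeparable E L
  rw [← (KaehlerDifferential.tensorKaehlerEquivOfFormallyEtale K E L).finrank_eq,
    Module.finrank_baseChange]

end

/-- Let L/K be a finitely generated field extension which is separable in the sense that it has a
transcendence basis a_1, …, a_n over which L is a (finite) separable extension of K(a_1, …, a_n).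
Then dim_L Ω_{L/K} = n, the transcendence degree of L over K. -/
theorem result (K L : Type u) [Field K] [Field L] [Algebra K L]
    (hfg : ∃ s : Finset L, IntermediateField.adjoin K (s : Set L) = ⊤)
    (n : ℕ) (a : Fin n → L) (ha : IsTranscendenceBasis K a)
    (hsep : Algebra.IsSeparable ↥(IntermediateField.adjoin K (Set.range a)) L) :
    Module.finrank L (Ω[L⁄K]) = n := by
  classical
  have hx : AlgebraicIndependent K a := ha.1
  haveI := hsep
  let φ : MvPolynomial (Fin n) K →ₐ[K] ↥(IntermediateField.adjoin K (Set.range a)) :=
    (hx.aevalEquivField.toAlgHom).comp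
      (IsScalarTower.toAlgHom K (MvPolynomial (Fin n) K) (FractionRing (MvPolynomial (Fin n) K)))
  letI : Algebra (MvPolynomial (Fin n) K) ↥(IntermediateField.adjoin K (Set.range a)) :=
    φ.toRingHom.toAlgebra
  haveI : IsScalarTower K (MvPolynomial (Fin n) K) ↥(IntermediateField.adjoin K (Set.range a)) :=
    IsScalarTower.of_algebraMap_eq (fun k => (φ.commutes k).symm)
  let eQE : FractionRing (MvPolynomial (Fin n) K) ≃ₐ[MvPolynomial (Fin n) K]
      ↥(IntermediateField.adjoin K (Set.range a)) :=
    AlgEquiv.ofRingEquiv (f := hx.aevalEquivField.toRingEquiv) (fun p => rfl)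
  haveI : IsFractionRing (MvPolynomial (Fin n) K) ↥(IntermediateField.adjoin K (Set.range a)) :=
    IsLocalization.isLocalization_of_algEquiv (nonZeroDivisors (MvPolynomial (Fin n) K)) eQE
  rw [finrank_kaehler_of_isSeparable K ↥(IntermediateField.adjoin K (Set.range a)) L]
  exact finrank_kaehler_of_isFractionRing_mvPolynomial K _ n

end Groth.Agent.S14436
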