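import Groth.Statements.S14437
-- import your own Groth.Agent.* helpers here
import Mathlib

set_option autoImplicit false
universe u
open CAlg

namespace Groth.Agent.S14437

open IsLocalRing TensorProduct

section cstsec
variable {k : Type u} [Field k] {B : Type u} [CommRing B] [IsLocalRing B] [Algebra k B]
  (hB : Function.Bijective (algebraMap k (ResidueField B)))

/-- constant-part ring hom -/
noncomputable def cst : B →+* k :=
  ((RingEquiv.ofBijective (algebraMap k (ResidueField B)) hB).symm : ResidueField B →+* k).comp
    (residue B)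

lemma cst_spec (b : B) : algebraMap k (ResidueField B) (cst hB b) = residue B b :=
  (RingEquiv.ofBijective (algebraMap k (ResidueField B)) hB).apply_symm_apply _

lemma residue_algebraMap (c : k) :
    residue B (algebraMap k B c) = algebraMap k (ResidueField B) c := by
  rw [IsScalarTower.algebraMap_apply k B (ResidueField B), ResidueField.algebraMap_eq]

include hB in
lemma cst_algebraMap (c : k) : cst hB (algebraMap k B c) = c := by
  apply hB.1
  rw [cst_spec, residue_algebraMap]

lemma sub_cst_mem (b : B) : b - algebraMap k B (cst hB b) ∈ maximalIdeal B := by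
  rw [← residue_eq_zero_iff, map_sub, residue_algebraMap, cst_spec, sub_self]

lemma cst_of_mem {b : B} (hb : b ∈ maximalIdeal B) : cst hB b = 0 := by
  apply hB.1
  rw [cst_spec, map_zero, (residue_eq_zero_iff b).2 hb]

/-- the `m_B`-part -/
noncomputable def T (b : B) : maximalIdeal B :=
  ⟨b - algebraMap k B (cst hB b), sub_cst_mem hB b⟩

lemma T_add (x y : B) : T hB (x + y) = T hB x + T hB y := by
  apply Subtype.ext
  simp only [T, map_add, Submodule.coe_add]
  ring

lemma T_of_mem {b : B} (hb : b ∈ maximalIdeal B) : T hB b = ⟨b, hb⟩ := by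
  apply Subtype.ext
  simp only [T, cst_of_mem hB hb, map_zero, sub_zero]

lemma toCot_T_mul (x y : B) :
    (maximalIdeal B).toCotangent (T hB (x * y)) =
      cst hB x • (maximalIdeal B).toCotangent (T hB y) +
        cst hB y • (maximalIdeal B).toCotangent (T hB x) := by
  have hm : (T hB x).1 * (T hB y).1 ∈ maximalIdeal B := Ideal.mul_mem_left _ _ (T hB y).2
  have h1 : T hB (x * y) =
      (⟨(T hB x).1 * (T hB y).1, hm⟩ : maximalIdeal B) +
        (cst hB x • T hB y + cst hB y • T hB x) := by
    apply Subtype.ext
    simp only [T, map_mul, Submodule.coe_add, Submodule.coe_smul_of_tower, Algebra.smul_def]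
    ring
  have h2 : (maximalIdeal B).toCotangent (⟨(T hB x).1 * (T hB y).1, hm⟩ : maximalIdeal B) = 0 := by
    rw [Ideal.toCotangent_eq_zero, pow_two]
    exact Ideal.mul_mem_mul (T hB x).2 (T hB y).2
  rw [h1, map_add, map_add, h2, zero_add, LinearMap.map_smul_of_tower,
    LinearMap.map_smul_of_tower]

end cstsec

section sqsec
variable {A B : Type u} [CommRing A] [CommRing B] [IsLocalRing B] [Algebra A B]

lemma one_tmul_D_sq {b : B} (hb : b ∈ maximalIdeal B ^ 2) :
    (1 : ResidueField B) ⊗ₜ[B] KaehlerDifferential.D A B b = 0 := by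
  rw [pow_two] at hb
  refine Submodule.mul_induction_on hb ?_ ?_
  · intro m hm n hn
    rw [Derivation.leibniz, tmul_add, ← smul_tmul, ← smul_tmul]
    have h0 : ∀ z ∈ maximalIdeal B, z • (1 : ResidueField B) = 0 := by
      intro z hz
      rw [Algebra.smul_def, mul_one, ResidueField.algebraMap_eq, (residue_eq_zero_iff z).2 hz]
    simp only [h0 m hm, h0 n hn, zero_tmul, add_zero]
  · intro x y hx hy
    rw [map_add, tmul_add, hx, hy, add_zero]

end sqsec

section der
variable {k : Type u} [Field k] {A B : Type u} [CommRing A] [CommRing B] [IsLocalRing A]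
  [IsLocalRing B]
  [Algebra k A] [Algebra k B] [Algebra A B] [IsScalarTower k A B]
  (hle : maximalIdeal A ≤ Ideal.comap (IsScalarTower.toAlgHom k A B) (maximalIdeal B))
  (hA : Function.Bijective (algebraMap k (ResidueField A)))
  (hB : Function.Bijective (algebraMap k (ResidueField B)))
  (ℓ : (maximalIdeal B).Cotangent →ₗ[k] k)
  (hℓ : LinearMap.range (Ideal.mapCotangent (maximalIdeal A) (maximalIdeal B)
    (IsScalarTower.toAlgHom k A B) hle) ≤ LinearMap.ker ℓ)

noncomputable def Dfun (b : B) : ResidueField B :=
  algebraMap k (ResidueField B) (ℓ ((maximalIdeal B).toCotangent (T hB b)))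

lemma Dfun_add (x y : B) : Dfun hB ℓ (x + y) = Dfun hB ℓ x + Dfun hB ℓ y := by
  simp only [Dfun, T_add, map_add]

lemma Dfun_mul (x y : B) : Dfun hB ℓ (x * y) = x • Dfun hB ℓ y + y • Dfun hB ℓ x := by
  have hx : ∀ (z : B) (v : ResidueField B),
      z • v = algebraMap k (ResidueField B) (cst hB z) * v := by
    intro z v
    rw [Algebra.smul_def, ResidueField.algebraMap_eq, cst_spec]
  simp only [Dfun, toCot_T_mul, map_add, map_smul, smul_eq_mul, map_mul, hx]

include hle in
lemma cst_algebraMap_A (a : A) : cst hB (algebraMap A B a) = cst hA a := by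
  apply hB.1
  rw [cst_spec]
  have h1 : algebraMap A B a - algebraMap k B (cst hA a) ∈ maximalIdeal B := by
    have h2 := hle (sub_cst_mem hA a)
    rw [Ideal.mem_comap, IsScalarTower.toAlgHom_apply, map_sub,
      ← IsScalarTower.algebraMap_apply] at h2
    exact h2
  rw [← residue_eq_zero_iff, map_sub, residue_algebraMap, sub_eq_zero] at h1
  exact h1

include hle hA hℓ in
lemma Dfun_algebraMap (a : A) : Dfun hB ℓ (algebraMap A B a) = 0 := by
  have h1 : T hB (algebraMap A B a) =
      ⟨IsScalarTower.toAlgHom k A B (T hA a).1, hle (T hA a).2⟩ := by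
    apply Subtype.ext
    simp only [T, cst_algebraMap_A hle hA hB, IsScalarTower.toAlgHom_apply, map_sub,
      ← IsScalarTower.algebraMap_apply]
  have h2 : (maximalIdeal B).toCotangent (T hB (algebraMap A B a)) ∈
      LinearMap.range (Ideal.mapCotangent (maximalIdeal A) (maximalIdeal B)
        (IsScalarTower.toAlgHom k A B) hle) := by
    rw [h1]
    exact ⟨(maximalIdeal A).toCotangent (T hA a), Ideal.mapCotangent_toCotangent _ _ _ _ _⟩
  have h3 := hℓ h2
  rw [LinearMap.mem_ker] at h3
  simp only [Dfun, h3, map_zero]

noncomputable def Dl : Derivation A B (ResidueField B) :=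
  Derivation.mk'
    { toFun := Dfun hB ℓ
      map_add' := Dfun_add hB ℓ
      map_smul' := fun a b => by
        rw [RingHom.id_apply, Algebra.smul_def, Dfun_mul, Dfun_algebraMap hle hA hB ℓ hℓ,
          smul_zero, add_zero, algebraMap_smul] }
    (fun x y => Dfun_mul hB ℓ x y)

lemma key_eval (x : maximalIdeal B) :
    (LinearMap.liftBaseChange (ResidueField B) (Dl hle hA hB ℓ hℓ).liftKaehlerDifferential)
      ((1 : ResidueField B) ⊗ₜ[B] KaehlerDifferential.D A B x.1) =
      algebraMap k (ResidueField B) (ℓ ((maximalIdeal B).toCotangent x)) := by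
  rw [LinearMap.liftBaseChange_tmul, one_smul, Derivation.liftKaehlerDifferential_comp_D]
  show Dfun hB ℓ x.1 = _
  rw [Dfun, T_of_mem hB x.2]

variable (k A B) in
noncomputable def gmap : maximalIdeal B →ₗ[k] (ResidueField B) ⊗[B] Ω[B⁄A] where
  toFun x := (1 : ResidueField B) ⊗ₜ[B] KaehlerDifferential.D A B x.1
  map_add' x y := by rw [Submodule.coe_add, map_add, tmul_add]
  map_smul' c x := by
    rw [RingHom.id_apply, Submodule.coe_smul_of_tower, Algebra.smul_def, Derivation.leibniz,
      IsScalarTower.algebraMap_apply k A B, Derivation.map_algebraMap, smul_zero, add_zero,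
      ← smul_tmul, algebraMap_smul, algebraMap_smul, smul_tmul']

lemma gmap_apply (x : maximalIdeal B) :
    gmap k A B x = (1 : ResidueField B) ⊗ₜ[B] KaehlerDifferential.D A B x.1 := rfl

include hB in
lemma gmap_surj : Function.Surjective (gmap k A B) := by
  have key : ∀ ω : Ω[B⁄A], ∃ x : maximalIdeal B,
      gmap k A B x = (1 : ResidueField B) ⊗ₜ[B] ω := by
    intro ω
    have hω : ω ∈ Submodule.span B (Set.range (KaehlerDifferential.D A B)) := by
      rw [KaehlerDifferential.span_range_derivation]; trivial
    induction hω using Submodule.span_induction with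
    | mem w hw =>
      obtain ⟨b, rfl⟩ := hw
      refine ⟨T hB b, ?_⟩
      rw [gmap_apply]
      have : (T hB b).1 = b - algebraMap A B (algebraMap k A (cst hB b)) := by
        rw [← IsScalarTower.algebraMap_apply]; rfl
      rw [this, map_sub, Derivation.map_algebraMap, sub_zero]
    | zero => exact ⟨0, by rw [map_zero, tmul_zero]⟩
    | add w1 w2 _ _ h1 h2 =>
      obtain ⟨x1, h1⟩ := h1
      obtain ⟨x2, h2⟩ := h2
      exact ⟨x1 + x2, by rw [map_add, h1, h2, tmul_add]⟩
    | smul b w _ h =>
      obtain ⟨x, h⟩ := h
      refine ⟨cst hB b • x, ?_⟩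
      rw [map_smul, h, smul_tmul', ← smul_tmul]
      congr 1
      rw [Algebra.smul_def, mul_one, cst_spec, Algebra.smul_def, mul_one,
        ResidueField.algebraMap_eq]
  intro v
  induction v using TensorProduct.induction_on with
  | zero => exact ⟨0, map_zero _⟩
  | tmul a ω =>
    obtain ⟨a', rfl⟩ := residue_surjective a
    obtain ⟨x, hx⟩ := key (a' • ω)
    refine ⟨x, ?_⟩
    rw [hx, ← smul_tmul]
    congr 1
    rw [Algebra.smul_def, mul_one, ResidueField.algebraMap_eq]
  | add v1 v2 h1 h2 =>
    obtain ⟨x1, h1⟩ := h1
    obtain ⟨x2, h2⟩ := h2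
    exact ⟨x1 + x2, by rw [map_add, h1, h2]⟩

end der

/-- Let k be a field and A → B a local homomorphism of Noetherian local k-algebras with residue fields k
(k → A/m_A and k → B/m_B bijective) — for instance the local rings at a closed point x and at its
image y under a morphism of schemes of finite type over an algebraically closed k. Then dim_k
(Ω_{B/A} ⊗_B B/m_B) + rank(m_A/m_A² → m_B/m_B²) = dim_k (m_B/m_B²): the fibre at x of the sheaf of
relative differentials is dual to the kernel of the tangent map T_x X → T_y Y. (The published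
statement is the canonical isomorphism (Ω_{X/Y})_(x)^∨ ≅ ker(df_x); stated here as the resulting
equality of dimensions. Its second assertion, dim (Ω_{X/Y})_(x) ≥ r when the fibre has an
r-dimensional component through x, is not included.) -/
theorem result (k : Type u) [Field k]
    (A B : Type u) [CommRing A] [CommRing B] [IsLocalRing A] [IsLocalRing B] [IsNoetherianRing A] [IsNoetherianRing B]
    [Algebra k A] [Algebra k B] [Algebra A B] [IsScalarTower k A B]
    (hle : IsLocalRing.maximalIdeal A ≤ Ideal.comap (IsScalarTower.toAlgHom k A B) (IsLocalRing.maximalIdeal B))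
    (hA : Function.Bijective (algebraMap k (IsLocalRing.ResidueField A)))
    (hB : Function.Bijective (algebraMap k (IsLocalRing.ResidueField B))) :
    Module.finrank (IsLocalRing.ResidueField B) (TensorProduct B (IsLocalRing.ResidueField B) (Ω[B⁄A])) +
      Module.finrank k ↥(LinearMap.range (Ideal.mapCotangent (IsLocalRing.maximalIdeal A) (IsLocalRing.maximalIdeal B)
        (IsScalarTower.toAlgHom k A B) hle)) =
      Module.finrank k (IsLocalRing.CotangentSpace B) := by
  classical
  have hκ1 : Module.finrank k (IsLocalRing.ResidueField B) = 1 := by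
    rw [← (LinearEquiv.ofBijective (Algebra.linearMap k (IsLocalRing.ResidueField B)) hB).finrank_eq,
      Module.finrank_self]
  have h4 : Module.finrank (IsLocalRing.ResidueField B)
      (TensorProduct B (IsLocalRing.ResidueField B) (Ω[B⁄A])) =
      Module.finrank k (TensorProduct B (IsLocalRing.ResidueField B) (Ω[B⁄A])) := by
    have := Module.finrank_mul_finrank k (IsLocalRing.ResidueField B)
      (TensorProduct B (IsLocalRing.ResidueField B) (Ω[B⁄A]))
    rw [hκ1, one_mul] at this
    exact this
  rw [h4]
  have hfinW : Module.Finite k (IsLocalRing.CotangentSpace B) := by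
    haveI : Module.Finite B (IsLocalRing.CotangentSpace B) :=
      Module.Finite.of_surjective (IsLocalRing.maximalIdeal B).toCotangent
        (IsLocalRing.maximalIdeal B).toCotangent_surjective
    obtain ⟨s, hs⟩ := (Module.Finite.fg_top :
      (⊤ : Submodule B (IsLocalRing.CotangentSpace B)).FG)
    refine ⟨⟨s, ?_⟩⟩
    rw [eq_top_iff]
    intro w hw0
    clear hw0
    have hw : w ∈ Submodule.span B (s : Set (IsLocalRing.CotangentSpace B)) := by
      rw [hs]; trivial
    induction hw using Submodule.span_induction with
    | mem x hx => exact Submodule.subset_span hx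
    | zero => exact zero_mem _
    | add x y _ _ hx hy => exact add_mem hx hy
    | smul b x _ hx =>
      have hbx : b • x = cst hB b • x := by
        have h1 : b = (T hB b).1 + algebraMap k B (cst hB b) := by simp [T]
        conv_lhs => rw [h1]
        rw [add_smul, Ideal.Cotangent.smul_eq_zero_of_mem (T hB b).2, zero_add, algebraMap_smul]
      rw [hbx]
      exact Submodule.smul_mem _ _ hx
  let R : Submodule k (IsLocalRing.CotangentSpace B) :=
    LinearMap.range (Ideal.mapCotangent (IsLocalRing.maximalIdeal A) (IsLocalRing.maximalIdeal B)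
        (IsScalarTower.toAlgHom k A B) hle)
  let tc : IsLocalRing.maximalIdeal B →ₗ[k] IsLocalRing.CotangentSpace B :=
    (IsLocalRing.maximalIdeal B).toCotangent.restrictScalars k
  have htc : Function.Surjective tc := (IsLocalRing.maximalIdeal B).toCotangent_surjective
  have hgsurj : Function.Surjective (gmap k A B) := gmap_surj hB
  have hker : LinearMap.ker (gmap k A B) = R.comap tc := by
    ext x
    rw [LinearMap.mem_ker, Submodule.mem_comap]
    constructor
    · intro hx
      by_contra hnot
      obtain ⟨ℓ, hℓx, hℓR⟩ := Submodule.exists_le_ker_of_notMem hnot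
      have hke := key_eval hle hA hB ℓ hℓR x
      rw [gmap_apply] at hx
      rw [hx, map_zero] at hke
      apply hℓx
      apply hB.1
      rw [map_zero]
      exact hke.symm
    · rintro ⟨w, hw⟩
      obtain ⟨y, rfl⟩ := (IsLocalRing.maximalIdeal A).toCotangent_surjective w
      have h1 : (IsLocalRing.maximalIdeal B).toCotangent
          ⟨IsScalarTower.toAlgHom k A B y.1, hle y.2⟩ =
          (IsLocalRing.maximalIdeal B).toCotangent x := hw
      rw [Ideal.toCotangent_eq] at h1
      have h2 := one_tmul_D_sq (A := A) h1
      rw [gmap_apply]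
      simp only [map_sub, IsScalarTower.toAlgHom_apply, Derivation.map_algebraMap, zero_sub,
        TensorProduct.tmul_neg, neg_eq_zero] at h2
      exact h2
  let q : IsLocalRing.maximalIdeal B →ₗ[k] (IsLocalRing.CotangentSpace B ⧸ R) := R.mkQ ∘ₗ tc
  have hq : Function.Surjective q := (Submodule.mkQ_surjective R).comp htc
  have hkerq : LinearMap.ker q = R.comap tc := by
    rw [LinearMap.ker_comp, Submodule.ker_mkQ]
  have e : (TensorProduct B (IsLocalRing.ResidueField B) (Ω[B⁄A])) ≃ₗ[k]
      (IsLocalRing.CotangentSpace B ⧸ R) :=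
    ((LinearMap.quotKerEquivOfSurjective (gmap k A B) hgsurj).symm.trans
      (Submodule.quotEquivOfEq _ _ (hker.trans hkerq.symm))).trans
      (LinearMap.quotKerEquivOfSurjective q hq)
  rw [e.finrank_eq]
  exact Submodule.finrank_quotient_add_finrank R

end Groth.Agent.S14437
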