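import Groth.Statements.S14442
-- import your own Groth.Agent.* helpers here
import Mathlib

set_option autoImplicit false
universe u
open GrNak

namespace Groth.Agent.S14442

/-- Let R be a commutative ℕ-graded ring with irrelevant ideal R_+ = ⊕_{i>0} R_i, M an ℕ-graded R-module
and N a graded submodule of M (closed under taking homogeneous components). If M = R_+ M + N then N
= M. (The published statement is for finitely generated ℤ-graded modules over a graded quotient of a
polynomial ring, whose degrees are then bounded below; stated here for non-negatively graded modules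
over any ℕ-graded commutative ring, where the same lowest-degree argument applies without finite
generation.) -/
theorem result {R : Type u} [CommRing R] {σ : Type u} [SetLike σ R] [AddSubmonoidClass σ R]
    (𝒜 : ℕ → σ) [GradedRing 𝒜]
    {M : Type u} [AddCommGroup M] [Module R M] {τ : Type u} [SetLike τ M] [AddSubmonoidClass τ M]
    (ℳ : ℕ → τ) [DirectSum.Decomposition ℳ] [SetLike.GradedSMul 𝒜 ℳ]
    (N : Submodule R M) (hN : ∀ x ∈ N, ∀ i : ℕ, (DirectSum.decompose ℳ x i : M) ∈ N)
    (h : (HomogeneousIdeal.irrelevant 𝒜).toIdeal • (⊤ : Submodule R M) ⊔ N = ⊤) :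
    N = ⊤ := by
  classical
  have key : ∀ d : ℕ, ∀ m : M, m ∈ ℳ d → m ∈ N := by
    intro d
    induction d using Nat.strong_induction_on with
    | _ d ih =>
      intro m hm
      let πd : M →+ M := (AddSubmonoidClass.subtype (ℳ d)).comp
        ((DFinsupp.evalAddMonoidHom d).comp (DirectSum.decomposeAddEquiv ℳ).toAddMonoidHom)
      have hπ : ∀ x, πd x = (DirectSum.decompose ℳ x d : M) := fun x => rfl
      have hmtop : m ∈ (HomogeneousIdeal.irrelevant 𝒜).toIdeal • (⊤ : Submodule R M) ⊔ N := by
        rw [h]; trivial
      have claim : ∀ x ∈ (HomogeneousIdeal.irrelevant 𝒜).toIdeal • (⊤ : Submodule R M) ⊔ N,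
          πd x ∈ N := by
        intro x hx
        rw [Submodule.mem_sup] at hx
        obtain ⟨y, hy, z, hz, rfl⟩ := hx
        rw [map_add]
        refine N.add_mem ?_ (hN z hz d)
        refine Submodule.smul_induction_on hy ?_ ?_
        · intro a ha m' _
          have ha0 : (DirectSum.decompose 𝒜 a 0 : R) = 0 :=
            (HomogeneousIdeal.mem_irrelevant_iff 𝒜 a).1 ha
          have e1 : a • m' = ∑ i ∈ (DirectSum.decompose 𝒜 a).support,
              ∑ j ∈ (DirectSum.decompose ℳ m').support,
                (DirectSum.decompose 𝒜 a i : R) • (DirectSum.decompose ℳ m' j : M) := by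
            conv_lhs => rw [← DirectSum.sum_support_decompose 𝒜 a, ← DirectSum.sum_support_decompose ℳ m']
            rw [Finset.sum_smul]
            refine Finset.sum_congr rfl fun i _ => ?_
            rw [Finset.smul_sum]
          rw [e1, map_sum]
          refine N.sum_mem fun i _ => ?_
          rw [map_sum]
          refine N.sum_mem fun j _ => ?_
          have hmem : (DirectSum.decompose 𝒜 a i : R) • (DirectSum.decompose ℳ m' j : M) ∈ ℳ (i + j) :=
            SetLike.GradedSMul.smul_mem (A := 𝒜) (B := ℳ) (i := i) (j := j)
              (SetLike.coe_mem _) (SetLike.coe_mem _)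
          by_cases hij : i + j = d
          · rw [hπ, ← hij, DirectSum.decompose_of_mem_same ℳ hmem]
            by_cases hi0 : i = 0
            · subst hi0
              rw [ha0, zero_smul]; exact N.zero_mem
            · have hjd : j < d := by omega
              exact N.smul_mem _ (ih j hjd _ (SetLike.coe_mem _))
          · rw [hπ, DirectSum.decompose_of_mem_ne ℳ hmem hij]; exact N.zero_mem
        · intro y1 y2 h1 h2
          rw [map_add]; exact N.add_mem h1 h2
      have h3 := claim m hmtop
      rwa [hπ, DirectSum.decompose_of_mem_same ℳ hm] at h3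
  rw [eq_top_iff]
  intro x _
  rw [← DirectSum.sum_support_decompose ℳ x]
  exact N.sum_mem fun i _ => key i _ (SetLike.coe_mem _)

end Groth.Agent.S14442
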