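import Groth.Statements.S14446
import Mathlib
import Groth.Agent.S11724
import Groth.Agent.Lib.helper3.FibEquiv2
import Groth.Agent.Lib.helper3.FibGrpd


set_option autoImplicit false
open CategoryTheory
universe v₂ u₂ v₃ u₃ v u
open Stk

namespace Groth.Agent.S14446

section helpers

universe v₄ u₄ v₅ u₅

variable {C : Type u} [Category.{v} C]

/-- postcomposition functor (universe polymorphic) -/
def pc (𝒜 : BasedCategory.{v₄, u₄} C) {𝒳 : BasedCategory.{v₂, u₂} C}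
    {𝒴 : BasedCategory.{v₃, u₃} C} (F : 𝒳 ⥤ᵇ 𝒴) : (𝒜 ⥤ᵇ 𝒳) ⥤ (𝒜 ⥤ᵇ 𝒴) where
  obj G := BasedFunctor.comp G F
  map α := BasedCategory.whiskerRight α F
  map_id G := by
    apply BasedNatTrans.homCategory.ext
    ext a
    exact F.toFunctor.map_id _
  map_comp α β := by
    apply BasedNatTrans.homCategory.ext
    ext a
    exact F.toFunctor.map_comp _ _

lemma pc_faithful (𝒜 : BasedCategory.{v₄, u₄} C) {𝒳 : BasedCategory.{v₂, u₂} C}
    {𝒴 : BasedCategory.{v₃, u₃} C} (F : 𝒳 ⥤ᵇ 𝒴) [F.toFunctor.Faithful] :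
    (pc 𝒜 F).Faithful := by
  refine ⟨fun {G H} α β h => ?_⟩
  apply BasedNatTrans.homCategory.ext
  ext a
  apply F.toFunctor.map_injective
  exact congrArg (fun γ => γ.toNatTrans.app a) h

lemma pc_full (𝒜 : BasedCategory.{v₄, u₄} C) {𝒳 : BasedCategory.{v₂, u₂} C}
    {𝒴 : BasedCategory.{v₃, u₃} C} (F : 𝒳 ⥤ᵇ 𝒴) [F.toFunctor.Full] [F.toFunctor.Faithful] :
    (pc 𝒜 F).Full := by
  refine ⟨fun {G H} γ => ?_⟩
  refine ⟨{ toNatTrans := { app := fun a => F.toFunctor.preimage (γ.toNatTrans.app a),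
                            naturality := ?_ },
            isHomLift' := ?_ }, ?_⟩
  · intro a b f
    apply F.toFunctor.map_injective
    simp only [Functor.map_comp, Functor.map_preimage]
    exact γ.toNatTrans.naturality f
  · intro a
    haveI : 𝒴.p.IsHomLift (𝟙 (𝒜.p.obj a))
        (F.toFunctor.map (F.toFunctor.preimage (γ.toNatTrans.app a))) := by
      rw [Functor.map_preimage]; exact γ.isHomLift' a
    exact F.isHomLift_map (𝟙 (𝒜.p.obj a)) _
  · apply BasedNatTrans.homCategory.ext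
    ext a
    exact F.toFunctor.map_preimage _

/-- restriction commutes with postcomposition -/
def sq_iso' {𝒜 : BasedCategory.{v₄, u₄} C} {ℬ : BasedCategory.{v₅, u₅} C}
    {𝒳 : BasedCategory.{v₂, u₂} C} {𝒴 : BasedCategory.{v₃, u₃} C} (ι : 𝒜 ⥤ᵇ ℬ) (F : 𝒳 ⥤ᵇ 𝒴) :
    Stk.restr ι 𝒳 ⋙ pc 𝒜 F ≅ pc ℬ F ⋙ Stk.restr ι 𝒴 :=
  NatIso.ofComponents (fun G => Iso.refl _) (fun {G H} α => by
    dsimp only [Iso.refl_hom]
    erw [Category.comp_id, Category.id_comp]
    rfl)

lemma fibgrpd_of_ff' {𝒳 : BasedCategory.{v₂, u₂} C} {𝒴 : BasedCategory.{v₃, u₃} C}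
    [𝒳.p.IsFibered] (G : 𝒳 ⥤ᵇ 𝒴) [G.toFunctor.Full] [G.toFunctor.Faithful]
    (h𝒴g : FibCat.IsFibGrpd 𝒴.p) : FibCat.IsFibGrpd 𝒳.p := by
  refine ⟨?_, ?_⟩
  · intro x V f
    obtain ⟨y, φ, hφ⟩ := Functor.IsPreFibered.exists_isCartesian' (p := 𝒳.p) f
    exact ⟨y, φ, hφ.toIsHomLift⟩
  · intro y x φ
    refine { toIsHomLift := inferInstance, universal_property' := ?_ }
    intro a' g φ' hφ'
    have hsc := h𝒴g.isStronglyCartesian (G.toFunctor.map φ)
    have hl : 𝒴.p.IsHomLift (𝒳.p.map φ) (G.toFunctor.map φ) := inferInstance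
    haveI hsc' : 𝒴.p.IsStronglyCartesian (𝒳.p.map φ) (G.toFunctor.map φ) :=
      Groth.Agent.S11724.sc_of_map 𝒴.p _ _ hl hsc
    haveI hl' : 𝒴.p.IsHomLift (g ≫ 𝒳.p.map φ) (G.toFunctor.map φ') := inferInstance
    obtain ⟨χ, hχ⟩ := G.toFunctor.map_surjective
      (Functor.IsStronglyCartesian.map 𝒴.p (𝒳.p.map φ) (G.toFunctor.map φ) (g := g) rfl
        (G.toFunctor.map φ'))
    have hχl' : 𝒴.p.IsHomLift g (G.toFunctor.map χ) := by rw [hχ]; infer_instance
    have hχl : 𝒳.p.IsHomLift g χ := G.isHomLift_map g χ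
    have hχc : χ ≫ φ = φ' := by
      apply G.toFunctor.map_injective
      rw [Functor.map_comp, hχ]
      exact Functor.IsStronglyCartesian.fac 𝒴.p (𝒳.p.map φ) (G.toFunctor.map φ) rfl
        (G.toFunctor.map φ')
    refine ⟨χ, ⟨hχl, hχc⟩, ?_⟩
    rintro χ₂ ⟨hχ₂l, hχ₂c⟩
    apply G.toFunctor.map_injective
    rw [hχ]
    haveI : 𝒴.p.IsHomLift g (G.toFunctor.map χ₂) := inferInstance
    exact Functor.IsStronglyCartesian.map_uniq 𝒴.p (𝒳.p.map φ) (G.toFunctor.map φ) rfl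
      (G.toFunctor.map φ') (G.toFunctor.map χ₂) (by rw [← Functor.map_comp, hχ₂c])

lemma prestack_of_equiv (J : GrothendieckTopology C) {𝒳 : BasedCategory.{v₂, u₂} C}
    {𝒴 : BasedCategory.{v₃, u₃} C} (F : 𝒳 ⥤ᵇ 𝒴) (hF : FibCat.IsEquivOver F)
    (h : Stk.IsPrestack J 𝒴) : Stk.IsPrestack J 𝒳 := by
  obtain ⟨hg, hs⟩ := h
  haveI := Groth.Agent.Helper3.isEquivalence_of_isEquivOver F hF
  haveI : 𝒴.p.IsFibered := Groth.Agent.Helper3.IsFibGrpd.isFibered (hp := hg) 𝒴.p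
  haveI : 𝒳.p.IsFibered :=
    (Groth.Agent.Helper3.isFibered_iff_of_isEquivOver F hF).mpr inferInstance
  refine ⟨fibgrpd_of_ff' F hg, ?_⟩
  intro U R hR
  obtain ⟨hfull, hfaith⟩ := hs R hR
  haveI := pc_full (Stk.sieveCat R) F
  haveI := pc_faithful (Stk.sieveCat R) F
  haveI := pc_full (FibCat.overCat U) F
  haveI := pc_faithful (FibCat.overCat U) F
  haveI : (pc (FibCat.overCat U) F ⋙ Stk.resSieve R 𝒴).Full := inferInstance
  haveI : (pc (FibCat.overCat U) F ⋙ Stk.resSieve R 𝒴).Faithful := inferInstance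
  haveI : (Stk.resSieve R 𝒳 ⋙ pc (Stk.sieveCat R) F).Full :=
    Functor.Full.of_iso (sq_iso' (Stk.sieveIncl R) F).symm
  haveI : (Stk.resSieve R 𝒳 ⋙ pc (Stk.sieveCat R) F).Faithful :=
    Functor.Faithful.of_iso (sq_iso' (Stk.sieveIncl R) F).symm
  exact ⟨Functor.Full.of_comp_faithful (Stk.resSieve R 𝒳) (pc (Stk.sieveCat R) F),
    Functor.Faithful.of_comp (Stk.resSieve R 𝒳) (pc (Stk.sieveCat R) F)⟩

end helpers


/-- Let C be a category with a Grothendieck topology J and 𝒳, 𝒴 categories over C which are equivalent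
in the 2-category of categories over C. Then 𝒳 is a prestack in groupoids for J — fibred in
groupoids, with restriction from functors C/U → 𝒳 over C to functors R → 𝒳 over C fully faithful for
every covering sieve R on every object U — if and only if 𝒴 is. (The published statement concerns
fibred categories in general; this row is its case for categories fibred in groupoids, with the
prestack condition in sieve form.) -/
theorem result {C : Type u} [Category.{v} C] (J : GrothendieckTopology C)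
    {𝒳 : BasedCategory.{v₂, u₂} C} {𝒴 : BasedCategory.{v₃, u₃} C} (F : 𝒳 ⥤ᵇ 𝒴) (hF : FibCat.IsEquivOver F) :
    Stk.IsPrestack J 𝒳 ↔ Stk.IsPrestack J 𝒴 := by
  constructor
  · intro h
    obtain ⟨G, hG⟩ := Groth.Agent.Helper3.isEquivOver_symm F hF
    exact prestack_of_equiv J G hG h
  · exact prestack_of_equiv J F hF

end Groth.Agent.S14446
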