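import Groth.Statements.S14447
-- import your own Groth.Agent.* helpers here
import Mathlib

set_option autoImplicit false
universe w v u
open AlgGrp

namespace Groth.Agent.S14447

open CategoryTheory CategoryTheory.Limits in
/-- Let C be a category with finite products and with all coproducts indexed by sets, and assume that
for every set I and every object U the canonical arrow ∐_{i∈I} U → (∐_{i∈I} pt) × U, whose i-th
component pairs U → pt → ∐_{i∈I} pt (i-th coprojection) with the identity of U, is an isomorphism.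
Then the discrete-object functor from sets to C, I ↦ ∐_{i∈I} pt, preserves finite products. (Sets
are the types of one fixed universe, the one indexing the coproducts. The published statement asks
only for the coproducts of copies of one object; this row assumes that C has all coproducts indexed
by sets, which Mathlib's discrete-object functor sigmaConst requires.) -/
theorem result {C : Type u} [Category.{v} C]
    [HasFiniteProducts C] [HasCoproducts.{w} C]
    (h : ∀ (I : Type w) (U : C), IsIso (Sigma.desc fun i : I =>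
      prod.lift (terminal.from U ≫ Sigma.ι (fun _ : I => ⊤_ C) i) (𝟙 U))) :
    PreservesFiniteProducts (sigmaConst.{w}.obj (⊤_ C)) := by
  classical
  let F : Type w ⥤ C := sigmaConst.{w}.obj (⊤_ C)
  have hbin : ∀ X Y : Type w, PreservesLimit (pair X Y) F := by
    intro X Y
    haveI hΦ : IsIso (Sigma.desc fun i : X =>
        prod.lift (terminal.from (∐ fun _ : Y => ⊤_ C) ≫ Sigma.ι (fun _ : X => ⊤_ C) i)
          (𝟙 (∐ fun _ : Y => ⊤_ C))) := h X (∐ fun _ : Y => ⊤_ C)
    let Ψ : (∐ fun _ : X × Y => ⊤_ C) ⟶ ∐ fun _ : X => (∐ fun _ : Y => ⊤_ C) :=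
      Sigma.desc fun p => Sigma.ι (fun _ : Y => ⊤_ C) p.2 ≫
        Sigma.ι (fun _ : X => (∐ fun _ : Y => ⊤_ C)) p.1
    let Ψ' : (∐ fun _ : X => (∐ fun _ : Y => ⊤_ C)) ⟶ ∐ fun _ : X × Y => ⊤_ C :=
      Sigma.desc fun x => Sigma.desc fun y => Sigma.ι (fun _ : X × Y => ⊤_ C) (x, y)
    haveI hΨ : IsIso Ψ := ⟨Ψ', by
      constructor
      · apply Sigma.hom_ext; intro p; simp [Ψ, Ψ']
      · apply Sigma.hom_ext; intro x; apply Sigma.hom_ext; intro y; simp [Ψ, Ψ']⟩
    have hcomp : prod.lift (F.map (TypeCat.ofHom (Prod.fst : X × Y → X)))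
        (F.map (TypeCat.ofHom (Prod.snd : X × Y → Y))) = Ψ ≫ (Sigma.desc fun i : X =>
        prod.lift (terminal.from (∐ fun _ : Y => ⊤_ C) ≫ Sigma.ι (fun _ : X => ⊤_ C) i)
          (𝟙 (∐ fun _ : Y => ⊤_ C))) := by
      apply Limits.prod.hom_ext
      · rw [prod.lift_fst]
        apply Sigma.hom_ext
        intro p
        have h1 : Sigma.ι (fun _ : Y => ⊤_ C) p.2 ≫ terminal.from (∐ fun _ : Y => ⊤_ C)
            = 𝟙 (⊤_ C) := Subsingleton.elim _ _
        have e1 : Sigma.ι (fun _ : X × Y => ⊤_ C) p ≫ F.map (TypeCat.ofHom Prod.fst)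
            = Sigma.ι (fun _ : X => ⊤_ C) p.1 := by simp [F]
        rw [e1]
        simp only [Ψ, Category.assoc, colimit.ι_desc_assoc, Cofan.mk_ι_app]
        erw [prod.lift_fst]
        rw [reassoc_of% h1]
      · rw [prod.lift_snd]
        apply Sigma.hom_ext
        intro p
        have e1 : Sigma.ι (fun _ : X × Y => ⊤_ C) p ≫ F.map (TypeCat.ofHom Prod.snd)
            = Sigma.ι (fun _ : Y => ⊤_ C) p.2 := by simp [F]
        rw [e1]
        simp only [Ψ, Category.assoc, colimit.ι_desc_assoc, Cofan.mk_ι_app]
        erw [prod.lift_snd]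
        rw [Category.comp_id]
    apply preservesLimit_of_preserves_limit_cone (Types.binaryProductLimit X Y)
    apply (isLimitMapConeBinaryFanEquiv F _ _).symm _
    refine @IsLimit.ofPointIso _ _ _ _ _ _ _ (limit.isLimit (pair (F.obj X) (F.obj Y))) ?_
    show IsIso (prod.lift (F.map (TypeCat.ofHom (Prod.fst : X × Y → X)))
        (F.map (TypeCat.ofHom (Prod.snd : X × Y → Y))))
    rw [hcomp]
    infer_instance
  haveI : PreservesLimitsOfShape (Discrete WalkingPair) F :=
    ⟨fun {K} => by
      haveI := hbin (K.obj ⟨WalkingPair.left⟩) (K.obj ⟨WalkingPair.right⟩)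
      exact preservesLimit_of_iso_diagram F (diagramIsoPair K).symm⟩
  haveI : PreservesLimit (Functor.empty.{0} (Type w)) F := by
    haveI : Unique (⊤_ (Type w) : Type w) := (Types.terminalIso.{w}.toEquiv).unique
    exact preservesTerminal_of_iso F (coproductUniqueIso (fun _ : (⊤_ (Type w) : Type w) => ⊤_ C))
  haveI : PreservesLimitsOfShape (Discrete PEmpty.{1}) F :=
    preservesLimitsOfShape_pempty_of_preservesTerminal F
  exact PreservesFiniteProducts.of_preserves_binary_and_terminal F

end Groth.Agent.S14447
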