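import Groth.Statements.S14456
-- import your own Groth.Agent.* helpers here
import Mathlib

set_option autoImplicit false
universe u
open CAlg

namespace Groth.Agent.S14456

open TensorProduct

lemma finite_tensor_left (A B M N : Type u) [CommRing A] [CommRing B] [Algebra A B]
    [AddCommGroup M] [Module A M] [Module B M] [IsScalarTower A B M] [AddCommGroup N] [Module A N]
    [Module.Finite B M] [Module.Finite A N] : Module.Finite B (M ⊗[A] N) := by
  classical
  obtain ⟨k, π, hπ⟩ := Module.Finite.exists_fin' A N
  let g : (Fin k → M) →ₗ[B] M ⊗[A] N :=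
    (TensorProduct.AlgebraTensorModule.lTensor B M π) ∘ₗ
      (TensorProduct.piScalarRight A B M (Fin k)).symm.toLinearMap
  refine Module.Finite.of_surjective g ?_
  have h1 : Function.Surjective (TensorProduct.AlgebraTensorModule.lTensor B M π) := by
    rw [TensorProduct.AlgebraTensorModule.coe_lTensor]
    exact LinearMap.lTensor_surjective M hπ
  exact h1.comp (LinearEquiv.surjective _)

/-- Take a local homomorphism A → B between Noetherian local rings, M a finitely generated B-module and
f an element of the maximal ideal of B. If M/f^(n+1)M is flat over A for every n ≥ 0, then M is flat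
over A. -/
theorem result {A B : Type u} [CommRing A] [CommRing B]
    [IsNoetherianRing A] [IsNoetherianRing B] [IsLocalRing A] [IsLocalRing B] [Algebra A B]
    [IsLocalHom (algebraMap A B)] (M : Type u) [AddCommGroup M] [Module B M] [Module A M]
    [IsScalarTower A B M] [Module.Finite B M] (f : B) (hf : f ∈ IsLocalRing.maximalIdeal B)
    (hflat : ∀ n : ℕ, Module.Flat A (M ⧸ (Ideal.span {f ^ (n + 1)} • (⊤ : Submodule B M)))) :
    Module.Flat A M := by
  rw [Module.Flat.iff_lTensor_injective']
  intro I
  rw [injective_iff_map_eq_zero]
  intro x hx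
  haveI : Module.Finite B (M ⊗[A] I) := finite_tensor_left A B M I
  have hle : Ideal.span {f} ≤ IsLocalRing.maximalIdeal B :=
    (Ideal.span_singleton_le_iff_mem _).2 hf
  have hne : Ideal.span {f} ≠ ⊤ := by
    intro h
    rw [h] at hle
    exact (IsLocalRing.maximalIdeal.isMaximal B).ne_top (top_le_iff.1 hle)
  have hkrull := Ideal.iInf_pow_smul_eq_bot_of_isLocalRing (M := M ⊗[A] I) (Ideal.span {f}) hne
  have hmem : x ∈ ⨅ i, Ideal.span {f} ^ i • (⊤ : Submodule B (M ⊗[A] I)) := by
    rw [Submodule.mem_iInf]
    intro k
    cases k with
    | zero =>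
      rw [pow_zero, Ideal.one_eq_top, Submodule.top_smul]
      trivial
    | succ k =>
      have hflatk : Function.Injective (LinearMap.lTensor
          (M ⧸ (Ideal.span {f ^ (k + 1)} • (⊤ : Submodule B M))) I.subtype) :=
        (Module.Flat.iff_lTensor_injective'.1 (hflat k)) I
      have hsq : (LinearMap.lTensor (M ⧸ (Ideal.span {f ^ (k + 1)} • (⊤ : Submodule B M)))
          (Submodule.subtype I)) ((LinearMap.rTensor I ((Submodule.mkQ
            (Ideal.span {f ^ (k + 1)} • (⊤ : Submodule B M))).restrictScalars A)) x) =
          (LinearMap.rTensor A ((Submodule.mkQ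
            (Ideal.span {f ^ (k + 1)} • (⊤ : Submodule B M))).restrictScalars A))
            ((LinearMap.lTensor M (Submodule.subtype I)) x) := by
        rw [← LinearMap.comp_apply, ← LinearMap.comp_apply, LinearMap.lTensor_comp_rTensor,
          LinearMap.rTensor_comp_lTensor]
      rw [hx, map_zero] at hsq
      have hqx : LinearMap.rTensor I ((Submodule.mkQ
          (Ideal.span {f ^ (k + 1)} • (⊤ : Submodule B M))).restrictScalars A) x = 0 :=
        hflatk (by rw [hsq, map_zero])
      have hex : Function.Exact
          ((Ideal.span {f ^ (k + 1)} • (⊤ : Submodule B M)).restrictScalars A).subtype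
          ((Submodule.mkQ (Ideal.span {f ^ (k + 1)} • (⊤ : Submodule B M))).restrictScalars A) := by
        intro y
        show Submodule.Quotient.mk y = 0 ↔ _
        rw [Submodule.Quotient.mk_eq_zero]
        constructor
        · intro hy; exact ⟨⟨y, hy⟩, rfl⟩
        · rintro ⟨z, rfl⟩; exact z.2
      have hex2 := rTensor_exact I hex
        (by intro z; exact Submodule.mkQ_surjective _ z)
      have hrange : ∀ y, LinearMap.rTensor I
          ((Ideal.span {f ^ (k + 1)} • (⊤ : Submodule B M)).restrictScalars A).subtype y ∈
          Ideal.span {f} ^ (k + 1) • (⊤ : Submodule B (M ⊗[A] I)) := by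
        intro y
        induction y using TensorProduct.induction_on with
        | zero => rw [map_zero]; exact Submodule.zero_mem _
        | tmul n i =>
          obtain ⟨n, hn⟩ := n
          rw [LinearMap.rTensor_tmul]
          have hn' : n ∈ Ideal.span {f ^ (k + 1)} • (⊤ : Submodule B M) := hn
          rw [Submodule.ideal_span_singleton_smul, Submodule.mem_smul_pointwise_iff_exists] at hn'
          obtain ⟨m', -, hm'⟩ := hn'
          show (n ⊗ₜ[A] i) ∈ _
          rw [← hm', ← TensorProduct.smul_tmul']
          exact Submodule.smul_mem_smul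
            (Ideal.pow_mem_pow (Ideal.mem_span_singleton_self f) _) trivial
        | add a b ha hb => rw [map_add]; exact Submodule.add_mem _ ha hb
      obtain ⟨y, hy⟩ := (hex2 x).1 hqx
      rw [← hy]
      exact hrange y
  rw [hkrull] at hmem
  exact (Submodule.mem_bot _).1 hmem

end Groth.Agent.S14456
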