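import Groth.Statements.S14457
-- import your own Groth.Agent.* helpers here
import Mathlib

set_option autoImplicit false
universe u
open CAlg

namespace Groth.Agent.S14457

open Polynomial

lemma etale_of_isUnit {A : Type u} [CommRing A] (f : A[X]) (hf : f.Monic)
    (hu : IsUnit (aeval (AdjoinRoot.root f) (derivative f))) :
    Algebra.Etale A (AdjoinRoot f) := by
  let P : StandardEtalePair A := ⟨f, hf, derivative f, ⟨1, 0, 1, by simp⟩⟩
  have hroot : aeval (AdjoinRoot.root f) f = 0 := by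
    rw [AdjoinRoot.aeval_eq, AdjoinRoot.mk_self]
  have hmap : P.HasMap (AdjoinRoot.root f) := ⟨hroot, hu⟩
  have hX : eval₂ (↑(Algebra.ofId A P.Ring) : A →+* P.Ring) P.X f = 0 := by
    have h := P.hasMap_X.1
    rwa [aeval_def] at h
  let φ : P.Ring →ₐ[A] AdjoinRoot f := P.lift _ hmap
  let ψ : AdjoinRoot f →ₐ[A] P.Ring := AdjoinRoot.liftAlgHom f (Algebra.ofId A P.Ring) P.X hX
  have h1 : ψ.comp φ = AlgHom.id A P.Ring := by
    apply P.hom_ext
    simp [φ, ψ]
  have h2 : φ.comp ψ = AlgHom.id A (AdjoinRoot f) := by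
    apply AdjoinRoot.algHom_ext
    simp [φ, ψ]
  exact Algebra.Etale.of_equiv (AlgEquiv.ofAlgHom φ ψ h2 h1)

lemma isUnit_of_unramified {A : Type u} [CommRing A] (f : A[X])
    [Algebra.FormallyUnramified A (AdjoinRoot f)] :
    IsUnit (aeval (AdjoinRoot.root f) (derivative f)) := by
  let J : Ideal (AdjoinRoot f) := Ideal.span {aeval (AdjoinRoot.root f) (derivative f)}
  let q : AdjoinRoot f →ₐ[A] (AdjoinRoot f ⧸ J) := Ideal.Quotient.mkₐ A J
  let φ₁ : AdjoinRoot f →ₐ[A] TrivSqZeroExt (AdjoinRoot f ⧸ J) (AdjoinRoot f ⧸ J) :=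
    (TrivSqZeroExt.inlAlgHom A (AdjoinRoot f ⧸ J) (AdjoinRoot f ⧸ J)).comp q
  have hroot : aeval (AdjoinRoot.root f) f = 0 := by
    rw [AdjoinRoot.aeval_eq, AdjoinRoot.mk_self]
  have hu0 : q (aeval (AdjoinRoot.root f) (derivative f)) = 0 :=
    Ideal.Quotient.eq_zero_iff_mem.mpr (Ideal.mem_span_singleton_self _)
  have hz : aeval (TrivSqZeroExt.inl (q (AdjoinRoot.root f)) + TrivSqZeroExt.inr (1 : AdjoinRoot f ⧸ J) :
      TrivSqZeroExt (AdjoinRoot f ⧸ J) (AdjoinRoot f ⧸ J)) f = 0 := by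
    rw [Polynomial.aeval_add_of_sq_eq_zero _ _ _ (by rw [sq, TrivSqZeroExt.inr_mul_inr])]
    have e1 : ∀ p : A[X], aeval (TrivSqZeroExt.inl (q (AdjoinRoot.root f)) :
        TrivSqZeroExt (AdjoinRoot f ⧸ J) (AdjoinRoot f ⧸ J)) p
        = φ₁ (aeval (AdjoinRoot.root f) p) := by
      intro p
      rw [← Polynomial.aeval_algHom_apply]
      rfl
    have e2 : φ₁ (aeval (AdjoinRoot.root f) (derivative f)) = 0 := by
      show TrivSqZeroExt.inl (q _) = 0
      rw [hu0, TrivSqZeroExt.inl_zero]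
    rw [e1, e1, hroot, map_zero, zero_add, e2, zero_mul]
  have hz' : eval₂ (↑(Algebra.ofId A (TrivSqZeroExt (AdjoinRoot f ⧸ J) (AdjoinRoot f ⧸ J))) :
      A →+* _) (TrivSqZeroExt.inl (q (AdjoinRoot.root f)) + TrivSqZeroExt.inr (1 : AdjoinRoot f ⧸ J)) f = 0 := by
    rw [aeval_def] at hz; exact hz
  let φ₂ : AdjoinRoot f →ₐ[A] TrivSqZeroExt (AdjoinRoot f ⧸ J) (AdjoinRoot f ⧸ J) :=
    AdjoinRoot.liftAlgHom f (Algebra.ofId A _) _ hz'
  have hnil : IsNilpotent (RingHom.ker ((TrivSqZeroExt.fstHom A (AdjoinRoot f ⧸ J)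
      (AdjoinRoot f ⧸ J) : TrivSqZeroExt (AdjoinRoot f ⧸ J) (AdjoinRoot f ⧸ J) →ₐ[A] _) :
      TrivSqZeroExt (AdjoinRoot f ⧸ J) (AdjoinRoot f ⧸ J) →+* (AdjoinRoot f ⧸ J))) := by
    refine ⟨2, ?_⟩
    rw [Ideal.zero_eq_bot, eq_bot_iff, show (2:ℕ) = 1 + 1 from rfl, Submodule.pow_succ,
      Submodule.pow_one, Submodule.mul_le]
    intro a ha b hb
    rw [RingHom.mem_ker] at ha hb
    have ha' : a.fst = 0 := ha
    have hb' : b.fst = 0 := hb
    rw [Ideal.mem_bot]
    apply TrivSqZeroExt.ext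
    · simp [TrivSqZeroExt.fst_mul, ha']
    · simp [TrivSqZeroExt.snd_mul, ha', hb']
  have heq : φ₁ = φ₂ := by
    apply Algebra.FormallyUnramified.ext' _ hnil φ₁ φ₂
    intro y
    have h3 : ((TrivSqZeroExt.fstHom A (AdjoinRoot f ⧸ J) (AdjoinRoot f ⧸ J)).comp φ₁)
        = ((TrivSqZeroExt.fstHom A (AdjoinRoot f ⧸ J) (AdjoinRoot f ⧸ J)).comp φ₂) := by
      apply AdjoinRoot.algHom_ext
      simp [φ₁, φ₂]
    exact AlgHom.congr_fun h3 y
  have h4 := AlgHom.congr_fun heq (AdjoinRoot.root f)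
  have h5 : (φ₂ (AdjoinRoot.root f)) = TrivSqZeroExt.inl (q (AdjoinRoot.root f))
      + TrivSqZeroExt.inr (1 : AdjoinRoot f ⧸ J) := AdjoinRoot.liftAlgHom_root _ _ _ _
  have h6 : (1 : AdjoinRoot f ⧸ J) = 0 := by
    have h := congrArg TrivSqZeroExt.snd h4
    rw [h5] at h
    simpa [φ₁] using h.symm
  have h7 : (1 : AdjoinRoot f) ∈ J :=
    Ideal.Quotient.eq_zero_iff_mem.mp (by rw [map_one]; exact h6)
  obtain ⟨c, hc⟩ := Ideal.mem_span_singleton'.mp h7
  exact IsUnit.of_mul_eq_one c (by rw [mul_comm]; exact hc)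

open Polynomial in
/-- Let A be a commutative ring, a an element of A and n ≥ 1 an integer. The A-algebra A[T]/(T^n − a) is
etale exactly when either n = 1 or the product n·a is a unit of A. (The exponent n is a positive
integer here; for n = 0 the quotient is (A/(1 − a))[T] and the equivalence fails.) -/
theorem result (A : Type u) [CommRing A] (a : A) (n : ℕ) (hn : 1 ≤ n) :
    Algebra.Etale A (AdjoinRoot ((X : A[X]) ^ n - C a)) ↔ n = 1 ∨ IsUnit ((n : A) * a) := by
  classical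
  have hn0 : n ≠ 0 := by omega
  have hmonic : ((X : A[X]) ^ n - C a).Monic := monic_X_pow_sub_C a hn0
  have hderiv : aeval (AdjoinRoot.root ((X : A[X]) ^ n - C a))
      (derivative ((X : A[X]) ^ n - C a))
      = (n : AdjoinRoot ((X : A[X]) ^ n - C a))
        * (AdjoinRoot.root ((X : A[X]) ^ n - C a)) ^ (n - 1) := by
    simp [derivative_X_pow]
  have hxn : (AdjoinRoot.root ((X : A[X]) ^ n - C a)) ^ n
      = algebraMap A (AdjoinRoot ((X : A[X]) ^ n - C a)) a := by
    have h := AdjoinRoot.eval₂_root ((X : A[X]) ^ n - C a)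
    simpa [sub_eq_zero] using h
  have hdesc : ∀ c : A, IsUnit (algebraMap A (AdjoinRoot ((X : A[X]) ^ n - C a)) c) →
      IsUnit c := by
    intro c hc
    rcases subsingleton_or_nontrivial A with hA | hA
    · exact isUnit_of_subsingleton c
    have h1 := Algebra.norm_algebraMap_of_basis (AdjoinRoot.powerBasis' hmonic).basis c
    have h2 : IsUnit (Algebra.norm A (algebraMap A (AdjoinRoot ((X : A[X]) ^ n - C a)) c)) :=
      hc.map (Algebra.norm A)
    rw [h1] at h2
    have hcard : Fintype.card (Fin (AdjoinRoot.powerBasis' hmonic).dim) ≠ 0 := by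
      rw [Fintype.card_fin, AdjoinRoot.powerBasis'_dim, natDegree_X_pow_sub_C]; exact hn0
    exact (isUnit_pow_iff hcard).mp h2
  constructor
  · intro hE
    haveI := hE
    have hu := isUnit_of_unramified ((X : A[X]) ^ n - C a)
    rw [hderiv] at hu
    by_cases h1 : n = 1
    · exact Or.inl h1
    · right
      have hn1 : n - 1 ≠ 0 := by omega
      obtain ⟨hun, hux⟩ := IsUnit.mul_iff.mp hu
      have hx : IsUnit (AdjoinRoot.root ((X : A[X]) ^ n - C a)) := (isUnit_pow_iff hn1).mp hux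
      apply hdesc
      rw [map_mul, map_natCast, ← hxn]
      exact hun.mul (hx.pow n)
  · rintro (h1 | h)
    · apply etale_of_isUnit _ hmonic
      rw [hderiv]
      subst h1
      simp
    · apply etale_of_isUnit _ hmonic
      rw [hderiv]
      obtain ⟨hun, hua⟩ := IsUnit.mul_iff.mp h
      have hx : IsUnit (AdjoinRoot.root ((X : A[X]) ^ n - C a)) := by
        apply (isUnit_pow_iff hn0).mp
        rw [hxn]; exact hua.map _
      have hnB : IsUnit ((n : AdjoinRoot ((X : A[X]) ^ n - C a))) := by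
        have h8 := hun.map (algebraMap A (AdjoinRoot ((X : A[X]) ^ n - C a)))
        rwa [map_natCast] at h8
      exact hnB.mul (hx.pow _)

end Groth.Agent.S14457
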