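import Groth.Statements.S14478
-- import your own Groth.Agent.* helpers here
import Mathlib

set_option autoImplicit false
universe u
open CharCyc

namespace Groth.Agent.S14478

section
variable {k V : Type*} [Field k] [AddCommGroup V] [Module k V]

lemma finrank_sup_span [FiniteDimensional k V] (U : Submodule k V) (w : V) (hw : w ∉ U) :
    Module.finrank k ↥(U ⊔ k ∙ w) = Module.finrank k U + 1 := by
  have hw0 : w ≠ 0 := fun h => hw (h ▸ U.zero_mem)
  have hdisj : Disjoint U (k ∙ w) := (Submodule.disjoint_span_singleton' hw0).mpr hw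
  have h := Submodule.finrank_sup_add_finrank_inf_eq U (k ∙ w)
  rw [hdisj.eq_bot, finrank_bot, add_zero, finrank_span_singleton hw0] at h
  exact h

lemma compl_step (U : Submodule k V) (w : V) (W' : Submodule k V) (hw : w ∉ U)
    (h : IsCompl (U ⊔ k ∙ w) W') : IsCompl U (W' ⊔ k ∙ w) := by
  constructor
  · rw [Submodule.disjoint_def]
    intro x hxU hxW
    obtain ⟨w', hw', z, hz, rfl⟩ := Submodule.mem_sup.mp hxW
    obtain ⟨c, rfl⟩ := Submodule.mem_span_singleton.mp hz
    have h1 : w' ∈ U ⊔ k ∙ w := by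
      have e : w' = (w' + c • w) - c • w := by abel
      rw [e]
      exact Submodule.sub_mem _ (Submodule.mem_sup_left hxU)
        (Submodule.mem_sup_right (Submodule.smul_mem _ c (Submodule.mem_span_singleton_self w)))
    have h2 : w' = 0 := (Submodule.disjoint_def.mp h.disjoint) w' h1 hw'
    rw [h2, zero_add] at hxU ⊢
    by_cases hc : c = 0
    · rw [hc, zero_smul]
    · exfalso
      apply hw
      have := U.smul_mem c⁻¹ hxU
      rwa [smul_smul, inv_mul_cancel₀ hc, one_smul] at this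
  · rw [codisjoint_iff, ← h.sup_eq_top, sup_comm W' (k ∙ w), ← sup_assoc]

lemma exists_common_compl [FiniteDimensional k V] :
    ∀ (d : ℕ) (U₁ U₂ : Submodule k V), Module.finrank k U₁ = Module.finrank k U₂ →
      Module.finrank k U₁ + d = Module.finrank k V →
      ∃ W : Submodule k V, IsCompl U₁ W ∧ IsCompl U₂ W := by
  intro d
  induction d with
  | zero =>
    intro U₁ U₂ h12 hd
    have h1 : U₁ = ⊤ := Submodule.eq_top_of_finrank_eq (by omega)
    have h2 : U₂ = ⊤ := Submodule.eq_top_of_finrank_eq (by omega)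
    exact ⟨⊥, h1 ▸ isCompl_top_bot, h2 ▸ isCompl_top_bot⟩
  | succ d ih =>
    intro U₁ U₂ h12 hd
    by_cases heq : U₁ = U₂
    · subst heq
      obtain ⟨W, hW⟩ := Submodule.exists_isCompl U₁
      exact ⟨W, hW, hW⟩
    · have hn12 : ¬ U₁ ≤ U₂ := fun hle => heq (Submodule.eq_of_le_of_finrank_eq hle h12)
      have hn21 : ¬ U₂ ≤ U₁ :=
        fun hle => heq (Submodule.eq_of_le_of_finrank_eq hle h12.symm).symm
      obtain ⟨u₁, hu₁, hu₁'⟩ := SetLike.not_le_iff_exists.mp hn12
      obtain ⟨u₂, hu₂, hu₂'⟩ := SetLike.not_le_iff_exists.mp hn21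
      have hw1 : u₁ + u₂ ∉ U₁ := fun h => hu₂' (by simpa using U₁.sub_mem h hu₁)
      have hw2 : u₁ + u₂ ∉ U₂ := fun h => hu₁' (by simpa using U₂.sub_mem h hu₂)
      have hd1 := finrank_sup_span U₁ (u₁ + u₂) hw1
      have hd2 := finrank_sup_span U₂ (u₁ + u₂) hw2
      obtain ⟨W', hW1, hW2⟩ := ih (U₁ ⊔ k ∙ (u₁ + u₂)) (U₂ ⊔ k ∙ (u₁ + u₂))
        (by rw [hd1, hd2, h12]) (by rw [hd1]; omega)
      exact ⟨W' ⊔ k ∙ (u₁ + u₂), compl_step U₁ _ W' hw1 hW1, compl_step U₂ _ W' hw2 hW2⟩

end

/-- Let V be a finite-dimensional vector space over a field k, let W = V × V^∨ with V^∨ the dual space,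
and let T ⊆ W be a subspace with dim T = dim V; put V₁ = V ∩ T, where V sits in W as V × 0. Then
there is a complement V₂ of V₁ in V with the following property: for every injective linear map A₁ :
V₁ → V₁^∨, the map A : V → V^∨ extending A₁ by zero along the decompositions V = V₁ ⊕ V₂ and V^∨ =
V₁^∨ ⊕ V₂^∨ (so A v = A₁(p v) ∘ p, with p : V → V₁ the projection along V₂) has graph Γ ⊆ W with Γ ∩
T = 0. -/
theorem result (k V : Type u) [Field k] [AddCommGroup V] [Module k V]
    [FiniteDimensional k V] (T : Submodule k (V × Module.Dual k V))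
    (hT : Module.finrank k T = Module.finrank k V) :
    ∃ (V₂ : Submodule k V) (h : IsCompl (T.comap (LinearMap.inl k V (Module.Dual k V))) V₂),
      ∀ A₁ : T.comap (LinearMap.inl k V (Module.Dual k V)) →ₗ[k]
          Module.Dual k (T.comap (LinearMap.inl k V (Module.Dual k V))),
        Function.Injective A₁ →
          LinearMap.graph ((Submodule.projectionOnto _ V₂ h).dualMap ∘ₗ A₁ ∘ₗ
              Submodule.projectionOnto _ V₂ h) ⊓ T = ⊥ := by
  classical
  set T₁ := T.comap (LinearMap.inl k V (Module.Dual k V)) with hT₁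
  let φ : T →ₗ[k] Module.Dual k V := (LinearMap.snd k V (Module.Dual k V)).comp T.subtype
  let ψ : T₁ →ₗ[k] T :=
    LinearMap.codRestrict T ((LinearMap.inl k V (Module.Dual k V)).comp T₁.subtype) (fun v => v.2)
  have hψinj : Function.Injective ψ := by
    intro a b hab
    have := congrArg (fun t : T => (t : V × Module.Dual k V).1) hab
    exact Subtype.ext this
  have hrange : LinearMap.range ψ = LinearMap.ker φ := by
    ext t
    constructor
    · rintro ⟨v, rfl⟩
      rw [LinearMap.mem_ker]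
      rfl
    · intro ht
      have ht' : (t : V × Module.Dual k V).2 = 0 := LinearMap.mem_ker.mp ht
      have hmem : (t : V × Module.Dual k V).1 ∈ T₁ := by
        show LinearMap.inl k V (Module.Dual k V) (t : V × Module.Dual k V).1 ∈ T
        have e : LinearMap.inl k V (Module.Dual k V) (t : V × Module.Dual k V).1 =
            (t : V × Module.Dual k V) := Prod.ext rfl ht'.symm
        rw [e]
        exact t.2
      exact ⟨⟨_, hmem⟩, Subtype.ext (Prod.ext rfl ht'.symm)⟩
  have hdim : Module.finrank k (LinearMap.range φ).dualCoannihilator = Module.finrank k T₁ := by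
    have e1 := LinearMap.finrank_range_add_finrank_ker (K := k) (V := T) (V₂ := Module.Dual k V) φ
    have e2 : Module.finrank k (LinearMap.ker φ) = Module.finrank k T₁ := by
      rw [← hrange]
      exact LinearMap.finrank_range_of_inj hψinj
    have e3 := Subspace.finrank_add_finrank_dualCoannihilator_eq (LinearMap.range φ)
    omega
  obtain ⟨V₂, hV1, hV2⟩ := exists_common_compl (Module.finrank k V - Module.finrank k T₁) T₁
    (LinearMap.range φ).dualCoannihilator hdim.symm
    (by have := Submodule.finrank_le T₁; omega)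
  refine ⟨V₂, hV1, ?_⟩
  intro A₁ hA₁
  rw [eq_bot_iff]
  rintro ⟨v, ξ⟩ ⟨hΓ, hTm⟩
  rw [Submodule.mem_bot]
  have hξ : ξ = ((T₁.projectionOnto V₂ hV1).dualMap ∘ₗ A₁ ∘ₗ T₁.projectionOnto V₂ hV1) v :=
    hΓ
  have hξV₂ : ∀ w ∈ V₂, ξ w = 0 := by
    intro w hw
    rw [hξ]
    show (A₁ (T₁.projectionOnto V₂ hV1 v)) (T₁.projectionOnto V₂ hV1 w) = 0
    rw [Submodule.projectionOnto_apply_of_mem_right hV1 hw, map_zero]
  have hξT : ξ ∈ LinearMap.range φ := ⟨⟨(v, ξ), hTm⟩, rfl⟩
  have hξU₂ : ∀ u ∈ (LinearMap.range φ).dualCoannihilator, ξ u = 0 :=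
    fun u hu => (Submodule.mem_dualCoannihilator u).mp hu ξ hξT
  have hξ0 : ξ = 0 := by
    ext x
    have hx : x ∈ (LinearMap.range φ).dualCoannihilator ⊔ V₂ := by
      rw [hV2.sup_eq_top]; trivial
    obtain ⟨u, hu, w, hw, rfl⟩ := Submodule.mem_sup.mp hx
    simp [map_add, hξU₂ u hu, hξV₂ w hw]
  subst hξ0
  have hvT₁ : v ∈ T₁ := hTm
  have hpr : T₁.projectionOnto V₂ hV1 v = ⟨v, hvT₁⟩ :=
    Submodule.projectionOnto_apply_of_mem_left hV1 hvT₁
  have hA0 : A₁ ⟨v, hvT₁⟩ = 0 := by
    ext y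
    obtain ⟨x, rfl⟩ := Submodule.projectionOnto_surjective hV1 y
    have h1 := congrArg (fun η : Module.Dual k V => η x) hξ
    simp only [LinearMap.zero_apply] at h1
    rw [LinearMap.zero_apply, ← hpr]
    exact h1.symm
  have hv0 : (⟨v, hvT₁⟩ : T₁) = 0 := hA₁ (by rw [hA0, map_zero])
  have hv : v = 0 := congrArg Subtype.val hv0
  rw [hv]
  rfl

end Groth.Agent.S14478
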