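import Groth.Statements.S14479
-- import your own Groth.Agent.* helpers here
import Mathlib

set_option autoImplicit false
universe u
open CharCyc

namespace Groth.Agent.S14479

/-- Let V be a finite-dimensional vector space over a field k. If dim V is even or the characteristic of
k is different from 2, there is a bilinear form B on V such that the bilinear form (v, w) ↦ B(v, w)
+ B(w, v) (B plus its transpose, as a map V → V^∨) is nondegenerate. -/
theorem result (k V : Type u) [Field k] [AddCommGroup V] [Module k V]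
    [FiniteDimensional k V] (h : Even (Module.finrank k V) ∨ ringChar k ≠ 2) :
    ∃ B : LinearMap.BilinForm k V, (B + B.flip).Nondegenerate := by
  classical
  have key : ∀ {ι : Type} [Fintype ι] [DecidableEq ι] (b : Module.Basis ι k V) (M : Matrix ι ι k),
      (M + M.transpose).det ≠ 0 → ∃ B : LinearMap.BilinForm k V, (B + B.flip).Nondegenerate := by
    intro ι _ _ b M hM
    refine ⟨Matrix.toBilin b M, (LinearMap.BilinForm.nondegenerate_iff_det_ne_zero b).mpr ?_⟩
    have : LinearMap.BilinForm.toMatrix b (Matrix.toBilin b M + (Matrix.toBilin b M).flip)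
        = M + M.transpose := by
      rw [map_add, LinearMap.BilinForm.toMatrix_toBilin]
      congr 1
      ext i j
      rw [LinearMap.BilinForm.toMatrix_apply, LinearMap.BilinForm.flip_apply,
        ← LinearMap.BilinForm.toMatrix_apply b, LinearMap.BilinForm.toMatrix_toBilin,
        Matrix.transpose_apply]
    rw [this]; exact hM
  rcases h with ⟨m, hm⟩ | h2
  · let e : Fin (Module.finrank k V) ≃ Fin m ⊕ Fin m := (finCongr hm).trans finSumFinEquiv.symm
    refine key ((Module.finBasis k V).reindex e) (Matrix.fromBlocks (0 : Matrix (Fin m) (Fin m) k) (1 : Matrix (Fin m) (Fin m) k) (0 : Matrix (Fin m) (Fin m) k) (0 : Matrix (Fin m) (Fin m) k)) ?_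
    have h1 : (Matrix.fromBlocks (0 : Matrix (Fin m) (Fin m) k) (1 : Matrix (Fin m) (Fin m) k) (0 : Matrix (Fin m) (Fin m) k) (0 : Matrix (Fin m) (Fin m) k)) +
        (Matrix.fromBlocks (0 : Matrix (Fin m) (Fin m) k) (1 : Matrix (Fin m) (Fin m) k) (0 : Matrix (Fin m) (Fin m) k) (0 : Matrix (Fin m) (Fin m) k)).transpose
          = Matrix.fromBlocks (0 : Matrix (Fin m) (Fin m) k) (1 : Matrix (Fin m) (Fin m) k) (1 : Matrix (Fin m) (Fin m) k) (0 : Matrix (Fin m) (Fin m) k) := by
      rw [Matrix.fromBlocks_transpose, Matrix.fromBlocks_add]; simp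
    rw [h1]
    have h2 : (Matrix.fromBlocks (0 : Matrix (Fin m) (Fin m) k) (1 : Matrix (Fin m) (Fin m) k) (1 : Matrix (Fin m) (Fin m) k) (0 : Matrix (Fin m) (Fin m) k)) *
        (Matrix.fromBlocks (0 : Matrix (Fin m) (Fin m) k) (1 : Matrix (Fin m) (Fin m) k) (1 : Matrix (Fin m) (Fin m) k) (0 : Matrix (Fin m) (Fin m) k)) = 1 := by
      rw [Matrix.fromBlocks_multiply]; simp [Matrix.fromBlocks_one]
    intro h0
    have := congrArg Matrix.det h2
    rw [Matrix.det_mul, h0, zero_mul, Matrix.det_one] at this
    exact zero_ne_one this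
  · refine key (Module.finBasis k V) (1 : Matrix _ _ k) ?_
    rw [Matrix.transpose_one, ← two_smul k (1 : Matrix (Fin (Module.finrank k V)) (Fin (Module.finrank k V)) k),
      Matrix.det_smul, Matrix.det_one, mul_one]
    apply pow_ne_zero
    intro h20
    apply h2
    have hd : ringChar k ∣ 2 := (ringChar.spec k 2).mp (by exact_mod_cast h20)
    rcases (Nat.dvd_prime Nat.prime_two).mp hd with h1 | h1
    · exact absurd h1 CharP.ringChar_ne_one
    · exact h1

end Groth.Agent.S14479
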