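import Groth.Statements.S14498
-- import your own Groth.Agent.* helpers here
import Mathlib

set_option autoImplicit false
universe v u
open AbDiag

namespace Groth.Agent.S14498

open CategoryTheory CategoryTheory.Limits in
/-- In an abelian category, let 0 → F → W → E' → 0 (maps a, b) and 0 → E → W → F' → G → G' → 0 (maps c,
d, e, g) be exact sequences such that the composite F → W → F' is a monomorphism. Then the composite
E → W → E' is a monomorphism, and there is a short exact sequence 0 → Coker(E → E') → Coker(F → F')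
→ Ker(G → G') → 0 whose first map is induced by d (through the quotient map b) and whose second map
is induced by e. -/
theorem result
    {V : Type u} [Category.{v} V] [Abelian V] {F W E' E F' G G' : V}
    (a : F ⟶ W) (b : W ⟶ E') (c : E ⟶ W) (d : W ⟶ F') (e : F' ⟶ G) (g : G ⟶ G')
    [Mono a] [Epi b] (wab : a ≫ b = 0) (hab : (ShortComplex.mk a b wab).Exact)
    [Mono c] (wcd : c ≫ d = 0) (hcd : (ShortComplex.mk c d wcd).Exact)
    (wde : d ≫ e = 0) (hde : (ShortComplex.mk d e wde).Exact)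
    (weg : e ≫ g = 0) (heg : (ShortComplex.mk e g weg).Exact) [Epi g]
    (hmono : Mono (a ≫ d)) :
    Mono (c ≫ b) ∧
      ∃ (φ : cokernel (c ≫ b) ⟶ cokernel (a ≫ d)) (ψ : cokernel (a ≫ d) ⟶ kernel g)
        (w : φ ≫ ψ = 0),
        b ≫ cokernel.π (c ≫ b) ≫ φ = d ≫ cokernel.π (a ≫ d) ∧
        cokernel.π (a ≫ d) ≫ ψ ≫ kernel.ι g = e ∧
        (ShortComplex.mk φ ψ w).ShortExact := by
  have lift_ab : ∀ {A : V} (k : A ⟶ W), k ≫ b = 0 → ∃ l : A ⟶ F, l ≫ a = k := by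
    intro A k hk
    haveI : Mono (ShortComplex.mk a b wab).f := by dsimp; infer_instance
    exact hab.lift' k hk
  have lift_cd : ∀ {A : V} (k : A ⟶ W), k ≫ d = 0 → ∃ l : A ⟶ E, l ≫ c = k := by
    intro A k hk
    haveI : Mono (ShortComplex.mk c d wcd).f := by dsimp; infer_instance
    exact hcd.lift' k hk
  have desc_ab : ∀ {A : V} (k : W ⟶ A), a ≫ k = 0 → ∃ l : E' ⟶ A, b ≫ l = k := by
    intro A k hk
    haveI : Epi (ShortComplex.mk a b wab).g := by dsimp; infer_instance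
    exact hab.desc' k hk
  have hmono1 : Mono (c ≫ b) := by
    apply Preadditive.mono_of_cancel_zero
    intro A x hx
    obtain ⟨y, hy⟩ := lift_ab (x ≫ c) (by rw [Category.assoc]; exact hx)
    have hy0 : y = 0 := by
      rw [← cancel_mono (a ≫ d), zero_comp, ← Category.assoc, hy, Category.assoc, wcd, comp_zero]
    rw [hy0, zero_comp] at hy
    rw [← cancel_mono c, zero_comp]
    exact hy.symm
  refine ⟨hmono1, ?_⟩
  obtain ⟨φ₀, hφ₀⟩ := desc_ab (d ≫ cokernel.π (a ≫ d))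
    (by rw [← Category.assoc, cokernel.condition])
  have hφ₀' : (c ≫ b) ≫ φ₀ = 0 := by
    rw [Category.assoc, hφ₀, ← Category.assoc, wcd, zero_comp]
  obtain ⟨φ, hφ⟩ : ∃ φ : cokernel (c ≫ b) ⟶ cokernel (a ≫ d), cokernel.π (c ≫ b) ≫ φ = φ₀ :=
    ⟨cokernel.desc (c ≫ b) φ₀ hφ₀', cokernel.π_desc _ _ _⟩
  have hψ₀ : (a ≫ d) ≫ kernel.lift g e weg = 0 := by
    rw [← cancel_mono (kernel.ι g), zero_comp, Category.assoc, kernel.lift_ι, Category.assoc,
      wde, comp_zero]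
  obtain ⟨ψ, hψ⟩ : ∃ ψ : cokernel (a ≫ d) ⟶ kernel g,
      cokernel.π (a ≫ d) ≫ ψ = kernel.lift g e weg :=
    ⟨cokernel.desc (a ≫ d) (kernel.lift g e weg) hψ₀, cokernel.π_desc _ _ _⟩
  have hψe : cokernel.π (a ≫ d) ≫ ψ ≫ kernel.ι g = e := by
    rw [← Category.assoc, hψ, kernel.lift_ι]
  have hbφ : b ≫ cokernel.π (c ≫ b) ≫ φ = d ≫ cokernel.π (a ≫ d) := by rw [hφ, hφ₀]
  have w : φ ≫ ψ = 0 := by
    rw [← cancel_epi (cokernel.π (c ≫ b)), ← cancel_epi b, ← cancel_mono (kernel.ι g)]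
    simp only [comp_zero, zero_comp, Category.assoc]
    rw [reassoc_of% hbφ, hψe, wde]
  refine ⟨φ, ψ, w, hbφ, hψe, ?_⟩
  haveI hepiψ : Epi ψ := by
    haveI : Epi (kernel.lift g e weg) := (ShortComplex.exact_iff_epi_kernel_lift _).1 heg
    haveI : Epi (cokernel.π (a ≫ d) ≫ ψ) := by rw [hψ]; infer_instance
    exact epi_of_epi (cokernel.π (a ≫ d)) ψ
  have e1 : c ≫ b ≫ cokernel.π (c ≫ b) = 0 := by rw [← Category.assoc, cokernel.condition]
  have e2 : a ≫ b ≫ cokernel.π (c ≫ b) = 0 := by rw [← Category.assoc, wab, zero_comp]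
  have hex : (ShortComplex.mk (a ≫ d) (cokernel.π (a ≫ d)) (cokernel.condition _)).Exact :=
    ShortComplex.exact_of_g_is_cokernel _ (cokernelIsCokernel _)
  haveI hmonoφ : Mono φ := by
    apply Preadditive.mono_of_cancel_zero
    intro A x hx
    obtain ⟨A₁, p₁, hp₁, w₁, hw₁⟩ :=
      surjective_up_to_refinements_of_epi (b ≫ cokernel.π (c ≫ b)) x
    have h1 : (w₁ ≫ d) ≫ cokernel.π (a ≫ d) = 0 := by
      calc (w₁ ≫ d) ≫ cokernel.π (a ≫ d) = w₁ ≫ b ≫ cokernel.π (c ≫ b) ≫ φ := by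
            rw [Category.assoc, hbφ]
        _ = (p₁ ≫ x) ≫ φ := by rw [hw₁]; simp only [Category.assoc]
        _ = 0 := by rw [Category.assoc, hx, comp_zero]
    obtain ⟨A₂, p₂, hp₂, y, hy⟩ := hex.exact_up_to_refinements (w₁ ≫ d) h1
    have hy' : p₂ ≫ w₁ ≫ d = y ≫ a ≫ d := hy
    obtain ⟨z, hz⟩ := lift_cd (p₂ ≫ w₁ - y ≫ a)
      (by rw [Preadditive.sub_comp, Category.assoc, Category.assoc, hy', sub_self])
    have hsum : p₂ ≫ w₁ = z ≫ c + y ≫ a := by rw [hz]; abel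
    have h2 : (p₂ ≫ p₁) ≫ x = 0 := by
      calc (p₂ ≫ p₁) ≫ x = p₂ ≫ w₁ ≫ b ≫ cokernel.π (c ≫ b) := by rw [Category.assoc, hw₁]
        _ = (p₂ ≫ w₁) ≫ b ≫ cokernel.π (c ≫ b) := by rw [Category.assoc]
        _ = (z ≫ c + y ≫ a) ≫ b ≫ cokernel.π (c ≫ b) := by rw [hsum]
        _ = 0 := by
          rw [Preadditive.add_comp, Category.assoc, Category.assoc, e1, e2, comp_zero, comp_zero,
            add_zero]
    haveI : Epi (p₂ ≫ p₁) := epi_comp _ _
    rw [← cancel_epi (p₂ ≫ p₁), h2, comp_zero]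
  refine { exact := ?_, mono_f := hmonoφ, epi_g := hepiψ }
  rw [ShortComplex.exact_iff_exact_up_to_refinements]
  intro A x₂ hx₂
  have hx₂' : x₂ ≫ ψ = 0 := hx₂
  obtain ⟨A₁, p₁, hp₁, u, hu⟩ := surjective_up_to_refinements_of_epi (cokernel.π (a ≫ d)) x₂
  have hue : u ≫ e = 0 := by
    rw [← hψe, ← Category.assoc, ← hu, Category.assoc, ← Category.assoc x₂, hx₂', zero_comp,
      comp_zero]
  obtain ⟨A₂, p₂, hp₂, w₂, hw₂⟩ := hde.exact_up_to_refinements u hue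
  have hw₂' : p₂ ≫ u = w₂ ≫ d := hw₂
  refine ⟨A₂, p₂ ≫ p₁, epi_comp _ _, w₂ ≫ b ≫ cokernel.π (c ≫ b), ?_⟩
  show (p₂ ≫ p₁) ≫ x₂ = (w₂ ≫ b ≫ cokernel.π (c ≫ b)) ≫ φ
  simp only [Category.assoc]
  rw [hu, hbφ, reassoc_of% hw₂']

end Groth.Agent.S14498
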