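import Groth.Statements.S14501
-- import your own Groth.Agent.* helpers here
import Mathlib

set_option autoImplicit false
universe u
open IntTh

namespace Groth.Agent.S14501

section
variable {A : Type u} [CommRing A] {V : Type u} [AddCommGroup V] [Module A V]

lemma length_tower (P N M : Submodule A V) (hPN : P ≤ N) (hNM : N ≤ M) :
    Module.length A (↥M ⧸ P.submoduleOf M) =
      Module.length A (↥N ⧸ P.submoduleOf N) + Module.length A (↥M ⧸ N.submoduleOf M) := by
  have h1 : P.submoduleOf N ≤ (P.submoduleOf M).comap (Submodule.inclusion hNM) := by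
    intro x hx
    exact hx
  have h2 : P.submoduleOf M ≤ (N.submoduleOf M).comap (LinearMap.id) := by
    intro x hx
    exact hPN hx
  refine Module.length_eq_add_of_exact (Submodule.mapQ _ _ (Submodule.inclusion hNM) h1)
    (Submodule.mapQ _ _ LinearMap.id h2) ?_ ?_ ?_
  · rw [injective_iff_map_eq_zero]
    intro x hx
    obtain ⟨x, rfl⟩ := Submodule.mkQ_surjective _ x
    rw [Submodule.mkQ_apply, Submodule.mapQ_apply, Submodule.Quotient.mk_eq_zero] at hx
    rw [Submodule.mkQ_apply, Submodule.Quotient.mk_eq_zero]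
    exact hx
  · intro y
    obtain ⟨y, rfl⟩ := Submodule.mkQ_surjective _ y
    exact ⟨Submodule.mkQ _ y, rfl⟩
  · intro y
    obtain ⟨y, rfl⟩ := Submodule.mkQ_surjective _ y
    rw [Submodule.mkQ_apply, Submodule.mapQ_apply, Submodule.Quotient.mk_eq_zero]
    constructor
    · intro hy
      have hy' : (y : V) ∈ N := hy
      refine ⟨Submodule.Quotient.mk ⟨(y : V), hy'⟩, ?_⟩
      rw [Submodule.mapQ_apply]
      rfl
    · rintro ⟨x, hx⟩
      obtain ⟨x, rfl⟩ := Submodule.mkQ_surjective _ x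
      rw [Submodule.mkQ_apply, Submodule.mapQ_apply, Submodule.Quotient.eq] at hx
      have h3 : ((x : V) - (y : V)) ∈ P := hx
      have h4 : (y : V) = (x : V) - ((x : V) - (y : V)) := by abel
      show (y : V) ∈ N
      rw [h4]
      exact N.sub_mem x.2 (hPN h3)

lemma idx (M N P : Submodule A V) (hPM : P ≤ M) (hPN : P ≤ N)
    (hM : Module.length A (↥M ⧸ P.submoduleOf M) ≠ ⊤)
    (hN : Module.length A (↥N ⧸ P.submoduleOf N) ≠ ⊤) :
    ((Module.length A (↥M ⧸ (M ⊓ N).submoduleOf M)).toNat : ℤ) -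
      ((Module.length A (↥N ⧸ (M ⊓ N).submoduleOf N)).toNat : ℤ) =
    ((Module.length A (↥M ⧸ P.submoduleOf M)).toNat : ℤ) -
      ((Module.length A (↥N ⧸ P.submoduleOf N)).toNat : ℤ) := by
  have h1 := length_tower P (M ⊓ N) M (le_inf hPM hPN) inf_le_left
  have h2 := length_tower P (M ⊓ N) N (le_inf hPM hPN) inf_le_right
  rw [h1] at hM
  rw [h2] at hN
  have hM' := WithTop.add_ne_top.1 hM
  have hN' := WithTop.add_ne_top.1 hN
  rw [h1, h2, ENat.toNat_add hM'.1 hM'.2, ENat.toNat_add hN'.1 hN'.2]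
  push_cast
  ring

lemma artinian_of_killed [IsDomain A] [IsNoetherianRing A] [Ring.KrullDimLE 1 A]
    (Q : Type u) [AddCommGroup Q] [Module A Q] [Module.Finite A Q] (a : A) (ha : a ≠ 0)
    (hQ : ∀ q : Q, a • q = 0) : IsArtinian A Q := by
  obtain ⟨n, s, hs⟩ := Module.Finite.exists_fin (R := A) (M := Q)
  have hfl := isFiniteLength_quotient_span_singleton A (mem_nonZeroDivisors_of_ne_zero ha)
  rw [isFiniteLength_iff_isNoetherian_isArtinian] at hfl
  haveI := hfl.2
  have hker : ∀ i, (Ideal.span {a} : Submodule A A) ≤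
      LinearMap.ker (LinearMap.toSpanSingleton A Q (s i)) := by
    intro i x hx
    obtain ⟨c, rfl⟩ := Ideal.mem_span_singleton'.1 hx
    rw [LinearMap.mem_ker, LinearMap.toSpanSingleton_apply, mul_smul, hQ, smul_zero]
  let F : (Fin n → A ⧸ Ideal.span {a}) →ₗ[A] Q :=
    ∑ i, (Submodule.liftQ _ (LinearMap.toSpanSingleton A Q (s i)) (hker i)).comp
      (LinearMap.proj i)
  refine isArtinian_of_surjective _ F ?_
  intro q
  have hq : q ∈ Submodule.span A (Set.range s) := by rw [hs]; trivial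
  obtain ⟨c, rfl⟩ := (Submodule.mem_span_range_iff_exists_fun A).1 hq
  refine ⟨fun i => Ideal.Quotient.mk _ (c i), ?_⟩
  simp only [F, LinearMap.sum_apply, LinearMap.comp_apply, LinearMap.proj_apply]
  refine Finset.sum_congr rfl fun i _ => ?_
  show (Submodule.liftQ _ _ (hker i)) (Submodule.Quotient.mk (c i)) = c i • s i
  rw [Submodule.liftQ_apply, LinearMap.toSpanSingleton_apply]

variable {K : Type u} [Field K] [Algebra A K] [IsFractionRing A K] [Module K V]
  [IsScalarTower A K V]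

lemma exists_smul_mem [IsDomain A] (N : Submodule A V)
    (hN : Submodule.span K (N : Set V) = ⊤) (v : V) :
    ∃ a : A, a ≠ 0 ∧ a • v ∈ N := by
  have hv : v ∈ Submodule.span K (N : Set V) := by rw [hN]; trivial
  induction hv using Submodule.span_induction with
  | mem x hx => exact ⟨1, one_ne_zero, by rwa [one_smul]⟩
  | zero => exact ⟨1, one_ne_zero, by rw [smul_zero]; exact N.zero_mem⟩
  | add x y _ _ hx hy =>
    obtain ⟨a, ha, hax⟩ := hx
    obtain ⟨b, hb, hby⟩ := hy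
    refine ⟨a * b, mul_ne_zero ha hb, ?_⟩
    rw [smul_add]
    refine N.add_mem ?_ ?_
    · rw [mul_comm, mul_smul]; exact N.smul_mem b hax
    · rw [mul_smul]; exact N.smul_mem a hby
  | smul k x _ hx =>
    obtain ⟨a, ha, hax⟩ := hx
    obtain ⟨⟨r, s⟩, hrs⟩ := IsLocalization.surj (nonZeroDivisors A) k
    have hrs' : k * algebraMap A K (s : A) = algebraMap A K r := hrs
    refine ⟨(s : A) * a, mul_ne_zero (nonZeroDivisors.ne_zero s.2) ha, ?_⟩
    have e1 : (s : A) • k = algebraMap A K r := by rw [Algebra.smul_def, mul_comm, hrs']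
    have e : ((s : A) * a) • (k • x) = r • (a • x) := by
      rw [mul_smul, smul_comm a k x, ← smul_assoc, e1, algebraMap_smul]
    rw [e]
    exact N.smul_mem r hax

lemma span_inf_eq_top [IsDomain A] (M N : Submodule A V)
    (hM : Submodule.span K (M : Set V) = ⊤) (hN : Submodule.span K (N : Set V) = ⊤) :
    Submodule.span K ((M ⊓ N : Submodule A V) : Set V) = ⊤ := by
  rw [eq_top_iff]
  intro v _
  obtain ⟨a, ha, hav⟩ := exists_smul_mem (K := K) M hM v
  obtain ⟨b, hb, hbv⟩ := exists_smul_mem (K := K) N hN v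
  have hab : algebraMap A K (a * b) ≠ 0 :=
    (map_ne_zero_iff _ (IsFractionRing.injective A K)).2 (mul_ne_zero ha hb)
  have h1 : (a * b) • v ∈ M ⊓ N :=
    ⟨by rw [mul_comm, mul_smul]; exact M.smul_mem b hav,
      by rw [mul_smul]; exact N.smul_mem a hbv⟩
  have h2 : v = (algebraMap A K (a * b))⁻¹ • ((a * b) • v) := by
    rw [← algebraMap_smul K (a * b) v, smul_smul, inv_mul_cancel₀ hab, one_smul]
  rw [h2]
  exact Submodule.smul_mem _ _ (Submodule.subset_span h1)

lemma exists_smul_le [IsDomain A] (N M : Submodule A V)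
    (hN : Submodule.span K (N : Set V) = ⊤) (hM : M.FG) :
    ∃ a : A, a ≠ 0 ∧ ∀ m ∈ M, a • m ∈ N := by
  refine Submodule.fg_induction (motive := fun M _ => ∃ a : A, a ≠ 0 ∧ ∀ m ∈ M, a • m ∈ N)
    ?_ ?_ M hM
  · intro x
    obtain ⟨a, ha, hax⟩ := exists_smul_mem (K := K) N hN x
    refine ⟨a, ha, fun m hm => ?_⟩
    obtain ⟨r, rfl⟩ := Submodule.mem_span_singleton.1 hm
    rw [smul_comm]
    exact N.smul_mem r hax
  · intro M₁ M₂ _ _ h₁ h₂
    obtain ⟨a, ha, h1⟩ := h₁
    obtain ⟨b, hb, h2⟩ := h₂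
    refine ⟨a * b, mul_ne_zero ha hb, fun m hm => ?_⟩
    obtain ⟨m₁, hm₁, m₂, hm₂, rfl⟩ := Submodule.mem_sup.1 hm
    rw [smul_add]
    refine N.add_mem ?_ ?_
    · rw [mul_comm, mul_smul]; exact N.smul_mem b (h1 m₁ hm₁)
    · rw [mul_smul]; exact N.smul_mem a (h2 m₂ hm₂)

lemma length_ne_top' [IsDomain A] [IsNoetherianRing A] [Ring.KrullDimLE 1 A]
    (N M : Submodule A V) (hN : Submodule.span K (N : Set V) = ⊤) (hM : M.FG) :
    Module.length A (↥M ⧸ N.submoduleOf M) ≠ ⊤ := by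
  obtain ⟨a, ha, h⟩ := exists_smul_le (K := K) N M hN hM
  haveI : Module.Finite A ↥M := Module.Finite.iff_fg.2 hM
  haveI : IsArtinian A (↥M ⧸ N.submoduleOf M) := by
    refine artinian_of_killed _ a ha ?_
    intro q
    obtain ⟨m, rfl⟩ := Submodule.mkQ_surjective _ q
    rw [← map_smul, Submodule.mkQ_apply, Submodule.Quotient.mk_eq_zero]
    exact h m.1 m.2
  exact Module.length_ne_top

end

/-- Take a one-dimensional Noetherian local domain A with fraction field K, V a finite-dimensional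
K-vector space and M₁, M₂, M₃ lattices in V (finitely generated A-submodules spanning V over K).
Define the distance d(M, M') as length_A(M/(M ∩ M')) − length_A(M'/(M ∩ M')), with the (finite)
lengths read as natural numbers. Then d(M₁, M₃) = d(M₁, M₂) + d(M₂, M₃). -/
theorem result (A : Type u) [CommRing A] [IsDomain A] [IsNoetherianRing A]
    [IsLocalRing A] (hA : ringKrullDim A = 1) (K : Type u) [Field K] [Algebra A K]
    [IsFractionRing A K] (V : Type u) [AddCommGroup V] [Module K V] [Module A V]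
    [IsScalarTower A K V] [FiniteDimensional K V]
    (M₁ M₂ M₃ : Submodule A V) [Submodule.IsLattice K M₁] [Submodule.IsLattice K M₂]
    [Submodule.IsLattice K M₃] :
    ((Module.length A (↥M₁ ⧸ (M₁ ⊓ M₃).submoduleOf M₁)).toNat : ℤ) -
        ((Module.length A (↥M₃ ⧸ (M₁ ⊓ M₃).submoduleOf M₃)).toNat : ℤ) =
      (((Module.length A (↥M₁ ⧸ (M₁ ⊓ M₂).submoduleOf M₁)).toNat : ℤ) -
        ((Module.length A (↥M₂ ⧸ (M₁ ⊓ M₂).submoduleOf M₂)).toNat : ℤ)) +
      (((Module.length A (↥M₂ ⧸ (M₂ ⊓ M₃).submoduleOf M₂)).toNat : ℤ) -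
        ((Module.length A (↥M₃ ⧸ (M₂ ⊓ M₃).submoduleOf M₃)).toNat : ℤ)) := by
  haveI : Ring.KrullDimLE 1 A := Ring.krullDimLE_iff.2 (by rw [hA]; norm_num)
  have hP1 : M₁ ⊓ M₂ ⊓ M₃ ≤ M₁ := inf_le_left.trans inf_le_left
  have hP2 : M₁ ⊓ M₂ ⊓ M₃ ≤ M₂ := inf_le_left.trans inf_le_right
  have hP3 : M₁ ⊓ M₂ ⊓ M₃ ≤ M₃ := inf_le_right
  have hspan : Submodule.span K ((M₁ ⊓ M₂ ⊓ M₃ : Submodule A V) : Set V) = ⊤ :=
    span_inf_eq_top (M₁ ⊓ M₂) M₃ (span_inf_eq_top M₁ M₂ Submodule.IsLattice.span_eq_top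
      Submodule.IsLattice.span_eq_top) Submodule.IsLattice.span_eq_top
  have f1 := length_ne_top' (K := K) (M₁ ⊓ M₂ ⊓ M₃) M₁ hspan Submodule.IsLattice.fg
  have f2 := length_ne_top' (K := K) (M₁ ⊓ M₂ ⊓ M₃) M₂ hspan Submodule.IsLattice.fg
  have f3 := length_ne_top' (K := K) (M₁ ⊓ M₂ ⊓ M₃) M₃ hspan Submodule.IsLattice.fg
  rw [idx M₁ M₃ _ hP1 hP3 f1 f3, idx M₁ M₂ _ hP1 hP2 f1 f2, idx M₂ M₃ _ hP2 hP3 f2 f3]
  ring

end Groth.Agent.S14501
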