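import Groth.Statements.S14511
-- import your own Groth.Agent.* helpers here
import Mathlib

set_option autoImplicit false
universe u
open CAlgX

namespace Groth.Agent.S14511

/-- Let R be a commutative ring and P ∈ R[x_1, …, x_r] a polynomial of total degree at most r. Then the
coefficient of the monomial x_1 ⋯ x_r in P equals Σ_J (−1)^{|J|} P(δ_J), the sum over all subsets J
⊆ {1, …, r} (the empty one included), where δ_J is the point with coordinate −1 at the indices in J
and 0 at the others. -/
theorem result (R : Type u) [CommRing R] (r : ℕ)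
    (P : MvPolynomial (Fin r) R) (hP : P.totalDegree ≤ r) :
    MvPolynomial.coeff (∑ i : Fin r, Finsupp.single i 1) P =
      ∑ J : Finset (Fin r), (-1 : R) ^ J.card * MvPolynomial.eval (fun j => if j ∈ J then (-1 : R) else 0) P := by
  classical
  set one : Fin r →₀ ℕ := ∑ i : Fin r, Finsupp.single i 1 with hone
  have hone_apply : ∀ i, one i = 1 := by
    intro i
    rw [hone, Finsupp.finsetSum_apply]
    simp [Finsupp.single_apply]
  have hT : ∀ d : Fin r →₀ ℕ,
      (∑ J : Finset (Fin r), (-1 : R) ^ J.card * ∏ i, (if i ∈ J then (-1 : R) else 0) ^ d i)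
        = ∏ i : Fin r, ((-1 : R) ^ (d i + 1) + 0 ^ d i) := by
    intro d
    rw [Finset.prod_add, Finset.powerset_univ]
    refine Finset.sum_congr rfl (fun J _ => ?_)
    rw [← Finset.prod_sdiff (Finset.subset_univ J)]
    have h1 : ∏ i ∈ Finset.univ \ J, (if i ∈ J then (-1 : R) else 0) ^ d i
        = ∏ i ∈ Finset.univ \ J, (0 : R) ^ d i :=
      Finset.prod_congr rfl (fun i hi => by rw [if_neg (Finset.mem_sdiff.mp hi).2])
    have h2 : ∏ i ∈ J, (if i ∈ J then (-1 : R) else 0) ^ d i = ∏ i ∈ J, (-1 : R) ^ d i :=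
      Finset.prod_congr rfl (fun i hi => by rw [if_pos hi])
    have h3 : ∏ i ∈ J, (-1 : R) ^ (d i + 1) = (∏ i ∈ J, (-1 : R) ^ d i) * (-1) ^ J.card := by
      simp only [pow_succ, Finset.prod_mul_distrib, Finset.prod_const]
    rw [h1, h2, h3]
    ring
  have hdeg : ∀ d ∈ P.support, ∑ i, d i ≤ r := by
    intro d hd
    have h1 := MvPolynomial.le_totalDegree hd
    rw [Finsupp.sum_fintype _ _ (fun _ => rfl)] at h1
    exact h1.trans hP
  have hval : ∀ d ∈ P.support,
      ∏ i : Fin r, ((-1 : R) ^ (d i + 1) + 0 ^ d i) = if d = one then 1 else 0 := by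
    intro d hd
    split_ifs with h
    · apply Finset.prod_eq_one
      intro i _
      rw [h, hone_apply]
      norm_num
    · have hex : ∃ i, d i = 0 := by
        by_contra hcon
        have hpos : ∀ i, 1 ≤ d i := fun i =>
          Nat.one_le_iff_ne_zero.mpr (fun h0 => hcon ⟨i, h0⟩)
        have hsum : ∑ i : Fin r, 1 = ∑ i, d i := by
          apply le_antisymm (Finset.sum_le_sum (fun i _ => hpos i))
          simpa using hdeg d hd
        have hall := (Finset.sum_eq_sum_iff_of_le (fun i _ => hpos i)).mp hsum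
        apply h
        ext i
        rw [hone_apply, ← hall i (Finset.mem_univ i)]
      obtain ⟨i₀, hi₀⟩ := hex
      apply Finset.prod_eq_zero (Finset.mem_univ i₀)
      rw [hi₀]
      norm_num
  have hRHS : ∑ J : Finset (Fin r), (-1 : R) ^ J.card *
        MvPolynomial.eval (fun j => if j ∈ J then (-1 : R) else 0) P
      = ∑ d ∈ P.support, MvPolynomial.coeff d P * (if d = one then 1 else 0) := by
    simp_rw [MvPolynomial.eval_eq', Finset.mul_sum]
    rw [Finset.sum_comm]
    refine Finset.sum_congr rfl (fun d hd => ?_)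
    rw [← hval d hd, ← hT d, Finset.mul_sum]
    refine Finset.sum_congr rfl (fun J _ => ?_)
    ring
  rw [hRHS]
  simp only [mul_ite, mul_one, mul_zero]
  rw [Finset.sum_ite_eq']
  split_ifs with h
  · rfl
  · exact (MvPolynomial.notMem_support_iff.mp h)

end Groth.Agent.S14511
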