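import Groth.Statements.S14614
-- import your own Groth.Agent.* helpers here
import Mathlib

set_option autoImplicit false
universe u
open Mor

namespace Groth.Agent.S14614

section
open CategoryTheory AlgebraicGeometry CategoryTheory.Limits

/-- The lifting hypothesis. -/
def Hyp {Z S : Scheme.{u}} (i : Z ⟶ S) : Prop :=
  ∀ (A : Type u) [CommRing A] [IsArtinianRing A] [IsLocalRing A]
    (g : Spec (CommRingCat.of A) ⟶ S),
    (∃ t : Spec (CommRingCat.of (IsLocalRing.ResidueField A)) ⟶ Z,
      t ≫ i = Spec.map (CommRingCat.ofHom (IsLocalRing.residue A)) ≫ g) →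
    ∃ g' : Spec (CommRingCat.of A) ⟶ Z, g' ≫ i = g

lemma Hyp.pullback {Z S U : Scheme.{u}} (i : Z ⟶ S) (j : U ⟶ S) (h : Hyp i) :
    Hyp (pullback.snd i j) := by
  intro A _ _ _ g ⟨t, ht⟩
  obtain ⟨g', hg'⟩ := h A (g ≫ j) ⟨t ≫ pullback.fst i j, by
    rw [Category.assoc, pullback.condition, ← Category.assoc, ht, Category.assoc]⟩
  exact ⟨pullback.lift g' g hg', pullback.lift_snd _ _ _⟩

lemma Hyp.of_arrow_iso {Z S Z' S' : Scheme.{u}} (e₁ : Z ≅ Z') (e₂ : S ≅ S') (i : Z ⟶ S)
    (i' : Z' ⟶ S') (w : e₁.hom ≫ i' = i ≫ e₂.hom) (h : Hyp i) : Hyp i' := by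
  intro A _ _ _ g ⟨t, ht⟩
  have w' : e₁.inv ≫ i = i' ≫ e₂.inv := by
    rw [Iso.inv_comp_eq, ← Category.assoc, w, Category.assoc, Iso.hom_inv_id, Category.comp_id]
  obtain ⟨g', hg'⟩ := h A (g ≫ e₂.inv) ⟨t ≫ e₁.inv, by
    rw [Category.assoc, w', ← Category.assoc, ht, Category.assoc]⟩
  exact ⟨g' ≫ e₁.hom, by
    rw [Category.assoc, w, ← Category.assoc, hg', Category.assoc, e₂.inv_hom_id,
      Category.comp_id]⟩

lemma artin_step (B C : Type u) [CommRing B] [CommRing C] [IsNoetherianRing B] (φ : B →+* C)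
    (hφ : Function.Surjective φ) (h : Hyp (Spec.map (CommRingCat.ofHom φ)))
    (p : Ideal B) [p.IsPrime] (hIp : RingHom.ker φ ≤ p) (n : ℕ) (hn : 0 < n) (b : B)
    (hb : φ b = 0) :
    algebraMap B (Localization.AtPrime p) b ∈
      (IsLocalRing.maximalIdeal (Localization.AtPrime p)) ^ n := by
  set R := Localization.AtPrime p with hR
  set m := IsLocalRing.maximalIdeal R with hm
  have hmtop : m ≠ ⊤ := (IsLocalRing.maximalIdeal.isMaximal R).ne_top
  have hmn : m ^ n ≠ ⊤ := fun h' => hmtop (top_le_iff.mp (h' ▸ Ideal.pow_le_self hn.ne'))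
  haveI : Nontrivial (R ⧸ m ^ n) := Ideal.Quotient.nontrivial_iff.mpr hmn
  haveI : IsLocalRing (R ⧸ m ^ n) :=
    IsLocalRing.of_surjective' (Ideal.Quotient.mk (m ^ n)) Ideal.Quotient.mk_surjective
  have hmax : IsLocalRing.maximalIdeal (R ⧸ m ^ n) ≤ Ideal.map (Ideal.Quotient.mk (m ^ n)) m := by
    intro x hx
    obtain ⟨y, rfl⟩ := Ideal.Quotient.mk_surjective x
    apply Ideal.mem_map_of_mem
    by_contra hy
    have hu : IsUnit y := by
      by_contra hnu
      exact hy ((IsLocalRing.mem_maximalIdeal y).mpr hnu)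
    exact (IsLocalRing.mem_maximalIdeal _).mp hx (hu.map _)
  haveI : IsArtinianRing (R ⧸ m ^ n) := by
    rw [isArtinianRing_iff_isNilpotent_maximalIdeal]
    refine ⟨n, ?_⟩
    rw [Ideal.zero_eq_bot, eq_bot_iff]
    calc IsLocalRing.maximalIdeal (R ⧸ m ^ n) ^ n
        ≤ (Ideal.map (Ideal.Quotient.mk (m ^ n)) m) ^ n := Ideal.pow_right_mono hmax n
      _ = Ideal.map (Ideal.Quotient.mk (m ^ n)) (m ^ n) := (Ideal.map_pow _ _ _).symm
      _ = ⊥ := Ideal.map_quotient_self _
  let ρ : B →+* (R ⧸ m ^ n) := (Ideal.Quotient.mk (m ^ n)).comp (algebraMap B R)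
  have hker : RingHom.ker φ ≤ RingHom.ker ((IsLocalRing.residue (R ⧸ m ^ n)).comp ρ) := by
    intro c hc
    rw [RingHom.mem_ker, RingHom.comp_apply, IsLocalRing.residue_eq_zero_iff]
    have hcm : algebraMap B R c ∈ m :=
      (IsLocalization.AtPrime.to_map_mem_maximal_iff R p c).mpr (hIp hc)
    rw [IsLocalRing.mem_maximalIdeal, mem_nonunits_iff]
    intro hu
    obtain ⟨z, hz⟩ := hu.exists_right_inv
    obtain ⟨w, rfl⟩ := Ideal.Quotient.mk_surjective z
    have hz' : Ideal.Quotient.mk (m ^ n) (algebraMap B R c * w) =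
        Ideal.Quotient.mk (m ^ n) 1 := by
      rw [map_mul, map_one]; exact hz
    rw [Ideal.Quotient.eq] at hz'
    have h1 : algebraMap B R c * w - 1 ∈ m := Ideal.pow_le_self hn.ne' hz'
    have h2 : (1 : R) ∈ m := by
      have := m.sub_mem (m.mul_mem_right w hcm) h1
      simpa using this
    exact hmtop ((Ideal.eq_top_iff_one _).mpr h2)
  let χ : C →+* IsLocalRing.ResidueField (R ⧸ m ^ n) := φ.liftOfSurjective hφ ⟨_, hker⟩
  have hχ : χ.comp φ = (IsLocalRing.residue _).comp ρ := φ.liftOfSurjective_comp hφ ⟨_, hker⟩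
  obtain ⟨g', hg'⟩ := h (R ⧸ m ^ n) (Spec.map (CommRingCat.ofHom ρ))
    ⟨Spec.map (CommRingCat.ofHom χ), by
      rw [← Spec.map_comp, ← Spec.map_comp, ← CommRingCat.ofHom_comp, ← CommRingCat.ofHom_comp,
        hχ]⟩
  obtain ⟨ψ, rfl⟩ := Spec.map_surjective g'
  rw [← Spec.map_comp] at hg'
  have hψ : CommRingCat.ofHom φ ≫ ψ = CommRingCat.ofHom ρ := Spec.map_injective hg'
  have hρb : ρ b = 0 := by
    have h3 : (CommRingCat.ofHom φ ≫ ψ).hom b = (CommRingCat.ofHom ρ).hom b := by rw [hψ]
    have h4 : ψ.hom (φ b) = ρ b := h3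
    rw [← h4, hb, map_zero]
  exact Ideal.Quotient.eq_zero_iff_mem.mp hρb

lemma core (B C : Type u) [CommRing B] [CommRing C] [IsNoetherianRing B] (φ : B →+* C)
    (hφ : Function.Surjective φ) (h : Hyp (Spec.map (CommRingCat.ofHom φ))) :
    ∃ e : B, IsIdempotentElem e ∧ RingHom.ker φ = Ideal.span {e} := by
  set I := RingHom.ker φ with hI
  have hzero : ∀ (p : Ideal B) [p.IsPrime], I ≤ p → ∀ b ∈ I,
      algebraMap B (Localization.AtPrime p) b = 0 := by
    intro p _ hIp b hb
    have hkrull : (⨅ n : ℕ, (IsLocalRing.maximalIdeal (Localization.AtPrime p)) ^ n) = ⊥ :=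
      Ideal.iInf_pow_eq_bot_of_isLocalRing _
        (IsLocalRing.maximalIdeal.isMaximal (Localization.AtPrime p)).ne_top
    have hmem : ∀ n : ℕ, algebraMap B (Localization.AtPrime p) b ∈
        (IsLocalRing.maximalIdeal (Localization.AtPrime p)) ^ n := by
      intro n
      rcases Nat.eq_zero_or_pos n with rfl | hn
      · simp
      · exact artin_step B C φ hφ h p hIp n hn b hb
    have h5 : algebraMap B (Localization.AtPrime p) b ∈
        (⨅ n : ℕ, (IsLocalRing.maximalIdeal (Localization.AtPrime p)) ^ n) :=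
      (Ideal.mem_iInf).mpr hmem
    rw [hkrull] at h5
    exact h5
  have hle : I ≤ I * I := by
    apply Ideal.le_of_localization_maximal
    intro P hP
    by_cases hIP : I ≤ P
    · rw [Ideal.map_le_iff_le_comap]
      intro b hb
      rw [Ideal.mem_comap, hzero P hIP b hb]
      exact zero_mem _
    · obtain ⟨b, hb, hbP⟩ := Set.not_subset.mp hIP
      have hbb : b * b ∈ P.primeCompl := P.primeCompl.mul_mem hbP hbP
      have hu : IsUnit (algebraMap B (Localization.AtPrime P) (b * b)) :=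
        IsLocalization.map_units (Localization.AtPrime P) ⟨b * b, hbb⟩
      have htop : Ideal.map (algebraMap B (Localization.AtPrime P)) (I * I) = ⊤ :=
        Ideal.eq_top_of_isUnit_mem _ (Ideal.mem_map_of_mem _ (Ideal.mul_mem_mul hb hb)) hu
      rw [htop]
      exact le_top
  have hidem : IsIdempotentElem I := le_antisymm Ideal.mul_le_right hle
  obtain ⟨e, he, heq⟩ := (Ideal.isIdempotentElem_iff_of_fg I
    (IsNoetherian.noetherian I)).mp hidem
  exact ⟨e, he, heq⟩

lemma affine_case {X Y : Scheme.{u}} [IsAffine Y] [IsLocallyNoetherian Y] (f : X ⟶ Y)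
    [IsClosedImmersion f] (h : Hyp f) : IsOpenImmersion f := by
  obtain ⟨hX, hsurj⟩ := IsClosedImmersion.isAffine_surjective_of_isAffine f
  haveI := hX
  haveI : IsNoetherianRing Γ(Y, ⊤) :=
    IsLocallyNoetherian.component_noetherian ⟨⊤, isAffineOpen_top Y⟩
  have w : X.isoSpec.hom ≫ Spec.map f.appTop = f ≫ Y.isoSpec.hom :=
    Scheme.isoSpec_hom_naturality f
  have h' : Hyp (Spec.map f.appTop) :=
    Hyp.of_arrow_iso X.isoSpec Y.isoSpec f (Spec.map f.appTop) w h
  obtain ⟨e, he, hker⟩ := core Γ(Y, ⊤) Γ(X, ⊤) f.appTop.hom hsurj h'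
  haveI : IsOpenImmersion (Spec.map f.appTop) :=
    (isOpenImmersion_SpecMap_iff_of_surjective f.appTop hsurj).mpr ⟨e, he, hker⟩
  have : f = X.isoSpec.hom ≫ Spec.map f.appTop ≫ Y.isoSpec.inv := by
    rw [← Category.assoc, w, Category.assoc, Iso.hom_inv_id, Category.comp_id]
  rw [this]
  infer_instance

end

open CategoryTheory AlgebraicGeometry in
/-- Let S be a locally Noetherian scheme and i : Z → S a closed immersion with the following property:
for every Artinian local ring A with residue field k and every morphism g : Spec A → S, if the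
restriction Spec k → Spec A → S of g factors through i then so does g. Then i is also an open
immersion, i.e. the closed subscheme Z is open in S as a subscheme. (The published hypothesis is an
equivalence; its other direction always holds, so this row assumes only the implication.) -/
theorem result (S : Scheme.{u}) [IsLocallyNoetherian S]
    {Z : Scheme.{u}} (i : Z ⟶ S) [IsClosedImmersion i]
    (h : ∀ (A : Type u) [CommRing A] [IsArtinianRing A] [IsLocalRing A] (g : Spec (CommRingCat.of A) ⟶ S),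
      (∃ t : Spec (CommRingCat.of (IsLocalRing.ResidueField A)) ⟶ Z,
          t ≫ i = Spec.map (CommRingCat.ofHom (IsLocalRing.residue A)) ≫ g) →
        ∃ g' : Spec (CommRingCat.of A) ⟶ Z, g' ≫ i = g) :
    IsOpenImmersion i := by
  have hyp : Hyp i := h
  rw [IsZariskiLocalAtTarget.iff_of_openCover (P := @IsOpenImmersion) S.affineCover]
  intro j
  haveI : IsLocallyNoetherian (S.affineCover.X j) :=
    isLocallyNoetherian_of_isOpenImmersion (S.affineCover.f j)
  exact affine_case (Limits.pullback.snd i (S.affineCover.f j)) (hyp.pullback i _)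

end Groth.Agent.S14614
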