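import Groth.Statements.S14615
-- import your own Groth.Agent.* helpers here
import Mathlib

set_option autoImplicit false
universe u
open Formal2

namespace Groth.Agent.S14615

/-- Let … → G_2 → G_1 → G_0 be an inverse system of abelian groups with transition maps t_n : G_{n+1} →
G_n, and suppose that for every i there is j ≥ i such that the composite transition map G_j → G_i is
zero; this is expressed by asking that every sequence (x_n) ∈ ∏ G_n satisfying x_n = t_n(x_{n+1})
for i ≤ n < j has x_i = 0. Then both lim G_n and lim¹ G_n vanish: the map (x_n) ↦ (x_n −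
t_n(x_{n+1})) on ∏ G_n, whose kernel is lim and whose cokernel is lim¹, is injective and surjective. -/
theorem result (G : ℕ → Type u)
    [∀ n, AddCommGroup (G n)] (t : ∀ n, G (n + 1) →+ G n)
    (h : ∀ i : ℕ, ∃ j : ℕ, i ≤ j ∧
      ∀ x : ∀ n, G n, (∀ n, i ≤ n → n < j → x n = t n (x (n + 1))) → x i = 0) :
    Formal2.limZero G t = ⊥ ∧ Function.Surjective (Formal2.towerDiff G t) := by
  have hS1 : ∀ (k : ℕ) (z : ∀ n, G n) (n : ℕ),
      (((fun (z : ∀ n, G n) (n : ℕ) => t n (z (n + 1)))^[k + 1]) z) n =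
        t n ((((fun (z : ∀ n, G n) (n : ℕ) => t n (z (n + 1)))^[k]) z) (n + 1)) := by
    intro k z n
    rw [Function.iterate_succ_apply']
  have hvan : ∀ i : ℕ, ∃ K : ℕ, ∀ k, K ≤ k → ∀ z : ∀ n, G n,
      (((fun (z : ∀ n, G n) (n : ℕ) => t n (z (n + 1)))^[k]) z) i = 0 := by
    intro i
    obtain ⟨j, hij, hj⟩ := h i
    refine ⟨j - i, fun k hk z => ?_⟩
    have key : ∀ w : ∀ n, G n,
        (((fun (z : ∀ n, G n) (n : ℕ) => t n (z (n + 1)))^[j - i]) w) i = 0 := by
      intro w
      have := hj (fun n => (((fun (z : ∀ n, G n) (n : ℕ) => t n (z (n + 1)))^[j - n]) w) n) (by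
        intro n hin hnj
        have e : j - n = (j - (n + 1)) + 1 := by omega
        show (((fun (z : ∀ n, G n) (n : ℕ) => t n (z (n + 1)))^[j - n]) w) n =
          t n ((((fun (z : ∀ n, G n) (n : ℕ) => t n (z (n + 1)))^[j - (n + 1)]) w) (n + 1))
        rw [e, hS1])
      exact this
    have e : k = (j - i) + (k - (j - i)) := by omega
    rw [e, Function.iterate_add_apply]
    exact key _
  constructor
  · rw [eq_bot_iff]
    intro x hx
    rw [AddMonoidHom.mem_ker] at hx
    have hx' : ∀ n, x n = t n (x (n + 1)) := fun n => by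
      have := congrFun hx n
      exact sub_eq_zero.mp this
    rw [AddSubgroup.mem_bot]
    ext i
    obtain ⟨j, hij, hj⟩ := h i
    exact hj x (fun n _ _ => hx' n)
  · intro y
    choose K hK using hvan
    refine ⟨fun i => ∑ k ∈ Finset.range (K i),
      (((fun (z : ∀ n, G n) (n : ℕ) => t n (z (n + 1)))^[k]) y) i, ?_⟩
    ext i
    show (∑ k ∈ Finset.range (K i),
        (((fun (z : ∀ n, G n) (n : ℕ) => t n (z (n + 1)))^[k]) y) i) -
      t i (∑ k ∈ Finset.range (K (i + 1)),
        (((fun (z : ∀ n, G n) (n : ℕ) => t n (z (n + 1)))^[k]) y) (i + 1)) = y i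
    rw [map_sum]
    have e1 : ∑ k ∈ Finset.range (K i),
        (((fun (z : ∀ n, G n) (n : ℕ) => t n (z (n + 1)))^[k]) y) i =
        ∑ k ∈ Finset.range (max (K i) (K (i + 1)) + 1),
          (((fun (z : ∀ n, G n) (n : ℕ) => t n (z (n + 1)))^[k]) y) i := by
      symm
      exact Finset.eventually_constant_sum (fun n hn => hK i n hn y)
        ((le_max_left _ _).trans (Nat.le_succ _))
    have e2 : ∑ k ∈ Finset.range (K (i + 1)),
        t i ((((fun (z : ∀ n, G n) (n : ℕ) => t n (z (n + 1)))^[k]) y) (i + 1)) =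
        ∑ k ∈ Finset.range (max (K i) (K (i + 1))),
          t i ((((fun (z : ∀ n, G n) (n : ℕ) => t n (z (n + 1)))^[k]) y) (i + 1)) := by
      symm
      exact Finset.eventually_constant_sum
        (fun n hn => by rw [hK (i + 1) n hn y, map_zero]) (le_max_right _ _)
    rw [e1, e2, Finset.sum_range_succ']
    simp only [hS1]
    simp

end Groth.Agent.S14615
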