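import Groth.Statements.S14616
-- import your own Groth.Agent.* helpers here
import Mathlib

set_option autoImplicit false
universe u
open Formal2

namespace Groth.Agent.S14616


open CategoryTheory Opposite

private def T (G : ℕᵒᵖ ⥤ AddCommGrpCat.{u}) {a b : ℕ} (h : a ≤ b) :
    G.obj (op b) → G.obj (op a) :=
  fun x => (G.map (homOfLE h).op).hom x

private lemma T_comp (G : ℕᵒᵖ ⥤ AddCommGrpCat.{u}) {a b c : ℕ} (h1 : a ≤ b) (h2 : b ≤ c)
    (x : G.obj (op c)) : T G h1 (T G h2 x) = T G (h1.trans h2) x := by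
  unfold T
  have : (homOfLE (h1.trans h2)).op = (homOfLE h2).op ≫ (homOfLE h1).op := rfl
  rw [this, G.map_comp]
  rfl

private lemma T_self (G : ℕᵒᵖ ⥤ AddCommGrpCat.{u}) (a : ℕ) (x : G.obj (op a)) :
    T G (le_refl a) x = x := by
  unfold T
  have : (homOfLE (le_refl a)).op = 𝟙 (op a) := rfl
  rw [this, G.map_id]
  rfl

private lemma F_map_eq (G : ℕᵒᵖ ⥤ AddCommGrpCat.{u}) {a b : ℕ} (f : op b ⟶ op a) (h : a ≤ b)
    (x : G.obj (op b)) :
    (G ⋙ forget AddCommGrpCat.{u}).map f x = T G h x := by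
  have : f = (homOfLE h).op := Quiver.Hom.unop_inj (Subsingleton.elim _ _)
  subst this
  rfl

private lemma T_sub (G : ℕᵒᵖ ⥤ AddCommGrpCat.{u}) {a b : ℕ} (h : a ≤ b) (x y : G.obj (op b)) :
    T G h (x - y) = T G h x - T G h y := by
  unfold T
  exact map_sub _ x y

private lemma T_add (G : ℕᵒᵖ ⥤ AddCommGrpCat.{u}) {a b : ℕ} (h : a ≤ b) (x y : G.obj (op b)) :
    T G h (x + y) = T G h x + T G h y := by
  unfold T
  exact map_add _ x y

private lemma T_zero (G : ℕᵒᵖ ⥤ AddCommGrpCat.{u}) {a b : ℕ} (h : a ≤ b) :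
    T G h 0 = 0 := by
  unfold T
  exact map_zero _

private def R (G : ℕᵒᵖ ⥤ AddCommGrpCat.{u}) (n k : ℕ) : Set (G.obj (op n)) :=
  {x | ∃ (h : n ≤ k) (w : G.obj (op k)), T G h w = x}

private lemma R_self (G : ℕᵒᵖ ⥤ AddCommGrpCat.{u}) (n : ℕ) (x : G.obj (op n)) : x ∈ R G n n :=
  ⟨le_refl n, x, T_self G n x⟩

private lemma R_anti (G : ℕᵒᵖ ⥤ AddCommGrpCat.{u}) {n k k' : ℕ} (h : n ≤ k) (h' : k ≤ k') :
    R G n k' ⊆ R G n k := by
  rintro x ⟨h'', w, rfl⟩
  exact ⟨h, T G h' w, T_comp G h h' w⟩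

private lemma R_push (G : ℕᵒᵖ ⥤ AddCommGrpCat.{u}) {n k : ℕ} {x : G.obj (op (n + 1))}
    (hx : x ∈ R G (n + 1) k) : T G (Nat.le_succ n) x ∈ R G n k := by
  obtain ⟨h, w, rfl⟩ := hx
  exact ⟨(Nat.le_succ n).trans h, w, (T_comp G (Nat.le_succ n) h w).symm⟩

private lemma R_sub (G : ℕᵒᵖ ⥤ AddCommGrpCat.{u}) {n k : ℕ} {x y : G.obj (op n)}
    (hx : x ∈ R G n k) (hy : y ∈ R G n k) : x - y ∈ R G n k := by
  obtain ⟨h, w, rfl⟩ := hx
  obtain ⟨h', w', rfl⟩ := hy
  exact ⟨h, w - w', T_sub G h w w'⟩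

private lemma R_zero (G : ℕᵒᵖ ⥤ AddCommGrpCat.{u}) {n k : ℕ} (h : n ≤ k) :
    (0 : G.obj (op n)) ∈ R G n k := ⟨h, 0, T_zero G h⟩

private lemma ml_R (G : ℕᵒᵖ ⥤ AddCommGrpCat.{u})
    (h : (G ⋙ forget AddCommGrpCat.{u}).IsMittagLeffler) (n : ℕ) :
    ∃ N, n ≤ N ∧ ∀ k, n ≤ k → R G n N ⊆ R G n k := by
  obtain ⟨i, f, hf⟩ := h (op n)
  obtain ⟨N⟩ := i
  have hN : n ≤ N := leOfHom f.unop
  refine ⟨N, hN, ?_⟩
  intro k hk x hx
  obtain ⟨h', w, rfl⟩ := hx
  have h1 : (G ⋙ forget AddCommGrpCat.{u}).map f w ∈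
      Set.range ((G ⋙ forget AddCommGrpCat.{u}).map (homOfLE hk).op) := hf _ ⟨w, rfl⟩
  obtain ⟨w', hw'⟩ := h1
  refine ⟨hk, w', ?_⟩
  rw [← F_map_eq G (homOfLE hk).op hk, hw', F_map_eq G f h']

private lemma tower_solve (G : ℕᵒᵖ ⥤ AddCommGrpCat.{u})
    (h : (G ⋙ forget AddCommGrpCat.{u}).IsMittagLeffler) (a : ∀ n, G.obj (op n)) :
    ∃ x : ∀ n, G.obj (op n), ∀ n, x n - T G (Nat.le_succ n) (x (n + 1)) = a n := by
  choose N hN hML using ml_R G h
  have Hlift : ∀ n (x : G.obj (op n)), x ∈ R G n (N n) →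
      ∃ x' : G.obj (op (n + 1)), x' ∈ R G (n + 1) (N (n + 1)) ∧
        T G (Nat.le_succ n) x' = x := by
    intro n x hx
    have hk : n ≤ max (N n) (N (n + 1)) := (hN n).trans (le_max_left _ _)
    have hk' : n + 1 ≤ max (N n) (N (n + 1)) := (hN (n + 1)).trans (le_max_right _ _)
    obtain ⟨h1, w, rfl⟩ := hML n _ hk hx
    refine ⟨T G hk' w, R_anti G (hN (n + 1)) (le_max_right _ _) ⟨hk', w, rfl⟩, ?_⟩
    exact T_comp G (Nat.le_succ n) hk' w
  have step2 : ∀ c : ∀ n, G.obj (op n), (∀ n, c n ∈ R G n (N n)) →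
      ∃ z : ∀ n, G.obj (op n), ∀ n, z n - T G (Nat.le_succ n) (z (n + 1)) = c n := by
    intro c hc
    let Z : ∀ n, {x : G.obj (op n) // x ∈ R G n (N n)} := fun n =>
      Nat.rec (motive := fun n => {x : G.obj (op n) // x ∈ R G n (N n)})
        ⟨0, R_zero G (hN 0)⟩
        (fun n zn => ⟨(Hlift n (zn.1 - c n) (R_sub G zn.2 (hc n))).choose,
          (Hlift n (zn.1 - c n) (R_sub G zn.2 (hc n))).choose_spec.1⟩) n
    refine ⟨fun n => (Z n).1, fun n => ?_⟩
    have h3 := (Hlift n ((Z n).1 - c n) (R_sub G (Z n).2 (hc n))).choose_spec.2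
    change (Z n).1 - T G (Nat.le_succ n)
      (Hlift n ((Z n).1 - c n) (R_sub G (Z n).2 (hc n))).choose = c n
    rw [h3]
    abel
  let P : ℕ → ∀ n, G.obj (op n) := fun d =>
    Nat.rec (motive := fun _ => ∀ n, G.obj (op n)) (fun n => 0)
      (fun d Pd n => a n + T G (Nat.le_succ n) (Pd (n + 1))) d
  have Ps : ∀ d n, P (d + 1) n = a n + T G (Nat.le_succ n) (P d (n + 1)) := fun d n => rfl
  have claimA : ∀ d d' n, d ≤ d' → P d' n - P d n ∈ R G n (n + d) := by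
    intro d
    induction d with
    | zero => intro d' n _; exact R_self G n _
    | succ d ih =>
      intro d' n hd
      obtain ⟨d'', rfl⟩ : ∃ d'', d' = d'' + 1 := ⟨d' - 1, by omega⟩
      have h1 := R_push G (ih d'' (n + 1) (by omega))
      rw [T_sub] at h1
      have h2 : n + 1 + d = n + (d + 1) := by omega
      rw [h2] at h1
      rw [Ps, Ps]
      have h3 : a n + T G (Nat.le_succ n) (P d'' (n + 1)) -
          (a n + T G (Nat.le_succ n) (P d (n + 1))) =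
          T G (Nat.le_succ n) (P d'' (n + 1)) - T G (Nat.le_succ n) (P d (n + 1)) := by abel
      rw [h3]
      exact h1
  obtain ⟨D, hD1, hD2⟩ : ∃ D : ℕ → ℕ, (∀ n, N n ≤ D n) ∧ (∀ n, D n ≤ D (n + 1)) :=
    ⟨fun n => (Finset.range (n + 1)).sup N,
      fun n => Finset.le_sup (f := N) (Finset.mem_range.mpr (Nat.lt_succ_self n)),
      fun n => Finset.sup_mono (Finset.range_mono (Nat.le_succ _))⟩
  have hc : ∀ n, a n - (P (D n) n - T G (Nat.le_succ n) (P (D (n + 1)) (n + 1))) ∈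
      R G n (N n) := by
    intro n
    have h1 := claimA (D n) (D (n + 1) + 1) n (by have := hD2 n; omega)
    rw [Ps] at h1
    have h2 : a n - (P (D n) n - T G (Nat.le_succ n) (P (D (n + 1)) (n + 1))) =
        a n + T G (Nat.le_succ n) (P (D (n + 1)) (n + 1)) - P (D n) n := by abel
    rw [h2]
    exact R_anti G (hN n) (by have := hD1 n; omega) h1
  obtain ⟨z, hz⟩ := step2 _ hc
  refine ⟨fun n => P (D n) n + z n, fun n => ?_⟩
  change P (D n) n + z n - T G (Nat.le_succ n) (P (D (n + 1)) (n + 1) + z (n + 1)) = a n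
  rw [T_add]
  have e : P (D n) n + z n - (T G (Nat.le_succ n) (P (D (n + 1)) (n + 1)) +
      T G (Nat.le_succ n) (z (n + 1))) =
      (P (D n) n - T G (Nat.le_succ n) (P (D (n + 1)) (n + 1))) +
      (z n - T G (Nat.le_succ n) (z (n + 1))) := by abel
  rw [e, hz n]
  abel

open CategoryTheory in
/-- Let … → G_2 → G_1 → G_0 be an inverse system of abelian groups with transition maps t_n : G_{n+1} →
G_n which satisfies the Mittag-Leffler condition: for every i there is j ≥ i such that for all k ≥ j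
the images of G_k → G_i and G_j → G_i coincide. Then lim¹ G_n = 0, i.e. the map (x_n) ↦ (x_n −
t_n(x_{n+1})) on ∏ G_n is surjective. -/
theorem result (G : ℕ → Type u) [∀ n, AddCommGroup (G n)]
    (t : ∀ n, G (n + 1) →+ G n)
    (h : (Functor.ofOpSequence (X := fun n => AddCommGrpCat.of (G n))
      (fun n => AddCommGrpCat.ofHom (t n)) ⋙ forget AddCommGrpCat).IsMittagLeffler) :
    Function.Surjective (Formal2.towerDiff G t) := by
  intro a
  obtain ⟨x, hx⟩ := tower_solve (Functor.ofOpSequence (X := fun n => AddCommGrpCat.of (G n))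
    (fun n => AddCommGrpCat.ofHom (t n))) h a
  refine ⟨x, ?_⟩
  funext n
  have e := Functor.ofOpSequence_map_homOfLE_succ (X := fun n => AddCommGrpCat.of (G n))
    (fun n => AddCommGrpCat.ofHom (t n)) n
  have h1 := hx n
  unfold T at h1
  rw [e] at h1
  exact h1

end Groth.Agent.S14616
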