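import Groth.Statements.S14617
-- import your own Groth.Agent.* helpers here
import Mathlib

set_option autoImplicit false
universe u
open Formal2

namespace Groth.Agent.S14617


private lemma snake {P' P P'' : Type u} [AddCommGroup P'] [AddCommGroup P] [AddCommGroup P'']
    (D' : P' →+ P') (D : P →+ P) (D'' : P'' →+ P'') (U : P' →+ P) (V : P →+ P'')
    (hDU : ∀ x, D (U x) = U (D' x)) (hDV : ∀ x, D'' (V x) = V (D x))
    (hUinj : Function.Injective U) (hVsurj : Function.Surjective V)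
    (hVU : ∀ w, V (U w) = 0) (hex : ∀ y, V y = 0 → ∃ w, U w = y) :
    ∃ (α : D'.ker →+ D.ker) (β : D.ker →+ D''.ker) (δ : D''.ker →+ P' ⧸ D'.range)
      (ε : P' ⧸ D'.range →+ P ⧸ D.range) (ζ : P ⧸ D.range →+ P'' ⧸ D''.range),
      (∀ x : D'.ker, (α x : P) = U x) ∧ (∀ x : D.ker, (β x : P'') = V x) ∧
      (∀ (z : D''.ker) (y : P) (w : P'), V y = z → U w = D y →
        δ z = (QuotientAddGroup.mk w : P' ⧸ D'.range)) ∧
      (∀ y : P', ε (QuotientAddGroup.mk y) = (QuotientAddGroup.mk (U y) : P ⧸ D.range)) ∧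
      (∀ y : P, ζ (QuotientAddGroup.mk y) = (QuotientAddGroup.mk (V y) : P'' ⧸ D''.range)) ∧
      Function.Injective α ∧ α.range = β.ker ∧ β.range = δ.ker ∧ δ.range = ε.ker ∧
      ε.range = ζ.ker ∧ Function.Surjective ζ := by
  classical
  let α : D'.ker →+ D.ker := (U.comp D'.ker.subtype).codRestrict D.ker (fun x => by
    rw [AddMonoidHom.mem_ker, AddMonoidHom.comp_apply, AddSubgroup.coe_subtype, hDU,
      (AddMonoidHom.mem_ker.mp x.2), map_zero])
  let β : D.ker →+ D''.ker := (V.comp D.ker.subtype).codRestrict D''.ker (fun x => by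
    rw [AddMonoidHom.mem_ker, AddMonoidHom.comp_apply, AddSubgroup.coe_subtype, hDV,
      (AddMonoidHom.mem_ker.mp x.2), map_zero])
  have hα : ∀ x : D'.ker, (α x : P) = U x := fun x => rfl
  have hβ : ∀ x : D.ker, (β x : P'') = V x := fun x => rfl
  let ε : P' ⧸ D'.range →+ P ⧸ D.range := QuotientAddGroup.map D'.range D.range U (by
    rintro _ ⟨x, rfl⟩
    exact ⟨U x, hDU x⟩)
  let ζ : P ⧸ D.range →+ P'' ⧸ D''.range := QuotientAddGroup.map D.range D''.range V (by
    rintro _ ⟨x, rfl⟩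
    exact ⟨V x, hDV x⟩)
  have hε : ∀ y : P', ε (QuotientAddGroup.mk y) = (QuotientAddGroup.mk (U y) : P ⧸ D.range) :=
    fun y => rfl
  have hζ : ∀ y : P, ζ (QuotientAddGroup.mk y) = (QuotientAddGroup.mk (V y) : P'' ⧸ D''.range) :=
    fun y => rfl
  have hδwd : ∀ (y₁ y₂ : P) (w₁ w₂ : P'), V y₁ = V y₂ → U w₁ = D y₁ → U w₂ = D y₂ →
      (QuotientAddGroup.mk w₁ : P' ⧸ D'.range) = QuotientAddGroup.mk w₂ := by
    intro y₁ y₂ w₁ w₂ hV h1 h2
    obtain ⟨x, hx⟩ := hex (y₁ - y₂) (by rw [map_sub, hV, sub_self])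
    rw [QuotientAddGroup.eq]
    refine ⟨-x, ?_⟩
    apply hUinj
    have e1 : U (D' (-x)) = -(D y₁ - D y₂) := by
      rw [← hDU, map_neg, hx, map_neg, map_sub]
    have e2 : U (-w₁ + w₂) = -(D y₁) + D y₂ := by
      rw [map_add, map_neg, h1, h2]
    rw [e1, e2]
    abel
  choose yc hyc using fun z : D''.ker => hVsurj (z : P'')
  have hwex : ∀ z : D''.ker, ∃ w, U w = D (yc z) := by
    intro z
    apply hex
    rw [← hDV, hyc]
    exact AddMonoidHom.mem_ker.mp z.2
  choose wc hwc using hwex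
  have hδspec : ∀ (z : D''.ker) (y : P) (w : P'), V y = z → U w = D y →
      (QuotientAddGroup.mk (wc z) : P' ⧸ D'.range) = QuotientAddGroup.mk w := by
    intro z y w hy hw
    exact hδwd (yc z) y (wc z) w ((hyc z).trans hy.symm) (hwc z) hw
  let δ : D''.ker →+ P' ⧸ D'.range :=
    AddMonoidHom.mk' (fun z => QuotientAddGroup.mk (wc z)) (by
      intro z₁ z₂
      have h1 := hδspec (z₁ + z₂) (yc z₁ + yc z₂) (wc z₁ + wc z₂)
        (by rw [map_add, hyc, hyc]; rfl) (by rw [map_add, map_add, hwc, hwc])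
      change (QuotientAddGroup.mk (wc (z₁ + z₂)) : P' ⧸ D'.range) =
        QuotientAddGroup.mk (wc z₁) + QuotientAddGroup.mk (wc z₂)
      rw [h1]
      rfl)
  have hδ : ∀ (z : D''.ker) (y : P) (w : P'), V y = z → U w = D y →
      δ z = (QuotientAddGroup.mk w : P' ⧸ D'.range) := hδspec
  have hδdef : ∀ z : D''.ker, δ z = (QuotientAddGroup.mk (wc z) : P' ⧸ D'.range) := fun z => rfl
  refine ⟨α, β, δ, ε, ζ, hα, hβ, hδ, hε, hζ, ?_, ?_, ?_, ?_, ?_, ?_⟩
  · intro x y hxy
    apply Subtype.ext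
    apply hUinj
    rw [← hα, ← hα, hxy]
  · ext x
    constructor
    · rintro ⟨w, rfl⟩
      rw [AddMonoidHom.mem_ker]
      apply Subtype.ext
      rw [hβ, hα, hVU]
      rfl
    · intro hx
      rw [AddMonoidHom.mem_ker] at hx
      have hx' : V x = 0 := by
        rw [← hβ, hx]
        rfl
      obtain ⟨w, hw⟩ := hex _ hx'
      have hw0 : D' w = 0 := by
        apply hUinj
        rw [← hDU, hw, map_zero]
        exact AddMonoidHom.mem_ker.mp x.2
      exact ⟨⟨w, AddMonoidHom.mem_ker.mpr hw0⟩, Subtype.ext hw⟩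
  · ext z
    constructor
    · rintro ⟨x, rfl⟩
      rw [AddMonoidHom.mem_ker]
      rw [hδ (β x) x 0 (hβ x).symm (by rw [map_zero]; exact (AddMonoidHom.mem_ker.mp x.2).symm)]
      rfl
    · intro hz
      rw [AddMonoidHom.mem_ker, hδdef, QuotientAddGroup.eq_zero_iff] at hz
      obtain ⟨s, hs⟩ := hz
      have hx : D (yc z - U s) = 0 := by
        rw [map_sub, hDU, hs, hwc, sub_self]
      refine ⟨⟨yc z - U s, AddMonoidHom.mem_ker.mpr hx⟩, Subtype.ext ?_⟩
      rw [hβ]
      change V (yc z - U s) = z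
      rw [map_sub, hVU, sub_zero, hyc]
  · ext c
    constructor
    · rintro ⟨z, rfl⟩
      rw [AddMonoidHom.mem_ker, hδdef, hε, hwc, QuotientAddGroup.eq_zero_iff]
      exact ⟨yc z, rfl⟩
    · intro hc
      obtain ⟨w, rfl⟩ := QuotientAddGroup.mk_surjective c
      rw [AddMonoidHom.mem_ker, hε, QuotientAddGroup.eq_zero_iff] at hc
      obtain ⟨y, hy⟩ := hc
      have hz : D'' (V y) = 0 := by rw [hDV, hy, hVU]
      exact ⟨⟨V y, AddMonoidHom.mem_ker.mpr hz⟩, hδ _ y w rfl hy.symm⟩
  · ext c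
    constructor
    · rintro ⟨c', rfl⟩
      obtain ⟨w, rfl⟩ := QuotientAddGroup.mk_surjective c'
      rw [AddMonoidHom.mem_ker, hε, hζ, hVU]
      rfl
    · intro hc
      obtain ⟨y, rfl⟩ := QuotientAddGroup.mk_surjective c
      rw [AddMonoidHom.mem_ker, hζ, QuotientAddGroup.eq_zero_iff] at hc
      obtain ⟨s'', hs''⟩ := hc
      obtain ⟨s, rfl⟩ := hVsurj s''
      obtain ⟨w, hw⟩ := hex (y - D s) (by rw [map_sub, ← hDV, hs'', sub_self])
      refine ⟨QuotientAddGroup.mk w, ?_⟩
      rw [hε, hw, QuotientAddGroup.eq]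
      exact ⟨s, by abel⟩
  · intro c
    obtain ⟨z, rfl⟩ := QuotientAddGroup.mk_surjective c
    obtain ⟨y, rfl⟩ := hVsurj z
    exact ⟨QuotientAddGroup.mk y, hζ y⟩

/-- Let 0 → (G'_n) → (G_n) → (G''_n) → 0 be a short exact sequence of inverse systems of abelian groups
indexed by ℕ: maps u_n : G'_n → G_n and v_n : G_n → G''_n commuting with the transition maps, with
u_n injective, v_n surjective and ker v_n = im u_n for every n. Writing lim and lim¹ for the kernel
and cokernel of (x_n) ↦ (x_n − t_n(x_{n+1})) on the product, there is an exact sequence 0 → lim G' →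
lim G → lim G'' → lim¹ G' → lim¹ G → lim¹ G'' → 0 in which the four outer maps are the ones induced
by u and v on products and the connecting map δ sends a compatible sequence (z_n) to the class of
the unique (w_n) with u_n(w_n) = y_n − t_n(y_{n+1}), for any levelwise lift (y_n) of (z_n). -/
theorem result (G' G G'' : ℕ → Type u)
    [∀ n, AddCommGroup (G' n)] [∀ n, AddCommGroup (G n)] [∀ n, AddCommGroup (G'' n)]
    (t' : ∀ n, G' (n + 1) →+ G' n) (t : ∀ n, G (n + 1) →+ G n) (t'' : ∀ n, G'' (n + 1) →+ G'' n)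
    (u : ∀ n, G' n →+ G n) (v : ∀ n, G n →+ G'' n)
    (hu : ∀ n x, t n (u (n + 1) x) = u n (t' n x)) (hv : ∀ n x, t'' n (v (n + 1) x) = v n (t n x))
    (hinj : ∀ n, Function.Injective (u n)) (hsurj : ∀ n, Function.Surjective (v n))
    (hex : ∀ n, (v n).ker = (u n).range) :
    ∃ (α : Formal2.limZero G' t' →+ Formal2.limZero G t) (β : Formal2.limZero G t →+ Formal2.limZero G'' t'')
      (δ : Formal2.limZero G'' t'' →+ Formal2.limOne G' t')
      (ε : Formal2.limOne G' t' →+ Formal2.limOne G t) (ζ : Formal2.limOne G t →+ Formal2.limOne G'' t''),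
      (∀ (x : Formal2.limZero G' t') (n : ℕ), (α x : ∀ n, G n) n = u n ((x : ∀ n, G' n) n)) ∧
      (∀ (x : Formal2.limZero G t) (n : ℕ), (β x : ∀ n, G'' n) n = v n ((x : ∀ n, G n) n)) ∧
      (∀ (z : Formal2.limZero G'' t'') (y : ∀ n, G n) (w : ∀ n, G' n),
          (∀ n, v n (y n) = (z : ∀ n, G'' n) n) → (∀ n, u n (w n) = Formal2.towerDiff G t y n) →
            δ z = (QuotientAddGroup.mk w : Formal2.limOne G' t')) ∧
      (∀ y : ∀ n, G' n, ε (QuotientAddGroup.mk y : Formal2.limOne G' t') =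
          (QuotientAddGroup.mk (fun n => u n (y n)) : Formal2.limOne G t)) ∧
      (∀ y : ∀ n, G n, ζ (QuotientAddGroup.mk y : Formal2.limOne G t) =
          (QuotientAddGroup.mk (fun n => v n (y n)) : Formal2.limOne G'' t'')) ∧
      Function.Injective α ∧ α.range = β.ker ∧ β.range = δ.ker ∧ δ.range = ε.ker ∧ ε.range = ζ.ker ∧
      Function.Surjective ζ := by
  classical
  let U : (∀ n, G' n) →+ (∀ n, G n) :=
    { toFun := fun x n => u n (x n)
      map_zero' := by funext n; exact map_zero _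
      map_add' := fun x y => by funext n; exact map_add _ _ _ }
  let V : (∀ n, G n) →+ (∀ n, G'' n) :=
    { toFun := fun x n => v n (x n)
      map_zero' := by funext n; exact map_zero _
      map_add' := fun x y => by funext n; exact map_add _ _ _ }
  have hDU : ∀ x, Formal2.towerDiff G t (U x) = U (Formal2.towerDiff G' t' x) := by
    intro x
    funext n
    change u n (x n) - t n (u (n + 1) (x (n + 1))) = u n (x n - t' n (x (n + 1)))
    rw [hu, map_sub]
  have hDV : ∀ x, Formal2.towerDiff G'' t'' (V x) = V (Formal2.towerDiff G t x) := by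
    intro x
    funext n
    change v n (x n) - t'' n (v (n + 1) (x (n + 1))) = v n (x n - t n (x (n + 1)))
    rw [hv, map_sub]
  have hUinj : Function.Injective U := by
    intro x y hxy
    funext n
    exact hinj n (congrFun hxy n)
  have hVsurj : Function.Surjective V := by
    intro z
    choose y hy using fun n => hsurj n (z n)
    exact ⟨y, funext hy⟩
  have hex' : ∀ y, V y = 0 → ∃ w, U w = y := by
    intro y hy
    have h1 : ∀ n, ∃ w, u n w = y n := by
      intro n
      have h2 : y n ∈ (v n).ker := by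
        rw [AddMonoidHom.mem_ker]
        exact congrFun hy n
      rw [hex n] at h2
      exact h2
    choose w hw using h1
    exact ⟨w, funext hw⟩
  have hVU : ∀ w, V (U w) = 0 := by
    intro w
    funext n
    have h2 : u n (w n) ∈ (v n).ker := by
      rw [hex n]
      exact ⟨w n, rfl⟩
    exact AddMonoidHom.mem_ker.mp h2
  obtain ⟨α, β, δ, ε, ζ, hα, hβ, hδ, hε, hζ, h1, h2, h3, h4, h5, h6⟩ :=
    snake (Formal2.towerDiff G' t') (Formal2.towerDiff G t) (Formal2.towerDiff G'' t'') U V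
      hDU hDV hUinj hVsurj hVU hex'
  refine ⟨α, β, δ, ε, ζ, fun x n => congrFun (hα x) n, fun x n => congrFun (hβ x) n, ?_,
    hε, hζ, h1, h2, h3, h4, h5, h6⟩
  intro z y w hy hw
  exact hδ z y w (funext hy) (funext hw)

end Groth.Agent.S14617
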