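import Groth.Statements.S14641
-- import your own Groth.Agent.* helpers here
import Mathlib

set_option autoImplicit false
universe u
open CategoryTheory MonoidalCategory CartesianMonoidalCategory MonObj GrpObj AlgebraicGeometry CategoryTheory.Limits
open AlgGrp

namespace Groth.Agent.S14641

variable {S : Scheme.{u}} {G Q : Over S} [GrpObj G]

lemma act_one (a : AlgGrp.Action G Q) {T : Over S} (x : T ⟶ Q) :
    lift (1 : T ⟶ G) x ≫ a.act = x := by
  have h1 : lift (1 : T ⟶ G) x = lift (toUnit T) x ≫ (η[G] ▷ Q) := by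
    rw [lift_whiskerRight, ← Hom.one_def]
  rw [h1, Category.assoc, a.one_act, leftUnitor_hom, lift_snd]

lemma act_mul (a : AlgGrp.Action G Q) {T : Over S} (g h : T ⟶ G) (x : T ⟶ Q) :
    lift (g * h) x ≫ a.act = lift g (lift h x ≫ a.act) ≫ a.act := by
  have h1 : lift (g * h) x = lift (lift g h) x ≫ (μ[G] ▷ Q) := by
    rw [lift_whiskerRight, Hom.mul_def]
  rw [h1, Category.assoc, a.mul_act, lift_lift_associator_hom_assoc, lift_whiskerLeft_assoc]

lemma comp_orbitMap (a : AlgGrp.Action G Q) (o : 𝟙_ (Over S) ⟶ Q) {T : Over S} (g : T ⟶ G) :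
    g ≫ a.orbitMap o = lift g (toUnit T ≫ o) ≫ a.act := by
  unfold AlgGrp.Action.orbitMap
  rw [← Category.assoc, comp_lift, Category.comp_id, ← Category.assoc g,
    toUnit_unique (g ≫ toUnit G) (toUnit T)]

lemma exists_cover {X Y Z : Over S} (x : X ⟶ Z) (π : Y ⟶ Z) [Flat π.left] [Surjective π.left] :
    ∃ (W : Over S) (p : W ⟶ X) (gm : W ⟶ Y), Epi p ∧ p ≫ x = gm ≫ π := by
  have hgm : pullback.snd x.left π.left ≫ Y.hom = pullback.fst x.left π.left ≫ X.hom := by
    rw [← Over.w π, ← Over.w x, ← Category.assoc, ← Category.assoc, pullback.condition]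
  refine ⟨Over.mk (pullback.fst x.left π.left ≫ X.hom),
    Over.homMk (pullback.fst x.left π.left) rfl,
    Over.homMk (pullback.snd x.left π.left) hgm, ?_, ?_⟩
  · haveI : Epi (pullback.fst x.left π.left) := Flat.epi_of_flat_of_surjective _
    apply (Over.forget S).epi_of_epi_map
    exact this
  · apply Over.OverMorphism.ext
    exact pullback.condition

/-- Over a field k, let G be a k-group scheme of finite type, i : H → G a closed subgroup scheme, and
(Q, o) the quotient G/H: a k-scheme with a G-action and a rational point o exhibiting it as the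
quotient (orbit map flat and surjective, G × H ≅ G ×_Q G). Let n : N → G be a closed subgroup scheme
which is the kernel of the action of G on Q, i.e. for every k-scheme T, a T-point g of G factors
through N exactly when g acts as the identity on Q_T (on all points of Q over T-schemes). Then N is
normal in G and contained in H, and N is the largest such subgroup: every closed subgroup scheme N'
of G which is normal in G and factors through H factors through N. -/
theorem result (k : Type u) [Field k]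
    (G H Q N : Over (Spec (CommRingCat.of k))) [GrpObj G] [LocallyOfFiniteType G.hom] [QuasiCompact G.hom]
    [GrpObj H] (i : H ⟶ G) [IsMonHom i] [IsClosedImmersion i.left]
    (a : AlgGrp.Action G Q) (o : 𝟙_ (Over (Spec (CommRingCat.of k))) ⟶ Q) (hQ : AGF.IsQuotient i Q a o)
    [GrpObj N] (n : N ⟶ G) [IsMonHom n] [IsClosedImmersion n.left]
    (hN : ∀ (T : Over (Spec (CommRingCat.of k))) (g : T ⟶ G),
      (∃ m : T ⟶ N, m ≫ n = g) ↔
        ∀ (T' : Over (Spec (CommRingCat.of k))) (s : T' ⟶ T) (x : T' ⟶ Q),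
          CartesianMonoidalCategory.lift (s ≫ g) x ≫ a.act = x) :
    AlgGrp.IsNormalHom n ∧ (∃ f : N ⟶ H, f ≫ i = n) ∧
      ∀ (N' : Over (Spec (CommRingCat.of k))) [GrpObj N'] (n' : N' ⟶ G) [IsMonHom n'] [IsClosedImmersion n'.left],
        AlgGrp.IsNormalHom n' → (∃ f : N' ⟶ H, f ≫ i = n') → ∃ f' : N' ⟶ N, f' ≫ n = n' := by
  obtain ⟨hQlft, hflat, hsurj, hpb⟩ := hQ
  have triv_of : ∀ {T : Over (Spec (CommRingCat.of k))} (m : T ⟶ N)
      (T' : Over (Spec (CommRingCat.of k))) (s : T' ⟶ T) (x : T' ⟶ Q),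
      lift (s ≫ m ≫ n) x ≫ a.act = x :=
    fun m T' s x => (hN _ (m ≫ n)).mp ⟨m, rfl⟩ T' s x
  refine ⟨?_, ?_, ?_⟩
  · intro T g m
    suffices hh : ∃ m' : T ⟶ N, m' ≫ n = g * (m ≫ n) * g⁻¹ by
      obtain ⟨m', hm'⟩ := hh
      exact ⟨m', hm'.symm⟩
    apply (hN T (g * (m ≫ n) * g⁻¹)).mpr
    intro T' s x
    have e : s ≫ (g * (m ≫ n) * g⁻¹) = (s ≫ g) * (s ≫ m ≫ n) * (s ≫ g)⁻¹ := by
      rw [MonObj.comp_mul, MonObj.comp_mul, GrpObj.comp_inv]
    rw [e, act_mul, act_mul, triv_of m T' s, ← act_mul, _root_.mul_inv_cancel, act_one]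
  · have hw : (1 : N ⟶ G) ≫ a.orbitMap o = n ≫ a.orbitMap o := by
      rw [comp_orbitMap, comp_orbitMap, act_one]
      have := triv_of (𝟙 N) N (𝟙 N) (toUnit N ≫ o)
      rw [Category.id_comp, Category.id_comp] at this
      exact this.symm
    have hl1 := hpb.lift_fst (1 : N ⟶ G) n hw
    have hl2 := hpb.lift_snd (1 : N ⟶ G) n hw
    generalize hpb.lift (1 : N ⟶ G) n hw = l at hl1 hl2
    refine ⟨l ≫ snd G H, ?_⟩
    have hl : l = lift (1 : N ⟶ G) (l ≫ snd G H) := by
      apply CartesianMonoidalCategory.hom_ext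
      · rw [lift_fst, hl1]
      · rw [lift_snd]
    calc (l ≫ snd G H) ≫ i = 1 * ((l ≫ snd G H) ≫ i) := (_root_.one_mul _).symm
      _ = lift 1 ((l ≫ snd G H) ≫ i) ≫ μ[G] := Hom.mul_def _ _
      _ = lift 1 (l ≫ snd G H) ≫ (G ◁ i) ≫ μ[G] := by rw [lift_whiskerLeft_assoc]
      _ = l ≫ (G ◁ i) ≫ μ[G] := by rw [← hl]
      _ = n := hl2
  · intro N' _ n' _ _ hnorm hfac
    obtain ⟨f, hf⟩ := hfac
    apply (hN N' n').mpr
    intro T' s x
    haveI : Flat (a.orbitMap o).left := hflat
    haveI : Surjective (a.orbitMap o).left := hsurj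
    obtain ⟨T'', p, gm, hp, hpgm⟩ := exists_cover x (a.orbitMap o)
    rw [← cancel_epi p, comp_lift_assoc, hpgm, comp_orbitMap, ← act_mul]
    obtain ⟨n'', hn''⟩ := hnorm T'' gm⁻¹ (p ≫ s)
    have hc : (p ≫ s ≫ n') * gm = gm * ((n'' ≫ f) ≫ i) := by
      rw [Category.assoc n'', hf, ← hn'', _root_.inv_inv, Category.assoc, ← _root_.mul_assoc,
        ← _root_.mul_assoc, _root_.mul_inv_cancel, _root_.one_mul]
    have hstab : lift ((n'' ≫ f) ≫ i) (toUnit T'' ≫ o) ≫ a.act = toUnit T'' ≫ o := by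
      have h2 : lift (1 : T'' ⟶ G) (n'' ≫ f) ≫ fst G H ≫ a.orbitMap o =
          lift 1 (n'' ≫ f) ≫ ((G ◁ i) ≫ μ[G]) ≫ a.orbitMap o := by rw [hpb.w]
      rw [lift_fst_assoc, Category.assoc, lift_whiskerLeft_assoc, ← Category.assoc (lift _ _),
        ← Hom.mul_def, _root_.one_mul, comp_orbitMap, comp_orbitMap, act_one] at h2
      exact h2.symm
    rw [hc, act_mul, hstab]

end Groth.Agent.S14641
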