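import Groth.Statements.S14677
-- import your own Groth.Agent.* helpers here
import Mathlib

set_option autoImplicit false
universe u
open CAlg

namespace Groth.Agent.S14677

/-- Let A be a Noetherian commutative ring, I and J ideals of A and M a finitely generated A-module.
Then the map of I-adic completions induced by the inclusion of the submodule JM into M is injective
with image exactly J·M̂, where M̂ is the I-adic completion of M; that is, the completion of JM is J
times the completion of M. (The published statement does not say that A is Noetherian; its proof
uses exactness of completion on finitely generated modules, which needs it, so this row assumes A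
Noetherian.) -/
theorem result (A : Type u) [CommRing A] [IsNoetherianRing A] (I J : Ideal A)
    (M : Type u) [AddCommGroup M] [Module A M] [Module.Finite A M] :
    Function.Injective (AdicCompletion.map I (J • (⊤ : Submodule A M)).subtype) ∧
      LinearMap.range (AdicCompletion.map I (J • (⊤ : Submodule A M)).subtype) =
        (J.map (algebraMap A (AdicCompletion I A))) • (⊤ : Submodule (AdicCompletion I A) (AdicCompletion I M)) := by
  classical
  haveI : IsNoetherian A M := isNoetherian_of_isNoetherianRing_of_finite A M
  haveI : Module.Finite A ↥(J • (⊤ : Submodule A M)) := inferInstance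
  refine ⟨AdicCompletion.map_injective I (Submodule.injective_subtype _), ?_⟩
  apply le_antisymm
  · rintro _ ⟨y, rfl⟩
    obtain ⟨t, rfl⟩ := AdicCompletion.ofTensorProduct_surjective_of_finite I
      ↥(J • (⊤ : Submodule A M)) y
    induction t using TensorProduct.induction_on with
    | zero => simp
    | tmul a n =>
      rw [AdicCompletion.ofTensorProduct_tmul, map_smul]
      refine Submodule.smul_mem _ a ?_
      obtain ⟨n, hn⟩ := n
      change AdicCompletion.of I M n ∈ _
      refine Submodule.smul_induction_on
        (p := fun n => AdicCompletion.of I M n ∈
          (J.map (algebraMap A (AdicCompletion I A))) •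
            (⊤ : Submodule (AdicCompletion I A) (AdicCompletion I M))) hn ?_ ?_
      · intro j hj m _
        rw [map_smul, ← algebraMap_smul (AdicCompletion I A) j (AdicCompletion.of I M m)]
        exact Submodule.smul_mem_smul (Ideal.mem_map_of_mem _ hj) Submodule.mem_top
      · intro x y hx hy
        rw [map_add]; exact Submodule.add_mem _ hx hy
    | add x y hx hy =>
      rw [map_add, map_add]; exact Submodule.add_mem _ hx hy
  · rw [Submodule.smul_le]
    intro r hr x _
    have hr' : r ∈ Submodule.span (AdicCompletion I A)
        ((algebraMap A (AdicCompletion I A)) '' (J : Set A)) := hr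
    revert x
    refine Submodule.span_induction (p := fun r _ => ∀ x : AdicCompletion I M, x ∈ (⊤ : Submodule (AdicCompletion I A) (AdicCompletion I M)) →
      r • x ∈ LinearMap.range (AdicCompletion.map I (J • (⊤ : Submodule A M)).subtype))
      ?_ ?_ ?_ ?_ hr'
    · rintro _ ⟨j, hj, rfl⟩ x _
      obtain ⟨t, rfl⟩ := AdicCompletion.ofTensorProduct_surjective_of_finite I M x
      induction t using TensorProduct.induction_on with
      | zero => simp
      | tmul a m =>
        have hjm : j • m ∈ J • (⊤ : Submodule A M) :=
          Submodule.smul_mem_smul hj Submodule.mem_top
        refine ⟨a • AdicCompletion.of I ↥(J • (⊤ : Submodule A M)) ⟨j • m, hjm⟩, ?_⟩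
        calc AdicCompletion.map I (J • (⊤ : Submodule A M)).subtype
              (a • AdicCompletion.of I ↥(J • (⊤ : Submodule A M)) ⟨j • m, hjm⟩)
            = a • AdicCompletion.map I (J • (⊤ : Submodule A M)).subtype
              (AdicCompletion.of I ↥(J • (⊤ : Submodule A M)) ⟨j • m, hjm⟩) := map_smul _ _ _
          _ = a • AdicCompletion.of I M (j • m) := rfl
          _ = a • (j • AdicCompletion.of I M m) := by rw [map_smul]
          _ = a • (algebraMap A (AdicCompletion I A) j • AdicCompletion.of I M m) := by
              rw [algebraMap_smul]
          _ = algebraMap A (AdicCompletion I A) j • (a • AdicCompletion.of I M m) :=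
              smul_comm _ _ _
          _ = _ := by rw [AdicCompletion.ofTensorProduct_tmul]
      | add x y hx hy =>
        rw [map_add, smul_add]; exact Submodule.add_mem _ (hx Submodule.mem_top) (hy Submodule.mem_top)
    · intro x _; rw [zero_smul]; exact Submodule.zero_mem _
    · intro r s _ _ hr hs x hx; rw [add_smul]; exact Submodule.add_mem _ (hr x hx) (hs x hx)
    · intro a r _ hr x hx; rw [smul_assoc]; exact Submodule.smul_mem _ a (hr x hx)

end Groth.Agent.S14677
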