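import Groth.Statements.S14679
-- import your own Groth.Agent.* helpers here
import Mathlib

set_option autoImplicit false
universe u
open CategoryTheory CategoryTheory.Limits AlgebraicGeometry
open EtBase

namespace Groth.Agent.S14679

lemma uniq {X Y Y' : Scheme.{u}} (f : X ⟶ Y) (g : Y' ⟶ Y) [Subsingleton Y']
    (z₁ z₂ : ↥(pullback f g)) (h : pullback.fst f g z₁ = pullback.fst f g z₂)
    (hbij : Function.Bijective (f.residueFieldMap (pullback.fst f g z₂)).hom) : z₁ = z₂ := by
  apply Scheme.Pullback.carrierEquiv.injective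
  have hT : Scheme.Pullback.Triplet.ofPoint z₁ = Scheme.Pullback.Triplet.ofPoint z₂ :=
    Scheme.Pullback.Triplet.ext h (Subsingleton.elim _ _)
  haveI : Subsingleton (Spec (Scheme.Pullback.Triplet.ofPoint z₂).tensor) := by
    haveI : IsIso (f.residueFieldMap (Scheme.Pullback.Triplet.ofPoint z₂).x) :=
      (ConcreteCategory.isIso_iff_bijective _).mpr hbij
    haveI : IsIso ((Y.residueFieldCongr (Scheme.Pullback.Triplet.ofPoint z₂).hx).inv ≫
        f.residueFieldMap (Scheme.Pullback.Triplet.ofPoint z₂).x) := inferInstance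
    haveI : IsIso (Scheme.Pullback.Triplet.ofPoint z₂).tensorInr := by
      show IsIso (pushout.inr
        ((Y.residueFieldCongr (Scheme.Pullback.Triplet.ofPoint z₂).hx).inv ≫
          f.residueFieldMap (Scheme.Pullback.Triplet.ofPoint z₂).x)
        ((Y.residueFieldCongr (Scheme.Pullback.Triplet.ofPoint z₂).hy).inv ≫
          g.residueFieldMap (Scheme.Pullback.Triplet.ofPoint z₂).y))
      infer_instance
    haveI : IsIso (Spec.map (Scheme.Pullback.Triplet.ofPoint z₂).tensorInr) := inferInstance
    haveI : Subsingleton (Spec (Y'.residueField (Scheme.Pullback.Triplet.ofPoint z₂).y)) :=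
      (inferInstance : Subsingleton
        (PrimeSpectrum (Y'.residueField (Scheme.Pullback.Triplet.ofPoint z₂).y)))
    exact (Scheme.Hom.homeomorph
      (Spec.map (Scheme.Pullback.Triplet.ofPoint z₂).tensorInr)).injective.subsingleton
  have key : ∀ p q : Spec (Scheme.Pullback.Triplet.ofPoint z₂).tensor, p = q :=
    fun p q => Subsingleton.elim p q
  exact Scheme.Pullback.carrierEquiv_eq_iff.mpr ⟨hT, key _ _⟩

/-- Given a morphism of schemes f : X ⟶ Y and a point x ∈ X with image y = f(x), such that the residue
field map κ(y) → κ(x) is bijective; let ℓ be an algebraic extension field of κ(y) and form the base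
change X ×_Y Spec ℓ along Spec ℓ ⟶ Spec κ(y) ⟶ Y. Then there is exactly one point of X ×_Y Spec ℓ
mapping to x under the first projection. (The published statement takes ℓ to be an algebraic closure
of κ(y), noting that any algebraic extension works, and also identifies the local ring at the point
with O_{X,x} ⊗_{O_{Y,y}} ℓ; this row allows any algebraic extension ℓ and states only the first
assertion.) -/
theorem result {X Y : Scheme.{u}} (f : X ⟶ Y) (x : ↥X)
    (hx : Function.Bijective (f.residueFieldMap x).hom)
    (ℓ : Type u) [Field ℓ] [Algebra (Y.residueField (f.base x)) ℓ] [Algebra.IsAlgebraic (Y.residueField (f.base x)) ℓ] :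
    ∃! z : ↥(pullback f (Spec.map (CommRingCat.ofHom (algebraMap (Y.residueField (f.base x)) ℓ)) ≫ Y.fromSpecResidueField (f.base x))),
      (pullback.fst f (Spec.map (CommRingCat.ofHom (algebraMap (Y.residueField (f.base x)) ℓ)) ≫ Y.fromSpecResidueField (f.base x))).base z = x := by
  haveI : Subsingleton (Spec (CommRingCat.of ℓ)) :=
    (inferInstance : Subsingleton (PrimeSpectrum ℓ))
  have hgpt : ∀ q : Spec (CommRingCat.of ℓ),
      (Spec.map (CommRingCat.ofHom (algebraMap (Y.residueField (f.base x)) ℓ)) ≫
        Y.fromSpecResidueField (f.base x)) q = f x := by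
    intro q
    rw [Scheme.Hom.comp_apply, Scheme.fromSpecResidueField_apply]
  obtain ⟨q₀⟩ : Nonempty (Spec (CommRingCat.of ℓ)) :=
    (inferInstance : Nonempty (PrimeSpectrum ℓ))
  obtain ⟨t, ht1, ht2⟩ := Scheme.Pullback.exists_preimage_pullback
    (f := f) (g := Spec.map (CommRingCat.ofHom (algebraMap (Y.residueField (f.base x)) ℓ)) ≫
        Y.fromSpecResidueField (f.base x)) x q₀ (hgpt q₀).symm
  refine ⟨t, ht1, ?_⟩
  intro z hz
  apply uniq f _ z t (hz.trans ht1.symm)
  rw [ht1]
  exact hx

end Groth.Agent.S14679
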