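import Groth.Statements.S14680
-- import your own Groth.Agent.* helpers here
import Mathlib

set_option autoImplicit false
universe u
open CAlg

namespace Groth.Agent.S14680

lemma subsingleton_of_completions {A : Type u} [CommRing A] (N : Type u) [AddCommGroup N] [Module A N]
    [Module.Finite A N]
    (h : ∀ (m : Ideal A) [m.IsMaximal], Subsingleton (AdicCompletion m N)) : Subsingleton N := by
  by_contra hN
  have hann : Module.annihilator A N ≠ ⊤ := by
    intro htop
    apply hN
    rw [Module.annihilator_eq_top_iff] at htop
    exact htop
  obtain ⟨m, hm, hle⟩ := Ideal.exists_le_maximal _ hann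
  haveI := hm
  haveI := h m
  have htop : (⊤ : Submodule A N) ≤ m • ⊤ := by
    intro x _
    have h0 : AdicCompletion.of m N x = 0 := Subsingleton.elim _ _
    have h1 : AdicCompletion.eval m N 1 (AdicCompletion.of m N x) = 0 := by rw [h0, map_zero]
    rw [AdicCompletion.eval_of] at h1
    rw [Submodule.mkQ_apply, Submodule.Quotient.mk_eq_zero, pow_one] at h1
    exact h1
  obtain ⟨r, hr1, hr⟩ := Submodule.exists_sub_one_mem_and_smul_eq_zero_of_fg_of_le_smul m ⊤
    (Module.finite_def.1 inferInstance) htop
  have hrann : r ∈ Module.annihilator A N := by
    rw [Module.mem_annihilator]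
    intro n
    exact hr n trivial
  have hrm : r ∈ m := hle hrann
  have h1m : (1 : A) ∈ m := by
    have := m.sub_mem hrm hr1
    simpa using this
  exact hm.ne_top ((Ideal.eq_top_iff_one m).2 h1m)

/-- Let A be a Noetherian commutative ring and f : M' → M, g : M → M'' linear maps between finitely
generated A-modules. Then the sequence 0 → M' → M → M'' → 0 is exact — f injective, the image of f
equal to the kernel of g, g surjective — if and only if for every maximal ideal m of A the sequence
of m-adic completions 0 → M'^ → M^ → M''^ → 0 (maps induced by f and g) is exact in the same sense. -/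
theorem result (A : Type u) [CommRing A] [IsNoetherianRing A]
    (M' M M'' : Type u) [AddCommGroup M'] [Module A M'] [AddCommGroup M] [Module A M] [AddCommGroup M''] [Module A M'']
    [Module.Finite A M'] [Module.Finite A M] [Module.Finite A M''] (f : M' →ₗ[A] M) (g : M →ₗ[A] M'') :
    (Function.Injective f ∧ Function.Exact f g ∧ Function.Surjective g) ↔
      ∀ (m : Ideal A) [m.IsMaximal],
        Function.Injective (AdicCompletion.map m f) ∧ Function.Exact (AdicCompletion.map m f) (AdicCompletion.map m g) ∧
          Function.Surjective (AdicCompletion.map m g) := by
  constructor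
  · rintro ⟨hf, hfg, hg⟩ m _
    exact ⟨AdicCompletion.map_injective m hf, AdicCompletion.map_exact hf hfg hg,
      AdicCompletion.map_surjective m hg⟩
  · intro h
    haveI : IsNoetherian A M' := isNoetherian_of_isNoetherianRing_of_finite A M'
    haveI : IsNoetherian A M := isNoetherian_of_isNoetherianRing_of_finite A M
    haveI : IsNoetherian A M'' := isNoetherian_of_isNoetherianRing_of_finite A M''
    have hf : Function.Injective f := by
      rw [← LinearMap.ker_eq_bot]
      haveI : Subsingleton (LinearMap.ker f) := by
        apply subsingleton_of_completions (A := A)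
        intro m _
        obtain ⟨hfi, -, -⟩ := h m
        have hι : Function.Injective (AdicCompletion.map m (LinearMap.ker f).subtype) :=
          AdicCompletion.map_injective m (Submodule.subtype_injective _)
        have hz : ∀ z, AdicCompletion.map m f (AdicCompletion.map m (LinearMap.ker f).subtype z) = 0 := by
          intro z
          rw [AdicCompletion.map_comp_apply, LinearMap.comp_ker_subtype, AdicCompletion.map_zero]
          rfl
        refine ⟨fun x y => ?_⟩
        apply hι
        apply hfi
        rw [hz, hz]
      exact Submodule.eq_bot_of_subsingleton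
    have hg : Function.Surjective g := by
      rw [← LinearMap.range_eq_top]
      haveI : Subsingleton (M'' ⧸ LinearMap.range g) := by
        apply subsingleton_of_completions (A := A)
        intro m _
        obtain ⟨-, -, hgs⟩ := h m
        have hq : Function.Surjective (AdicCompletion.map m (LinearMap.range g).mkQ) :=
          AdicCompletion.map_surjective m (Submodule.mkQ_surjective _)
        have hz : ∀ z, z = (0 : AdicCompletion m (M'' ⧸ LinearMap.range g)) := by
          intro z
          obtain ⟨y, rfl⟩ := hq z
          obtain ⟨x, rfl⟩ := hgs y
          rw [AdicCompletion.map_comp_apply, LinearMap.range_mkQ_comp, AdicCompletion.map_zero]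
          rfl
        exact ⟨fun x y => by rw [hz x, hz y]⟩
      exact Submodule.Quotient.subsingleton_iff.1 inferInstance
    have hgf : g ∘ₗ f = 0 := by
      rw [← LinearMap.range_eq_bot]
      haveI : Subsingleton (LinearMap.range (g ∘ₗ f)) := by
        apply subsingleton_of_completions (A := A)
        intro m _
        obtain ⟨-, hex, -⟩ := h m
        have hι : Function.Injective (AdicCompletion.map m (LinearMap.range (g ∘ₗ f)).subtype) :=
          AdicCompletion.map_injective m (Submodule.subtype_injective _)
        have hp : Function.Surjective (AdicCompletion.map m (g ∘ₗ f).rangeRestrict) :=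
          AdicCompletion.map_surjective m (LinearMap.surjective_rangeRestrict _)
        have hz : ∀ z, z = (0 : AdicCompletion m (LinearMap.range (g ∘ₗ f))) := by
          intro z
          obtain ⟨y, rfl⟩ := hp z
          apply hι
          rw [map_zero, AdicCompletion.map_comp_apply, LinearMap.subtype_comp_codRestrict,
            ← AdicCompletion.map_comp_apply]
          exact hex.apply_apply_eq_zero y
        exact ⟨fun x y => by rw [hz x, hz y]⟩
      exact Submodule.eq_bot_of_subsingleton
    refine ⟨hf, ?_, hg⟩
    have hmem : ∀ x, f x ∈ LinearMap.ker g := fun x => by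
      rw [LinearMap.mem_ker]; exact LinearMap.congr_fun hgf x
    have hιf' : (LinearMap.ker g).subtype ∘ₗ (f.codRestrict (LinearMap.ker g) hmem) = f :=
      LinearMap.subtype_comp_codRestrict _ _ _
    haveI : Subsingleton ((LinearMap.ker g) ⧸ LinearMap.range (f.codRestrict (LinearMap.ker g) hmem)) := by
      apply subsingleton_of_completions (A := A)
      intro m _
      obtain ⟨-, hex, -⟩ := h m
      have hι : Function.Injective (AdicCompletion.map m (LinearMap.ker g).subtype) :=
        AdicCompletion.map_injective m (Submodule.subtype_injective _)
      have hq : Function.Surjective (AdicCompletion.map m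
          (LinearMap.range (f.codRestrict (LinearMap.ker g) hmem)).mkQ) :=
        AdicCompletion.map_surjective m (Submodule.mkQ_surjective _)
      have hz : ∀ z, z = (0 : AdicCompletion m
          ((LinearMap.ker g) ⧸ LinearMap.range (f.codRestrict (LinearMap.ker g) hmem))) := by
        intro z
        obtain ⟨y, rfl⟩ := hq z
        have h0 : AdicCompletion.map m g (AdicCompletion.map m (LinearMap.ker g).subtype y) = 0 := by
          rw [AdicCompletion.map_comp_apply, LinearMap.comp_ker_subtype, AdicCompletion.map_zero]; rfl
        obtain ⟨x, hx⟩ := (hex _).1 h0
        have hy : AdicCompletion.map m (f.codRestrict (LinearMap.ker g) hmem) x = y := by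
          apply hι
          rw [AdicCompletion.map_comp_apply, hιf', hx]
        rw [← hy, AdicCompletion.map_comp_apply, LinearMap.range_mkQ_comp, AdicCompletion.map_zero]; rfl
      exact ⟨fun x y => by rw [hz x, hz y]⟩
    have htop : LinearMap.range (f.codRestrict (LinearMap.ker g) hmem) = ⊤ :=
      Submodule.Quotient.subsingleton_iff.1 inferInstance
    intro y
    constructor
    · intro hy
      have hyk : y ∈ LinearMap.ker g := LinearMap.mem_ker.2 hy
      have hmem2 : (⟨y, hyk⟩ : LinearMap.ker g) ∈ LinearMap.range (f.codRestrict (LinearMap.ker g) hmem) := by
        rw [htop]; trivial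
      obtain ⟨x, hx⟩ := hmem2
      exact ⟨x, by have := congrArg Subtype.val hx; simpa using this⟩
    · rintro ⟨x, rfl⟩
      exact LinearMap.congr_fun hgf x

end Groth.Agent.S14680
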