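import Groth.Statements.S14727
-- import your own Groth.Agent.* helpers here
import Mathlib

set_option autoImplicit false
universe u
open ValPrufer

namespace Groth.Agent.S14727

section
variable {R : Type u} [CommRing R]

theorem comap_le_of_prime (m : Ideal R) [m.IsPrime] (Q : Ideal (Localization.AtPrime m))
    (hQ : Q ≠ ⊤) : Ideal.comap (algebraMap R (Localization.AtPrime m)) Q ≤ m := by
  intro x hx
  by_contra hxm
  have hu : IsUnit (algebraMap R (Localization.AtPrime m) x) :=
    IsLocalization.map_units (Localization.AtPrime m) (⟨x, hxm⟩ : m.primeCompl)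
  exact hQ (Ideal.eq_top_of_isUnit_mem Q (Ideal.mem_comap.mp hx) hu)

theorem pow_mem_map (I : Ideal R) (hI : ∀ p : Ideal R, p.IsPrime → I ≤ p → p.IsMaximal)
    (m : Ideal R) [hm : m.IsMaximal] (n : ℕ) (d : R) (hd : d ∈ m) :
    ∃ N : ℕ, algebraMap R (Localization.AtPrime m) (d ^ N) ∈
      Ideal.map (algebraMap R (Localization.AtPrime m)) (I ^ n) := by
  have hrad : algebraMap R (Localization.AtPrime m) d ∈
      (Ideal.map (algebraMap R (Localization.AtPrime m)) (I ^ n)).radical := by
    rw [Ideal.radical_eq_sInf, Ideal.mem_sInf]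
    rintro Q ⟨hQE, hQp⟩
    haveI := hQp
    have hP : (Ideal.comap (algebraMap R (Localization.AtPrime m)) Q).IsPrime :=
      Ideal.comap_isPrime _ Q
    haveI := hP
    have hIP : I ≤ Ideal.comap (algebraMap R (Localization.AtPrime m)) Q := by
      have h1 : I ^ n ≤ Ideal.comap (algebraMap R (Localization.AtPrime m)) Q :=
        Ideal.map_le_iff_le_comap.mp hQE
      exact Ideal.IsPrime.le_of_pow_le h1
    have hPmax := hI _ hP hIP
    have hle := comap_le_of_prime m Q hQp.ne_top
    have heq : Ideal.comap (algebraMap R (Localization.AtPrime m)) Q = m :=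
      hPmax.eq_of_le hm.ne_top hle
    have h2 : d ∈ Ideal.comap (algebraMap R (Localization.AtPrime m)) Q := by
      rw [heq]
      exact hd
    exact Ideal.mem_comap.mp h2
  obtain ⟨N, hN⟩ := Ideal.mem_radical_iff.mp hrad
  exact ⟨N, by rw [map_pow]; exact hN⟩

theorem eq_of_le_max (I : Ideal R) (hI : ∀ p : Ideal R, p.IsPrime → I ≤ p → p.IsMaximal)
    (m : Ideal R) [hm : m.IsMaximal] (n : ℕ) (M : Ideal R) [hM : M.IsMaximal]
    (hle : Ideal.comap (algebraMap R (Localization.AtPrime m))
      (Ideal.map (algebraMap R (Localization.AtPrime m)) (I ^ n)) ≤ M) : M = m := by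
  by_contra hne
  have hnle : ¬ m ≤ M := fun h => hne (hm.eq_of_le hM.ne_top h).symm
  obtain ⟨d, hdm, hdM⟩ := SetLike.not_le_iff_exists.mp hnle
  obtain ⟨N, hN⟩ := pow_mem_map I hI m n d hdm
  have h1 : d ^ N ∈ M := hle (Ideal.mem_comap.mpr hN)
  exact hdM (hM.isPrime.mem_of_pow_mem N h1)

theorem level_inj (I : Ideal R) (n : ℕ) (r : R)
    (h : ∀ m : {m : MaximalSpectrum R // I ≤ m.asIdeal},
      algebraMap R (Localization.AtPrime m.1.asIdeal) r ∈
        Ideal.map (algebraMap R (Localization.AtPrime m.1.asIdeal)) (I ^ n)) : r ∈ I ^ n := by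
  by_contra hr
  let J : Ideal R :=
    { carrier := {s | s * r ∈ I ^ n}
      add_mem' := by
        intro a b ha hb
        show (a + b) * r ∈ I ^ n
        rw [add_mul]
        exact Ideal.add_mem _ ha hb
      zero_mem' := by
        show 0 * r ∈ I ^ n
        rw [zero_mul]
        exact Ideal.zero_mem _
      smul_mem' := by
        intro c a ha
        show c • a * r ∈ I ^ n
        rw [smul_eq_mul, mul_assoc]
        exact Ideal.mul_mem_left _ c ha }
  have hJ : ∀ s, s ∈ J ↔ s * r ∈ I ^ n := fun s => Iff.rfl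
  have hJne : J ≠ ⊤ := by
    intro htop
    have h1 : (1 : R) ∈ J := by rw [htop]; exact Submodule.mem_top
    rw [hJ, one_mul] at h1
    exact hr h1
  obtain ⟨M, hMmax, hJM⟩ := Ideal.exists_le_maximal J hJne
  haveI := hMmax
  have hIn : I ^ n ≤ J := fun s hs => (hJ s).mpr (Ideal.mul_mem_right r _ hs)
  have hIM : I ≤ M := Ideal.IsPrime.le_of_pow_le (hIn.trans hJM)
  have h2 := h ⟨⟨M, hMmax⟩, hIM⟩
  obtain ⟨⟨a, s⟩, has⟩ :=
    (IsLocalization.mem_map_algebraMap_iff M.primeCompl (Localization.AtPrime M)).mp h2
  rw [← map_mul, IsLocalization.eq_iff_exists M.primeCompl] at has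
  obtain ⟨t, ht⟩ := has
  have h3 : (t : R) * (s : R) ∈ J := by
    rw [hJ]
    have e : (t : R) * (s : R) * r = t * a := by
      rw [← ht]
      ring
    rw [e]
    exact Ideal.mul_mem_left _ _ a.2
  have h4 : (t : R) * (s : R) ∈ M := hJM h3
  exact (Ideal.mem_primeCompl_iff.mp (M.primeCompl.mul_mem t.2 s.2)) h4

theorem level_surj_one (I : Ideal R) (hI : ∀ p : Ideal R, p.IsPrime → I ≤ p → p.IsMaximal)
    (m : Ideal R) [hm : m.IsMaximal] (n : ℕ) (y : Localization.AtPrime m) :
    ∃ r : R, algebraMap R (Localization.AtPrime m) r - y ∈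
      Ideal.map (algebraMap R (Localization.AtPrime m)) (I ^ n) := by
  obtain ⟨⟨a, s⟩, rfl⟩ := IsLocalization.mk'_surjective m.primeCompl y
  have hsq : Ideal.span {(s : R)} ⊔ Ideal.comap (algebraMap R (Localization.AtPrime m))
      (Ideal.map (algebraMap R (Localization.AtPrime m)) (I ^ n)) = ⊤ := by
    by_contra hne
    obtain ⟨M, hMmax, hM⟩ := Ideal.exists_le_maximal _ hne
    haveI := hMmax
    have hMm : M = m := eq_of_le_max I hI m n M (le_sup_right.trans hM)
    have hsM : (s : R) ∈ M := hM (Ideal.mem_sup_left (Ideal.subset_span rfl))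
    rw [hMm] at hsM
    exact s.2 hsM
  have h1 : (1 : R) ∈ Ideal.span {(s : R)} ⊔ Ideal.comap (algebraMap R (Localization.AtPrime m))
      (Ideal.map (algebraMap R (Localization.AtPrime m)) (I ^ n)) := by
    rw [hsq]
    exact Submodule.mem_top
  obtain ⟨x, hx, u, hu, hxu⟩ := Submodule.mem_sup.mp h1
  obtain ⟨t, rfl⟩ := Ideal.mem_span_singleton'.mp hx
  refine ⟨a * t, ?_⟩
  have hkey : algebraMap R (Localization.AtPrime m) (a * t) -
      IsLocalization.mk' (Localization.AtPrime m) a s =
      - (IsLocalization.mk' (Localization.AtPrime m) a s *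
        algebraMap R (Localization.AtPrime m) u) := by
    have hu' : u = 1 - t * s := by
      rw [← hxu]
      ring
    have hms : IsLocalization.mk' (Localization.AtPrime m) a s *
        algebraMap R (Localization.AtPrime m) (s : R) =
        algebraMap R (Localization.AtPrime m) a := IsLocalization.mk'_spec _ a s
    rw [hu', map_sub, map_one, map_mul, map_mul, ← hms]
    ring
  rw [hkey]
  exact Ideal.neg_mem_iff _ |>.mpr (Ideal.mul_mem_left _ _ (Ideal.mem_comap.mp hu))

theorem level_surj (hR : Finite (MaximalSpectrum R)) (I : Ideal R)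
    (hI : ∀ p : Ideal R, p.IsPrime → I ≤ p → p.IsMaximal) (n : ℕ)
    (y : ∀ m : {m : MaximalSpectrum R // I ≤ m.asIdeal}, Localization.AtPrime m.1.asIdeal) :
    ∃ r : R, ∀ m : {m : MaximalSpectrum R // I ≤ m.asIdeal},
      algebraMap R (Localization.AtPrime m.1.asIdeal) r - y m ∈
        Ideal.map (algebraMap R (Localization.AtPrime m.1.asIdeal)) (I ^ n) := by
  classical
  haveI := hR
  choose r0 hr0 using fun m : {m : MaximalSpectrum R // I ≤ m.asIdeal} =>
    level_surj_one I hI m.1.asIdeal n (y m)
  let q : {m : MaximalSpectrum R // I ≤ m.asIdeal} → Ideal R := fun m =>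
    Ideal.comap (algebraMap R (Localization.AtPrime m.1.asIdeal))
      (Ideal.map (algebraMap R (Localization.AtPrime m.1.asIdeal)) (I ^ n))
  have hcop : Pairwise (Function.onFun IsCoprime q) := by
    intro m m' hne
    show IsCoprime (q m) (q m')
    rw [Ideal.isCoprime_iff_sup_eq]
    by_contra htop
    obtain ⟨M, hMmax, hM⟩ := Ideal.exists_le_maximal _ htop
    haveI := hMmax
    have h1 : M = m.1.asIdeal := eq_of_le_max I hI m.1.asIdeal n M (le_sup_left.trans hM)
    have h2 : M = m'.1.asIdeal := eq_of_le_max I hI m'.1.asIdeal n M (le_sup_right.trans hM)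
    exact hne (Subtype.ext (MaximalSpectrum.ext (h1.symm.trans h2)))
  obtain ⟨r, hr⟩ := Ideal.pi_quotient_surjective hcop
    (fun m => Ideal.Quotient.mk (q m) (r0 m))
  refine ⟨r, fun m => ?_⟩
  have h3 : r - r0 m ∈ q m := Ideal.Quotient.eq.mp (hr m)
  have h4 : algebraMap R (Localization.AtPrime m.1.asIdeal) (r - r0 m) ∈
      Ideal.map (algebraMap R (Localization.AtPrime m.1.asIdeal)) (I ^ n) := Ideal.mem_comap.mp h3
  have h5 := Ideal.add_mem _ h4 (hr0 m)
  have e : algebraMap R (Localization.AtPrime m.1.asIdeal) (r - r0 m) +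
      (algebraMap R (Localization.AtPrime m.1.asIdeal) (r0 m) - y m) =
      algebraMap R (Localization.AtPrime m.1.asIdeal) r - y m := by
    rw [map_sub]
    ring
  rw [e] at h5
  exact h5

end

/-- Let R be a semilocal ring (finitely many maximal ideals) and I an ideal of R of co-height zero, i.e.
every prime ideal containing I is maximal. Then the canonical map from the I-adic completion of R to
the product, over the maximal ideals m ⊇ I, of the I-adic completions of the local rings R_m
(equivalently their IR_m-adic completions) is bijective; it is the continuous ring isomorphism of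
the source, stated here as bijectivity of the canonical map of completed modules. -/
theorem result
    (R : Type u) [CommRing R] (hR : Finite (MaximalSpectrum R)) (I : Ideal R)
    (hI : ∀ (p : Ideal R), p.IsPrime → I ≤ p → p.IsMaximal) :
    Function.Bijective (LinearMap.pi (fun m : {m : MaximalSpectrum R // I ≤ m.asIdeal} =>
      AdicCompletion.map I (Algebra.linearMap R (Localization.AtPrime m.1.asIdeal)))) := by
  classical
  haveI := hR
  have hconv : ∀ (m : {m : MaximalSpectrum R // I ≤ m.asIdeal}) (n : ℕ)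
      (x : Localization.AtPrime m.1.asIdeal),
      x ∈ (I ^ n • ⊤ : Submodule R (Localization.AtPrime m.1.asIdeal)) ↔
      x ∈ Ideal.map (algebraMap R (Localization.AtPrime m.1.asIdeal)) (I ^ n) := by
    intro m n x
    rw [Ideal.smul_top_eq_map]
    rfl
  have hconvR : ∀ (n : ℕ) (x : R), x ∈ (I ^ n • ⊤ : Submodule R R) ↔ x ∈ I ^ n := by
    intro n x
    rw [Ideal.smul_eq_mul, Ideal.mul_top]
  constructor
  · rw [injective_iff_map_eq_zero]
    intro x hx
    apply AdicCompletion.ext
    intro n
    obtain ⟨r, hr⟩ := Submodule.Quotient.mk_surjective _ (x.val n)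
    rw [← hr, AdicCompletion.val_zero_apply, Submodule.Quotient.mk_eq_zero, hconvR]
    apply level_inj I n r
    intro m
    rw [← hconv, ← Submodule.Quotient.mk_eq_zero]
    have h1 : ((LinearMap.pi (fun m : {m : MaximalSpectrum R // I ≤ m.asIdeal} =>
        AdicCompletion.map I (Algebra.linearMap R (Localization.AtPrime m.1.asIdeal)))) x m).val n
        = 0 := by
      rw [hx]
      rfl
    rw [LinearMap.pi_apply, AdicCompletion.map_val_apply, ← hr,
      LinearMap.reduceModIdeal_apply] at h1
    exact h1
  · intro Y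
    have hrep : ∀ n : ℕ, ∃ r : R, ∀ m : {m : MaximalSpectrum R // I ≤ m.asIdeal},
        (Submodule.Quotient.mk (algebraMap R (Localization.AtPrime m.1.asIdeal) r) :
          Localization.AtPrime m.1.asIdeal ⧸
            (I ^ n • ⊤ : Submodule R (Localization.AtPrime m.1.asIdeal))) = (Y m).val n := by
      intro n
      choose y hy using fun m : {m : MaximalSpectrum R // I ≤ m.asIdeal} =>
        Submodule.Quotient.mk_surjective _ ((Y m).val n)
      obtain ⟨r, hr⟩ := level_surj hR I hI n y
      refine ⟨r, fun m => ?_⟩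
      rw [← hy m, Submodule.Quotient.eq, hconv]
      exact hr m
    choose r hr using hrep
    have hcauchy : ∀ n, r n ≡ r (n + 1) [SMOD (I ^ n • ⊤ : Submodule R R)] := by
      intro n
      rw [SModEq.sub_mem, hconvR]
      apply level_inj I n
      intro m
      rw [← hconv, ← Submodule.Quotient.mk_eq_zero, map_sub, Submodule.Quotient.mk_sub,
        sub_eq_zero, hr n m]
      have h1 := (Y m).2 (Nat.le_succ n)
      rw [← h1, ← hr (n + 1) m]
      rfl
    refine ⟨AdicCompletion.mk I R (AdicCompletion.AdicCauchySequence.mk I R r hcauchy), ?_⟩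
    funext m
    apply AdicCompletion.ext
    intro n
    have h2 : (AdicCompletion.mk I R (AdicCompletion.AdicCauchySequence.mk I R r hcauchy)).val n
        = Submodule.Quotient.mk (r n) := rfl
    rw [LinearMap.pi_apply, AdicCompletion.map_val_apply, h2, LinearMap.reduceModIdeal_apply]
    exact hr n m

end Groth.Agent.S14727
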