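import Groth.Statements.S14728
-- import your own Groth.Agent.* helpers here
import Mathlib

set_option autoImplicit false
universe u
open ValPrufer

namespace Groth.Agent.S14728

/-- Let R be a Prüfer domain, i.e. a domain all of whose local rings at primes are valuation rings. (a)
For a multiplicative subset S, any localisation B = S⁻¹R that is a domain (S not containing 0) is a
Prüfer domain. (b) For a prime ideal I, the quotient R/I is a Prüfer domain. -/
theorem result
    (R : Type u) [CommRing R] [IsDomain R]
    (hR : ∀ (p : Ideal R) [p.IsPrime], ValuationRing (Localization.AtPrime p))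
    (S : Submonoid R) (B : Type u) [CommRing B] [IsDomain B] [Algebra R B] [IsLocalization S B]
    (I : Ideal R) [I.IsPrime] :
    (∀ (q : Ideal B) [q.IsPrime], ValuationRing (Localization.AtPrime q)) ∧
      (∀ (q : Ideal (R ⧸ I)) [q.IsPrime], ValuationRing (Localization.AtPrime q)) := by
  refine ⟨?_, ?_⟩
  · intro q hq
    haveI : (q.comap (algebraMap R B)).IsPrime := Ideal.comap_isPrime _ _
    haveI : IsLocalization.AtPrime (Localization.AtPrime q) (q.comap (algebraMap R B)) :=
      IsLocalization.isLocalization_isLocalization_atPrime_isLocalization S _ q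
    haveI := hR (q.comap (algebraMap R B))
    let e := IsLocalization.algEquiv (q.comap (algebraMap R B)).primeCompl
      (Localization.AtPrime (q.comap (algebraMap R B))) (Localization.AtPrime q)
    exact Function.Surjective.valuationRing e.toRingEquiv.toRingHom e.toRingEquiv.surjective
  · intro q hq
    obtain ⟨p, hp⟩ : ∃ p, p = q.comap (Ideal.Quotient.mk I) := ⟨_, rfl⟩
    haveI : p.IsPrime := by rw [hp]; exact Ideal.comap_isPrime _ _
    haveI := hR p
    have hsurj : Function.Surjective
        (Localization.localRingHom p q (Ideal.Quotient.mk I) hp) := by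
      intro z
      obtain ⟨x, s, rfl⟩ := IsLocalization.exists_mk'_eq q.primeCompl z
      obtain ⟨x', rfl⟩ := Ideal.Quotient.mk_surjective x
      obtain ⟨s', hs'⟩ := Ideal.Quotient.mk_surjective (s : R ⧸ I)
      have hs'p : s' ∈ p.primeCompl := by
        intro hmem
        apply s.2
        rw [← hs']
        rw [hp] at hmem
        exact hmem
      refine ⟨IsLocalization.mk' _ x' ⟨s', hs'p⟩, ?_⟩
      rw [Localization.localRingHom_mk']
      congr 1
      exact Subtype.ext hs'
    exact Function.Surjective.valuationRing _ hsurj

end Groth.Agent.S14728
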