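import Groth.Statements.S14743
-- import your own Groth.Agent.* helpers here
import Mathlib

set_option autoImplicit false
universe u
open CategoryTheory MonoidalCategory CartesianMonoidalCategory MonObj GrpObj AlgebraicGeometry
open AlgGrp

namespace Groth.Agent.S14743

section
open CategoryTheory MonoidalCategory CartesianMonoidalCategory CategoryTheory.Limits
open scoped MonObj

universe v₁ u₁

theorem hom_section {C : Type u₁} [Category.{v₁} C] [CartesianMonoidalCategory C]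
    [BraidedCategory C] {L G B : C}
    [GrpObj L] [GrpObj G] [GrpObj B] [IsCommMonObj G] [IsCommMonObj B] (i : L ⟶ G) (π : G ⟶ B)
    [IsMonHom π] (hker : IsPullback i (toUnit L) π η[B])
    (hconst : ∀ f : B ⊗ B ⟶ L, ∃ l : 𝟙_ C ⟶ L, f = toUnit (B ⊗ B) ≫ l)
    (s : B ⟶ G) (hs : s ≫ π = 𝟙 B) : ∃ s' : B ⟶ G, IsMonHom s' ∧ s' ≫ π = 𝟙 B := by
  let s₀ : 𝟙_ C ⟶ G := η[B] ≫ s
  let s' : B ⟶ G := s * (toUnit B ≫ s₀)⁻¹
  have hs'π : s' ≫ π = 𝟙 B := by
    show (s * (toUnit B ≫ η[B] ≫ s)⁻¹) ≫ π = 𝟙 B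
    rw [MonObj.mul_comp, GrpObj.inv_comp, hs, Category.assoc, Category.assoc, hs,
      Category.comp_id, ← Hom.one_def, _root_.inv_one, _root_.mul_one]
  have hη : η[B] ≫ s' = 1 := by
    show η[B] ≫ (s * (toUnit B ≫ η[B] ≫ s)⁻¹) = 1
    rw [MonObj.comp_mul, GrpObj.comp_inv, ← Category.assoc,
      toUnit_unique (η[B] ≫ toUnit B) (𝟙 _), Category.id_comp]
    exact _root_.mul_inv_cancel _
  let c : B ⊗ B ⟶ G := (μ[B] ≫ s') * (fst B B ≫ s')⁻¹ * (snd B B ≫ s')⁻¹
  have hcπ : c ≫ π = toUnit (B ⊗ B) ≫ η[B] := by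
    rw [← Hom.one_def]
    show ((μ[B] ≫ s') * (fst B B ≫ s')⁻¹ * (snd B B ≫ s')⁻¹) ≫ π = 1
    rw [MonObj.mul_comp, MonObj.mul_comp, GrpObj.inv_comp, GrpObj.inv_comp, Category.assoc,
      Category.assoc, Category.assoc, hs'π, Category.comp_id, Category.comp_id, Category.comp_id,
      MonObj.mul_eq_mul, _root_.mul_comm (fst B B) (snd B B)]
    group
  obtain ⟨f, hf⟩ : ∃ f : B ⊗ B ⟶ L, f ≫ i = c :=
    ⟨hker.lift c (toUnit _) hcπ, hker.lift_fst _ _ _⟩
  obtain ⟨l, hl⟩ := hconst f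
  have hc1 : c = 1 := by
    have h1 : c = toUnit (B ⊗ B) ≫ (l ≫ i) := by rw [← hf, hl, Category.assoc]
    have h2 : lift η[B] η[B] ≫ c = 1 := by
      show lift η[B] η[B] ≫ ((μ[B] ≫ s') * (fst B B ≫ s')⁻¹ * (snd B B ≫ s')⁻¹) = 1
      have hμ : lift η[B] η[B] ≫ μ[B] = η[B] := by
        rw [← Hom.mul_def, MonObj.one_eq_one, _root_.mul_one]
      rw [MonObj.comp_mul, MonObj.comp_mul, GrpObj.comp_inv, GrpObj.comp_inv, lift_fst_assoc,
        lift_snd_assoc, hη, ← Category.assoc, hμ, hη]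
      simp
    have h3 : l ≫ i = 1 := by
      have := h2
      rw [h1, ← Category.assoc, toUnit_unique (lift η[B] η[B] ≫ toUnit (B ⊗ B)) (𝟙 _),
        Category.id_comp] at this
      exact this
    rw [h1, h3, MonObj.comp_one]
  have hmul : μ[B] ≫ s' = (fst B B ≫ s') * (snd B B ≫ s') := by
    have h0 : (μ[B] ≫ s') * (fst B B ≫ s')⁻¹ * (snd B B ≫ s')⁻¹ = 1 := hc1
    rw [_root_.mul_inv_eq_one, _root_.mul_inv_eq_iff_eq_mul] at h0
    rw [h0, _root_.mul_comm]
  have hten : (s' ⊗ₘ s') = lift (fst B B ≫ s') (snd B B ≫ s') := by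
    apply CartesianMonoidalCategory.hom_ext <;> simp
  refine ⟨s', ⟨?_, ?_⟩, hs'π⟩
  · rw [hη, MonObj.one_eq_one]
  · rw [hmul, hten, Hom.mul_def]

end

/-- Over an algebraically closed field k let L, G, B be commutative k-group schemes, i : L → G and π : G
→ B homomorphisms with i the kernel of π, and suppose that every k-morphism B × B → L is constant
(factors through a k-point of L). If π admits a section which is a morphism of k-schemes, then it
admits a section which is a homomorphism, so the extension splits. (The published statement is for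
algebraic groups, that is, of finite type over k; finiteness plays no role and is not assumed here.) -/
theorem result (k : Type u) [Field k] [IsAlgClosed k]
    (L G B : Over (Spec (CommRingCat.of k))) [GrpObj L] [GrpObj G] [GrpObj B]
    [IsCommMonObj L] [IsCommMonObj G] [IsCommMonObj B]
    (i : L ⟶ G) [IsMonHom i] (π : G ⟶ B) [IsMonHom π] (hker : AlgGrp.IsKernel i π)
    (hconst : ∀ f : B ⊗ B ⟶ L, ∃ l : 𝟙_ (Over (Spec (CommRingCat.of k))) ⟶ L, f = toUnit (B ⊗ B) ≫ l)
    (s : B ⟶ G) (hs : s ≫ π = 𝟙 B) :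
    ∃ s' : B ⟶ G, IsMonHom s' ∧ s' ≫ π = 𝟙 B := by
  exact hom_section i π hker hconst s hs

end Groth.Agent.S14743
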