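import Groth.Statements.S14766
-- import your own Groth.Agent.* helpers here
import Mathlib
import Groth.Agent.Lib.helper7.ProConsLemmas
import Groth.Agent.S15542

set_option autoImplicit false
universe u
open CategoryTheory CategoryTheory.Limits AlgebraicGeometry
open Subtr

namespace Groth.Agent.S14766

/-- Let V be a discrete valuation ring and f : X ⟶ Spec V any morphism of schemes. Then the underlying
continuous map of f is a quotient map (f is submersive) if and only if every ordered pair of points
of Spec V lifts to an ordered pair of points of X. -/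
theorem result (V : Type u) [CommRing V] [IsDomain V]
    [IsDiscreteValuationRing V] {X : Scheme.{u}} (f : X ⟶ Spec (CommRingCat.of V)) :
    Topology.IsQuotientMap f ↔ Subtr.IsSSubtrusive f := by
  let S := Spec (CommRingCat.of V)
  let η : S := (⟨⊥, Ideal.isPrime_bot⟩ : PrimeSpectrum V)
  let c : S := (IsLocalRing.closedPoint V : PrimeSpectrum V)
  have hdich : ∀ y : S, y = η ∨ y = c := by
    intro y
    by_cases h : (y : PrimeSpectrum V).asIdeal = ⊥
    · left
      exact PrimeSpectrum.ext h
    · right
      have hmax : (y : PrimeSpectrum V).asIdeal.IsMaximal :=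
        Ring.DimensionLEOne.maximalOfPrime h (y : PrimeSpectrum V).isPrime
      exact PrimeSpectrum.ext (IsLocalRing.eq_maximalIdeal hmax)
  have hηc : η ⤳ c := by
    have : (⟨⊥, Ideal.isPrime_bot⟩ : PrimeSpectrum V) ≤ IsLocalRing.closedPoint V := by
      show (⊥ : Ideal V) ≤ _
      exact bot_le
    exact (PrimeSpectrum.le_iff_specializes _ _).1 this
  have hne : η ≠ c := by
    intro h
    have h1 : (⊥ : Ideal V) = IsLocalRing.maximalIdeal V := congrArg PrimeSpectrum.asIdeal h
    exact IsDiscreteValuationRing.not_a_field V h1.symm
  have hcη : ¬ (c ⤳ η) := by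
    intro h
    have h1 : (IsLocalRing.closedPoint V : PrimeSpectrum V) ≤ ⟨⊥, Ideal.isPrime_bot⟩ :=
      (PrimeSpectrum.le_iff_specializes _ _).2 h
    have h2 : IsLocalRing.maximalIdeal V ≤ ⊥ := h1
    exact IsDiscreteValuationRing.not_a_field V (le_bot_iff.1 h2)
  have hopen : IsOpen ({η} : Set S) := by
    have h1 : ({η} : Set S) = ({c} : Set S)ᶜ := by
      ext y
      simp only [Set.mem_singleton_iff, Set.mem_compl_iff]
      rcases hdich y with h | h
      · rw [h]; simp [hne]
      · rw [h]; simp [hne.symm]
    rw [h1]
    exact (IsLocalRing.isClosed_singleton_closedPoint (R := V)).isOpen_compl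
  constructor
  · intro hq y y' hyy
    by_cases hEq : y' = y
    · obtain ⟨x, hx⟩ := hq.surjective y
      exact ⟨x, x, specializes_rfl, hx, by rw [hEq]; exact hx⟩
    · have hy' : y' = η := by
        rcases hdich y' with h | h
        · exact h
        · exfalso
          rcases hdich y with h2 | h2
          · rw [h, h2] at hyy; exact hcη hyy
          · exact hEq (h.trans h2.symm)
      have hy : y = c := by
        rcases hdich y with h | h
        · exact absurd (hy'.trans h.symm) hEq
        · exact h
      subst hy' hy
      -- the preimage of {c} is not open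
      have hnotopen : ¬ IsOpen (f ⁻¹' ({c} : Set S)) := by
        intro h
        have h2 : IsOpen ({c} : Set S) := hq.isOpen_preimage.1 h
        exact hne (hηc.mem_open h2 rfl)
      have hnotclosed : ¬ IsClosed (f ⁻¹' ({η} : Set S)) := by
        intro h
        apply hnotopen
        have h1 : (f ⁻¹' ({c} : Set S)) = (f ⁻¹' ({η} : Set S))ᶜ := by
          ext x
          simp only [Set.mem_preimage, Set.mem_singleton_iff, Set.mem_compl_iff]
          rcases hdich (f x) with h | h
          · rw [h]; simp [hne]
          · rw [h]; simp [hne.symm]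
        rw [h1]
        exact h.isOpen_compl
      have : ∃ x, x ∈ closure (f ⁻¹' ({η} : Set S)) ∧ x ∉ f ⁻¹' ({η} : Set S) := by
        by_contra hcon
        apply hnotclosed
        rw [← closure_subset_iff_isClosed]
        intro x hx
        by_contra hx'
        exact hcon ⟨x, hx, hx'⟩
      obtain ⟨x, hx, hxη⟩ := this
      have hZ := Groth.Agent.S15542.result f _
        (Groth.Agent.Lib.helper7.isProConstructible_singleton η)
      obtain ⟨x', hx'Z, hx'x⟩ :=
        Groth.Agent.Lib.helper7.exists_specializes_of_mem_closure_of_isProConstructible hZ hx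
      refine ⟨x, x', hx'x, ?_, hx'Z⟩
      rcases hdich (f x) with h | h
      · exact absurd h hxη
      · exact h
  · intro hf
    have hsurj : Function.Surjective f := by
      intro y
      obtain ⟨x, x', -, hx, -⟩ := hf (specializes_rfl : y ⤳ y)
      exact ⟨x, hx⟩
    refine ⟨Topology.IsCoinducing.of_isOpen_preimage_iff_isOpen fun s =>
      ⟨fun hs => ?_, fun hs => hs.preimage f.continuous⟩, hsurj⟩
    rw [isOpen_iff_forall_mem_open]
    intro y hy
    rcases hdich y with h | h
    · refine ⟨{η}, ?_, hopen, h⟩
      rintro _ rfl
      rw [← h]; exact hy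
    · refine ⟨Set.univ, ?_, isOpen_univ, trivial⟩
      intro z _
      rcases hdich z with hz | hz
      · obtain ⟨x, x', hxx, hx, hx'⟩ := hf hηc
        have h1 : x ∈ f ⁻¹' s := by
          show f x ∈ s
          rw [hx, ← h]; exact hy
        have h2 : x' ∈ f ⁻¹' s := hxx.mem_open hs h1
        rw [hz, ← hx']
        exact h2
      · rw [hz, ← h]; exact hy

end Groth.Agent.S14766
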