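import Groth.Statements.S14789
-- import your own Groth.Agent.* helpers here
import Mathlib

set_option autoImplicit false
universe u
open CategoryTheory CategoryTheory.Limits AlgebraicGeometry
open Subtr

namespace Groth.Agent.S14789

/-- Let f : X ⟶ Y be a morphism of schemes with the lifting property for ordered pairs of points, and U
⊆ Y a subset containing every maximal point of Y (every point all of whose generizations are equal
to it). Then the closure of f⁻¹(U) maps onto Y. -/
theorem result {X Y : Scheme.{u}} (f : X ⟶ Y)
    (hf : Subtr.IsSSubtrusive f) (U : Set Y) (hU : ∀ y : Y, (∀ y' : Y, y' ⤳ y → y' = y) → y ∈ U) :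
    f '' closure (f ⁻¹' U) = Set.univ := by
  rw [Set.eq_univ_iff_forall]
  intro y
  -- a maximal generization of y
  have hirr : IsIrreducible (irreducibleComponent y) := isIrreducible_irreducibleComponent
  have hcl : IsClosed (irreducibleComponent y) := isClosed_irreducibleComponent
  have hgen := hirr.isGenericPoint_genericPoint hcl
  set η := hirr.genericPoint with hη
  have hηy : η ⤳ y := by
    rw [specializes_iff_mem_closure, hgen.def]
    exact mem_irreducibleComponent
  have hmax : ∀ y' : Y, y' ⤳ η → y' = η := by
    intro y' hy'
    have hsub : irreducibleComponent y ⊆ closure ({y'} : Set Y) := by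
      rw [← hgen.def]
      exact closure_minimal (Set.singleton_subset_iff.2 (specializes_iff_mem_closure.1 hy'))
        isClosed_closure
    have heq : closure ({y'} : Set Y) = irreducibleComponent y :=
      eq_irreducibleComponent isIrreducible_singleton.closure.isPreirreducible hsub
    have hback : η ⤳ y' := by
      rw [specializes_iff_mem_closure, hgen.def, ← heq]
      exact subset_closure rfl
    exact (hy'.antisymm hback).eq
  obtain ⟨x, x', hxx, hx, hx'⟩ := hf hηy
  refine ⟨x, ?_, hx⟩
  have h1 : x ∈ closure ({x'} : Set X) := specializes_iff_mem_closure.1 hxx
  refine closure_mono ?_ h1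
  intro w hw
  rw [Set.mem_singleton_iff] at hw
  show f w ∈ U
  rw [hw, hx']
  exact hU η hmax

end Groth.Agent.S14789
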