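import Groth.Statements.S14827
import Mathlib

set_option autoImplicit false
universe u
open CategoryTheory MonoidalCategory CartesianMonoidalCategory MonObj GrpObj AlgebraicGeometry
open AbVar

namespace Groth.Agent.S14827

theorem aux_S14827 {C : Type*} [Category C] [CartesianMonoidalCategory C] (X' A : C) [GrpObj A]
    (x₀ x₁ : 𝟙_ C ⟶ X') (alb : X' ⟶ A) (halb : x₀ ≫ alb = η[A]) :
    x₁ ≫ (alb * (toUnit X' ≫ x₁ ≫ alb)⁻¹) = η[A] ∧
    ∀ (B : C) [GrpObj B] (g : X' ⟶ B), x₁ ≫ g = η[B] →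
      (∀ g₀ : X' ⟶ B, x₀ ≫ g₀ = η[B] → ∃! h : A ⟶ B, IsMonHom h ∧ alb ≫ h = g₀) →
      ∃! h : A ⟶ B, IsMonHom h ∧ (alb * (toUnit X' ≫ x₁ ≫ alb)⁻¹) ≫ h = g := by
  have hx : ∀ x : 𝟙_ C ⟶ X', x ≫ toUnit X' = 𝟙 _ := fun x => toUnit_unique _ _
  have hc : ∀ (B : C) (x : 𝟙_ C ⟶ X') (y : 𝟙_ C ⟶ B), x ≫ toUnit X' ≫ y = y := by
    intro B x y; rw [← Category.assoc, hx x, Category.id_comp]
  refine ⟨?_, ?_⟩
  · rw [MonObj.comp_mul, GrpObj.comp_inv, hc, mul_inv_cancel]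
    exact (MonObj.one_eq_one A).symm
  · intro B _ g hg huniv
    obtain ⟨d, hd⟩ : ∃ d : X' ⟶ B, d = toUnit X' ≫ x₀ ≫ g := ⟨_, rfl⟩
    obtain ⟨c, hcdef⟩ : ∃ c : X' ⟶ A, c = toUnit X' ≫ x₁ ≫ alb := ⟨_, rfl⟩
    rw [← hcdef]
    have hx0d : x₀ ≫ d = x₀ ≫ g := by rw [hd, hc]
    have hx1d : x₁ ≫ d = x₀ ≫ g := by rw [hd, hc]
    have hη : (η[B] : 𝟙_ C ⟶ B) = 1 := MonObj.one_eq_one B
    have hg₀ : x₀ ≫ (g * d⁻¹) = η[B] := by
      rw [MonObj.comp_mul, GrpObj.comp_inv, hx0d, mul_inv_cancel]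
      exact hη.symm
    obtain ⟨h, ⟨hh1, hh2⟩, huniq⟩ := huniv (g * d⁻¹) hg₀
    refine ⟨h, ⟨hh1, ?_⟩, ?_⟩
    · haveI := hh1
      have h1 : x₁ ≫ (g * d⁻¹) = (x₀ ≫ g)⁻¹ := by
        rw [MonObj.comp_mul, GrpObj.comp_inv, hx1d, hg, hη, _root_.one_mul]
      have h2 : c ≫ h = d⁻¹ := by
        rw [hcdef, Category.assoc, Category.assoc, hh2, h1, GrpObj.comp_inv, hd]
      rw [MonObj.mul_comp, GrpObj.inv_comp, hh2, h2, _root_.inv_inv, inv_mul_cancel_right]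
    · rintro h' ⟨hh1', hh2'⟩
      haveI := hh1'
      apply huniq
      refine ⟨hh1', ?_⟩
      have ha : alb ≫ h' = g * (toUnit X' ≫ x₁ ≫ alb ≫ h') := by
        have h6 : alb = (alb * c⁻¹) * c := by rw [inv_mul_cancel_right]
        conv_lhs => rw [h6]
        rw [MonObj.mul_comp, hh2', hcdef, Category.assoc, Category.assoc]
      have h3 : x₀ ≫ alb ≫ h' = 1 := by
        rw [← Category.assoc, halb, IsMonHom.one_hom, hη]
      have h4' : x₀ ≫ alb ≫ h' = x₀ ≫ (g * (toUnit X' ≫ x₁ ≫ alb ≫ h')) := by rw [← ha]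
      rw [MonObj.comp_mul, hc, h3] at h4'
      have h5 : x₁ ≫ alb ≫ h' = (x₀ ≫ g)⁻¹ := eq_inv_of_mul_eq_one_right h4'.symm
      rw [ha, h5, GrpObj.comp_inv, hd]

/-- Over a field k (the published statement is over a base scheme S), let X be a proper k-scheme with
H^0(X, O_X) one-dimensional and a k-rational point x₀, and alb : X → A the Albanese morphism for the
base point x₀ (A an abelian variety — proper, geometrically integral group scheme — with alb(x₀) =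
0, universal among pointed morphisms to geometrically reduced, connected, proper group schemes). For
a second k-rational point x₁ let alb' = alb · (constant map with value alb(x₁))⁻¹, i.e. alb followed
by the translation of A by −alb(x₁). Then alb' is the Albanese morphism of X pointed by x₁: alb'(x₁)
= 0, and every k-morphism g : X → B to an abelian variety B with g(x₁) = 0 equals alb' ≫ h for a
unique homomorphism h : A → B. -/
theorem result (k : Type u) [Field k] (X : Scheme.{u}) [X.Over (Spec (CommRingCat.of k))]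
    [IsProper (X ↘ Spec (CommRingCat.of k))] (h0 : Module.finrank k (Coh.HH X (Coh.structureModule X) 0) = 1)
    (x₀ : 𝟙_ (Over (Spec (CommRingCat.of k))) ⟶ Over.mk (X ↘ Spec (CommRingCat.of k)))
    (A : Over (Spec (CommRingCat.of k))) [GrpObj A] [IsProper A.hom] [GeometricallyIntegral A.hom]
    (alb : Over.mk (X ↘ Spec (CommRingCat.of k)) ⟶ A) (halb : x₀ ≫ alb = η[A])
    (huniv : ∀ (B : Over (Spec (CommRingCat.of k))) [GrpObj B] [IsProper B.hom] [GeometricallyReduced B.hom] [ConnectedSpace ↥B.left]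
      (g : Over.mk (X ↘ Spec (CommRingCat.of k)) ⟶ B), x₀ ≫ g = η[B] → ∃! h : A ⟶ B, IsMonHom h ∧ alb ≫ h = g)
    (x₁ : 𝟙_ (Over (Spec (CommRingCat.of k))) ⟶ Over.mk (X ↘ Spec (CommRingCat.of k))) :
    x₁ ≫ (alb * (toUnit (Over.mk (X ↘ Spec (CommRingCat.of k))) ≫ x₁ ≫ alb)⁻¹) = η[A] ∧
    ∀ (B : Over (Spec (CommRingCat.of k))) [GrpObj B] [IsProper B.hom] [GeometricallyReduced B.hom] [ConnectedSpace ↥B.left]
      (g : Over.mk (X ↘ Spec (CommRingCat.of k)) ⟶ B), x₁ ≫ g = η[B] →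
        ∃! h : A ⟶ B, IsMonHom h ∧ (alb * (toUnit (Over.mk (X ↘ Spec (CommRingCat.of k))) ≫ x₁ ≫ alb)⁻¹) ≫ h = g := by
  have H := aux_S14827 (Over.mk (X ↘ Spec (CommRingCat.of k))) A x₀ x₁ alb halb
  refine ⟨H.1, ?_⟩
  intro B _ _ _ _ g hg
  exact H.2 B g hg (fun g₀ hg₀ => huniv B g₀ hg₀)

end Groth.Agent.S14827
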