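import Groth.Statements.S1484
import Mathlib

set_option autoImplicit false
universe u
open FlatMor

namespace Groth.Agent.S1484

/-- Let R be a ring, p_1, …, p_r primes of R none of which is contained in another, k_i ⊆ κ(p_i)
subfields over which κ(p_i) is not algebraic, and J an ideal of R contained in none of the p_i. Then
some x ∈ J has image in κ(p_i) transcendental over k_i for every i. -/
theorem result {R : Type u} [CommRing R] {r : ℕ} (p : Fin r → Ideal R) [∀ i, (p i).IsPrime]
    (hp : ∀ i j, i ≠ j → ¬ p i ≤ p j) (k : ∀ i, Subfield (p i).ResidueField)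
    (hk : ∀ i, ¬ Algebra.IsAlgebraic ↥(k i) (p i).ResidueField) (J : Ideal R) (hJ : ∀ i, ¬ J ≤ p i) :
    ∃ x ∈ J, ∀ i, Transcendental ↥(k i) (algebraMap R (p i).ResidueField x) := by
  classical
  have step1 : ∀ i, ∃ y ∈ J, (∀ j, j ≠ i → y ∈ p j) ∧ y ∉ p i := by
    intro i
    have hnle : ¬ (J * ∏ j ∈ Finset.univ.erase i, p j) ≤ p i := by
      intro hle
      rcases (Ideal.IsPrime.mul_le inferInstance).mp hle with h1 | h1
      · exact hJ i h1
      · obtain ⟨j, hj, hji⟩ := (Ideal.IsPrime.prod_le inferInstance).mp h1
        exact hp j i (Finset.ne_of_mem_erase hj) hji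
    obtain ⟨y, hy, hyi⟩ := SetLike.not_le_iff_exists.mp hnle
    have hy' := Ideal.mem_inf.mp (Ideal.mul_le_inf hy)
    refine ⟨y, hy'.1, ?_, hyi⟩
    intro j hj
    have h3 := Ideal.prod_le_inf hy'.2
    exact (Finset.inf_le (Finset.mem_erase.mpr ⟨hj, Finset.mem_univ j⟩) :
      (Finset.univ.erase i).inf p ≤ p j) h3
  have step2 : ∀ i (y : R), y ∉ p i →
      ∃ a : R, Transcendental ↥(k i) (algebraMap R (p i).ResidueField (a * y)) := by
    intro i y hy
    by_contra hcon
    push_neg at hcon
    have halg : ∀ a : R, IsAlgebraic ↥(k i) (algebraMap R (p i).ResidueField (a * y)) :=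
      fun a => by
        have := hcon a
        rwa [Transcendental, not_not] at this
    apply hk i
    have hy0 : algebraMap R (p i).ResidueField y ≠ 0 := by
      rw [Ne, Ideal.algebraMap_residueField_eq_zero]
      exact hy
    have hmem : ∀ a : R, algebraMap R (p i).ResidueField a ∈
        algebraicClosure ↥(k i) (p i).ResidueField := by
      intro a
      have h1 : algebraMap R (p i).ResidueField (a * y) ∈
          algebraicClosure ↥(k i) (p i).ResidueField := mem_algebraicClosure_iff.mpr (halg a)
      have h2 : algebraMap R (p i).ResidueField y ∈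
          algebraicClosure ↥(k i) (p i).ResidueField := by
        have := halg 1
        rw [one_mul] at this
        exact mem_algebraicClosure_iff.mpr this
      have h3 : algebraMap R (p i).ResidueField a =
          algebraMap R (p i).ResidueField (a * y) / algebraMap R (p i).ResidueField y := by
        rw [map_mul, mul_div_assoc, div_self hy0, mul_one]
      rw [h3]
      exact div_mem h1 h2
    refine ⟨fun z => ?_⟩
    obtain ⟨a, b, hb, rfl⟩ := IsFractionRing.div_surjective (A := R ⧸ p i) z
    obtain ⟨a, rfl⟩ := Ideal.Quotient.mk_surjective a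
    obtain ⟨b, rfl⟩ := Ideal.Quotient.mk_surjective b
    apply mem_algebraicClosure_iff.mp
    have e : ∀ c : R, algebraMap (R ⧸ p i) (p i).ResidueField (Ideal.Quotient.mk (p i) c) =
        algebraMap R (p i).ResidueField c := fun c => by
      rw [← Ideal.Quotient.algebraMap_eq, ← IsScalarTower.algebraMap_apply]
    rw [e, e]
    exact div_mem (hmem a) (hmem b)
  choose y hyJ hyj hyi using step1
  choose a ha using fun i => step2 i (y i) (hyi i)
  refine ⟨∑ j, a j * y j, J.sum_mem fun j _ => J.mul_mem_left _ (hyJ j), fun i => ?_⟩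
  have hsum : algebraMap R (p i).ResidueField (∑ j, a j * y j) =
      algebraMap R (p i).ResidueField (a i * y i) := by
    rw [map_sum]
    apply Finset.sum_eq_single i
    · intro j _ hji
      rw [Ideal.algebraMap_residueField_eq_zero]
      exact (p i).mul_mem_left _ (hyj j i hji.symm)
    · intro h
      exact absurd (Finset.mem_univ i) h
  rw [hsum]
  exact ha i

end Groth.Agent.S1484
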