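import Groth.Statements.S14844
import Mathlib

set_option autoImplicit false
universe u v w w'
open HopfRep

namespace Groth.Agent.S14844

open scoped TensorProduct

section aux
variable {R : Type u} {C : Type v} [CommRing R] [AddCommGroup C] [Module R C] [Coalgebra R C]
variable {V : Type w'} [AddCommGroup V] [Module R V] [HopfRep.Comod R C V]

/-- T φ = (id ⊗ φ) ∘ ρ -/
noncomputable def T (φ : C →ₗ[R] R) : V →ₗ[R] V :=
  (TensorProduct.rid R V).toLinearMap ∘ₗ φ.lTensor V ∘ₗ HopfRep.Comod.coact (k := R) (A := C)

theorem T_apply (φ : C →ₗ[R] R) (v : V) :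
    T φ v = (TensorProduct.rid R V) (φ.lTensor V (HopfRep.Comod.coact (k := R) (A := C) v)) := rfl

theorem coact_T (φ : C →ₗ[R] R) (v : V) :
    HopfRep.Comod.coact (k := R) (A := C) (T φ v) =
      ((TensorProduct.rid R C).toLinearMap ∘ₗ φ.lTensor C ∘ₗ
        Coalgebra.comul (R := R) (A := C)).lTensor V
        (HopfRep.Comod.coact (k := R) (A := C) v) := by
  have A1 : ∀ y : V ⊗[R] C,
      HopfRep.Comod.coact (k := R) (A := C) ((TensorProduct.rid R V) (φ.lTensor V y)) =
        (TensorProduct.rid R (V ⊗[R] C)) (φ.lTensor (V ⊗[R] C)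
          ((HopfRep.Comod.coact (k := R) (A := C) (V := V)).rTensor C y)) := by
    intro y
    induction y using TensorProduct.induction_on with
    | zero => simp
    | tmul m a => simp
    | add y z ihy ihz => simp only [map_add, ihy, ihz]
  have A3w : ∀ (x : V) (w : C ⊗[R] C),
      (TensorProduct.rid R (V ⊗[R] C)) (φ.lTensor (V ⊗[R] C)
        ((TensorProduct.assoc R V C C).symm (x ⊗ₜ[R] w))) =
      x ⊗ₜ[R] (TensorProduct.rid R C) (φ.lTensor C w) := by
    intro x w
    induction w using TensorProduct.induction_on with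
    | zero => simp
    | tmul a b =>
      simp only [TensorProduct.assoc_symm_tmul, LinearMap.lTensor_tmul, TensorProduct.rid_tmul,
        TensorProduct.tmul_smul]
    | add w₁ w₂ h₁ h₂ => simp only [TensorProduct.tmul_add, map_add, h₁, h₂]
  have A3 : ∀ y : V ⊗[R] C,
      (TensorProduct.rid R (V ⊗[R] C)) (φ.lTensor (V ⊗[R] C)
        ((TensorProduct.assoc R V C C).symm
          ((Coalgebra.comul (R := R) (A := C)).lTensor V y))) =
      ((TensorProduct.rid R C).toLinearMap ∘ₗ φ.lTensor C ∘ₗ
        Coalgebra.comul (R := R) (A := C)).lTensor V y := by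
    intro y
    induction y using TensorProduct.induction_on with
    | zero => simp
    | tmul x c =>
      simp only [LinearMap.lTensor_tmul, A3w]
      rfl
    | add y z ihy ihz => simp only [map_add, ihy, ihz]
  have hco := LinearMap.congr_fun (HopfRep.Comod.coassoc (k := R) (A := C) (V := V)) v
  simp only [LinearMap.comp_apply, LinearEquiv.coe_coe] at hco
  rw [T_apply, A1, ← A3, ← hco, LinearEquiv.symm_apply_apply]

theorem rTensor_T (φ : C →ₗ[R] R) (v : V) :
    (T (V := V) φ).rTensor C (HopfRep.Comod.coact (k := R) (A := C) v) =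
      ((TensorProduct.lid R C).toLinearMap ∘ₗ φ.rTensor C ∘ₗ
        Coalgebra.comul (R := R) (A := C)).lTensor V
        (HopfRep.Comod.coact (k := R) (A := C) v) := by
  have B3w : ∀ (x : V) (w : C ⊗[R] C),
      ((TensorProduct.rid R V).toLinearMap ∘ₗ φ.lTensor V).rTensor C
        ((TensorProduct.assoc R V C C).symm (x ⊗ₜ[R] w)) =
      x ⊗ₜ[R] (TensorProduct.lid R C) (φ.rTensor C w) := by
    intro x w
    induction w using TensorProduct.induction_on with
    | zero => simp
    | tmul a b =>
      simp only [TensorProduct.assoc_symm_tmul, LinearMap.rTensor_tmul, LinearMap.comp_apply,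
        LinearMap.lTensor_tmul, LinearEquiv.coe_coe, TensorProduct.rid_tmul,
        TensorProduct.lid_tmul, TensorProduct.smul_tmul]
    | add w₁ w₂ h₁ h₂ => simp only [TensorProduct.tmul_add, map_add, h₁, h₂]
  have B3 : ∀ y : V ⊗[R] C,
      ((TensorProduct.rid R V).toLinearMap ∘ₗ φ.lTensor V).rTensor C
        ((TensorProduct.assoc R V C C).symm
          ((Coalgebra.comul (R := R) (A := C)).lTensor V y)) =
      ((TensorProduct.lid R C).toLinearMap ∘ₗ φ.rTensor C ∘ₗ
        Coalgebra.comul (R := R) (A := C)).lTensor V y := by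
    intro y
    induction y using TensorProduct.induction_on with
    | zero => simp
    | tmul x c =>
      simp only [LinearMap.lTensor_tmul, B3w]
      rfl
    | add y z ihy ihz => simp only [map_add, ihy, ihz]
  have hco := LinearMap.congr_fun (HopfRep.Comod.coassoc (k := R) (A := C) (V := V)) v
  simp only [LinearMap.comp_apply, LinearEquiv.coe_coe] at hco
  have hT : (T (V := V) φ).rTensor C =
      ((TensorProduct.rid R V).toLinearMap ∘ₗ φ.lTensor V).rTensor C ∘ₗ
        (HopfRep.Comod.coact (k := R) (A := C) (V := V)).rTensor C := by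
    rw [← LinearMap.rTensor_comp]; rfl
  rw [hT, LinearMap.comp_apply, ← B3, ← hco, LinearEquiv.symm_apply_apply]

end aux


open TensorProduct in
/-- Let R be a commutative ring and C an R-coalgebra, flat over R, which is the internal direct sum of
subcoalgebras D_i (submodules whose comultiplication lands in the image of D_i ⊗ D_i, independent
and with supremum C). Then every right C-comodule V is the internal direct sum of the subcomodules
V_i, where V_i is the preimage under the coaction of the image of V ⊗ D_i in V ⊗ C, and the coaction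
maps V_i into the image of V_i ⊗ D_i, so that the comodule structure of V_i reduces to a
D_i-comodule structure. (The published statement is for a flat sheaf of coalgebras over a base
scheme and left comodules on a scheme over it; this row is the case of an affine base with modules
of global sections, for right comodules.) -/
theorem result {R : Type u} {C : Type v} [CommRing R]
    [AddCommGroup C] [Module R C] [Coalgebra R C] [Module.Flat R C]
    {ι : Type w} (D : ι → Submodule R C)
    (hD : ∀ i, ∀ d ∈ D i, CoalgebraStruct.comul (R := R) d ∈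
      LinearMap.range (TensorProduct.map (D i).subtype (D i).subtype))
    (hind : iSupIndep D) (htop : iSup D = ⊤)
    {V : Type w'} [AddCommGroup V] [Module R V] [HopfRep.Comod R C V] :
    (∀ i, HopfRep.IsSubcomod (k := R) (A := C) ((LinearMap.range (LinearMap.lTensor V (D i).subtype)).comap
        (HopfRep.Comod.coact (k := R) (A := C) (V := V)))) ∧
    iSupIndep (fun i => ((LinearMap.range (LinearMap.lTensor V (D i).subtype)).comap
        (HopfRep.Comod.coact (k := R) (A := C) (V := V)))) ∧
    (⨆ i, ((LinearMap.range (LinearMap.lTensor V (D i).subtype)).comap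
        (HopfRep.Comod.coact (k := R) (A := C) (V := V)))) = ⊤ ∧
    ∀ i, ∀ v ∈ ((LinearMap.range (LinearMap.lTensor V (D i).subtype)).comap
        (HopfRep.Comod.coact (k := R) (A := C) (V := V))),
      HopfRep.Comod.coact (k := R) (A := C) v ∈
        LinearMap.range (TensorProduct.map ((LinearMap.range (LinearMap.lTensor V (D i).subtype)).comap
        (HopfRep.Comod.coact (k := R) (A := C) (V := V))).subtype (D i).subtype) := by
  classical
  have hc : ∀ i, IsCompl (D i) (⨆ (j) (_ : j ≠ i), D j) := by
    intro i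
    refine ⟨hind i, ?_⟩
    rw [codisjoint_iff, eq_top_iff, ← htop]
    refine iSup_le (fun j => ?_)
    by_cases h : j = i
    · rw [h]; exact le_sup_left
    · exact le_sup_of_le_right (le_iSup₂ (f := fun j (_ : j ≠ i) => D j) j h)
  obtain ⟨pr, hpr_same, hpr_ne⟩ : ∃ pr : ∀ i, C →ₗ[R] D i,
      (∀ i (c : D i), pr i (c : C) = c) ∧ (∀ i j, j ≠ i → ∀ c ∈ D j, pr i c = 0) := by
    refine ⟨fun i => Submodule.projectionOnto (D i) _ (hc i), ?_, ?_⟩
    · intro i c
      exact Submodule.projectionOnto_apply_left (hc i) c
    · intro i j hji c hcj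
      rw [Submodule.projectionOnto_apply_eq_zero_iff]
      exact Submodule.mem_iSup_of_mem j (Submodule.mem_iSup_of_mem hji hcj)
  obtain ⟨p, hp⟩ : ∃ p : ι → (C →ₗ[R] C), ∀ i, p i = (D i).subtype ∘ₗ pr i :=
    ⟨_, fun _ => rfl⟩
  have hp_same : ∀ i, ∀ c ∈ D i, p i c = c := by
    intro i c hci
    have h2 : pr i c = ⟨c, hci⟩ := hpr_same i ⟨c, hci⟩
    rw [hp, LinearMap.comp_apply, h2]
    rfl
  have hp_ne : ∀ i j, j ≠ i → ∀ c ∈ D j, p i c = 0 := by
    intro i j hji c hcj
    rw [hp, LinearMap.comp_apply, hpr_ne i j hji c hcj, map_zero]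
  have hFc : ∀ c : C, ∃ F : Finset ι, ∀ F' : Finset ι, F ⊆ F' → c = ∑ i ∈ F', p i c := by
    intro c
    have hcm : c ∈ ⨆ i, D i := by rw [htop]; trivial
    refine Submodule.iSup_induction D
      (motive := fun c => ∃ F : Finset ι, ∀ F' : Finset ι, F ⊆ F' → c = ∑ i ∈ F', p i c)
      hcm ?_ ?_ ?_
    · intro j c hcj
      refine ⟨{j}, fun F' hF' => ?_⟩
      rw [Finset.sum_eq_single j]
      · exact (hp_same j c hcj).symm
      · intro i _ hij
        exact hp_ne i j (Ne.symm hij) c hcj
      · intro hj
        exact absurd (hF' (Finset.mem_singleton_self j)) hj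
    · exact ⟨∅, fun F' _ => by simp⟩
    · rintro a b ⟨Fa, ha⟩ ⟨Fb, hb⟩
      refine ⟨Fa ∪ Fb, fun F' hF' => ?_⟩
      have h1 := ha F' (Finset.union_subset_left hF')
      have h2 := hb F' (Finset.union_subset_right hF')
      simp only [map_add, Finset.sum_add_distrib]
      rw [← h1, ← h2]
  have hFt : ∀ t : V ⊗[R] C, ∃ F : Finset ι, ∀ F' : Finset ι, F ⊆ F' →
      t = ∑ i ∈ F', (p i).lTensor V t := by
    intro t
    induction t using TensorProduct.induction_on with
    | zero => exact ⟨∅, fun F' _ => by simp⟩
    | tmul x c =>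
      obtain ⟨F, hF⟩ := hFc c
      refine ⟨F, fun F' hF' => ?_⟩
      simp only [LinearMap.lTensor_tmul]
      rw [← TensorProduct.tmul_sum, ← hF F' hF']
    | add a b ha hb =>
      obtain ⟨Fa, ha⟩ := ha
      obtain ⟨Fb, hb⟩ := hb
      refine ⟨Fa ∪ Fb, fun F' hF' => ?_⟩
      have h1 := ha F' (Finset.union_subset_left hF')
      have h2 := hb F' (Finset.union_subset_right hF')
      simp only [map_add, Finset.sum_add_distrib]
      rw [← h1, ← h2]
  have hΔl : ∀ i c, Coalgebra.comul (R := R) (p i c) =
      (p i).lTensor C (Coalgebra.comul (R := R) c) := by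
    intro i c
    have hcm : c ∈ ⨆ i, D i := by rw [htop]; trivial
    refine Submodule.iSup_induction D
      (motive := fun c => Coalgebra.comul (R := R) (p i c) =
        (p i).lTensor C (Coalgebra.comul (R := R) c)) hcm ?_ ?_ ?_
    · intro j c hcj
      obtain ⟨z, hz⟩ := hD j c hcj
      rw [← hz, LinearMap.lTensor_map]
      by_cases hji : j = i
      · subst hji
        have h3 : p j ∘ₗ (D j).subtype = (D j).subtype := by
          ext d; exact hp_same j d d.2
        rw [h3, hp_same j c hcj]
        exact hz.symm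
      · have h3 : p i ∘ₗ (D j).subtype = 0 := by
          ext d; exact hp_ne i j hji d d.2
        rw [h3, hp_ne i j hji c hcj, map_zero, TensorProduct.map_zero_right,
          LinearMap.zero_apply]
    · simp
    · intro a b ha hb
      simp only [map_add, ha, hb]
  have hΔr : ∀ i c, Coalgebra.comul (R := R) (p i c) =
      (p i).rTensor C (Coalgebra.comul (R := R) c) := by
    intro i c
    have hcm : c ∈ ⨆ i, D i := by rw [htop]; trivial
    refine Submodule.iSup_induction D
      (motive := fun c => Coalgebra.comul (R := R) (p i c) =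
        (p i).rTensor C (Coalgebra.comul (R := R) c)) hcm ?_ ?_ ?_
    · intro j c hcj
      obtain ⟨z, hz⟩ := hD j c hcj
      rw [← hz, LinearMap.rTensor_map]
      by_cases hji : j = i
      · subst hji
        have h3 : p j ∘ₗ (D j).subtype = (D j).subtype := by
          ext d; exact hp_same j d d.2
        rw [h3, hp_same j c hcj]
        exact hz.symm
      · have h3 : p i ∘ₗ (D j).subtype = 0 := by
          ext d; exact hp_ne i j hji d d.2
        rw [h3, hp_ne i j hji c hcj, map_zero, TensorProduct.map_zero_left,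
          LinearMap.zero_apply]
    · simp
    · intro a b ha hb
      simp only [map_add, ha, hb]
  have hψ : ∀ i, ((TensorProduct.rid R C).toLinearMap ∘ₗ
      (Coalgebra.counit (R := R) ∘ₗ p i).lTensor C ∘ₗ Coalgebra.comul (R := R) (A := C)) = p i := by
    intro i
    apply LinearMap.ext
    intro c
    show (TensorProduct.rid R C) ((Coalgebra.counit (R := R) ∘ₗ p i).lTensor C
      (Coalgebra.comul (R := R) c)) = p i c
    rw [LinearMap.lTensor_comp_apply, ← hΔl, Coalgebra.lTensor_counit_comul,
      TensorProduct.rid_tmul, one_smul]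
  have hψ' : ∀ i, ((TensorProduct.lid R C).toLinearMap ∘ₗ
      (Coalgebra.counit (R := R) ∘ₗ p i).rTensor C ∘ₗ Coalgebra.comul (R := R) (A := C)) = p i := by
    intro i
    apply LinearMap.ext
    intro c
    show (TensorProduct.lid R C) ((Coalgebra.counit (R := R) ∘ₗ p i).rTensor C
      (Coalgebra.comul (R := R) c)) = p i c
    rw [LinearMap.rTensor_comp_apply, ← hΔr, Coalgebra.rTensor_counit_comul,
      TensorProduct.lid_tmul, one_smul]
  obtain ⟨e, he⟩ : ∃ e : ι → (V →ₗ[R] V),
      ∀ i, e i = T (Coalgebra.counit (R := R) ∘ₗ p i) := ⟨_, fun _ => rfl⟩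
  have hA : ∀ i v, HopfRep.Comod.coact (k := R) (A := C) (e i v) =
      (p i).lTensor V (HopfRep.Comod.coact (k := R) (A := C) v) := by
    intro i v
    rw [he, coact_T, hψ]
  have hB : ∀ i v, (e i).rTensor C (HopfRep.Comod.coact (k := R) (A := C) v) =
      (p i).lTensor V (HopfRep.Comod.coact (k := R) (A := C) v) := by
    intro i v
    rw [he, rTensor_T, hψ']
  have hcu : ∀ v : V, (TensorProduct.rid R V) ((Coalgebra.counit (R := R)).lTensor V
      (HopfRep.Comod.coact (k := R) (A := C) v)) = v := by
    intro v
    have h := LinearMap.congr_fun (HopfRep.Comod.counit_comp (k := R) (A := C) (V := V)) v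
    simp only [LinearMap.comp_apply] at h
    rw [h]; simp
  -- the pieces
  have hF1 : ∀ i v, e i v ∈ (LinearMap.range (LinearMap.lTensor V (D i).subtype)).comap
      (HopfRep.Comod.coact (k := R) (A := C) (V := V)) := by
    intro i v
    show HopfRep.Comod.coact (k := R) (A := C) (e i v) ∈
      LinearMap.range (LinearMap.lTensor V (D i).subtype)
    rw [hA, hp, LinearMap.lTensor_comp_apply]
    exact LinearMap.mem_range_self _ _
  have hF2 : ∀ i, ∀ v ∈ (LinearMap.range (LinearMap.lTensor V (D i).subtype)).comap
      (HopfRep.Comod.coact (k := R) (A := C) (V := V)), e i v = v := by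
    intro i v hv
    obtain ⟨z, hz⟩ := hv
    have h3 : (Coalgebra.counit (R := R) ∘ₗ p i) ∘ₗ (D i).subtype =
        Coalgebra.counit (R := R) ∘ₗ (D i).subtype := by
      ext d
      simp only [LinearMap.comp_apply, Submodule.subtype_apply]
      rw [hp_same i d d.2]
    rw [he, T_apply, ← hz, ← LinearMap.lTensor_comp_apply, h3, LinearMap.lTensor_comp_apply, hz,
      hcu]
  have hF3 : ∀ i j, j ≠ i → ∀ v ∈ (LinearMap.range (LinearMap.lTensor V (D j).subtype)).comap
      (HopfRep.Comod.coact (k := R) (A := C) (V := V)), e i v = 0 := by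
    intro i j hji v hv
    obtain ⟨z, hz⟩ := hv
    have h3 : (Coalgebra.counit (R := R) ∘ₗ p i) ∘ₗ (D j).subtype = 0 := by
      ext d
      simp only [LinearMap.comp_apply, LinearMap.zero_apply, Submodule.subtype_apply]
      rw [hp_ne i j hji d d.2, map_zero]
    rw [he, T_apply, ← hz, ← LinearMap.lTensor_comp_apply, h3, LinearMap.lTensor_zero,
      LinearMap.zero_apply, map_zero]
  have h5 : ∀ i, ∀ v ∈ (LinearMap.range (LinearMap.lTensor V (D i).subtype)).comap
      (HopfRep.Comod.coact (k := R) (A := C) (V := V)),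
      (e i).rTensor C (HopfRep.Comod.coact (k := R) (A := C) v) =
        HopfRep.Comod.coact (k := R) (A := C) v := by
    intro i v hv
    rw [hB, ← hA, hF2 i v hv]
  have h7 : ∀ i, ∀ v ∈ (LinearMap.range (LinearMap.lTensor V (D i).subtype)).comap
      (HopfRep.Comod.coact (k := R) (A := C) (V := V)),
      (p i).lTensor V (HopfRep.Comod.coact (k := R) (A := C) v) =
        HopfRep.Comod.coact (k := R) (A := C) v := by
    intro i v hv
    rw [← hA, hF2 i v hv]
  refine ⟨?_, ?_, ?_, ?_⟩
  · intro i v hv
    refine ⟨(LinearMap.codRestrict _ (e i) (hF1 i)).rTensor C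
      (HopfRep.Comod.coact (k := R) (A := C) v), ?_⟩
    rw [← LinearMap.rTensor_comp_apply, LinearMap.subtype_comp_codRestrict]
    exact h5 i v hv
  · intro i
    rw [Submodule.disjoint_def]
    intro x hx hx'
    have hker : (⨆ (j) (_ : j ≠ i), (LinearMap.range (LinearMap.lTensor V (D j).subtype)).comap
        (HopfRep.Comod.coact (k := R) (A := C) (V := V))) ≤ LinearMap.ker (e i) :=
      iSup₂_le (fun j hj y hy => LinearMap.mem_ker.mpr (hF3 i j hj y hy))
    have h0 : e i x = 0 := LinearMap.mem_ker.mp (hker hx')
    rw [← hF2 i x hx, h0]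
  · rw [eq_top_iff]
    intro v _
    obtain ⟨F, hF⟩ := hFt (HopfRep.Comod.coact (k := R) (A := C) v)
    have h9 := hF F (Finset.Subset.refl F)
    have hv : v = ∑ i ∈ F, e i v := by
      calc v = (TensorProduct.rid R V) ((Coalgebra.counit (R := R)).lTensor V
            (HopfRep.Comod.coact (k := R) (A := C) v)) := (hcu v).symm
        _ = (TensorProduct.rid R V) ((Coalgebra.counit (R := R)).lTensor V
            (∑ i ∈ F, (p i).lTensor V (HopfRep.Comod.coact (k := R) (A := C) v))) := by
          rw [← h9]
        _ = ∑ i ∈ F, e i v := by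
          rw [map_sum, map_sum]
          refine Finset.sum_congr rfl (fun i _ => ?_)
          rw [he, T_apply, LinearMap.lTensor_comp_apply]
    rw [hv]
    exact Submodule.sum_mem _ (fun i _ => Submodule.mem_iSup_of_mem i (hF1 i v))
  · intro i v hv
    refine ⟨TensorProduct.map (LinearMap.codRestrict _ (e i) (hF1 i)) (pr i)
      (HopfRep.Comod.coact (k := R) (A := C) v), ?_⟩
    rw [TensorProduct.map_map, LinearMap.subtype_comp_codRestrict, ← hp,
      ← LinearMap.rTensor_comp_lTensor, LinearMap.comp_apply, h7 i v hv, h5 i v hv]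

end Groth.Agent.S14844
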