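import Groth.Statements.S14846
import Mathlib

set_option autoImplicit false
universe u v w
open Brauer

namespace Groth.Agent.S14846

open TensorProduct

section Aux

variable {K : Type u} {L : Type v} [Field K] [Field L] [Algebra K L]
  {A : Type w} [Ring A] [Algebra K A]

/-- the action of the Galois group on `L ⊗ A` through the first factor -/
noncomputable abbrev Φ (γ : L ≃ₐ[K] L) : (L ⊗[K] A) →ₐ[K] (L ⊗[K] A) :=
  Algebra.TensorProduct.map (γ : L →ₐ[K] L) (AlgHom.id K A)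

theorem Φ_mul (γ δ : L ≃ₐ[K] L) (x : L ⊗[K] A) : Φ (A := A) γ (Φ δ x) = Φ (γ * δ) x := by
  induction x using TensorProduct.induction_on with
  | zero => simp only [map_zero]
  | tmul l a =>
    simp only [Φ, Algebra.TensorProduct.map_tmul]
    rfl
  | add x y hx hy => simp only [map_add, hx, hy]

theorem Φ_one (x : L ⊗[K] A) : Φ (A := A) (1 : L ≃ₐ[K] L) x = x := by
  induction x using TensorProduct.induction_on with
  | zero => simp only [map_zero]
  | tmul l a =>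
    simp only [Φ, Algebra.TensorProduct.map_tmul]
    rfl
  | add x y hx hy => simp only [map_add, hx, hy]

theorem repr_Φ {ι : Type*} (b : Module.Basis ι K A) (γ : L ≃ₐ[K] L) (x : L ⊗[K] A) (i : ι) :
    (Algebra.TensorProduct.basis L b).repr (Φ γ x) i
      = γ ((Algebra.TensorProduct.basis L b).repr x i) := by
  induction x using TensorProduct.induction_on with
  | zero => simp only [map_zero, Finsupp.coe_zero, Pi.zero_apply]
  | tmul l a =>
    simp only [Φ, Algebra.TensorProduct.map_tmul, AlgHom.coe_coe, AlgHom.coe_id, id_eq,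
      Algebra.TensorProduct.basis_repr_tmul, Finsupp.smul_apply, Finsupp.mapRange_apply,
      smul_eq_mul, map_mul, AlgEquiv.commutes]
    rfl
  | add x y hx hy => simp only [map_add, Finsupp.add_apply, hx, hy]

theorem descent [IsGalois K L] [IsSimpleRing A] (N : TwoSidedIdeal (L ⊗[K] A))
    (hstab : ∀ (γ : L ≃ₐ[K] L) (x : L ⊗[K] A), x ∈ N → Φ γ x ∈ N)
    (x₀ : L ⊗[K] A) (hx₀N : x₀ ∈ N) (hx₀ : x₀ ≠ 0) : (1 : L ⊗[K] A) ∈ N := by
  classical
  obtain ⟨ι, ⟨b⟩⟩ : ∃ ι : Type w, Nonempty (Module.Basis ι K A) :=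
    ⟨_, ⟨Module.Basis.ofVectorSpace K A⟩⟩
  obtain ⟨bL, hbL⟩ : ∃ bL : Module.Basis ι L (L ⊗[K] A),
      bL = Algebra.TensorProduct.basis L b := ⟨_, rfl⟩
  have hrepr : ∀ (γ : L ≃ₐ[K] L) (x : L ⊗[K] A) (i : ι),
      bL.repr (Φ γ x) i = γ (bL.repr x i) := by
    intro γ x i; rw [hbL]; exact repr_Φ b γ x i
  have hbi : ∀ i, bL i = (1 : L) ⊗ₜ[K] b i := by
    intro i; rw [hbL, Algebra.TensorProduct.basis_apply]
  have hex : ∃ n, ∃ y, y ∈ N ∧ y ≠ 0 ∧ (bL.repr y).support.card = n :=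
    ⟨_, x₀, hx₀N, hx₀, rfl⟩
  obtain ⟨x, hxN, hx0, hxc⟩ := Nat.find_spec hex
  have hmin : ∀ y, y ∈ N → y ≠ 0 →
      (bL.repr x).support.card ≤ (bL.repr y).support.card := by
    intro y hy hy0
    rw [hxc]
    exact Nat.find_min' hex ⟨y, hy, hy0, rfl⟩
  have hrx : bL.repr x ≠ 0 := fun h => hx0 ((LinearEquiv.map_eq_zero_iff _).mp h)
  obtain ⟨i₀, hi₀⟩ : ∃ i₀, i₀ ∈ (bL.repr x).support := by
    rcases Finset.eq_empty_or_nonempty (bL.repr x).support with h | h
    · exact absurd (Finsupp.support_eq_empty.mp h) hrx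
    · exact h
  have hc : bL.repr x i₀ ≠ 0 := Finsupp.mem_support_iff.mp hi₀
  obtain ⟨c, hcdef⟩ : ∃ c : L, c = bL.repr x i₀ := ⟨_, rfl⟩
  rw [← hcdef] at hc
  obtain ⟨x', hx'def⟩ : ∃ x' : L ⊗[K] A, x' = c⁻¹ • x := ⟨_, rfl⟩
  have hx'N : x' ∈ N := by
    rw [hx'def, Algebra.smul_def]
    exact N.mul_mem_left _ _ hxN
  have hx'0 : x' ≠ 0 := by
    rw [hx'def]; exact smul_ne_zero (inv_ne_zero hc) hx0
  have hx'repr : ∀ i, bL.repr x' i = c⁻¹ * bL.repr x i := by
    intro i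
    rw [hx'def, map_smul, Finsupp.smul_apply, smul_eq_mul]
  have hx'i₀ : bL.repr x' i₀ = 1 := by rw [hx'repr, ← hcdef, inv_mul_cancel₀ hc]
  have hsupp : (bL.repr x').support ⊆ (bL.repr x).support := by
    intro i hi
    rw [Finsupp.mem_support_iff] at hi ⊢
    intro h
    apply hi
    rw [hx'repr, h, mul_zero]
  have hfixed : ∀ (γ : L ≃ₐ[K] L), Φ γ x' = x' := by
    intro γ
    by_contra hne
    have hy0 : Φ γ x' - x' ≠ 0 := sub_ne_zero.mpr hne
    have hyN : Φ γ x' - x' ∈ N := N.sub_mem (hstab γ x' hx'N) hx'N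
    have h1 := hmin _ hyN hy0
    have h2 : (bL.repr (Φ γ x' - x')).support ⊆ (bL.repr x).support.erase i₀ := by
      intro i hi
      rw [Finsupp.mem_support_iff, map_sub, Finsupp.sub_apply, hrepr] at hi
      rw [Finset.mem_erase]
      refine ⟨?_, ?_⟩
      · rintro rfl
        apply hi
        rw [hx'i₀, map_one, sub_self]
      · apply hsupp
        rw [Finsupp.mem_support_iff]
        intro h
        apply hi
        rw [h, map_zero, sub_self]
    have h3 := Finset.card_le_card h2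
    have h4 := Finset.card_erase_lt_of_mem hi₀
    omega
  have hcoef : ∀ i, ∃ κ : K, algebraMap K L κ = bL.repr x' i := by
    intro i
    have h1 : bL.repr x' i ∈ Set.range (algebraMap K L) := by
      rw [InfiniteGalois.mem_range_algebraMap_iff_fixed]
      intro γ
      rw [← hrepr, hfixed]
    exact h1
  choose κ hκ using hcoef
  obtain ⟨a, hadef⟩ : ∃ a : A, a = ∑ i ∈ (bL.repr x').support, κ i • b i := ⟨_, rfl⟩
  have hx'eq : x' = (1 : L) ⊗ₜ[K] a := by
    have h1 := bL.linearCombination_repr x'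
    rw [Finsupp.linearCombination_apply, Finsupp.sum] at h1
    calc x' = ∑ i ∈ (bL.repr x').support, (bL.repr x' i) • bL i := h1.symm
      _ = ∑ i ∈ (bL.repr x').support, (1 : L) ⊗ₜ[K] (κ i • b i) := by
        refine Finset.sum_congr rfl (fun i _ => ?_)
        rw [hbi, ← hκ i, TensorProduct.smul_tmul', algebraMap_smul, TensorProduct.smul_tmul]
      _ = (1 : L) ⊗ₜ[K] a := by rw [hadef, TensorProduct.tmul_sum]
  have ha0 : a ≠ 0 := by
    intro h
    apply hx'0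
    rw [hx'eq, h, TensorProduct.tmul_zero]
  have haN : a ∈ TwoSidedIdeal.comap
      (Algebra.TensorProduct.includeRight : A →ₐ[K] L ⊗[K] A) N := by
    rw [TwoSidedIdeal.mem_comap, Algebra.TensorProduct.includeRight_apply, ← hx'eq]
    exact hx'N
  have htop : TwoSidedIdeal.comap
      (Algebra.TensorProduct.includeRight : A →ₐ[K] L ⊗[K] A) N = ⊤ := by
    rcases eq_bot_or_eq_top (TwoSidedIdeal.comap
      (Algebra.TensorProduct.includeRight : A →ₐ[K] L ⊗[K] A) N) with h | h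
    · exfalso
      rw [h, TwoSidedIdeal.mem_bot] at haN
      exact ha0 haN
    · exact h
  have h1 : (1 : A) ∈ TwoSidedIdeal.comap
      (Algebra.TensorProduct.includeRight : A →ₐ[K] L ⊗[K] A) N := by
    rw [htop]; trivial
  rw [TwoSidedIdeal.mem_comap, map_one] at h1
  exact h1

end Aux


open TensorProduct in
/-- Let L/K be a Galois extension with group Γ = Aut_K(L), and A a K-algebra which is a simple ring. If
L ⊗_K A is semisimple, then Γ, acting on L ⊗_K A through the first tensor factor, permutes its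
simple components, i.e. its minimal nonzero two-sided ideals, transitively: any minimal two-sided
ideal is carried onto any other by some γ ⊗ id. -/
theorem result
    {K : Type u} {L : Type v} [Field K] [Field L] [Algebra K L] [IsGalois K L]
    {A : Type w} [Ring A] [Algebra K A] [IsSimpleRing A]
    [IsSemisimpleRing (L ⊗[K] A)]
    (I J : TwoSidedIdeal (L ⊗[K] A)) (hI : IsAtom I) (hJ : IsAtom J) :
    ∃ γ : L ≃ₐ[K] L, (J : Set (L ⊗[K] A)) =
      Algebra.TensorProduct.map (γ : L →ₐ[K] L) (AlgHom.id K A) '' (I : Set (L ⊗[K] A)) := by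
  classical
  by_contra hcon
  have hΦinv1 : ∀ (γ : L ≃ₐ[K] L) (x : L ⊗[K] A), Φ γ (Φ γ⁻¹ x) = x := by
    intro γ x; rw [Φ_mul, mul_inv_cancel, Φ_one]
  have hΦinv2 : ∀ (γ : L ≃ₐ[K] L) (x : L ⊗[K] A), Φ γ⁻¹ (Φ γ x) = x := by
    intro γ x; rw [Φ_mul, inv_mul_cancel, Φ_one]
  have exists_ne : ∀ (P : TwoSidedIdeal (L ⊗[K] A)), P ≠ ⊥ → ∃ z, z ∈ P ∧ z ≠ 0 := by
    intro P hP
    by_contra h
    apply hP
    ext z
    rw [TwoSidedIdeal.mem_bot]
    constructor
    · intro hz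
      by_contra hz0
      exact h ⟨z, hz, hz0⟩
    · intro hz
      rw [hz]; exact P.zero_mem
  have claim : ∀ (γ : L ≃ₐ[K] L) (y z : L ⊗[K] A), y ∈ J → Φ γ⁻¹ z ∈ I → y * z = 0 := by
    intro γ y z hy hz
    obtain ⟨γI, hγI⟩ : ∃ γI : TwoSidedIdeal (L ⊗[K] A),
        γI = TwoSidedIdeal.comap (Φ (A := A) γ⁻¹) I := ⟨_, rfl⟩
    have hmemγI : ∀ x, x ∈ γI ↔ Φ γ⁻¹ x ∈ I := by
      intro x; rw [hγI, TwoSidedIdeal.mem_comap]
    have hM : J ⊓ γI ≤ J := inf_le_left
    rcases hJ.le_iff.mp hM with h | h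
    · have h1 : y * z ∈ J ⊓ γI := by
        rw [TwoSidedIdeal.mem_inf]
        exact ⟨J.mul_mem_right _ _ hy, γI.mul_mem_left _ _ ((hmemγI z).mpr hz)⟩
      rw [h, TwoSidedIdeal.mem_bot] at h1
      exact h1
    · exfalso
      have hJle : J ≤ γI := inf_eq_left.mp h
      obtain ⟨J', hJ'⟩ : ∃ J' : TwoSidedIdeal (L ⊗[K] A),
          J' = TwoSidedIdeal.comap (Φ (A := A) γ) J := ⟨_, rfl⟩
      have hmemJ' : ∀ x, x ∈ J' ↔ Φ γ x ∈ J := by
        intro x; rw [hJ', TwoSidedIdeal.mem_comap]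
      have hJ'le : J' ≤ I := by
        intro x hx
        have h2 := (hmemγI _).mp (hJle ((hmemJ' x).mp hx))
        rwa [hΦinv2] at h2
      have hJ'ne : J' ≠ ⊥ := by
        obtain ⟨y0, hy0J, hy0⟩ := exists_ne J hJ.1
        intro hbot
        have h3 : Φ γ⁻¹ y0 ∈ J' := by rw [hmemJ', hΦinv1]; exact hy0J
        rw [hbot, TwoSidedIdeal.mem_bot] at h3
        apply hy0
        have h4 := hΦinv1 γ y0
        rw [h3, map_zero] at h4
        exact h4.symm
      have hJ'I : J' = I := (hI.le_iff.mp hJ'le).resolve_left hJ'ne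
      apply hcon
      refine ⟨γ, ?_⟩
      ext x
      constructor
      · intro hx
        refine ⟨Φ γ⁻¹ x, ?_, hΦinv1 γ x⟩
        have h5 : Φ γ⁻¹ x ∈ J' := by rw [hmemJ', hΦinv1]; exact hx
        rw [hJ'I] at h5; exact h5
      · rintro ⟨w, hw, rfl⟩
        have h5 : w ∈ J' := by rw [hJ'I]; exact hw
        exact (hmemJ' w).mp h5
  obtain ⟨N, hN⟩ : ∃ N : TwoSidedIdeal (L ⊗[K] A), ∀ x, x ∈ N ↔
      ∀ (γ : L ≃ₐ[K] L) (y : L ⊗[K] A), y ∈ J → Φ γ y * x = 0 := by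
    refine ⟨TwoSidedIdeal.mk'
      {x | ∀ (γ : L ≃ₐ[K] L) (y : L ⊗[K] A), y ∈ J → Φ γ y * x = 0}
      ?_ ?_ ?_ ?_ ?_, fun x => by rw [TwoSidedIdeal.mem_mk']; rfl⟩
    · intro γ y _; exact mul_zero _
    · intro x x' hx hx'
      show ∀ (γ : L ≃ₐ[K] L) (y : L ⊗[K] A), y ∈ J → Φ γ y * (x + x') = 0
      intro γ y hy
      rw [mul_add, hx γ y hy, hx' γ y hy, add_zero]
    · intro x hx
      show ∀ (γ : L ≃ₐ[K] L) (y : L ⊗[K] A), y ∈ J → Φ γ y * (-x) = 0
      intro γ y hy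
      rw [mul_neg, hx γ y hy, neg_zero]
    · intro a x hx
      show ∀ (γ : L ≃ₐ[K] L) (y : L ⊗[K] A), y ∈ J → Φ γ y * (a * x) = 0
      intro γ y hy
      have h1 : Φ γ y * a = Φ γ (y * Φ γ⁻¹ a) := by rw [map_mul, hΦinv1]
      rw [← mul_assoc, h1]
      exact hx γ _ (J.mul_mem_right _ _ hy)
    · intro x a hx
      show ∀ (γ : L ≃ₐ[K] L) (y : L ⊗[K] A), y ∈ J → Φ γ y * (x * a) = 0
      intro γ y hy
      rw [← mul_assoc, hx γ y hy, zero_mul]
  have hstab : ∀ (δ : L ≃ₐ[K] L) (x : L ⊗[K] A), x ∈ N → Φ δ x ∈ N := by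
    intro δ x hx
    rw [hN] at hx ⊢
    intro γ y hy
    have h1 : Φ γ y * Φ δ x = Φ δ (Φ (δ⁻¹ * γ) y * x) := by
      rw [map_mul, ← Φ_mul, hΦinv1]
    rw [h1, hx _ y hy, map_zero]
  obtain ⟨z0, hz0I, hz0⟩ := exists_ne I hI.1
  have hz0N : z0 ∈ N := by
    rw [hN]
    intro γ y hy
    have h1 : Φ γ y * z0 = Φ γ (y * Φ γ⁻¹ z0) := by rw [map_mul, hΦinv1]
    rw [h1, claim γ⁻¹ y (Φ γ⁻¹ z0) hy (by rw [inv_inv, hΦinv1]; exact hz0I), map_zero]
  have h1N := descent N hstab z0 hz0N hz0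
  rw [hN] at h1N
  obtain ⟨y0, hy0J, hy0⟩ := exists_ne J hJ.1
  apply hy0
  have h2 := h1N 1 y0 hy0J
  rwa [Φ_one, mul_one] at h2

end Groth.Agent.S14846
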