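import Groth.Statements.S14848
-- import your own Groth.Agent.* helpers here
import Mathlib

set_option autoImplicit false
universe u v
open McKay

namespace Groth.Agent.S14848

/-- Let K be a field of characteristic zero, L an extension field of K and ξ ∈ L a primitive n-th root
of unity (n ≥ 1) with ξ + ξ⁻¹ ∈ K, say ξ + ξ⁻¹ = 2c with c ∈ K (the character of the natural
two-dimensional representation of the cyclic group of order n takes values in K). Then the cyclic
group of order n is realisable over K as a subgroup of SL(2, K): there is an element of SL(2, K) of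
order n. -/
theorem result {K : Type u} {L : Type v} [Field K] [Field L]
    [CharZero K] [Algebra K L] (n : ℕ) (hn : 1 ≤ n) (ξ : L) (hξ : IsPrimitiveRoot ξ n) (c : K)
    (hc : algebraMap K L (2 * c) = ξ + ξ⁻¹) :
    ∃ M : Matrix.SpecialLinearGroup (Fin 2) K, orderOf M = n := by
  rcases Nat.lt_or_ge n 3 with hlt | hge
  · interval_cases n
    · exact ⟨1, orderOf_one⟩
    · refine ⟨⟨!![-1, 0; 0, -1], by simp [Matrix.det_fin_two]⟩, ?_⟩
      have : Fact (Nat.Prime 2) := ⟨Nat.prime_two⟩
      apply orderOf_eq_prime
      · ext i j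
        fin_cases i <;> fin_cases j <;>
          simp [pow_two, Matrix.mul_apply, Fin.sum_univ_two]
      · intro h
        have h1 := congrArg (fun A : Matrix.SpecialLinearGroup (Fin 2) K => A.val 0 0) h
        simp at h1
        have h2 : (2 : K) = 0 := by linear_combination -h1
        exact two_ne_zero h2
  · have hξ0 : ξ ≠ 0 := hξ.ne_zero (by omega)
    have hne : ξ ≠ ξ⁻¹ := by
      intro h
      have h2 : ξ ^ 2 = 1 := by
        rw [pow_two]
        nth_rewrite 2 [h]
        exact mul_inv_cancel₀ hξ0
      have h3 := (hξ.pow_eq_one_iff_dvd 2).mp h2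
      have h4 := Nat.le_of_dvd (by norm_num) h3
      omega
    have hmap : (algebraMap K L).mapMatrix (!![0, -1; 1, 2 * c] : Matrix (Fin 2) (Fin 2) K) =
        !![0, -1; 1, ξ + ξ⁻¹] := by
      ext i j
      fin_cases i <;> fin_cases j <;> simp [← hc]
    have hMP : (!![0, -1; 1, ξ + ξ⁻¹] : Matrix (Fin 2) (Fin 2) L) * !![1, 1; -ξ, -ξ⁻¹] =
        !![1, 1; -ξ, -ξ⁻¹] * Matrix.diagonal ![ξ, ξ⁻¹] := by
      ext i j
      fin_cases i <;> fin_cases j <;>
        simp [Matrix.mul_apply, Fin.sum_univ_two] <;> field_simp <;> ring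
    have hPunit : IsUnit (!![1, 1; -ξ, -ξ⁻¹] : Matrix (Fin 2) (Fin 2) L) := by
      rw [Matrix.isUnit_iff_isUnit_det, Matrix.det_fin_two, isUnit_iff_ne_zero]
      simp only [Matrix.of_apply, Matrix.cons_val', Matrix.cons_val_zero, Matrix.cons_val_one,
        Matrix.cons_val_fin_one]
      intro h
      apply hne
      linear_combination h
    have hpow : ∀ m : ℕ, (!![0, -1; 1, ξ + ξ⁻¹] : Matrix (Fin 2) (Fin 2) L) ^ m *
        !![1, 1; -ξ, -ξ⁻¹] = !![1, 1; -ξ, -ξ⁻¹] * (Matrix.diagonal ![ξ, ξ⁻¹]) ^ m := by
      intro m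
      induction m with
      | zero => simp
      | succ m ih => rw [pow_succ, mul_assoc, hMP, ← mul_assoc, ih, mul_assoc, ← pow_succ]
    obtain ⟨M, hM⟩ : ∃ M : Matrix.SpecialLinearGroup (Fin 2) K,
        M.val = !![0, -1; 1, 2 * c] :=
      ⟨⟨!![0, -1; 1, 2 * c], by simp [Matrix.det_fin_two]⟩, rfl⟩
    have key : ∀ m : ℕ, M ^ m = 1 ↔ n ∣ m := by
      intro m
      rw [← hξ.pow_eq_one_iff_dvd]
      constructor
      · intro h
        have h0 := congrArg (fun A : Matrix.SpecialLinearGroup (Fin 2) K =>
          (algebraMap K L).mapMatrix A.val) h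
        simp only [Matrix.SpecialLinearGroup.coe_pow, map_pow, hM, hmap,
          Matrix.SpecialLinearGroup.coe_one, map_one] at h0
        have h2 := hpow m
        rw [h0, one_mul] at h2
        have h3 : (Matrix.diagonal ![ξ, ξ⁻¹] : Matrix (Fin 2) (Fin 2) L) ^ m = 1 := by
          apply hPunit.mul_right_injective
          simp only
          rw [← h2, mul_one]
        rw [Matrix.diagonal_pow] at h3
        have h4 := congrFun (congrFun h3 0) 0
        simpa using h4
      · intro h
        have hD1 : (Matrix.diagonal ![ξ, ξ⁻¹] : Matrix (Fin 2) (Fin 2) L) ^ m = 1 := by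
          rw [Matrix.diagonal_pow]
          ext i j
          fin_cases i <;> fin_cases j <;> simp [h, inv_pow]
        have h2 := hpow m
        rw [hD1, mul_one] at h2
        have h1 : (!![0, -1; 1, ξ + ξ⁻¹] : Matrix (Fin 2) (Fin 2) L) ^ m = 1 :=
          hPunit.mul_left_injective (by simp only; rw [h2, one_mul])
        apply Subtype.ext
        rw [Matrix.SpecialLinearGroup.coe_pow, Matrix.SpecialLinearGroup.coe_one]
        have hinj : Function.Injective ((algebraMap K L).mapMatrix :
            Matrix (Fin 2) (Fin 2) K → Matrix (Fin 2) (Fin 2) L) := by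
          intro A B hAB
          rw [RingHom.mapMatrix_apply, RingHom.mapMatrix_apply] at hAB
          exact Matrix.map_injective (algebraMap K L).injective hAB
        apply hinj
        rw [map_pow, map_one, hM, hmap]
        exact h1
    exact ⟨M, Nat.dvd_antisymm (orderOf_dvd_of_pow_eq_one ((key n).mpr dvd_rfl))
      ((key _).mp (pow_orderOf_eq_one _))⟩

end Groth.Agent.S14848
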