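import Groth.Statements.S14849
-- import your own Groth.Agent.* helpers here
import Mathlib

set_option autoImplicit false
universe u v
open McKay

namespace Groth.Agent.S14849


private def qmap {n : ℕ} {G : Type*} [Group G] (A X : G) : QuaternionGroup n → G
  | .a i => A ^ i.val
  | .xa i => X * A ^ i.val

private lemma qmap_mul {n : ℕ} [NeZero (2 * n)] {G : Type*} [Group G] (A X : G)
    (h2n : A ^ (2 * n) = 1) (hX2 : A ^ n = X * X) (hAXA : A * X * A = X)
    (p q : QuaternionGroup n) : qmap A X (p * q) = qmap A X p * qmap A X q := by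
  have hadd : ∀ i j : ZMod (2 * n), A ^ (i + j).val = A ^ i.val * A ^ j.val := by
    intro i j
    rw [ZMod.val_add, ← pow_add, ← pow_eq_pow_mod _ h2n]
  have hzero : A ^ (0 : ZMod (2 * n)).val = 1 := by rw [ZMod.val_zero, pow_zero]
  have hneg : ∀ i : ZMod (2 * n), A ^ (-i).val = (A ^ i.val)⁻¹ := by
    intro i
    apply eq_inv_of_mul_eq_one_left
    rw [← hadd, neg_add_cancel, hzero]
  have hsub : ∀ i j : ZMod (2 * n), A ^ (j - i).val = (A ^ i.val)⁻¹ * A ^ j.val := by
    intro i j
    rw [← neg_add_eq_sub, hadd, hneg]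
  have hn' : A ^ ((n : ℕ) : ZMod (2 * n)).val = X * X := by
    rw [ZMod.val_natCast, ← pow_eq_pow_mod _ h2n, hX2]
  have hpowX : ∀ m : ℕ, A ^ m * X * A ^ m = X := by
    intro m
    induction m with
    | zero => simp
    | succ m ih =>
      have e1 : A ^ (m + 1) = A * A ^ m := pow_succ' A m
      have e2 : A ^ (m + 1) = A ^ m * A := pow_succ A m
      calc A ^ (m + 1) * X * A ^ (m + 1) = (A * A ^ m) * X * (A ^ m * A) := by rw [← e1, ← e2]
        _ = A * (A ^ m * X * A ^ m) * A := by simp only [mul_assoc]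
        _ = X := by rw [ih, hAXA]
  have hcomm : ∀ m : ℕ, A ^ m * X = X * (A ^ m)⁻¹ := by
    intro m
    rw [eq_mul_inv_iff_mul_eq]
    exact hpowX m
  rcases p with i | i <;> rcases q with j | j
  · change A ^ (i + j).val = A ^ i.val * A ^ j.val
    exact hadd i j
  · change X * A ^ (j - i).val = A ^ i.val * (X * A ^ j.val)
    rw [hsub, ← mul_assoc (A ^ i.val), hcomm, mul_assoc]
  · change X * A ^ (i + j).val = X * A ^ i.val * A ^ j.val
    rw [hadd, mul_assoc]
  · change A ^ ((n : ZMod (2 * n)) + j - i).val = X * A ^ i.val * (X * A ^ j.val)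
    rw [add_sub_assoc, hadd, hn', hsub]
    rw [mul_assoc X (A ^ i.val), ← mul_assoc (A ^ i.val), hcomm]
    simp only [mul_assoc]

private lemma qmap_inj {n : ℕ} [NeZero (2 * n)] (hn : 2 ≤ n) {G : Type*} [Group G] (A X : G)
    (hkey : ∀ m : ℕ, A ^ m = 1 ↔ 2 * n ∣ m) (hAXA : A * X * A = X)
    (f : QuaternionGroup n →* G) (hf : ∀ q, f q = qmap A X q) : Function.Injective f := by
  rw [injective_iff_map_eq_one]
  intro q hq
  rw [hf] at hq
  rcases q with i | i
  · change A ^ i.val = 1 at hq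
    have h1 := (hkey _).mp hq
    have h2 : i.val = 0 := Nat.eq_zero_of_dvd_of_lt h1 (ZMod.val_lt i)
    rw [(ZMod.val_eq_zero i).mp h2]
    rfl
  · exfalso
    change X * A ^ i.val = 1 at hq
    have hX : X = (A ^ i.val)⁻¹ := eq_inv_of_mul_eq_one_left hq
    have hc : A * X = X * A := by
      rw [hX]
      exact (((Commute.refl A).pow_right i.val).inv_right).eq
    have h3 : A ^ 2 = 1 := by
      have h4 : X * (A * A) = X * 1 := by
        rw [← mul_assoc, ← hc, mul_one]
        exact hAXA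
      rw [pow_two]
      exact mul_left_cancel h4
    have h5 := (hkey 2).mp h3
    have := Nat.le_of_dvd (by norm_num) h5
    omega

/-- Let K be a field of characteristic zero, L an extension field of K, n ≥ 2, and ξ ∈ L a primitive
2n-th root of unity with ξ + ξ⁻¹ = 2c for some c ∈ K. If the Hilbert symbol of -1 and c² - 1 over K
equals 1, i.e. x² - (c² - 1) y² = -1 has a solution in K, then the binary dihedral group of order 4n
(generators σ, τ with τ² = σⁿ = (τσ)²) is isomorphic to a subgroup of SL(2, K). (The published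
statement is an equivalence; this row is the direction realising the group from a solution of the
conic.) -/
theorem result {K : Type u} {L : Type v}
    [Field K] [Field L] [CharZero K] [Algebra K L] (n : ℕ) (hn : 2 ≤ n) (ξ : L)
    (hξ : IsPrimitiveRoot ξ (2 * n)) (c : K) (hc : algebraMap K L (2 * c) = ξ + ξ⁻¹)
    (hsol : ∃ x y : K, x ^ 2 - (c ^ 2 - 1) * y ^ 2 = -1) :
    ∃ f : QuaternionGroup n →* Matrix.SpecialLinearGroup (Fin 2) K, Function.Injective f := by
  obtain ⟨x, y, hxy⟩ := hsol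
  have : NeZero (2 * n) := ⟨by omega⟩
  have hξ0 : ξ ≠ 0 := hξ.ne_zero (by omega)
  have hne : ξ ≠ ξ⁻¹ := by
    intro h
    have h2 : ξ ^ 2 = 1 := by
      rw [pow_two]
      nth_rewrite 2 [h]
      exact mul_inv_cancel₀ hξ0
    have h3 := (hξ.pow_eq_one_iff_dvd 2).mp h2
    have h4 := Nat.le_of_dvd (by norm_num) h3
    omega
  have hξn : ξ ^ n = -1 := by
    have h2 : IsPrimitiveRoot (ξ ^ n) 2 := by
      have := hξ.pow_of_dvd (by omega : n ≠ 0) (Dvd.intro_left 2 rfl : n ∣ 2 * n)
      rwa [Nat.mul_div_cancel _ (by omega : 0 < n)] at this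
    exact h2.eq_neg_one_of_two_right
  have hmap : (algebraMap K L).mapMatrix (!![0, -1; 1, 2 * c] : Matrix (Fin 2) (Fin 2) K) =
      !![0, -1; 1, ξ + ξ⁻¹] := by
    ext i j
    fin_cases i <;> fin_cases j <;> simp [← hc]
  have hMP : (!![0, -1; 1, ξ + ξ⁻¹] : Matrix (Fin 2) (Fin 2) L) * !![1, 1; -ξ, -ξ⁻¹] =
      !![1, 1; -ξ, -ξ⁻¹] * Matrix.diagonal ![ξ, ξ⁻¹] := by
    ext i j
    fin_cases i <;> fin_cases j <;>
      simp [Matrix.mul_apply, Fin.sum_univ_two] <;> field_simp <;> ring
  have hPunit : IsUnit (!![1, 1; -ξ, -ξ⁻¹] : Matrix (Fin 2) (Fin 2) L) := by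
    rw [Matrix.isUnit_iff_isUnit_det, Matrix.det_fin_two, isUnit_iff_ne_zero]
    simp only [Matrix.of_apply, Matrix.cons_val', Matrix.cons_val_zero, Matrix.cons_val_one,
      Matrix.cons_val_fin_one]
    intro h
    apply hne
    linear_combination h
  have hpow : ∀ m : ℕ, (!![0, -1; 1, ξ + ξ⁻¹] : Matrix (Fin 2) (Fin 2) L) ^ m *
      !![1, 1; -ξ, -ξ⁻¹] = !![1, 1; -ξ, -ξ⁻¹] * (Matrix.diagonal ![ξ, ξ⁻¹]) ^ m := by
    intro m
    induction m with
    | zero => simp
    | succ m ih => rw [pow_succ, mul_assoc, hMP, ← mul_assoc, ih, mul_assoc, ← pow_succ]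
  have hinj : Function.Injective ((algebraMap K L).mapMatrix :
      Matrix (Fin 2) (Fin 2) K → Matrix (Fin 2) (Fin 2) L) := by
    intro A B hAB
    rw [RingHom.mapMatrix_apply, RingHom.mapMatrix_apply] at hAB
    exact Matrix.map_injective (algebraMap K L).injective hAB
  obtain ⟨A, hA⟩ : ∃ A : Matrix.SpecialLinearGroup (Fin 2) K,
      A.val = !![0, -1; 1, 2 * c] :=
    ⟨⟨!![0, -1; 1, 2 * c], by simp [Matrix.det_fin_two]⟩, rfl⟩
  obtain ⟨X, hX⟩ : ∃ X : Matrix.SpecialLinearGroup (Fin 2) K,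
      X.val = !![y, x + c * y; x - c * y, -y] :=
    ⟨⟨!![y, x + c * y; x - c * y, -y], by
      rw [Matrix.det_fin_two_of]
      linear_combination (-1) * hxy⟩, rfl⟩
  have key : ∀ m : ℕ, A ^ m = 1 ↔ 2 * n ∣ m := by
    intro m
    rw [← hξ.pow_eq_one_iff_dvd]
    constructor
    · intro h
      have h0 := congrArg (fun B : Matrix.SpecialLinearGroup (Fin 2) K =>
        (algebraMap K L).mapMatrix B.val) h
      simp only [Matrix.SpecialLinearGroup.coe_pow, map_pow, hA, hmap,
        Matrix.SpecialLinearGroup.coe_one, map_one] at h0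
      have h2 := hpow m
      rw [h0, one_mul] at h2
      have h3 : (Matrix.diagonal ![ξ, ξ⁻¹] : Matrix (Fin 2) (Fin 2) L) ^ m = 1 := by
        apply hPunit.mul_right_injective
        simp only
        rw [← h2, mul_one]
      rw [Matrix.diagonal_pow] at h3
      have h4 := congrFun (congrFun h3 0) 0
      simpa using h4
    · intro h
      have hD1 : (Matrix.diagonal ![ξ, ξ⁻¹] : Matrix (Fin 2) (Fin 2) L) ^ m = 1 := by
        rw [Matrix.diagonal_pow]
        ext i j
        fin_cases i <;> fin_cases j <;> simp [h, inv_pow]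
      have h2 := hpow m
      rw [hD1, mul_one] at h2
      have h1 : (!![0, -1; 1, ξ + ξ⁻¹] : Matrix (Fin 2) (Fin 2) L) ^ m = 1 :=
        hPunit.mul_left_injective (by simp only; rw [h2, one_mul])
      apply Subtype.ext
      rw [Matrix.SpecialLinearGroup.coe_pow, Matrix.SpecialLinearGroup.coe_one]
      apply hinj
      rw [map_pow, map_one, hA, hmap]
      exact h1
  have hDn : (Matrix.diagonal ![ξ, ξ⁻¹] : Matrix (Fin 2) (Fin 2) L) ^ n = -1 := by
    rw [Matrix.diagonal_pow]
    ext i j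
    fin_cases i <;> fin_cases j <;> simp [hξn, inv_pow]
  have hAn : A ^ n = X * X := by
    apply Subtype.ext
    rw [Matrix.SpecialLinearGroup.coe_pow, Matrix.SpecialLinearGroup.coe_mul, hX]
    have h1 : (!![0, -1; 1, ξ + ξ⁻¹] : Matrix (Fin 2) (Fin 2) L) ^ n = -1 := by
      have h2 := hpow n
      rw [hDn, mul_neg, mul_one] at h2
      exact hPunit.mul_left_injective (by simp only; rw [h2, neg_mul, one_mul])
    have h3 : A.val ^ n = -1 := by
      apply hinj
      rw [map_pow, hA, hmap, h1, map_neg, map_one]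
    rw [h3]
    ext i j
    fin_cases i <;> fin_cases j <;> simp [Matrix.mul_apply, Fin.sum_univ_two] <;>
      first | linear_combination (-1) * hxy | ring1
  have hAXA : A * X * A = X := by
    apply Subtype.ext
    rw [Matrix.SpecialLinearGroup.coe_mul, Matrix.SpecialLinearGroup.coe_mul, hA, hX]
    ext i j
    fin_cases i <;> fin_cases j <;> simp [Matrix.mul_apply, Fin.sum_univ_two] <;> ring
  have hA2n : A ^ (2 * n) = 1 := (key _).mpr dvd_rfl
  exact ⟨MonoidHom.mk' (qmap A X) (qmap_mul A X hA2n hAn hAXA),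
    qmap_inj hn A X key hAXA _ (fun q => rfl)⟩

end Groth.Agent.S14849
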