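import Groth.Statements.S14850
import Mathlib
import Groth.Agent.Lib.helper1.CoeffSpace3

set_option autoImplicit false
universe u v
open HopfRep

namespace Groth.Agent.S14850

open TensorProduct in
/-- Over a field K, a nonzero coalgebra C is simple if and only if C is isotypic as a right comodule
over itself, i.e. C is the internal direct sum of the images of a family of injective comodule maps
from one simple right C-comodule E. Here a subcoalgebra of C is a subspace B whose comultiplication
lands in the image of B ⊗ B, and C is simple when its only subcoalgebras are 0 and C. (Stated for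
the right regular comodule; the published statement allows left or right.) -/
theorem result {K : Type u} {C : Type v} [Field K] [AddCommGroup C]
    [Module K C] [Coalgebra K C] [Nontrivial C] :
    (∀ B : Submodule K C, (∀ b ∈ B, CoalgebraStruct.comul (R := K) b ∈ LinearMap.range (TensorProduct.map B.subtype B.subtype)) → B = ⊥ ∨ B = ⊤) ↔
    ∃ (E : Type v) (_ : AddCommGroup E) (_ : Module K E) (_ : HopfRep.Comod K C E),
      HopfRep.IsSimpleComod K C E ∧
      ∃ (ι : Type v) (f : ι → (E →ₗ[K] C)),
        (∀ i, Hoch.IsComodHom C (f i) ∧ Function.Injective (f i)) ∧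
        iSupIndep (fun i => LinearMap.range (f i)) ∧ (⨆ i, LinearMap.range (f i)) = ⊤ := by
  classical
  constructor
  · intro hsimp
    obtain ⟨S, -, hSsub, hSbot, hSmin⟩ :=
      Helper1.CoeffSpace.exists_minimal_subcomod (K := K) (C := C) (V := C) ⊤
        H9Comod.isSubcomod_top top_ne_bot
    letI cS : HopfRep.Comod K C ↥S := ComodSub.Comod.restr inferInstance S hSsub
    have hSsimple : HopfRep.IsSimpleComod K C ↥S :=
      Helper1.CoeffSpace.isSimpleComod_restr S hSsub hSbot hSmin
    haveI : Nontrivial ↥S := hSsimple.1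
    have hcf : Helper1.CoeffSpace.cf K C ↥S = ⊤ :=
      (hsimp _ (fun b hb => Helper1.CoeffSpace.comul_mem_cf b hb)).resolve_left
        Helper1.CoeffSpace.cf_ne_bot
    have hatoms : sSup {a : H9Comod.subL K C C | a ≤ ⊤ ∧ IsAtom a} = ⊤ :=
      H9Comod.sSup_atoms_le_eq_of_iSup_range (fun _ : ↥S →ₗ[K] K => ↥S) (fun _ => hSsimple)
        (fun f => Helper1.CoeffSpace.mc (C := C) f)
        (fun f => Helper1.CoeffSpace.isComodHom_mc f) ⊤ (by
          rw [CompleteSublattice.coe_top]; exact hcf.symm)
    obtain ⟨s, hsInd, hsSup, hsAt⟩ :=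
      exists_sSupIndep_of_sSup_atoms (⊤ : H9Comod.subL K C C) hatoms
    have hg : ∀ a : ↥s, ∃ g : ↥S →ₗ[K] C, Hoch.IsComodHom C g ∧ Function.Injective g ∧
        LinearMap.range g = ((a : H9Comod.subL K C C) : Submodule K C) := by
      intro a
      have haAt : IsAtom (a : H9Comod.subL K C C) := hsAt a.2
      rw [H9Comod.isAtom_iff] at haAt
      obtain ⟨ha0, hamin⟩ := haAt
      exact Helper1.CoeffSpace.exists_hom_range_eq hSsimple _ a.1.2 ha0
        (fun W hWs hW => hamin W hW hWs) (by rw [hcf]; exact le_top)
    choose g hg1 hg2 hg3 using hg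
    refine ⟨↥S, inferInstance, inferInstance, cS, hSsimple, ↥s, g,
      fun i => ⟨hg1 i, hg2 i⟩, ?_, ?_⟩
    · have hfun : (fun i : ↥s => LinearMap.range (g i)) =
          fun i : ↥s => ((i : H9Comod.subL K C C) : Submodule K C) := funext hg3
      rw [hfun, iSupIndep_def]
      intro i
      have hd := hsInd i.2
      have hd' : Disjoint ((i.1 : H9Comod.subL K C C) : Submodule K C)
          ((sSup (s \ {i.1}) : H9Comod.subL K C C) : Submodule K C) :=
        CompleteSublattice.disjoint_iff.mp hd
      refine hd'.mono_right ?_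
      refine iSup₂_le (fun j hj => ?_)
      have h8 : j.1 ≤ sSup (s \ {i.1}) := le_sSup ⟨j.2, fun h => hj (Subtype.ext h)⟩
      exact h8
    · have hfun : (fun i : ↥s => LinearMap.range (g i)) =
          fun i : ↥s => ((i : H9Comod.subL K C C) : Submodule K C) := funext hg3
      rw [hfun, eq_top_iff]
      have hT : HopfRep.IsSubcomod (k := K) (A := C)
          (⨆ i : ↥s, ((i : H9Comod.subL K C C) : Submodule K C)) :=
        H9Comod.isSubcomod_iSup _ (fun i => i.1.2)
      have h9 : sSup s ≤ (⟨_, hT⟩ : H9Comod.subL K C C) := by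
        refine sSup_le (fun a ha => ?_)
        show (a : Submodule K C) ≤ ⨆ i : ↥s, ((i : H9Comod.subL K C C) : Submodule K C)
        exact le_iSup (fun i : ↥s => ((i : H9Comod.subL K C C) : Submodule K C)) ⟨a, ha⟩
      rw [hsSup] at h9
      have h10 : ((⊤ : H9Comod.subL K C C) : Submodule K C) ≤
          ⨆ i : ↥s, ((i : H9Comod.subL K C C) : Submodule K C) := h9
      rw [CompleteSublattice.coe_top] at h10
      exact h10
  · rintro ⟨E, iE1, iE2, iE3, hE, ι, f, hf, -, hsup⟩ B hB
    by_cases hB0 : B = ⊥
    · left; exact hB0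
    right
    have hBsub : HopfRep.IsSubcomod (k := K) (A := C) B := by
      intro b hb
      obtain ⟨z, hz⟩ := hB b hb
      refine ⟨B.subtype.lTensor B z, ?_⟩
      have h2 := LinearMap.congr_fun (LinearMap.rTensor_comp_lTensor _ B.subtype B.subtype) z
      simp only [LinearMap.comp_apply] at h2
      rw [h2]
      exact hz
    obtain ⟨S, hSB, hSsub, hSbot, hSmin⟩ :=
      Helper1.CoeffSpace.exists_minimal_subcomod (K := K) (C := C) (V := C) B hBsub hB0
    letI cS : HopfRep.Comod K C ↥S := ComodSub.Comod.restr inferInstance S hSsub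
    have hSsimple : HopfRep.IsSimpleComod K C ↥S :=
      Helper1.CoeffSpace.isSimpleComod_restr S hSsub hSbot hSmin
    have hι : Hoch.IsComodHom C S.subtype := ComodSub.isComodHom_subtype _ S hSsub
    have hu0 : S.subtype ≠ 0 := by
      intro h
      apply hSbot
      rw [Submodule.eq_bot_iff]
      intro x hx
      have h3 := LinearMap.congr_fun h ⟨x, hx⟩
      simpa using h3
    have hle : LinearMap.range S.subtype ≤ ⨆ i, LinearMap.range (f i) := by
      rw [hsup]; exact le_top
    obtain ⟨i, e₀, he₀⟩ := H9Comod.exists_iso_of_range_le_iSup_range hSsimple hι hu0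
      (fun _ : ι => E) (fun _ => hE) f (fun i => (hf i).1) hle
    have hmem := Helper1.CoeffSpace.coact_mem_of_iso (E := E) B hB S.subtype hι
      (Submodule.injective_subtype S) (fun x => hSB x.2) (e₀ : ↥S →ₗ[K] E) he₀ e₀.surjective
    have hcfB : Helper1.CoeffSpace.cf K C E ≤ B := Helper1.CoeffSpace.cf_le B hmem
    rw [eq_top_iff, ← hsup]
    refine iSup_le (fun i => ?_)
    refine le_trans ?_ hcfB
    rw [Helper1.CoeffSpace.eq_mc_of_isComodHom (f i) (hf i).1]
    exact le_iSup (fun f : E →ₗ[K] K => LinearMap.range (Helper1.CoeffSpace.mc (C := C) f)) _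

end Groth.Agent.S14850
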