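import Groth.Statements.S14851
import Mathlib
import Groth.Agent.Lib.helper1.CoeffSpace

set_option autoImplicit false
universe u v w w'
open HopfRep

namespace Groth.Agent.S14851

open TensorProduct in
/-- The map E ↦ C(E) from isomorphism classes of simple comodules to simple subcoalgebras is injective,
that is: over a field K, two simple right comodules E, E' over a coalgebra C with the same
coefficient space D (the least subspace D' of C such that the coaction lands in E ⊗ D', resp. E' ⊗
D') are isomorphic as comodules. (The published statement is made for a cosemisimple coalgebra and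
for left comodules; the printed argument for this part uses neither restriction.) -/
theorem result {K : Type u} {C : Type v} [Field K]
    [AddCommGroup C] [Module K C] [Coalgebra K C]
    {E : Type w} [AddCommGroup E] [Module K E] [HopfRep.Comod K C E]
    {E' : Type w'} [AddCommGroup E'] [Module K E'] [HopfRep.Comod K C E']
    (hE : HopfRep.IsSimpleComod K C E) (hE' : HopfRep.IsSimpleComod K C E') (D : Submodule K C)
    (hD : IsLeast {D' : Submodule K C |
      ∀ e : E, HopfRep.Comod.coact (k := K) (A := C) e ∈ LinearMap.range (LinearMap.lTensor E D'.subtype)} D)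
    (hD' : IsLeast {D' : Submodule K C |
      ∀ e : E', HopfRep.Comod.coact (k := K) (A := C) e ∈ LinearMap.range (LinearMap.lTensor E' D'.subtype)} D) :
    ∃ e : E ≃ₗ[K] E', Hoch.IsComodHom C e.toLinearMap := by
  have h1 : D = Helper1.CoeffSpace.cf K C E := Helper1.CoeffSpace.eq_cf_of_isLeast D hD
  have h2 : D = Helper1.CoeffSpace.cf K C E' := Helper1.CoeffSpace.eq_cf_of_isLeast D hD'
  haveI : Nontrivial E := hE.1
  obtain ⟨f, hf⟩ := Helper1.CoeffSpace.exists_mc_ne_zero (K := K) (C := C) (E := E)
  have hle : LinearMap.range (Helper1.CoeffSpace.mc (C := C) f) ≤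
      ⨆ f' : E' →ₗ[K] K, LinearMap.range (Helper1.CoeffSpace.mc (C := C) f') := by
    have h3 : LinearMap.range (Helper1.CoeffSpace.mc (C := C) f) ≤ Helper1.CoeffSpace.cf K C E :=
      le_iSup (fun f : E →ₗ[K] K => LinearMap.range (Helper1.CoeffSpace.mc (C := C) f)) f
    rw [← h1, h2] at h3
    exact h3
  obtain ⟨f', e, he⟩ := H9Comod.exists_iso_of_range_le_iSup_range hE
    (Helper1.CoeffSpace.isComodHom_mc f) hf
    (fun _ : E' →ₗ[K] K => E') (fun _ => hE')
    (fun f' => Helper1.CoeffSpace.mc (C := C) f')
    (fun f' => Helper1.CoeffSpace.isComodHom_mc f') hle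
  exact ⟨e, he⟩

end Groth.Agent.S14851
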