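import Groth.Statements.S14852
import Mathlib
import Groth.Agent.Lib.helper1.CoeffSpace2

set_option autoImplicit false
universe u v w w'
open HopfRep

namespace Groth.Agent.S14852

open TensorProduct in
/-- Over a field K, let C be a cosemisimple coalgebra and D₁ ≠ D₂ simple subcoalgebras of C. If V is a
right C-comodule whose coaction lands in V ⊗ D₁ and W one whose coaction lands in W ⊗ D₂, then the
only comodule map V → W is zero. Here a subcoalgebra of C is a subspace B whose comultiplication
lands in the image of B ⊗ B, and a simple subcoalgebra is a nonzero subcoalgebra D whose only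
subcoalgebras contained in D are 0 and D; cosemisimple means C is the internal direct sum of a
family of simple subcoalgebras. (The published statement is for quasi-coherent G-sheaves on a scheme
with trivial action of G = Spec C; this row is the statement on spaces of sections to which its
proof reduces.) -/
theorem result {K : Type u} {C : Type v} [Field K]
    [AddCommGroup C] [Module K C] [Coalgebra K C]
    (hC : ∃ (ι : Type v) (D : ι → Submodule K C), iSupIndep D ∧ iSup D = ⊤ ∧ ∀ i,
        D i ≠ ⊥ ∧ (∀ b ∈ (D i), CoalgebraStruct.comul (R := K) b ∈ LinearMap.range (TensorProduct.map (D i).subtype (D i).subtype)) ∧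
        ∀ B : Submodule K C, B ≤ D i → (∀ b ∈ B, CoalgebraStruct.comul (R := K) b ∈ LinearMap.range (TensorProduct.map B.subtype B.subtype)) → B = ⊥ ∨ B = D i)
    (D₁ D₂ : Submodule K C) (hne : D₁ ≠ D₂)
    (h₁ : D₁ ≠ ⊥ ∧ (∀ b ∈ D₁, CoalgebraStruct.comul (R := K) b ∈ LinearMap.range (TensorProduct.map D₁.subtype D₁.subtype)) ∧ ∀ B : Submodule K C, B ≤ D₁ → (∀ b ∈ B, CoalgebraStruct.comul (R := K) b ∈ LinearMap.range (TensorProduct.map B.subtype B.subtype)) → B = ⊥ ∨ B = D₁)
    (h₂ : D₂ ≠ ⊥ ∧ (∀ b ∈ D₂, CoalgebraStruct.comul (R := K) b ∈ LinearMap.range (TensorProduct.map D₂.subtype D₂.subtype)) ∧ ∀ B : Submodule K C, B ≤ D₂ → (∀ b ∈ B, CoalgebraStruct.comul (R := K) b ∈ LinearMap.range (TensorProduct.map B.subtype B.subtype)) → B = ⊥ ∨ B = D₂)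
    {V : Type w} [AddCommGroup V] [Module K V] [HopfRep.Comod K C V]
    {W : Type w'} [AddCommGroup W] [Module K W] [HopfRep.Comod K C W]
    (hV : ∀ v : V, HopfRep.Comod.coact (k := K) (A := C) v ∈ LinearMap.range (LinearMap.lTensor V D₁.subtype))
    (hW : ∀ w : W, HopfRep.Comod.coact (k := K) (A := C) w ∈ LinearMap.range (LinearMap.lTensor W D₂.subtype))
    (φ : V →ₗ[K] W) (hφ : Hoch.IsComodHom C φ) : φ = 0 := by
  classical
  by_contra hφ0
  have hXsub : HopfRep.IsSubcomod (k := K) (A := C) (LinearMap.range φ) :=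
    H9Comod.isSubcomod_range hφ
  letI cX : HopfRep.Comod K C ↥(LinearMap.range φ) :=
    ComodSub.Comod.restr inferInstance _ hXsub
  have hι : Hoch.IsComodHom C (LinearMap.range φ).subtype :=
    ComodSub.isComodHom_subtype _ _ hXsub
  haveI hXne : Nontrivial ↥(LinearMap.range φ) := by
    rw [Submodule.nontrivial_iff_ne_bot]
    intro h
    exact hφ0 (LinearMap.range_eq_bot.mp h)
  have hW' : ∀ x : ↥(LinearMap.range φ), ∀ D' : Submodule K C,
      HopfRep.Comod.coact (k := K) (A := C) (x : W) ∈
        LinearMap.range (LinearMap.lTensor W D'.subtype) →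
      HopfRep.Comod.coact (k := K) (A := C) x ∈
        LinearMap.range (LinearMap.lTensor ↥(LinearMap.range φ) D'.subtype) := by
    intro x D' h
    apply Helper1.CoeffSpace.mem_range_lTensor_of_rTensor_injective
      (LinearMap.range φ).subtype (Submodule.injective_subtype _) D'
    rw [← H9Comod.isComodHom_apply hι x]
    exact h
  have hX2 : ∀ x : ↥(LinearMap.range φ), HopfRep.Comod.coact (k := K) (A := C) x ∈
      LinearMap.range (LinearMap.lTensor ↥(LinearMap.range φ) D₂.subtype) :=
    fun x => hW' x D₂ (hW x)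
  have hX1 : ∀ x : ↥(LinearMap.range φ), HopfRep.Comod.coact (k := K) (A := C) x ∈
      LinearMap.range (LinearMap.lTensor ↥(LinearMap.range φ) D₁.subtype) := by
    intro x
    apply hW' x D₁
    obtain ⟨v, hv⟩ := x.2
    rw [← hv, H9Comod.isComodHom_apply hφ v]
    obtain ⟨z, hz⟩ := hV v
    rw [← hz, ← Helper1.CoeffSpace.lTensor_rTensor_comm']
    exact LinearMap.mem_range_self _ _
  have hc1 := Helper1.CoeffSpace.cf_le (E := ↥(LinearMap.range φ)) D₁ hX1
  have hc2 := Helper1.CoeffSpace.cf_le (E := ↥(LinearMap.range φ)) D₂ hX2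
  have hcne : Helper1.CoeffSpace.cf K C ↥(LinearMap.range φ) ≠ ⊥ :=
    Helper1.CoeffSpace.cf_ne_bot
  have e1 := (h₁.2.2 _ hc1
    (fun b hb => Helper1.CoeffSpace.comul_mem_cf b hb)).resolve_left hcne
  have e2 := (h₂.2.2 _ hc2
    (fun b hb => Helper1.CoeffSpace.comul_mem_cf b hb)).resolve_left hcne
  exact hne (e1.symm.trans e2)

end Groth.Agent.S14852
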