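import Groth.Statements.S14856
-- import your own Groth.Agent.* helpers here
import Mathlib

set_option autoImplicit false
universe u
open CAlg

namespace Groth.Agent.S14856

/-- Let p be a prime and S a commutative ring in which p is a non-zero-divisor. For a p-typical Witt
vector x over S, a natural number m and an integer s ≥ 1, the power p^s divides each of the Witt
components x_0, …, x_m if and only if p^(n+s) divides the n-th ghost component w_n(x) = x_0^(p^n) +
p x_1^(p^(n-1)) + ⋯ + p^n x_n for every n ≤ m. -/
theorem result (p : ℕ) [Fact p.Prime] (S : Type u) [CommRing S]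
    (hS : ∀ y : S, (p : S) * y = 0 → y = 0) (x : WittVector p S) (m s : ℕ) (hs : 1 ≤ s) :
    (∀ i ≤ m, (p : S) ^ s ∣ x.coeff i) ↔
      (∀ n ≤ m, (p : S) ^ (n + s) ∣ WittVector.ghostComponent n x) := by
  have hp := (Fact.out : p.Prime)
  have hghost : ∀ n, WittVector.ghostComponent n x
      = ∑ i ∈ Finset.range (n+1), (p:S)^i * x.coeff i ^ p^(n-i) := by
    intro n
    rw [WittVector.ghostComponent_apply, wittPolynomial_eq_sum_C_mul_X_pow, map_sum]
    refine Finset.sum_congr rfl (fun i _ => ?_)
    simp [map_mul, map_pow, MvPolynomial.aeval_C, MvPolynomial.aeval_X]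
  have hterm : ∀ (i n : ℕ) (y : S), i ≤ n → (p:S)^s ∣ y →
      (p:S)^(n+s) ∣ (p:S)^i * y^(p^(n-i)) := by
    intro i n y hin ⟨z, hz⟩
    have hk : (n - i) < p^(n-i) := Nat.lt_pow_self hp.one_lt
    have hle : n + s ≤ i + s * p^(n-i) := by
      have h1 : s * (n - i + 1) ≤ s * p^(n-i) := Nat.mul_le_mul_left s hk
      have h2 : (n - i) + s ≤ s * (n - i + 1) := by nlinarith
      omega
    rw [hz, mul_pow, ← pow_mul, ← mul_assoc, ← pow_add]
    exact Dvd.dvd.mul_right (pow_dvd_pow _ hle) _
  have hcancel : ∀ (i : ℕ) (y : S), (p:S)^i * y = 0 → y = 0 := by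
    intro i
    induction i with
    | zero => intro y h; simpa using h
    | succ i ih => intro y h; rw [pow_succ, mul_assoc] at h; exact hS y (ih _ h)
  constructor
  · intro hx n hn
    rw [hghost]
    apply Finset.dvd_sum
    intro i hi
    have hin : i ≤ n := Nat.lt_succ_iff.mp (Finset.mem_range.mp hi)
    exact hterm i n _ hin (hx i (hin.trans hn))
  · intro hw i
    induction i using Nat.strong_induction_on with
    | _ i ih =>
      intro him
      have h1 := hw i him
      rw [hghost, Finset.sum_range_succ, Nat.sub_self, pow_zero, pow_one] at h1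
      have h2 : (p:S)^(i+s) ∣ ∑ j ∈ Finset.range i, (p:S)^j * x.coeff j ^ p^(i-j) := by
        apply Finset.dvd_sum
        intro j hj
        have hji := Finset.mem_range.mp hj
        exact hterm j i _ hji.le (ih j hji (hji.le.trans him))
      have h3 : (p:S)^(i+s) ∣ (p:S)^i * x.coeff i := (dvd_add_right h2).mp h1
      obtain ⟨c, hc⟩ := h3
      refine ⟨c, ?_⟩
      have : (p:S)^i * (x.coeff i - (p:S)^s * c) = 0 := by rw [mul_sub, hc, pow_add]; ring
      exact sub_eq_zero.mp (hcancel i _ this)

end Groth.Agent.S14856
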