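import Groth.Statements.S14857
-- import your own Groth.Agent.* helpers here
import Mathlib

set_option autoImplicit false
open CAlg

namespace Groth.Agent.S14857

/-- For a prime p, the Teichmüller representative [p^p] of the element p^p of the p-adic integers is
divisible by p in the ring of p-typical Witt vectors W(ℤ_p). -/
theorem result (p : ℕ) [Fact p.Prime] :
    (p : WittVector p ℤ_[p]) ∣ WittVector.teichmuller p ((p : ℤ_[p]) ^ p) := by
  have hx0 : (WittVector.teichmuller p (p : ℤ_[p]) - (p : WittVector p ℤ_[p])).coeff 0 = 0 := by
    have h1 : WittVector.constantCoeff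
        (WittVector.teichmuller p (p : ℤ_[p]) - (p : WittVector p ℤ_[p])) = 0 := by
      simp only [map_sub, map_natCast]
      have h2 : WittVector.constantCoeff (WittVector.teichmuller p (p : ℤ_[p])) = (p : ℤ_[p]) :=
        WittVector.teichmuller_coeff_zero p _
      rw [h2, sub_self]
    exact h1
  have hz : WittVector.verschiebung (WittVector.mk p (fun i =>
      (WittVector.teichmuller p (p : ℤ_[p]) - (p : WittVector p ℤ_[p])).coeff (i + 1))) =
      WittVector.teichmuller p (p : ℤ_[p]) - (p : WittVector p ℤ_[p]) := by
    ext n
    cases n with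
    | zero => rw [WittVector.verschiebung_coeff_zero, hx0]
    | succ n => rw [WittVector.verschiebung_coeff_succ, WittVector.coeff_mk]
  generalize (WittVector.mk p (fun i =>
      (WittVector.teichmuller p (p : ℤ_[p]) - (p : WittVector p ℤ_[p])).coeff (i + 1))) = z at hz
  have hsq : (p : WittVector p ℤ_[p]) ∣ WittVector.verschiebung z * WittVector.verschiebung z := by
    rw [← WittVector.verschiebung_mul_frobenius, WittVector.frobenius_verschiebung]
    have h3 : z * (z * (p : WittVector p ℤ_[p])) = p • (z * z) := by
      rw [nsmul_eq_mul]; ring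
    rw [h3, map_nsmul, nsmul_eq_mul]
    exact dvd_mul_right _ _
  have hpow : (p : WittVector p ℤ_[p]) ∣ (WittVector.verschiebung z) ^ p := by
    have h2 : 2 ≤ p := (Fact.out : p.Prime).two_le
    have h4 : (WittVector.verschiebung z) ^ p =
        (WittVector.verschiebung z * WittVector.verschiebung z) *
          (WittVector.verschiebung z) ^ (p - 2) := by
      rw [← pow_two, ← pow_add]
      congr 1
      omega
    rw [h4]
    exact Dvd.dvd.mul_right hsq _
  have ht : WittVector.teichmuller p (p : ℤ_[p]) =
      (p : WittVector p ℤ_[p]) + WittVector.verschiebung z := by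
    rw [hz]; ring
  rw [map_pow, ht, add_pow]
  apply Finset.dvd_sum
  intro m hm
  rcases Nat.eq_zero_or_pos m with rfl | hm0
  · simp only [pow_zero, one_mul, Nat.sub_zero, Nat.choose_zero_right, Nat.cast_one, mul_one]
    exact hpow
  · exact Dvd.dvd.mul_right (Dvd.dvd.mul_right (dvd_pow_self _ hm0.ne') _) _

end Groth.Agent.S14857
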