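import Groth.Statements.S14859
-- import your own Groth.Agent.* helpers here
import Mathlib

set_option autoImplicit false
universe u v w
open Disp

namespace Groth.Agent.S14859

section
open W4c1extbt610

lemma IV_eq_range (p : ℕ) [Fact p.Prime] (R : Type u) [CommRing R] (ξ : WittVector p R)
    (hξ : ξ ∈ IV p R) : ∃ w : WittVector p R, WittVector.verschiebung w = ξ := by
  unfold IV at hξ
  induction hξ using Submodule.span_induction with
  | mem x hx => exact hx
  | zero => exact ⟨0, map_zero _⟩
  | add x y _ _ hx hy =>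
    obtain ⟨a, rfl⟩ := hx
    obtain ⟨b, rfl⟩ := hy
    exact ⟨a + b, map_add _ _ _⟩
  | smul c x _ hx =>
    obtain ⟨a, rfl⟩ := hx
    refine ⟨a * WittVector.frobenius c, ?_⟩
    rw [WittVector.verschiebung_mul_frobenius, smul_eq_mul, mul_comm]

end

/-- Let p be a prime, R a commutative ring with p-typical Witt vectors W = W(R), and (P, Q, F, V⁻¹) a
3n-display over R with a normal decomposition P = L ⊕ T, Q = L + I_R·T. Then V⁻¹ ⊕ F : L ⊕ T → P is
a Frobenius-linear isomorphism; stated here in the case where L and T are free with bases (l_i) and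
(t_j): the family consisting of the V⁻¹(l_i) and the F(t_j) is a basis of the W-module P, i.e. it is
linearly independent over W and spans P. -/
theorem result (p : ℕ) [Fact p.Prime] (R : Type u) [CommRing R]
    (P : Type v) [AddCommGroup P] [Module (WittVector p R) P] (D : W4c1extbt610.Display3n p R P)
    (L T : Submodule (WittVector p R) P) (hLT : IsCompl L T)
    (hQ : D.Q = L ⊔ W4c1extbt610.IV p R • T) (hLQ : L ≤ D.Q)
    (ιL ιT : Type w) (bL : Module.Basis ιL (WittVector p R) L) (bT : Module.Basis ιT (WittVector p R) T) :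
    LinearIndependent (WittVector p R)
        (Sum.elim (fun i : ιL => D.Vinv ⟨(bL i : P), hLQ (bL i).2⟩) (fun j : ιT => D.F (bT j : P))) ∧
      Submodule.span (WittVector p R)
        (Set.range (Sum.elim (fun i : ιL => D.Vinv ⟨(bL i : P), hLQ (bL i).2⟩) (fun j : ιT => D.F (bT j : P)))) = ⊤ := by
  classical
  set v : ιL ⊕ ιT → P := Sum.elim (fun i : ιL => D.Vinv ⟨(bL i : P), hLQ (bL i).2⟩)
    (fun j : ιT => D.F (bT j : P)) with hv
  set N : Submodule (WittVector p R) P := Submodule.span (WittVector p R) (Set.range v) with hN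
  -- the submodule of elements of Q whose Vinv lands in N
  let A' : Submodule (WittVector p R) P :=
    { carrier := {x | ∃ h : x ∈ D.Q, D.Vinv ⟨x, h⟩ ∈ N}
      add_mem' := by
        rintro x y ⟨hx, hvx⟩ ⟨hy, hvy⟩
        refine ⟨D.Q.add_mem hx hy, ?_⟩
        have : (⟨x + y, D.Q.add_mem hx hy⟩ : D.Q) = ⟨x, hx⟩ + ⟨y, hy⟩ := rfl
        rw [this, map_add]
        exact N.add_mem hvx hvy
      zero_mem' := by
        refine ⟨D.Q.zero_mem, ?_⟩
        have : (⟨0, D.Q.zero_mem⟩ : D.Q) = 0 := rfl
        rw [this, map_zero]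
        exact N.zero_mem
      smul_mem' := by
        rintro c x ⟨hx, hvx⟩
        refine ⟨D.Q.smul_mem c hx, ?_⟩
        have : (⟨c • x, D.Q.smul_mem c hx⟩ : D.Q) = c • ⟨x, hx⟩ := rfl
        rw [this, LinearMap.map_smulₛₗ]
        exact N.smul_mem _ hvx }
  have hFT : ∀ t ∈ T, D.F t ∈ N := by
    have h1 : (⊤ : Submodule (WittVector p R) T) ≤ (N.comap D.F).comap T.subtype := by
      rw [← bT.span_eq]
      refine Submodule.span_le.mpr ?_
      rintro _ ⟨j, rfl⟩
      exact Submodule.subset_span ⟨Sum.inr j, rfl⟩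
    intro t ht
    exact h1 (Submodule.mem_top : (⟨t, ht⟩ : T) ∈ ⊤)
  have hLA : L ≤ A' := by
    have h1 : (⊤ : Submodule (WittVector p R) L) ≤ A'.comap L.subtype := by
      rw [← bL.span_eq]
      refine Submodule.span_le.mpr ?_
      rintro _ ⟨i, rfl⟩
      exact ⟨hLQ (bL i).2, Submodule.subset_span ⟨Sum.inl i, rfl⟩⟩
    intro l hl
    exact h1 (Submodule.mem_top : (⟨l, hl⟩ : L) ∈ ⊤)
  have hTA : W4c1extbt610.IV p R • T ≤ A' := by
    rw [Submodule.smul_le]
    intro r hr t ht
    obtain ⟨w, rfl⟩ := IV_eq_range p R r hr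
    refine ⟨D.IV_smul_le (Submodule.smul_mem_smul (W4c1extbt610.verschiebung_mem_IV p R w)
      Submodule.mem_top), ?_⟩
    rw [D.Vinv_verschiebung_smul w t]
    exact N.smul_mem _ (hFT t ht)
  have hQA : D.Q ≤ A' := by rw [hQ]; exact sup_le hLA hTA
  have hspan : N = ⊤ := by
    rw [eq_top_iff, ← D.span_range_Vinv]
    refine Submodule.span_le.mpr ?_
    rintro _ ⟨q, rfl⟩
    obtain ⟨h, hq⟩ := hQA q.2
    exact hq
  refine ⟨?_, hspan⟩
  let b : Module.Basis (ιL ⊕ ιT) (WittVector p R) P :=
    (bL.prod bT).map (Submodule.prodEquivOfIsCompl L T hLT)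
  let g : P →ₗ[WittVector p R] P := b.constr ℕ v
  have hg : Function.Surjective g := by
    rw [← LinearMap.range_eq_top, Module.Basis.constr_range]
    exact hspan
  haveI := D.finite
  have hgi : Function.Injective g := OrzechProperty.injective_of_surjective_endomorphism g hg
  have : v = g ∘ b := by
    funext k
    exact (b.constr_basis ℕ v k).symm
  rw [this]
  exact b.linearIndependent.map' g (LinearMap.ker_eq_bot.mpr hgi)

end Groth.Agent.S14859
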