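import Groth.Statements.S14864
-- import your own Groth.Agent.* helpers here
import Mathlib

set_option autoImplicit false
universe u
open CAlg

namespace Groth.Agent.S14864

open WittVector

section
variable {p : ℕ} [Fact p.Prime] {R : Type u} [CommRing R]

lemma mem_range_V (x : WittVector p R) (hx : x.coeff 0 = 0) : ∃ z, verschiebung z = x := by
  refine ⟨WittVector.mk p (fun i => x.coeff (i + 1)), ?_⟩
  ext n
  cases n with
  | zero => rw [verschiebung_coeff_zero, hx]
  | succ n => rw [verschiebung_coeff_succ, coeff_mk]

lemma V_mul_V (x y : WittVector p R) :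
    verschiebung x * verschiebung y = (p : WittVector p R) * verschiebung (x * y) := by
  rw [← verschiebung_mul_frobenius, frobenius_verschiebung]
  have h3 : x * (y * (p : WittVector p R)) = p • (x * y) := by rw [nsmul_eq_mul]; ring
  rw [h3, map_nsmul, nsmul_eq_mul]

lemma nsmul_iterate_V (c k : ℕ) (y : WittVector p R) :
    c • (verschiebung^[k] y) = verschiebung^[k] (c • y) := by
  induction k with
  | zero => rfl
  | succ k ih =>
    rw [Function.iterate_succ_apply', Function.iterate_succ_apply', ← map_nsmul, ih]

end

/-- Let p be a prime and R a commutative ring in which p is nilpotent; write W = W(R) for the p-typical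
Witt vectors, I ⊆ W for the kernel of the projection onto the zeroth component, and I_n ⊆ W for the
kernel of the truncation W → W_n(R). The p-adic topology on W equals its I-adic topology — every
power of the ideal pW contains some power of I and every power of I contains some power of pW — and
this common topology is finer than the V-adic one: every I_n contains some power of pW. -/
theorem result (p : ℕ) [Fact p.Prime] (R : Type u) [CommRing R]
    (hp : IsNilpotent (p : R)) :
    (∀ n : ℕ, ∃ m : ℕ, (RingHom.ker (WittVector.constantCoeff : WittVector p R →+* R)) ^ m ≤ Ideal.span {(p : WittVector p R)} ^ n) ∧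
      (∀ n : ℕ, ∃ m : ℕ, Ideal.span {(p : WittVector p R)} ^ m ≤ (RingHom.ker (WittVector.constantCoeff : WittVector p R →+* R)) ^ n) ∧
        ∀ n : ℕ, ∃ m : ℕ, Ideal.span {(p : WittVector p R)} ^ m ≤ RingHom.ker (WittVector.truncate (p := p) (R := R) n) := by
  obtain ⟨N, hN⟩ := hp
  have hI : ∀ x : WittVector p R,
      x ∈ RingHom.ker (WittVector.constantCoeff : WittVector p R →+* R) ↔ x.coeff 0 = 0 := by
    intro x
    rw [RingHom.mem_ker]
    rfl
  have hII : RingHom.ker (WittVector.constantCoeff : WittVector p R →+* R) *
      RingHom.ker (WittVector.constantCoeff : WittVector p R →+* R) ≤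
      Ideal.span {(p : WittVector p R)} *
        RingHom.ker (WittVector.constantCoeff : WittVector p R →+* R) := by
    rw [Ideal.mul_le]
    intro r hr s hs
    obtain ⟨r', rfl⟩ := mem_range_V r ((hI r).1 hr)
    obtain ⟨s', rfl⟩ := mem_range_V s ((hI s).1 hs)
    rw [V_mul_V]
    exact Ideal.mul_mem_mul (Ideal.mem_span_singleton_self _)
      ((hI _).2 (verschiebung_coeff_zero _))
  have h1 : ∀ n : ℕ, RingHom.ker (WittVector.constantCoeff : WittVector p R →+* R) ^ (n + 1) ≤
      Ideal.span {(p : WittVector p R)} ^ n *
        RingHom.ker (WittVector.constantCoeff : WittVector p R →+* R) := by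
    intro n
    induction n with
    | zero => simp
    | succ n ih =>
      calc RingHom.ker (WittVector.constantCoeff : WittVector p R →+* R) ^ (n + 1 + 1)
          = RingHom.ker (WittVector.constantCoeff : WittVector p R →+* R) ^ (n + 1) *
            RingHom.ker (WittVector.constantCoeff : WittVector p R →+* R) := pow_succ _ _
        _ ≤ (Ideal.span {(p : WittVector p R)} ^ n *
            RingHom.ker (WittVector.constantCoeff : WittVector p R →+* R)) *
            RingHom.ker (WittVector.constantCoeff : WittVector p R →+* R) :=
          Ideal.mul_mono_left ih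
        _ = Ideal.span {(p : WittVector p R)} ^ n *
            (RingHom.ker (WittVector.constantCoeff : WittVector p R →+* R) *
            RingHom.ker (WittVector.constantCoeff : WittVector p R →+* R)) := mul_assoc _ _ _
        _ ≤ Ideal.span {(p : WittVector p R)} ^ n * (Ideal.span {(p : WittVector p R)} *
            RingHom.ker (WittVector.constantCoeff : WittVector p R →+* R)) :=
          Ideal.mul_mono_right hII
        _ = Ideal.span {(p : WittVector p R)} ^ (n + 1) *
            RingHom.ker (WittVector.constantCoeff : WittVector p R →+* R) := by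
          rw [← mul_assoc, ← pow_succ]
  have hpN : (p : WittVector p R) ^ N ∈
      RingHom.ker (WittVector.constantCoeff : WittVector p R →+* R) := by
    rw [RingHom.mem_ker, map_pow, map_natCast, hN]
  have hstep : ∀ (k : ℕ) (x : WittVector p R), x ∈ RingHom.ker (WittVector.truncate (p := p) (R := R) k) →
      (p : WittVector p R) ^ N * x ∈ RingHom.ker (WittVector.truncate (p := p) (R := R) (k + 1)) := by
    intro k x hx
    rw [WittVector.mem_ker_truncate] at hx ⊢
    obtain ⟨y, rfl⟩ : ∃ y, x = verschiebung^[k] y := ⟨_, eq_iterate_verschiebung hx⟩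
    have hc : (p : WittVector p R) ^ N * verschiebung^[k] y = (p ^ N) • verschiebung^[k] y := by
      rw [nsmul_eq_mul]; push_cast; rfl
    intro i hi
    rw [hc, nsmul_iterate_V]
    rcases Nat.lt_succ_iff_lt_or_eq.1 hi with h | h
    · exact iterate_verschiebung_coeff_eq_zero _ h
    · subst h
      have h5 := iterate_verschiebung_coeff ((p ^ N) • y) i 0
      rw [zero_add] at h5
      rw [h5]
      have h6 : WittVector.constantCoeff ((p ^ N) • y) = 0 := by
        rw [map_nsmul, nsmul_eq_mul]; push_cast; rw [hN, zero_mul]
      exact h6
  have h3 : ∀ n : ℕ, (p : WittVector p R) ^ (N * n) ∈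
      RingHom.ker (WittVector.truncate (p := p) (R := R) n) := by
    intro n
    induction n with
    | zero =>
      rw [WittVector.mem_ker_truncate]
      intro i hi
      exact absurd hi (Nat.not_lt_zero _)
    | succ n ih =>
      have h7 : (p : WittVector p R) ^ (N * (n + 1)) =
          (p : WittVector p R) ^ N * (p : WittVector p R) ^ (N * n) := by
        rw [← pow_add]; congr 1; ring
      rw [h7]
      exact hstep n _ ih
  refine ⟨fun n => ⟨n + 1, (h1 n).trans Ideal.mul_le_left⟩, fun n => ⟨N * n, ?_⟩,
    fun n => ⟨N * n, ?_⟩⟩
  · rw [pow_mul, Ideal.span_singleton_pow]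
    exact Ideal.pow_right_mono (Ideal.span_le.2 (Set.singleton_subset_iff.2 hpN)) n
  · rw [Ideal.span_singleton_pow]
    exact Ideal.span_le.2 (Set.singleton_subset_iff.2 (h3 n))

end Groth.Agent.S14864
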