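import Groth.Statements.S14869
-- import your own Groth.Agent.* helpers here
import Mathlib

set_option autoImplicit false
universe u v w
open CAlg

namespace Groth.Agent.S14869

open TensorProduct in
theorem exists_one_tmul {S R : Type u} [CommRing S] [CommRing R] [Algebra S R]
    (hSR : Function.Surjective (algebraMap S R)) {K : Type*} [AddCommGroup K] [Module S K]
    (w : R ⊗[S] K) : ∃ k : K, w = (1 : R) ⊗ₜ[S] k := by
  induction w using TensorProduct.induction_on with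
  | zero => exact ⟨0, by simp⟩
  | tmul r k =>
    obtain ⟨s, rfl⟩ := hSR r
    refine ⟨s • k, ?_⟩
    rw [Algebra.algebraMap_eq_smul_one, TensorProduct.smul_tmul]
  | add x y hx hy =>
    obtain ⟨k1, rfl⟩ := hx
    obtain ⟨k2, rfl⟩ := hy
    exact ⟨k1 + k2, by rw [TensorProduct.tmul_add]⟩

open TensorProduct in
/-- Let S → R be a surjective homomorphism of commutative rings, let π : P_1 → P_2 be a surjective
homomorphism of S-modules with P_2 projective, and let π̄ : R ⊗_S P_1 → R ⊗_S P_2 be its base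
change. Then every R-linear section σ̄ of π̄ lifts to a section of π: there is an S-linear map σ :
P_2 → P_1 with π ∘ σ = id whose base change R ⊗_S σ is σ̄. -/
theorem result (S R : Type u) [CommRing S] [CommRing R] [Algebra S R]
    (hSR : Function.Surjective (algebraMap S R))
    (P₁ : Type v) [AddCommGroup P₁] [Module S P₁]
    (P₂ : Type w) [AddCommGroup P₂] [Module S P₂] [Module.Projective S P₂]
    (π : P₁ →ₗ[S] P₂) (hπ : Function.Surjective π)
    (σ' : R ⊗[S] P₂ →ₗ[R] R ⊗[S] P₁) (hσ' : (π.baseChange R).comp σ' = LinearMap.id) :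
    ∃ σ : P₂ →ₗ[S] P₁, π.comp σ = LinearMap.id ∧ σ.baseChange R = σ' := by
  -- the S-linear maps into the product
  let ι₁ : P₁ →ₗ[S] R ⊗[S] P₁ := TensorProduct.mk S R P₁ 1
  let ι₂ : P₂ →ₗ[S] R ⊗[S] P₂ := TensorProduct.mk S R P₂ 1
  let πR : R ⊗[S] P₁ →ₗ[S] R ⊗[S] P₂ := π.lTensor R
  have hπR : ∀ z, πR z = π.baseChange R z := fun z => rfl
  let T : Submodule S ((R ⊗[S] P₁) × P₂) :=
    LinearMap.ker (πR.comp (LinearMap.fst S _ _) - ι₂.comp (LinearMap.snd S _ _))
  have hT : ∀ z y, (z, y) ∈ T ↔ πR z = (1 : R) ⊗ₜ[S] y := by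
    intro z y
    simp only [T, LinearMap.mem_ker, LinearMap.sub_apply, LinearMap.comp_apply, LinearMap.fst_apply,
      LinearMap.snd_apply, sub_eq_zero]
    rfl
  let F : P₁ →ₗ[S] T := (ι₁.prod π).codRestrict T (by
    intro x
    change ((ι₁ x, π x) : (R ⊗[S] P₁) × P₂) ∈ T
    rw [hT]
    simp [ι₁, πR])
  let G : P₂ →ₗ[S] T := (((σ'.restrictScalars S).comp ι₂).prod LinearMap.id).codRestrict T (by
    intro y
    change ((σ' (ι₂ y), y) : (R ⊗[S] P₁) × P₂) ∈ T
    rw [hT]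
    have := LinearMap.congr_fun hσ' ((1 : R) ⊗ₜ[S] y)
    simpa [hπR, ι₂] using this)
  have hF : Function.Surjective F := by
    rintro ⟨⟨z, y⟩, hzy⟩
    rw [hT] at hzy
    obtain ⟨x₀, hx₀⟩ := hπ y
    have hex : Function.Exact ((LinearMap.ker π).subtype.lTensor R) (π.lTensor R) :=
      lTensor_exact R (LinearMap.exact_subtype_ker_map π) hπ
    have hz' : πR (z - (1 : R) ⊗ₜ[S] x₀) = 0 := by
      rw [map_sub, hzy]
      simp [πR, hx₀]
    obtain ⟨w, hw⟩ := (hex _).1 hz'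
    obtain ⟨k, rfl⟩ := exists_one_tmul hSR w
    refine ⟨x₀ + k, ?_⟩
    apply Subtype.ext
    change ((ι₁ (x₀ + (k : P₁)), π (x₀ + (k : P₁))) : (R ⊗[S] P₁) × P₂) = (z, y)
    have hk : π (k : P₁) = 0 := k.2
    have hw' : (1 : R) ⊗ₜ[S] (k : P₁) = z - (1 : R) ⊗ₜ[S] x₀ := by simpa using hw
    refine Prod.ext ?_ ?_
    · change (1 : R) ⊗ₜ[S] (x₀ + (k : P₁)) = z
      rw [TensorProduct.tmul_add, hw']; abel
    · change π (x₀ + (k : P₁)) = y
      rw [map_add, hk, hx₀, add_zero]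
  obtain ⟨σ, hσ⟩ := Module.projective_lifting_property F G hF
  have hσ1 : ∀ y, (1 : R) ⊗ₜ[S] σ y = σ' ((1 : R) ⊗ₜ[S] y) := by
    intro y
    have := congrArg (fun t : T => (t : (R ⊗[S] P₁) × P₂).1) (LinearMap.congr_fun hσ y)
    exact this
  have hσ2 : ∀ y, π (σ y) = y := by
    intro y
    have := congrArg (fun t : T => (t : (R ⊗[S] P₁) × P₂).2) (LinearMap.congr_fun hσ y)
    exact this
  refine ⟨σ, LinearMap.ext hσ2, ?_⟩
  apply TensorProduct.AlgebraTensorModule.ext
  intro r y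
  have e1 : r ⊗ₜ[S] y = r • ((1 : R) ⊗ₜ[S] y) := by rw [TensorProduct.smul_tmul', smul_eq_mul, mul_one]
  rw [LinearMap.baseChange_tmul, e1, map_smul, ← hσ1, TensorProduct.smul_tmul', smul_eq_mul, mul_one]

end Groth.Agent.S14869
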