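import Groth.Statements.S14871
-- import your own Groth.Agent.* helpers here
import Mathlib

set_option autoImplicit false
universe u v
open PLie

namespace Groth.Agent.S14871

/-- Let `L` be a finite-dimensional Lie algebra over a field of characteristic `p` equipped with a
`p`-mapping `φ`. Then the solvable radical of `L` is stable under `φ` (it is a `p`-subalgebra). -/
theorem result
    (k : Type u) [Field k] (p : ℕ) [Fact p.Prime] [CharP k p]
    (L : Type v) [LieRing L] [LieAlgebra k L] [Module.Finite k L]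
    (φ : PLie.PMap k p L) (x : L) (hx : x ∈ LieAlgebra.radical k L) :
    φ x ∈ LieAlgebra.radical k L := by
  have hstab : ∀ n : ℕ, ∀ w ∈ LieAlgebra.radical k L,
      (LieAlgebra.ad k L x ^ n) w ∈ LieAlgebra.radical k L := by
    intro n
    induction n with
    | zero => intro w hw; simpa using hw
    | succ n ih =>
      intro w hw
      rw [pow_succ, Module.End.mul_apply]
      apply ih
      rw [LieAlgebra.ad_apply]
      exact lie_mem_right k L _ x w hw
  have hA : ∀ y : L, ⁅φ x, y⁆ ∈ LieAlgebra.radical k L := by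
    intro y
    have h1 : ⁅φ x, y⁆ = (LieAlgebra.ad k L x ^ p) y := by
      rw [← φ.ad_map]; rfl
    obtain ⟨q, hq⟩ : ∃ q, p = q + 1 :=
      ⟨p - 1, (Nat.succ_pred_eq_of_pos (Fact.out : p.Prime).pos).symm⟩
    rw [h1, hq, pow_succ, Module.End.mul_apply, LieAlgebra.ad_apply]
    exact hstab q _ (lie_mem_left k L _ x y hx)
  have hB : ∀ y : L, ∀ m ∈ (LieAlgebra.radical k L).toSubmodule ⊔ Submodule.span k {φ x},
      ⁅y, m⁆ ∈ LieAlgebra.radical k L := by
    intro y m hm
    rw [Submodule.mem_sup] at hm
    obtain ⟨r, hr, s, hs, rfl⟩ := hm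
    rw [Submodule.mem_span_singleton] at hs
    obtain ⟨c, rfl⟩ := hs
    rw [lie_add, lie_smul]
    refine add_mem (lie_mem_right k L _ y r hr) (SMulMemClass.smul_mem c ?_)
    rw [← lie_skew]
    exact neg_mem (hA y)
  let J : LieIdeal k L :=
    { toSubmodule := (LieAlgebra.radical k L).toSubmodule ⊔ Submodule.span k {φ x}
      lie_mem := fun {y m} hm => Submodule.mem_sup_left (hB y m hm) }
  have h1 : LieAlgebra.derivedSeriesOfIdeal k L 1 J ≤ LieAlgebra.radical k L := by
    show ⁅J, J⁆ ≤ LieAlgebra.radical k L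
    rw [LieSubmodule.lie_le_iff]
    intro a _ m hm
    exact hB a m hm
  obtain ⟨n, hn⟩ := LieAlgebra.IsSolvable.solvable k (LieAlgebra.radical k L)
  rw [LieIdeal.derivedSeries_eq_bot_iff] at hn
  have hJ : LieAlgebra.IsSolvable J := by
    apply LieAlgebra.IsSolvable.mk (k := n + 1) (R := k)
    rw [LieIdeal.derivedSeries_eq_bot_iff, LieAlgebra.derivedSeriesOfIdeal_add, eq_bot_iff, ← hn]
    exact LieAlgebra.derivedSeriesOfIdeal_mono h1 n
  have hle := (LieAlgebra.LieIdeal.solvable_iff_le_radical k L J).mp hJ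
  exact hle (Submodule.mem_sup_right (Submodule.mem_span_singleton_self _))

end Groth.Agent.S14871
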