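import Groth.Statements.S14872
-- import your own Groth.Agent.* helpers here
import Mathlib

set_option autoImplicit false
universe u v
open PLie

namespace Groth.Agent.S14872

/-- Let `L` be a finite-dimensional Lie algebra over a field of characteristic `p` equipped with a
`p`-mapping `φ`, and let `N` be its nilradical, i.e. the ideal of `L` that is nilpotent as a Lie
ring and contains every ideal of `L` nilpotent as a Lie ring. Then `N` is stable under `φ` (it is a
`p`-subalgebra). (The nilradical is given here through its characterising property; it is not the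
largest submodule on which `L` acts nilpotently.) -/
theorem result
    (k : Type u) [Field k] (p : ℕ) [Fact p.Prime] [CharP k p]
    (L : Type v) [LieRing L] [LieAlgebra k L] [Module.Finite k L]
    (φ : PLie.PMap k p L) (N : LieIdeal k L) (hN : LieRing.IsNilpotent N)
    (hmax : ∀ I : LieIdeal k L, LieRing.IsNilpotent I → I ≤ N)
    (x : L) (hx : x ∈ N) : φ x ∈ N := by
  have hstab : ∀ n : ℕ, ∀ (F : LieSubmodule k L L), ∀ w ∈ F,
      (LieAlgebra.ad k L x ^ n) w ∈ F := by
    intro n F
    induction n with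
    | zero => intro w hw; simpa using hw
    | succ n ih =>
      intro w hw
      rw [pow_succ, Module.End.mul_apply]
      apply ih
      rw [LieAlgebra.ad_apply]
      exact F.lie_mem hw
  obtain ⟨q, hq⟩ : ∃ q, p = q + 1 :=
    ⟨p - 1, (Nat.succ_pred_eq_of_pos (Fact.out : p.Prime).pos).symm⟩
  have hz : ∀ y : L, ⁅φ x, y⁆ = (LieAlgebra.ad k L x ^ q) ⁅x, y⁆ := by
    intro y
    have h1 : ⁅φ x, y⁆ = (LieAlgebra.ad k L x ^ p) y := by
      rw [← φ.ad_map]; rfl
    rw [h1, hq, pow_succ, Module.End.mul_apply, LieAlgebra.ad_apply]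
  have hA : ∀ y : L, ⁅φ x, y⁆ ∈ N := by
    intro y
    rw [hz]
    exact hstab q N _ (lie_mem_left k L N x y hx)
  have hB : ∀ y : L, ∀ m ∈ N.toSubmodule ⊔ Submodule.span k {φ x}, ⁅y, m⁆ ∈ N := by
    intro y m hm
    rw [Submodule.mem_sup] at hm
    obtain ⟨r, hr, s, hs, rfl⟩ := hm
    rw [Submodule.mem_span_singleton] at hs
    obtain ⟨c, rfl⟩ := hs
    rw [lie_add, lie_smul]
    refine add_mem (lie_mem_right k L N y r hr) (SMulMemClass.smul_mem c ?_)
    rw [← lie_skew]
    exact neg_mem (hA y)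
  let J : LieIdeal k L :=
    { toSubmodule := N.toSubmodule ⊔ Submodule.span k {φ x}
      lie_mem := fun {y m} hm => Submodule.mem_sup_left (hB y m hm) }
  have hF3 : ∀ i : ℕ, ∀ a ∈ J, ∀ w ∈ N.lcs L i, ⁅a, w⁆ ∈ N.lcs L (i + 1) := by
    intro i a ha w hw
    have ha' : a ∈ N.toSubmodule ⊔ Submodule.span k {φ x} := ha
    rw [Submodule.mem_sup] at ha'
    obtain ⟨r, hr, s, hs, rfl⟩ := ha'
    rw [Submodule.mem_span_singleton] at hs
    obtain ⟨c, rfl⟩ := hs
    rw [add_lie, smul_lie]
    have key : ∀ r' ∈ N, ⁅r', w⁆ ∈ N.lcs L (i + 1) := by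
      intro r' hr'
      rw [LieIdeal.lcs_succ]
      exact LieSubmodule.lie_mem_lie hr' hw
    refine add_mem (key r hr) (SMulMemClass.smul_mem c ?_)
    rw [hz]
    exact hstab q _ _ (key x hx)
  have hcoe : ∀ (I : LieIdeal k L) (a : ↥I) (m : ℕ) (y : ↥I),
      (((LieAlgebra.ad k ↥I a ^ m) y : ↥I) : L) = (LieAlgebra.ad k L a.1 ^ m) y.1 := by
    intro I a m
    induction m with
    | zero => intro y; simp
    | succ m ih =>
      intro y
      rw [pow_succ, pow_succ, Module.End.mul_apply, Module.End.mul_apply, ih]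
      rfl
  have hEngN := (LieAlgebra.isNilpotent_iff_forall (R := k) (L := ↥N)).mp hN
  have hNL : LieModule.IsNilpotent ↥N L := by
    rw [LieModule.isNilpotent_iff_forall (R := k)]
    intro r
    obtain ⟨m, hm⟩ := hEngN r
    refine ⟨m + 1, ?_⟩
    apply LinearMap.ext
    intro y
    have e : LieModule.toEnd k ↥N L r = LieAlgebra.ad k L r.1 := rfl
    rw [e, pow_succ, Module.End.mul_apply, LieAlgebra.ad_apply]
    have hmem : ⁅r.1, y⁆ ∈ N := lie_mem_left k L N r.1 y r.2
    have h2 := hcoe N r m ⟨⁅r.1, y⁆, hmem⟩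
    rw [hm] at h2
    rw [← h2]
    rfl
  obtain ⟨m, hm⟩ := LieModule.IsNilpotent.nilpotent k ↥N L
  have hm' : N.lcs L m = ⊥ := by
    rw [← LieSubmodule.toSubmodule_inj, LieIdeal.coe_lcs_eq, hm]
    rfl
  have hJ : LieRing.IsNilpotent ↥J := by
    rw [LieAlgebra.isNilpotent_iff_forall (R := k)]
    intro a
    have hpow : ∀ i : ℕ, ∀ y : L, (LieAlgebra.ad k L a.1 ^ i) y ∈ N.lcs L i := by
      intro i
      induction i with
      | zero => intro y; simp
      | succ i ih =>
        intro y
        rw [pow_succ', Module.End.mul_apply, LieAlgebra.ad_apply]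
        exact hF3 i a.1 a.2 _ (ih y)
    refine ⟨m, ?_⟩
    apply LinearMap.ext
    intro y
    apply Subtype.ext
    rw [hcoe J a m y]
    have h3 := hpow m y.1
    rw [hm'] at h3
    simpa using h3
  exact hmax J hJ (Submodule.mem_sup_right (Submodule.mem_span_singleton_self _))

end Groth.Agent.S14872
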