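import Groth.Statements.S14874
-- import your own Groth.Agent.* helpers here
import Mathlib
import Groth.Agent.S14872
import Groth.Agent.S14873

set_option autoImplicit false
universe u v
open PLie

namespace Groth.Agent.S14874

/-- Let `L` be a finite-dimensional Lie algebra over a field of characteristic `p` equipped with a
`p`-mapping `φ`. Let `N` be the nilradical of `L` (the ideal nilpotent as a Lie ring that contains
every such ideal) and `P` its `p`-radical (the largest ideal stable under `φ` all of whose elements
are `p`-nilpotent). Then `N = P` if and only if the centre of `L` is contained in `P`. -/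
theorem result
    (k : Type u) [Field k] (p : ℕ) [Fact p.Prime] [CharP k p]
    (L : Type v) [LieRing L] [LieAlgebra k L] [Module.Finite k L]
    (φ : PLie.PMap k p L)
    (N : LieIdeal k L) (hN : LieRing.IsNilpotent N)
    (hNmax : ∀ I : LieIdeal k L, LieRing.IsNilpotent I → I ≤ N)
    (P : LieIdeal k L) (hPsub : ∀ x ∈ P, φ x ∈ P) (hPnil : ∀ x ∈ P, PLie.IsPNilpotent φ x)
    (hPmax : ∀ J : LieIdeal k L, (∀ x ∈ J, φ x ∈ J) → (∀ x ∈ J, PLie.IsPNilpotent φ x) → J ≤ P) :
    N = P ↔ LieAlgebra.center k L ≤ P := by
  constructor
  · intro h
    rw [← h]
    apply hNmax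
    infer_instance
  · intro hc
    apply le_antisymm
    · apply hPmax N
      · exact fun x hx => Groth.Agent.S14872.result k p L φ N hN hNmax x hx
      · intro x hx
        have hiter : ∀ (n : ℕ) (x : L),
            LieAlgebra.ad k L (φ.toFun^[n] x) = LieAlgebra.ad k L x ^ (p ^ n) := by
          intro n
          induction n with
          | zero => intro x; simp
          | succ n ih =>
            intro x
            rw [Function.iterate_succ_apply', φ.ad_map, ih, ← pow_mul, pow_succ]
        have hEngN := (LieAlgebra.isNilpotent_iff_forall (R := k) (L := ↥N)).mp hN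
        obtain ⟨m, hm⟩ := hEngN ⟨x, hx⟩
        have hcoe : ∀ (m : ℕ) (y : ↥N),
            (((LieAlgebra.ad k ↥N ⟨x, hx⟩ ^ m) y : ↥N) : L)
              = (LieAlgebra.ad k L x ^ m) y.1 := by
          intro m
          induction m with
          | zero => intro y; simp
          | succ m ih =>
            intro y
            rw [pow_succ, pow_succ, Module.End.mul_apply, Module.End.mul_apply, ih]
            rfl
        have hadx : LieAlgebra.ad k L x ^ (m + 1) = 0 := by
          apply LinearMap.ext
          intro y
          rw [pow_succ, Module.End.mul_apply, LieAlgebra.ad_apply]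
          have hmem : ⁅x, y⁆ ∈ N := lie_mem_left k L N x y hx
          have h2 := hcoe m ⟨⁅x, y⁆, hmem⟩
          rw [hm] at h2
          rw [← h2]
          rfl
        have hp1 : 1 < p := (Fact.out : p.Prime).one_lt
        have hle : m + 1 ≤ p ^ (m + 1) := (Nat.lt_pow_self hp1).le
        have hzero : LieAlgebra.ad k L (φ.toFun^[m + 1] x) = 0 := by
          rw [hiter]
          exact pow_eq_zero_of_le hle hadx
        have hcen : φ.toFun^[m + 1] x ∈ LieAlgebra.center k L := by
          rw [LieModule.mem_maxTrivSubmodule]
          intro w
          rw [← lie_skew, ← LieAlgebra.ad_apply (R := k), hzero]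
          simp
        obtain ⟨n', hn'⟩ := hPnil _ (hc hcen)
        exact ⟨n' + (m + 1), by rw [Function.iterate_add_apply]; exact hn'⟩
    · exact hNmax P (Groth.Agent.S14873.result k p L φ P hPsub hPnil)

end Groth.Agent.S14874
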