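import Groth.Statements.S14879
-- import your own Groth.Agent.* helpers here
import Mathlib

set_option autoImplicit false
universe u
open Finset
open AlgGrp

namespace Groth.Agent.S14879

lemma eps_sq {k : Type*} [CommRing k] {α : Type*} [Fintype α] [DecidableEq α]
    (σ : Equiv.Perm α) :
    (((Equiv.Perm.sign σ : ℤˣ) : ℤ) : k) * (((Equiv.Perm.sign σ : ℤˣ) : ℤ) : k) = 1 := by
  rw [← Int.cast_mul, ← Units.val_mul, Int.units_mul_self, Units.val_one, Int.cast_one]

lemma key_sum {k : Type*} [CommRing k] {m₁ m₂ : Type*} [Fintype m₁] [Fintype m₂]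
    [DecidableEq m₁] [DecidableEq m₂] (N : Matrix (m₁ ⊕ m₂) (m₁ ⊕ m₂) k) :
    ∑ π : Equiv.Perm (m₁ ⊕ m₂), (((Equiv.Perm.sign π : ℤˣ) : ℤ) : k) *
      (N.submatrix Sum.inl (π ∘ Sum.inl)).det * (N.submatrix Sum.inr (π ∘ Sum.inr)).det
    = (((Fintype.card m₁).factorial * (Fintype.card m₂).factorial : ℕ) : k) * N.det := by
  have inner : ∀ ρ : Equiv.Perm (m₁ ⊕ m₂),
      ∑ π : Equiv.Perm (m₁ ⊕ m₂), (((Equiv.Perm.sign π : ℤˣ) : ℤ) : k) * ∏ x, N (ρ x) (π x)
        = (((Equiv.Perm.sign ρ : ℤˣ) : ℤ) : k) * N.det := by
    intro ρ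
    have h1 : ((N.submatrix ρ id).transpose).det
        = (((Equiv.Perm.sign ρ : ℤˣ) : ℤ) : k) * N.det := by
      rw [Matrix.det_transpose, Matrix.det_permute]
    rw [← h1, Matrix.det_apply']
    rfl
  have expand : ∀ π : Equiv.Perm (m₁ ⊕ m₂),
      (((Equiv.Perm.sign π : ℤˣ) : ℤ) : k) *
        (N.submatrix Sum.inl (π ∘ Sum.inl)).det * (N.submatrix Sum.inr (π ∘ Sum.inr)).det
      = ∑ σ : Equiv.Perm m₁, ∑ τ : Equiv.Perm m₂,
          ((((Equiv.Perm.sign σ : ℤˣ) : ℤ) : k) * (((Equiv.Perm.sign τ : ℤˣ) : ℤ) : k)) *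
          ((((Equiv.Perm.sign π : ℤˣ) : ℤ) : k) *
            ∏ x, N (Equiv.Perm.sumCongr σ τ x) (π x)) := by
    intro π
    rw [Matrix.det_apply', Matrix.det_apply', mul_assoc, Finset.sum_mul_sum, Finset.mul_sum]
    apply Finset.sum_congr rfl
    intro σ _
    rw [Finset.mul_sum]
    apply Finset.sum_congr rfl
    intro τ _
    rw [Fintype.prod_sum_type]
    simp only [Matrix.submatrix_apply, Function.comp_apply, Equiv.Perm.sumCongr_apply,
      Sum.map_inl, Sum.map_inr]
    ring
  have step : ∀ σ : Equiv.Perm m₁,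
      ∑ π : Equiv.Perm (m₁ ⊕ m₂), ∑ τ : Equiv.Perm m₂,
          ((((Equiv.Perm.sign σ : ℤˣ) : ℤ) : k) * (((Equiv.Perm.sign τ : ℤˣ) : ℤ) : k)) *
          ((((Equiv.Perm.sign π : ℤˣ) : ℤ) : k) *
            ∏ x, N (Equiv.Perm.sumCongr σ τ x) (π x))
        = ∑ _τ : Equiv.Perm m₂, N.det := by
    intro σ
    rw [Finset.sum_comm]
    apply Finset.sum_congr rfl
    intro τ _
    rw [← Finset.mul_sum, inner, Equiv.Perm.sign_sumCongr, Units.val_mul, Int.cast_mul]
    linear_combination ((((Equiv.Perm.sign τ : ℤˣ) : ℤ) : k) *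
      (((Equiv.Perm.sign τ : ℤˣ) : ℤ) : k) * N.det) * eps_sq (k := k) σ
      + N.det * eps_sq (k := k) τ
  rw [Finset.sum_congr rfl (fun π _ => expand π), Finset.sum_comm,
    Finset.sum_congr rfl (fun σ _ => step σ)]
  simp only [Finset.sum_const, Finset.card_univ, Fintype.card_perm, nsmul_eq_mul]
  push_cast
  ring

lemma key_fin {k : Type*} [CommRing k] (p r : ℕ) (N : Matrix (Fin (p + r)) (Fin (p + r)) k) :
    ∑ π : Equiv.Perm (Fin (p + r)), (((Equiv.Perm.sign π : ℤˣ) : ℤ) : k) *
      (N.submatrix (Fin.castAdd r) (π ∘ Fin.castAdd r)).det *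
      (N.submatrix (Fin.natAdd p) (π ∘ Fin.natAdd p)).det
    = ((p.factorial * r.factorial : ℕ) : k) * N.det := by
  have h := key_sum (N.submatrix (finSumFinEquiv (m := p) (n := r)) finSumFinEquiv)
  rw [Matrix.det_submatrix_equiv_self] at h
  simp only [Fintype.card_fin] at h
  rw [← h]
  symm
  apply Fintype.sum_equiv ((finSumFinEquiv (m := p) (n := r)).permCongr)
  intro π'
  have hX : (N.submatrix (finSumFinEquiv (m := p) (n := r)) finSumFinEquiv).submatrix Sum.inl
      (π' ∘ Sum.inl) = N.submatrix (Fin.castAdd r)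
        (((finSumFinEquiv (m := p) (n := r)).permCongr π') ∘ Fin.castAdd r) := by
    ext i j
    simp [Equiv.permCongr_apply]
  have hY : (N.submatrix (finSumFinEquiv (m := p) (n := r)) finSumFinEquiv).submatrix Sum.inr
      (π' ∘ Sum.inr) = N.submatrix (Fin.natAdd p)
        (((finSumFinEquiv (m := p) (n := r)).permCongr π') ∘ Fin.natAdd p) := by
    ext i j
    simp [Equiv.permCongr_apply]
  rw [hX, hY, Equiv.Perm.sign_permCongr]

lemma sign_append (p r : ℕ) (σ : Equiv.Perm (Fin (p + r)))
    (hmono1 : StrictMono (fun i : Fin p => σ (Fin.castAdd r i)))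
    (hmono2 : StrictMono (fun j : Fin r => σ (Fin.natAdd p j))) :
    Equiv.Perm.sign σ = ∏ i : Fin p, ∏ j : Fin r,
      (if σ (Fin.castAdd r i) < σ (Fin.natAdd p j) then (1 : ℤˣ) else -1) := by
  rw [Equiv.Perm.sign_eq_prod_prod_Ioi]
  have h : ∀ i : Fin (p + r), ∏ j ∈ Finset.Ioi i, (if σ i < σ j then (1 : ℤˣ) else -1)
      = ∏ j : Fin (p + r), (if i < j then (if σ i < σ j then (1 : ℤˣ) else -1) else 1) := by
    intro i
    rw [← Finset.prod_filter]
    congr 1
    ext j
    simp
  rw [Finset.prod_congr rfl (fun i _ => h i), Fin.prod_univ_add]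
  have hA : ∀ i : Fin p, ∏ j : Fin (p + r), (if Fin.castAdd r i < j then
      (if σ (Fin.castAdd r i) < σ j then (1 : ℤˣ) else -1) else 1)
      = ∏ j : Fin r, (if σ (Fin.castAdd r i) < σ (Fin.natAdd p j) then (1 : ℤˣ) else -1) := by
    intro i
    rw [Fin.prod_univ_add]
    have h1 : ∀ j : Fin p, (if Fin.castAdd r i < Fin.castAdd r j then
        (if σ (Fin.castAdd r i) < σ (Fin.castAdd r j) then (1 : ℤˣ) else -1) else 1) = 1 := by
      intro j
      split_ifs with h1 h2
      · rfl
      · exfalso
        apply h2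
        apply hmono1
        rw [Fin.lt_def] at h1 ⊢
        simpa using h1
      · rfl
    have h2 : ∀ j : Fin r, (if Fin.castAdd r i < Fin.natAdd p j then
        (if σ (Fin.castAdd r i) < σ (Fin.natAdd p j) then (1 : ℤˣ) else -1) else 1)
        = (if σ (Fin.castAdd r i) < σ (Fin.natAdd p j) then (1 : ℤˣ) else -1) := by
      intro j
      rw [if_pos]
      rw [Fin.lt_def]
      have := i.isLt
      simp only [Fin.val_castAdd, Fin.val_natAdd]
      omega
    rw [Finset.prod_congr rfl (fun j _ => h1 j), Finset.prod_congr rfl (fun j _ => h2 j),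
      Finset.prod_const_one, one_mul]
  have hB : ∀ i : Fin r, ∏ j : Fin (p + r), (if Fin.natAdd p i < j then
      (if σ (Fin.natAdd p i) < σ j then (1 : ℤˣ) else -1) else 1) = 1 := by
    intro i
    rw [Fin.prod_univ_add]
    have h1 : ∀ j : Fin p, (if Fin.natAdd p i < Fin.castAdd r j then
        (if σ (Fin.natAdd p i) < σ (Fin.castAdd r j) then (1 : ℤˣ) else -1) else 1) = 1 := by
      intro j
      rw [if_neg]
      rw [Fin.lt_def]
      have := j.isLt
      simp only [Fin.val_castAdd, Fin.val_natAdd]
      omega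
    have h2 : ∀ j : Fin r, (if Fin.natAdd p i < Fin.natAdd p j then
        (if σ (Fin.natAdd p i) < σ (Fin.natAdd p j) then (1 : ℤˣ) else -1) else 1) = 1 := by
      intro j
      split_ifs with h1 h2
      · rfl
      · exfalso
        apply h2
        apply hmono2
        rw [Fin.lt_def] at h1 ⊢
        simpa using h1
      · rfl
    rw [Finset.prod_congr rfl (fun j _ => h1 j), Finset.prod_congr rfl (fun j _ => h2 j),
      Finset.prod_const_one, Finset.prod_const_one, one_mul]
  rw [Finset.prod_congr rfl (fun i _ => hA i), Finset.prod_congr rfl (fun i _ => hB i),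
    Finset.prod_const_one, mul_one]

lemma prod_ite_neg_one {ι : Type*} [Fintype ι] (P : ι → Prop) [DecidablePred P] :
    ∏ x : ι, (if P x then (1 : ℤˣ) else -1)
      = (-1) ^ (Finset.univ.filter (fun x => ¬ P x)).card := by
  rw [Finset.prod_ite, Finset.prod_const_one, one_mul, Finset.prod_const]

/-- Let k be a field of characteristic zero, n = p + r with p, r ≥ 1, M an n × n matrix over k, A a set
of p row indices and B a set of r row indices, both listed increasingly. For a permutation π of the
indices, with permutation matrix P_π, let Y_A(M·P_π) be the minor of M·P_π on the rows A and the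
first p columns, and Z_B(M·P_π) the minor on the rows B and the last r columns. Then the sum over
all π of sign(π)·Y_A(M·P_π)·Z_B(M·P_π) equals p!·r!·(−1)^N·det M when B is the complement of A,
where N is the number of pairs (a, b) with a in A, b outside A and b < a, and equals 0 otherwise.
Taking det M = 1 this says that the pairing (f, h) ↦ Σ_π sign(π) f(π) h(π) between the spans of the
left p-minors and of the right r-minors is invariant under left translation by matrices of
determinant one and pairs Y_A with the signed complementary minor to p!·r!. (The published statement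
asserts that the two families of minors are dual bases for this pairing, that is, the value 1 in
place of p!·r!; the p!·r! permutations preserving the two column blocks each contribute the same
signed term, so this row carries that factor, which is 1 only for n = 2.) -/
theorem result (k : Type u) [Field k] [CharZero k]
    (p r : ℕ) (hp : 1 ≤ p) (hr : 1 ≤ r) (M : Matrix (Fin (p + r)) (Fin (p + r)) k)
    (A : Finset (Fin (p + r))) (hA : A.card = p) (B : Finset (Fin (p + r))) (hB : B.card = r) :
    ∑ π : Equiv.Perm (Fin (p + r)), (((Equiv.Perm.sign π : ℤˣ) : ℤ) : k) *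
      ((M * π.permMatrix k).submatrix (A.orderEmbOfFin hA) (Fin.castAdd r)).det *
      ((M * π.permMatrix k).submatrix (B.orderEmbOfFin hB) (Fin.natAdd p)).det =
    if B = Aᶜ then ((p.factorial * r.factorial : ℕ) : k) *
      (-1 : k) ^ ((A ×ˢ Aᶜ).filter (fun ab => ab.2 < ab.1)).card * M.det else 0 := by
  have ha_mem : ∀ i, A.orderEmbOfFin hA i ∈ A := fun i => Finset.orderEmbOfFin_mem A hA i
  have hb_mem : ∀ j, B.orderEmbOfFin hB j ∈ B := fun j => Finset.orderEmbOfFin_mem B hB j
  have ha_ex : ∀ x ∈ A, ∃ i, A.orderEmbOfFin hA i = x := by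
    intro x hx
    have : x ∈ Set.range (A.orderEmbOfFin hA) := by
      rw [Finset.range_orderEmbOfFin]
      exact Finset.mem_coe.mpr hx
    exact this
  have hb_ex : ∀ x ∈ B, ∃ j, B.orderEmbOfFin hB j = x := by
    intro x hx
    have : x ∈ Set.range (B.orderEmbOfFin hB) := by
      rw [Finset.range_orderEmbOfFin]
      exact Finset.mem_coe.mpr hx
    exact this
  obtain ⟨c, hc⟩ : ∃ c : Fin (p + r) → Fin (p + r),
      c = Fin.append (fun i => A.orderEmbOfFin hA i) (fun j => B.orderEmbOfFin hB j) := ⟨_, rfl⟩
  have hcl : ∀ i, c (Fin.castAdd r i) = A.orderEmbOfFin hA i := by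
    intro i
    rw [hc, Fin.append_left]
  have hcr : ∀ j, c (Fin.natAdd p j) = B.orderEmbOfFin hB j := by
    intro j
    rw [hc, Fin.append_right]
  have hLHS : ∑ π : Equiv.Perm (Fin (p + r)), (((Equiv.Perm.sign π : ℤˣ) : ℤ) : k) *
      ((M * π.permMatrix k).submatrix (A.orderEmbOfFin hA) (Fin.castAdd r)).det *
      ((M * π.permMatrix k).submatrix (B.orderEmbOfFin hB) (Fin.natAdd p)).det
      = ((p.factorial * r.factorial : ℕ) : k) * (M.submatrix c id).det := by
    rw [← key_fin p r (M.submatrix c id)]
    apply Fintype.sum_equiv (Equiv.inv (Equiv.Perm (Fin (p + r))))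
    intro π
    have hX : (M * π.permMatrix k).submatrix (A.orderEmbOfFin hA) (Fin.castAdd r)
        = (M.submatrix c id).submatrix (Fin.castAdd r)
          (((Equiv.inv (Equiv.Perm (Fin (p + r)))) π) ∘ Fin.castAdd r) := by
      rw [PEquiv.mul_toMatrix_toPEquiv]
      ext i j
      simp only [Matrix.submatrix_apply, id_eq, Function.comp_apply, hcl]
      rfl
    have hY : (M * π.permMatrix k).submatrix (B.orderEmbOfFin hB) (Fin.natAdd p)
        = (M.submatrix c id).submatrix (Fin.natAdd p)
          (((Equiv.inv (Equiv.Perm (Fin (p + r)))) π) ∘ Fin.natAdd p) := by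
      rw [PEquiv.mul_toMatrix_toPEquiv]
      ext i j
      simp only [Matrix.submatrix_apply, id_eq, Function.comp_apply, hcr]
      rfl
    rw [hX, hY, Equiv.inv_apply, Equiv.Perm.sign_inv]
  have hdet : (M.submatrix c id).det = if B = Aᶜ then
      (-1 : k) ^ ((A ×ˢ Aᶜ).filter (fun ab => ab.2 < ab.1)).card * M.det else 0 := by
    split_ifs with hBA
    · have hBnA : ∀ y, y ∈ B → y ∉ A := by
        intro y hy
        rw [hBA] at hy
        exact Finset.mem_compl.mp hy
      have hnAB : ∀ y, y ∉ A → y ∈ B := by
        intro y hy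
        rw [hBA]
        exact Finset.mem_compl.mpr hy
      have hcinj : Function.Injective c := by
        intro x y hxy
        induction x using Fin.addCases with
        | left i =>
          induction y using Fin.addCases with
          | left i' =>
            rw [hcl, hcl] at hxy
            rw [(A.orderEmbOfFin hA).injective hxy]
          | right j' =>
            rw [hcl, hcr] at hxy
            exfalso
            have h1 := ha_mem i
            have h2 := hBnA _ (hb_mem j')
            rw [← hxy] at h2
            exact h2 h1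
        | right j =>
          induction y using Fin.addCases with
          | left i' =>
            rw [hcl, hcr] at hxy
            exfalso
            have h1 := ha_mem i'
            have h2 := hBnA _ (hb_mem j)
            rw [hxy] at h2
            exact h2 h1
          | right j' =>
            rw [hcr, hcr] at hxy
            rw [(B.orderEmbOfFin hB).injective hxy]
      obtain ⟨σc, hσc⟩ : ∃ σc : Equiv.Perm (Fin (p + r)), ∀ x, σc x = c x :=
        ⟨Equiv.ofBijective c ⟨hcinj, Finite.injective_iff_surjective.mp hcinj⟩, fun x => rfl⟩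
      have hcσ : c = σc := funext (fun x => (hσc x).symm)
      rw [hcσ, Matrix.det_permute]
      congr 1
      have hm1 : StrictMono (fun i : Fin p => σc (Fin.castAdd r i)) := by
        intro i j hij
        show σc (Fin.castAdd r i) < σc (Fin.castAdd r j)
        rw [hσc, hσc, hcl, hcl]
        exact (A.orderEmbOfFin hA).strictMono hij
      have hm2 : StrictMono (fun j : Fin r => σc (Fin.natAdd p j)) := by
        intro i j hij
        show σc (Fin.natAdd p i) < σc (Fin.natAdd p j)
        rw [hσc, hσc, hcr, hcr]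
        exact (B.orderEmbOfFin hB).strictMono hij
      have hsign := sign_append p r σc hm1 hm2
      have hprod : ∏ i : Fin p, ∏ j : Fin r,
          (if σc (Fin.castAdd r i) < σc (Fin.natAdd p j) then (1 : ℤˣ) else -1)
          = ∏ x : Fin p × Fin r,
            (if A.orderEmbOfFin hA x.1 < B.orderEmbOfFin hB x.2 then (1 : ℤˣ) else -1) := by
        rw [Fintype.prod_prod_type' (fun i j =>
          (if A.orderEmbOfFin hA i < B.orderEmbOfFin hB j then (1 : ℤˣ) else -1))]
        apply Finset.prod_congr rfl
        intro i _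
        apply Finset.prod_congr rfl
        intro j _
        rw [hσc, hσc, hcl, hcr]
      rw [hprod, prod_ite_neg_one] at hsign
      have hcard : (Finset.univ.filter (fun x : Fin p × Fin r =>
          ¬ A.orderEmbOfFin hA x.1 < B.orderEmbOfFin hB x.2)).card
          = ((A ×ˢ Aᶜ).filter (fun ab => ab.2 < ab.1)).card := by
        have hφinj : Function.Injective (fun x : Fin p × Fin r =>
            (A.orderEmbOfFin hA x.1, B.orderEmbOfFin hB x.2)) := by
          rintro ⟨i, j⟩ ⟨i', j'⟩ h
          simp only [Prod.mk.injEq] at h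
          rw [(A.orderEmbOfFin hA).injective h.1, (B.orderEmbOfFin hB).injective h.2]
        rw [← Finset.card_image_of_injective _ hφinj]
        congr 1
        ext ⟨x, y⟩
        simp only [Finset.mem_image, Finset.mem_filter, Finset.mem_univ, true_and,
          Finset.mem_product, Finset.mem_compl, Prod.mk.injEq, Prod.exists]
        constructor
        · rintro ⟨i, j, hij, rfl, rfl⟩
          have hbj : B.orderEmbOfFin hB j ∉ A := hBnA _ (hb_mem j)
          refine ⟨⟨ha_mem i, hbj⟩, ?_⟩
          have hne : B.orderEmbOfFin hB j ≠ A.orderEmbOfFin hA i := by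
            intro h
            exact hbj (h ▸ ha_mem i)
          exact lt_of_le_of_ne (not_lt.mp hij) hne
        · rintro ⟨⟨hx, hy⟩, hlt⟩
          obtain ⟨i, rfl⟩ := ha_ex x hx
          obtain ⟨j, rfl⟩ := hb_ex y (hnAB y hy)
          exact ⟨i, j, not_lt.mpr hlt.le, rfl, rfl⟩
      rw [hsign, hcard]
      simp
    · have hnd : ¬ Disjoint A B := by
        intro hd
        apply hBA
        have hsub : B ⊆ Aᶜ := fun y hy =>
          Finset.mem_compl.mpr (fun hyA => Finset.disjoint_left.mp hd hyA hy)
        apply Finset.eq_of_subset_of_card_le hsub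
        rw [Finset.card_compl, Fintype.card_fin, hA, hB]
        omega
      rw [Finset.not_disjoint_iff] at hnd
      obtain ⟨x, hxA, hxB⟩ := hnd
      obtain ⟨i, hi⟩ := ha_ex x hxA
      obtain ⟨j, hj⟩ := hb_ex x hxB
      apply Matrix.det_zero_of_row_eq (i := Fin.castAdd r i) (j := Fin.natAdd p j)
      · intro h
        have h' := congrArg Fin.val h
        have := i.isLt
        simp only [Fin.val_castAdd, Fin.val_natAdd] at h'
        omega
      · funext l
        simp only [Matrix.submatrix_apply, hcl, hcr, hi, hj]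
  rw [hLHS, hdet]
  split_ifs
  · ring
  · ring

end Groth.Agent.S14879
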