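import Groth.Statements.S14902
-- import your own Groth.Agent.* helpers here
import Mathlib

set_option autoImplicit false
universe u
open MovLem

namespace Groth.Agent.S14902

open AlgebraicGeometry CategoryTheory CategoryTheory.Limits in
/-- Let X₁, X₂, X₃ be schemes over a field k, with the fibre products X₁₂ = X₁ ×_k X₂, X₂₃ = X₂ ×_k X₃,
X₁₃ = X₁ ×_k X₃ and X₁₂₃ = X₁₂ ×_{X₂} X₂₃ = X₁ ×_k X₂ ×_k X₃. Write p₁₂ : X₁₂₃ → X₁₂, p₂₃ : X₁₂₃ →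
X₂₃, p₁₃ : X₁₂₃ → X₁₃, p₁ : X₁₂₃ → X₁ and p₃ : X₁₂₃ → X₃ for the projections from the triple
product, and, on the double products, pr₁ : X₁₂ → X₁, pr₂ : X₁₂ → X₂, pr₁ : X₁₃ → X₁, pr₃ : X₁₃ →
X₃, pr₂ : X₂₃ → X₂ and pr₃ : X₂₃ → X₃ for the projections (indexed by the target factor). Let W₁ ⊆
X₁₂, W₂ ⊆ X₂₃ and R₁ ⊆ X₁ be arbitrary subsets of the underlying spaces, and put W₁₂ = p₁₂⁻¹(W₁) ∩
p₂₃⁻¹(W₂), W₃ = p₁₃(W₁₂), R₂ = pr₂(W₁ ∩ pr₁⁻¹(R₁)) and R₃ = p₃(W₁₂ ∩ p₁⁻¹(R₁)). Then R₃ = pr₃(W₃ ∩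
pr₁⁻¹(R₁)), computed in X₁₃, and R₃ = pr₃(W₂ ∩ pr₂⁻¹(R₂)), computed in X₂₃, as identities of point
sets. (The published statement concerns supports of algebraic cycles on smooth projective
equidimensional k-schemes; this row is stated for arbitrary subsets of the underlying spaces of
arbitrary k-schemes.) -/
theorem result (k : Type u) [Field k] (X₁ X₂ X₃ : Scheme.{u})
    (π₁ : X₁ ⟶ Spec (CommRingCat.of k)) (π₂ : X₂ ⟶ Spec (CommRingCat.of k)) (π₃ : X₃ ⟶ Spec (CommRingCat.of k))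
    (p₁₃ : pullback (pullback.snd π₁ π₂) (pullback.fst π₂ π₃) ⟶ pullback π₁ π₃)
    (h₁₃ : p₁₃ ≫ pullback.fst π₁ π₃ =
      pullback.fst (pullback.snd π₁ π₂) (pullback.fst π₂ π₃) ≫ pullback.fst π₁ π₂)
    (h₁₃' : p₁₃ ≫ pullback.snd π₁ π₃ =
      pullback.snd (pullback.snd π₁ π₂) (pullback.fst π₂ π₃) ≫ pullback.snd π₂ π₃)
    (W₁ : Set ↥(pullback π₁ π₂)) (W₂ : Set ↥(pullback π₂ π₃)) (R₁ : Set X₁)
    (W₁₂ : Set ↥(pullback (pullback.snd π₁ π₂) (pullback.fst π₂ π₃)))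
    (hW₁₂ : W₁₂ = (pullback.fst (pullback.snd π₁ π₂) (pullback.fst π₂ π₃)).base ⁻¹' W₁ ∩
      (pullback.snd (pullback.snd π₁ π₂) (pullback.fst π₂ π₃)).base ⁻¹' W₂)
    (W₃ : Set ↥(pullback π₁ π₃)) (hW₃ : W₃ = p₁₃.base '' W₁₂)
    (R₂ : Set X₂) (hR₂ : R₂ = (pullback.snd π₁ π₂).base '' (W₁ ∩ (pullback.fst π₁ π₂).base ⁻¹' R₁))
    (R₃ : Set X₃) (hR₃ : R₃ = (pullback.snd (pullback.snd π₁ π₂) (pullback.fst π₂ π₃) ≫ pullback.snd π₂ π₃).base ''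
      (W₁₂ ∩ (pullback.fst (pullback.snd π₁ π₂) (pullback.fst π₂ π₃) ≫ pullback.fst π₁ π₂).base ⁻¹' R₁)) :
    R₃ = (pullback.snd π₁ π₃).base '' (W₃ ∩ (pullback.fst π₁ π₃).base ⁻¹' R₁) ∧
      R₃ = (pullback.snd π₂ π₃).base '' (W₂ ∩ (pullback.fst π₂ π₃).base ⁻¹' R₂) := by
  classical
  have hcomp : ∀ {X Y Z : Scheme.{u}} (f : X ⟶ Y) (g : Y ⟶ Z) (x : X),
      (f ≫ g).base x = g.base (f.base x) := fun f g x => rfl
  have h1 : ∀ w, (pullback.fst π₁ π₃).base (p₁₃.base w) = (pullback.fst π₁ π₂).base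
      ((pullback.fst (pullback.snd π₁ π₂) (pullback.fst π₂ π₃)).base w) := by
    intro w
    rw [← hcomp, ← hcomp, h₁₃]
  have h2 : ∀ w, (pullback.snd π₁ π₃).base (p₁₃.base w) = (pullback.snd π₂ π₃).base
      ((pullback.snd (pullback.snd π₁ π₂) (pullback.fst π₂ π₃)).base w) := by
    intro w
    rw [← hcomp, ← hcomp, h₁₃']
  have h3 : ∀ w, (pullback.snd π₁ π₂).base
      ((pullback.fst (pullback.snd π₁ π₂) (pullback.fst π₂ π₃)).base w)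
      = (pullback.fst π₂ π₃).base
        ((pullback.snd (pullback.snd π₁ π₂) (pullback.fst π₂ π₃)).base w) := by
    intro w
    rw [← hcomp, ← hcomp, pullback.condition]
  subst hW₁₂ hW₃ hR₂ hR₃
  constructor
  · ext x
    simp only [Set.mem_image, Set.mem_inter_iff, Set.mem_preimage, hcomp]
    constructor
    · rintro ⟨w, ⟨hw, hwR⟩, rfl⟩
      exact ⟨p₁₃.base w, ⟨⟨w, hw, rfl⟩, by rw [h1]; exact hwR⟩, h2 w⟩
    · rintro ⟨_, ⟨⟨w, hw, rfl⟩, hR⟩, rfl⟩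
      exact ⟨w, ⟨hw, by rw [← h1]; exact hR⟩, (h2 w).symm⟩
  · ext x
    simp only [Set.mem_image, Set.mem_inter_iff, Set.mem_preimage, hcomp]
    constructor
    · rintro ⟨w, ⟨⟨hw1, hw2⟩, hwR⟩, rfl⟩
      exact ⟨_, ⟨hw2, ⟨_, ⟨hw1, hwR⟩, h3 w⟩⟩, rfl⟩
    · rintro ⟨z, ⟨hz, ⟨y, ⟨hy, hyR⟩, hyz⟩⟩, rfl⟩
      obtain ⟨w, hwa, hwb⟩ := Scheme.Pullback.exists_preimage_pullback
        (f := pullback.snd π₁ π₂) (g := pullback.fst π₂ π₃) y z hyz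
      refine ⟨w, ⟨⟨?_, ?_⟩, ?_⟩, ?_⟩
      · rw [hwa]; exact hy
      · rw [hwb]; exact hz
      · rw [hwa]; exact hyR
      · rw [hwb]

end Groth.Agent.S14902
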