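import Groth.Statements.S14920
-- import your own Groth.Agent.* helpers here
import Mathlib

set_option autoImplicit false
universe u
open CategoryTheory AlgebraicGeometry
open PerfSch

namespace Groth.Agent.S14920

open CategoryTheory.Limits

/-- Let p be a prime and let X, Y, X', Y' be schemes of characteristic p (p = 0 in the structure sheaf).
Let π_X : X' ⟶ X and π_Y : Y' ⟶ Y be perfections: X' is perfect (its absolute Frobenius is an
isomorphism) and every morphism from a perfect scheme of characteristic p to X factors uniquely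
through π_X, and likewise for π_Y. Let f : X ⟶ Y be a morphism and f' : X' ⟶ Y' the induced morphism
of perfections, the one with f' ≫ π_Y = π_X ≫ f. If f is an open immersion, then so is f'. -/
theorem result (p : ℕ) [Fact p.Prime] {X Y XP YP : Scheme.{u}}
    [FrobSch.IsCharP X p] [FrobSch.IsCharP Y p] [FrobSch.IsCharP XP p] [FrobSch.IsCharP YP p]
    (πX : XP ⟶ X) (πY : YP ⟶ Y) (hX : FrobSch.IsPerfection πX p) (hY : FrobSch.IsPerfection πY p)
    (f : X ⟶ Y) (fP : XP ⟶ YP) (w : fP ≫ πY = πX ≫ f)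
    [AlgebraicGeometry.IsOpenImmersion f] : AlgebraicGeometry.IsOpenImmersion fP := by
  obtain ⟨hXP, hXu⟩ := hX
  obtain ⟨hYP, hYu⟩ := hY
  haveI hPchar : FrobSch.IsCharP (pullback f πY) p :=
    FrobSch.IsCharP.of_hom (pullback.snd f πY) p
  have hPperf : FrobSch.IsPerfect (pullback f πY) p := by
    haveI : IsIso (FrobSch.frob YP p) := hYP
    have hcomm : FrobSch.frob (pullback f πY) p ≫ pullback.snd f πY =
        pullback.snd f πY ≫ FrobSch.frob YP p := FrobSch.frob_comp p (pullback.snd f πY)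
    have hinvpt : ∀ y : YP, (inv (FrobSch.frob YP p)) y = y := by
      intro y
      have h1 : (FrobSch.frob YP p ≫ inv (FrobSch.frob YP p)) y = y := by
        rw [IsIso.hom_inv_id]; rfl
      exact h1
    have hrange : Set.range (pullback.snd f πY ≫ inv (FrobSch.frob YP p)) ⊆
        Set.range (pullback.snd f πY) := by
      rintro _ ⟨z, rfl⟩
      exact ⟨z, (hinvpt _).symm⟩
    obtain ⟨g, hg⟩ : ∃ g : pullback f πY ⟶ pullback f πY,
        g ≫ pullback.snd f πY = pullback.snd f πY ≫ inv (FrobSch.frob YP p) :=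
      ⟨IsOpenImmersion.lift (pullback.snd f πY) (pullback.snd f πY ≫ inv (FrobSch.frob YP p))
        hrange, IsOpenImmersion.lift_fac _ _ _⟩
    refine ⟨⟨g, ?_, ?_⟩⟩
    · have h1 : (FrobSch.frob (pullback f πY) p ≫ g) ≫ pullback.snd f πY =
          𝟙 _ ≫ pullback.snd f πY := by
        rw [Category.assoc, hg, ← Category.assoc, hcomm, Category.assoc, IsIso.hom_inv_id,
          Category.comp_id, Category.id_comp]
      exact (cancel_mono (pullback.snd f πY)).mp h1
    · have h1 : (g ≫ FrobSch.frob (pullback f πY) p) ≫ pullback.snd f πY =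
          𝟙 _ ≫ pullback.snd f πY := by
        rw [Category.assoc, hcomm, ← Category.assoc, hg, Category.assoc, IsIso.inv_hom_id,
          Category.comp_id, Category.id_comp]
      exact (cancel_mono (pullback.snd f πY)).mp h1
  have hPu : ∀ (Z : Scheme.{u}) [FrobSch.IsCharP Z p], FrobSch.IsPerfect Z p →
      Function.Bijective (fun g : Z ⟶ pullback f πY => g ≫ pullback.fst f πY) := by
    intro Z _ hZ
    constructor
    · intro g₁ g₂ h
      have h' : g₁ ≫ pullback.fst f πY = g₂ ≫ pullback.fst f πY := h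
      apply pullback.hom_ext h'
      apply (hYu Z hZ).1
      show (g₁ ≫ pullback.snd f πY) ≫ πY = (g₂ ≫ pullback.snd f πY) ≫ πY
      rw [Category.assoc, Category.assoc, ← pullback.condition, ← Category.assoc,
        ← Category.assoc, h']
    · intro t
      obtain ⟨s, hs⟩ := (hYu Z hZ).2 (t ≫ f)
      have hs' : s ≫ πY = t ≫ f := hs
      exact ⟨pullback.lift t s hs'.symm, pullback.lift_fst _ _ _⟩
  obtain ⟨e₁, he₁⟩ := (hPu XP hXP).2 πX
  obtain ⟨e₂, he₂⟩ := (hXu (pullback f πY) hPperf).2 (pullback.fst f πY)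
  have he₁' : e₁ ≫ pullback.fst f πY = πX := he₁
  have he₂' : e₂ ≫ πX = pullback.fst f πY := he₂
  have h12 : e₁ ≫ e₂ = 𝟙 XP := by
    apply (hXu XP hXP).1
    show (e₁ ≫ e₂) ≫ πX = 𝟙 XP ≫ πX
    rw [Category.assoc, he₂', he₁', Category.id_comp]
  have h21 : e₂ ≫ e₁ = 𝟙 _ := by
    apply (hPu _ hPperf).1
    show (e₂ ≫ e₁) ≫ pullback.fst f πY = 𝟙 _ ≫ pullback.fst f πY
    rw [Category.assoc, he₁', he₂', Category.id_comp]
  haveI : IsIso e₁ := ⟨⟨e₂, h12, h21⟩⟩
  have hfP : fP = e₁ ≫ pullback.snd f πY := by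
    apply (hYu XP hXP).1
    show fP ≫ πY = (e₁ ≫ pullback.snd f πY) ≫ πY
    rw [Category.assoc, ← pullback.condition, ← Category.assoc, he₁', w]
  rw [hfP]
  infer_instance

end Groth.Agent.S14920
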