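import Groth.Statements.S14953
-- import your own Groth.Agent.* helpers here
import Mathlib
import Groth.Agent.Lib.helper7.EtMil

set_option autoImplicit false
universe u
open TensorProduct
open EtAlg

namespace Groth.Agent.S14953

/-- Let B' = B ×_A A' be a fibre product of commutative rings with A' → A surjective and L' a B'-module.
If B ⊗_{B'} L' is a finitely generated B-module and A' ⊗_{B'} L' is a finitely generated A'-module,
then L' is a finitely generated B'-module. (The published statement is about flat modules of finite
type; the finiteness conclusion does not use flatness, which descends separately.) -/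
theorem result (B' B A' A : Type u) [CommRing B'] [CommRing B] [CommRing A'] [CommRing A]
    [Algebra B' B] [Algebra B' A'] [Algebra B A] [Algebra A' A] [Algebra B' A] [IsScalarTower B' B A] [IsScalarTower B' A' A]
    (hsq : EtMil.IsFibreSquare B' B A' A)
    (L' : Type u) [AddCommGroup L'] [Module B' L']
    [Module.Finite B (B ⊗[B'] L')] [Module.Finite A' (A' ⊗[B'] L')] : Module.Finite B' L' := by
  classical
  have gen : ∀ (S : Type u) [CommRing S] [Algebra B' S] [Module.Finite S (S ⊗[B'] L')],
      ∃ T : Finset L', (Submodule.span B' (T : Set L')).baseChange S = ⊤ := by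
    intro S _ _ _
    have htop : Submodule.span S (TensorProduct.mk B' S L' 1 '' (Set.univ : Set L')) = ⊤ := by
      rw [← Submodule.baseChange_span, Submodule.span_univ, Submodule.baseChange_top]
    have hfg : (Submodule.span S (TensorProduct.mk B' S L' 1 '' (Set.univ : Set L'))).FG := by
      rw [htop]
      exact Module.Finite.fg_top
    obtain ⟨s', hs's, hs'⟩ := (Submodule.fg_span_iff_fg_span_finset_subset _).mp hfg
    obtain ⟨T, _, hT⟩ := Finset.subset_set_image_iff.mp hs's
    refine ⟨T, ?_⟩
    rw [Submodule.baseChange_span, ← Finset.coe_image, hT, ← hs', htop]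
  obtain ⟨T1, hT1⟩ := gen B
  obtain ⟨T2, hT2⟩ := gen A'
  have h1 : (Submodule.span B' ((T1 ∪ T2 : Finset L') : Set L')).baseChange B = ⊤ := by
    rw [eq_top_iff, ← hT1]
    apply Submodule.baseChange_mono
    apply Submodule.span_mono
    exact_mod_cast Finset.subset_union_left
  have h2 : (Submodule.span B' ((T1 ∪ T2 : Finset L') : Set L')).baseChange A' = ⊤ := by
    rw [eq_top_iff, ← hT2]
    apply Submodule.baseChange_mono
    apply Submodule.span_mono
    exact_mod_cast Finset.subset_union_right
  have key : ∀ (S : Type u) [CommRing S] [Algebra B' S] (L'' : Submodule B' L'),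
      L''.baseChange S = ⊤ → Subsingleton (S ⊗[B'] (L' ⧸ L'')) := by
    intro S _ _ L'' hS
    refine ⟨fun x y => ?_⟩
    have h0 : ∀ z : S ⊗[B'] (L' ⧸ L''), z = 0 := by
      intro z
      obtain ⟨w, rfl⟩ := LinearMap.lTensor_surjective S (Submodule.mkQ_surjective L'') z
      have hw : w ∈ L''.baseChange S := by rw [hS]; trivial
      obtain ⟨v, rfl⟩ := hw
      change (LinearMap.lTensor S L''.mkQ) ((LinearMap.lTensor S L''.subtype) v) = 0
      rw [← LinearMap.comp_apply, ← LinearMap.lTensor_comp]
      have : L''.mkQ ∘ₗ L''.subtype = 0 := by ext x; simp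
      rw [this, LinearMap.lTensor_zero, LinearMap.zero_apply]
    rw [h0 x, h0 y]
  have := key B _ h1
  have := key A' _ h2
  have hss : Subsingleton (L' ⧸ Submodule.span B' ((T1 ∪ T2 : Finset L') : Set L')) :=
    Groth.Agent.Lib.helper7.etmil_subsingleton hsq _
  have htop : Submodule.span B' ((T1 ∪ T2 : Finset L') : Set L') = ⊤ :=
    Submodule.Quotient.subsingleton_iff.mp hss
  rw [Module.finite_def, ← htop]
  exact Submodule.fg_span (Finset.finite_toSet _)

end Groth.Agent.S14953
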