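import Groth.Statements.S14955
-- import your own Groth.Agent.* helpers here
import Mathlib
import Groth.Agent.Lib.helper7.EtMil

set_option autoImplicit false
universe u
open TensorProduct
open EtAlg

namespace Groth.Agent.S14955

/-- Let B' = B ×_A A' be a fibre product of commutative rings with A' → A surjective. Then the square is
also a pushout of commutative rings: the canonical map B ⊗_{B'} A' → A is an isomorphism. -/
theorem result (B' B A' A : Type u) [CommRing B'] [CommRing B] [CommRing A'] [CommRing A]
    [Algebra B' B] [Algebra B' A'] [Algebra B A] [Algebra A' A] [Algebra B' A] [IsScalarTower B' B A] [IsScalarTower B' A' A]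
    (hsq : EtMil.IsFibreSquare B' B A' A) : Algebra.IsPushout B' B A' A := by
  constructor
  apply IsBaseChange.of_lift_unique
  intro Q _ _ _ _ g
  have hsurjA : Function.Surjective (algebraMap A' A) := hsq.1
  have hsurjB : Function.Surjective (algebraMap B' B) :=
    Groth.Agent.Lib.helper7.etmil_surj hsq
  have hker : ∀ a' : A', algebraMap A' A a' = 0 → g a' = 0 := by
    intro a' ha'
    obtain ⟨j, ⟨hj1, hj2⟩, _⟩ := hsq.2 0 a' (by rw [map_zero, ha'])
    have e : a' = j • (1 : A') := by rw [Algebra.smul_def, mul_one, hj2]
    rw [e, map_smul, ← IsScalarTower.algebraMap_smul B j (g 1), hj1, zero_smul]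
  have hwd : ∀ x y : A', algebraMap A' A x = algebraMap A' A y → g x = g y := by
    intro x y hxy
    have h0 := hker (x - y) (by rw [map_sub, hxy, sub_self])
    have e : x = y + (x - y) := by ring
    rw [e, map_add, h0, add_zero]
  have hf : ∀ a' : A', (IsScalarTower.toAlgHom B' A' A).toLinearMap a' = algebraMap A' A a' :=
    fun _ => rfl
  refine ⟨{ toFun := fun a => g (hsurjA a).choose, map_add' := ?_, map_smul' := ?_ }, ?_, ?_⟩
  · intro x y
    show g (hsurjA (x + y)).choose = g (hsurjA x).choose + g (hsurjA y).choose
    rw [← map_add]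
    apply hwd
    rw [map_add, (hsurjA (x + y)).choose_spec, (hsurjA x).choose_spec, (hsurjA y).choose_spec]
  · intro b x
    obtain ⟨b', rfl⟩ := hsurjB b
    show g (hsurjA (algebraMap B' B b' • x)).choose = algebraMap B' B b' • g (hsurjA x).choose
    have e1 : algebraMap B' B b' • g (hsurjA x).choose = g (b' • (hsurjA x).choose) := by
      rw [IsScalarTower.algebraMap_smul, map_smul]
    rw [e1]
    apply hwd
    rw [(hsurjA (algebraMap B' B b' • x)).choose_spec]
    rw [Algebra.smul_def b' (hsurjA x).choose, map_mul, (hsurjA x).choose_spec,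
      ← IsScalarTower.algebraMap_apply, Algebra.smul_def, ← IsScalarTower.algebraMap_apply]
  · ext a'
    show g (hsurjA (algebraMap A' A a')).choose = g a'
    exact hwd _ _ (hsurjA _).choose_spec
  · intro g'' hg''
    ext a
    obtain ⟨a', rfl⟩ := hsurjA a
    show g'' (algebraMap A' A a') = g (hsurjA (algebraMap A' A a')).choose
    rw [hwd _ _ (hsurjA (algebraMap A' A a')).choose_spec, ← hg'']
    rfl

end Groth.Agent.S14955
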