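import Groth.Statements.S3245
import Mathlib
import Groth.Agent.Lib.helper2.AzLocal

set_option autoImplicit false
universe u
open TensorProduct
open Dix

namespace Groth.Agent.S3245

/-- (i) ⇔ (ii) over a local base: let R be a local ring with residue field k and A an R-algebra which is
finite and free as an R-module and nonzero. Then A is an Azumaya R-algebra (A ⊗_R A° → End_R(A)
bijective) if and only if k ⊗_R A is a central simple k-algebra. -/
theorem result (R : Type u) [CommRing R] [IsLocalRing R] (A : Type u) [Ring A] [Algebra R A] [Module.Finite R A] [Module.Free R A] [Nontrivial A] : IsAzumaya R A ↔ (Algebra.IsCentral (IsLocalRing.ResidueField R) ((IsLocalRing.ResidueField R) ⊗[R] A) ∧ IsSimpleRing ((IsLocalRing.ResidueField R) ⊗[R] A)) := by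
  classical
  let ι := Module.Free.ChooseBasisIndex R A
  let b : Module.Basis ι R A := Module.Free.chooseBasis R A
  let bb : Module.Basis ι (IsLocalRing.ResidueField R) ((IsLocalRing.ResidueField R) ⊗[R] A) :=
    Algebra.TensorProduct.basis (IsLocalRing.ResidueField R) b
  have hmat : H2Az.azMat bb = (H2Az.azMat b).map (algebraMap R (IsLocalRing.ResidueField R)) := by
    ext p q
    show bb.repr (bb q.1 * bb p.2 * bb q.2) p.1 =
      algebraMap R (IsLocalRing.ResidueField R) (b.repr (b q.1 * b p.2 * b q.2) p.1)
    rw [Algebra.TensorProduct.basis_apply, Algebra.TensorProduct.basis_apply,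
      Algebra.TensorProduct.basis_apply,
      Algebra.TensorProduct.tmul_mul_tmul, Algebra.TensorProduct.tmul_mul_tmul, mul_one, mul_one,
      Algebra.TensorProduct.basis_repr_tmul, one_smul]
    rfl
  have hdet : IsUnit (H2Az.azMat bb).det ↔ IsUnit (H2Az.azMat b).det := by
    rw [hmat]
    have : ((H2Az.azMat b).map (algebraMap R (IsLocalRing.ResidueField R))).det =
        algebraMap R (IsLocalRing.ResidueField R) (H2Az.azMat b).det := by
      rw [RingHom.map_det]; rfl
    rw [this]
    exact isUnit_map_iff (IsLocalRing.residue R) _
  haveI : Nonempty ι := b.index_nonempty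
  haveI : Nontrivial ((IsLocalRing.ResidueField R) ⊗[R] A) :=
    ⟨⟨bb (Classical.arbitrary ι), 0, bb.ne_zero _⟩⟩
  constructor
  · intro hAz
    have h1 := (H2Az.bijective_mulLeftRight_iff b).1 hAz.bij
    have h2 := (H2Az.bijective_mulLeftRight_iff bb).2 (hdet.2 h1)
    exact H2Az.central_simple_of_bijective h2
  · rintro ⟨hc, hs⟩
    have h2 := (H2Az.bijective_mulLeftRight_iff bb).1 H2Az.bijective_of_central_simple
    have h1 := (H2Az.bijective_mulLeftRight_iff b).2 (hdet.1 h2)
    exact { toProjective := inferInstance, toFaithfulSMul := inferInstance,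
            toFinite := inferInstance, bij := h1 }

end Groth.Agent.S3245
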