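import Groth.Statements.S5719
import Mathlib
import Groth.Agent.S3245
import Groth.Agent.S19588
import Groth.Agent.Lib.helper2.AzLocal

set_option autoImplicit false
universe u v
open TensorProduct
open Dix

lemma tsub {R M N : Type*} [CommRing R] [AddCommGroup M] [AddCommGroup N] [Module R M]
    [Module R N] [Subsingleton N] : Subsingleton (M ⊗[R] N) := by
  refine subsingleton_of_forall_eq 0 fun x => ?_
  induction x using TensorProduct.induction_on with
  | zero => rfl
  | tmul m n => rw [Subsingleton.elim n 0, TensorProduct.tmul_zero]
  | add x y hx hy => rw [hx, hy, add_zero]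

noncomputable def cbc (R : Type*) [CommRing R] (S : Type*) [CommRing S] [Algebra R S]
    (κ : Type*) [Field κ] [Algebra R κ] [Algebra S κ] [IsScalarTower R S κ]
    (A : Type*) [Ring A] [Algebra R A] :
    κ ⊗[R] A ≃ₐ[κ] κ ⊗[S] (S ⊗[R] A) :=
  AlgEquiv.ofLinearEquiv
    (TensorProduct.AlgebraTensorModule.cancelBaseChange R S κ κ A).symm
    (by simp [Algebra.TensorProduct.one_def])
    (LinearMap.map_mul_of_map_mul_tmul (fun _ _ _ _ ↦ by simp))

lemma bc_bij (R : Type*) [CommRing R] (S : Type*) [CommRing S] [Algebra R S]
    (A : Type*) [Ring A] [Algebra R A] [Module.Finite R A] [Module.Projective R A]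
    (h : Function.Bijective (AlgHom.mulLeftRight S (S ⊗[R] A))) :
    Function.Bijective ((AlgHom.mulLeftRight R A).toLinearMap.baseChange S) := by
  let eop : (S ⊗[R] Aᵐᵒᵖ) ≃ₗ[S] (S ⊗[R] A)ᵐᵒᵖ :=
    (TensorProduct.AlgebraTensorModule.congr (LinearEquiv.refl S S)
      (MulOpposite.opLinearEquiv R).symm).trans (MulOpposite.opLinearEquiv S)
  let e1 : S ⊗[R] (A ⊗[R] Aᵐᵒᵖ) ≃ₗ[S] (S ⊗[R] A) ⊗[S] (S ⊗[R] A)ᵐᵒᵖ :=
    (TensorProduct.AlgebraTensorModule.distribBaseChange R S A Aᵐᵒᵖ).trans
      (TensorProduct.congr (LinearEquiv.refl S _) eop)
  let ψ := LinearEquiv.ofBijective _ (Groth.Agent.S19588.h9_psi_bij R S A)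
  have key : (AlgHom.mulLeftRight S (S ⊗[R] A)).toLinearMap ∘ₗ e1.toLinearMap =
      ψ.toLinearMap ∘ₗ ((AlgHom.mulLeftRight R A).toLinearMap.baseChange S) := by
    apply TensorProduct.AlgebraTensorModule.ext
    intro s x
    induction x using TensorProduct.induction_on with
    | zero => simp
    | add x y hx hy => simp only [TensorProduct.tmul_add, map_add, hx, hy]
    | tmul a b =>
      apply TensorProduct.AlgebraTensorModule.ext
      intro t y
      simp [e1, eop, ψ, TensorProduct.smul_tmul']
  have h2 : Function.Bijective
      (ψ.toLinearMap ∘ₗ ((AlgHom.mulLeftRight R A).toLinearMap.baseChange S)) := by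
    rw [← key]
    show Function.Bijective (⇑(AlgHom.mulLeftRight S (S ⊗[R] A)) ∘ ⇑e1)
    exact h.comp e1.bijective
  have h3 : Function.Bijective
      (⇑ψ ∘ ⇑((AlgHom.mulLeftRight R A).toLinearMap.baseChange S)) := h2
  exact (Function.Bijective.of_comp_iff' ψ.bijective _).1 h3

namespace Groth.Agent.S5719

/-- (i) ⇔ (ii), over an affine base. Let R be a commutative ring and A an R-algebra whose underlying
module is finite and projective (locally free of finite type). Then A ⊗_R A° → End_R(A) is bijective
with A faithful, i.e. A is an Azumaya algebra over R, if and only if every fibre κ(p) ⊗_R A, p a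
prime ideal of R, is a central simple algebra over the residue field κ(p). -/
theorem result (R : Type u) [CommRing R] (A : Type u) [Ring A] [Algebra R A] [Module.Finite R A] [Module.Projective R A] : IsAzumaya R A ↔ ∀ (p : Ideal R) [p.IsPrime], Algebra.IsCentral p.ResidueField (p.ResidueField ⊗[R] A) ∧ IsSimpleRing (p.ResidueField ⊗[R] A) := by
  constructor
  · intro hAz p hp
    haveI : IsAzumaya p.ResidueField (p.ResidueField ⊗[R] A) :=
      Groth.Agent.S19588.result R p.ResidueField A
    haveI : Nontrivial (p.ResidueField ⊗[R] A) := by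
      by_contra h
      rw [not_nontrivial_iff_subsingleton] at h
      exact one_ne_zero (α := p.ResidueField)
        (FaithfulSMul.eq_of_smul_eq_smul (α := p.ResidueField ⊗[R] A)
          fun x => Subsingleton.elim _ _)
    exact H2Az.central_simple_of_bijective IsAzumaya.bij
  · intro H
    have hloc : ∀ (P : Ideal R) [P.IsPrime],
        IsAzumaya (Localization.AtPrime P) (Localization.AtPrime P ⊗[R] A) := by
      intro P hP
      obtain ⟨hc, hs⟩ := H P
      let e := cbc R (Localization.AtPrime P) P.ResidueField A
      haveI : Nontrivial (P.ResidueField ⊗[R] A) := inferInstance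
      haveI : Module.Free (Localization.AtPrime P) (Localization.AtPrime P ⊗[R] A) :=
        Module.free_of_flat_of_isLocalRing
      haveI : Nontrivial (Localization.AtPrime P ⊗[R] A) := by
        by_contra h
        rw [not_nontrivial_iff_subsingleton] at h
        haveI : Subsingleton (P.ResidueField ⊗[Localization.AtPrime P]
            (Localization.AtPrime P ⊗[R] A)) := tsub
        exact not_subsingleton (P.ResidueField ⊗[R] A) e.toEquiv.subsingleton
      have hc' : Algebra.IsCentral P.ResidueField (P.ResidueField ⊗[Localization.AtPrime P]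
          (Localization.AtPrime P ⊗[R] A)) :=
        Algebra.IsCentral.of_algEquiv P.ResidueField _ _ e
      have hs' : IsSimpleRing (P.ResidueField ⊗[Localization.AtPrime P]
          (Localization.AtPrime P ⊗[R] A)) :=
        IsSimpleRing.of_ringEquiv e.toRingEquiv hs
      exact (Groth.Agent.S3245.result (Localization.AtPrime P)
        (Localization.AtPrime P ⊗[R] A)).2 ⟨hc', hs'⟩
    have hbc : ∀ (P : Ideal R) [P.IsPrime], Function.Bijective
        ((AlgHom.mulLeftRight R A).toLinearMap.baseChange (Localization.AtPrime P)) := by
      intro P hP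
      exact bc_bij R (Localization.AtPrime P) A (hloc P).bij
    have hbij : Function.Bijective (AlgHom.mulLeftRight R A).toLinearMap := by
      refine bijective_of_isLocalized_maximal
        (fun (P : Ideal R) [P.IsMaximal] => Localization.AtPrime P ⊗[R] (A ⊗[R] Aᵐᵒᵖ))
        (fun P _ => TensorProduct.mk R (Localization.AtPrime P) (A ⊗[R] Aᵐᵒᵖ) 1)
        (fun (P : Ideal R) [P.IsMaximal] => Localization.AtPrime P ⊗[R] (Module.End R A))
        (fun P _ => TensorProduct.mk R (Localization.AtPrime P) (Module.End R A) 1)
        (AlgHom.mulLeftRight R A).toLinearMap ?_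
      intro P hP
      have hmap : IsLocalizedModule.map P.primeCompl
          (TensorProduct.mk R (Localization.AtPrime P) (A ⊗[R] Aᵐᵒᵖ) 1)
          (TensorProduct.mk R (Localization.AtPrime P) (Module.End R A) 1)
          (AlgHom.mulLeftRight R A).toLinearMap
          = ((AlgHom.mulLeftRight R A).toLinearMap.baseChange
              (Localization.AtPrime P)).restrictScalars R := by
        apply IsLocalizedModule.ext P.primeCompl
          (TensorProduct.mk R (Localization.AtPrime P) (A ⊗[R] Aᵐᵒᵖ) 1)
          (IsLocalizedModule.map_units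
            (TensorProduct.mk R (Localization.AtPrime P) (Module.End R A) 1))
        rw [IsLocalizedModule.map_comp]
        refine LinearMap.ext fun x => ?_
        simp
      rw [hmap]
      exact hbc P
    have hfaith : FaithfulSMul R A := by
      refine ⟨fun {r r'} h => ?_⟩
      rw [← sub_eq_zero]
      apply eq_zero_of_localization
      intro P hP
      haveI : FaithfulSMul (Localization.AtPrime P) (Localization.AtPrime P ⊗[R] A) :=
        (hloc P).toFaithfulSMul
      apply FaithfulSMul.eq_of_smul_eq_smul (α := Localization.AtPrime P ⊗[R] A)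
      intro x
      rw [zero_smul, algebraMap_smul]
      induction x using TensorProduct.induction_on with
      | zero => simp
      | tmul s a => rw [← TensorProduct.tmul_smul, sub_smul, h a, sub_self, TensorProduct.tmul_zero]
      | add x y hx hy => rw [smul_add, hx, hy, add_zero]
    exact { toProjective := inferInstance, toFaithfulSMul := hfaith,
            toFinite := inferInstance, bij := hbij }

end Groth.Agent.S5719
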