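import Groth.Statements.S14963
import Mathlib
import Groth.Agent.S5719

set_option autoImplicit false
universe u v w
open TensorProduct
open Brauer

lemma bc_bij' (R : Type*) [CommRing R] (S : Type*) [CommRing S] [Algebra R S]
    (A : Type*) [Ring A] [Algebra R A] [Module.Finite R A] [Module.Projective R A]
    (h : Function.Bijective ((AlgHom.mulLeftRight R A).toLinearMap.baseChange S)) :
    Function.Bijective (AlgHom.mulLeftRight S (S ⊗[R] A)) := by
  let eop : (S ⊗[R] Aᵐᵒᵖ) ≃ₗ[S] (S ⊗[R] A)ᵐᵒᵖ :=
    (TensorProduct.AlgebraTensorModule.congr (LinearEquiv.refl S S)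
      (MulOpposite.opLinearEquiv R).symm).trans (MulOpposite.opLinearEquiv S)
  let e1 : S ⊗[R] (A ⊗[R] Aᵐᵒᵖ) ≃ₗ[S] (S ⊗[R] A) ⊗[S] (S ⊗[R] A)ᵐᵒᵖ :=
    (TensorProduct.AlgebraTensorModule.distribBaseChange R S A Aᵐᵒᵖ).trans
      (TensorProduct.congr (LinearEquiv.refl S _) eop)
  let ψ := LinearEquiv.ofBijective _ (Groth.Agent.S19588.h9_psi_bij R S A)
  have key : (AlgHom.mulLeftRight S (S ⊗[R] A)).toLinearMap ∘ₗ e1.toLinearMap =
      ψ.toLinearMap ∘ₗ ((AlgHom.mulLeftRight R A).toLinearMap.baseChange S) := by
    apply TensorProduct.AlgebraTensorModule.ext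
    intro s x
    induction x using TensorProduct.induction_on with
    | zero => simp
    | add x y hx hy => simp only [TensorProduct.tmul_add, map_add, hx, hy]
    | tmul a b =>
      apply TensorProduct.AlgebraTensorModule.ext
      intro t y
      simp [e1, eop, ψ, TensorProduct.smul_tmul']
  have h2 : Function.Bijective
      ((AlgHom.mulLeftRight S (S ⊗[R] A)).toLinearMap ∘ₗ e1.toLinearMap) := by
    rw [key]
    show Function.Bijective (⇑ψ ∘ ⇑((AlgHom.mulLeftRight R A).toLinearMap.baseChange S))
    exact ψ.bijective.comp h
  have h3 : Function.Bijective (⇑(AlgHom.mulLeftRight S (S ⊗[R] A)) ∘ ⇑e1) := h2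
  exact (Function.Bijective.of_comp_iff _ e1.bijective).1 h3

lemma az_local (R : Type*) [CommRing R] [IsLocalRing R] (A : Type*) [Ring A] [Algebra R A]
    [Module.Finite R A] [Module.Free R A]
    (h : Function.Bijective (AlgHom.mulLeftRight (IsLocalRing.ResidueField R)
      (IsLocalRing.ResidueField R ⊗[R] A))) :
    Function.Bijective (AlgHom.mulLeftRight R A) := by
  classical
  let ι := Module.Free.ChooseBasisIndex R A
  let b : Module.Basis ι R A := Module.Free.chooseBasis R A
  let bb : Module.Basis ι (IsLocalRing.ResidueField R) ((IsLocalRing.ResidueField R) ⊗[R] A) :=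
    Algebra.TensorProduct.basis (IsLocalRing.ResidueField R) b
  have hmat : H2Az.azMat bb = (H2Az.azMat b).map (algebraMap R (IsLocalRing.ResidueField R)) := by
    ext p q
    show bb.repr (bb q.1 * bb p.2 * bb q.2) p.1 =
      algebraMap R (IsLocalRing.ResidueField R) (b.repr (b q.1 * b p.2 * b q.2) p.1)
    rw [Algebra.TensorProduct.basis_apply, Algebra.TensorProduct.basis_apply,
      Algebra.TensorProduct.basis_apply,
      Algebra.TensorProduct.tmul_mul_tmul, Algebra.TensorProduct.tmul_mul_tmul, mul_one, mul_one,
      Algebra.TensorProduct.basis_repr_tmul, one_smul]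
    rfl
  have hdet : IsUnit (H2Az.azMat bb).det ↔ IsUnit (H2Az.azMat b).det := by
    rw [hmat]
    have : ((H2Az.azMat b).map (algebraMap R (IsLocalRing.ResidueField R))).det =
        algebraMap R (IsLocalRing.ResidueField R) (H2Az.azMat b).det := by
      rw [RingHom.map_det]; rfl
    rw [this]
    exact isUnit_map_iff (IsLocalRing.residue R) _
  have h2 := (H2Az.bijective_mulLeftRight_iff bb).1 h
  exact (H2Az.bijective_mulLeftRight_iff b).2 (hdet.1 h2)

lemma az_of_fibres (R : Type*) [CommRing R] (A : Type*) [Ring A] [Algebra R A]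
    [Module.Finite R A] [Module.Projective R A]
    (H : ∀ (P : Ideal R) [P.IsMaximal], IsAzumaya P.ResidueField (P.ResidueField ⊗[R] A)) :
    IsAzumaya R A := by
  have hloc : ∀ (P : Ideal R) [P.IsMaximal],
      IsAzumaya (Localization.AtPrime P) (Localization.AtPrime P ⊗[R] A) := by
    intro P hP
    haveI hAzκ : IsAzumaya P.ResidueField (P.ResidueField ⊗[R] A) := H P
    let e := cbc R (Localization.AtPrime P) P.ResidueField A
    have hAz2 : IsAzumaya P.ResidueField (P.ResidueField ⊗[Localization.AtPrime P]
        (Localization.AtPrime P ⊗[R] A)) := IsAzumaya.of_AlgEquiv _ _ _ e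
    haveI : Module.Free (Localization.AtPrime P) (Localization.AtPrime P ⊗[R] A) :=
      Module.free_of_flat_of_isLocalRing
    have hb := az_local (Localization.AtPrime P) (Localization.AtPrime P ⊗[R] A) hAz2.bij
    haveI : FaithfulSMul P.ResidueField (P.ResidueField ⊗[R] A) := hAzκ.toFaithfulSMul
    haveI : Nontrivial (P.ResidueField ⊗[R] A) := by
      by_contra h
      rw [not_nontrivial_iff_subsingleton] at h
      exact one_ne_zero (α := P.ResidueField)
        (FaithfulSMul.eq_of_smul_eq_smul (α := P.ResidueField ⊗[R] A)
          fun x => Subsingleton.elim _ _)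
    haveI : Nontrivial (Localization.AtPrime P ⊗[R] A) := by
      by_contra h
      rw [not_nontrivial_iff_subsingleton] at h
      haveI : Subsingleton (P.ResidueField ⊗[Localization.AtPrime P]
          (Localization.AtPrime P ⊗[R] A)) := tsub
      exact not_subsingleton (P.ResidueField ⊗[R] A) e.toEquiv.subsingleton
    exact { toProjective := inferInstance, toFaithfulSMul := inferInstance,
            toFinite := inferInstance, bij := hb }
  have hbc : ∀ (P : Ideal R) [P.IsMaximal], Function.Bijective
      ((AlgHom.mulLeftRight R A).toLinearMap.baseChange (Localization.AtPrime P)) := by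
    intro P hP
    exact bc_bij R (Localization.AtPrime P) A (hloc P).bij
  have hbij : Function.Bijective (AlgHom.mulLeftRight R A).toLinearMap := by
    refine bijective_of_isLocalized_maximal
      (fun (P : Ideal R) [P.IsMaximal] => Localization.AtPrime P ⊗[R] (A ⊗[R] Aᵐᵒᵖ))
      (fun P _ => TensorProduct.mk R (Localization.AtPrime P) (A ⊗[R] Aᵐᵒᵖ) 1)
      (fun (P : Ideal R) [P.IsMaximal] => Localization.AtPrime P ⊗[R] (Module.End R A))
      (fun P _ => TensorProduct.mk R (Localization.AtPrime P) (Module.End R A) 1)
      (AlgHom.mulLeftRight R A).toLinearMap ?_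
    intro P hP
    have hmap : IsLocalizedModule.map P.primeCompl
        (TensorProduct.mk R (Localization.AtPrime P) (A ⊗[R] Aᵐᵒᵖ) 1)
        (TensorProduct.mk R (Localization.AtPrime P) (Module.End R A) 1)
        (AlgHom.mulLeftRight R A).toLinearMap
        = ((AlgHom.mulLeftRight R A).toLinearMap.baseChange
            (Localization.AtPrime P)).restrictScalars R := by
      apply IsLocalizedModule.ext P.primeCompl
        (TensorProduct.mk R (Localization.AtPrime P) (A ⊗[R] Aᵐᵒᵖ) 1)
        (IsLocalizedModule.map_units
          (TensorProduct.mk R (Localization.AtPrime P) (Module.End R A) 1))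
      rw [IsLocalizedModule.map_comp]
      refine LinearMap.ext fun x => ?_
      simp
    rw [hmap]
    exact hbc P
  have hfaith : FaithfulSMul R A := by
    refine ⟨fun {r r'} h => ?_⟩
    rw [← sub_eq_zero]
    apply eq_zero_of_localization
    intro P hP
    haveI : FaithfulSMul (Localization.AtPrime P) (Localization.AtPrime P ⊗[R] A) :=
      (hloc P).toFaithfulSMul
    apply FaithfulSMul.eq_of_smul_eq_smul (α := Localization.AtPrime P ⊗[R] A)
    intro x
    rw [zero_smul, algebraMap_smul]
    induction x using TensorProduct.induction_on with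
    | zero => simp
    | tmul s a => rw [← TensorProduct.tmul_smul, sub_smul, h a, sub_self, TensorProduct.tmul_zero]
    | add x y hx hy => rw [smul_add, hx, hy, add_zero]
  exact { toProjective := inferInstance, toFaithfulSMul := hfaith,
          toFinite := inferInstance, bij := hbij }

lemma az_descend_field (R : Type*) [CommRing R] (A : Type*) [Ring A] [Algebra R A]
    [Module.Finite R A] [Module.Projective R A]
    (κ : Type*) [Field κ] [Algebra R κ] (K : Type*) [Field K] [Algebra R K] [Algebra κ K]
    [IsScalarTower R κ K] (hK : IsAzumaya K (K ⊗[R] A)) : IsAzumaya κ (κ ⊗[R] A) := by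
  have h1 : Function.Bijective ((AlgHom.mulLeftRight R A).toLinearMap.baseChange K) :=
    bc_bij R K A hK.bij
  let cM := TensorProduct.AlgebraTensorModule.cancelBaseChange R κ K K (A ⊗[R] Aᵐᵒᵖ)
  let cN := TensorProduct.AlgebraTensorModule.cancelBaseChange R κ K K (Module.End R A)
  have hcomm : cN.toLinearMap ∘ₗ
      (((AlgHom.mulLeftRight R A).toLinearMap.baseChange κ).baseChange K) =
      ((AlgHom.mulLeftRight R A).toLinearMap.baseChange K) ∘ₗ cM.toLinearMap := by
    apply TensorProduct.AlgebraTensorModule.ext
    intro x y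
    induction y using TensorProduct.induction_on with
    | zero => simp
    | tmul c m => simp [cM, cN]
    | add y z hy hz => simp only [TensorProduct.tmul_add, map_add, hy, hz]
  have h2 : Function.Bijective
      (((AlgHom.mulLeftRight R A).toLinearMap.baseChange κ).baseChange K) := by
    have h3 : Function.Bijective
        (⇑cN ∘ ⇑(((AlgHom.mulLeftRight R A).toLinearMap.baseChange κ).baseChange K)) := by
      have : (⇑cN ∘ ⇑(((AlgHom.mulLeftRight R A).toLinearMap.baseChange κ).baseChange K)) =
          ⇑(((AlgHom.mulLeftRight R A).toLinearMap.baseChange K) ∘ₗ cM.toLinearMap) := by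
        rw [← hcomm]; rfl
      rw [this]
      exact h1.comp cM.bijective
    exact (Function.Bijective.of_comp_iff' cN.bijective _).1 h3
  haveI : Module.FaithfullyFlat κ K := inferInstance
  have h4 : Function.Bijective ((AlgHom.mulLeftRight R A).toLinearMap.baseChange κ) :=
    (Module.FaithfullyFlat.lTensor_bijective_iff_bijective κ K _).1 h2
  have h5 := bc_bij' R κ A h4
  haveI : Nontrivial (κ ⊗[R] A) := by
    by_contra hn
    rw [not_nontrivial_iff_subsingleton] at hn
    haveI : Subsingleton (K ⊗[κ] (κ ⊗[R] A)) := tsub
    haveI hsub : Subsingleton (K ⊗[R] A) :=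
      (TensorProduct.AlgebraTensorModule.cancelBaseChange R κ K K A).symm.toEquiv.subsingleton
    haveI : FaithfulSMul K (K ⊗[R] A) := hK.toFaithfulSMul
    exact one_ne_zero (α := K)
      (FaithfulSMul.eq_of_smul_eq_smul (α := K ⊗[R] A) fun x => Subsingleton.elim _ _)
  have hfaith : FaithfulSMul κ (κ ⊗[R] A) :=
    (faithfulSMul_iff_algebraMap_injective κ (κ ⊗[R] A)).2 (algebraMap κ (κ ⊗[R] A)).injective
  exact { toProjective := inferInstance, toFaithfulSMul := hfaith,
          toFinite := inferInstance, bij := h5 }

namespace Groth.Agent.S14963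

/-- Let R → S be a ring homomorphism with Spec S → Spec R surjective and B an R-algebra which is
finitely generated and projective as an R-module. If S ⊗_R B is an Azumaya S-algebra, then B is an
Azumaya R-algebra. (The published statement is for a surjective morphism of schemes X → Y and a
finite locally free O_Y-algebra; this row is the case of affine X and Y. The converse direction,
base change, is omitted.) -/
theorem result (R : Type u) [CommRing R]
    (S : Type v) [CommRing S] [Algebra R S]
    (hS : Function.Surjective (PrimeSpectrum.comap (algebraMap R S)))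
    (B : Type w) [Ring B] [Algebra R B] [Module.Finite R B] [Module.Projective R B]
    [IsAzumaya S (S ⊗[R] B)] : IsAzumaya R B := by
  apply az_of_fibres R B
  intro P hP
  obtain ⟨q, hq⟩ := hS ⟨P, inferInstance⟩
  have hPq : P = q.asIdeal.comap (algebraMap R S) := by
    have := congrArg PrimeSpectrum.asIdeal hq
    exact this.symm
  letI : Algebra P.ResidueField q.asIdeal.ResidueField :=
    (Ideal.ResidueField.map P q.asIdeal (algebraMap R S) hPq).toAlgebra
  haveI : IsScalarTower R P.ResidueField q.asIdeal.ResidueField := by
    apply IsScalarTower.of_algebraMap_eq'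
    ext r
    rw [RingHom.comp_apply, RingHom.algebraMap_toAlgebra, Ideal.ResidueField.map_algebraMap]
    exact IsScalarTower.algebraMap_apply R S _ r
  haveI h1 : IsAzumaya q.asIdeal.ResidueField (q.asIdeal.ResidueField ⊗[S] (S ⊗[R] B)) :=
    Groth.Agent.S19588.result S q.asIdeal.ResidueField (S ⊗[R] B)
  have h2 : IsAzumaya q.asIdeal.ResidueField (q.asIdeal.ResidueField ⊗[R] B) :=
    IsAzumaya.of_AlgEquiv _ _ _ (cbc R S q.asIdeal.ResidueField B).symm
  exact az_descend_field R B P.ResidueField q.asIdeal.ResidueField h2

end Groth.Agent.S14963
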