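import Groth.Statements.S14964
-- import your own Groth.Agent.* helpers here
import Mathlib

set_option autoImplicit false
universe u v w
open EtAlg

namespace Groth.Agent.S14964

/-- Let f : A → A' be a homomorphism of commutative rings, M an A-module and M' an A'-module together
with an A-linear map u : M → M' whose image generates M' over A' (so M' is a quotient of A' ⊗_A M).
Let I be an ideal of A such that the ideal of A' generated by f(I) consists of the elements f(i), i
∈ I. Then f(I) M' = u(I M) as subsets of M'; in particular u(I M) is an A'-submodule. -/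
theorem result (A : Type u) [CommRing A] (A' : Type v) [CommRing A'] [Algebra A A']
    (M : Type w) [AddCommGroup M] [Module A M] (M' : Type w) [AddCommGroup M'] [Module A' M'] [Module A M'] [IsScalarTower A A' M']
    (u : M →ₗ[A] M') (hu : Submodule.span A' (Set.range u) = ⊤)
    (I : Ideal A) (hI : ∀ a ∈ Ideal.map (algebraMap A A') I, ∃ i ∈ I, algebraMap A A' i = a) :
    ((Ideal.map (algebraMap A A') I) • (⊤ : Submodule A' M')).restrictScalars A = Submodule.map u (I • (⊤ : Submodule A M)) := by
  ext x
  simp only [Submodule.restrictScalars_mem, Submodule.mem_map]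
  constructor
  · intro hx
    have key : ∀ m' ∈ Submodule.span A' (Set.range u), ∀ a' ∈ Ideal.map (algebraMap A A') I,
        ∃ y ∈ I • (⊤ : Submodule A M), u y = a' • m' := by
      intro m' hm'
      induction hm' using Submodule.span_induction with
      | mem m' hm' =>
        obtain ⟨m, rfl⟩ := hm'
        intro a' ha'
        obtain ⟨i, hi, rfl⟩ := hI a' ha'
        exact ⟨i • m, Submodule.smul_mem_smul hi trivial, by rw [map_smul, algebraMap_smul]⟩
      | zero => intro a' _; exact ⟨0, Submodule.zero_mem _, by simp⟩
      | add p q _ _ hp hq =>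
        intro a' ha'
        obtain ⟨y1, hy1, e1⟩ := hp a' ha'
        obtain ⟨y2, hy2, e2⟩ := hq a' ha'
        exact ⟨y1 + y2, Submodule.add_mem _ hy1 hy2, by rw [map_add, e1, e2, smul_add]⟩
      | smul b p _ hp =>
        intro a' ha'
        obtain ⟨y, hy, e⟩ := hp (a' * b) (Ideal.mul_mem_right _ _ ha')
        exact ⟨y, hy, by rw [e, mul_smul]⟩
    refine Submodule.smul_induction_on hx ?_ ?_
    · intro a' ha' m' _
      exact key m' (by rw [hu]; trivial) a' ha'
    · rintro p q ⟨y1, hy1, rfl⟩ ⟨y2, hy2, rfl⟩
      exact ⟨y1 + y2, Submodule.add_mem _ hy1 hy2, map_add _ _ _⟩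
  · rintro ⟨y, hy, rfl⟩
    refine Submodule.smul_induction_on hy ?_ ?_
    · intro i hi m _
      rw [map_smul, ← algebraMap_smul A' i (u m)]
      exact Submodule.smul_mem_smul (Ideal.mem_map_of_mem _ hi) trivial
    · intro p q hp hq
      rw [map_add]; exact Submodule.add_mem _ hp hq

end Groth.Agent.S14964
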