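import Groth.Statements.S14966
-- import your own Groth.Agent.* helpers here
import Mathlib

set_option autoImplicit false
universe u
open EtAlg

namespace Groth.Agent.S14966


theorem mem_cond_iff (A A' : Type u) [CommRing A] [CommRing A'] [Algebra A A'] (c : A) :
    c ∈ Module.annihilator A (A' ⧸ LinearMap.range (Algebra.linearMap A A')) ↔
      ∀ y : A', ∃ a : A, algebraMap A A' a = algebraMap A A' c * y := by
  rw [Module.mem_annihilator]
  constructor
  · intro h y
    have := h (Submodule.Quotient.mk y)
    rw [← Submodule.Quotient.mk_smul, Submodule.Quotient.mk_eq_zero] at this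
    obtain ⟨a, ha⟩ := this
    exact ⟨a, by rw [← Algebra.linearMap_apply, ha, Algebra.smul_def]⟩
  · intro h m
    obtain ⟨y, rfl⟩ := Submodule.Quotient.mk_surjective _ m
    rw [← Submodule.Quotient.mk_smul, Submodule.Quotient.mk_eq_zero]
    obtain ⟨a, ha⟩ := h y
    exact ⟨a, by rw [Algebra.linearMap_apply, ha, Algebra.smul_def]⟩

theorem map_cond_eq (A A' : Type u) [CommRing A] [CommRing A'] [Algebra A A']
    (hinj : Function.Injective (algebraMap A A')) (z : A')
    (hz : z ∈ Ideal.map (algebraMap A A')
      (Module.annihilator A (A' ⧸ LinearMap.range (Algebra.linearMap A A')))) :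
    ∃ c ∈ Module.annihilator A (A' ⧸ LinearMap.range (Algebra.linearMap A A')),
      algebraMap A A' c = z := by
  unfold Ideal.map at hz
  induction hz using Submodule.span_induction with
  | mem x hx =>
    obtain ⟨c, hc, rfl⟩ := hx
    exact ⟨c, hc, rfl⟩
  | zero => exact ⟨0, Submodule.zero_mem _, map_zero _⟩
  | add x y _ _ hx hy =>
    obtain ⟨c, hc, rfl⟩ := hx
    obtain ⟨d, hd, rfl⟩ := hy
    exact ⟨c + d, Submodule.add_mem _ hc hd, map_add _ _ _⟩
  | smul a'' x _ hx =>
    obtain ⟨c, hc, rfl⟩ := hx
    obtain ⟨a, ha⟩ := (mem_cond_iff A A' c).mp hc a''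
    refine ⟨a, ?_, ?_⟩
    · rw [mem_cond_iff]
      intro y
      obtain ⟨b, hb⟩ := (mem_cond_iff A A' c).mp hc (a'' * y)
      exact ⟨b, by rw [hb, ha, mul_assoc]⟩
    · rw [ha, smul_eq_mul, mul_comm]

/-- Let A → A' be an injective homomorphism of commutative rings and let I ⊆ A be the conductor, i.e.
the annihilator of the A-module A'/A. Then the conductor square formed by A → A/I, A → A', A/I →
A'/IA' and A' → A'/IA' is a fibre product square of rings with A' → A'/IA' surjective: A = A/I
×_{A'/IA'} A'. (The published Lemma is for the conductor square of a finite modification of schemes;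
this row is the underlying statement for one injective ring map, which needs no finiteness.) -/
theorem result (A A' : Type u) [CommRing A] [CommRing A'] [Algebra A A']
    (hinj : Function.Injective (algebraMap A A')) :
    EtMil.IsFibreSquare A (A ⧸ Module.annihilator A (A' ⧸ LinearMap.range (Algebra.linearMap A A'))) A'
      (A' ⧸ Ideal.map (algebraMap A A') (Module.annihilator A (A' ⧸ LinearMap.range (Algebra.linearMap A A')))) := by
  refine ⟨Ideal.Quotient.mk_surjective, ?_⟩
  intro b a' hba
  obtain ⟨a₀, rfl⟩ := Ideal.Quotient.mk_surjective b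
  have h1 : Ideal.Quotient.mk (Ideal.map (algebraMap A A')
      (Module.annihilator A (A' ⧸ LinearMap.range (Algebra.linearMap A A'))))
      (algebraMap A A' a₀) = Ideal.Quotient.mk _ a' := hba
  rw [Ideal.Quotient.eq] at h1
  obtain ⟨c, hc, hcz⟩ := map_cond_eq A A' hinj _ h1
  refine ⟨a₀ - c, ⟨?_, ?_⟩, ?_⟩
  · show Ideal.Quotient.mk _ (a₀ - c) = Ideal.Quotient.mk _ a₀
    rw [Ideal.Quotient.eq]
    have : a₀ - c - a₀ = -c := by ring
    rw [this]
    exact neg_mem hc
  · rw [map_sub, hcz]
    ring
  · rintro y ⟨_, hy2⟩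
    apply hinj
    rw [hy2, map_sub, hcz]
    ring

end Groth.Agent.S14966
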