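import Groth.Statements.S14967
import Mathlib
import Groth.Agent.S5719

set_option autoImplicit false
universe u v w
open TensorProduct
open Brauer

lemma fp_descent (R : Type*) [CommRing R] (S : Type*) [CommRing S] [Algebra R S]
    [Module.FaithfullyFlat R S] (M : Type*) [AddCommGroup M] [Module R M]
    [Module.FinitePresentation S (S ⊗[R] M)] : Module.FinitePresentation R M := by
  haveI : Module.Finite R M := Module.Finite.of_finite_tensorProduct_of_faithfullyFlat S
  obtain ⟨n, f, hf⟩ := Module.Finite.exists_fin' R M
  apply Module.finitePresentation_of_free_of_surjective f hf
  have hex : Function.Exact (LinearMap.ker f).subtype f := LinearMap.exact_subtype_ker_map f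
  have hex' := Module.Flat.lTensor_exact S hex
  have hsurj : Function.Surjective (f.baseChange S) := LinearMap.lTensor_surjective S hf
  have hfg : (LinearMap.ker (f.baseChange S)).FG :=
    Module.FinitePresentation.fg_ker (f.baseChange S) hsurj
  have hinj : Function.Injective ((LinearMap.ker f).subtype.baseChange S) :=
    Module.Flat.lTensor_preserves_injective_linearMap (M := S) (LinearMap.ker f).subtype
      (LinearMap.ker f).injective_subtype
  have hrange : LinearMap.range ((LinearMap.ker f).subtype.baseChange S)
      = LinearMap.ker (f.baseChange S) := by
    ext x
    rw [LinearMap.mem_range, LinearMap.mem_ker]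
    exact (hex' x).symm
  haveI : Module.Finite S (S ⊗[R] (LinearMap.ker f)) := by
    have h1 : Module.Finite S (LinearMap.range ((LinearMap.ker f).subtype.baseChange S)) := by
      rw [hrange]; exact Module.Finite.iff_fg.2 hfg
    exact Module.Finite.equiv (LinearEquiv.ofInjective _ hinj).symm
  haveI : Module.Finite R (LinearMap.ker f) :=
    Module.Finite.of_finite_tensorProduct_of_faithfullyFlat S
  exact Module.Finite.iff_fg.1 inferInstance

namespace Groth.Agent.S14967

/-- Let R → S be a faithfully flat homomorphism of commutative rings and B an R-algebra, with no
finiteness assumption. If S ⊗_R B is an Azumaya S-algebra then B is an Azumaya R-algebra. (The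
published statement is for a flat surjective morphism of schemes X → Y and a quasi-coherent
O_Y-algebra; this row is the case of affine X and Y, where flat and surjective means faithfully
flat. The converse, base change, is omitted.) -/
theorem result (R : Type u) [CommRing R]
    (S : Type v) [CommRing S] [Algebra R S] [Module.FaithfullyFlat R S]
    (B : Type w) [Ring B] [Algebra R B] [IsAzumaya S (S ⊗[R] B)] : IsAzumaya R B := by
  have hAz' : IsAzumaya S (S ⊗[R] B) := inferInstance
  haveI : Module.Projective S (S ⊗[R] B) := hAz'.toProjective
  haveI : Module.Finite S (S ⊗[R] B) := hAz'.toFinite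
  haveI : Module.FinitePresentation S (S ⊗[R] B) := Module.finitePresentation_of_projective _ _
  haveI : Module.FinitePresentation R B := fp_descent R S B
  haveI : Module.Flat S (S ⊗[R] B) := inferInstance
  haveI : Module.Flat R B := Module.Flat.of_flat_tensorProduct R B S
  haveI : Module.Projective R B := Module.Flat.projective_of_finitePresentation
  haveI : Module.Finite R B := inferInstance
  have hbc := bc_bij R S B hAz'.bij
  have hbij : Function.Bijective (AlgHom.mulLeftRight R B).toLinearMap :=
    (Module.FaithfullyFlat.lTensor_bijective_iff_bijective R S _).1 hbc
  have hfaith : FaithfulSMul R B := by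
    refine ⟨fun {a b} h => ?_⟩
    have hinj : Function.Injective (algebraMap R S) := FaithfulSMul.algebraMap_injective R S
    apply hinj
    haveI : FaithfulSMul S (S ⊗[R] B) := hAz'.toFaithfulSMul
    apply FaithfulSMul.eq_of_smul_eq_smul (α := S ⊗[R] B)
    intro x
    rw [algebraMap_smul, algebraMap_smul]
    induction x using TensorProduct.induction_on with
    | zero => simp
    | tmul s y => rw [← TensorProduct.tmul_smul, ← TensorProduct.tmul_smul, h y]
    | add x y hx hy => rw [smul_add, smul_add, hx, hy]
  exact { toProjective := inferInstance, toFaithfulSMul := hfaith,
          toFinite := inferInstance, bij := hbij }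

end Groth.Agent.S14967
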