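import Groth.Statements.S14973
-- import your own Groth.Agent.* helpers here
import Mathlib

set_option autoImplicit false
universe u v
open Diff16

namespace Groth.Agent.S14973

/-- In ring form. Let B be a commutative ring, L a ring with a ring homomorphism f from B, and L_0, L_1,
L_2, … additive subgroups of L exhausting L such that for every b in B, f(b) commutes with every
element of L_0 and, for each i, the commutator f(b) x - x f(b) of f(b) with an element x of L_(i+1)
lies in L_i. Let M be a multiplicative subset of B. Then M acts invertibly on the right of the left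
localisation of L at M (L viewed as a B-module through left multiplication): in elementwise terms,
(a) if x is in L and m, u are in M with f(u) x f(m) = 0, then f(u') x = 0 for some u' in M; (b) for
every x in L and m in M there are e in M and y in L with f(e) x = y f(m). (The published statement
assumes a filtration satisfying all the axioms of a filtered ring of differential operators on an
affine scheme; this row assumes only an exhaustive family of additive subgroups on which commutators
with the image of B lower the index.) -/
theorem result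
    {B : Type u} [CommRing B] {L : Type v} [Ring L] (f : B →+* L) (F : ℕ → AddSubgroup L)
    (hex : ∀ x : L, ∃ i : ℕ, x ∈ F i)
    (h0 : ∀ x ∈ F 0, ∀ b : B, f b * x = x * f b)
    (hS : ∀ (i : ℕ), ∀ x ∈ F (i + 1), ∀ b : B, f b * x - x * f b ∈ F i)
    (M : Submonoid B) :
    (∀ (x : L) (m u : B), m ∈ M → u ∈ M → f u * x * f m = 0 → ∃ u' ∈ M, f u' * x = 0) ∧
    (∀ (x : L) (m : B), m ∈ M → ∃ e ∈ M, ∃ y : L, f e * x = y * f m) := by
  have P1 : ∀ i : ℕ, ∀ x ∈ F i, ∀ m u : B, m ∈ M → u ∈ M → f u * x * f m = 0 →
      ∃ u' ∈ M, f u' * x = 0 := by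
    intro i
    induction i with
    | zero =>
      intro x hx m u hm hu H
      refine ⟨u * m, M.mul_mem hu hm, ?_⟩
      rw [map_mul, mul_assoc, h0 x hx m, ← mul_assoc, H]
    | succ i ih =>
      intro x hx m u hm hu H
      have hc := hS i x hx m
      have hab : f u * f m = f m * f u := by rw [← map_mul, ← map_mul, mul_comm]
      have e1 : f u * (f m * x) * f m = f m * (f u * x * f m) := by
        rw [← mul_assoc (f u) (f m) x, hab]; simp only [mul_assoc]
      have e2 : f u * (x * f m) * f m = f u * x * f m * f m := by simp only [mul_assoc]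
      have H' : f u * (f m * x - x * f m) * f m = 0 := by
        rw [mul_sub, sub_mul, e1, e2, H, mul_zero, zero_mul, sub_zero]
      obtain ⟨u₁, hu₁M, hu₁⟩ := ih _ hc m u hm hu H'
      refine ⟨u₁ * u * m, M.mul_mem (M.mul_mem hu₁M hu) hm, ?_⟩
      have haa₁ : f u₁ * f u = f u * f u₁ := by rw [← map_mul, ← map_mul, mul_comm]
      have key : f u₁ * f u * f m * x
          = f u₁ * (f u * x * f m) + f u * (f u₁ * (f m * x - x * f m)) := by
        rw [← mul_assoc (f u) (f u₁), ← haa₁]
        simp only [mul_sub, mul_assoc]
        abel
      rw [map_mul, map_mul, key, H, hu₁, mul_zero, mul_zero, add_zero]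
  have P2 : ∀ i : ℕ, ∀ x ∈ F i, ∀ m : B, m ∈ M → ∃ e ∈ M, ∃ y : L, f e * x = y * f m := by
    intro i
    induction i with
    | zero =>
      intro x hx m hm
      exact ⟨m, hm, x, h0 x hx m⟩
    | succ i ih =>
      intro x hx m hm
      obtain ⟨e₁, he₁, y₁, hy₁⟩ := ih _ (hS i x hx m) m hm
      refine ⟨e₁ * m, M.mul_mem he₁ hm, f e₁ * x + y₁, ?_⟩
      rw [map_mul, add_mul, ← hy₁, mul_sub]
      simp only [mul_assoc]
      abel
  refine ⟨fun x m u hm hu H => ?_, fun x m hm => ?_⟩
  · obtain ⟨i, hi⟩ := hex x
    exact P1 i x hi m u hm hu H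
  · obtain ⟨i, hi⟩ := hex x
    exact P2 i x hi m hm

end Groth.Agent.S14973
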