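import Groth.Statements.S14984
import Mathlib
import Groth.Prelude.Def_CoactBr2
import Groth.Prelude.Def_GLin

set_option autoImplicit false
universe u v w
open HopfRep

namespace Groth.Agent.S14984

open scoped TensorProduct

section aux
variable (R : Type u) (A : Type v) (B : Type w)
    [CommRing R] [CommRing A] [HopfAlgebra R A]
    [CommRing B] [Algebra R B] [HopfRep.Comod R A B] [GLin.IsCoactAlg R A B]

set_option quotPrecheck false in
local notation "Cc" => ↥(GLin.invariants R A B)

/-- multiplication `C ⊗ B → B` -/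
noncomputable def mu : Cc ⊗[R] B →ₗ[R] B :=
  LinearMap.mul' R B ∘ₗ TensorProduct.map (GLin.invariants R A B).val.toLinearMap LinearMap.id

theorem mu_tmul (s : Cc) (b : B) : mu R A B (s ⊗ₜ[R] b) = (s : B) * b := rfl

noncomputable def N0 : Cc ⊗[R] (B ⊗[R] A) →ₗ[R] B ⊗[R] A :=
  LinearMap.mul' R (B ⊗[R] A) ∘ₗ TensorProduct.map
    ((Algebra.TensorProduct.includeLeft : B →ₐ[R] B ⊗[R] A).toLinearMap ∘ₗ
      (GLin.invariants R A B).val.toLinearMap) LinearMap.id

theorem N0_tmul (s : Cc) (y : B ⊗[R] A) :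
    N0 R A B (s ⊗ₜ[R] y) = ((s : B) ⊗ₜ[R] (1 : A)) * y := rfl

noncomputable def lidR : (Cc ⊗[Cc] Cc) ⊗[R] (B ⊗[R] A) →ₗ[R] Cc ⊗[R] (B ⊗[R] A) :=
  LinearMap.rTensor (B ⊗[R] A) ((TensorProduct.lid Cc Cc).toLinearMap.restrictScalars R)

theorem lidR_tmul (s t : Cc) (y : B ⊗[R] A) :
    lidR R A B ((s ⊗ₜ[Cc] t) ⊗ₜ[R] y) = (s * t) ⊗ₜ[R] y := rfl

noncomputable def MM : (Cc ⊗[R] B) ⊗[Cc] (Cc ⊗[R] A) →ₗ[R] B ⊗[R] A :=
  N0 R A B ∘ₗ lidR R A B ∘ₗ
    ((TensorProduct.AlgebraTensorModule.tensorTensorTensorComm R Cc R Cc Cc Cc B A).symm.toLinearMap.restrictScalars R)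

theorem MM_TTT (x : (Cc ⊗[Cc] Cc) ⊗[R] (B ⊗[R] A)) :
    MM R A B (TensorProduct.AlgebraTensorModule.tensorTensorTensorComm R Cc R Cc Cc Cc B A x) =
      N0 R A B (lidR R A B x) := by
  show N0 R A B (lidR R A B ((TensorProduct.AlgebraTensorModule.tensorTensorTensorComm R Cc R Cc Cc Cc B A).symm
    (TensorProduct.AlgebraTensorModule.tensorTensorTensorComm R Cc R Cc Cc Cc B A x))) = _
  rw [LinearEquiv.symm_apply_apply]

theorem L1 (z : Cc ⊗[R] B) :
    MM R A B ((CoactBr.Comod.baseChange R Cc A B).coact z) =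
      HopfRep.Comod.coact (k := R) (A := A) (mu R A B z) := by
  induction z using TensorProduct.induction_on with
  | zero => simp
  | tmul s b =>
    rw [CoactBr.baseChange_coact_tmul, MM_TTT, lidR_tmul, N0_tmul, mu_tmul,
      GLin.IsCoactAlg.coact_mul, one_mul]
    have hs : HopfRep.Comod.coact (k := R) (A := A) (s : B) = (s : B) ⊗ₜ[R] (1 : A) := s.2
    rw [hs]
  | add z₁ z₂ h₁ h₂ => rw [map_add, map_add, h₁, h₂, map_add, map_add]

theorem L2 (z : Cc ⊗[R] B) (a : A) :
    MM R A B (z ⊗ₜ[Cc] ((1 : Cc) ⊗ₜ[R] a)) = mu R A B z ⊗ₜ[R] a := by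
  induction z using TensorProduct.induction_on with
  | zero => simp
  | tmul s b =>
    have e : (s ⊗ₜ[R] b) ⊗ₜ[Cc] ((1 : Cc) ⊗ₜ[R] a) =
        TensorProduct.AlgebraTensorModule.tensorTensorTensorComm R Cc R Cc Cc Cc B A
          ((s ⊗ₜ[Cc] (1 : Cc)) ⊗ₜ[R] (b ⊗ₜ[R] a)) := rfl
    rw [e, MM_TTT, lidR_tmul, N0_tmul, mu_tmul, mul_one, Algebra.TensorProduct.tmul_mul_tmul,
      one_mul]
  | add z₁ z₂ h₁ h₂ => rw [TensorProduct.add_tmul, map_add, h₁, h₂, map_add, TensorProduct.add_tmul]

end aux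


/-- Let `R` be a commutative ring, `A` a commutative Hopf algebra over `R`, flat as an `R`-module, `B` a
commutative `R`-algebra with a coaction of `A` that is an algebra map (an action of `G = Spec A` on
`X = Spec B`), and `C = B^A` the ring of invariants. If the action base-changed along `R → C` — the
`C`-Hopf algebra `C ⊗ A` coacting on `C ⊗ B` — is tame, i.e. there is a `C`-linear comodule map `β :
C ⊗ A → C ⊗ B` (regular coaction on the source, base-changed coaction on the target) with `β 1 = 1`,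
then the original action is tame: there is an `R`-linear comodule map `α : A → B` with `α 1 = 1`.
(The converse is the case `S = C` of stability of tameness under base change. The published lemma
also lists, as a third equivalent condition, tameness of the action of `C ⊗ A` on `B` itself over
`C`; that condition is not stated here.) -/
theorem result
    (R : Type u) (A : Type v) (B : Type w)
    [CommRing R] [CommRing A] [HopfAlgebra R A] [Module.Flat R A]
    [CommRing B] [Algebra R B] [HopfRep.Comod R A B] [GLin.IsCoactAlg R A B]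
    (h : ∃ β : TensorProduct R ↥(GLin.invariants R A B) A →ₗ[↥(GLin.invariants R A B)]
        TensorProduct R ↥(GLin.invariants R A B) B,
      @Hoch.IsComodHom ↥(GLin.invariants R A B) _ (TensorProduct R ↥(GLin.invariants R A B) A) _ _ _
        (TensorProduct R ↥(GLin.invariants R A B) A) _ _
        (HopfRep.Comod.regular ↥(GLin.invariants R A B) (TensorProduct R ↥(GLin.invariants R A B) A))
        (TensorProduct R ↥(GLin.invariants R A B) B) _ _
        (CoactBr.Comod.baseChange R ↥(GLin.invariants R A B) A B) β ∧ β 1 = 1) :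
    ∃ α : A →ₗ[R] B, Hoch.IsComodHom A α ∧ α 1 = 1 := by
  obtain ⟨β, hβ, hβ1⟩ := h
  refine ⟨mu R A B ∘ₗ (β.restrictScalars R) ∘ₗ (TensorProduct.mk R _ A 1), ?_, ?_⟩
  · apply LinearMap.ext
    intro a
    have h1 : (CoactBr.Comod.baseChange R ↥(GLin.invariants R A B) A B).coact
        (β ((1 : ↥(GLin.invariants R A B)) ⊗ₜ[R] a)) =
        β.rTensor (TensorProduct R ↥(GLin.invariants R A B) A)
          (CoalgebraStruct.comul (R := ↥(GLin.invariants R A B))
            (A := TensorProduct R ↥(GLin.invariants R A B) A)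
            ((1 : ↥(GLin.invariants R A B)) ⊗ₜ[R] a)) := LinearMap.congr_fun hβ _
    have h2 := congrArg (MM R A B) h1
    rw [L1] at h2
    show HopfRep.Comod.coact (k := R) (A := A)
        (mu R A B (β ((1 : ↥(GLin.invariants R A B)) ⊗ₜ[R] a))) =
      (mu R A B ∘ₗ (β.restrictScalars R) ∘ₗ (TensorProduct.mk R _ A 1)).rTensor A
        (CoalgebraStruct.comul (R := R) a)
    rw [h2]
    have h3 : CoalgebraStruct.comul (R := ↥(GLin.invariants R A B))
        (A := TensorProduct R ↥(GLin.invariants R A B) A)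
        ((1 : ↥(GLin.invariants R A B)) ⊗ₜ[R] a) =
        TensorProduct.AlgebraTensorModule.tensorTensorTensorComm R ↥(GLin.invariants R A B) R
          ↥(GLin.invariants R A B) ↥(GLin.invariants R A B) ↥(GLin.invariants R A B) A A
          (((1 : ↥(GLin.invariants R A B)) ⊗ₜ[↥(GLin.invariants R A B)]
            (1 : ↥(GLin.invariants R A B))) ⊗ₜ[R] CoalgebraStruct.comul (R := R) a) := rfl
    rw [h3]
    generalize (CoalgebraStruct.comul (R := R) a : TensorProduct R A A) = u
    induction u using TensorProduct.induction_on with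
    | zero => simp
    | tmul x y =>
      have e : TensorProduct.AlgebraTensorModule.tensorTensorTensorComm R ↥(GLin.invariants R A B) R
          ↥(GLin.invariants R A B) ↥(GLin.invariants R A B) ↥(GLin.invariants R A B) A A
          (((1 : ↥(GLin.invariants R A B)) ⊗ₜ[↥(GLin.invariants R A B)]
            (1 : ↥(GLin.invariants R A B))) ⊗ₜ[R] (x ⊗ₜ[R] y)) =
          ((1 : ↥(GLin.invariants R A B)) ⊗ₜ[R] x) ⊗ₜ[↥(GLin.invariants R A B)]
            ((1 : ↥(GLin.invariants R A B)) ⊗ₜ[R] y) := rfl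
      rw [e, LinearMap.rTensor_tmul, L2, LinearMap.rTensor_tmul]
      rfl
    | add u₁ u₂ h₁ h₂ => simp only [TensorProduct.tmul_add, map_add, h₁, h₂]
  · show mu R A B (β ((1 : ↥(GLin.invariants R A B)) ⊗ₜ[R] (1 : A))) = 1
    rw [← Algebra.TensorProduct.one_def, hβ1, Algebra.TensorProduct.one_def, mu_tmul]
    simp

end Groth.Agent.S14984
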