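import Groth.Statements.S14994
-- import your own Groth.Agent.* helpers here
import Mathlib

set_option autoImplicit false
universe u
open CAlg

namespace Groth.Agent.S14994

lemma exists_dual_ne_zero {A : Type*} [CommRing A] [IsDomain A] {Q : Type*} [AddCommGroup Q]
    [Module A Q] [Module.Finite A Q] [Module.IsTorsionFree A Q] (q : Q) (hq : q ≠ 0) :
    ∃ ψ : Q →ₗ[A] A, ψ q ≠ 0 := by
  classical
  let ι : Q →ₗ[A] LocalizedModule (nonZeroDivisors A) Q :=
    LocalizedModule.mkLinearMap (nonZeroDivisors A) Q
  have hv : ι q ≠ 0 := by
    intro h
    obtain ⟨c, hc⟩ := (IsLocalizedModule.eq_zero_iff (nonZeroDivisors A) ι).1 h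
    rw [Submonoid.smul_def] at hc
    exact hq ((smul_eq_zero_iff_right (nonZeroDivisors.coe_ne_zero c)).1 hc)
  obtain ⟨l, hl⟩ : ∃ l : Module.Dual (FractionRing A) (LocalizedModule (nonZeroDivisors A) Q),
      l (ι q) ≠ 0 := by
    by_contra hne
    exact hv ((Module.forall_dual_apply_eq_zero_iff (FractionRing A) (ι q)).1
      (fun l => by by_contra h; exact hne ⟨l, h⟩))
  let g : Q →ₗ[A] FractionRing A := (l.restrictScalars A).comp ι
  have hgq : g q ≠ 0 := hl
  obtain ⟨s, hs⟩ := (Module.finite_def.1 (inferInstance : Module.Finite A Q))
  obtain ⟨d, hd⟩ := IsLocalization.exist_integer_multiples_of_finset (nonZeroDivisors A)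
    (s.image g)
  have hrange : ∀ y : Q, ((d : A) • g) y ∈ LinearMap.range (Algebra.linearMap A (FractionRing A)) := by
    intro y
    have hy : y ∈ Submodule.span A (s : Set Q) := by rw [hs]; exact Submodule.mem_top
    induction hy using Submodule.span_induction with
    | mem x hx =>
      obtain ⟨r, hr⟩ := hd (g x) (Finset.mem_image_of_mem g hx)
      exact ⟨r, by rw [Algebra.linearMap_apply, hr]; rfl⟩
    | zero => rw [map_zero]; exact Submodule.zero_mem _
    | add x y _ _ hx hy => rw [map_add]; exact Submodule.add_mem _ hx hy
    | smul a x _ hx => rw [map_smul]; exact Submodule.smul_mem _ a hx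
  have hinj : Function.Injective (Algebra.linearMap A (FractionRing A)) :=
    IsFractionRing.injective A (FractionRing A)
  let e := LinearEquiv.ofInjective (Algebra.linearMap A (FractionRing A)) hinj
  let ψ : Q →ₗ[A] A := e.symm.toLinearMap.comp (((d : A) • g).codRestrict _ hrange)
  have hψ : ∀ y, algebraMap A (FractionRing A) (ψ y) = (d : A) • g y := by
    intro y
    have h1 := e.apply_symm_apply ((((d : A) • g).codRestrict _ hrange) y)
    exact congrArg Subtype.val h1
  refine ⟨ψ, fun h0 => ?_⟩
  have h2 := hψ q
  rw [h0, map_zero, Algebra.smul_def] at h2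
  rcases mul_eq_zero.1 h2.symm with h3 | h3
  · have h4 : (d : A) = 0 := by
      apply IsFractionRing.injective A (FractionRing A)
      rw [h3, map_zero]
    exact nonZeroDivisors.coe_ne_zero d h4
  · exact hgq h3

/-- Let A be a Noetherian integrally closed domain, M a finitely generated torsion-free A-module, N a
submodule of M and ι : M → M** the canonical map to the double dual. Write N** → M** for the double
dual of the inclusion N → M. Then every m ∈ M whose image ι(m) lies in the image of N** is a torsion
element modulo N: some nonzero a ∈ A satisfies a·m ∈ N. In other words the preimage of N** under ι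
is contained in the saturation of N in M (the preimage of the torsion submodule of M/N), and the two
coincide when M/N is torsion-free. (The published statement asserts equality of the preimage with
the saturation for every N; for N = xA inside M = A = k[x] the saturation is all of M while N** has
image xA = N under the identification M** = M, so only the inclusion stated here holds, and it is
the inclusion later used, for saturated N, where the two sides agree.) -/
theorem result (A : Type u) [CommRing A] [IsDomain A]
    [IsNoetherianRing A] [IsIntegrallyClosed A]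
    (M : Type u) [AddCommGroup M] [Module A M] [Module.Finite A M] [NoZeroSMulDivisors A M]
    (N : Submodule A M) :
    (LinearMap.range N.subtype.dualMap.dualMap).comap (Module.Dual.eval A M) ≤
      (Submodule.torsion A (M ⧸ N)).comap N.mkQ := by
  intro m hm
  rw [Submodule.mem_comap] at hm ⊢
  obtain ⟨ξ, hξ⟩ := hm
  by_contra hnt
  have hq : (Submodule.torsion A (M ⧸ N)).mkQ (N.mkQ m) ≠ 0 := by
    intro h
    exact hnt ((Submodule.Quotient.mk_eq_zero _).1 h)
  obtain ⟨ψ, hψ⟩ := exists_dual_ne_zero (A := A) ((Submodule.torsion A (M ⧸ N)).mkQ (N.mkQ m)) hq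
  let φ : Module.Dual A M := ψ ∘ₗ (Submodule.torsion A (M ⧸ N)).mkQ ∘ₗ N.mkQ
  have h1 : N.subtype.dualMap φ = 0 := by
    ext n
    have h0 : N.mkQ (n : M) = 0 := by
      rw [Submodule.mkQ_apply]; exact (Submodule.Quotient.mk_eq_zero N).2 n.2
    simp [φ, h0]
  have h2 := congrArg (fun F => F φ) hξ
  simp only [LinearMap.dualMap_apply, Module.Dual.eval_apply] at h2
  rw [h1, map_zero] at h2
  exact hψ h2.symm

end Groth.Agent.S14994
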