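import Groth.Statements.S14997
-- import your own Groth.Agent.* helpers here
import Mathlib

set_option autoImplicit false
open HilbPol

namespace Groth.Agent.S14997

open Polynomial

lemma lex_aux {ℓ : ℕ} (x y x' y' : Fin ℓ → ℚ)
    (H : ∀ j, (∀ i, i < j → x i = y i) → x' j - y' j = x j - y j)
    (p : Fin ℓ → Prop) (hp : ∀ i k, k < i → p i → p k)
    (hj : ∀ i, p i → x' i = y' i) : ∀ i, p i → x i = y i := by
  have : ∀ n : ℕ, ∀ i : Fin ℓ, i.val = n → p i → x i = y i := by
    intro n
    induction n using Nat.strong_induction_on with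
    | _ n ih =>
      intro i hin hpi
      have h1 := H i (fun k hk => ih k.val (by rw [← hin]; exact hk) k rfl (hp i k hk hpi))
      have h2 := hj i hpi
      linarith
  exact fun i hpi => this i.val i rfl hpi

lemma lex_iff {ℓ : ℕ} (x y x' y' : Fin ℓ → ℚ)
    (H : ∀ j, (∀ i, i < j → x i = y i) → x' j - y' j = x j - y j) :
    toLex x ≤ toLex y ↔ toLex x' ≤ toLex y' := by
  have fwd : ∀ j, (∀ i, i < j → x i = y i) → (∀ i, i < j → x' i = y' i) := by
    intro j hj i hij
    have h1 := H i (fun k hk => hj k (hk.trans hij))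
    have h2 := hj i hij
    linarith
  rw [le_iff_eq_or_lt, le_iff_eq_or_lt]
  constructor
  · rintro (h | h)
    · left
      have hxy : x = y := toLex.injective h
      apply congrArg toLex
      funext j
      have h1 := H j (fun i _ => congrFun hxy i)
      have h2 := congrFun hxy j
      linarith
    · right
      obtain ⟨j, hj1, hj2⟩ := h
      refine ⟨j, fwd j hj1, ?_⟩
      have h1 := H j hj1
      have h2 : x j < y j := hj2
      show x' j < y' j
      linarith
  · rintro (h | h)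
    · left
      have hxy : x' = y' := toLex.injective h
      apply congrArg toLex
      funext j
      exact lex_aux x y x' y' H (fun _ => True) (fun _ _ _ _ => trivial)
        (fun i _ => congrFun hxy i) j trivial
    · right
      obtain ⟨j, hj1, hj2⟩ := h
      have hj1' : ∀ i, i < j → x i = y i :=
        lex_aux x y x' y' H (fun i => i < j) (fun i k hk hi => hk.trans hi) hj1
      refine ⟨j, hj1', ?_⟩
      have h1 := H j hj1'
      have h2 : x' j < y' j := hj2
      show x j < y j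
      linarith

lemma coeff_delta (a : ℚ) (R : ℚ[X]) (e : ℕ) (hR : R.natDegree ≤ e + 1) :
    (R - R.comp (X - C a)).coeff e = a * ((e : ℚ) + 1) * R.coeff (e + 1) := by
  have h1 : R.comp (X - C a) = ∑ i ∈ Finset.range (e + 2), C (R.coeff i) * (X - C a) ^ i := by
    rw [Polynomial.comp, Polynomial.eval₂_eq_sum_range' C (by omega : R.natDegree < e + 2)]
  have h2 : ∀ i, ((X - C a : ℚ[X]) ^ i).coeff e = (-a) ^ (i - e) * (i.choose e : ℚ) := by
    intro i
    rw [sub_eq_add_neg, ← C_neg, Polynomial.coeff_X_add_C_pow]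
  rw [Polynomial.coeff_sub, h1, Polynomial.finset_sum_coeff]
  simp only [Polynomial.coeff_C_mul, h2]
  rw [Finset.sum_range_succ, Finset.sum_range_succ, Finset.sum_eq_zero]
  · have e1 : e + 1 - e = 1 := by omega
    rw [Nat.sub_self, e1, Nat.choose_self, Nat.choose_succ_self_right]
    push_cast
    ring
  · intro i hi
    rw [Nat.choose_eq_zero_of_lt (Finset.mem_range.1 hi)]
    simp

lemma coeff_delta_top (a : ℚ) (P : ℚ[X]) (d' : ℕ) (hP : P.natDegree ≤ d' + 1) :
    (P - P.comp (X - C a)).coeff d' * (d'.factorial : ℚ) =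
      a * (P.coeff (d' + 1) * ((d' + 1).factorial : ℚ)) := by
  rw [coeff_delta a P d' hP, Nat.factorial_succ]
  push_cast
  ring

lemma keyH' (a : ℚ) (ha : a ≠ 0) (P Q : ℚ[X]) (e j : ℕ)
    (hP : P.natDegree ≤ e + 2 + j) (hQ : Q.natDegree ≤ e + 2 + j)
    (hu : P.coeff (e + 2 + j) ≠ 0) (hv : Q.coeff (e + 2 + j) ≠ 0)
    (hj : ∀ i, i < j →
      P.coeff (e + 1 + j - i) * ((e + 1 + j - i).factorial : ℚ) /
          (P.coeff (e + 2 + j) * ((e + 2 + j).factorial : ℚ)) =
        Q.coeff (e + 1 + j - i) * ((e + 1 + j - i).factorial : ℚ) /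
          (Q.coeff (e + 2 + j) * ((e + 2 + j).factorial : ℚ))) :
    (P - P.comp (X - C a)).coeff e * (e.factorial : ℚ) /
          ((P - P.comp (X - C a)).coeff (e + 1 + j) * ((e + 1 + j).factorial : ℚ)) -
        (Q - Q.comp (X - C a)).coeff e * (e.factorial : ℚ) /
          ((Q - Q.comp (X - C a)).coeff (e + 1 + j) * ((e + 1 + j).factorial : ℚ)) =
      P.coeff (e + 1) * ((e + 1).factorial : ℚ) /
          (P.coeff (e + 2 + j) * ((e + 2 + j).factorial : ℚ)) -
        Q.coeff (e + 1) * ((e + 1).factorial : ℚ) /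
          (Q.coeff (e + 2 + j) * ((e + 2 + j).factorial : ℚ)) := by
  have hfac : ∀ n : ℕ, (n.factorial : ℚ) ≠ 0 := fun n => by exact_mod_cast Nat.factorial_ne_zero n
  have hD : e + 1 + j + 1 = e + 2 + j := by omega
  have hdP := coeff_delta_top a P (e + 1 + j) (by omega)
  have hdQ := coeff_delta_top a Q (e + 1 + j) (by omega)
  rw [hD] at hdP hdQ
  rw [hdP, hdQ]
  generalize hu' : P.coeff (e + 2 + j) * ((e + 2 + j).factorial : ℚ) = u at *
  generalize hv' : Q.coeff (e + 2 + j) * ((e + 2 + j).factorial : ℚ) = v at *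
  have hu0 : u ≠ 0 := by rw [← hu']; exact mul_ne_zero hu (hfac _)
  have hv0 : v ≠ 0 := by rw [← hv']; exact mul_ne_zero hv (hfac _)
  have hRdeg : (C u⁻¹ * P - C v⁻¹ * Q).natDegree ≤ e + 1 := by
    rw [Polynomial.natDegree_le_iff_coeff_eq_zero]
    intro N hN
    rw [Polynomial.coeff_sub, Polynomial.coeff_C_mul, Polynomial.coeff_C_mul]
    rcases lt_trichotomy N (e + 2 + j) with h | h | h
    · have h3 := hj (e + 1 + j - N) (by omega)
      have h4 : e + 1 + j - (e + 1 + j - N) = N := by omega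
      rw [h4, div_eq_mul_inv, div_eq_mul_inv] at h3
      have h5 : (u⁻¹ * P.coeff N - v⁻¹ * Q.coeff N) * (N.factorial : ℚ) = 0 := by
        linear_combination h3
      exact (mul_eq_zero.1 h5).resolve_right (hfac N)
    · subst h
      rw [← hu', ← hv']
      field_simp
      ring
    · rw [Polynomial.coeff_eq_zero_of_natDegree_lt (lt_of_le_of_lt hP h),
        Polynomial.coeff_eq_zero_of_natDegree_lt (lt_of_le_of_lt hQ h)]
      ring
  have hcomp : (C u⁻¹ * P - C v⁻¹ * Q) - (C u⁻¹ * P - C v⁻¹ * Q).comp (X - C a) =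
      C u⁻¹ * (P - P.comp (X - C a)) - C v⁻¹ * (Q - Q.comp (X - C a)) := by
    rw [Polynomial.sub_comp, Polynomial.C_mul_comp, Polynomial.C_mul_comp]
    ring
  have key := coeff_delta a _ e hRdeg
  rw [hcomp] at key
  simp only [Polynomial.coeff_sub, Polynomial.coeff_C_mul] at key ⊢
  have haa : a * a⁻¹ = 1 := mul_inv_cancel₀ ha
  rw [Nat.factorial_succ, div_eq_mul_inv, div_eq_mul_inv, div_eq_mul_inv, div_eq_mul_inv,
    mul_inv, mul_inv]
  push_cast
  linear_combination ((e.factorial : ℚ) * a⁻¹) * key +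
    (((e : ℚ) + 1) * (e.factorial : ℚ) * (u⁻¹ * P.coeff (e + 1) - v⁻¹ * Q.coeff (e + 1))) * haa

open Polynomial in
/-- Let d and ℓ be natural numbers with ℓ + 1 ≤ d, let a be a nonzero rational number and let P, Q be
polynomials with rational coefficients, both of degree exactly d. For a polynomial R of degree e
write R(m) = Σ_i α_i(R) m^i / i! (so α_i(R) = i! · coeff_i(R)) and let r_ℓ(R) ∈ ℚ^ℓ be the vector
(α_{e−1}(R)/α_e(R), …, α_{e−ℓ}(R)/α_e(R)) of the ℓ coefficients after the leading one of the reduced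
polynomial R/α_e(R), ordered lexicographically. The polynomials P(m) − P(m − a) and Q(m) − Q(m − a)
have degree d − 1, and r_ℓ(P) ≤ r_ℓ(Q) lexicographically if and only if r_ℓ(P(m) − P(m − a)) ≤
r_ℓ(Q(m) − Q(m − a)) lexicographically (hence the same with strict inequalities, by exchanging P and
Q). When P and Q are the Hilbert polynomials of pure d-dimensional coherent sheaves E → F on a
polarized projective scheme and D is a hypersurface section of degree a containing no associated
point of E or F, the Hilbert polynomials of E|_D and F|_D are P(m) − P(m − a) and Q(m) − Q(m − a),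
and the two sides are the comparisons of the ℓ-truncated reduced Hilbert polynomials p_ℓ(E) ≥ p_ℓ(F)
and p_ℓ(E|_D) ≥ p_ℓ(F|_D). (The published statement is phrased for the sheaves; this row is the
statement about their Hilbert polynomials that the displayed coefficient formula yields.) -/
theorem result (d ℓ : ℕ) (hℓ : ℓ + 1 ≤ d) (a : ℚ) (ha : a ≠ 0)
    (P Q : ℚ[X]) (hP : P.natDegree = d) (hQ : Q.natDegree = d) (hP0 : P ≠ 0) (hQ0 : Q ≠ 0) :
    toLex (fun j : Fin ℓ => ((P).coeff (d - 1 - (j : ℕ)) * (Nat.factorial (d - 1 - (j : ℕ)) : ℚ)) / ((P).coeff (d) * (Nat.factorial (d) : ℚ))) ≤ toLex (fun j : Fin ℓ => ((Q).coeff (d - 1 - (j : ℕ)) * (Nat.factorial (d - 1 - (j : ℕ)) : ℚ)) / ((Q).coeff (d) * (Nat.factorial (d) : ℚ))) ↔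
      toLex (fun j : Fin ℓ => ((P - P.comp (X - C a)).coeff ((d - 1) - 1 - (j : ℕ)) * (Nat.factorial ((d - 1) - 1 - (j : ℕ)) : ℚ)) / ((P - P.comp (X - C a)).coeff ((d - 1)) * (Nat.factorial ((d - 1)) : ℚ))) ≤
        toLex (fun j : Fin ℓ => ((Q - Q.comp (X - C a)).coeff ((d - 1) - 1 - (j : ℕ)) * (Nat.factorial ((d - 1) - 1 - (j : ℕ)) : ℚ)) / ((Q - Q.comp (X - C a)).coeff ((d - 1)) * (Nat.factorial ((d - 1)) : ℚ))) := by
  classical
  have hPd : P.coeff d ≠ 0 := by
    rw [← hP]; exact Polynomial.leadingCoeff_ne_zero.2 hP0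
  have hQd : Q.coeff d ≠ 0 := by
    rw [← hQ]; exact Polynomial.leadingCoeff_ne_zero.2 hQ0
  apply lex_iff
  intro j hj
  have hjl : (j : ℕ) < ℓ := j.2
  obtain ⟨e, he⟩ : ∃ e, d = e + 2 + (j : ℕ) := ⟨d - 2 - j, by omega⟩
  subst he
  have e1 : e + 2 + (j : ℕ) - 1 - 1 - (j : ℕ) = e := by omega
  have e2 : e + 2 + (j : ℕ) - 1 - (j : ℕ) = e + 1 := by omega
  have e3 : e + 2 + (j : ℕ) - 1 = e + 1 + (j : ℕ) := by omega
  show _ * _ / _ - _ * _ / _ = _ * _ / _ - _ * _ / _
  rw [e1, e2, e3]
  refine keyH' a ha P Q e j hP.le hQ.le hPd hQd ?_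
  intro i hi
  have h1 := hj ⟨i, by omega⟩ (by rw [Fin.lt_def]; exact hi)
  have e4 : e + 2 + (j : ℕ) - 1 - i = e + 1 + (j : ℕ) - i := by omega
  simp only [e4] at h1
  exact h1

end Groth.Agent.S14997
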