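import Groth.Statements.S15004
-- import your own Groth.Agent.* helpers here
import Mathlib

set_option autoImplicit false
universe u v
open Harb

namespace Groth.Agent.S15004

/-- Let C be a finite family of d curves, recorded as an incidence relation between a type of points and
a finite index type, such that any two distinct curves of the family meet in exactly h points; for a
point p write r_p for the number of curves of the family through p. Then for every curve C_i of the
family, Σ_{p ∈ C_i} (r_p − 1) = h (d − 1), the sum being finitely supported. (The published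
statement is for a transversal arrangement of curves on a geometrically ruled surface with invariant
e, all numerically equivalent to a C₀ + b f, where any two of the curves meet transversally in h =
2ab − a²e points; only this common pairwise intersection count enters the proof, and this row states
the identity for an abstract incidence relation.) -/
theorem result (P : Type u) (ι : Type v) [Fintype ι]
    (inc : P → ι → Prop) (h : ℕ)
    (hfin : ∀ i j : ι, i ≠ j → {p : P | inc p i ∧ inc p j}.Finite)
    (hcount : ∀ i j : ι, i ≠ j → {p : P | inc p i ∧ inc p j}.ncard = h) (i : ι) :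
    ∑ᶠ p ∈ {p : P | inc p i}, (Nat.card {j : ι // inc p j} - 1) = h * (Fintype.card ι - 1) := by
  classical
  let T : Finset P :=
    Finset.univ.biUnion (fun j : {j : ι // i ≠ j} => (hfin i j.1 j.2).toFinset)
  have hT : ∀ p, p ∈ T ↔ inc p i ∧ ∃ j, i ≠ j ∧ inc p j := by
    intro p
    simp only [T, Finset.mem_biUnion, Finset.mem_univ, true_and, Set.Finite.mem_toFinset,
      Set.mem_setOf_eq, Subtype.exists]
    constructor
    · rintro ⟨j, hj, h1, h2⟩; exact ⟨h1, j, hj, h2⟩
    · rintro ⟨h1, j, hj, h2⟩; exact ⟨j, hj, h1, h2⟩
  have hr : ∀ p, inc p i → Nat.card {j : ι // inc p j} - 1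
      = ∑ j ∈ Finset.univ.erase i, (if inc p j then 1 else 0) := by
    intro p hp
    rw [Nat.card_eq_fintype_card, Fintype.card_subtype, Finset.card_filter,
      ← Finset.add_sum_erase _ _ (Finset.mem_univ i), if_pos hp, Nat.add_sub_cancel_left]
  have h₁ : {p : P | inc p i} ∩ Function.support (fun p => Nat.card {j : ι // inc p j} - 1)
      ⊆ ↑T := by
    rintro p ⟨hp, hsupp⟩
    rw [Function.mem_support] at hsupp
    rw [Finset.mem_coe, hT]
    refine ⟨hp, ?_⟩
    have hp' : inc p i := hp
    rw [hr p hp'] at hsupp
    obtain ⟨j, hj, hne⟩ := Finset.exists_ne_zero_of_sum_ne_zero hsupp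
    refine ⟨j, (Finset.ne_of_mem_erase hj).symm, ?_⟩
    by_contra hcon
    exact hne (if_neg hcon)
  have h₂ : (↑T : Set P) ⊆ {p : P | inc p i} := by
    intro p hp
    exact ((hT p).mp (Finset.mem_coe.mp hp)).1
  rw [finsum_mem_eq_sum_of_subset _ h₁ h₂,
    Finset.sum_congr rfl (fun p hp => hr p ((hT p).mp hp).1), Finset.sum_comm]
  have hinner : ∀ j ∈ Finset.univ.erase i, ∑ p ∈ T, (if inc p j then 1 else 0) = h := by
    intro j hj
    have hne : i ≠ j := (Finset.ne_of_mem_erase hj).symm
    rw [← Finset.card_filter, ← hcount i j hne, Set.ncard_eq_toFinset_card _ (hfin i j hne)]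
    congr 1
    ext p
    simp only [Finset.mem_filter, hT, Set.Finite.mem_toFinset, Set.mem_setOf_eq]
    constructor
    · rintro ⟨⟨h1, _⟩, h2⟩; exact ⟨h1, h2⟩
    · rintro ⟨h1, h2⟩; exact ⟨⟨h1, j, hne, h2⟩, h2⟩
  rw [Finset.sum_congr rfl hinner, Finset.sum_const, Finset.card_erase_of_mem (Finset.mem_univ i),
    Finset.card_univ, smul_eq_mul, mul_comm]

end Groth.Agent.S15004
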