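import Groth.Statements.S15005
-- import your own Groth.Agent.* helpers here
import Mathlib

set_option autoImplicit false
universe u v
open Harb

namespace Groth.Agent.S15005

/-- Let C be a finite family of d curves, recorded as an incidence relation between a type of points and
a finite index type, such that any two distinct curves of the family meet in exactly h points; let
t_k be the number of k-fold points (points lying on exactly k curves of the family). Then f₂ − f₁ =
Σ_{k ≥ 2} k(k − 1) t_k equals h d(d − 1), where f_i = Σ_{k ≥ 2} k^i t_k. (The published statement is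
for a transversal arrangement of curves on a geometrically ruled surface with invariant e, all
numerically equivalent to a C₀ + b f, where any two of the curves meet transversally in h = 2ab −
a²e points; only this common pairwise intersection count enters the proof, and this row states the
identity for an abstract incidence relation.) -/
theorem result (P : Type u) (ι : Type v) [Fintype ι]
    (inc : P → ι → Prop) (h : ℕ)
    (hfin : ∀ i j : ι, i ≠ j → {p : P | inc p i ∧ inc p j}.Finite)
    (hcount : ∀ i j : ι, i ≠ j → {p : P | inc p i ∧ inc p j}.ncard = h) :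
    ∑ k ∈ Finset.Icc 2 (Fintype.card ι), k * (k - 1) * Nat.card {p : P // Nat.card {j : ι // inc p j} = k} =
      h * (Fintype.card ι * (Fintype.card ι - 1)) := by
  classical
  obtain ⟨r, hrdef⟩ : ∃ r : P → ℕ, ∀ p, r p = (Finset.univ.filter (fun j => inc p j)).card :=
    ⟨_, fun _ => rfl⟩
  have hr : ∀ p, Nat.card {j : ι // inc p j} = r p := by
    intro p; rw [hrdef, Nat.card_eq_fintype_card, Fintype.card_subtype]
  simp only [hr]
  set d := Fintype.card ι with hd
  let T : Finset P := Finset.univ.biUnion
    (fun x : {x : ι × ι // x.1 ≠ x.2} => (hfin x.1.1 x.1.2 x.2).toFinset)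
  have hT : ∀ p, p ∈ T ↔ ∃ i j, i ≠ j ∧ inc p i ∧ inc p j := by
    intro p
    simp only [T, Finset.mem_biUnion, Finset.mem_univ, true_and, Set.Finite.mem_toFinset,
      Set.mem_ofPred_eq, Subtype.exists, Prod.exists]
    constructor
    · rintro ⟨i, j, hij, h1, h2⟩; exact ⟨i, j, hij, h1, h2⟩
    · rintro ⟨i, j, hij, h1, h2⟩; exact ⟨i, j, hij, h1, h2⟩
  have hT2 : ∀ p, p ∈ T ↔ 2 ≤ r p := by
    intro p
    rw [hT, hrdef]
    show _ ↔ 1 < (Finset.univ.filter (fun j => inc p j)).card
    rw [Finset.one_lt_card]
    simp only [Finset.mem_filter, Finset.mem_univ, true_and]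
    constructor
    · rintro ⟨i, j, hij, h1, h2⟩; exact ⟨i, h1, j, h2, hij⟩
    · rintro ⟨i, h1, j, h2, hij⟩; exact ⟨i, j, hij, h1, h2⟩
  have hrle : ∀ p, r p ≤ d := fun p => by
    rw [hrdef, hd, ← Finset.card_univ]; exact Finset.card_le_card (Finset.filter_subset _ _)
  have ha : ∀ k ∈ Finset.Icc 2 d,
      Nat.card {p : P // r p = k} = (T.filter (fun p => r p = k)).card := by
    intro k hk
    have hk2 : 2 ≤ k := (Finset.mem_Icc.mp hk).1
    rw [← Fintype.card_coe, ← Nat.card_eq_fintype_card]
    apply Nat.card_congr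
    apply Equiv.subtypeEquivRight
    intro p
    rw [Finset.mem_filter, hT2]
    constructor
    · intro h1; exact ⟨by rw [h1]; exact hk2, h1⟩
    · exact fun h1 => h1.2
  rw [Finset.sum_congr rfl (fun k hk => by rw [ha k hk])]
  have hb : ∑ k ∈ Finset.Icc 2 d, k * (k - 1) * (T.filter (fun p => r p = k)).card
      = ∑ p ∈ T, r p * (r p - 1) := by
    rw [← Finset.sum_fiberwise_of_maps_to (s := T) (t := Finset.Icc 2 d) (g := r)
      (f := fun p => r p * (r p - 1))]
    · refine Finset.sum_congr rfl (fun k _ => ?_)
      have h1 : ∀ p ∈ T.filter (fun p => r p = k), r p * (r p - 1) = k * (k - 1) :=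
        fun p hp => by rw [(Finset.mem_filter.mp hp).2]
      rw [Finset.sum_congr rfl h1, Finset.sum_const, smul_eq_mul, mul_comm]
    · intro p hp
      exact Finset.mem_Icc.mpr ⟨(hT2 p).mp hp, hrle p⟩
  have hc : ∀ p, r p * (r p - 1) = ∑ x ∈ (Finset.univ : Finset ι).offDiag,
      (if inc p x.1 ∧ inc p x.2 then 1 else 0) := by
    intro p
    rw [← Finset.card_filter, Nat.mul_sub_one, hrdef, ← Finset.offDiag_card]
    congr 1
    ext x
    simp only [Finset.mem_offDiag, Finset.mem_filter, Finset.mem_univ, true_and]
    tauto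
  rw [hb, Finset.sum_congr rfl (fun p _ => hc p), Finset.sum_comm]
  have hinner : ∀ x ∈ (Finset.univ : Finset ι).offDiag,
      ∑ p ∈ T, (if inc p x.1 ∧ inc p x.2 then 1 else 0) = h := by
    intro x hx
    have hne : x.1 ≠ x.2 := (Finset.mem_offDiag.mp hx).2.2
    rw [← Finset.card_filter, ← hcount x.1 x.2 hne,
      Set.ncard_eq_toFinset_card _ (hfin x.1 x.2 hne)]
    congr 1
    ext p
    simp only [Finset.mem_filter, hT, Set.Finite.mem_toFinset, Set.mem_ofPred_eq]
    constructor
    · rintro ⟨_, h2⟩; exact h2
    · rintro ⟨h1, h2⟩; exact ⟨⟨x.1, x.2, hne, h1, h2⟩, h1, h2⟩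
  rw [Finset.sum_congr rfl hinner, Finset.sum_const, Finset.offDiag_card, Finset.card_univ,
    smul_eq_mul, Nat.mul_sub_one]
  exact mul_comm _ _

end Groth.Agent.S15005
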