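import Groth.Statements.S15006
-- import your own Groth.Agent.* helpers here
import Mathlib

set_option autoImplicit false
universe u v
open Harb

namespace Groth.Agent.S15006

/-- Let C be a finite family of d ≥ 2 curves, recorded as an incidence relation between a type of points
and a finite index type, such that any two distinct curves of the family meet in exactly h ≥ 1
points and no point lies on every curve of the family. Then f₀ ≥ d: the number of multiple points
(points lying on at least two of the curves) is at least the number of curves. (The published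
statement is for a transversal arrangement of d ≥ 4 curves on a geometrically ruled surface with
invariant e ≥ 4, all numerically equivalent to a C₀ + b f with a ≥ 1 and b ≥ ae and with no point
common to all of them, satisfying in addition either a ≥ 2, or a = 1 with some four of the curves
having no point in common, where any two of the curves meet transversally in h = 2ab − a²e ≥ 1
points; only d ≥ 2, h ≥ 1 and the absence of a common point enter the proof, and this row states the
bound for an abstract incidence relation.) -/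
theorem result (P : Type u) (ι : Type v) [Fintype ι]
    (inc : P → ι → Prop) (h : ℕ) (hh : 0 < h) (hd : 2 ≤ Fintype.card ι)
    (hfin : ∀ i j : ι, i ≠ j → {p : P | inc p i ∧ inc p j}.Finite)
    (hcount : ∀ i j : ι, i ≠ j → {p : P | inc p i ∧ inc p j}.ncard = h)
    (hnone : ∀ p : P, ∃ i : ι, ¬ inc p i) :
    Fintype.card ι ≤ Nat.card {p : P // 2 ≤ Nat.card {j : ι // inc p j}} := by
  classical
  let T : Finset P := Finset.univ.biUnion
    (fun x : {x : ι × ι // x.1 ≠ x.2} => (hfin x.1.1 x.1.2 x.2).toFinset)
  have hT : ∀ p, p ∈ T ↔ ∃ i j, i ≠ j ∧ inc p i ∧ inc p j := by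
    intro p
    simp only [T, Finset.mem_biUnion, Finset.mem_univ, true_and, Set.Finite.mem_toFinset,
      Set.mem_ofPred_eq, Subtype.exists, Prod.exists]
    constructor
    · rintro ⟨i, j, hij, h1, h2⟩; exact ⟨i, j, hij, h1, h2⟩
    · rintro ⟨i, j, hij, h1, h2⟩; exact ⟨i, j, hij, h1, h2⟩
  have hM : Nat.card {p : P // 2 ≤ Nat.card {j : ι // inc p j}} = T.card := by
    rw [← Fintype.card_coe, ← Nat.card_eq_fintype_card]
    apply Nat.card_congr
    apply Equiv.subtypeEquivRight
    intro p
    rw [hT, Nat.card_eq_fintype_card, Fintype.card_subtype]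
    show 1 < _ ↔ _
    rw [Finset.one_lt_card]
    simp only [Finset.mem_filter, Finset.mem_univ, true_and]
    constructor
    · rintro ⟨i, h1, j, h2, hij⟩; exact ⟨i, j, hij, h1, h2⟩
    · rintro ⟨i, j, hij, h1, h2⟩; exact ⟨i, h1, j, h2, hij⟩
  rw [hM]
  have hN : ∀ i j, i ≠ j → ((T.filter (fun p => inc p i ∧ inc p j)).card : ℚ) = h := by
    intro i j hij
    rw [← hcount i j hij, Set.ncard_eq_toFinset_card _ (hfin i j hij)]
    congr 2
    ext p
    simp only [Finset.mem_filter, hT, Set.Finite.mem_toFinset, Set.mem_ofPred_eq]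
    constructor
    · rintro ⟨_, h2⟩; exact h2
    · rintro ⟨h1, h2⟩; exact ⟨⟨i, j, hij, h1, h2⟩, h1, h2⟩
  have hrho : ∀ i, (h : ℚ) < ((T.filter (fun p => inc p i ∧ inc p i)).card : ℚ) := by
    intro i
    obtain ⟨j, hji⟩ : ∃ j, j ≠ i := by
      by_contra hcon
      have h1 : ∀ j, j = i := fun j => by_contra (fun hj => hcon ⟨j, hj⟩)
      have h2 : Fintype.card ι ≤ 1 :=
        Fintype.card_le_one_iff.mpr (fun a b => (h1 a).trans (h1 b).symm)
      omega
    have hij : i ≠ j := hji.symm
    obtain ⟨p₀, hp₀⟩ : {p : P | inc p i ∧ inc p j}.Nonempty := by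
      rw [← Set.ncard_pos (hfin i j hij), hcount i j hij]; exact hh
    obtain ⟨i₃, hi₃⟩ := hnone p₀
    have h3i : i₃ ≠ i := fun e => hi₃ (e ▸ hp₀.1)
    obtain ⟨q, hq3, hqi, hqj⟩ : ∃ q, inc q i₃ ∧ inc q i ∧ ¬ inc q j := by
      by_contra hcon
      have hsub : {p : P | inc p i₃ ∧ inc p i} ⊆ {p : P | inc p i ∧ inc p j} \ {p₀} := by
        intro q hq
        refine ⟨⟨hq.2, ?_⟩, ?_⟩
        · by_contra hqb; exact hcon ⟨q, hq.1, hq.2, hqb⟩
        · intro hqp
          rw [Set.mem_singleton_iff] at hqp
          exact hi₃ (hqp ▸ hq.1)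
      have hfinab := hfin i j hij
      have h1 := Set.ncard_le_ncard hsub (hfinab.subset Set.sdiff_subset)
      rw [Set.ncard_sdiff_singleton_of_mem (show p₀ ∈ {p : P | inc p i ∧ inc p j} from hp₀),
        hcount i j hij, hcount i₃ i h3i] at h1
      omega
    have hsub : insert q (hfin i j hij).toFinset ⊆ T.filter (fun p => inc p i ∧ inc p i) := by
      intro p hp
      rw [Finset.mem_insert] at hp
      rw [Finset.mem_filter, hT]
      rcases hp with rfl | hp
      · exact ⟨⟨i₃, i, h3i, hq3, hqi⟩, hqi, hqi⟩
      · have h1 := (Set.Finite.mem_toFinset _).mp hp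
        exact ⟨⟨i, j, hij, h1.1, h1.2⟩, h1.1, h1.1⟩
    have hcard := Finset.card_le_card hsub
    rw [Finset.card_insert_of_notMem (fun hq => hqj ((Set.Finite.mem_toFinset _).mp hq).2),
      ← Set.ncard_eq_toFinset_card _ (hfin i j hij), hcount i j hij] at hcard
    exact_mod_cast Nat.lt_of_succ_le hcard
  have hli : LinearIndependent ℚ
      (fun i : ι => (fun p : T => if inc p.1 i then (1 : ℚ) else 0)) := by
    rw [Fintype.linearIndependent_iff]
    intro g hg
    have hs : ∀ p ∈ T, ∑ j, g j * (if inc p j then (1 : ℚ) else 0) = 0 := by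
      intro p hp
      have h1 := congrFun hg ⟨p, hp⟩
      simpa [Finset.sum_apply, Pi.smul_apply, smul_eq_mul] using h1
    obtain ⟨G, hG⟩ : ∃ G : ℚ, G = ∑ j, g j := ⟨_, rfl⟩
    have hE : ∀ i, (((T.filter (fun p => inc p i ∧ inc p i)).card : ℚ) - h) * g i
        = -(h * G) := by
      intro i
      have h0 : ∑ p ∈ T, (if inc p i then (1 : ℚ) else 0) *
          ∑ j, g j * (if inc p j then (1 : ℚ) else 0) = 0 :=
        Finset.sum_eq_zero (fun p hp => by rw [hs p hp, mul_zero])
      have h1 : ∑ p ∈ T, (if inc p i then (1 : ℚ) else 0) *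
            ∑ j, g j * (if inc p j then (1 : ℚ) else 0)
          = ∑ j, g j * ((T.filter (fun p => inc p i ∧ inc p j)).card : ℚ) := by
        simp_rw [Finset.mul_sum]
        rw [Finset.sum_comm]
        refine Finset.sum_congr rfl (fun j _ => ?_)
        rw [← Finset.sum_boole, Finset.mul_sum]
        refine Finset.sum_congr rfl (fun p _ => ?_)
        by_cases h1 : inc p i <;> by_cases h2 : inc p j <;> simp [h1, h2]
      rw [h1, ← Finset.add_sum_erase _ _ (Finset.mem_univ i)] at h0
      have h2' : ∀ j ∈ Finset.univ.erase i,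
          g j * ((T.filter (fun p => inc p i ∧ inc p j)).card : ℚ) = g j * h :=
        fun j hj => by rw [hN i j (Finset.ne_of_mem_erase hj).symm]
      have h2 : ∑ j ∈ Finset.univ.erase i,
          g j * ((T.filter (fun p => inc p i ∧ inc p j)).card : ℚ) = (G - g i) * h := by
        rw [Finset.sum_congr rfl h2', ← Finset.sum_mul, hG,
          ← Finset.add_sum_erase _ _ (Finset.mem_univ i), add_sub_cancel_left]
      rw [h2] at h0
      linear_combination h0
    have hc : ∀ i, (0 : ℚ) < ((T.filter (fun p => inc p i ∧ inc p i)).card : ℚ) - h :=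
      fun i => sub_pos.mpr (hrho i)
    have hgG : ∀ i, g i * G ≤ 0 := by
      intro i
      have h1 := hE i
      have h2 := hc i
      have hh' : (0 : ℚ) ≤ h := Nat.cast_nonneg h
      by_contra hcon
      have hpos := mul_pos h2 (not_le.mp hcon)
      have h3 : (((T.filter (fun p => inc p i ∧ inc p i)).card : ℚ) - h) * (g i * G)
          = -(h * (G * G)) := by
        rw [← mul_assoc, h1]; ring
      have h4 := mul_nonneg hh' (mul_self_nonneg G)
      linarith
    have hG0 : G = 0 := by
      have h1 : G * G = ∑ i, g i * G := by rw [← Finset.sum_mul, ← hG]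
      have h2 : G * G ≤ 0 := by rw [h1]; exact Finset.sum_nonpos (fun i _ => hgG i)
      have h3 := mul_self_nonneg G
      exact mul_self_eq_zero.mp (le_antisymm h2 h3)
    intro i
    have h1 := hE i
    rw [hG0, mul_zero, neg_zero] at h1
    rcases mul_eq_zero.mp h1 with h2 | h2
    · exact absurd h2 (ne_of_gt (hc i))
    · exact h2
  have hfin' := hli.fintype_card_le_finrank
  simpa using hfin'

end Groth.Agent.S15006
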