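import Groth.Statements.S15007
-- import your own Groth.Agent.* helpers here
import Mathlib

set_option autoImplicit false
universe u v
open Harb

namespace Groth.Agent.S15007

/-- Let C be a finite family of d ≥ 2 curves, recorded as an incidence relation between a type of points
and a finite index type, such that any two distinct curves of the family meet in exactly h ≥ 1
points and no point lies on every curve of the family. Then f₀ ≥ h + 2: the number of multiple
points (points lying on at least two of the curves) is at least h + 2. (The published claim reads f₀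
≥ 2ab − a²e + 2 for a transversal arrangement of d ≥ 4 curves on a geometrically ruled surface with
invariant e ≥ 4, all numerically equivalent to a C₀ + b f with a ≥ 1 and b ≥ ae and with no point
common to all of them, satisfying in addition either a ≥ 2, or a = 1 with some four of the curves
having no point in common, where any two of the curves meet transversally in h = 2ab − a²e ≥ 1
points; only d ≥ 2, h ≥ 1 and the absence of a common point enter the proof, and this row states the
bound for an abstract incidence relation.) -/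
theorem result (P : Type u) (ι : Type v) [Fintype ι]
    (inc : P → ι → Prop) (h : ℕ) (hh : 0 < h) (hd : 2 ≤ Fintype.card ι)
    (hfin : ∀ i j : ι, i ≠ j → {p : P | inc p i ∧ inc p j}.Finite)
    (hcount : ∀ i j : ι, i ≠ j → {p : P | inc p i ∧ inc p j}.ncard = h)
    (hnone : ∀ p : P, ∃ i : ι, ¬ inc p i) :
    h + 2 ≤ Nat.card {p : P // 2 ≤ Nat.card {j : ι // inc p j}} := by
  classical
  obtain ⟨i₁, i₂, h12⟩ := Fintype.exists_pair_of_one_lt_card (by omega : 1 < Fintype.card ι)
  have hX := hcount i₁ i₂ h12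
  have hXfin := hfin i₁ i₂ h12
  obtain ⟨p₀, hp₀⟩ : {p : P | inc p i₁ ∧ inc p i₂}.Nonempty := by
    rw [← Set.ncard_pos hXfin, hX]; exact hh
  obtain ⟨i₃, hi₃⟩ := hnone p₀
  have h31 : i₃ ≠ i₁ := fun e => hi₃ (e ▸ hp₀.1)
  have h32 : i₃ ≠ i₂ := fun e => hi₃ (e ▸ hp₀.2)
  have key : ∀ (a b : ι), a ≠ b → inc p₀ a → inc p₀ b → i₃ ≠ a →
      ∃ q, inc q i₃ ∧ inc q a ∧ ¬ inc q b := by
    intro a b hab hpa hpb h3a
    by_contra hcon
    have hsub : {p : P | inc p i₃ ∧ inc p a} ⊆ {p : P | inc p a ∧ inc p b} \ {p₀} := by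
      intro q hq
      refine ⟨⟨hq.2, ?_⟩, ?_⟩
      · by_contra hqb; exact hcon ⟨q, hq.1, hq.2, hqb⟩
      · intro hqp
        rw [Set.mem_singleton_iff] at hqp
        exact hi₃ (hqp ▸ hq.1)
    have hfinab := hfin a b hab
    have h1 := Set.ncard_le_ncard hsub (hfinab.subset Set.sdiff_subset)
    rw [Set.ncard_sdiff_singleton_of_mem (show p₀ ∈ {p : P | inc p a ∧ inc p b} from ⟨hpa, hpb⟩),
      hcount a b hab, hcount i₃ a h3a] at h1
    omega
  obtain ⟨q, hq3, hq1, hq2⟩ := key i₁ i₂ h12 hp₀.1 hp₀.2 h31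
  obtain ⟨q', hq'3, hq'2, hq'1⟩ := key i₂ i₁ h12.symm hp₀.2 hp₀.1 h32
  have hqq' : q ≠ q' := fun e => hq'1 (e ▸ hq1)
  have h2le : ∀ (p : P) (a b : ι), a ≠ b → inc p a → inc p b →
      2 ≤ Nat.card {j : ι // inc p j} := by
    intro p a b hab ha hb
    rw [Nat.card_eq_fintype_card, Fintype.card_subtype]
    show 1 < _
    rw [Finset.one_lt_card]
    exact ⟨a, by simp [ha], b, by simp [hb], hab⟩
  have hMfin : {p : P | 2 ≤ Nat.card {j : ι // inc p j}}.Finite := by
    let T : Finset P := Finset.univ.biUnion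
      (fun x : {x : ι × ι // x.1 ≠ x.2} => (hfin x.1.1 x.1.2 x.2).toFinset)
    apply T.finite_toSet.subset
    intro p hp
    have hp' : 2 ≤ Nat.card {j : ι // inc p j} := hp
    rw [Nat.card_eq_fintype_card, Fintype.card_subtype] at hp'
    obtain ⟨a, ha, b, hb, hab⟩ := Finset.one_lt_card.mp hp'
    simp only [Finset.mem_filter, Finset.mem_univ, true_and] at ha hb
    exact Finset.mem_coe.mpr (Finset.mem_biUnion.mpr
      ⟨⟨(a, b), hab⟩, Finset.mem_univ _, (Set.Finite.mem_toFinset _).mpr ⟨ha, hb⟩⟩)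
  show h + 2 ≤ Nat.card ↥{p : P | 2 ≤ Nat.card {j : ι // inc p j}}
  rw [Nat.card_coe_set_eq]
  have hsub : {p : P | inc p i₁ ∧ inc p i₂} ∪ {q, q'}
      ⊆ {p : P | 2 ≤ Nat.card {j : ι // inc p j}} := by
    rintro p (hp | hp)
    · exact h2le p i₁ i₂ h12 hp.1 hp.2
    · rcases hp with rfl | rfl
      · exact h2le _ i₃ i₁ h31 hq3 hq1
      · exact h2le _ i₃ i₂ h32 hq'3 hq'2
  have hdisj : Disjoint {p : P | inc p i₁ ∧ inc p i₂} ({q, q'} : Set P) := by
    rw [Set.disjoint_left]
    rintro p hp (rfl | rfl)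
    · exact hq2 hp.2
    · exact hq'1 hp.1
  calc h + 2 = ({p : P | inc p i₁ ∧ inc p i₂} ∪ {q, q'}).ncard := by
        rw [Set.ncard_union_eq hdisj hXfin (Set.toFinite _), hX, Set.ncard_pair hqq']
    _ ≤ _ := Set.ncard_le_ncard hsub hMfin

end Groth.Agent.S15007
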