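import Groth.Statements.S15010
-- import your own Groth.Agent.* helpers here
import Mathlib

set_option autoImplicit false
universe u
open TFCurv

namespace Groth.Agent.S15010

open Matrix

section
variable {O : Type u} [CommRing O] [IsDomain O] {K : Type u} [Field K] [Algebra O K]
  [IsFractionRing O K] {n : ℕ}

lemma single_mem (M : Submodule O (Fin n → K))
    (hM1 : Submodule.pi Set.univ (fun _ : Fin n => (1 : Submodule O K)) ≤ M) (i : Fin n) :
    (Pi.single i (1 : K) : Fin n → K) ∈ M := by
  apply hM1
  rw [Submodule.mem_pi]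
  intro j _
  rw [Submodule.mem_one]
  by_cases h : j = i
  · subst h
    exact ⟨1, by simp⟩
  · exact ⟨0, by simp [Pi.single_apply, h]⟩

lemma key (M N : Submodule O (Fin n → K))
    (hM1 : Submodule.pi Set.univ (fun _ : Fin n => (1 : Submodule O K)) ≤ M)
    (hN2 : N ≤ Submodule.pi Set.univ
      (fun _ : Fin n => (Subalgebra.toSubmodule (integralClosure O K))))
    (ψ : M →ₗ[O] N) :
    ∃ A : Matrix (Fin n) (Fin n) (integralClosure O K), ∀ x : M,
      ((ψ x : N) : Fin n → K) =
        (A.map (algebraMap (integralClosure O K) K)).mulVec (x : Fin n → K) := by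
  classical
  have hent : ∀ i l, ((ψ ⟨Pi.single i 1, single_mem M hM1 i⟩ : N) : Fin n → K) l ∈
      integralClosure O K := by
    intro i l
    have h1 := hN2 (ψ ⟨_, single_mem M hM1 i⟩).2
    rw [Submodule.mem_pi] at h1
    exact h1 l (Set.mem_univ l)
  refine ⟨Matrix.of fun l i => ⟨_, hent i l⟩, fun x => ?_⟩
  obtain ⟨s, hs⟩ := IsLocalization.exist_integer_multiples (nonZeroDivisors O)
    (Finset.univ : Finset (Fin n)) (fun j => (x : Fin n → K) j)
  have hs' : ∀ j, ∃ r : O, algebraMap O K r = (s : O) • (x : Fin n → K) j := fun j =>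
    hs j (Finset.mem_univ j)
  choose r hr using hs'
  have hs0 : algebraMap O K (s : O) ≠ 0 :=
    IsFractionRing.to_map_ne_zero_of_mem_nonZeroDivisors s.2
  have hx : (s : O) • x = ∑ j, r j • (⟨Pi.single j 1, single_mem M hM1 j⟩ : M) := by
    apply Subtype.ext
    funext l
    rw [Submodule.coe_smul, AddSubmonoidClass.coe_finset_sum, Finset.sum_apply, Pi.smul_apply]
    simp only [Submodule.coe_smul, Pi.smul_apply, Pi.single_apply, Algebra.smul_def, mul_ite,
      mul_one, mul_zero, Finset.sum_ite_eq, Finset.mem_univ, if_true]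
    rw [hr l, Algebra.smul_def]
  have h1 := congrArg (fun y : N => (y : Fin n → K)) (congrArg ψ hx)
  simp only [map_smul, map_sum, Submodule.coe_smul, AddSubmonoidClass.coe_finset_sum] at h1
  funext l
  have h2 := congrFun h1 l
  simp only [Pi.smul_apply, Finset.sum_apply] at h2
  simp only [Algebra.smul_def] at h2
  apply mul_left_cancel₀ hs0
  rw [h2, Matrix.mulVec, dotProduct, Finset.mul_sum]
  refine Finset.sum_congr rfl fun j _ => ?_
  rw [Matrix.map_apply, Matrix.of_apply, hr j, Algebra.smul_def]
  show _ = algebraMap O K ↑s * (((ψ ⟨Pi.single j 1, single_mem M hM1 j⟩ : N) : Fin n → K) l *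
    (x : Fin n → K) j)
  ring

end

/-- Let O be a one-dimensional Noetherian local domain with algebraically closed residue field whose
integral closure O~ in its fraction field K is a finite O-module. If M and N are O-submodules of K^n
with O^n ⊆ M ⊆ O~^n and O^n ⊆ N ⊆ O~^n, then every O-linear isomorphism M → N is the restriction of
x ↦ A·x for an invertible n × n matrix A with entries in O~. -/
theorem result (O : Type u) [CommRing O] [IsDomain O] [IsNoetherianRing O] [IsLocalRing O] (hdim : ringKrullDim O = 1) [IsAlgClosed (IsLocalRing.ResidueField O)] (K : Type u) [Field K] [Algebra O K] [IsFractionRing O K] (hfin : Module.Finite O ↥(integralClosure O K)) (n : ℕ) (M N : Submodule O (Fin n → K)) (hM1 : Submodule.pi Set.univ (fun _ : Fin n => (1 : Submodule O K)) ≤ M) (hM2 : M ≤ Submodule.pi Set.univ (fun _ : Fin n => (Subalgebra.toSubmodule (integralClosure O K)))) (hN1 : Submodule.pi Set.univ (fun _ : Fin n => (1 : Submodule O K)) ≤ N) (hN2 : N ≤ Submodule.pi Set.univ (fun _ : Fin n => (Subalgebra.toSubmodule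 (integralClosure O K)))) (φ : ↥M ≃ₗ[O] ↥N) : ∃ A : Matrix (Fin n) (Fin n) ↥(integralClosure O K), IsUnit A ∧ ∀ x : ↥M, ((φ x : ↥N) : Fin n → K) = (A.map (algebraMap ↥(integralClosure O K) K)).mulVec (x : Fin n → K) := by
  classical
  obtain ⟨A, hA⟩ := key M N hM1 hN2 (φ : ↥M →ₗ[O] ↥N)
  obtain ⟨A', hA'⟩ := key N M hN1 hM2 (φ.symm : ↥N →ₗ[O] ↥M)
  refine ⟨A, ?_, hA⟩
  have hmul : A * A' = 1 := by
    have hinj : Function.Injective (algebraMap (↥(integralClosure O K)) K) :=
      Subtype.val_injective
    apply Matrix.map_injective hinj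
    show (A * A').map (algebraMap (↥(integralClosure O K)) K) =
      (1 : Matrix (Fin n) (Fin n) ↥(integralClosure O K)).map (algebraMap (↥(integralClosure O K)) K)
    rw [Matrix.map_mul, Matrix.map_one _ (map_zero _) (map_one _)]
    ext l i
    have h1 := hA (φ.symm ⟨Pi.single i 1, single_mem N hN1 i⟩)
    have h3 := hA' ⟨Pi.single i 1, single_mem N hN1 i⟩
    rw [LinearEquiv.coe_coe] at h1 h3
    rw [h3, φ.apply_symm_apply, Matrix.mulVec_mulVec] at h1
    have h2 := congrFun h1 l
    simp only [Matrix.mulVec, dotProduct, Pi.single_apply, mul_ite, mul_one, mul_zero,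
      Finset.sum_ite_eq', Finset.mem_univ, if_true] at h2
    rw [Matrix.one_apply, ← h2]
  exact ⟨⟨A, A', hmul, mul_eq_one_comm.1 hmul⟩, rfl⟩

end Groth.Agent.S15010
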