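import Groth.Statements.S15013
-- import your own Groth.Agent.* helpers here
import Mathlib

set_option autoImplicit false
universe u
open CategoryTheory
open TFCurv

namespace Groth.Agent.S15013

section
open CategoryTheory CategoryTheory.Limits

lemma exists_embed (O : Type u) [CommRing O] [IsDomain O] (K : Type u) [Field K] [Algebra O K]
    [IsFractionRing O K] (M : Type u) [AddCommGroup M] [Module O M] [Module.Finite O M]
    [NoZeroSMulDivisors O M] :
    ∃ (r : ℕ) (φ : M →ₗ[O] (Fin r → O)), Function.Injective φ := by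
  classical
  let V := TensorProduct O K M
  let r := Module.finrank K V
  let b : Module.Basis (Fin r) K V := Module.finBasis K V
  let j : M →ₗ[O] V := TensorProduct.mk O K M 1
  have hjloc : IsLocalizedModule (nonZeroDivisors O) j :=
    (isLocalizedModule_iff_isBaseChange (nonZeroDivisors O) K j).mpr
      (TensorProduct.isBaseChange O M K)
  have hj : Function.Injective j := by
    rw [injective_iff_map_eq_zero]
    intro m hm
    obtain ⟨s, hs⟩ := (IsLocalizedModule.eq_zero_iff (nonZeroDivisors O) j).mp hm
    have : (s : O) • m = 0 := hs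
    rcases smul_eq_zero.mp this with h | h
    · exact absurd h (nonZeroDivisors.coe_ne_zero s)
    · exact h
  let ψ₀ : M →ₗ[O] (Fin r → K) :=
    ((b.equivFun).restrictScalars O).toLinearMap ∘ₗ j
  have hψ₀ : Function.Injective ψ₀ := ((b.equivFun).restrictScalars O).injective.comp hj
  obtain ⟨s, hs⟩ := (Module.Finite.fg_top : (⊤ : Submodule O M).FG)
  obtain ⟨d, hd⟩ := IsLocalization.exist_integer_multiples_of_finite (nonZeroDivisors O)
    (fun p : {x // x ∈ s} × Fin r => ψ₀ p.1.1 p.2)
  let ι : (Fin r → O) →ₗ[O] (Fin r → K) := (Algebra.linearMap O K).compLeft (Fin r)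
  have hι : Function.Injective ι := by
    intro v w h
    funext i
    exact IsFractionRing.injective O K (congrFun h i)
  let ψ : M →ₗ[O] (Fin r → K) := (d : O) • ψ₀
  have hψ : Function.Injective ψ := by
    rw [injective_iff_map_eq_zero]
    intro m hm
    have h1 : ψ₀ ((d : O) • m) = 0 := by rw [map_smul]; exact hm
    have h2 := hψ₀ (h1.trans (map_zero ψ₀).symm)
    rcases smul_eq_zero.mp h2 with h | h
    · exact absurd h (nonZeroDivisors.coe_ne_zero d)
    · exact h
  have hmem : ∀ m, ψ m ∈ LinearMap.range ι := by
    have : (⊤ : Submodule O M) ≤ (LinearMap.range ι).comap ψ := by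
      rw [← hs]
      refine Submodule.span_le.mpr (fun x hx => ?_)
      have hx' : ∀ i, ∃ a : O, algebraMap O K a = (d : O) • ψ₀ x i := fun i => hd ⟨⟨x, hx⟩, i⟩
      choose v hv using hx'
      exact ⟨v, funext fun i => (hv i)⟩
    exact fun m => this Submodule.mem_top
  refine ⟨r, ((LinearEquiv.ofInjective ι hι).symm.toLinearMap) ∘ₗ (ψ.codRestrict _ hmem), ?_⟩
  exact (LinearEquiv.ofInjective ι hι).symm.injective.comp
    ((LinearMap.injective_codRestrict_iff hmem).mpr hψ)

lemma ext1_zero (O : Type u) [CommRing O] (M W : Type u) [AddCommGroup M] [Module O M]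
    [AddCommGroup W] [Module O W] (hW : HasInjectiveDimensionLT (ModuleCat.of O W) 2)
    (r : ℕ) (φ : M →ₗ[O] (Fin r → O)) (hφ : Function.Injective φ)
    (x : Abelian.Ext (ModuleCat.of O M) (ModuleCat.of O W) 1) : x = 0 := by
  let f : ModuleCat.of O M ⟶ ModuleCat.of O (Fin r → O) := ModuleCat.ofHom φ
  have hf : Mono f := (ModuleCat.mono_iff_injective f).mpr hφ
  let S : ShortComplex (ModuleCat.{u} O) :=
    ShortComplex.mk f (cokernel.π f) (cokernel.condition f)
  have hS : S.ShortExact :=
    { exact := ShortComplex.exact_cokernel f, mono_f := hf, epi_g := inferInstanceAs (Epi (cokernel.π f)) }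
  obtain ⟨x₂, hx₂⟩ := Abelian.Ext.contravariant_sequence_exact₁ hS (ModuleCat.of O W) x
    (rfl : 1 + 1 = 2) (Abelian.Ext.eq_zero_of_hasInjectiveDimensionLT _ 2 le_rfl)
  have : Projective S.X₂ := inferInstanceAs (Projective (ModuleCat.of O (Fin r → O)))
  rw [← hx₂, Abelian.Ext.eq_zero_of_projective x₂, Abelian.Ext.comp_zero]

end

/-- Let O be a one-dimensional Noetherian local domain with algebraically closed residue field whose
integral closure O~ in its fraction field K is a finite O-module, and let w be a canonical ideal of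
O, taken here as a nonzero finitely generated O-submodule of K whose injective dimension as an
O-module is at most one. Then Ext^i_O(M, w) vanishes for all i ≥ 1 and every finitely generated
torsion-free O-module M. -/
theorem result (O : Type u) [CommRing O] [IsDomain O] [IsNoetherianRing O] [IsLocalRing O] (hdim : ringKrullDim O = 1) [IsAlgClosed (IsLocalRing.ResidueField O)] (K : Type u) [Field K] [Algebra O K] [IsFractionRing O K] (hfin : Module.Finite O ↥(integralClosure O K)) (ω : Submodule O K) (hω0 : ω ≠ ⊥) (hωfg : ω.FG) (hωinj : HasInjectiveDimensionLT (ModuleCat.of O ↥ω) 2) (M : Type u) [AddCommGroup M] [Module O M] [Module.Finite O M] [NoZeroSMulDivisors O M] (i : ℕ) (hi : 1 ≤ i) : Subsingleton (Abelian.Ext (ModuleCat.of O M) (ModuleCat.of O ↥ω) i) := by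
  obtain ⟨r, φ, hφ⟩ := exists_embed O K M
  rcases Nat.lt_or_ge i 2 with h | h
  · have hi1 : i = 1 := by omega
    subst hi1
    refine ⟨fun x y => ?_⟩
    rw [ext1_zero O M ω hωinj r φ hφ x, ext1_zero O M ω hωinj r φ hφ y]
  · exact HasInjectiveDimensionLT.subsingleton (ModuleCat.of O ω) 2 i h _

end Groth.Agent.S15013
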