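import Groth.Statements.S15015
-- import your own Groth.Agent.* helpers here
import Mathlib
import Groth.Agent.Lib.helper7.TFCurv

set_option autoImplicit false
universe u
open TFCurv

namespace Groth.Agent.S15015

/-- Let k be an algebraically closed field and A ≠ k[[t]] a k-subalgebra of k[[t]] that is closed in the
t-adic topology, over which k[[t]] is a finite module, and such that every power series is carried
into A by multiplication with some nonzero element of A (so k[[t]] lies in the fraction field of A
and is its normalisation, as for the complete local ring of a unibranch curve singularity), and let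
Γ ⊆ ℕ be the set of t-orders of the nonzero elements of A (its value semigroup). Then ℕ ∖ Γ is
finite and the k-dimension of k[[t]]/A equals the number of gaps of Γ. -/
theorem result (k : Type u) [Field k] [IsAlgClosed k] (A : Subalgebra k (PowerSeries k)) (hA : Module.Finite ↥A (PowerSeries k)) (hcl : ∀ f : PowerSeries k, (∀ n : ℕ, ∃ g ∈ A, (n : ℕ∞) ≤ PowerSeries.order (f - g)) → f ∈ A) (hsing : A ≠ ⊤) (hbir : ∀ f : PowerSeries k, ∃ a ∈ A, a ≠ 0 ∧ a * f ∈ A) (Γ : Set ℕ) (hΓ : ∀ n : ℕ, n ∈ Γ ↔ ∃ f ∈ A, PowerSeries.order f = n) : Γᶜ.Finite ∧ Module.finrank k (PowerSeries k ⧸ Subalgebra.toSubmodule A) = Γᶜ.ncard := by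
  classical
  obtain ⟨a, haA, ha0, hcond⟩ : ∃ a ∈ A, a ≠ 0 ∧ ∀ f : PowerSeries k, a * f ∈ A := by
    obtain ⟨s, hs⟩ := Module.finite_def.mp hA
    choose d hdA hd0 hdf using hbir
    refine ⟨∏ g ∈ s, d g, Subalgebra.prod_mem A (fun g _ => hdA g),
      Finset.prod_ne_zero_iff.mpr (fun g _ => hd0 g), ?_⟩
    intro f
    have hf : f ∈ Submodule.span ↥A (s : Set (PowerSeries k)) := by
      rw [hs]
      trivial
    induction hf using Submodule.span_induction with
    | mem g hg =>
      rw [← Finset.mul_prod_erase s d hg, mul_comm (d g), mul_assoc]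
      exact A.mul_mem (Subalgebra.prod_mem A (fun g' _ => hdA g')) (hdf g)
    | zero =>
      rw [mul_zero]
      exact A.zero_mem
    | add x y _ _ hx hy =>
      rw [mul_add]
      exact A.add_mem hx hy
    | smul r x _ hx =>
      have e : (∏ g ∈ s, d g) * (r • x) = (r : PowerSeries k) * ((∏ g ∈ s, d g) * x) := by
        rw [Subalgebra.smul_def, smul_eq_mul]
        ring
      rw [e]
      exact A.mul_mem r.2 hx
  have hN : PowerSeries.order a = ((PowerSeries.order a).toNat : ℕ∞) :=
    (PowerSeries.coe_toNat_order ha0).symm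
  set N : ℕ := (PowerSeries.order a).toNat with hNdef
  have hΓN : ∀ n : ℕ, N ≤ n → ∃ f ∈ A, PowerSeries.order f = n := by
    intro n hn
    refine ⟨a * PowerSeries.X ^ (n - N), hcond _, ?_⟩
    rw [PowerSeries.order_mul, PowerSeries.order_X_pow, hN, ← Nat.cast_add]
    congr 1
    omega
  have hfin : Γᶜ.Finite := by
    apply (Set.finite_lt_nat N).subset
    intro n hn
    by_contra hlt
    exact hn ((hΓ n).mpr (hΓN n (Nat.le_of_not_lt hlt)))
  have : Fintype ↥Γᶜ := hfin.fintype
  have hli : LinearIndependent k (fun g : ↥Γᶜ => (PowerSeries.X : PowerSeries k) ^ (g : ℕ)) := by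
    rw [Fintype.linearIndependent_iff]
    intro cf hcf g
    have h1 := congrArg (PowerSeries.coeff (g : ℕ)) hcf
    rw [map_sum, map_zero] at h1
    simp only [map_smul, PowerSeries.coeff_X_pow, smul_eq_mul] at h1
    rw [Finset.sum_eq_single g] at h1
    · simpa using h1
    · intro g' _ hne
      rw [if_neg, mul_zero]
      intro h
      exact hne (Subtype.ext h.symm)
    · intro h
      exact absurd (Finset.mem_univ g) h
  set V : Submodule k (PowerSeries k) :=
    Submodule.span k (Set.range (fun g : ↥Γᶜ => (PowerSeries.X : PowerSeries k) ^ (g : ℕ)))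
    with hV
  have hVsupp : ∀ v ∈ V, ∀ n : ℕ, PowerSeries.coeff n v ≠ 0 → n ∉ Γ := by
    intro v hv
    induction hv using Submodule.span_induction with
    | mem x hx =>
      obtain ⟨g, rfl⟩ := hx
      intro n hn
      simp only [PowerSeries.coeff_X_pow] at hn
      by_cases h : n = g
      · rw [h]
        exact g.2
      · rw [if_neg h] at hn
        exact absurd rfl hn
    | zero =>
      intro n hn
      simp at hn
    | add x y _ _ hx hy =>
      intro n hn
      by_cases h : PowerSeries.coeff n x = 0
      · apply hy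
        intro h'
        apply hn
        rw [map_add, h, h', add_zero]
      · exact hx n h
    | smul r x _ hx =>
      intro n hn
      apply hx
      intro h'
      apply hn
      rw [map_smul, h', smul_zero]
  have hdisj : Disjoint (Subalgebra.toSubmodule A) V := by
    rw [Submodule.disjoint_def]
    intro v hvA hvV
    by_contra hv0
    have h1 := PowerSeries.coeff_order hv0
    have h2 := hVsupp v hvV _ h1
    apply h2
    rw [hΓ]
    exact ⟨v, hvA, (PowerSeries.coe_toNat_order hv0).symm⟩
  have hred : ∀ n : ℕ, ∀ f : PowerSeries k, ∃ v ∈ V, ∃ b ∈ A,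
      ∀ i < n, PowerSeries.coeff i (f - v - b) = 0 := by
    intro n f
    induction n with
    | zero =>
      exact ⟨0, V.zero_mem, 0, A.zero_mem, fun i hi => absurd hi (Nat.not_lt_zero i)⟩
    | succ n ih =>
      obtain ⟨v, hv, b, hb, hvb⟩ := ih
      by_cases hn : n ∈ Γ
      · obtain ⟨e, heA, he⟩ := (hΓ n).mp hn
        obtain ⟨he1, he2⟩ := PowerSeries.order_eq_nat.mp he
        refine ⟨v, hv, b + (PowerSeries.coeff n (f - v - b) / PowerSeries.coeff n e) • e,
          A.add_mem hb (A.smul_mem heA _), fun i hi => ?_⟩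
        have e' : f - v - (b + (PowerSeries.coeff n (f - v - b) / PowerSeries.coeff n e) • e) =
            (f - v - b) - (PowerSeries.coeff n (f - v - b) / PowerSeries.coeff n e) • e := by
          abel
        rw [e', map_sub, map_smul, smul_eq_mul]
        rcases Nat.lt_succ_iff_lt_or_eq.mp hi with h1 | h1
        · rw [hvb i h1, he2 i h1, mul_zero, sub_zero]
        · rw [h1, div_mul_cancel₀ _ he1, sub_self]
      · refine ⟨v + PowerSeries.coeff n (f - v - b) • PowerSeries.X ^ n,
          V.add_mem hv (V.smul_mem _ (Submodule.subset_span ⟨⟨n, hn⟩, rfl⟩)), b, hb,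
          fun i hi => ?_⟩
        have e' : f - (v + PowerSeries.coeff n (f - v - b) • PowerSeries.X ^ n) - b =
            (f - v - b) - PowerSeries.coeff n (f - v - b) • PowerSeries.X ^ n := by
          abel
        rw [e', map_sub, map_smul, smul_eq_mul, PowerSeries.coeff_X_pow]
        rcases Nat.lt_succ_iff_lt_or_eq.mp hi with h1 | h1
        · rw [hvb i h1, if_neg (Nat.ne_of_lt h1), mul_zero, sub_zero]
        · rw [h1, if_pos rfl, mul_one, sub_self]
  have hcodisj : Codisjoint (Subalgebra.toSubmodule A) V := by
    rw [codisjoint_iff, eq_top_iff]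
    intro f _
    obtain ⟨v, hv, b, hb, hvb⟩ := hred N f
    have h3 : f - v - b ∈ A :=
      Groth.Agent.Lib.helper7.tfcurv_mem_of_order_ge A hcl N hΓN (f - v - b)
        (PowerSeries.nat_le_order _ N hvb)
    have e : f = (b + (f - v - b)) + v := by abel
    rw [e]
    exact Submodule.add_mem_sup (show b + (f - v - b) ∈ Subalgebra.toSubmodule A from A.add_mem hb h3) hv
  have hcompl : IsCompl (Subalgebra.toSubmodule A) V := ⟨hdisj, hcodisj⟩
  refine ⟨hfin, ?_⟩
  rw [(Submodule.quotientEquivOfIsCompl _ _ hcompl).finrank_eq, hV, finrank_span_eq_card hli,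
    ← Nat.card_eq_fintype_card, Nat.card_coe_set_eq]

end Groth.Agent.S15015
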