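import Groth.Statements.S15016
-- import your own Groth.Agent.* helpers here
import Mathlib
import Groth.Agent.Lib.helper7.TFCurv

set_option autoImplicit false
universe u
open TFCurv

namespace Groth.Agent.S15016

/-- Let k be an algebraically closed field and A ≠ k[[t]] a k-subalgebra of k[[t]] that is closed in the
t-adic topology and over which k[[t]] is a finite module (as for the complete local ring of a
unibranch curve singularity inside its normalisation), and let Γ ⊆ ℕ be the set of t-orders of the
nonzero elements of A (its value semigroup); let c be the conductor of Γ, so that every n ≥ c lies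
in Γ and c − 1 does not. Then for a power series f, f · k[[t]] ⊆ A holds exactly when the order of f
is at least c: the conductor of A in k[[t]] is t^c · k[[t]], of codimension c. -/
theorem result (k : Type u) [Field k] [IsAlgClosed k] (A : Subalgebra k (PowerSeries k)) (hA : Module.Finite ↥A (PowerSeries k)) (hcl : ∀ f : PowerSeries k, (∀ n : ℕ, ∃ g ∈ A, (n : ℕ∞) ≤ PowerSeries.order (f - g)) → f ∈ A) (hsing : A ≠ ⊤) (Γ : Set ℕ) (hΓ : ∀ n : ℕ, n ∈ Γ ↔ ∃ f ∈ A, PowerSeries.order f = n) (c : ℕ) (hc : ∀ n : ℕ, c ≤ n → n ∈ Γ) (hc0 : c ≠ 0) (hc1 : c - 1 ∉ Γ) (f : PowerSeries k) : (∀ g : PowerSeries k, g * f ∈ A) ↔ (c : ℕ∞) ≤ PowerSeries.order f := by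
  have hc' : ∀ n : ℕ, c ≤ n → ∃ f ∈ A, PowerSeries.order f = n :=
    fun n hn => (hΓ n).mp (hc n hn)
  constructor
  · intro hall
    by_contra hlt
    have hlt' : PowerSeries.order f < c := lt_of_not_ge hlt
    have hne : PowerSeries.order f ≠ ⊤ := ne_top_of_lt hlt'
    obtain ⟨m, hm⟩ := ENat.ne_top_iff_exists.mp hne
    rw [← hm] at hlt'
    have hmc : m < c := Nat.cast_lt.mp hlt'
    apply hc1
    rw [hΓ]
    refine ⟨PowerSeries.X ^ (c - 1 - m) * f, hall _, ?_⟩
    rw [PowerSeries.order_mul, PowerSeries.order_X_pow, ← hm, ← Nat.cast_add]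
    congr 1
    omega
  · intro hf g
    apply Groth.Agent.Lib.helper7.tfcurv_mem_of_order_ge A hcl c hc'
    rw [PowerSeries.order_mul]
    exact le_trans hf le_add_self

end Groth.Agent.S15016
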