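import Groth.Statements.S15017
-- import your own Groth.Agent.* helpers here
import Mathlib

set_option autoImplicit false
open TFCurv

namespace Groth.Agent.S15017

/-- Let Γ be a numerical semigroup (a submonoid of (ℕ, +) with finite complement), Γ ≠ ℕ, with conductor
c (every n ≥ c lies in Γ, c − 1 does not). If Γ is symmetric (for x < c, x is a gap exactly when c −
1 − x ∈ Γ) and has multiplicity greater than 2 (neither 1 nor 2 lies in Γ), then Γ is generated by
its elements smaller than c: every minimal generator of Γ is less than the conductor. -/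
theorem result (Γ : AddSubmonoid ℕ) (c : ℕ) (hc : ∀ n : ℕ, c ≤ n → n ∈ Γ) (hc0 : c ≠ 0) (hc1 : c - 1 ∉ Γ) (hsymm : ∀ x : ℕ, x < c → (x ∉ Γ ↔ c - 1 - x ∈ Γ)) (he : (1 : ℕ) ∉ Γ ∧ (2 : ℕ) ∉ Γ) : AddSubmonoid.closure {γ : ℕ | γ ∈ Γ ∧ γ < c} = Γ := by
  classical
  apply le_antisymm
  · rw [AddSubmonoid.closure_le]; intro γ hγ; exact hγ.1
  have hc3 : 3 ≤ c := by
    by_contra h
    have h0 : 2 ∈ Γ := hc 2 (by omega)
    exact he.2 h0
  have hex : ∃ γ, γ ∈ Γ ∧ γ ≠ 0 := ⟨c, hc c le_rfl, hc0⟩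
  set e := Nat.find hex with he_def
  have heΓ : e ∈ Γ := (Nat.find_spec hex).1
  have he0 : e ≠ 0 := (Nat.find_spec hex).2
  have hemin : ∀ γ, γ ∈ Γ → γ ≠ 0 → e ≤ γ := fun γ h1 h2 => Nat.find_min' hex ⟨h1, h2⟩
  have he3 : 3 ≤ e := by
    by_contra h
    have h12 : e = 1 ∨ e = 2 := by omega
    rcases h12 with h1 | h1
    · exact he.1 (h1 ▸ heΓ)
    · exact he.2 (h1 ▸ heΓ)
  have hec : e + 2 ≤ c := by
    have h1 : c - 1 - 1 ∈ Γ := (hsymm 1 (by omega)).1 he.1
    have := hemin _ h1 (by omega)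
    omega
  obtain ⟨t, ht1, ht2, htF⟩ : ∃ t, 1 ≤ t ∧ t ≤ 2 ∧ (c - 1) % e ≠ t := by
    by_cases h : (c - 1) % e = 1
    · exact ⟨2, by norm_num, le_rfl, by omega⟩
    · exact ⟨1, le_rfl, by norm_num, h⟩
  have htΓ : t ∉ Γ := by
    have h12 : t = 1 ∨ t = 2 := by omega
    rcases h12 with h | h
    · rw [h]; exact he.1
    · rw [h]; exact he.2
  have hexj : ∃ j, t + j * e ∈ Γ := ⟨c, hc _ (by nlinarith)⟩
  set j₀ := Nat.find hexj with hj₀_def
  have hj₀ : t + j₀ * e ∈ Γ := Nat.find_spec hexj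
  have hj₀pos : j₀ ≠ 0 := by
    intro h; rw [h] at hj₀; simp at hj₀; exact htΓ hj₀
  have hg : t + (j₀ - 1) * e ∉ Γ := Nat.find_min hexj (by omega)
  set g := t + (j₀ - 1) * e with hg_def
  have ha : t + j₀ * e = g + e := by
    have h1 : j₀ = (j₀ - 1) + 1 := by omega
    rw [hg_def]; conv_lhs => rw [h1]
    ring
  have hgF : g ≠ c - 1 := by
    intro h
    apply htF
    rw [← h, hg_def, Nat.add_mul_mod_self_right, Nat.mod_eq_of_lt (by omega)]
  have hglt : g < c := by by_contra h; exact hg (hc _ (by omega))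
  have hFg : c - 1 - g ∈ Γ := (hsymm g hglt).1 hg
  have haΓ : g + e ∈ Γ := ha ▸ hj₀
  intro n
  induction n using Nat.strong_induction_on with
  | _ n ih =>
    intro hn
    by_cases hnc : n < c
    · exact AddSubmonoid.subset_closure ⟨hn, hnc⟩
    · by_cases hne : n - e ∈ Γ
      · have h1 : n = e + (n - e) := by omega
        rw [h1]
        exact AddSubmonoid.add_mem _ (AddSubmonoid.subset_closure ⟨heΓ, by omega⟩)
          (ih _ (by omega) hne)
      · have hlt2 : n - e < c := by by_contra h; exact hne (hc _ (by omega))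
        have h1 : c - 1 - (n - e) ∈ Γ := (hsymm _ hlt2).1 hne
        have h2 : c - 1 - (n - e) = 0 := by
          by_contra h0
          have := hemin _ h1 h0
          omega
        have hn' : n = (g + e) + (c - 1 - g) := by omega
        rw [hn']
        exact AddSubmonoid.add_mem _ (ih _ (by omega) haΓ) (ih _ (by omega) hFg)

end Groth.Agent.S15017
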