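import Groth.Statements.S15018
-- import your own Groth.Agent.* helpers here
import Mathlib

set_option autoImplicit false
open TFCurv

namespace Groth.Agent.S15018

/-- Let Γ be a numerical semigroup (a submonoid of (ℕ, +) with finite complement), Γ ≠ ℕ, with conductor
c (every n ≥ c lies in Γ, c − 1 does not). Then Γ is symmetric (for x < c, x is a gap exactly when c
− 1 − x ∈ Γ) if and only if there is exactly one gap n of Γ such that Γ ∪ {n} is again stable under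
adding elements of Γ, i.e. n + γ ∈ Γ for every nonzero γ ∈ Γ. -/
theorem result (Γ : AddSubmonoid ℕ) (c : ℕ) (hc : ∀ n : ℕ, c ≤ n → n ∈ Γ) (hc0 : c ≠ 0) (hc1 : c - 1 ∉ Γ) : (∀ x : ℕ, x < c → (x ∉ Γ ↔ c - 1 - x ∈ Γ)) ↔ ∃! n : ℕ, n ∉ Γ ∧ ∀ γ : ℕ, γ ∈ Γ → γ ≠ 0 → n + γ ∈ Γ := by
  classical
  have hPF : c - 1 ∉ Γ ∧ ∀ γ : ℕ, γ ∈ Γ → γ ≠ 0 → c - 1 + γ ∈ Γ :=
    ⟨hc1, fun γ _ hγ0 => hc _ (by omega)⟩
  have hlt : ∀ n, n ∉ Γ → n < c := by
    intro n hn
    by_contra h
    exact hn (hc n (by omega))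
  constructor
  · intro hsymm
    refine ⟨c - 1, hPF, ?_⟩
    rintro n ⟨hn, hn'⟩
    have hnc := hlt n hn
    have h1 := (hsymm n hnc).1 hn
    by_contra hne
    have h2 := hn' (c - 1 - n) h1 (by omega)
    have : n + (c - 1 - n) = c - 1 := by omega
    rw [this] at h2
    exact hc1 h2
  · rintro ⟨n, -, huniq⟩ x hx
    have hn1 : c - 1 = n := huniq _ hPF
    constructor
    · intro hxΓ
      set P : ℕ → Prop := fun y => y ∉ Γ ∧ ∃ γ ∈ Γ, y = x + γ with hP
      have hPx : P x := ⟨hxΓ, 0, Γ.zero_mem, by simp⟩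
      have hspec : P (Nat.findGreatest P c) := Nat.findGreatest_spec (P := P) (le_of_lt hx) hPx
      obtain ⟨hy, γ₀, hγ₀, hyx⟩ := hspec
      have hyPF : ∀ γ : ℕ, γ ∈ Γ → γ ≠ 0 → Nat.findGreatest P c + γ ∈ Γ := by
        intro γ hγ hγ0
        by_contra hcon
        have hle : Nat.findGreatest P c + γ ≤ c := le_of_lt (hlt _ hcon)
        have hPy : P (Nat.findGreatest P c + γ) :=
          ⟨hcon, γ₀ + γ, Γ.add_mem hγ₀ hγ, by rw [hyx]; ring⟩
        exact Nat.findGreatest_is_greatest (P := P) (by omega) hle hPy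
      have hyn : Nat.findGreatest P c = n := huniq _ ⟨hy, hyPF⟩
      have : c - 1 - x = γ₀ := by omega
      rw [this]; exact hγ₀
    · intro h1 hxΓ
      apply hc1
      have : c - 1 = x + (c - 1 - x) := by omega
      rw [this]
      exact Γ.add_mem hxΓ h1

end Groth.Agent.S15018
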