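import Groth.Statements.S15019
-- import your own Groth.Agent.* helpers here
import Mathlib

set_option autoImplicit false
open TFCurv

namespace Groth.Agent.S15019

/-- Let Γ be a numerical semigroup (a submonoid of (ℕ, +) with finite complement), Γ ≠ ℕ, with conductor
c (every n ≥ c lies in Γ, c − 1 does not), let e be its multiplicity (the least nonzero element of
Γ), and let S ⊆ ℕ be a Γ-module in normal form: 0 ∈ S and γ + s ∈ S for all γ ∈ Γ, s ∈ S. Then the
set of gaps n of S with S ∪ {n} again a Γ-module (n + γ ∈ S for every nonzero γ ∈ Γ) has at most e −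
1 elements, and so does the set of nonzero s ∈ S with S ∖ {s} again a Γ-module (s − γ ∉ S for every
nonzero γ ∈ Γ with γ ≤ s). -/
theorem result (Γ : AddSubmonoid ℕ) (c : ℕ) (hc : ∀ n : ℕ, c ≤ n → n ∈ Γ) (hc0 : c ≠ 0) (hc1 : c - 1 ∉ Γ) (e : ℕ) (he : e ∈ Γ) (he0 : e ≠ 0) (hemin : ∀ γ : ℕ, γ ∈ Γ → γ ≠ 0 → e ≤ γ) (S : Set ℕ) (hS0 : (0 : ℕ) ∈ S) (hS : ∀ γ : ℕ, γ ∈ Γ → ∀ s : ℕ, s ∈ S → γ + s ∈ S) : {n : ℕ | n ∉ S ∧ ∀ γ : ℕ, γ ∈ Γ → γ ≠ 0 → n + γ ∈ S}.encard ≤ ((e - 1 : ℕ) : ℕ∞) ∧ {s : ℕ | s ∈ S ∧ s ≠ 0 ∧ ∀ γ : ℕ, γ ∈ Γ → γ ≠ 0 → γ ≤ s → s - γ ∉ S}.encard ≤ ((e - 1 : ℕ) : ℕ∞) := by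
  have hje : ∀ j : ℕ, j ≠ 0 → j * e ∈ Γ ∧ j * e ≠ 0 := by
    intro j hj
    refine ⟨?_, Nat.mul_ne_zero hj he0⟩
    have h1 := Γ.nsmul_mem he j
    simpa [smul_eq_mul] using h1
  have hcard : ((Finset.Ioo 0 e : Finset ℕ) : Set ℕ).encard = ((e - 1 : ℕ) : ℕ∞) := by
    rw [Set.encard_coe_eq_coe_finsetCard, Nat.card_Ioo]
    simp
  have hdiff : ∀ a b : ℕ, a < b → a % e = b % e → ∃ j : ℕ, j ≠ 0 ∧ b = a + j * e := by
    intro a b hab hmod
    obtain ⟨j, hj⟩ := (Nat.modEq_iff_dvd' hab.le).mp hmod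
    refine ⟨j, ?_, ?_⟩
    · rintro rfl
      omega
    · rw [Nat.mul_comm]
      omega
  have hzero : ∀ n : ℕ, n % e = 0 → n = (n / e) * e := by
    intro n h0
    have h1 := Nat.div_add_mod n e
    rw [h0, Nat.mul_comm] at h1
    omega
  have hepos : 0 < e := Nat.pos_of_ne_zero he0
  constructor
  · rw [← hcard]
    apply Set.encard_le_encard_of_injOn (f := fun n => n % e)
    · rintro n ⟨hnS, hn⟩
      simp only [Finset.coe_Ioo, Set.mem_Ioo]
      refine ⟨Nat.pos_of_ne_zero ?_, Nat.mod_lt _ hepos⟩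
      intro h0
      apply hnS
      have hn' := hzero n h0
      by_cases hq : n / e = 0
      · rw [hn', hq, Nat.zero_mul]
        exact hS0
      · have h2 := hS _ (hje _ hq).1 0 hS0
        rw [add_zero, ← hn'] at h2
        exact h2
    · rintro n ⟨hnS, hn⟩ n' ⟨hnS', hn'⟩ hmod
      simp only at hmod
      by_contra hne
      rcases Nat.lt_or_gt_of_ne hne with hlt | hlt
      · obtain ⟨j, hj0, hj⟩ := hdiff n n' hlt hmod
        apply hnS'
        rw [hj]
        exact hn _ (hje j hj0).1 (hje j hj0).2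
      · obtain ⟨j, hj0, hj⟩ := hdiff n' n hlt hmod.symm
        apply hnS
        rw [hj]
        exact hn' _ (hje j hj0).1 (hje j hj0).2
  · rw [← hcard]
    apply Set.encard_le_encard_of_injOn (f := fun n => n % e)
    · rintro s ⟨hsS, hs0, hs⟩
      simp only [Finset.coe_Ioo, Set.mem_Ioo]
      refine ⟨Nat.pos_of_ne_zero ?_, Nat.mod_lt _ hepos⟩
      intro h0
      have hs' := hzero s h0
      have hq : s / e ≠ 0 := by
        intro hq
        apply hs0
        rw [hs', hq, Nat.zero_mul]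
      have h2 := hs _ (hje _ hq).1 (hje _ hq).2 (by omega)
      apply h2
      rw [← hs', Nat.sub_self]
      exact hS0
    · rintro s ⟨hsS, hs0, hs⟩ s' ⟨hsS', hs0', hs'⟩ hmod
      simp only at hmod
      by_contra hne
      rcases Nat.lt_or_gt_of_ne hne with hlt | hlt
      · obtain ⟨j, hj0, hj⟩ := hdiff s s' hlt hmod
        apply hs' _ (hje j hj0).1 (hje j hj0).2 (by omega)
        have e1 : s' - j * e = s := by omega
        rw [e1]
        exact hsS
      · obtain ⟨j, hj0, hj⟩ := hdiff s' s hlt hmod.symm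
        apply hs _ (hje j hj0).1 (hje j hj0).2 (by omega)
        have e1 : s - j * e = s' := by omega
        rw [e1]
        exact hsS'

end Groth.Agent.S15019
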