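import Groth.Statements.S15036
-- import your own Groth.Agent.* helpers here
import Mathlib

set_option autoImplicit false
open TFCurv

namespace Groth.Agent.S15036

/-- Let Γ be a numerical semigroup (a submonoid of (ℕ, +) with finite complement), Γ ≠ ℕ, with conductor
c (every n ≥ c lies in Γ, c − 1 does not); let S ⊆ ℕ be a Γ-module in normal form (0 ∈ S, γ + s ∈ S
for γ ∈ Γ, s ∈ S) with conductor c(S) (all n ≥ c(S) in S, c(S) − 1 ∉ S), and let s be a gap of S
such that S ∪ {s} is again a Γ-module. Enumerate S increasingly as s_0 < s_1 < ⋯ and put τ_i(S) =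
s_i + ℓ(S), where ℓ counts the gaps of Γ filled; since ℓ(S ∪ {s}) = ℓ(S) + 1, the termwise
comparison τ(S) ≤ τ(S ∪ {s}) says that the i-th element of S is at most one more than the i-th
element of S ∪ {s} for every i. This holds if and only if s = c(S) − 1, the largest gap of S. -/
theorem result (Γ : AddSubmonoid ℕ) (c : ℕ) (hc : ∀ n : ℕ, c ≤ n → n ∈ Γ) (hc0 : c ≠ 0) (hc1 : c - 1 ∉ Γ) (S : Set ℕ) (hS0 : (0 : ℕ) ∈ S) (hS : ∀ γ : ℕ, γ ∈ Γ → ∀ s : ℕ, s ∈ S → γ + s ∈ S) (cS : ℕ) (hcS : ∀ n : ℕ, cS ≤ n → n ∈ S) (hcS0 : cS ≠ 0) (hcS1 : cS - 1 ∉ S) (s : ℕ) (hs : s ∉ S) (hs' : ∀ γ : ℕ, γ ∈ Γ → γ ≠ 0 → s + γ ∈ S) : (∀ i : ℕ, Nat.nth (fun m => m ∈ S) i ≤ Nat.nth (fun m => m ∈ insert s S) i + 1) ↔ s + 1 = cS := by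
  classical
  have hSinf : (setOf fun m => m ∈ S).Infinite := by
    apply Set.infinite_of_forall_exists_gt
    intro a
    exact ⟨max a cS + 1, hcS _ (by omega), by omega⟩
  have hS'inf : (setOf fun m => m ∈ insert s S).Infinite :=
    hSinf.mono (fun m hm => Set.mem_insert_of_mem s hm)
  have hcount : ∀ n, Nat.count (fun m => m ∈ insert s S) n
      = Nat.count (fun m => m ∈ S) n + if s < n then 1 else 0 := by
    intro n
    induction n with
    | zero => simp
    | succ n ih =>
      rw [Nat.count_succ, Nat.count_succ, ih]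
      by_cases hns : n = s
      · subst hns
        have h1 : n ∈ insert n S := Set.mem_insert _ _
        simp [h1, hs]
      · have h1 : (n ∈ insert s S) ↔ n ∈ S := by
          rw [Set.mem_insert_iff]
          constructor
          · rintro (h | h)
            · exact absurd h hns
            · exact h
          · exact Or.inr
        have h2 : (s < n + 1) ↔ s < n := by omega
        simp only [h1, h2]
        ring
  constructor
  · intro hcond
    by_contra hne
    have hlt : s < cS := by
      by_contra hge
      exact hs (hcS s (by omega))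
    have hlt2 : s + 1 < cS := by omega
    have hcSmem : cS ∈ S := hcS cS le_rfl
    have h1 : Nat.nth (fun m => m ∈ S) (Nat.count (fun m => m ∈ S) cS) = cS :=
      Nat.nth_count (p := fun m => m ∈ S) hcSmem
    have h2 : Nat.count (fun m => m ∈ insert s S) cS = Nat.count (fun m => m ∈ S) cS + 1 := by
      rw [hcount cS, if_pos hlt]
    have h3 : Nat.nth (fun m => m ∈ insert s S) (Nat.count (fun m => m ∈ S) cS + 1) = cS := by
      rw [← h2]
      exact Nat.nth_count (p := fun m => m ∈ insert s S) (Set.mem_insert_of_mem s hcSmem)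
    have h4 : Nat.nth (fun m => m ∈ insert s S) (Nat.count (fun m => m ∈ S) cS) < cS := by
      have := Nat.nth_strictMono hS'inf (Nat.lt_succ_self (Nat.count (fun m => m ∈ S) cS))
      rw [h3] at this
      exact this
    have h5 : Nat.nth (fun m => m ∈ insert s S) (Nat.count (fun m => m ∈ S) cS) ∈ insert s S :=
      Nat.nth_mem_of_infinite hS'inf _
    have h6 : Nat.nth (fun m => m ∈ insert s S) (Nat.count (fun m => m ∈ S) cS) ≠ cS - 1 := by
      intro heq
      rw [heq, Set.mem_insert_iff] at h5
      rcases h5 with h | h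
      · omega
      · exact hcS1 h
    have h7 := hcond (Nat.count (fun m => m ∈ S) cS)
    rw [h1] at h7
    omega
  · intro hsc i
    have ha_mem : Nat.nth (fun m => m ∈ insert s S) i ∈ insert s S :=
      Nat.nth_mem_of_infinite hS'inf i
    have hcnt : Nat.count (fun m => m ∈ insert s S) (Nat.nth (fun m => m ∈ insert s S) i) = i :=
      Nat.count_nth_of_infinite hS'inf i
    by_cases hlt : Nat.nth (fun m => m ∈ insert s S) i < s
    · have h1 : Nat.count (fun m => m ∈ S) (Nat.nth (fun m => m ∈ insert s S) i) = i := by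
        rw [hcount, if_neg (by omega)] at hcnt
        simpa using hcnt
      have h2 : Nat.nth (fun m => m ∈ insert s S) i ∈ S := by
        rw [Set.mem_insert_iff] at ha_mem
        rcases ha_mem with h | h
        · omega
        · exact h
      have h3 := Nat.nth_count (p := fun m => m ∈ S) h2
      rw [h1] at h3
      omega
    · have hge : s ≤ Nat.nth (fun m => m ∈ insert s S) i := by omega
      have h1 : Nat.nth (fun m => m ∈ insert s S) i + 1 ∈ S := hcS _ (by omega)
      have h2 : Nat.count (fun m => m ∈ insert s S) (Nat.nth (fun m => m ∈ insert s S) i + 1)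
          = i + 1 := by
        rw [Nat.count_succ, hcnt, if_pos ha_mem]
      have h3 : Nat.count (fun m => m ∈ S) (Nat.nth (fun m => m ∈ insert s S) i + 1) = i := by
        rw [hcount, if_pos (by omega)] at h2
        omega
      have h4 := Nat.nth_count (p := fun m => m ∈ S) h1
      rw [h3] at h4
      omega

end Groth.Agent.S15036
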