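import Groth.Statements.S15037
-- import your own Groth.Agent.* helpers here
import Mathlib

set_option autoImplicit false
open TFCurv

namespace Groth.Agent.S15037

lemma count_le_add (T : Set ℕ) [DecidablePred (fun m => m ∈ T)] (a b : ℕ) (hab : a ≤ b) :
    Nat.count (fun m => m ∈ T) b ≤ Nat.count (fun m => m ∈ T) a + (b - a) := by
  induction b, hab using Nat.le_induction with
  | base => simp
  | succ b hb ih =>
    rw [Nat.count_succ]
    split_ifs <;> omega

lemma count_ge_cond (T : Set ℕ) [DecidablePred (fun m => m ∈ T)] (cT : ℕ)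
    (hcT : ∀ n : ℕ, cT ≤ n → n ∈ T) (b : ℕ) (hb : cT ≤ b) :
    Nat.count (fun m => m ∈ T) b = Nat.count (fun m => m ∈ T) cT + (b - cT) := by
  induction b, hb using Nat.le_induction with
  | base => simp
  | succ b hb ih =>
    rw [Nat.count_succ, if_pos (hcT b hb), ih]
    omega

lemma ncard_inter_eq (T : Set ℕ) [DecidablePred (fun m => m ∈ T)] (cT : ℕ) :
    (T ∩ Set.Iio cT).ncard = Nat.count (fun m => m ∈ T) cT := by
  rw [Nat.count_eq_card_filter_range, ← Set.ncard_coe_finset]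
  congr 1
  ext m
  simp [and_comm]

lemma ncard_compl_eq (T : Set ℕ) [DecidablePred (fun m => m ∈ T)] (cT : ℕ)
    (hcT : ∀ n : ℕ, cT ≤ n → n ∈ T) :
    Tᶜ.ncard = cT - Nat.count (fun m => m ∈ T) cT := by
  have h1 := Finset.card_filter_add_card_filter_not (s := Finset.range cT) (fun m => m ∈ T)
  rw [← Nat.count_eq_card_filter_range, Finset.card_range] at h1
  beta_reduce at h1
  have h2 : Tᶜ = ((Finset.range cT).filter (fun m => ¬ m ∈ T) : Finset ℕ) := by
    ext m
    simp only [Set.mem_compl_iff, Finset.coe_filter, Finset.mem_range, Set.mem_setOf_eq]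
    constructor
    · intro hm
      refine ⟨?_, hm⟩
      by_contra hge
      exact hm (hcT m (by omega))
    · exact fun h => h.2
  rw [h2, Set.ncard_coe_finset]
  have h1' : Nat.count (fun m => m ∈ T) cT
      + ((Finset.range cT).filter (fun m => ¬ m ∈ T)).card = cT := h1
  omega

lemma setInf (T : Set ℕ) (cT : ℕ) (hcT : ∀ n : ℕ, cT ≤ n → n ∈ T) :
    (setOf fun m => m ∈ T).Infinite := by
  apply Set.infinite_of_forall_exists_gt
  intro a
  exact ⟨max a cT + 1, hcT _ (by omega), by omega⟩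

lemma nth_le_add (T : Set ℕ) [DecidablePred (fun m => m ∈ T)] (cT : ℕ)
    (hcT : ∀ n : ℕ, cT ≤ n → n ∈ T) (i : ℕ) :
    Nat.nth (fun m => m ∈ T) i ≤ i + (cT - Nat.count (fun m => m ∈ T) cT) := by
  have hinf := setInf T cT hcT
  have hcnt : Nat.count (fun m => m ∈ T) (Nat.nth (fun m => m ∈ T) i) = i :=
    Nat.count_nth_of_infinite hinf i
  have hle : Nat.count (fun m => m ∈ T) cT ≤ cT := Nat.count_le _
  rcases le_total cT (Nat.nth (fun m => m ∈ T) i) with h | h
  · have := count_ge_cond T cT hcT _ h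
    omega
  · have := count_le_add T _ _ h
    omega

lemma nth_eq_add (T : Set ℕ) [DecidablePred (fun m => m ∈ T)] (cT : ℕ)
    (hcT : ∀ n : ℕ, cT ≤ n → n ∈ T) (i : ℕ) (hi : Nat.count (fun m => m ∈ T) cT ≤ i) :
    Nat.nth (fun m => m ∈ T) i = i + (cT - Nat.count (fun m => m ∈ T) cT) := by
  have hle : Nat.count (fun m => m ∈ T) cT ≤ cT := Nat.count_le _
  have hm : i + (cT - Nat.count (fun m => m ∈ T) cT) ∈ T := hcT _ (by omega)
  have h1 := count_ge_cond T cT hcT (i + (cT - Nat.count (fun m => m ∈ T) cT)) (by omega)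
  have h2 : Nat.count (fun m => m ∈ T) (i + (cT - Nat.count (fun m => m ∈ T) cT)) = i := by
    omega
  have h3 := Nat.nth_count (p := fun m => m ∈ T) hm
  rw [h2] at h3
  exact h3

lemma nth_lt_add (T : Set ℕ) [DecidablePred (fun m => m ∈ T)] (cT : ℕ)
    (hcT : ∀ n : ℕ, cT ≤ n → n ∈ T) (hc0 : cT ≠ 0) (hc1 : cT - 1 ∉ T)
    (i : ℕ) (hi : i < Nat.count (fun m => m ∈ T) cT) :
    Nat.nth (fun m => m ∈ T) i < i + (cT - Nat.count (fun m => m ∈ T) cT) := by
  have hinf := setInf T cT hcT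
  have hcnt : Nat.count (fun m => m ∈ T) (Nat.nth (fun m => m ∈ T) i) = i :=
    Nat.count_nth_of_infinite hinf i
  have hmem : Nat.nth (fun m => m ∈ T) i ∈ T := Nat.nth_mem_of_infinite hinf i
  have hle : Nat.count (fun m => m ∈ T) cT ≤ cT := Nat.count_le _
  have hlt : Nat.nth (fun m => m ∈ T) i < cT := by
    by_contra hge
    have := Nat.count_monotone (fun m => m ∈ T) (not_lt.mp hge)
    omega
  have hne : Nat.nth (fun m => m ∈ T) i ≠ cT - 1 := by
    intro heq
    rw [heq] at hmem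
    exact hc1 hmem
  have h1 : Nat.count (fun m => m ∈ T) (Nat.nth (fun m => m ∈ T) i + 1) = i + 1 := by
    rw [Nat.count_succ, hcnt, if_pos hmem]
  have h2 : Nat.count (fun m => m ∈ T) cT = Nat.count (fun m => m ∈ T) (cT - 1) := by
    have : cT = (cT - 1) + 1 := by omega
    conv_lhs => rw [this]
    rw [Nat.count_succ, if_neg hc1]
    simp
  have h3 := count_le_add T (Nat.nth (fun m => m ∈ T) i + 1) (cT - 1) (by omega)
  omega

/-- Let Γ be a numerical semigroup (a submonoid of (ℕ, +) with finite complement), Γ ≠ ℕ, with conductor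
c (every n ≥ c lies in Γ, c − 1 does not); let S and S' ⊆ ℕ be Γ-modules in normal form with
conductors c(S), c(S'), let δ(S), δ(S') be their numbers of gaps and r(S), r(S') their numbers of
elements below the conductor, and enumerate them increasingly as s_i, s'_i (i ≥ 0). With τ_i(S) =
s_i + ℓ(S) and ℓ(S) = δ(Γ) − δ(S), the termwise order τ(S) ≤ τ(S') reads s_i + δ(S') ≤ s'_i + δ(S)
for all i. It holds if and only if r(S') ≤ r(S) and s_i + δ(S') ≤ s'_i + δ(S) for all i < r(S')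
(beyond r(S) the entries τ_i(S) = i + δ(Γ) are the largest possible). -/
theorem result (Γ : AddSubmonoid ℕ) (c : ℕ) (hc : ∀ n : ℕ, c ≤ n → n ∈ Γ) (hc0 : c ≠ 0) (hc1 : c - 1 ∉ Γ) (S : Set ℕ) (hS0 : (0 : ℕ) ∈ S) (hS : ∀ γ : ℕ, γ ∈ Γ → ∀ s : ℕ, s ∈ S → γ + s ∈ S) (cS : ℕ) (hcS : ∀ n : ℕ, cS ≤ n → n ∈ S) (hcS1 : cS = 0 ∨ cS - 1 ∉ S) (S' : Set ℕ) (hS'0 : (0 : ℕ) ∈ S') (hS' : ∀ γ : ℕ, γ ∈ Γ → ∀ s : ℕ, s ∈ S' → γ + s ∈ S') (cS' : ℕ) (hcS' : ∀ n : ℕ, cS' ≤ n → n ∈ S') (hcS'1 : cS' = 0 ∨ cS' - 1 ∉ S') : (∀ i : ℕ, Nat.nth (fun m => m ∈ S) i + S'ᶜ.ncard ≤ Nat.nth (fun m => m ∈ S') i + Sᶜ.ncard) ↔ ((S' ∩ Set.Iio cS').ncard ≤ (S ∩ Set.Iio cS).ncard ∧ ∀ i : ℕ, i < (S' ∩ Set.Iio cS').ncard → Nat.nth (fun m => m ∈ S) i + S'ᶜ.ncard ≤ Nat.nth (fun m => m ∈ S') i + Sᶜ.ncard) := by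
  classical
  rw [ncard_inter_eq S cS, ncard_inter_eq S' cS', ncard_compl_eq S cS hcS,
    ncard_compl_eq S' cS' hcS']
  have hle : Nat.count (fun m => m ∈ S) cS ≤ cS := Nat.count_le _
  have hle' : Nat.count (fun m => m ∈ S') cS' ≤ cS' := Nat.count_le _
  constructor
  · intro hcond
    refine ⟨?_, fun i _ => hcond i⟩
    by_contra hlt
    have hlt' : Nat.count (fun m => m ∈ S) cS < Nat.count (fun m => m ∈ S') cS' := by omega
    have hc0' : cS' ≠ 0 := by
      intro h0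
      rw [h0] at hlt'
      simp at hlt'
    have hc1' : cS' - 1 ∉ S' := by
      rcases hcS'1 with h | h
      · exact absurd h hc0'
      · exact h
    have h1 := nth_eq_add S cS hcS (Nat.count (fun m => m ∈ S') cS' - 1) (by omega)
    have h2 := nth_lt_add S' cS' hcS' hc0' hc1' (Nat.count (fun m => m ∈ S') cS' - 1) (by omega)
    have h3 := hcond (Nat.count (fun m => m ∈ S') cS' - 1)
    omega
  · rintro ⟨hnn, hcond⟩ i
    by_cases hi : i < Nat.count (fun m => m ∈ S') cS'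
    · exact hcond i hi
    · have h1 := nth_eq_add S' cS' hcS' i (by omega)
      have h2 := nth_le_add S cS hcS i
      omega

end Groth.Agent.S15037
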