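import Groth.Statements.S15038
-- import your own Groth.Agent.* helpers here
import Mathlib

set_option autoImplicit false
open TFCurv

namespace Groth.Agent.S15038

/-- Let Γ be a numerical semigroup (a submonoid of (ℕ, +) with finite complement), Γ ≠ ℕ, with conductor
c (every n ≥ c lies in Γ, c − 1 does not). If Γ is symmetric (for x < c, x is a gap exactly when c −
1 − x ∈ Γ) and its multiplicity e, the least nonzero element of Γ, is greater than 2, then Γ is
generated as an additive monoid by at most e − 1 elements. -/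
theorem result (Γ : AddSubmonoid ℕ) (c : ℕ) (hc : ∀ n : ℕ, c ≤ n → n ∈ Γ) (hc0 : c ≠ 0) (hc1 : c - 1 ∉ Γ) (hsymm : ∀ x : ℕ, x < c → (x ∉ Γ ↔ c - 1 - x ∈ Γ)) (e : ℕ) (he : e ∈ Γ) (he0 : e ≠ 0) (hemin : ∀ γ : ℕ, γ ∈ Γ → γ ≠ 0 → e ≤ γ) (he2 : 2 < e) : ∃ G : Finset ℕ, G.card ≤ e - 1 ∧ AddSubmonoid.closure (↑G : Set ℕ) = Γ := by
  classical
  have hepos : 0 < e := Nat.pos_of_ne_zero he0
  have hex : ∀ i : ℕ, ∃ γ, γ ∈ Γ ∧ γ % e = i % e := by
    intro i
    refine ⟨e * c + i % e, hc _ ?_, ?_⟩
    · calc c ≤ e * c := Nat.le_mul_of_pos_left c hepos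
        _ ≤ e * c + i % e := Nat.le_add_right _ _
    · rw [Nat.mul_add_mod, Nat.mod_mod]
  let w : ℕ → ℕ := fun i => Nat.find (hex i)
  have hw1 : ∀ i, w i ∈ Γ := fun i => (Nat.find_spec (hex i)).1
  have hw2 : ∀ i, w i % e = i % e := fun i => (Nat.find_spec (hex i)).2
  have hw3 : ∀ i γ, γ ∈ Γ → γ % e = i % e → w i ≤ γ :=
    fun i γ h1 h2 => Nat.find_min' (hex i) ⟨h1, h2⟩
  have hmul : ∀ k : ℕ, e * k ∈ Γ := by
    intro k
    have h := AddSubmonoid.nsmul_mem Γ he k
    rwa [smul_eq_mul, mul_comm] at h
  have hstep : ∀ a b : ℕ, a ∈ Γ → a < b → a % e = b % e → b - e ∈ Γ ∧ e ≤ b := by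
    intro a b ha hab hmod
    have hdvd : e ∣ b - a := (Nat.modEq_iff_dvd' hab.le).mp hmod
    obtain ⟨k, hk⟩ := hdvd
    have hk1 : k ≠ 0 := by
      rintro rfl
      omega
    obtain ⟨k', rfl⟩ : ∃ k', k = k' + 1 := ⟨k - 1, by omega⟩
    have hp : e * (k' + 1) = e * k' + e := by ring
    rw [hp] at hk
    have hmem := hmul k'
    generalize e * k' = p at hk hmem
    refine ⟨?_, by omega⟩
    have h1 : b - e = a + p := by omega
    rw [h1]
    exact add_mem ha hmem
  set imax := (c - 1) % e with himax
  have himax_lt : imax < e := Nat.mod_lt _ hepos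
  have himax0 : imax ≠ 0 := by
    intro h0
    have hd : e ∣ c - 1 := Nat.dvd_of_mod_eq_zero h0
    obtain ⟨k, hk⟩ := hd
    apply hc1
    rw [hk]
    exact hmul k
  set M := c - 1 + e with hM
  have hMΓ : M ∈ Γ := hc M (by omega)
  have hMmod : M % e = imax := by rw [hM, Nat.add_mod_right]
  have hwmax : w imax = M := by
    have h1 : w imax ≤ M := hw3 imax M hMΓ (by rw [hMmod, Nat.mod_eq_of_lt himax_lt])
    rcases Nat.lt_or_ge (w imax) M with hlt | hge
    · exfalso
      have h2 := (hstep (w imax) M (hw1 imax) hlt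
        (by rw [hw2, hMmod, Nat.mod_eq_of_lt himax_lt])).1
      have h3 : M - e = c - 1 := by omega
      rw [h3] at h2
      exact hc1 h2
    · omega
  let I : Finset ℕ := ((Finset.range e).erase 0).erase imax
  have c1 : ((Finset.range e).erase 0).card = e - 1 := by
    rw [Finset.card_erase_of_mem (Finset.mem_range.mpr hepos), Finset.card_range]
  have c2 : I.card = e - 1 - 1 := by
    show (((Finset.range e).erase 0).erase imax).card = _
    rw [Finset.card_erase_of_mem
      (Finset.mem_erase.mpr ⟨himax0, Finset.mem_range.mpr himax_lt⟩), c1]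
  refine ⟨insert e (I.image w), ?_, ?_⟩
  · calc (insert e (I.image w)).card ≤ (I.image w).card + 1 := Finset.card_insert_le _ _
      _ ≤ I.card + 1 := Nat.add_le_add_right Finset.card_image_le 1
      _ = e - 1 - 1 + 1 := by rw [c2]
      _ ≤ e - 1 := by omega
  · have heCL : e ∈ AddSubmonoid.closure (↑(insert e (I.image w)) : Set ℕ) :=
      AddSubmonoid.subset_closure (Finset.mem_coe.mpr (Finset.mem_insert_self e _))
    have hwCL : ∀ i ∈ I, w i ∈ AddSubmonoid.closure (↑(insert e (I.image w)) : Set ℕ) :=
      fun i hi => AddSubmonoid.subset_closure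
        (Finset.mem_coe.mpr (Finset.mem_insert_of_mem (Finset.mem_image_of_mem w hi)))
    apply le_antisymm
    · apply (AddSubmonoid.closure_le).mpr
      intro x hx
      rcases Finset.mem_insert.mp (Finset.mem_coe.mp hx) with rfl | hx
      · exact he
      · obtain ⟨i, _, rfl⟩ := Finset.mem_image.mp hx
        exact hw1 i
    · intro γ hγ
      induction γ using Nat.strong_induction_on with
      | _ γ ih =>
        have hi_lt : γ % e < e := Nat.mod_lt _ hepos
        have hwle : w (γ % e) ≤ γ := hw3 (γ % e) γ hγ (Nat.mod_mod _ _).symm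
        rcases Nat.lt_or_ge (w (γ % e)) γ with hlt | hge
        · obtain ⟨h1, h2⟩ := hstep (w (γ % e)) γ (hw1 _) hlt (by rw [hw2, Nat.mod_mod])
          have h3 := ih (γ - e) (by omega) h1
          have h4 : γ = (γ - e) + e := by omega
          rw [h4]
          exact add_mem h3 heCL
        · have hγw : γ = w (γ % e) := le_antisymm hge hwle
          by_cases h0 : γ % e = 0
          · have h5 : w (γ % e) ≤ 0 := hw3 (γ % e) 0 (zero_mem Γ) (by rw [h0])
            have h6 : γ = 0 := by omega
            rw [h6]
            exact zero_mem _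
          by_cases h1 : γ % e = imax
          · have hγM : γ = M := by rw [hγw, h1, hwmax]
            obtain ⟨j, hj0, hjlt, hjne⟩ : ∃ j, j ≠ 0 ∧ j < e ∧ j ≠ imax := by
              by_cases h : imax = 1
              · exact ⟨2, by omega, he2, by omega⟩
              · exact ⟨1, by omega, by omega, fun h' => h h'.symm⟩
            have hjI : j ∈ I :=
              Finset.mem_erase.mpr ⟨hjne, Finset.mem_erase.mpr ⟨hj0, Finset.mem_range.mpr hjlt⟩⟩
            have hwj_mod : w j % e = j := by rw [hw2, Nat.mod_eq_of_lt hjlt]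
            have hwj0 : w j ≠ 0 := by
              intro h
              rw [h, Nat.zero_mod] at hwj_mod
              exact hj0 hwj_mod.symm
            have hewj : e ≤ w j := hemin _ (hw1 j) hwj0
            have hxΓ : w j - e ∉ Γ := by
              intro hx
              have h7 : w j = (w j - e) + e := by omega
              have h3 : w j % e = (w j - e) % e := by
                conv_lhs => rw [h7]
                exact Nat.add_mod_right _ _
              have h2 : (w j - e) % e = j % e := by rw [← h3, hw2]
              have h8 := hw3 j _ hx h2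
              omega
            have hxc : w j - e < c := by
              by_contra hcon
              exact hxΓ (hc _ (by omega))
            have hw'' : c - 1 - (w j - e) ∈ Γ := (hsymm _ hxc).mp hxΓ
            have hsum : γ = w j + (c - 1 - (w j - e)) := by
              rw [hγM, hM]
              omega
            have hlt'' : c - 1 - (w j - e) < γ := by omega
            rw [hsum]
            exact add_mem (hwCL j hjI) (ih _ hlt'' hw'')
          · have hI : γ % e ∈ I :=
              Finset.mem_erase.mpr ⟨h1, Finset.mem_erase.mpr ⟨h0, Finset.mem_range.mpr hi_lt⟩⟩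
            rw [hγw]
            exact hwCL _ hI

end Groth.Agent.S15038
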