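import Groth.Statements.S15047
-- import your own Groth.Agent.* helpers here
import Mathlib

set_option autoImplicit false
universe u
open TensorProduct
open Desc

namespace Groth.Agent.S15047

/-- Let A → A' be a faithfully flat homomorphism of commutative rings and M, N any A-modules. An
A'-linear map f : A' ⊗_A M → A' ⊗_A N whose two base changes to A' ⊗_A A' (along a ↦ a ⊗ 1 and a ↦ 1
⊗ a) coincide is the base change of a unique A-linear map h : M → N. Since (A' ⊗_A A') ⊗_A M is
generated over A' ⊗_A A' by the elements 1 ⊗ m, the agreement of the two base changes is stated on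
these generators: for every m, the two images of f (1 ⊗ m) in (A' ⊗_A A') ⊗_A N agree. Equivalently,
the sequence Hom_A(M, N) → Hom_{A'}(A' ⊗ M, A' ⊗ N) ⇉ Hom_{A' ⊗ A'}(A' ⊗ A' ⊗ M, A' ⊗ A' ⊗ N) is an
equalizer diagram. -/
theorem result (A A' : Type u) [CommRing A] [CommRing A'] [Algebra A A']
    [Module.FaithfullyFlat A A'] (M N : Type u) [AddCommGroup M] [Module A M] [AddCommGroup N] [Module A N]
    (f : A' ⊗[A] M →ₗ[A'] A' ⊗[A] N)
    (hf : ∀ m : M,
      LinearMap.rTensor N (Algebra.TensorProduct.includeLeft : A' →ₐ[A] A' ⊗[A] A').toLinearMap (f (1 ⊗ₜ[A] m)) =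
        LinearMap.rTensor N (Algebra.TensorProduct.includeRight : A' →ₐ[A] A' ⊗[A] A').toLinearMap (f (1 ⊗ₜ[A] m))) :
    ∃! h : M →ₗ[A] N, h.baseChange A' = f := by
  classical
  let ι : N →ₗ[A] A' ⊗[A] N := TensorProduct.mk A A' N 1
  let L : A' →ₗ[A] A' ⊗[A] A' :=
    (Algebra.TensorProduct.includeLeft : A' →ₐ[A] A' ⊗[A] A').toLinearMap
  let R : A' →ₗ[A] A' ⊗[A] A' :=
    (Algebra.TensorProduct.includeRight : A' →ₐ[A] A' ⊗[A] A').toLinearMap
  let d : A' ⊗[A] N →ₗ[A] (A' ⊗[A] A') ⊗[A] N := LinearMap.rTensor N L - LinearMap.rTensor N R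
  let s₁ : A' ⊗[A] (A' ⊗[A] N) →ₗ[A] A' ⊗[A] N :=
    (LinearMap.rTensor N (LinearMap.mul' A A')) ∘ₗ (TensorProduct.assoc A A' A' N).symm.toLinearMap
  let s₂ : A' ⊗[A] ((A' ⊗[A] A') ⊗[A] N) →ₗ[A] A' ⊗[A] (A' ⊗[A] N) :=
    (TensorProduct.assoc A A' A' N).toLinearMap ∘ₗ
      (LinearMap.rTensor N ((LinearMap.rTensor A' (LinearMap.mul' A A')) ∘ₗ
        (TensorProduct.assoc A A' A' A').symm.toLinearMap)) ∘ₗ
      (TensorProduct.assoc A A' (A' ⊗[A] A') N).symm.toLinearMap
  have hhom : s₂ ∘ₗ (d.lTensor A') = (ι.lTensor A') ∘ₗ s₁ - LinearMap.id := by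
    ext a b n
    simp [s₁, s₂, d, ι, L, R, TensorProduct.tmul_sub, TensorProduct.sub_tmul]
  have hdι : d ∘ₗ ι = 0 := by
    ext n
    simp [d, ι, L, R]
  have hex : Function.Exact ι d := by
    apply Module.FaithfullyFlat.lTensor_reflects_exact A A'
    intro z
    constructor
    · intro hz
      refine ⟨s₁ z, ?_⟩
      have h3 := LinearMap.congr_fun hhom z
      simp only [LinearMap.comp_apply, LinearMap.sub_apply, LinearMap.id_apply, hz, map_zero] at h3
      exact sub_eq_zero.mp h3.symm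
    · rintro ⟨w, rfl⟩
      rw [← LinearMap.comp_apply, ← LinearMap.lTensor_comp, hdι, LinearMap.lTensor_zero,
        LinearMap.zero_apply]
  have hinj : Function.Injective ι :=
    Module.FaithfullyFlat.tensorProduct_mk_injective (A := A) (B := A') N
  have hex' : ∀ m : M, ∃ n : N, ι n = f (1 ⊗ₜ[A] m) := by
    intro m
    have h1 : d (f (1 ⊗ₜ[A] m)) = 0 := by
      show (LinearMap.rTensor N L - LinearMap.rTensor N R) _ = 0
      rw [LinearMap.sub_apply, sub_eq_zero]
      exact hf m
    exact (hex _).mp h1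
  choose h₀ hh₀ using hex'
  have hι : ∀ n : N, ι n = (1 : A') ⊗ₜ[A] n := fun n => rfl
  let h : M →ₗ[A] N :=
    { toFun := h₀
      map_add' := fun m m' => by
        apply hinj
        rw [map_add, hh₀, hh₀, hh₀, TensorProduct.tmul_add, map_add]
      map_smul' := fun a m => by
        apply hinj
        have e2 : f (a • ((1 : A') ⊗ₜ[A] m)) = a • f (1 ⊗ₜ[A] m) :=
          (f.restrictScalars A).map_smul a _
        rw [RingHom.id_apply, map_smul, hh₀, hh₀, TensorProduct.tmul_smul, e2] }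
  have hh : ∀ m, h m = h₀ m := fun m => rfl
  have hbc : h.baseChange A' = f := by
    apply LinearMap.ext
    intro z
    induction z using TensorProduct.induction_on with
    | zero => simp
    | tmul a m =>
      rw [LinearMap.baseChange_tmul]
      have e1 : a ⊗ₜ[A] m = a • ((1 : A') ⊗ₜ[A] m) := by
        rw [TensorProduct.smul_tmul', smul_eq_mul, mul_one]
      rw [e1, map_smul, ← hh₀ m, hι, hh, TensorProduct.smul_tmul', smul_eq_mul, mul_one]
    | add x y hx hy => rw [map_add, map_add, hx, hy]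
  refine ⟨h, hbc, ?_⟩
  intro h' hh'
  ext m
  apply hinj
  rw [hι, hι, hh, ← hι (h₀ m), hh₀ m, ← hh', LinearMap.baseChange_tmul]

end Groth.Agent.S15047
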