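import Groth.Statements.S15054
import Mathlib

set_option autoImplicit false
universe u
open CategoryTheory CategoryTheory.Limits MonoidalCategory CartesianMonoidalCategory MonObj GrpObj AlgebraicGeometry
open BTGrp

namespace Groth.Agent.S15054

/-- Let ℓ be a prime and G = (G_ν)_ν an ℓ-divisible (Barsotti–Tate) group of height h over a scheme S,
given as the system of its finite locally free layers G_ν of order ℓ^{νh} with inclusions G_ν →
G_{ν+1} exhibiting G_ν as the ℓ^ν-torsion of G_{ν+1} and projections G_{ν+1} → G_ν (multiplication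
by ℓ). Let i_t : G_1 → G_{t+1} denote the iterated inclusions, pinned by i_0 = id and i_{t+1} = i_t
followed by G_{t+1} → G_{t+2}. Then for every t, i_t identifies G_1 with the kernel of
multiplication by ℓ on G_{t+1}: the ℓ-torsion of every layer is the first layer. (The published
statement identifies G_v with the ℓ^v-torsion of G_{v+t} for all v; this row is its case v = 1. The
published base is the spectrum of a Noetherian ring; the argument is formal and any base scheme is
allowed here.) -/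
theorem result {S : Scheme.{u}} (ℓ h : ℕ) [Fact ℓ.Prime] (G : BTGrp.ProBT ℓ S h)
    (i : (t : ℕ) → (G.G 1 ⟶ G.G (t + 1))) (hi0 : i 0 = 𝟙 (G.G 1))
    (hi : ∀ t : ℕ, i (t + 1) = i t ≫ G.incl (t + 1)) (t : ℕ) :
    AlgGrp.IsKernel (i t) ((𝟙 (G.G (t + 1))) ^ ℓ) := by
  have hmono : ∀ (ν : ℕ) {W : Over S} (x y : W ⟶ G.G ν),
      x ≫ G.incl ν = y ≫ G.incl ν → x = y := by
    intro ν W x y hxy
    exact (G.isKernel ν).hom_ext hxy (toUnit_unique _ _)
  have hkerw : ∀ ν, G.incl ν ≫ (𝟙 (G.G (ν+1)))^(ℓ^ν) = 1 := by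
    intro ν
    rw [(G.isKernel ν).w, Hom.one_def]
  induction t with
  | zero =>
    show AlgGrp.IsKernel (i 0) ((𝟙 (G.G (0 + 1))) ^ ℓ)
    rw [hi0]
    have h1 : (𝟙 (G.G 1))^ℓ = 1 := by
      apply hmono 1
      rw [MonObj.pow_comp, Category.id_comp, MonObj.one_comp]
      have h2 := hkerw 1
      rw [pow_one, MonObj.comp_pow, Category.comp_id] at h2
      exact h2
    have hw : 𝟙 (G.G 1) ≫ (𝟙 (G.G (0 + 1))) ^ ℓ = toUnit (G.G 1) ≫ η[G.G (0 + 1)] := by
      rw [Category.id_comp]; exact h1.trans Hom.one_def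
    refine IsPullback.of_isLimit (PullbackCone.IsLimit.mk hw (fun s => s.fst) ?_ ?_ ?_)
    · intro s; exact Category.comp_id _
    · intro s; exact toUnit_unique _ _
    · intro s m h1 h2; rw [← h1]; exact (Category.comp_id _).symm
  | succ t ih =>
    rw [hi t]
    have hih : i t ≫ (𝟙 (G.G (t+1)))^ℓ = 1 := by rw [ih.w, Hom.one_def]
    have hw : (i t ≫ G.incl (t+1)) ≫ (𝟙 (G.G (t+1+1)))^ℓ =
        toUnit (G.G 1) ≫ η[G.G (t+1+1)] := by
      rw [MonObj.comp_pow, Category.comp_id, ← Hom.one_def]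
      have h3 : (i t ≫ (𝟙 (G.G (t+1)))^ℓ) ≫ G.incl (t+1) = 1 := by
        rw [hih, MonObj.one_comp]
      rw [MonObj.comp_pow, Category.comp_id, MonObj.pow_comp] at h3
      exact h3
    have hs : ∀ s : PullbackCone ((𝟙 (G.G (t+1+1)))^ℓ) η[G.G (t+1+1)], s.fst ^ ℓ = 1 := by
      intro s
      have h4 := s.condition
      rw [MonObj.comp_pow, Category.comp_id] at h4
      rw [h4, toUnit_unique s.snd (toUnit _), Hom.one_def]
    have hy0 : ∀ s : PullbackCone ((𝟙 (G.G (t+1+1)))^ℓ) η[G.G (t+1+1)],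
        s.fst ≫ (𝟙 (G.G (t+1+1)))^(ℓ^(t+1)) = toUnit s.pt ≫ η[G.G (t+1+1)] := by
      intro s
      rw [MonObj.comp_pow, Category.comp_id, pow_succ', pow_mul, hs s, one_pow, Hom.one_def]
    have hy : ∀ s : PullbackCone ((𝟙 (G.G (t+1+1)))^ℓ) η[G.G (t+1+1)],
        (G.isKernel (t+1)).lift s.fst (toUnit _) (hy0 s) ≫ G.incl (t+1) = s.fst :=
      fun s => (G.isKernel (t+1)).lift_fst _ _ _
    have hyl : ∀ s : PullbackCone ((𝟙 (G.G (t+1+1)))^ℓ) η[G.G (t+1+1)],
        (G.isKernel (t+1)).lift s.fst (toUnit _) (hy0 s) ≫ (𝟙 (G.G (t+1)))^ℓ =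
          toUnit s.pt ≫ η[G.G (t+1)] := by
      intro s
      rw [← Hom.one_def]
      apply hmono (t+1)
      rw [MonObj.one_comp, MonObj.comp_pow, Category.comp_id, MonObj.pow_comp, hy s, hs s]
    refine IsPullback.of_isLimit (PullbackCone.IsLimit.mk hw
      (fun s => ih.lift ((G.isKernel (t+1)).lift s.fst (toUnit _) (hy0 s)) (toUnit _) (hyl s))
      ?_ ?_ ?_)
    · intro s
      rw [← Category.assoc, ih.lift_fst, hy s]
    · intro s; exact toUnit_unique _ _
    · intro s m h1 h2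
      apply ih.hom_ext
      · rw [ih.lift_fst]
        apply hmono (t+1)
        rw [hy s, Category.assoc]; exact h1
      · exact toUnit_unique _ _

end Groth.Agent.S15054
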