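import Groth.Statements.S15080
-- import your own Groth.Agent.* helpers here
import Mathlib
import Groth.Agent.Lib.helper7.Shuffle

set_option autoImplicit false
open W4c2movlemaddchow

namespace Groth.Agent.S15080

open Equiv Groth.Agent.Lib.helper7.Shuffle

/-- Let r, s, t ≥ 1. For an (r+s, t)-shuffle τ of r+s+t letters and an (r, s)-shuffle σ of the first r+s
letters, the composite τ ∘ (σ × id), where σ × id acts as σ on the first r+s letters and fixes the
last t, is an (r, s, t)-shuffle, and (τ, σ) ↦ τ ∘ (σ × id) is a bijection from such pairs onto the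
set of all (r, s, t)-shuffles. (A (p₁, …, p_s)-shuffle is a permutation that is monotone on each of
the consecutive blocks of sizes p₁, …, p_s; composites apply the right-hand factor first.) -/
theorem result (r s t : ℕ) (hr : 1 ≤ r) (hs : 1 ≤ s) (ht : 1 ≤ t) :
    Set.BijOn
      (fun p : Equiv.Perm (Fin (r + s + t)) × Equiv.Perm (Fin (r + s)) =>
        p.1 * W4c2movlemaddchow.extRight (r + s) t p.2)
      ({τ | W4c2movlemaddchow.IsShuffle₂ (r + s) t τ} ×ˢ {σ | W4c2movlemaddchow.IsShuffle₂ r s σ})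
      {ν | W4c2movlemaddchow.IsShuffle₃ r s t ν} := by
  refine ⟨?_, ?_, ?_⟩
  · rintro ⟨τ, σ⟩ ⟨hτ, hσ⟩
    simp only [Set.mem_setOf_eq] at hτ hσ
    show IsShuffle₃ r s t (τ * extRight (r + s) t σ)
    refine ⟨?_, ?_, ?_⟩
    · intro i i' h
      simp only [Perm.mul_apply, extRight_castAdd]
      exact hτ.1 (hσ.1 h)
    · intro j j' h
      simp only [Perm.mul_apply, extRight_castAdd]
      exact hτ.1 (hσ.2 h)
    · intro l l' h
      simp only [Perm.mul_apply, extRight_natAdd]
      exact hτ.2 h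
  · rintro ⟨τ₁, σ₁⟩ ⟨hτ₁, hσ₁⟩ ⟨τ₂, σ₂⟩ ⟨hτ₂, hσ₂⟩ heq
    simp only [Set.mem_setOf_eq] at hτ₁ hσ₁ hτ₂ hσ₂
    have heq' : τ₁ * extRight (r + s) t σ₁ = τ₂ * extRight (r + s) t σ₂ := heq
    have hτ : τ₁ = τ₂ := by
      apply shuffle_eq_of_last _ _ _ _ hτ₁ hτ₂
      intro j
      have h1 := congrArg (fun ν : Perm (Fin (r + s + t)) => ν (Fin.natAdd (r + s) j)) heq'
      simpa only [Perm.mul_apply, extRight_natAdd] using h1
    subst hτ
    have hext := mul_left_cancel heq'
    have hσ : σ₁ = σ₂ := by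
      apply Equiv.ext; intro i
      have h1 := congrArg (fun ν : Perm (Fin (r + s + t)) => ν (Fin.castAdd t i)) hext
      simp only [extRight_castAdd] at h1
      exact Fin.castAdd_injective _ _ h1
    rw [hσ]
  · intro ν hν
    have hν' : IsShuffle₃ r s t ν := hν
    obtain ⟨τ, hτ, hτν⟩ := exists_shuffle_of_last (r + s) t ν hν'.2.2
    obtain ⟨σ, hσ⟩ := exists_extRight_eq (r + s) t (τ⁻¹ * ν) (by
      intro j
      rw [Perm.mul_apply, ← hτν j]; simp)
    have hprod : τ * extRight (r + s) t σ = ν := by rw [hσ, mul_inv_cancel_left]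
    have hsm : StrictMono (fun i : Fin (r + s) => τ (Fin.castAdd t i)) :=
      hτ.1.strictMono_of_injective (inj_first (r + s) t τ)
    refine ⟨(τ, σ), Set.mk_mem_prod hτ ⟨?_, ?_⟩, hprod⟩
    · intro i i' h
      have h1 := hν'.1 h
      simp only [← hprod, Perm.mul_apply, extRight_castAdd] at h1
      exact hsm.le_iff_le.mp h1
    · intro j j' h
      have h1 := hν'.2.1 h
      simp only [← hprod, Perm.mul_apply, extRight_castAdd] at h1
      exact hsm.le_iff_le.mp h1

end Groth.Agent.S15080
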