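import Groth.Statements.S15082
-- import your own Groth.Agent.* helpers here
import Mathlib
import Groth.Agent.S15080
import Groth.Agent.S15081

set_option autoImplicit false
open W4c2movlemaddchow

namespace Groth.Agent.S15082

open Equiv

theorem sum_single_of_bijOn {n a : ℕ} (P : Perm (Fin n) → Prop) [DecidablePred P]
    (Q : Perm (Fin a) → Prop) [DecidablePred Q]
    (R : Perm (Fin n) → Prop) [DecidablePred R] (E : Perm (Fin a) → Perm (Fin n))
    (hE : ∀ σ, Perm.sign (E σ) = Perm.sign σ)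
    (hB : Set.BijOn (fun p : Perm (Fin n) × Perm (Fin a) => p.1 * E p.2)
      ({τ | P τ} ×ˢ {σ | Q σ}) {ν | R ν}) :
    (∑ ν ∈ Finset.univ.filter R, MonoidAlgebra.single ν (((Perm.sign ν : ℤˣ) : ℤ)) :
        MonoidAlgebra ℤ (Perm (Fin n))) =
      ∑ τ ∈ Finset.univ.filter P, ∑ σ ∈ Finset.univ.filter Q,
        MonoidAlgebra.single (τ * E σ)
          (((Perm.sign τ : ℤˣ) : ℤ) * ((Perm.sign σ : ℤˣ) : ℤ)) := by
  rw [← Finset.sum_product' (Finset.univ.filter P) (Finset.univ.filter Q)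
    (fun τ σ => (MonoidAlgebra.single (τ * E σ)
      (((Perm.sign τ : ℤˣ) : ℤ) * ((Perm.sign σ : ℤˣ) : ℤ)) : MonoidAlgebra ℤ (Perm (Fin n))))]
  symm
  have hs : (↑(Finset.univ.filter P ×ˢ Finset.univ.filter Q) : Set (Perm (Fin n) × Perm (Fin a))) =
      {τ | P τ} ×ˢ {σ | Q σ} := by
    ext ⟨τ, σ⟩; simp
  have ht : (↑(Finset.univ.filter R) : Set (Perm (Fin n))) = {ν | R ν} := by
    ext ν; simp
  refine Finset.sum_nbij (fun p : Perm (Fin n) × Perm (Fin a) => p.1 * E p.2) ?_ ?_ ?_ ?_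
  · intro p hp
    have h1 : p ∈ (↑(Finset.univ.filter P ×ˢ Finset.univ.filter Q) :
        Set (Perm (Fin n) × Perm (Fin a))) := Finset.mem_coe.mpr hp
    rw [hs] at h1
    have h2 := hB.mapsTo h1
    rw [← ht] at h2
    exact Finset.mem_coe.mp h2
  · rw [hs]; exact hB.injOn
  · rw [hs, ht]; exact hB.surjOn
  · intro p hp
    simp only [Perm.sign_mul, hE, Units.val_mul]

theorem sign_extRight (a t : ℕ) (σ : Perm (Fin a)) :
    Perm.sign (W4c2movlemaddchow.extRight a t σ) = Perm.sign σ := by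
  simp [W4c2movlemaddchow.extRight, Perm.sign_permCongr, Perm.sign_sumCongr]

theorem sign_extLeft (r s t : ℕ) (σ : Perm (Fin (s + t))) :
    Perm.sign (W4c2movlemaddchow.extLeft r s t σ) = Perm.sign σ := by
  simp [W4c2movlemaddchow.extLeft, Perm.sign_permCongr, Perm.sign_sumCongr]

/-- Let r, s, t ≥ 1. In the group ring ℤ[S_{r+s+t}] the element Σ_ν sgn(ν) ν, summed over all (r, s,
t)-shuffles ν, equals Σ_τ Σ_σ sgn(τ) sgn(σ) τ ∘ (σ × id), summed over (r+s, t)-shuffles τ and (r,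
s)-shuffles σ of the first r+s letters, and also equals Σ_{τ'} Σ_{σ'} sgn(τ') sgn(σ') τ' ∘ (id ×
σ'), summed over (r, s+t)-shuffles τ' and (s, t)-shuffles σ' of the last s+t letters. (Shuffles are
permutations monotone on each consecutive block; composites apply the right-hand factor first.) -/
theorem result (r s t : ℕ) (hr : 1 ≤ r) (hs : 1 ≤ s) (ht : 1 ≤ t) :
    ((∑ ν ∈ Finset.univ.filter (W4c2movlemaddchow.IsShuffle₃ r s t),
        MonoidAlgebra.single ν (((Equiv.Perm.sign ν : ℤˣ) : ℤ)) :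
          MonoidAlgebra ℤ (Equiv.Perm (Fin (r + s + t)))) =
      ∑ τ ∈ Finset.univ.filter (W4c2movlemaddchow.IsShuffle₂ (r + s) t),
        ∑ σ ∈ Finset.univ.filter (W4c2movlemaddchow.IsShuffle₂ r s),
          MonoidAlgebra.single (τ * W4c2movlemaddchow.extRight (r + s) t σ)
            (((Equiv.Perm.sign τ : ℤˣ) : ℤ) * ((Equiv.Perm.sign σ : ℤˣ) : ℤ))) ∧
    ((∑ ν ∈ Finset.univ.filter (W4c2movlemaddchow.IsShuffle₃ r s t),
        MonoidAlgebra.single ν (((Equiv.Perm.sign ν : ℤˣ) : ℤ)) :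
          MonoidAlgebra ℤ (Equiv.Perm (Fin (r + s + t)))) =
      ∑ τ ∈ Finset.univ.filter (fun τ : Equiv.Perm (Fin (r + s + t)) =>
          W4c2movlemaddchow.IsShuffle₂ r (s + t) ((finCongr (Nat.add_assoc r s t)).permCongr τ)),
        ∑ σ ∈ Finset.univ.filter (W4c2movlemaddchow.IsShuffle₂ s t),
          MonoidAlgebra.single (τ * W4c2movlemaddchow.extLeft r s t σ)
            (((Equiv.Perm.sign τ : ℤˣ) : ℤ) * ((Equiv.Perm.sign σ : ℤˣ) : ℤ))) := by
  refine ⟨?_, ?_⟩
  · exact sum_single_of_bijOn _ _ _ _ (sign_extRight (r + s) t)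
      (Groth.Agent.S15080.result r s t hr hs ht)
  · exact sum_single_of_bijOn _ _ _ _ (sign_extLeft r s t)
      (Groth.Agent.S15081.result r s t hr hs ht)

end Groth.Agent.S15082
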