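import Groth.Statements.S15083
-- import your own Groth.Agent.* helpers here
import Mathlib

set_option autoImplicit false
universe u
open MovLem

namespace Groth.Agent.S15083

open Matrix Polynomial

section helpers

variable {n : Type*} [Fintype n] [DecidableEq n] {K : Type*} [Field K]

/-- `B` is joined to `1` by a polynomial path of determinant one. -/
def Conn (B : Matrix n n K) : Prop :=
  ∃ M : Matrix n n K[X], M.det = 1 ∧ (Polynomial.evalRingHom (0 : K)).mapMatrix M = 1 ∧
    (Polynomial.evalRingHom (1 : K)).mapMatrix M = B

lemma conn_one : Conn (1 : Matrix n n K) := ⟨1, det_one, map_one _, map_one _⟩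

lemma conn_mul {B B' : Matrix n n K} (h : Conn B) (h' : Conn B') : Conn (B * B') := by
  obtain ⟨M, hM, h0, h1⟩ := h
  obtain ⟨M', hM', h0', h1'⟩ := h'
  exact ⟨M * M', by rw [det_mul, hM, hM', one_mul], by rw [map_mul, h0, h0', one_mul],
    by rw [map_mul, h1, h1']⟩

lemma conn_det {B : Matrix n n K} (h : Conn B) : B.det = 1 := by
  obtain ⟨M, hM, _, h1⟩ := h
  rw [← h1, ← RingHom.map_det, hM, map_one]

lemma mapMatrix_transvection {R S : Type*} [CommRing R] [CommRing S] (f : R →+* S) (i j : n)
    (c : R) : f.mapMatrix (transvection i j c) = transvection i j (f c) := by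
  ext k l
  simp only [RingHom.mapMatrix_apply, Matrix.map_apply, transvection, Matrix.add_apply,
    one_apply, single_apply]
  split_ifs <;> simp

lemma conn_transvection (i j : n) (hij : i ≠ j) (c : K) : Conn (transvection i j c) := by
  refine ⟨transvection i j (C c * X), det_transvection_of_ne i j hij _, ?_, ?_⟩
  · rw [mapMatrix_transvection]; simp [transvection_zero]
  · rw [mapMatrix_transvection]; simp

lemma conn_list (L : List (TransvectionStruct n K)) :
    Conn (L.map TransvectionStruct.toMatrix).prod := by
  induction L with
  | nil => simpa using (conn_one : Conn (1 : Matrix n n K))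
  | cons t L ih =>
    rw [List.map_cons, List.prod_cons]
    exact conn_mul (conn_transvection t.i t.j t.hij t.c) ih

lemma w_eq (a b : n) (hab : a ≠ b) (x : K) (hx : x ≠ 0) :
    transvection a b x * transvection b a (-x⁻¹) * transvection a b x
      = 1 - single a a 1 - single b b 1 + single a b x - single b a x⁻¹ := by
  have hba : b ≠ a := hab.symm
  simp only [transvection, mul_add, add_mul, mul_one, one_mul, single_mul_single_same,
    single_mul_single_of_ne _ _ _ _ hab, single_mul_single_of_ne _ _ _ _ hba]
  ext k l
  simp only [Matrix.add_apply, Matrix.sub_apply, one_apply, single_apply, Matrix.zero_apply]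
  split_ifs <;> simp_all <;> field_simp <;> ring

lemma ww_eq (a b : n) (hab : a ≠ b) (x : K) (hx : x ≠ 0) :
    (1 - single a a 1 - single b b 1 + single a b x - single b a x⁻¹ : Matrix n n K) *
    (1 - single a a 1 - single b b 1 + single a b (-1) - single b a (-1)⁻¹)
      = diagonal (Function.update (Function.update 1 a x) b x⁻¹) := by
  have hba : b ≠ a := hab.symm
  simp only [mul_add, add_mul, mul_sub, sub_mul, mul_one, one_mul, single_mul_single_same,
    single_mul_single_of_ne _ _ _ _ hab, single_mul_single_of_ne _ _ _ _ hba]
  ext k l
  simp only [Matrix.add_apply, Matrix.sub_apply, one_apply, single_apply, Matrix.zero_apply,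
    diagonal_apply, Function.update_apply, Pi.one_apply]
  by_cases hka : k = a
  · subst hka
    by_cases hla : l = k
    · subst hla
      simp [hab, hba]
    · by_cases hlb : l = b
      · subst hlb
        simp [hab, hba]
      · simp [hab, hba, hla, hlb, Ne.symm hla, Ne.symm hlb]
  · by_cases hkb : k = b
    · subst hkb
      by_cases hla : l = a
      · subst hla
        simp [hab, hba]
      · by_cases hlb : l = k
        · subst hlb
          simp [hab, hba, hx]
        · simp [hab, hba, hla, hlb, Ne.symm hla, Ne.symm hlb]
    · by_cases hla : l = a
      · subst hla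
        simp [hab, hba, hka, hkb, Ne.symm hka, Ne.symm hkb]
      · by_cases hlb : l = b
        · subst hlb
          simp [hab, hba, hka, hkb, Ne.symm hka, Ne.symm hkb]
        · simp [hab, hba, hla, hlb, Ne.symm hla, Ne.symm hlb, hka, hkb, Ne.symm hka,
            Ne.symm hkb]

lemma conn_whitehead (a b : n) (hab : a ≠ b) (x : K) (hx : x ≠ 0) :
    Conn (diagonal (Function.update (Function.update (1 : n → K) a x) b x⁻¹)) := by
  have h1 : (-1 : K) ≠ 0 := by norm_num
  rw [← ww_eq a b hab x hx, ← w_eq a b hab x hx, ← w_eq a b hab (-1) h1]
  exact conn_mul (conn_mul (conn_mul (conn_transvection a b hab x)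
    (conn_transvection b a hab.symm _)) (conn_transvection a b hab x))
    (conn_mul (conn_mul (conn_transvection a b hab _) (conn_transvection b a hab.symm _))
      (conn_transvection a b hab _))

lemma conn_diagonal_aux (s : Finset n) : ∀ d : n → K, (∀ i, d i ≠ 0) →
    (∀ i, i ∉ s → d i = 1) → ∏ i, d i = 1 → Conn (diagonal d) := by
  induction s using Finset.induction_on with
  | empty =>
    intro d _ h1 _
    have hd1 : d = 1 := funext fun i => h1 i (Finset.notMem_empty i)
    have h3 : diagonal (1 : n → K) = 1 := diagonal_one
    rw [hd1, h3]; exact conn_one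
  | insert a s has ih =>
    intro d hd h1 hprod
    by_cases hda : d a = 1
    · refine ih d hd (fun i hi => ?_) hprod
      by_cases hia : i = a
      · rw [hia]; exact hda
      · exact h1 i (by simp [hia, hi])
    · have hex : ∃ b, b ≠ a ∧ d b ≠ 1 := by
        by_contra hne
        have hne' : ∀ b, b ≠ a → d b = 1 := by
          intro b hb
          by_contra h
          exact hne ⟨b, hb, h⟩
        have h2 : ∏ i, d i = d a := by
          rw [Finset.prod_eq_single a]
          · intro b _ hb; exact hne' b hb
          · intro h; exact absurd (Finset.mem_univ a) h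
        rw [h2] at hprod
        exact hda hprod
      obtain ⟨b, hba, hdb⟩ := hex
      have hbs : b ∈ s := by
        by_contra hbs
        exact hdb (h1 b (by simp [hba, hbs]))
      have hab : a ≠ b := hba.symm
      obtain ⟨d', hd'⟩ : ∃ d' : n → K,
          d' = Function.update (Function.update d a 1) b (d a * d b) := ⟨_, rfl⟩
      have hd'a : d' a = 1 := by rw [hd']; simp [hab]
      have hd'b : d' b = d a * d b := by rw [hd']; simp
      have hd'i : ∀ i, i ≠ a → i ≠ b → d' i = d i := by
        intro i hia hib; rw [hd']; simp [hia, hib]
      have hW := conn_whitehead a b hab (d a) (hd a)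
      have hmul : diagonal d = diagonal d' *
          diagonal (Function.update (Function.update (1 : n → K) a (d a)) b (d a)⁻¹) := by
        rw [diagonal_mul_diagonal]
        congr 1
        funext i
        by_cases hia : i = a
        · have e2 : Function.update (Function.update (1 : n → K) a (d a)) b (d a)⁻¹ a = d a := by
            simp [hab]
          rw [hia, hd'a, e2, one_mul]
        · by_cases hib : i = b
          · have e2 : Function.update (Function.update (1 : n → K) a (d a)) b (d a)⁻¹ b
                = (d a)⁻¹ := by simp
            rw [hib, hd'b, e2, mul_comm (d a) (d b), mul_assoc, mul_inv_cancel₀ (hd a), mul_one]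
          · have e2 : Function.update (Function.update (1 : n → K) a (d a)) b (d a)⁻¹ i = 1 := by
              simp [hia, hib]
            rw [hd'i i hia hib, e2, mul_one]
      have hd'0 : ∀ i, d' i ≠ 0 := by
        intro i
        by_cases hia : i = a
        · rw [hia, hd'a]; exact one_ne_zero
        · by_cases hib : i = b
          · rw [hib, hd'b]; exact mul_ne_zero (hd a) (hd b)
          · rw [hd'i i hia hib]; exact hd i
      have hd'1 : ∀ i, i ∉ s → d' i = 1 := by
        intro i hi
        have hib : i ≠ b := fun h => hi (h ▸ hbs)
        by_cases hia : i = a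
        · rw [hia, hd'a]
        · rw [hd'i i hia hib]; exact h1 i (by simp [hia, hi])
      have hprod' : ∏ i, d' i = 1 := by
        have h2 := congrArg Matrix.det hmul
        rw [det_mul, conn_det hW, mul_one, det_diagonal, det_diagonal, hprod] at h2
        exact h2.symm
      rw [hmul]
      exact conn_mul (ih d' hd'0 hd'1 hprod') hW

end helpers

/-- Let K be a field and r ≥ 1. For every element A of the special linear group SL_{r+1}(K) there is an
algebraic path in SL_{r+1} from the identity to A defined over K: a matrix M of determinant 1 with
entries in the polynomial ring K[y] such that M(0) is the identity matrix and M(1) = A. (The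
published statement takes K to be the function field of SL_{r+1} over the ground field, A its
generic point viewed as a K-rational point, and the parameter space to be the projective line minus
the point 1, with endpoints 0 and ∞; this row gives the path for an arbitrary K-point A on the
affine line with endpoints 0 and 1, which is what the published construction provides before
composing with the coordinate change y ↦ y/(y − 1).) -/
theorem result
    (K : Type u) [Field K] (r : ℕ) (hr : 1 ≤ r)
    (A : Matrix.SpecialLinearGroup (Fin (r + 1)) K) :
    ∃ M : Matrix.SpecialLinearGroup (Fin (r + 1)) (Polynomial K),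
      Matrix.SpecialLinearGroup.map (Polynomial.evalRingHom (0 : K)) M = 1 ∧
      Matrix.SpecialLinearGroup.map (Polynomial.evalRingHom (1 : K)) M = A := by
  obtain ⟨L, L', D, hA⟩ := Pivot.exists_list_transvec_mul_diagonal_mul_list_transvec
    (A : Matrix (Fin (r + 1)) (Fin (r + 1)) K)
  have hdet : (A : Matrix (Fin (r + 1)) (Fin (r + 1)) K).det = 1 := A.2
  have hD : ∏ i, D i = 1 := by
    rw [hA, det_mul, det_mul, TransvectionStruct.det_toMatrix_prod,
      TransvectionStruct.det_toMatrix_prod, det_diagonal, one_mul, mul_one] at hdet
    exact hdet
  have hD0 : ∀ i, D i ≠ 0 := by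
    intro i hi
    have h2 : ∏ j, D j = 0 := Finset.prod_eq_zero (Finset.mem_univ i) hi
    rw [hD] at h2; exact one_ne_zero h2
  have hconn : Conn (A : Matrix (Fin (r + 1)) (Fin (r + 1)) K) := by
    rw [hA]
    exact conn_mul (conn_mul (conn_list L) (conn_diagonal_aux Finset.univ D hD0
      (fun i hi => absurd (Finset.mem_univ i) hi) hD)) (conn_list L')
  obtain ⟨M, hM, h0, h1⟩ := hconn
  refine ⟨⟨M, hM⟩, ?_, ?_⟩
  · apply Subtype.ext
    rw [SpecialLinearGroup.map_apply_coe]
    exact h0
  · apply Subtype.ext
    rw [SpecialLinearGroup.map_apply_coe]
    exact h1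

end Groth.Agent.S15083
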