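import Groth.Statements.S15084
-- import your own Groth.Agent.* helpers here
import Mathlib

set_option autoImplicit false
universe u
open MovLem

namespace Groth.Agent.S15084

/-- Let A be a Noetherian integrally closed domain with fraction field K, let B be a domain with
fraction field L, and let A → B be an injective ring homomorphism, with K → L the induced map of
fraction fields, such that Spec B → Spec A is surjective (every prime ideal of A is the contraction
of a prime ideal of B). If a ∈ K is such that its image in L lies in B, then a ∈ A. (The published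
statement: for a surjective morphism f : Y → X of normal integral separated schemes of finite type
over a perfect field and a Cartier divisor D on X, if f^*D is effective then D is effective; a
Cartier divisor is locally the divisor of a nonzero rational function a, effectivity of div(a) on a
normal scheme means that a is a regular function, and this row is that local statement, which is
what the published proof establishes.) -/
theorem result
    (A B K L : Type u) [CommRing A] [IsDomain A] [IsNoetherianRing A] [IsIntegrallyClosed A]
    [CommRing B] [IsDomain B] [Field K] [Field L]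
    [Algebra A B] [Algebra A K] [IsFractionRing A K] [Algebra B L] [IsFractionRing B L]
    [Algebra K L] [Algebra A L] [IsScalarTower A K L] [IsScalarTower A B L]
    (hinj : Function.Injective (algebraMap A B))
    (hsurj : ∀ p : Ideal A, p.IsPrime → ∃ q : Ideal B, q.IsPrime ∧ q.comap (algebraMap A B) = p)
    (a : K) (ha : algebraMap K L a ∈ (algebraMap B L).range) :
    a ∈ (algebraMap A K).range := by
  by_contra hna
  obtain ⟨β, hβ⟩ := ha
  have hR0 : ∀ x : K, x ∈ LinearMap.range (Algebra.linearMap A K) ↔
      ∃ w : A, algebraMap A K w = x := fun x => by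
    simp [LinearMap.mem_range, Algebra.linearMap_apply]
  have hI : ∀ z : A, z ∈ (LinearMap.range (Algebra.linearMap A K)).colon {a} ↔
      z • a ∈ LinearMap.range (Algebra.linearMap A K) := fun z => Submodule.mem_colon_singleton
  have hI1 : (LinearMap.range (Algebra.linearMap A K)).colon {a} ≠ ⊤ := by
    intro h
    have h1 : (1 : A) ∈ (LinearMap.range (Algebra.linearMap A K)).colon {a} := h ▸ Submodule.mem_top
    rw [hI, one_smul, hR0] at h1
    obtain ⟨w, hw⟩ := h1
    exact hna ⟨w, hw⟩
  haveI : Nontrivial (A ⧸ (LinearMap.range (Algebra.linearMap A K)).colon {a}) :=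
    Ideal.Quotient.nontrivial_iff.mpr hI1
  obtain ⟨P, hP⟩ := associatedPrimes.nonempty A
    (A ⧸ (LinearMap.range (Algebra.linearMap A K)).colon {a})
  rw [AssociatedPrimes.mem_iff, isAssociatedPrime_iff] at hP
  obtain ⟨hPprime, x, hPx⟩ := hP
  obtain ⟨c, rfl⟩ := Ideal.Quotient.mk_surjective x
  have hPmem : ∀ z : A, z ∈ P ↔
      ∃ w : A, algebraMap A K w = algebraMap A K z * (algebraMap A K c * a) := by
    intro z
    rw [hPx, Submodule.mem_colon_singleton, Submodule.mem_bot]
    have h1 : z • (Ideal.Quotient.mk ((LinearMap.range (Algebra.linearMap A K)).colon {a}) c) =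
        Ideal.Quotient.mk ((LinearMap.range (Algebra.linearMap A K)).colon {a}) (z * c) := rfl
    rw [h1, Ideal.Quotient.eq_zero_iff_mem, hI, hR0, Algebra.smul_def, map_mul, mul_assoc]
  have hP1 : (1 : A) ∉ P := fun h => hPprime.ne_top ((Ideal.eq_top_iff_one P).mpr h)
  have hPbot : P ≠ ⊥ := by
    obtain ⟨x, y, hy, hxy⟩ := IsFractionRing.div_surjective (A := A) (algebraMap A K c * a)
    have hy0 : algebraMap A K y ≠ 0 := IsFractionRing.to_map_ne_zero_of_mem_nonZeroDivisors hy
    have hyP : y ∈ P := (hPmem y).mpr ⟨x, by rw [← hxy]; field_simp⟩
    intro h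
    rw [h, Ideal.mem_bot] at hyP
    exact nonZeroDivisors.ne_zero hy hyP
  have hclaim : ∃ u ∈ P, ∃ v : A, v ∉ P ∧
      algebraMap A K v = algebraMap A K u * (algebraMap A K c * a) := by
    by_contra hcon
    have hstab : ∀ u ∈ P, ∀ v : A,
        algebraMap A K v = algebraMap A K u * (algebraMap A K c * a) → v ∈ P := by
      intro u hu v hv
      by_contra hvP
      exact hcon ⟨u, hu, v, hvP, hv⟩
    have hint : IsIntegral A (algebraMap A K c * a) := by
      refine isIntegral_of_smul_mem_submodule (Submodule.map (Algebra.linearMap A K) P) ?_ ?_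
        (algebraMap A K c * a) ?_
      · intro h
        apply hPbot
        rw [eq_bot_iff]
        intro u hu
        have h1 : Algebra.linearMap A K u ∈ Submodule.map (Algebra.linearMap A K) P :=
          Submodule.mem_map_of_mem hu
        rw [h, Submodule.mem_bot, Algebra.linearMap_apply] at h1
        rw [Ideal.mem_bot]
        exact (IsFractionRing.injective A K) (by rw [h1, map_zero])
      · exact (IsNoetherian.noetherian P).map _
      · intro n hn
        obtain ⟨u, hu, rfl⟩ := hn
        obtain ⟨v, hv⟩ := (hPmem u).mp hu
        refine ⟨v, hstab u hu v hv, ?_⟩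
        rw [Algebra.linearMap_apply, Algebra.linearMap_apply, hv, smul_eq_mul, mul_comm]
    obtain ⟨w, hw⟩ := IsIntegrallyClosed.isIntegral_iff.mp hint
    exact hP1 ((hPmem 1).mpr ⟨w, by rw [map_one, one_mul, hw]⟩)
  obtain ⟨u, hu, v, hv, huv⟩ := hclaim
  obtain ⟨q, hq, hqP⟩ := hsurj P hPprime
  apply hv
  rw [← hqP, Ideal.mem_comap]
  have hB : algebraMap A B v = algebraMap A B u * (algebraMap A B c * β) := by
    apply IsFractionRing.injective B L
    rw [map_mul, map_mul, hβ]
    simp only [← IsScalarTower.algebraMap_apply A B L]
    simp only [IsScalarTower.algebraMap_apply A K L]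
    rw [huv, map_mul, map_mul]
  rw [hB]
  exact q.mul_mem_right _ (by rw [← Ideal.mem_comap, hqP]; exact hu)

end Groth.Agent.S15084
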