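import Groth.Statements.S15116
-- import your own Groth.Agent.* helpers here
import Mathlib

set_option autoImplicit false
universe u v
open NRGIT

namespace Groth.Agent.S15116

/-- Let k be a characteristic-zero field and A a commutative k-algebra, graded by the integers with all
pieces of positive degree zero, and D a k-derivation of A that raises degrees by a fixed positive
integer l. If no maximal ideal of A contains both every piece of negative degree and the image of D,
then there is f with D f = 1. (The published statement is for an affine variety with an action of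
the semidirect product of the additive and multiplicative groups, the multiplicative group acting on
the coordinate ring with non-positive weights and on the Lie algebra of the additive group with
positive weight: the derivation is a generator of that Lie algebra, the maximal ideals containing
the pieces of negative degree are the limit points under the multiplicative group, and a limit point
has trivial additive stabiliser exactly when the image of D is not contained in its ideal; this row
keeps only this algebraic content, for any such graded algebra. The first assertion of the published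
lemma, that every point has a limit in the variety under the multiplicative group as t → 0, is not
part of this row.) -/
theorem result (k : Type u) [Field k] [CharZero k]
    (A : Type v) [CommRing A] [Algebra k A] (𝒜 : ℤ → Submodule k A) [GradedAlgebra 𝒜]
    (hpos : ∀ i : ℤ, 0 < i → 𝒜 i = ⊥)
    (D : Derivation k A A) (l : ℤ) (hl : 0 < l)
    (hD : ∀ (i : ℤ) (a : A), a ∈ 𝒜 i → D a ∈ 𝒜 (i + l))
    (hfree : ∀ m : Ideal A, m.IsMaximal → (∀ i : ℤ, i < 0 → (𝒜 i : Set A) ⊆ m) → ∃ a : A, D a ∉ m) :
    ∃ f : A, D f = 1 := by
  classical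
  let π₀ : A →ₗ[k] A := GradedAlgebra.proj 𝒜 0
  have hπsame : ∀ x, x ∈ 𝒜 0 → π₀ x = x := fun x hx => by
    simp only [π₀, GradedAlgebra.proj_apply]; exact DirectSum.decompose_of_mem_same 𝒜 hx
  have hπne : ∀ (i : ℤ) x, x ∈ 𝒜 i → i ≠ 0 → π₀ x = 0 := fun i x hx hi => by
    simp only [π₀, GradedAlgebra.proj_apply]; exact DirectSum.decompose_of_mem_ne 𝒜 hx hi
  have hzero : ∀ (i : ℤ) x, 0 < i → x ∈ 𝒜 i → x = 0 := fun i x hi hx => by
    rw [hpos i hi] at hx; exact (Submodule.mem_bot k).mp hx
  let R : Submodule k A := LinearMap.range (D : A →ₗ[k] A)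
  have hA : ∀ (i : ℤ) (n : A), i < 0 → n ∈ 𝒜 i → ∀ c, π₀ (c * n) = 0 := by
    intro i n hi hn c
    refine DirectSum.Decomposition.inductionOn 𝒜 (motive := fun c => π₀ (c * n) = 0) ?_ ?_ ?_ c
    · simp
    · intro j m
      by_cases hj : j + i = 0
      · have : (m : A) = 0 := hzero j m (by omega) m.2
        rw [this, zero_mul, map_zero]
      · exact hπne (j + i) _ (SetLike.mul_mem_graded m.2 hn) hj
    · intro m m' h h'
      show π₀ ((m + m') * n) = 0
      rw [add_mul, map_add, h, h', add_zero]
  have hB : ∀ c a, π₀ (c * D a) ∈ R := by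
    intro c a
    refine DirectSum.Decomposition.inductionOn 𝒜 (motive := fun a => π₀ (c * D a) ∈ R) ?_ ?_ ?_ a
    · simp
    · intro j a'
      refine DirectSum.Decomposition.inductionOn 𝒜 (motive := fun c => π₀ (c * D a') ∈ R) ?_ ?_ ?_ c
      · simp
      · intro i c'
        have hDa : D (a' : A) ∈ 𝒜 (j + l) := hD j _ a'.2
        by_cases hij : i + (j + l) = 0
        · have hmem : (c' : A) * D (a' : A) ∈ 𝒜 0 := by
            rw [← hij]; exact SetLike.mul_mem_graded c'.2 hDa
          rw [hπsame _ hmem]
          by_cases hjl : 0 < j + l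
          · rw [hzero _ _ hjl hDa, mul_zero]; exact R.zero_mem
          · have hDc : D (c' : A) = 0 := hzero (i + l) _ (by omega) (hD i _ c'.2)
            refine ⟨(c' : A) * a', ?_⟩
            show D ((c' : A) * a') = _
            rw [Derivation.leibniz, hDc, smul_zero, add_zero, smul_eq_mul]
        · rw [hπne _ _ (SetLike.mul_mem_graded c'.2 hDa) hij]; exact R.zero_mem
      · intro m m' h h'
        show π₀ ((m + m') * D a') ∈ R
        rw [add_mul, map_add]; exact R.add_mem h h'
    · intro m m' h h'
      show π₀ (c * D (m + m')) ∈ R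
      rw [map_add, mul_add, map_add]; exact R.add_mem h h'
  let S : Set A := ⋃ (i : ℤ) (_ : i < 0), (𝒜 i : Set A)
  have hJ : Ideal.span (Set.range D) ⊔ Ideal.span S = ⊤ := by
    by_contra hne
    obtain ⟨m, hm, hle⟩ := Ideal.exists_le_maximal _ hne
    obtain ⟨a, ha⟩ := hfree m hm (fun i hi x hx =>
      hle (Ideal.mem_sup_right (Ideal.subset_span (Set.mem_iUnion₂.mpr ⟨i, hi, hx⟩))))
    exact ha (hle (Ideal.mem_sup_left (Ideal.subset_span ⟨a, rfl⟩)))
  have h1 : (1 : A) ∈ Ideal.span (Set.range D) ⊔ Ideal.span S := hJ ▸ Submodule.mem_top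
  obtain ⟨y, hy, z, hz, hyz⟩ := Submodule.mem_sup.mp h1
  have hy' : ∀ c, π₀ (c * y) ∈ R := by
    refine Submodule.span_induction (p := fun y _ => ∀ c, π₀ (c * y) ∈ R) ?_ ?_ ?_ ?_ hy
    · rintro _ ⟨a, rfl⟩ c; exact hB c a
    · intro c; simp
    · intro u v _ _ hu hv c; rw [mul_add, map_add]; exact R.add_mem (hu c) (hv c)
    · intro r u _ hu c; rw [smul_eq_mul, ← mul_assoc]; exact hu (c * r)
  have hz' : ∀ c, π₀ (c * z) = 0 := by
    refine Submodule.span_induction (p := fun z _ => ∀ c, π₀ (c * z) = 0) ?_ ?_ ?_ ?_ hz
    · intro n hn c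
      obtain ⟨i, hi, hn'⟩ := Set.mem_iUnion₂.mp hn
      exact hA i n hi hn' c
    · intro c; simp
    · intro u v _ _ hu hv c; rw [mul_add, map_add, hu, hv, add_zero]
    · intro r u _ hu c; rw [smul_eq_mul, ← mul_assoc]; exact hu (c * r)
  have h2 : π₀ 1 = 1 := hπsame 1 (SetLike.one_mem_graded 𝒜)
  have h3 : (1 : A) ∈ R := by
    have hy1 := hy' 1
    have hz1 := hz' 1
    rw [one_mul] at hy1 hz1
    have h4 : π₀ (y + z) = π₀ y := by rw [map_add, hz1, add_zero]
    rw [hyz, h2] at h4
    rw [h4]; exact hy1
  obtain ⟨f, hf⟩ := h3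
  exact ⟨f, hf⟩

end Groth.Agent.S15116
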