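import Groth.Statements.S15117
-- import your own Groth.Agent.* helpers here
import Mathlib

set_option autoImplicit false
universe u v w
open TensorProduct
open NRGIT

namespace Groth.Agent.S15117

/-- Let k be a field, π : A → B a map of commutative bialgebras over k, W a right A-comodule and V ⊆ W a
subcomodule all of whose elements are coinvariant for the B-coaction induced through π. Then the
coaction of every v ∈ V lies in V ⊗ A' ⊆ W ⊗ A, where A' ⊆ A is the set of elements a with (π ⊗
id)(Δ a) = 1 ⊗ a, i.e. coinvariant for the coaction of B on A through π on the left factor; the row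
states membership in the span of the pure tensors w ⊗ a with w ∈ V and a ∈ A'. (The published
statement is for a linear algebraic group H over an algebraically closed field of characteristic
zero, a normal subgroup N and an H-stable space V of N-invariant sections of a linearised line
bundle, with the coaction landing in O(H)^N ⊗ V, where O(H)^N is the ring of functions on H
invariant under N acting by right multiplication; this row is the comodule form, for any bialgebra
map over a field, where normality of N is not needed.) -/
theorem result (k : Type u) [Field k]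
    (A B : Type v) [CommRing A] [CommRing B] [Bialgebra k A] [Bialgebra k B] (π : A →ₐc[k] B)
    (W : Type w) [AddCommGroup W] [Module k W] [HopfRep.Comod k A W]
    (V : Submodule k W) (hV : HopfRep.IsSubcomod (k := k) (A := A) V)
    (hfix : ∀ v ∈ V, (π.toLinearMap.lTensor W) (HopfRep.Comod.coact (k := k) (A := A) v) = v ⊗ₜ[k] (1 : B))
    (v : W) (hv : v ∈ V) :
    HopfRep.Comod.coact (k := k) (A := A) v ∈
      Submodule.span k {x : W ⊗[k] A | ∃ w ∈ V, ∃ a : A,
        (π.toLinearMap.rTensor A) (Coalgebra.comul (R := k) a) = (1 : B) ⊗ₜ[k] a ∧ x = w ⊗ₜ[k] a} := by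
  classical
  obtain ⟨t, ht⟩ := hV v hv
  set p : A →ₗ[k] B := π.toLinearMap with hp
  set ρ : W →ₗ[k] W ⊗[k] A := HopfRep.Comod.coact (k := k) (A := A) with hρ
  have hfix' : (p.lTensor W ∘ₗ ρ) ∘ₗ V.subtype
      = ((TensorProduct.mk k W B).flip 1) ∘ₗ V.subtype := by
    apply LinearMap.ext
    intro x
    exact hfix x.1 x.2
  have E1 : (p.lTensor W).rTensor A (ρ.rTensor A (ρ v))
      = ((TensorProduct.mk k W B).flip 1).rTensor A (ρ v) := by
    rw [← ht]
    have h1 := congrArg (fun φ => (LinearMap.rTensor A φ) t) hfix'
    simp only [LinearMap.rTensor_comp, LinearMap.comp_apply] at h1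
    exact h1
  have E2 : (TensorProduct.assoc k W A A) (ρ.rTensor A (ρ v))
      = (LinearMap.lTensor W (Coalgebra.comul (R := k) (A := A))) (ρ v) :=
    LinearMap.congr_fun (HopfRep.Comod.coassoc (k := k) (A := A) (V := W)) v
  have E3 : ∀ z : (W ⊗[k] A) ⊗[k] A,
      (LinearMap.lTensor W (p.rTensor A)) (TensorProduct.assoc k W A A z)
        = TensorProduct.assoc k W B A ((p.lTensor W).rTensor A z) := by
    intro z
    have h : (LinearMap.lTensor W (p.rTensor A)) ∘ₗ (TensorProduct.assoc k W A A).toLinearMap
        = (TensorProduct.assoc k W B A).toLinearMap ∘ₗ (p.lTensor W).rTensor A := by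
      apply TensorProduct.ext_threefold
      intro w a a'
      simp
    exact LinearMap.congr_fun h z
  have E4 : ∀ y : W ⊗[k] A,
      TensorProduct.assoc k W B A (((TensorProduct.mk k W B).flip 1).rTensor A y)
        = (LinearMap.lTensor W ((TensorProduct.mk k B A) 1)) y := by
    intro y
    have h : (TensorProduct.assoc k W B A).toLinearMap ∘ₗ ((TensorProduct.mk k W B).flip 1).rTensor A
        = LinearMap.lTensor W ((TensorProduct.mk k B A) 1) := by
      apply TensorProduct.ext'
      intro w a
      simp
    exact LinearMap.congr_fun h y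
  set G : A →ₗ[k] B ⊗[k] A :=
    (p.rTensor A) ∘ₗ (Coalgebra.comul (R := k) (A := A)) - (TensorProduct.mk k B A) 1 with hGdef
  have hG : (LinearMap.lTensor W G) (ρ v) = 0 := by
    rw [hGdef, LinearMap.lTensor_sub, LinearMap.lTensor_comp, LinearMap.sub_apply,
      LinearMap.comp_apply, ← E2, E3, E1, E4, sub_self]
  let b := Module.Basis.ofVectorSpace k V
  obtain ⟨c, hc⟩ := TensorProduct.eq_repr_basis_left b t
  have hinj : Function.Injective (V.subtype.rTensor (B ⊗[k] A)) :=
    Module.Flat.rTensor_preserves_injective_linearMap _ (Submodule.subtype_injective V)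
  have hcomm : (V.subtype.rTensor (B ⊗[k] A)) ((LinearMap.lTensor V G) t)
      = (LinearMap.lTensor W G) ((V.subtype.rTensor A) t) := by
    rw [← LinearMap.comp_apply, ← LinearMap.comp_apply, LinearMap.rTensor_comp_lTensor,
      LinearMap.lTensor_comp_rTensor]
  have hz : (LinearMap.lTensor V G) t = 0 := by
    apply hinj
    rw [hcomm, ht, hG, map_zero]
  have hexp : (LinearMap.lTensor V G) t = c.sum (fun i a => b i ⊗ₜ[k] G a) := by
    rw [← hc, map_finsuppSum]
    simp only [LinearMap.lTensor_tmul]
  have hsum : (Finsupp.mapRange G (map_zero G) c).sum (fun i n => b i ⊗ₜ[k] n) = 0 := by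
    rw [Finsupp.sum_mapRange_index (fun i => TensorProduct.tmul_zero _ _), ← hexp, hz]
  have hc0 := TensorProduct.sum_tmul_basis_left_eq_zero b _ hsum
  have hGi : ∀ i, G (c i) = 0 := by
    intro i
    have h1 := DFunLike.congr_fun hc0 i
    simpa using h1
  rw [← ht, ← hc, map_finsuppSum, Finsupp.sum]
  refine Submodule.sum_mem _ (fun i _ => ?_)
  apply Submodule.subset_span
  exact ⟨b i, (b i).2, c i, sub_eq_zero.1 (hGi i), LinearMap.rTensor_tmul _ _ _ _⟩

end Groth.Agent.S15117
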