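import Groth.Statements.S15121
-- import your own Groth.Agent.* helpers here
import Mathlib

set_option autoImplicit false
universe u v w
open InvQ

namespace Groth.Agent.S15121

/-- Let k be a field of characteristic zero and A a commutative k-algebra graded by a finitely generated
free abelian group Λ (the character group of a torus acting on Spec A) whose grading monoid is
positive: if the pieces of degrees w and −w are both non-zero then w = 0. Let δ be a locally
nilpotent k-derivation of A (an action of the additive group) that is homogeneous of degree d, with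
the piece of degree d equal to zero (the graded condition on the Lie algebra weight). Suppose that
no maximal ideal of A contains both all graded pieces of non-zero degree and the image of δ (every
torus-fixed closed point has trivial stabiliser under the additive group). Then δ has a homogeneous
slice: some s of degree −d with δ s = 1. (The published statement is for the coordinate ring of an
affine variety over an algebraically closed field of characteristic zero and concludes moreover that
the quotient map by the additive group is a trivial principal bundle, which follows from the slice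
by a standard argument not restated here; this row keeps the algebraic content, for any such graded
algebra.) -/
theorem result
    (k : Type u) [Field k] [CharZero k]
    (A : Type v) [CommRing A] [Algebra k A]
    (Λ : Type w) [AddCommGroup Λ] [DecidableEq Λ] [Module.Free ℤ Λ] [Module.Finite ℤ Λ]
    (𝒜 : Λ → Submodule k A) [GradedAlgebra 𝒜]
    (hpos : ∀ w : Λ, 𝒜 w ≠ ⊥ → 𝒜 (-w) ≠ ⊥ → w = 0)
    (δ : Derivation k A A) (hnil : ∀ a : A, ∃ n : ℕ, ((δ : A →ₗ[k] A) ^ n) a = 0)
    (d : Λ) (hhom : ∀ (w : Λ) (a : A), a ∈ 𝒜 w → δ a ∈ 𝒜 (w + d)) (hd : 𝒜 d = ⊥)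
    (hfix : ∀ m : Ideal A, m.IsMaximal → (∀ w : Λ, w ≠ 0 → (𝒜 w : Set A) ⊆ m) → ¬ (Set.range δ ⊆ m)) :
    ∃ s ∈ 𝒜 (-d), δ s = 1 := by
  classical
  let π₀ : A →ₗ[k] A := GradedAlgebra.proj 𝒜 0
  have hπsame : ∀ x, x ∈ 𝒜 0 → π₀ x = x := fun x hx => by
    simp only [π₀, GradedAlgebra.proj_apply]; exact DirectSum.decompose_of_mem_same 𝒜 hx
  have hπne : ∀ (i : Λ) x, x ∈ 𝒜 i → i ≠ 0 → π₀ x = 0 := fun i x hx hi => by
    simp only [π₀, GradedAlgebra.proj_apply]; exact DirectSum.decompose_of_mem_ne 𝒜 hx hi
  have hne : ∀ (w : Λ) (x : A), x ∈ 𝒜 w → x ≠ 0 → 𝒜 w ≠ ⊥ := fun w x hx h0 h => by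
    rw [h] at hx; exact h0 ((Submodule.mem_bot k).mp hx)
  let R : Submodule k A := Submodule.map (δ : A →ₗ[k] A) (𝒜 (-d))
  have hA : ∀ (i : Λ) (n : A), i ≠ 0 → n ∈ 𝒜 i → ∀ c, π₀ (c * n) = 0 := by
    intro i n hi hn c
    refine DirectSum.Decomposition.inductionOn 𝒜 (motive := fun c => π₀ (c * n) = 0) ?_ ?_ ?_ c
    · simp
    · intro j m
      by_cases hj : j + i = 0
      · by_cases hn0 : n = 0
        · rw [hn0, mul_zero, map_zero]
        · by_cases hm0 : (m : A) = 0
          · rw [hm0, zero_mul, map_zero]
          · exfalso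
            apply hi
            have hj' : j = -i := eq_neg_of_add_eq_zero_left hj
            exact hpos i (hne i n hn hn0) (by rw [← hj']; exact hne j m m.2 hm0)
      · exact hπne (j + i) _ (SetLike.mul_mem_graded m.2 hn) hj
    · intro m m' h h'
      show π₀ ((m + m') * n) = 0
      rw [add_mul, map_add, h, h', add_zero]
  have hB : ∀ c a, π₀ (c * δ a) ∈ R := by
    intro c a
    refine DirectSum.Decomposition.inductionOn 𝒜 (motive := fun a => π₀ (c * δ a) ∈ R) ?_ ?_ ?_ a
    · simp
    · intro j a'
      refine DirectSum.Decomposition.inductionOn 𝒜 (motive := fun c => π₀ (c * δ a') ∈ R) ?_ ?_ ?_ c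
      · simp
      · intro i c'
        have hDa : δ (a' : A) ∈ 𝒜 (j + d) := hhom j _ a'.2
        by_cases hij : i + (j + d) = 0
        · have hmem : (c' : A) * δ (a' : A) ∈ 𝒜 0 := by
            rw [← hij]; exact SetLike.mul_mem_graded c'.2 hDa
          rw [hπsame _ hmem]
          by_cases hj0 : j = 0
          · have : δ (a' : A) = 0 := by
              have hjd : j + d = d := by rw [hj0, zero_add]
              rw [hjd, hd] at hDa; exact (Submodule.mem_bot k).mp hDa
            rw [this, mul_zero]; exact R.zero_mem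
          · by_cases ha0 : (a' : A) = 0
            · rw [ha0, map_zero, mul_zero]; exact R.zero_mem
            · have hDc : δ (c' : A) = 0 := by
                by_contra hDc0
                apply hj0
                have hDcm : δ (c' : A) ∈ 𝒜 (i + d) := hhom i _ c'.2
                have hid : i + d = -j := by
                  rw [eq_neg_iff_add_eq_zero, ← hij]; abel
                rw [hid] at hDcm
                exact hpos j (hne j _ a'.2 ha0) (hne (-j) _ hDcm hDc0)
              refine ⟨(c' : A) * a', ?_, ?_⟩
              · have : i + j = -d := by rw [eq_neg_iff_add_eq_zero, ← hij]; abel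
                rw [← this]; exact SetLike.mul_mem_graded c'.2 a'.2
              · show δ ((c' : A) * a') = _
                rw [Derivation.leibniz, hDc, smul_zero, add_zero, smul_eq_mul]
        · rw [hπne _ _ (SetLike.mul_mem_graded c'.2 hDa) hij]; exact R.zero_mem
      · intro m m' h h'
        show π₀ ((m + m') * δ a') ∈ R
        rw [add_mul, map_add]; exact R.add_mem h h'
    · intro m m' h h'
      show π₀ (c * δ (m + m')) ∈ R
      rw [map_add, mul_add, map_add]; exact R.add_mem h h'
  let S : Set A := ⋃ (w : Λ) (_ : w ≠ 0), (𝒜 w : Set A)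
  have hJ : Ideal.span (Set.range δ) ⊔ Ideal.span S = ⊤ := by
    by_contra hne'
    obtain ⟨m, hm, hle⟩ := Ideal.exists_le_maximal _ hne'
    apply hfix m hm (fun w hw x hx =>
      hle (Ideal.mem_sup_right (Ideal.subset_span (Set.mem_iUnion₂.mpr ⟨w, hw, hx⟩))))
    rintro _ ⟨a, rfl⟩
    exact hle (Ideal.mem_sup_left (Ideal.subset_span ⟨a, rfl⟩))
  have h1 : (1 : A) ∈ Ideal.span (Set.range δ) ⊔ Ideal.span S := hJ ▸ Submodule.mem_top
  obtain ⟨y, hy, z, hz, hyz⟩ := Submodule.mem_sup.mp h1
  have hy' : ∀ c, π₀ (c * y) ∈ R := by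
    refine Submodule.span_induction (p := fun y _ => ∀ c, π₀ (c * y) ∈ R) ?_ ?_ ?_ ?_ hy
    · rintro _ ⟨a, rfl⟩ c; exact hB c a
    · intro c; simp
    · intro u v _ _ hu hv c; rw [mul_add, map_add]; exact R.add_mem (hu c) (hv c)
    · intro r u _ hu c; rw [smul_eq_mul, ← mul_assoc]; exact hu (c * r)
  have hz' : ∀ c, π₀ (c * z) = 0 := by
    refine Submodule.span_induction (p := fun z _ => ∀ c, π₀ (c * z) = 0) ?_ ?_ ?_ ?_ hz
    · intro n hn c
      obtain ⟨i, hi, hn'⟩ := Set.mem_iUnion₂.mp hn
      exact hA i n hi hn' c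
    · intro c; simp
    · intro u v _ _ hu hv c; rw [mul_add, map_add, hu, hv, add_zero]
    · intro r u _ hu c; rw [smul_eq_mul, ← mul_assoc]; exact hu (c * r)
  have h2 : π₀ 1 = 1 := hπsame 1 (SetLike.one_mem_graded 𝒜)
  have h3 : (1 : A) ∈ R := by
    have hy1 := hy' 1
    have hz1 := hz' 1
    rw [one_mul] at hy1 hz1
    have h4 : π₀ (y + z) = π₀ y := by rw [map_add, hz1, add_zero]
    rw [hyz, h2] at h4
    rw [h4]; exact hy1
  obtain ⟨s, hs, hf⟩ := h3
  exact ⟨s, hs, hf⟩

end Groth.Agent.S15121
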