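import Groth.Statements.S15122
-- import your own Groth.Agent.* helpers here
import Mathlib

set_option autoImplicit false
universe u v w
open GIT

namespace Groth.Agent.S15122

/-- Let R be a commutative ring, A a commutative R-algebra graded by the natural numbers, σ a
homogeneous element of degree zero, and B the localisation of A away from σ, equipped with a grading
by the natural numbers for which the localisation map ι : A → B is a graded ring homomorphism (such
a grading is necessarily the one induced from A). Then the homogeneous ideal of B generated by the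
image of the irrelevant ideal of A is the whole irrelevant ideal of B; in other words the induced
rational map from Proj B to Proj A is defined everywhere. (The published statement also assumes σ a
non-zero-divisor, which this step does not use, and goes on to conclude that Proj B → Proj A is an
open immersion onto the basic open set of σ.) -/
theorem result
    (R : Type u) (A : Type v) (B : Type w) [CommRing R] [CommRing A] [CommRing B] [Algebra R A] [Algebra R B]
    [Algebra A B] [IsScalarTower R A B]
    (𝒜 : ℕ → Submodule R A) [GradedAlgebra 𝒜] (ℬ : ℕ → Submodule R B) [GradedAlgebra ℬ]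
    (σ : A) (hσ0 : σ ∈ 𝒜 0) [IsLocalization.Away σ B]
    (ι : 𝒜 →+*ᵍ ℬ) (hι : ∀ a : A, ι a = algebraMap A B a) :
    (HomogeneousIdeal.irrelevant 𝒜).map ι = HomogeneousIdeal.irrelevant ℬ := by
  classical
  apply HomogeneousIdeal.toIdeal_injective
  rw [HomogeneousIdeal.toIdeal_map]
  apply le_antisymm
  · rw [Ideal.map_le_iff_le_comap]
    intro a ha
    rw [Ideal.mem_comap]
    have ha' : GradedRing.proj 𝒜 0 a = 0 := (HomogeneousIdeal.mem_irrelevant_iff 𝒜 a).mp ha
    show ι a ∈ (HomogeneousIdeal.irrelevant ℬ)
    rw [HomogeneousIdeal.mem_irrelevant_iff, GradedRing.proj_apply,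
      ← GradedRingHom.map_directSumDecompose, ← GradedRing.proj_apply, ha', GradedRingHom.map_zero]
  · rw [HomogeneousIdeal.irrelevant_eq_span, Ideal.span_le]
    intro b hb
    obtain ⟨i, hi, hbi⟩ := Set.mem_iUnion₂.mp hb
    obtain ⟨⟨a, s⟩, hs⟩ := IsLocalization.surj (Submonoid.powers σ) b
    obtain ⟨n, hn⟩ := s.2
    have hsmem : (s : A) ∈ 𝒜 0 := by
      rw [← hn]
      have := SetLike.pow_mem_graded n hσ0
      rwa [smul_zero] at this
    have h1 : b * ι s ∈ ℬ i := by
      have := SetLike.mul_mem_graded hbi (ι.map_mem hsmem)
      rwa [add_zero] at this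
    have h2 : ι (DirectSum.decompose 𝒜 a i) = b * ι s := by
      rw [GradedRingHom.map_directSumDecompose, hι a, ← hs, ← hι,
        DirectSum.decompose_of_mem_same ℬ h1]
    have hu : IsUnit (ι (s : A)) := by rw [hι]; exact IsLocalization.map_units B s
    obtain ⟨u, hu'⟩ := hu
    have h3 : b = ι (DirectSum.decompose 𝒜 a i) * ↑u⁻¹ := by
      rw [h2, ← hu', mul_assoc, Units.mul_inv, mul_one]
    rw [h3]
    apply Ideal.mul_mem_right
    apply Ideal.mem_map_of_mem
    exact HomogeneousIdeal.mem_irrelevant_of_mem 𝒜 hi (SetLike.coe_mem _)

end Groth.Agent.S15122
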