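import Groth.Statements.S15128
-- import your own Groth.Agent.* helpers here
import Mathlib
import Groth.Agent.Lib.helper7.ArtFlat

set_option autoImplicit false
universe u v
open CAlg

namespace Groth.Agent.S15128

/-- Over an Artinian local ring A with residue field k, a linear map h between flat A-modules (of any
size) is injective, resp. surjective, as soon as its reduction k ⊗_A h is. (The published statement
is for local Artinian algebras over an algebraically closed field of characteristic zero having that
field as residue field; this row allows any Artinian local ring.) -/
theorem result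
    (A : Type u) [CommRing A] [IsLocalRing A] [IsArtinianRing A]
    (P L : Type v) [AddCommGroup P] [Module A P] [AddCommGroup L] [Module A L]
    [Module.Flat A P] [Module.Flat A L] (h : P →ₗ[A] L) :
    (Function.Injective (h.lTensor (IsLocalRing.ResidueField A)) → Function.Injective h) ∧
    (Function.Surjective (h.lTensor (IsLocalRing.ResidueField A)) → Function.Surjective h) := by
  obtain ⟨n, hn⟩ : ∃ n : ℕ, (IsLocalRing.maximalIdeal A) ^ n = ⊥ := by
    have h1 := IsArtinianRing.isNilpotent_jacobson_bot (R := A)
    rw [IsLocalRing.jacobson_eq_maximalIdeal ⊥ bot_ne_top] at h1
    exact h1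
  refine ⟨fun hinj => ?_, fun hsurj => ?_⟩
  · exact Groth.Agent.Lib.helper7.af_injective_of_residue (IsLocalRing.maximalIdeal A) hn h hinj
  · exact Groth.Agent.Lib.helper7.af_surjective_of_residue (IsLocalRing.maximalIdeal A) hn h hsurj

end Groth.Agent.S15128
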