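import Groth.Statements.S15129
-- import your own Groth.Agent.* helpers here
import Mathlib
import Groth.Agent.Lib.helper7.ArtFlat

set_option autoImplicit false
universe u v
open CAlg

namespace Groth.Agent.S15129

open TensorProduct Groth.Agent.Lib.helper7 Pointwise

section
variable {A : Type u} [CommRing A]

lemma lf_mu_mem (I : Ideal A) (N : Type v) [AddCommGroup N] [Module A N] (η : I ⊗[A] N) :
    af_mu I N η ∈ I • (⊤ : Submodule A N) := by
  induction η using TensorProduct.induction_on with
  | zero => rw [map_zero]; exact Submodule.zero_mem _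
  | tmul a n => rw [af_mu_tmul]; exact Submodule.smul_mem_smul a.2 Submodule.mem_top
  | add y z hy hz => rw [map_add]; exact Submodule.add_mem _ hy hz

lemma lf_map_mem {M N : Type v} [AddCommGroup M] [Module A M] [AddCommGroup N] [Module A N]
    (f : M →ₗ[A] N) (J : Ideal A) (y : M) (hy : y ∈ J • (⊤ : Submodule A M)) :
    f y ∈ J • (⊤ : Submodule A N) := by
  refine Submodule.smul_induction_on hy ?_ ?_
  · intro a ha m _
    rw [map_smul]; exact Submodule.smul_mem_smul ha Submodule.mem_top
  · intro y z hy hz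
    rw [map_add]; exact Submodule.add_mem _ hy hz

lemma lf_colon_flat (I m : Ideal A) (t : A) (hmt : ∀ a ∈ m, a * t ∈ I)
    (hcolon : ∀ a, a * t ∈ I → a ∈ m)
    (N : Type v) [AddCommGroup N] [Module A N] [Module.Flat A N] (n : N)
    (hn : t • n ∈ I • (⊤ : Submodule A N)) : n ∈ m • (⊤ : Submodule A N) := by
  let ψ : A →ₗ[A] A ⧸ I := LinearMap.toSpanSingleton A (A ⧸ I) (Ideal.Quotient.mk I t)
  have hψ : ∀ a, ψ a = Ideal.Quotient.mk I (a * t) := by
    intro a
    show a • Ideal.Quotient.mk I t = _
    rw [map_mul]; rfl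
  have hker : m ≤ LinearMap.ker ψ := by
    intro a ha
    rw [LinearMap.mem_ker, hψ, Ideal.Quotient.eq_zero_iff_mem]
    exact hmt a ha
  let φ : (A ⧸ m) →ₗ[A] A ⧸ I := Submodule.liftQ m ψ hker
  have hφinj : Function.Injective φ := by
    apply LinearMap.ker_eq_bot.mp
    apply Submodule.ker_liftQ_eq_bot
    intro a ha
    rw [LinearMap.mem_ker, hψ, Ideal.Quotient.eq_zero_iff_mem] at ha
    exact hcolon a ha
  have hinj : Function.Injective (φ.rTensor N) :=
    Module.Flat.rTensor_preserves_injective_linearMap φ hφinj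
  rw [← af_mk_eq_zero_iff]
  apply hinj
  rw [map_zero, LinearMap.rTensor_tmul]
  have h1 : φ (1 : A ⧸ m) = Ideal.Quotient.mk I t := by
    show ψ 1 = _
    rw [hψ, one_mul]
  have h2 : Ideal.Quotient.mk I t = t • (1 : A ⧸ I) := by
    rw [Algebra.smul_def, mul_one]; rfl
  rw [h1, h2, TensorProduct.smul_tmul, (af_mk_eq_zero_iff I N _).mpr hn]

lemma lf_exists_socle_elt [IsLocalRing A] [IsArtinianRing A] (I : Ideal A) (hI : I ≠ ⊤) :
    ∃ t : A, t ∉ I ∧ ∀ a ∈ IsLocalRing.maximalIdeal A, a * t ∈ I := by
  classical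
  have hnil := IsArtinianRing.isNilpotent_jacobson_bot (R := A)
  rw [IsLocalRing.jacobson_eq_maximalIdeal ⊥ bot_ne_top] at hnil
  obtain ⟨n, hn⟩ := hnil
  have hex : ∃ j, (IsLocalRing.maximalIdeal A) ^ j ≤ I := by
    refine ⟨n, ?_⟩
    have h0 : (0 : Ideal A) ≤ I := by rw [Ideal.zero_eq_bot]; exact bot_le
    rw [← hn] at h0
    exact h0
  have hj0 : Nat.find hex ≠ 0 := by
    intro h0
    have h1 := Nat.find_spec hex
    rw [h0, pow_zero, Ideal.one_eq_top, top_le_iff] at h1
    exact hI h1
  obtain ⟨j, hj⟩ := Nat.exists_eq_succ_of_ne_zero hj0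
  have hnot : ¬ (IsLocalRing.maximalIdeal A) ^ j ≤ I := Nat.find_min hex (by omega)
  obtain ⟨t, htm, htI⟩ := SetLike.not_le_iff_exists.mp hnot
  refine ⟨t, htI, fun a ha => ?_⟩
  have h1 := Nat.find_spec hex
  rw [hj, pow_succ'] at h1
  exact h1 (Ideal.mul_mem_mul ha htm)

lemma lf_star [IsLocalRing A] [IsArtinianRing A] {M N : Type v} [AddCommGroup M] [Module A M]
    [AddCommGroup N] [Module A N] [Module.Flat A N] (f : M →ₗ[A] N)
    (hm : ∀ z : M, f z ∈ (IsLocalRing.maximalIdeal A) • (⊤ : Submodule A N) →
      z ∈ (IsLocalRing.maximalIdeal A) • (⊤ : Submodule A M))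
    (I : Ideal A) : ∀ x : M, f x ∈ I • (⊤ : Submodule A N) → x ∈ I • (⊤ : Submodule A M) := by
  refine IsNoetherian.induction (R := A) (M := A) (P := fun I : Ideal A => ∀ x : M,
    f x ∈ I • (⊤ : Submodule A N) → x ∈ I • (⊤ : Submodule A M)) ?_ I
  intro I ih x hx
  by_cases hI : I = ⊤
  · rw [hI, Submodule.top_smul]; exact Submodule.mem_top
  obtain ⟨t, htI, htm⟩ := lf_exists_socle_elt I hI
  have hcolon : ∀ a, a * t ∈ I → a ∈ IsLocalRing.maximalIdeal A := by
    intro a ha
    by_contra hna
    have hu : IsUnit a := by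
      by_contra h; exact hna ((IsLocalRing.mem_maximalIdeal a).mpr h)
    obtain ⟨u, rfl⟩ := hu
    apply htI
    have h1 := Ideal.mul_mem_left I (↑u⁻¹ : A) ha
    rwa [← mul_assoc, Units.inv_mul, one_mul] at h1
  have hlt : I < I ⊔ Ideal.span {t} := by
    apply lt_of_le_of_ne le_sup_left
    intro h
    apply htI
    rw [h]
    exact Ideal.mem_sup_right (Ideal.mem_span_singleton_self t)
  have hx' : f x ∈ (I ⊔ Ideal.span {t}) • (⊤ : Submodule A N) :=
    Submodule.smul_mono_left le_sup_left hx
  have h1 := ih _ hlt x hx'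
  rw [Submodule.sup_smul] at h1
  obtain ⟨y, hy, w, hw, rfl⟩ := Submodule.mem_sup.mp h1
  rw [Submodule.ideal_span_singleton_smul] at hw
  obtain ⟨z, -, rfl⟩ := (Submodule.mem_smul_pointwise_iff_exists _ _ _).mp hw
  apply Submodule.add_mem _ hy
  have h2 : t • f z ∈ I • (⊤ : Submodule A N) := by
    have h3 : f (y + t • z) - f y ∈ I • (⊤ : Submodule A N) :=
      Submodule.sub_mem _ hx (lf_map_mem f I y hy)
    rwa [map_add, add_sub_cancel_left, map_smul] at h3
  have h4 : f z ∈ (IsLocalRing.maximalIdeal A) • (⊤ : Submodule A N) :=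
    lf_colon_flat I _ t htm hcolon N (f z) h2
  have h5 := hm z h4
  refine Submodule.smul_induction_on h5 ?_ ?_
  · intro a ha m _
    rw [smul_smul, mul_comm]
    exact Submodule.smul_mem_smul (htm a ha) Submodule.mem_top
  · intro y z hy hz
    rw [smul_add]; exact Submodule.add_mem _ hy hz

end

/-- Over an Artinian local ring A with residue field k, for an exact sequence 0 → M → N → P → 0 of
A-modules with N flat: if k ⊗_A M → k ⊗_A N is injective then P is flat; if P is flat then M is flat
and k ⊗_A M → k ⊗_A N is injective. (The published statement is for local Artinian algebras over an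
algebraically closed field of characteristic zero having that field as residue field; this row
allows any Artinian local ring.) -/
theorem result
    (A : Type u) [CommRing A] [IsLocalRing A] [IsArtinianRing A]
    (M N P : Type v) [AddCommGroup M] [Module A M] [AddCommGroup N] [Module A N]
    [AddCommGroup P] [Module A P] [Module.Flat A N] (f : M →ₗ[A] N) (g : N →ₗ[A] P)
    (hf : Function.Injective f) (hg : Function.Surjective g) (hfg : Function.Exact f g) :
    (Function.Injective (f.lTensor (IsLocalRing.ResidueField A)) → Module.Flat A P) ∧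
    (Module.Flat A P → Module.Flat A M ∧ Function.Injective (f.lTensor (IsLocalRing.ResidueField A))) := by
  classical
  constructor
  · intro hinj
    have hPm : ∀ z : M, f z ∈ (IsLocalRing.maximalIdeal A) • (⊤ : Submodule A N) →
        z ∈ (IsLocalRing.maximalIdeal A) • (⊤ : Submodule A M) := by
      intro z hz
      rw [← af_mk_eq_zero_iff] at hz ⊢
      have hinj' : Function.Injective (f.lTensor (A ⧸ IsLocalRing.maximalIdeal A)) := hinj
      apply hinj'
      rw [map_zero, LinearMap.lTensor_tmul]; exact hz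
    have hstar := lf_star f hPm
    rw [Module.Flat.iff_rTensor_injective']
    intro I
    have h1 : Function.Injective (af_mu I P) := by
      rw [injective_iff_map_eq_zero]
      intro ξ hξ
      obtain ⟨η, rfl⟩ := LinearMap.lTensor_surjective I hg ξ
      rw [af_mu_nat] at hξ
      obtain ⟨x, hx⟩ := (hfg (af_mu I N η)).mp hξ
      have hxI : f x ∈ I • (⊤ : Submodule A N) := by rw [hx]; exact lf_mu_mem I N η
      obtain ⟨ζ, hζ⟩ := af_exists_of_mem_smul I M x (hstar I x hxI)
      have h3 : η = LinearMap.lTensor I f ζ := by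
        apply af_mu_injective I N
        rw [af_mu_nat, hζ, hx]
      have hgf : g ∘ₗ f = 0 := by
        ext m; exact (hfg (f m)).mpr ⟨m, rfl⟩
      rw [h3, ← LinearMap.comp_apply, ← LinearMap.lTensor_comp, hgf, LinearMap.lTensor_zero,
        LinearMap.zero_apply]
    have h2 : af_mu I P = (TensorProduct.lid A P).toLinearMap ∘ₗ (LinearMap.rTensor P I.subtype) :=
      rfl
    rw [h2, LinearMap.coe_comp] at h1
    exact Function.Injective.of_comp h1
  · intro hP
    haveI := hP
    have hinjI : ∀ (Q : Type u) [AddCommGroup Q] [Module A Q],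
        Function.Injective (f.lTensor Q) :=
      fun Q _ _ => LinearMap.lTensor_injective_of_exact_of_flat g hg f hf hfg Q
    constructor
    · rw [Module.Flat.iff_rTensor_injective']
      intro I
      have h1 : Function.Injective (af_mu I M) := by
        rw [injective_iff_map_eq_zero]
        intro ξ hξ
        apply hinjI I
        rw [map_zero]
        apply af_mu_injective I N
        rw [af_mu_nat, hξ, map_zero, map_zero]
      have h2 : af_mu I M
          = (TensorProduct.lid A M).toLinearMap ∘ₗ (LinearMap.rTensor M I.subtype) := rfl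
      rw [h2, LinearMap.coe_comp] at h1
      exact Function.Injective.of_comp h1
    · exact hinjI _

end Groth.Agent.S15129
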