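import Groth.Statements.S15130
-- import your own Groth.Agent.* helpers here
import Mathlib
import Groth.Agent.Lib.helper7.ArtFlat
import Groth.Agent.S15129

set_option autoImplicit false
universe u v
open CAlg

namespace Groth.Agent.S15130

/-- Let A be an Artinian local ring with residue field k and P → Q → R → M → 0 a complex of A-modules
with P, Q, R flat which is exact at R and at M. If the reduced complex k ⊗ P → k ⊗ Q → k ⊗ R is
exact (the rest of the reduced sequence is then automatically exact), then M is flat and the
original complex is exact at Q as well. (The published statement is for local Artinian algebras over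
an algebraically closed field of characteristic zero having that field as residue field; this row
allows any Artinian local ring.) -/
theorem result
    (A : Type u) [CommRing A] [IsLocalRing A] [IsArtinianRing A]
    (P Q R M : Type v) [AddCommGroup P] [Module A P] [AddCommGroup Q] [Module A Q]
    [AddCommGroup R] [Module A R] [AddCommGroup M] [Module A M]
    [Module.Flat A P] [Module.Flat A Q] [Module.Flat A R]
    (f : P →ₗ[A] Q) (g : Q →ₗ[A] R) (h : R →ₗ[A] M)
    (hfg : g ∘ₗ f = 0) (hgh : Function.Exact g h) (hh : Function.Surjective h)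
    (hred : Function.Exact (f.lTensor (IsLocalRing.ResidueField A)) (g.lTensor (IsLocalRing.ResidueField A))) :
    Module.Flat A M ∧ Function.Exact f g := by
  classical
  obtain ⟨n, hn⟩ : ∃ n : ℕ, (IsLocalRing.maximalIdeal A) ^ n = ⊥ := by
    have h1 := IsArtinianRing.isNilpotent_jacobson_bot (R := A)
    rw [IsLocalRing.jacobson_eq_maximalIdeal ⊥ bot_ne_top] at h1
    exact h1
  -- image of g
  let ι : ↥(LinearMap.range g) →ₗ[A] R := (LinearMap.range g).subtype
  let gb : Q →ₗ[A] ↥(LinearMap.range g) := g.rangeRestrict
  have hι : Function.Injective ι := Submodule.subtype_injective _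
  have hgb : Function.Surjective gb := LinearMap.surjective_rangeRestrict g
  have hιgb : ι ∘ₗ gb = g := by
    apply LinearMap.ext
    intro q
    rfl
  have hex1 : Function.Exact ι h := by
    intro y
    rw [hgh y]
    constructor
    · rintro ⟨q, rfl⟩; exact ⟨⟨g q, ⟨q, rfl⟩⟩, rfl⟩
    · rintro ⟨⟨_, ⟨q, rfl⟩⟩, rfl⟩; exact ⟨q, rfl⟩
  have hgbf : gb ∘ₗ f = 0 := by
    apply LinearMap.ext
    intro p
    apply Subtype.ext
    show g (f p) = 0
    rw [← LinearMap.comp_apply, hfg, LinearMap.zero_apply]
  have hιk : Function.Injective (ι.lTensor (IsLocalRing.ResidueField A)) := by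
    rw [injective_iff_map_eq_zero]
    intro x hx
    obtain ⟨q, rfl⟩ := LinearMap.lTensor_surjective (IsLocalRing.ResidueField A) hgb x
    rw [← LinearMap.comp_apply, ← LinearMap.lTensor_comp, hιgb] at hx
    obtain ⟨p, rfl⟩ := (hred q).mp hx
    rw [← LinearMap.comp_apply, ← LinearMap.lTensor_comp, hgbf, LinearMap.lTensor_zero,
      LinearMap.zero_apply]
  have hS1 := Groth.Agent.S15129.result A ↥(LinearMap.range g) R M ι h hι hh hex1
  have hMflat : Module.Flat A M := hS1.1 hιk
  haveI : Module.Flat A ↥(LinearMap.range g) := (hS1.2 hMflat).1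
  -- kernel of g
  let j : ↥(LinearMap.ker g) →ₗ[A] Q := (LinearMap.ker g).subtype
  have hj : Function.Injective j := Submodule.subtype_injective _
  have hex2 : Function.Exact j gb := by
    intro y
    constructor
    · intro hy
      have h1 : g y = 0 := by
        have h2 := congrArg ι hy
        rw [← LinearMap.comp_apply, hιgb, map_zero] at h2
        exact h2
      exact ⟨⟨y, h1⟩, rfl⟩
    · rintro ⟨⟨y, hy⟩, rfl⟩
      apply hι
      show ι (gb y) = ι 0
      rw [← LinearMap.comp_apply, hιgb, map_zero]
      exact hy
  have hS2 := Groth.Agent.S15129.result A ↥(LinearMap.ker g) Q ↥(LinearMap.range g) j gb hj hgb hex2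
  have hjk : Function.Injective (j.lTensor (IsLocalRing.ResidueField A)) :=
    (hS2.2 inferInstance).2
  let fb : P →ₗ[A] ↥(LinearMap.ker g) := f.codRestrict (LinearMap.ker g) (fun p => by
    rw [LinearMap.mem_ker, ← LinearMap.comp_apply, hfg, LinearMap.zero_apply])
  have hjfb : j ∘ₗ fb = f := by ext p; rfl
  have hgj : g ∘ₗ j = 0 := by ext y; exact y.2
  have hfbk : Function.Surjective (fb.lTensor (A ⧸ IsLocalRing.maximalIdeal A)) := by
    intro κ
    have h1 : (g.lTensor (IsLocalRing.ResidueField A)) ((j.lTensor (IsLocalRing.ResidueField A)) κ)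
        = 0 := by
      rw [← LinearMap.comp_apply, ← LinearMap.lTensor_comp, hgj, LinearMap.lTensor_zero,
        LinearMap.zero_apply]
    obtain ⟨p, hp⟩ := (hred _).mp h1
    refine ⟨p, ?_⟩
    apply hjk
    rw [← hp]
    show (j.lTensor (IsLocalRing.ResidueField A)) ((fb.lTensor (IsLocalRing.ResidueField A)) p) = _
    rw [← LinearMap.comp_apply, ← LinearMap.lTensor_comp, hjfb]
  have hfb : Function.Surjective fb :=
    Groth.Agent.Lib.helper7.af_surjective_of_residue (IsLocalRing.maximalIdeal A) hn fb hfbk
  refine ⟨hMflat, ?_⟩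
  intro y
  constructor
  · intro hy
    obtain ⟨p, hp⟩ := hfb ⟨y, hy⟩
    exact ⟨p, congrArg Subtype.val hp⟩
  · rintro ⟨p, rfl⟩
    rw [← LinearMap.comp_apply, hfg, LinearMap.zero_apply]

end Groth.Agent.S15130
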