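import Groth.Statements.S15133
-- import your own Groth.Agent.* helpers here
import Mathlib
import Groth.Agent.Lib.helper7.ArtFlat
import Groth.Agent.S15129

set_option autoImplicit false
universe u
open CategoryTheory
open CAlg

namespace Groth.Agent.S15133

open TensorProduct in
lemma core (A : Type u) [CommRing A] [IsLocalRing A] [IsArtinianRing A]
    (P Q R : Type u) [AddCommGroup P] [Module A P] [AddCommGroup Q] [Module A Q]
    [AddCommGroup R] [Module A R] [Module.Flat A Q] [Module.Flat A R]
    (f : P →ₗ[A] Q) (g : Q →ₗ[A] R) (hfg : g ∘ₗ f = 0)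
    (hred : Function.Exact (f.lTensor (IsLocalRing.ResidueField A))
      (g.lTensor (IsLocalRing.ResidueField A))) :
    Module.Flat A (R ⧸ LinearMap.range g) ∧ Module.Flat A ↥(LinearMap.ker g) ∧ Function.Exact f g
      ∧ Function.Injective ((LinearMap.ker g).subtype.lTensor (IsLocalRing.ResidueField A)) := by
  classical
  obtain ⟨n, hn⟩ : ∃ n : ℕ, (IsLocalRing.maximalIdeal A) ^ n = ⊥ := by
    have h1 := IsArtinianRing.isNilpotent_jacobson_bot (R := A)
    rw [IsLocalRing.jacobson_eq_maximalIdeal ⊥ bot_ne_top] at h1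
    exact h1
  let h : R →ₗ[A] (R ⧸ LinearMap.range g) := (LinearMap.range g).mkQ
  have hgh : Function.Exact g h := LinearMap.exact_map_mkQ_range g
  have hh : Function.Surjective h := Submodule.mkQ_surjective _
  let ι : ↥(LinearMap.range g) →ₗ[A] R := (LinearMap.range g).subtype
  let gb : Q →ₗ[A] ↥(LinearMap.range g) := g.rangeRestrict
  have hι : Function.Injective ι := Submodule.subtype_injective _
  have hgb : Function.Surjective gb := LinearMap.surjective_rangeRestrict g
  have hιgb : ι ∘ₗ gb = g := by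
    apply LinearMap.ext
    intro q
    rfl
  have hex1 : Function.Exact ι h := by
    intro y
    rw [hgh y]
    constructor
    · rintro ⟨q, rfl⟩; exact ⟨⟨g q, ⟨q, rfl⟩⟩, rfl⟩
    · rintro ⟨⟨_, ⟨q, rfl⟩⟩, rfl⟩; exact ⟨q, rfl⟩
  have hgbf : gb ∘ₗ f = 0 := by
    apply LinearMap.ext
    intro p
    apply Subtype.ext
    show g (f p) = 0
    rw [← LinearMap.comp_apply, hfg, LinearMap.zero_apply]
  have hιk : Function.Injective (ι.lTensor (IsLocalRing.ResidueField A)) := by
    rw [injective_iff_map_eq_zero]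
    intro x hx
    obtain ⟨q, rfl⟩ := LinearMap.lTensor_surjective (IsLocalRing.ResidueField A) hgb x
    rw [← LinearMap.comp_apply, ← LinearMap.lTensor_comp, hιgb] at hx
    obtain ⟨p, rfl⟩ := (hred q).mp hx
    rw [← LinearMap.comp_apply, ← LinearMap.lTensor_comp, hgbf, LinearMap.lTensor_zero,
      LinearMap.zero_apply]
  have hS1 := Groth.Agent.S15129.result A ↥(LinearMap.range g) R (R ⧸ LinearMap.range g) ι h hι hh hex1
  have hMflat : Module.Flat A (R ⧸ LinearMap.range g) := hS1.1 hιk
  haveI : Module.Flat A ↥(LinearMap.range g) := (hS1.2 hMflat).1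
  let j : ↥(LinearMap.ker g) →ₗ[A] Q := (LinearMap.ker g).subtype
  have hj : Function.Injective j := Submodule.subtype_injective _
  have hex2 : Function.Exact j gb := by
    intro y
    constructor
    · intro hy
      have h1 : g y = 0 := by
        have h2 := congrArg ι hy
        rw [← LinearMap.comp_apply, hιgb, map_zero] at h2
        exact h2
      exact ⟨⟨y, h1⟩, rfl⟩
    · rintro ⟨⟨y, hy⟩, rfl⟩
      apply hι
      show ι (gb y) = ι 0
      rw [← LinearMap.comp_apply, hιgb, map_zero]
      exact hy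
  have hS2 := Groth.Agent.S15129.result A ↥(LinearMap.ker g) Q ↥(LinearMap.range g) j gb hj hgb hex2
  have hjk : Function.Injective (j.lTensor (IsLocalRing.ResidueField A)) :=
    (hS2.2 inferInstance).2
  have hKflat : Module.Flat A ↥(LinearMap.ker g) := (hS2.2 inferInstance).1
  let fb : P →ₗ[A] ↥(LinearMap.ker g) := f.codRestrict (LinearMap.ker g) (fun p => by
    rw [LinearMap.mem_ker, ← LinearMap.comp_apply, hfg, LinearMap.zero_apply])
  have hjfb : j ∘ₗ fb = f := by ext p; rfl
  have hgj : g ∘ₗ j = 0 := by ext y; exact y.2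
  have hfbk : Function.Surjective (fb.lTensor (A ⧸ IsLocalRing.maximalIdeal A)) := by
    intro κ
    have h1 : (g.lTensor (IsLocalRing.ResidueField A)) ((j.lTensor (IsLocalRing.ResidueField A)) κ)
        = 0 := by
      rw [← LinearMap.comp_apply, ← LinearMap.lTensor_comp, hgj, LinearMap.lTensor_zero,
        LinearMap.zero_apply]
    obtain ⟨p, hp⟩ := (hred _).mp h1
    refine ⟨p, ?_⟩
    apply hjk
    rw [← hp]
    show (j.lTensor (IsLocalRing.ResidueField A)) ((fb.lTensor (IsLocalRing.ResidueField A)) p) = _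
    rw [← LinearMap.comp_apply, ← LinearMap.lTensor_comp, hjfb]
  have hfb : Function.Surjective fb :=
    Groth.Agent.Lib.helper7.af_surjective_of_residue (IsLocalRing.maximalIdeal A) hn fb hfbk
  refine ⟨hMflat, hKflat, ?_, hjk⟩
  intro y
  constructor
  · intro hy
    obtain ⟨p, hp⟩ := hfb ⟨y, hy⟩
    exact ⟨p, congrArg Subtype.val hp⟩
  · rintro ⟨p, rfl⟩
    rw [← LinearMap.comp_apply, hfg, LinearMap.zero_apply]

open TensorProduct in
lemma first_flat (A : Type u) [CommRing A] [IsLocalRing A] [IsArtinianRing A]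
    (P Q R : Type u) [AddCommGroup P] [Module A P] [AddCommGroup Q] [Module A Q]
    [AddCommGroup R] [Module A R] [Module.Flat A Q] [Module.Flat A R]
    (f : P →ₗ[A] Q) (g : Q →ₗ[A] R) (hfg : g ∘ₗ f = 0)
    (hred : Function.Exact (f.lTensor (IsLocalRing.ResidueField A))
      (g.lTensor (IsLocalRing.ResidueField A)))
    (hinj : Function.Injective (f.lTensor (IsLocalRing.ResidueField A))) :
    Module.Flat A P := by
  classical
  obtain ⟨n, hn⟩ : ∃ n : ℕ, (IsLocalRing.maximalIdeal A) ^ n = ⊥ := by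
    have h1 := IsArtinianRing.isNilpotent_jacobson_bot (R := A)
    rw [IsLocalRing.jacobson_eq_maximalIdeal ⊥ bot_ne_top] at h1
    exact h1
  obtain ⟨-, hKflat, hex, hjk⟩ := core A P Q R f g hfg hred
  haveI := hKflat
  let j : ↥(LinearMap.ker g) →ₗ[A] Q := (LinearMap.ker g).subtype
  let fb : P →ₗ[A] ↥(LinearMap.ker g) := f.codRestrict (LinearMap.ker g) (fun p => by
    rw [LinearMap.mem_ker, ← LinearMap.comp_apply, hfg, LinearMap.zero_apply])
  have hjfb : j ∘ₗ fb = f := by ext p; rfl
  have hfb : Function.Surjective fb := by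
    rintro ⟨y, hy⟩
    obtain ⟨p, hp⟩ := (hex y).1 hy
    exact ⟨p, Subtype.ext hp⟩
  have hcomp : (j.lTensor (IsLocalRing.ResidueField A)) ∘ₗ (fb.lTensor (IsLocalRing.ResidueField A))
      = f.lTensor (IsLocalRing.ResidueField A) := by
    rw [← LinearMap.lTensor_comp, hjfb]
  have hfbk : Function.Injective (fb.lTensor (IsLocalRing.ResidueField A)) := by
    apply Function.Injective.of_comp (f := j.lTensor (IsLocalRing.ResidueField A))
    rw [← LinearMap.coe_comp, hcomp]
    exact hinj
  let ι : ↥(LinearMap.ker fb) →ₗ[A] P := (LinearMap.ker fb).subtype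
  have hιk : Function.Injective (ι.lTensor (IsLocalRing.ResidueField A)) :=
    LinearMap.lTensor_injective_of_exact_of_flat fb hfb ι (Submodule.subtype_injective _)
      (LinearMap.exact_subtype_ker_map fb) (IsLocalRing.ResidueField A)
  have hfbι : fb ∘ₗ ι = 0 := LinearMap.ext fun z => LinearMap.mem_ker.1 z.2
  have hzero : ∀ z : (IsLocalRing.ResidueField A) ⊗[A] ↥(LinearMap.ker fb), z = 0 := by
    intro z
    apply hιk
    apply hfbk
    rw [← LinearMap.comp_apply, ← LinearMap.lTensor_comp, hfbι, LinearMap.lTensor_zero,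
      LinearMap.zero_apply, map_zero, map_zero]
  have hZk : ∀ z : (A ⧸ IsLocalRing.maximalIdeal A) ⊗[A] ↥(LinearMap.ker fb), z = 0 :=
    fun z => hzero z
  have h0surj : Function.Surjective
      ((0 : ↥(LinearMap.ker fb) →ₗ[A] ↥(LinearMap.ker fb)).lTensor (A ⧸ IsLocalRing.maximalIdeal A)) :=
    fun z => ⟨0, by rw [hZk z, map_zero]⟩
  have hZ0 := Groth.Agent.Lib.helper7.af_surjective_of_residue (IsLocalRing.maximalIdeal A) hn
    (0 : ↥(LinearMap.ker fb) →ₗ[A] ↥(LinearMap.ker fb)) h0surj
  have hfbinj : Function.Injective fb := by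
    rw [injective_iff_map_eq_zero]
    intro x hx
    obtain ⟨w, hw⟩ := hZ0 ⟨x, hx⟩
    rw [LinearMap.zero_apply] at hw
    exact (congrArg Subtype.val hw).symm
  exact Module.Flat.of_linearEquiv (LinearEquiv.ofBijective fb ⟨hfbinj, hfb⟩)

/-- Let A be an Artinian local ring with residue field k, n ≥ 1, and 0 → I → P₀ → P₁ → ⋯ → Pₙ a complex
of A-modules with P₀, …, Pₙ flat whose reduction 0 → k ⊗ I → k ⊗ P₀ → ⋯ → k ⊗ Pₙ is exact. Then I
and coker(Pₙ₋₁ → Pₙ) are flat. The complex is written as a cochain complex C indexed by ℕ with C⁰ =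
I and Cⁱ⁺¹ = Pᵢ; its terms in degrees above n + 1 play no role. (The published statement adds that I
maps onto the kernel of k ⊗ P₀ → k ⊗ P₁, which is already part of the exactness hypothesis, and is
for local Artinian algebras over an algebraically closed field of characteristic zero having that
field as residue field; this row allows any Artinian local ring.) -/
theorem result
    (A : Type u) [CommRing A] [IsLocalRing A] [IsArtinianRing A] (n : ℕ) (hn : 0 < n)
    (C : CochainComplex (ModuleCat.{u} A) ℕ)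
    (hflat : ∀ i, i ≤ n → Module.Flat A (C.X (i + 1)))
    (hred : ∀ j, j ≤ n →
      (((MonoidalCategory.tensorLeft (ModuleCat.of A (IsLocalRing.ResidueField A))).mapHomologicalComplex
        (ComplexShape.up ℕ)).obj C).ExactAt j) :
    Module.Flat A (C.X 0) ∧ Module.Flat A (C.X (n + 1) ⧸ LinearMap.range (C.d n (n + 1)).hom) := by
  classical
  obtain ⟨m, rfl⟩ : ∃ m, n = m + 1 := ⟨n - 1, by omega⟩
  have E : ∀ i, i + 1 ≤ m + 1 → Function.Exact
      ((C.d i (i + 1)).hom.lTensor (IsLocalRing.ResidueField A))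
      ((C.d (i + 1) (i + 1 + 1)).hom.lTensor (IsLocalRing.ResidueField A)) := by
    intro i hi
    have h := hred (i + 1) hi
    rw [HomologicalComplex.exactAt_iff' _ i (i + 1) (i + 1 + 1) (by simp) (by simp)] at h
    have h2 := (ShortComplex.ShortExact.moduleCat_exact_iff_function_exact _).1 h
    exact h2
  have E0 : Function.Injective ((C.d 0 (0 + 1)).hom.lTensor (IsLocalRing.ResidueField A)) := by
    have h := hred 0 (by omega)
    rw [HomologicalComplex.exactAt_iff' _ 0 0 (0 + 1) (by simp) (by simp)] at h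
    have h2 := (ShortComplex.ShortExact.moduleCat_exact_iff_function_exact _).1 h
    rw [injective_iff_map_eq_zero]
    intro x hx
    obtain ⟨y, hy⟩ := (h2 x).1 hx
    have h0 : (((MonoidalCategory.tensorLeft (ModuleCat.of A (IsLocalRing.ResidueField A))).mapHomologicalComplex (ComplexShape.up ℕ)).obj C).d 0 0 = 0 :=
      HomologicalComplex.shape _ 0 0 (by simp)
    have hy' : (ModuleCat.Hom.hom ((((MonoidalCategory.tensorLeft (ModuleCat.of A (IsLocalRing.ResidueField A))).mapHomologicalComplex (ComplexShape.up ℕ)).obj C).d 0 0)) y = x := hy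
    rw [h0] at hy'
    exact hy'.symm
  have dd : ∀ i, (C.d (i + 1) (i + 1 + 1)).hom ∘ₗ (C.d i (i + 1)).hom = 0 := by
    intro i
    have h := C.d_comp_d i (i + 1) (i + 1 + 1)
    rw [← ModuleCat.hom_comp, h]
    rfl
  constructor
  · haveI : Module.Flat A (C.X (0 + 1)) := hflat 0 (by omega)
    haveI : Module.Flat A (C.X (0 + 1 + 1)) := hflat (0 + 1) (by omega)
    exact first_flat A (C.X 0) (C.X (0 + 1)) (C.X (0 + 1 + 1)) (C.d 0 (0 + 1)).hom
      (C.d (0 + 1) (0 + 1 + 1)).hom (dd 0) (E 0 (by omega)) E0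
  · haveI : Module.Flat A (C.X (m + 1)) := hflat m (by omega)
    haveI : Module.Flat A (C.X (m + 1 + 1)) := hflat (m + 1) (by omega)
    exact (core A (C.X m) (C.X (m + 1)) (C.X (m + 1 + 1)) (C.d m (m + 1)).hom
      (C.d (m + 1) (m + 1 + 1)).hom (dd m) (E m le_rfl)).1

end Groth.Agent.S15133
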