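import Groth.Statements.S15135
-- import your own Groth.Agent.* helpers here
import Mathlib

set_option autoImplicit false
universe u v
open Deform

namespace Groth.Agent.S15135


/-- The submodule of `N × N` attached to a linear map `φ : M → N ⧸ M`. -/
def graphL {R : Type u} [CommRing R] {N : Type v} [AddCommGroup N] [Module R N]
    (M : Submodule R N) (φ : M →ₗ[R] (N ⧸ M)) : Submodule R (N × N) where
  carrier := {p | ∃ h : p.1 ∈ M, (Submodule.Quotient.mk p.2 : N ⧸ M) = φ ⟨p.1, h⟩}
  zero_mem' := ⟨M.zero_mem, by
    show (Submodule.Quotient.mk (0 : N) : N ⧸ M) = φ ⟨0, M.zero_mem⟩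
    rw [Submodule.Quotient.mk_zero]
    exact (map_zero φ).symm⟩
  add_mem' := by
    rintro p q ⟨hp, ep⟩ ⟨hq, eq⟩
    refine ⟨M.add_mem hp hq, ?_⟩
    show (Submodule.Quotient.mk (p.2 + q.2) : N ⧸ M) = φ ⟨p.1 + q.1, M.add_mem hp hq⟩
    rw [Submodule.Quotient.mk_add, ep, eq, ← map_add]
    rfl
  smul_mem' := by
    rintro c p ⟨hp, ep⟩
    refine ⟨M.smul_mem c hp, ?_⟩
    show (Submodule.Quotient.mk (c • p.2) : N ⧸ M) = φ ⟨c • p.1, M.smul_mem c hp⟩
    rw [Submodule.Quotient.mk_smul, ep, ← map_smul]
    rfl

/-- For R-modules M ⊆ N, the first-order embedded deformations of M in N are in canonical bijection with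
Hom_R(M, N/M). Writing N ⊗ k[ε] = N ⊕ εN as N × N (the pair (x, y) standing for x + εy), such a
deformation is an R-submodule L of N × N which is stable under multiplication by ε (if (x, y) ∈ L
then (0, x) ∈ L), reduces to M (x ∈ M exactly when (x, y) ∈ L for some y) and is flat over the dual
numbers, flatness being stated elementwise as: (0, y) ∈ L only if y ∈ M (for a submodule reducing to
M this is the equality of the kernel and the image of ε on L, i.e. flatness over k[ε] when R is an
algebra over a field k). To φ : M → N/M corresponds the submodule of all (x, y) with x ∈ M and y ≡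
φ(x) mod M. The first clause says this rule defines exactly one submodule for each φ; the second
says that a submodule has the three properties precisely when its membership is given by this rule
for some φ. (The published statement is a linear isomorphism t_G ≅ Hom_R(M, N/M) for the functor G
of flat deformations of M inside N ⊗ A over local Artinian algebras A; this row states only the
underlying bijection, and the obstruction half is not stated here.) -/
theorem result
    (R : Type u) [CommRing R] (N : Type v) [AddCommGroup N] [Module R N] (M : Submodule R N) :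
    (∀ φ : M →ₗ[R] (N ⧸ M), ∃! L : Submodule R (N × N),
        ∀ x y : N, (x, y) ∈ L ↔ ∃ h : x ∈ M, Submodule.Quotient.mk y = φ ⟨x, h⟩) ∧
    (∀ L : Submodule R (N × N),
      ((∀ x y : N, (x, y) ∈ L → ((0 : N), x) ∈ L) ∧
        (∀ x : N, x ∈ M ↔ ∃ y : N, (x, y) ∈ L) ∧
        (∀ y : N, ((0 : N), y) ∈ L → y ∈ M)) ↔
      ∃ φ : M →ₗ[R] (N ⧸ M), ∀ x y : N, (x, y) ∈ L ↔ ∃ h : x ∈ M, Submodule.Quotient.mk y = φ ⟨x, h⟩) := by
  refine ⟨?_, ?_⟩
  · intro φ
    refine ⟨graphL M φ, fun x y => Iff.rfl, ?_⟩
    intro L' hL'
    refine Submodule.ext (fun p => ?_)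
    obtain ⟨x, y⟩ := p
    exact (hL' x y).trans Iff.rfl
  · intro L
    constructor
    · rintro ⟨ha, hb, hc⟩
      have key : ∀ (x : M) (y : N), (x.1, y) ∈ L →
          (Submodule.Quotient.mk y : N ⧸ M)
            = Submodule.Quotient.mk (Classical.choose ((hb x.1).mp x.2)) := by
        intro x y hy
        have hs := Classical.choose_spec ((hb x.1).mp x.2)
        rw [Submodule.Quotient.eq]
        apply hc
        have h1 := L.sub_mem hy hs
        simpa using h1
      refine ⟨{ toFun := fun x => Submodule.Quotient.mk (Classical.choose ((hb x.1).mp x.2))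
                map_add' := ?_
                map_smul' := ?_ }, ?_⟩
      · intro x x'
        have hs := Classical.choose_spec ((hb x.1).mp x.2)
        have hs' := Classical.choose_spec ((hb x'.1).mp x'.2)
        have h2 := key (x + x') _ (L.add_mem hs hs')
        rw [← h2]
        exact Submodule.Quotient.mk_add M
      · intro c x
        have hs := Classical.choose_spec ((hb x.1).mp x.2)
        have h2 := key (c • x) _ (L.smul_mem c hs)
        rw [← h2]
        exact Submodule.Quotient.mk_smul M c _
      · intro x y
        constructor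
        · intro hxy
          have h : x ∈ M := (hb x).mpr ⟨y, hxy⟩
          exact ⟨h, key ⟨x, h⟩ y hxy⟩
        · rintro ⟨h, e⟩
          have hs := Classical.choose_spec ((hb x).mp h)
          have hd : y - Classical.choose ((hb x).mp h) ∈ M := (Submodule.Quotient.eq M).mp e
          obtain ⟨z, hz⟩ := (hb _).mp hd
          have h0 := ha _ _ hz
          have h3 := L.add_mem hs h0
          simpa using h3
    · rintro ⟨φ, hφ⟩
      refine ⟨?_, ?_, ?_⟩
      · intro x y hxy
        obtain ⟨h, _⟩ := (hφ x y).mp hxy
        refine (hφ 0 x).mpr ⟨M.zero_mem, ?_⟩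
        rw [(Submodule.Quotient.mk_eq_zero M).mpr h]
        exact (map_zero φ).symm
      · intro x
        constructor
        · intro h
          obtain ⟨y, hy⟩ := Submodule.Quotient.mk_surjective M (φ ⟨x, h⟩)
          exact ⟨y, (hφ x y).mpr ⟨h, hy⟩⟩
        · rintro ⟨y, hy⟩
          obtain ⟨h, _⟩ := (hφ x y).mp hy
          exact h
      · intro y h0
        obtain ⟨h, e⟩ := (hφ 0 y).mp h0
        have hz : φ ⟨0, h⟩ = 0 := map_zero φ
        rw [hz] at e
        exact (Submodule.Quotient.mk_eq_zero M).mp e

end Groth.Agent.S15135
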