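import Groth.Statements.S15146
-- import your own Groth.Agent.* helpers here
import Mathlib

set_option autoImplicit false
universe u
open HilbZeta

namespace Groth.Agent.S15146

/-- Let k be a field, s a natural number and R a k-subalgebra of the product of s copies of the power
series ring k[[x]], of finite codimension δ over k and local with residue field k (all components of
an element of R have the same constant term); write v_i for the x-adic order of the i-th component
of an s-tuple, and let c = (c_1, …, c_s) be the conductor exponents, so that an s-tuple f satisfies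
f·g ∈ R for every s-tuple g exactly when v_i(f) ≥ c_i for all i (over an algebraically closed field
such an R is precisely the completed local ring of a reduced curve singularity having s branches
sitting inside its normalisation, δ is its delta invariant and the conductor ideal is generated by
the x_i^{c_i}). If J is an ideal of R of finite colength which contains, for each i, an element f_i
with v_i(f_i) = l_i, then every s-tuple g with v_i(g) ≥ l_i + c_i for all i lies in R and belongs to
J. (The published statement is over an algebraically closed field; this row allows any field.) -/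
theorem result (k : Type u) [Field k] (s : ℕ)
    (R : Subalgebra k (Fin s → PowerSeries k))
    (hfin : Module.Finite k ((Fin s → PowerSeries k) ⧸ Subalgebra.toSubmodule R))
    (hloc : ∀ f ∈ R, ∀ i j : Fin s, PowerSeries.constantCoeff (f i) = PowerSeries.constantCoeff (f j))
    (c : Fin s → ℕ)
    (hc : ∀ f : Fin s → PowerSeries k,
      (∀ g : Fin s → PowerSeries k, g * f ∈ R) ↔ ∀ i, ((c i : ℕ) : ℕ∞) ≤ (f i).order)
    (J : Ideal ↥R) (hJ : Module.Finite k (↥R ⧸ J))
    (l : Fin s → ℕ) (hl : ∀ i : Fin s, ∃ f ∈ J, ((f : Fin s → PowerSeries k) i).order = ((l i : ℕ) : ℕ∞))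
    (g : Fin s → PowerSeries k) (hg : ∀ i : Fin s, ((l i + c i : ℕ) : ℕ∞) ≤ (g i).order) :
    ∃ hgR : g ∈ R, (⟨g, hgR⟩ : ↥R) ∈ J := by
  classical
  choose F hFJ hFord using hl
  have hstep : ∀ i : Fin s, ∃ h : Fin s → PowerSeries k,
      (∀ j, ((c j : ℕ) : ℕ∞) ≤ (h j).order) ∧
        h * (F i : Fin s → PowerSeries k) = Pi.single i (g i) := by
    intro i
    have hne : ((F i : Fin s → PowerSeries k) i) ≠ 0 := by
      intro h0
      have := hFord i
      rw [h0, PowerSeries.order_zero (R := k)] at this
      exact ENat.top_ne_coe _ this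
    have hu : ((F i : Fin s → PowerSeries k) i) = (PowerSeries.X : PowerSeries k) ^ (l i) *
        ((PowerSeries.Unit_of_divided_by_X_pow_order ((F i : Fin s → PowerSeries k) i) :
          (PowerSeries k)ˣ) : PowerSeries k) := by
      rw [PowerSeries.Unit_of_divided_by_X_pow_order_nonzero hne]
      have h1 := PowerSeries.X_pow_order_mul_divXPowOrder (f := ((F i : Fin s → PowerSeries k) i))
      rw [hFord i, ENat.toNat_coe] at h1
      exact h1.symm
    obtain ⟨w, hw⟩ : (PowerSeries.X : PowerSeries k) ^ (l i + c i) ∣ g i := by
      rw [PowerSeries.X_pow_dvd_iff]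
      intro m hm
      apply PowerSeries.coeff_of_lt_order
      exact lt_of_lt_of_le (by exact_mod_cast hm) (hg i)
    obtain ⟨u, hudef⟩ : ∃ u : (PowerSeries k)ˣ,
      u = PowerSeries.Unit_of_divided_by_X_pow_order ((F i : Fin s → PowerSeries k) i) := ⟨_, rfl⟩
    rw [← hudef] at hu
    refine ⟨Pi.single i ((PowerSeries.X : PowerSeries k) ^ (c i) * w * ((u⁻¹ : (PowerSeries k)ˣ) : PowerSeries k)), ?_, ?_⟩
    · intro j
      by_cases hj : j = i
      · subst hj
        rw [Pi.single_eq_same, mul_assoc]
        calc ((c j : ℕ) : ℕ∞) = (PowerSeries.X ^ (c j) : PowerSeries k).order :=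
              (PowerSeries.order_X_pow _).symm
          _ ≤ (PowerSeries.X ^ (c j) : PowerSeries k).order + (w * ((u⁻¹ : (PowerSeries k)ˣ) : PowerSeries k)).order := le_self_add
          _ ≤ _ := PowerSeries.le_order_mul _ _
      · rw [Pi.single_eq_of_ne hj, PowerSeries.order_zero (R := k)]; exact le_top
    · funext j
      by_cases hj : j = i
      · subst hj
        rw [Pi.mul_apply, Pi.single_eq_same, Pi.single_eq_same, hu, hw]
        have hinv : ((u⁻¹ : (PowerSeries k)ˣ) : PowerSeries k) * (u : PowerSeries k) = 1 := Units.inv_mul u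
        calc (PowerSeries.X : PowerSeries k) ^ c j * w * ((u⁻¹ : (PowerSeries k)ˣ) : PowerSeries k) *
              ((PowerSeries.X : PowerSeries k) ^ l j * (u : PowerSeries k))
            = (PowerSeries.X : PowerSeries k) ^ (l j + c j) * w *
              (((u⁻¹ : (PowerSeries k)ˣ) : PowerSeries k) * (u : PowerSeries k)) := by ring
          _ = _ := by rw [hinv, mul_one]
      · rw [Pi.mul_apply, Pi.single_eq_of_ne hj, Pi.single_eq_of_ne hj, zero_mul]
  choose h hcond hmul using hstep
  have hR : ∀ i, h i ∈ R := fun i => by
    have := (hc (h i)).mpr (hcond i) 1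
    rwa [one_mul] at this
  obtain ⟨e, hedef⟩ : ∃ e : ↥R, e = ∑ i, (⟨h i, hR i⟩ : ↥R) * F i := ⟨_, rfl⟩
  have heJ : e ∈ J := by
    rw [hedef]; exact J.sum_mem (fun i _ => J.mul_mem_left _ (hFJ i))
  have heval : R.val e = g := by
    rw [hedef, map_sum]
    simp only [map_mul, Subalgebra.coe_val]
    simp only [hmul]
    exact Finset.univ_sum_single g
  have hgR : g ∈ R := by rw [← heval]; exact e.2
  refine ⟨hgR, ?_⟩
  have : (⟨g, hgR⟩ : ↥R) = e := Subtype.ext heval.symm
  rw [this]; exact heJ

end Groth.Agent.S15146
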