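import Groth.Statements.S15150
-- import your own Groth.Agent.* helpers here
import Mathlib

set_option autoImplicit false
universe u
open HilbZeta

namespace Groth.Agent.S15150

open TensorProduct

lemma nilrad_pow_finrank (k R : Type*) [Field k] [CommRing R] [Algebra k R] [Module.Finite k R] :
    (nilradical R) ^ (Module.finrank k R) = ⊥ := by
  classical
  haveI : IsArtinianRing R := IsArtinianRing.of_finite k R
  have hjac : nilradical R ≤ Ideal.jacobson ⊥ := by
    intro x hx
    rw [Ideal.mem_jacobson_bot]
    intro y
    have h1 : IsNilpotent (x * y) := mem_nilradical.mp ((nilradical R).mul_mem_right y hx)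
    exact h1.isUnit_add_one
  have key : ∀ i : ℕ, (nilradical R) ^ i = ⊥ ∨
      Module.finrank k (((nilradical R) ^ i).restrictScalars k) + i ≤ Module.finrank k R := by
    intro i
    induction i with
    | zero =>
      right
      rw [pow_zero, Ideal.one_eq_top, Submodule.restrictScalars_top, finrank_top, add_zero]
    | succ i ih =>
      rcases ih with h | h
      · left
        rw [pow_succ, h, Ideal.bot_mul]
      · by_cases h0 : (nilradical R) ^ (i+1) = ⊥
        · exact Or.inl h0
        · right
          have hlt : ((nilradical R) ^ (i+1)).restrictScalars k
              < ((nilradical R) ^ i).restrictScalars k := by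
            rw [lt_iff_le_and_ne]
            constructor
            · intro x hx
              exact Ideal.pow_le_pow_right (Nat.le_succ i) hx
            · intro heq
              have heq' : (nilradical R) ^ (i+1) = (nilradical R) ^ i :=
                Submodule.restrictScalars_injective k R R heq
              apply h0
              rw [heq']
              apply Submodule.eq_bot_of_le_smul_of_le_jacobson_bot (nilradical R) _
                (IsNoetherian.noetherian _) _ hjac
              rw [smul_eq_mul, ← pow_succ', heq']
          have h2 := Submodule.finrank_lt_finrank_of_lt hlt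
          omega
  rcases key (Module.finrank k R) with h | h
  · exact h
  · have h0 : Module.finrank k (((nilradical R) ^ (Module.finrank k R)).restrictScalars k) = 0 := by
      omega
    have h1 := Submodule.finrank_eq_zero.mp h0
    exact (Submodule.restrictScalars_eq_bot_iff k R R).mp h1

lemma eq_zero_of_fibres (A : Type*) [CommRing A] [IsReduced A] (M : Type*) [AddCommGroup M]
    [Module A M] [Module.Projective A M] (m : M)
    (h : ∀ p : PrimeSpectrum A, (1 : p.asIdeal.ResidueField) ⊗ₜ[A] m = 0) : m = 0 := by
  obtain ⟨s, hs⟩ := Module.projective_def'.mp (inferInstance : Module.Projective A M)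
  have hsm : s m = 0 := by
    ext i
    rw [Finsupp.zero_apply]
    apply IsReduced.eq_zero
    rw [nilpotent_iff_mem_prime]
    intro P hP
    haveI := hP
    let φ : M →ₗ[A] A := (Finsupp.lapply i) ∘ₗ s
    have h1 := h ⟨P, hP⟩
    have h2 : (TensorProduct.rid A P.ResidueField)
        (LinearMap.lTensor P.ResidueField φ ((1 : P.ResidueField) ⊗ₜ[A] m))
        = algebraMap A P.ResidueField (φ m) := by
      rw [LinearMap.lTensor_tmul, TensorProduct.rid_tmul, Algebra.smul_def, mul_one]
    rw [h1, map_zero, map_zero] at h2
    exact Ideal.algebraMap_residueField_eq_zero.mp h2.symm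
  have h3 := LinearMap.congr_fun hs m
  rw [LinearMap.comp_apply, hsm, map_zero, LinearMap.id_apply] at h3
  exact h3.symm

/-- Let A be a reduced commutative ring, S an A-algebra together with an A-algebra homomorphism π : S →
A (a section of Spec S → Spec A), with kernel m, and I an ideal of S such that S/I is a finite
projective A-module of constant rank d and m is contained in the radical of I (the finite flat
subscheme Spec S/I of degree d lies, as a set, on the section). Then m^d ⊆ I: the subscheme lies in
the (d−1)-st infinitesimal neighbourhood of the section. (The published statement is for a closed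
subscheme, flat and proper of degree d over a Noetherian base, of a family of reduced curve
singularities with a section, with no reducedness assumption on the base; over the dual numbers k[ε]
the ideal (x − ε) of k[ε][x] has quotient free of rank one and radical containing x but does not
contain x, so the base is taken reduced here, and the statement is given in its affine form, to
which the argument reduces at once; the curve hypotheses play no role and are dropped; the condition
that Spec S/I lies set-theoretically on the section, which the published argument deduces from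
properness of Z inside the germ, is a hypothesis here.) -/
theorem result (A : Type u) [CommRing A] [IsReduced A]
    (S : Type u) [CommRing S] [Algebra A S] (π : S →ₐ[A] A) (I : Ideal S) (d : ℕ)
    [Module.Finite A (S ⧸ I)] [Module.Projective A (S ⧸ I)]
    (hrank : ∀ p : PrimeSpectrum A, Module.rankAtStalk (R := A) (S ⧸ I) p = d)
    (hsupp : RingHom.ker π ≤ I.radical) :
    RingHom.ker π ^ d ≤ I := by
  classical
  have hJnil : ∀ x ∈ RingHom.ker π, IsNilpotent (Ideal.Quotient.mk I x) := by
    intro x hx
    obtain ⟨n, hn⟩ := hsupp hx
    exact ⟨n, by rw [← map_pow]; exact Ideal.Quotient.eq_zero_iff_mem.mpr hn⟩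
  have hmain : (Ideal.map (Ideal.Quotient.mk I) (RingHom.ker π)) ^ d = ⊥ := by
    rw [eq_bot_iff]
    intro b hb
    rw [Ideal.mem_bot]
    apply eq_zero_of_fibres A (S ⧸ I) b
    intro p
    let incl : (S ⧸ I) →ₐ[A] p.asIdeal.ResidueField ⊗[A] (S ⧸ I) :=
      Algebra.TensorProduct.includeRight
    have h1 : incl b ∈ (Ideal.map incl (Ideal.map (Ideal.Quotient.mk I) (RingHom.ker π))) ^ d := by
      rw [← Ideal.map_pow]
      exact Ideal.mem_map_of_mem _ hb
    have h2 : Ideal.map incl (Ideal.map (Ideal.Quotient.mk I) (RingHom.ker π))
        ≤ nilradical (p.asIdeal.ResidueField ⊗[A] (S ⧸ I)) := by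
      rw [Ideal.map_le_iff_le_comap, Ideal.map_le_iff_le_comap]
      intro x hx
      rw [Ideal.mem_comap, Ideal.mem_comap, mem_nilradical]
      exact (hJnil x hx).map incl
    have h3 : Module.finrank p.asIdeal.ResidueField (p.asIdeal.ResidueField ⊗[A] (S ⧸ I)) = d := by
      rw [← hrank p, Module.rankAtStalk_eq]
    have h4 := nilrad_pow_finrank p.asIdeal.ResidueField (p.asIdeal.ResidueField ⊗[A] (S ⧸ I))
    rw [h3] at h4
    have h5 := Ideal.pow_right_mono h2 d h1
    rw [h4, Ideal.mem_bot] at h5
    exact h5
  calc RingHom.ker π ^ d
      ≤ Ideal.comap (Ideal.Quotient.mk I) (Ideal.map (Ideal.Quotient.mk I) (RingHom.ker π ^ d)) :=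
        Ideal.le_comap_map
    _ = Ideal.comap (Ideal.Quotient.mk I) ⊥ := by rw [Ideal.map_pow, hmain]
    _ = I := by rw [← RingHom.ker_eq_comap_bot, Ideal.mk_ker]

end Groth.Agent.S15150
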