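import Groth.Statements.S15162
-- import your own Groth.Agent.* helpers here
import Mathlib

set_option autoImplicit false
open Matrix
open BddFin

namespace Groth.Agent.S15162

/-- Let Γ be a finite subgroup of GL_2(ℤ) acting on ℤ² by matrix multiplication. If every element of Γ
has a non-zero fixed vector in ℤ², then there is a non-zero vector of ℤ² fixed by all of Γ. -/
theorem result
    (Γ : Subgroup (Matrix.GeneralLinearGroup (Fin 2) ℤ)) [Finite Γ]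
    (h : ∀ γ ∈ Γ, ∃ v : Fin 2 → ℤ, v ≠ 0 ∧ (γ : Matrix (Fin 2) (Fin 2) ℤ) *ᵥ v = v) :
    ∃ v : Fin 2 → ℤ, v ≠ 0 ∧ ∀ γ ∈ Γ, (γ : Matrix (Fin 2) (Fin 2) ℤ) *ᵥ v = v := by
  classical
  haveI : Fintype Γ := Fintype.ofFinite Γ
  let N : Matrix (Fin 2) (Fin 2) ℤ :=
    ∑ δ : Γ, ((δ : Matrix.GeneralLinearGroup (Fin 2) ℤ) : Matrix (Fin 2) (Fin 2) ℤ)
  have hmul : ∀ γ ∈ Γ, (γ : Matrix (Fin 2) (Fin 2) ℤ) * N = N := by
    intro γ hγ
    simp only [N, Finset.mul_sum]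
    exact Fintype.sum_equiv (Equiv.mulLeft (⟨γ, hγ⟩ : Γ)) _ _ (fun δ => by simp)
  have htr : ∀ γ ∈ Γ, 0 ≤ Matrix.trace (γ : Matrix (Fin 2) (Fin 2) ℤ) := by
    intro γ hγ
    obtain ⟨v, hv0, hv⟩ := h γ hγ
    have hdet0 : (1 - (γ : Matrix (Fin 2) (Fin 2) ℤ)).det = 0 := by
      apply Matrix.exists_mulVec_eq_zero_iff.mp
      exact ⟨v, hv0, by rw [Matrix.sub_mulVec, Matrix.one_mulVec, hv, sub_self]⟩
    have hdetγ : (γ : Matrix (Fin 2) (Fin 2) ℤ).det = 1 ∨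
        (γ : Matrix (Fin 2) (Fin 2) ℤ).det = -1 := by
      have : IsUnit (γ : Matrix (Fin 2) (Fin 2) ℤ).det :=
        (Matrix.isUnit_iff_isUnit_det _).mp ⟨γ, rfl⟩
      exact Int.isUnit_iff.mp this
    have e00 : (1 - (γ : Matrix (Fin 2) (Fin 2) ℤ)) 0 0 = 1 - (γ : Matrix (Fin 2) (Fin 2) ℤ) 0 0 := by
      simp
    have e01 : (1 - (γ : Matrix (Fin 2) (Fin 2) ℤ)) 0 1 = - (γ : Matrix (Fin 2) (Fin 2) ℤ) 0 1 := by
      simp
    have e10 : (1 - (γ : Matrix (Fin 2) (Fin 2) ℤ)) 1 0 = - (γ : Matrix (Fin 2) (Fin 2) ℤ) 1 0 := by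
      simp
    have e11 : (1 - (γ : Matrix (Fin 2) (Fin 2) ℤ)) 1 1 = 1 - (γ : Matrix (Fin 2) (Fin 2) ℤ) 1 1 := by
      simp
    rw [Matrix.det_fin_two, e00, e01, e10, e11] at hdet0
    rw [Matrix.det_fin_two] at hdetγ
    rw [Matrix.trace_fin_two]
    rcases hdetγ with h1 | h1 <;> nlinarith [hdet0, h1]
  have htrN : 2 ≤ Matrix.trace N := by
    simp only [N, Matrix.trace_sum]
    have h1 : Matrix.trace (((1 : Γ) : Matrix.GeneralLinearGroup (Fin 2) ℤ) :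
        Matrix (Fin 2) (Fin 2) ℤ) = 2 := by
      simp [Matrix.trace_fin_two]
    calc (2 : ℤ) = _ := h1.symm
      _ ≤ _ := Finset.single_le_sum
        (f := fun δ : Γ => Matrix.trace ((δ : Matrix.GeneralLinearGroup (Fin 2) ℤ) :
          Matrix (Fin 2) (Fin 2) ℤ)) (fun δ _ => htr δ δ.2) (Finset.mem_univ (1 : Γ))
  have hN0 : N ≠ 0 := by
    intro h0
    rw [h0, Matrix.trace_zero] at htrN
    omega
  obtain ⟨j, hj⟩ : ∃ j, N *ᵥ (Pi.single j 1) ≠ 0 := by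
    by_contra hcon
    apply hN0
    ext i j
    have h2 : N *ᵥ (Pi.single j 1) = 0 := by
      by_contra h'
      exact hcon ⟨j, h'⟩
    have h3 := congrFun h2 i
    simpa [Matrix.mulVec_single_one] using h3
  refine ⟨N *ᵥ (Pi.single j 1), hj, fun γ hγ => ?_⟩
  rw [Matrix.mulVec_mulVec, hmul γ hγ]

end Groth.Agent.S15162
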