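import Groth.Statements.S15163
-- import your own Groth.Agent.* helpers here
import Mathlib
import Groth.Agent.S15162

set_option autoImplicit false
open Matrix
open BddFin

namespace Groth.Agent.S15163

/-- Let Γ be a finite subgroup of GL_2(ℤ) and d > 6 an integer. Suppose some vector w of (ℤ/dℤ)², with
m·w ≠ 0 for all 0 < m < d, is fixed by the reduction modulo d of every element of Γ. Then some
non-zero vector of ℤ² is fixed by all of Γ. -/
theorem result
    (Γ : Subgroup (Matrix.GeneralLinearGroup (Fin 2) ℤ)) [Finite Γ] (d : ℕ) (hd : 6 < d)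
    (w : Fin 2 → ZMod d) (hw : ∀ m : ℕ, 0 < m → m < d → m • w ≠ 0)
    (hfix : ∀ γ ∈ Γ, ((γ : Matrix (Fin 2) (Fin 2) ℤ).map (Int.castRingHom (ZMod d))) *ᵥ w = w) :
    ∃ v : Fin 2 → ℤ, v ≠ 0 ∧ ∀ γ ∈ Γ, (γ : Matrix (Fin 2) (Fin 2) ℤ) *ᵥ v = v := by
  classical
  apply Groth.Agent.S15162.result Γ
  intro γ hγ
  obtain ⟨M, hM⟩ : ∃ M : Matrix (Fin 2) (Fin 2) ℤ, M = (γ : Matrix (Fin 2) (Fin 2) ℤ) := ⟨_, rfl⟩
  rw [← hM]
  obtain ⟨n, hn0, hn⟩ : ∃ n : ℕ, 0 < n ∧ M ^ n = 1 := by
    have hfo : IsOfFinOrder (⟨γ, hγ⟩ : Γ) := isOfFinOrder_of_finite _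
    obtain ⟨n, hn0, hn⟩ := hfo.exists_pow_eq_one
    refine ⟨n, hn0, ?_⟩
    have h1 : γ ^ n = 1 := by
      have := congrArg Subtype.val hn
      simpa using this
    have h2 := congrArg
      (fun g : Matrix.GeneralLinearGroup (Fin 2) ℤ => (g : Matrix (Fin 2) (Fin 2) ℤ)) h1
    simpa [hM] using h2
  have hdetM : M.det = 1 ∨ M.det = -1 := by
    have : IsUnit M.det := by
      rw [hM]; exact (Matrix.isUnit_iff_isUnit_det _).mp ⟨γ, rfl⟩
    exact Int.isUnit_iff.mp this
  have hCH : M * M = M.trace • M - M.det • (1 : Matrix (Fin 2) (Fin 2) ℤ) := by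
    ext i j
    rw [Matrix.sub_apply, Matrix.smul_apply, Matrix.smul_apply, Matrix.mul_apply,
      Fin.sum_univ_two, Matrix.trace_fin_two, Matrix.det_fin_two, smul_eq_mul, smul_eq_mul]
    fin_cases i <;> fin_cases j <;> simp [Matrix.one_apply] <;> ring
  have hrec : ∀ j : ℕ, (M ^ (j + 2)).trace
      = M.trace * (M ^ (j + 1)).trace - M.det * (M ^ j).trace := by
    intro j
    have h1 : M ^ (j + 2) = M.trace • M ^ (j + 1) - M.det • M ^ j := by
      rw [pow_add, pow_two, hCH, mul_sub, Matrix.mul_smul, Matrix.mul_smul, mul_one, ← pow_succ]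
    rw [h1, Matrix.trace_sub, Matrix.trace_smul, Matrix.trace_smul, smul_eq_mul, smul_eq_mul]
  have htr1 : (1 : Matrix (Fin 2) (Fin 2) ℤ).trace = 2 := by simp [Matrix.trace_fin_two]
  have htr : |M.trace| ≤ 2 := by
    by_contra hcon
    have h3 : 3 ≤ |M.trace| := by omega
    have hdabs : |M.det| = 1 := by rcases hdetM with h | h <;> rw [h] <;> simp
    have hstep : ∀ j : ℕ, |(M ^ j).trace| < |(M ^ (j + 1)).trace| := by
      intro j
      induction j with
      | zero =>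
        rw [pow_zero, zero_add, pow_one, htr1]
        have : |(2 : ℤ)| = 2 := by norm_num
        omega
      | succ j ih =>
        show |(M ^ (j + 1)).trace| < |(M ^ (j + 2)).trace|
        rw [hrec j]
        have h4 : |M.trace * (M ^ (j + 1)).trace| = |M.trace| * |(M ^ (j + 1)).trace| :=
          abs_mul _ _
        have h5 : |M.det * (M ^ j).trace| = |(M ^ j).trace| := by rw [abs_mul, hdabs, one_mul]
        have h6 := abs_sub_abs_le_abs_sub (M.trace * (M ^ (j + 1)).trace) (M.det * (M ^ j).trace)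
        have h7 : 0 ≤ |(M ^ j).trace| := abs_nonneg _
        nlinarith [mul_le_mul_of_nonneg_right h3 (abs_nonneg (M ^ (j + 1)).trace)]
    have hmono : StrictMono (fun j : ℕ => |(M ^ j).trace|) := strictMono_nat_of_lt_succ hstep
    have h8 := hmono hn0
    simp only [pow_zero, hn] at h8
    exact lt_irrefl _ h8
  have e00 : (1 - M) 0 0 = 1 - M 0 0 := by simp
  have e01 : (1 - M) 0 1 = - M 0 1 := by simp
  have e10 : (1 - M) 1 0 = - M 1 0 := by simp
  have e11 : (1 - M) 1 1 = 1 - M 1 1 := by simp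
  have hD : (1 - M).det = 1 - M.trace + M.det := by
    rw [Matrix.det_fin_two, Matrix.det_fin_two, Matrix.trace_fin_two, e00, e01, e10, e11]
    ring
  have hdvd : (d : ℤ) ∣ (1 - M).det := by
    haveI hd0 : NeZero d := ⟨by omega⟩
    obtain ⟨Mb, hMb⟩ : ∃ Mb : Matrix (Fin 2) (Fin 2) (ZMod d),
      Mb = M.map (Int.castRingHom (ZMod d)) := ⟨_, rfl⟩
    have h1 : (1 - Mb) *ᵥ w = 0 := by
      rw [Matrix.sub_mulVec, Matrix.one_mulVec, hMb, hM, hfix γ hγ, sub_self]
    have h2 : (1 - Mb).det • w = 0 := by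
      have h2' := congrArg (fun u => (1 - Mb).adjugate *ᵥ u) h1
      simp only [Matrix.mulVec_mulVec, Matrix.adjugate_mul, Matrix.mulVec_zero] at h2'
      simpa [Matrix.smul_mulVec] using h2'
    have h3 : (1 - Mb).det = (((1 - M).det : ℤ) : ZMod d) := by
      have h3' : (1 - Mb) = (Int.castRingHom (ZMod d)).mapMatrix (1 - M) := by
        rw [map_sub, map_one, hMb]; rfl
      rw [h3', ← RingHom.map_det]; rfl
    rw [h3] at h2
    by_contra hnd
    have hne : (((1 - M).det : ℤ) : ZMod d) ≠ 0 :=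
      fun h0 => hnd ((ZMod.intCast_zmod_eq_zero_iff_dvd _ d).mp h0)
    obtain ⟨c, hc⟩ : ∃ c : ZMod d, c = (((1 - M).det : ℤ) : ZMod d) := ⟨_, rfl⟩
    rw [← hc] at h2 hne
    have hval_pos : 0 < c.val := Nat.pos_of_ne_zero (fun h0 => hne ((ZMod.val_eq_zero c).mp h0))
    have hval_lt : c.val < d := ZMod.val_lt c
    apply hw c.val hval_pos hval_lt
    rw [← Nat.cast_smul_eq_nsmul (ZMod d), ZMod.natCast_zmod_val]; exact h2
  have hzero : (1 - M).det = 0 := by
    apply Int.eq_zero_of_abs_lt_dvd hdvd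
    rw [hD]
    have h9 := abs_le.mp htr
    have hd7 : (6 : ℤ) < d := by exact_mod_cast hd
    rcases hdetM with h | h <;> rw [h, abs_lt] <;> constructor <;> omega
  obtain ⟨v, hv0, hv⟩ := Matrix.exists_mulVec_eq_zero_iff.mpr hzero
  refine ⟨v, hv0, ?_⟩
  rw [Matrix.sub_mulVec, Matrix.one_mulVec, sub_eq_zero] at hv
  exact hv.symm

end Groth.Agent.S15163
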