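import Groth.Statements.S15164
-- import your own Groth.Agent.* helpers here
import Mathlib

set_option autoImplicit false
universe u v
open BddFin

namespace Groth.Agent.S15164

/-- Let K be a field of characteristic p > 2, V a finite-dimensional K-vector space and q a quadratic
form on V that does not represent zero (q x = 0 only for x = 0). Then the group of K-linear
automorphisms of V preserving q has no element of order p: if g preserves q and g ^ p = 1 then g =
1. (Non-degeneracy of q, also assumed in the published statement, follows from anisotropy since 2 is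
invertible, so it is not repeated here.) -/
theorem result
    (K : Type u) [Field K] (p : ℕ) [Fact p.Prime] [CharP K p] (hp : p ≠ 2)
    (V : Type v) [AddCommGroup V] [Module K V] [FiniteDimensional K V]
    (q : QuadraticForm K V) (hq : q.Anisotropic)
    (g : V ≃ₗ[K] V) (hg : ∀ x : V, q (g x) = q x) (hgp : g ^ p = 1) : g = 1 := by
  by_cases hV : Subsingleton V
  · ext x; exact Subsingleton.elim _ _
  rw [not_subsingleton_iff_nontrivial] at hV
  have h2 : (2 : K) ≠ 0 := by
    intro h
    have h' : ((2 : ℕ) : K) = 0 := by exact_mod_cast h
    have h3 : p ∣ 2 := (CharP.cast_eq_zero_iff K p 2).1 h'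
    exact hp ((Nat.prime_dvd_prime_iff_eq Fact.out Nat.prime_two).1 h3)
  set G : Module.End K V := (g : V →ₗ[K] V) with hG
  set N : Module.End K V := G - 1 with hN
  have hgN : ∀ x, g x = x + N x := by intro x; simp [hN, hG]
  have key : ∀ u, N (N u) = 0 → N u = 0 := by
    intro u hu
    set w := N u with hw
    have e1 : q (u + w) = q u := by rw [← hgN, hg]
    have e2 : q (u + w + w) = q (u + w) := by
      have : g (u + w) = u + w + w := by rw [hgN, map_add, hu, add_zero]
      rw [← this, hg]
    have p1 : q (u + w) = q u + q w + QuadraticMap.polar q u w := by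
      simp [QuadraticMap.polar]
    have p2 : q (u + w + w) = q (u + w) + q w + QuadraticMap.polar q (u + w) w := by
      simp [QuadraticMap.polar]
    have p3 : QuadraticMap.polar q (u + w) w = QuadraticMap.polar q u w + 2 * q w := by
      rw [QuadraticMap.polar_add_left, QuadraticMap.polar_self]; simp
    have hqw : q w = 0 := by
      have h4 : 2 * q w = 0 := by linear_combination e2 - p2 + p1 - e1 - p3
      exact (mul_eq_zero.1 h4).resolve_left h2
    exact hq w hqw
  have hGp : G ^ p = 1 := by
    have h7 := map_pow (LinearEquiv.automorphismGroup.toLinearMapMonoidHom (R := K) (M := V)) g p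
    rw [hgp, map_one] at h7
    exact h7.symm
  have : CharP (Module.End K V) p :=
    charP_of_injective_algebraMap (algebraMap K (Module.End K V)).injective p
  have hNp : N ^ p = 0 := by
    rw [hN, sub_pow_char_of_commute _ (Commute.one_right G), hGp, one_pow, sub_self]
  have step : ∀ j : ℕ, N ^ (j + 1 + 1) = 0 → N ^ (j + 1) = 0 := by
    intro j hj
    ext x
    have h5 : N (N ((N ^ j) x)) = 0 := by
      have := LinearMap.congr_fun hj x
      rwa [pow_succ', pow_succ', Module.End.mul_apply, Module.End.mul_apply] at this
    have h6 := key _ h5
    rw [pow_succ', Module.End.mul_apply, h6]; rfl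
  have hall : ∀ j : ℕ, N ^ (j + 1) = 0 → N ^ 1 = 0 := by
    intro j
    induction j with
    | zero => exact id
    | succ j ih => intro h; exact ih (step j h)
  have hp1 : p = (p - 1) + 1 := (Nat.sub_add_cancel (Fact.out : p.Prime).one_le).symm
  have hN0 : N = 0 := by
    have := hall (p - 1) (by rw [← hp1]; exact hNp)
    simpa using this
  ext x
  have := hgN x
  rw [hN0] at this
  simpa using this

end Groth.Agent.S15164
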