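import Groth.Statements.S15165
-- import your own Groth.Agent.* helpers here
import Mathlib

set_option autoImplicit false
universe u v
open Polynomial
open BddFin

namespace Groth.Agent.S15165

theorem uh_isom_nilp {K : Type u} [Field K] (h2 : (2 : K) ≠ 0) {V : Type v} [AddCommGroup V]
    [Module K V] (q : QuadraticForm K V) (hq : q.Anisotropic) (G : Module.End K V)
    (hg : ∀ x, q (G x) = q x) (k : ℕ) (hk : (G - 1) ^ (k + 1) = 0) : G = 1 := by
  set N : Module.End K V := G - 1 with hN
  have hgN : ∀ x, G x = x + N x := by intro x; simp [hN]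
  have key : ∀ u, N (N u) = 0 → N u = 0 := by
    intro u hu
    set w := N u with hw
    have e1 : q (u + w) = q u := by rw [← hgN, hg]
    have e2 : q (u + w + w) = q (u + w) := by
      have : G (u + w) = u + w + w := by rw [hgN, map_add, hu, add_zero]
      rw [← this, hg]
    have p1 : q (u + w) = q u + q w + QuadraticMap.polar q u w := by
      simp [QuadraticMap.polar]
    have p2 : q (u + w + w) = q (u + w) + q w + QuadraticMap.polar q (u + w) w := by
      simp [QuadraticMap.polar]
    have p3 : QuadraticMap.polar q (u + w) w = QuadraticMap.polar q u w + 2 * q w := by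
      rw [QuadraticMap.polar_add_left, QuadraticMap.polar_self]; simp
    have hqw : q w = 0 := by
      have h4 : 2 * q w = 0 := by linear_combination e2 - p2 + p1 - e1 - p3
      exact (mul_eq_zero.1 h4).resolve_left h2
    exact hq w hqw
  have step : ∀ j : ℕ, N ^ (j + 1 + 1) = 0 → N ^ (j + 1) = 0 := by
    intro j hj
    ext x
    have h5 : N (N ((N ^ j) x)) = 0 := by
      have := LinearMap.congr_fun hj x
      rwa [pow_succ', pow_succ', Module.End.mul_apply, Module.End.mul_apply] at this
    have h6 := key _ h5
    rw [pow_succ', Module.End.mul_apply, h6]; rfl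
  have hall : ∀ j : ℕ, N ^ (j + 1) = 0 → N ^ 1 = 0 := by
    intro j
    induction j with
    | zero => exact id
    | succ j ih => intro h; exact ih (step j h)
  have hN0 : N = 0 := by
    have := hall k hk
    simpa using this
  rw [hN] at hN0
  exact sub_eq_zero.mp hN0

theorem uh_prod_dvd {K : Type u} [Field K] (s : Multiset K) (hs : ∀ a ∈ s, a * a = 1) :
    (s.map (fun a => (X - C a : K[X]))).prod ∣ (X ^ 2 - 1) ^ (Multiset.card s) := by
  induction s using Multiset.induction_on with
  | empty => simp
  | cons a s ih =>
    rw [Multiset.map_cons, Multiset.prod_cons, Multiset.card_cons, pow_succ']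
    apply mul_dvd_mul
    · refine ⟨X + C a, ?_⟩
      have h1 := hs a (Multiset.mem_cons_self a s)
      have h3 : (X - C a) * (X + C a) = X ^ 2 - C (a * a) := by rw [C_mul]; ring
      rw [h3, h1, C_1]
    · exact ih (fun b hb => hs b (Multiset.mem_cons_of_mem hb))

/-- Let K be a field of characteristic different from 2 such that K contains all roots of unity (for
every n ≥ 1 the polynomial X^n − 1 splits into linear factors over K), V a finite-dimensional
K-vector space and q a quadratic form on V that does not represent zero. If a K-linear automorphism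
g of V preserves q and has finite order (g ^ d = 1 for some d ≥ 1), then g ^ 2 = 1. (The published
statement also covers perfect fields of characteristic 2; this row is the case of characteristic ≠
2.) -/
theorem result
    (K : Type u) [Field K] (hK : ∀ n : ℕ, 0 < n → (X ^ n - 1 : K[X]).Splits) (h2 : (2 : K) ≠ 0)
    (V : Type v) [AddCommGroup V] [Module K V] [FiniteDimensional K V]
    (q : QuadraticForm K V) (hq : q.Anisotropic)
    (g : V ≃ₗ[K] V) (hg : ∀ x : V, q (g x) = q x) (d : ℕ) (hd : 0 < d) (hgd : g ^ d = 1) :
    g ^ 2 = 1 := by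
  classical
  set f : Module.End K V := (g : V →ₗ[K] V) with hf
  have hfd : f ^ d = 1 := by
    have h7 := map_pow (LinearEquiv.automorphismGroup.toLinearMapMonoidHom (R := K) (M := V)) g d
    rw [hgd, map_one] at h7
    exact h7.symm
  have hint : IsIntegral K f := Algebra.IsIntegral.isIntegral f
  have hne : (X ^ d - 1 : K[X]) ≠ 0 := by
    have := (monic_X_pow_sub_C (1 : K) hd.ne').ne_zero
    rwa [C_1] at this
  have hdvd : minpoly K f ∣ (X ^ d - 1 : K[X]) := by
    apply minpoly.dvd
    simp [hfd]
  have hsp : (minpoly K f).Splits := (hK d hd).of_dvd hne hdvd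
  have hmon : (minpoly K f).Monic := minpoly.monic hint
  have hprod := hsp.eq_prod_roots_of_monic hmon
  have hroots : ∀ a ∈ (minpoly K f).roots, a * a = 1 := by
    intro a ha
    have hr : (minpoly K f).IsRoot a := (Polynomial.mem_roots (minpoly.ne_zero hint)).mp ha
    obtain ⟨x, hx⟩ := (Module.End.hasEigenvalue_of_isRoot hr).exists_hasEigenvector
    have h1 : f x = a • x := hx.apply_eq_smul
    have h3 : q (f x) = q x := hg x
    rw [h1, QuadraticMap.map_smul] at h3
    have hqx : q x ≠ 0 := fun h0 => hx.2 (hq x h0)
    have h4 : (a * a - 1) * q x = 0 := by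
      rw [smul_eq_mul] at h3
      linear_combination h3
    have := (mul_eq_zero.mp h4).resolve_right hqx
    exact sub_eq_zero.mp this
  have hdvd2 := uh_prod_dvd (minpoly K f).roots hroots
  rw [← hprod] at hdvd2
  obtain ⟨c, hc⟩ := hdvd2
  have h5 : (f ^ 2 - 1) ^ (Multiset.card (minpoly K f).roots) = 0 := by
    have h6 := congrArg (Polynomial.aeval f) hc
    rw [map_mul, minpoly.aeval, zero_mul] at h6
    simpa using h6
  have h7 : (f ^ 2 - 1) ^ (Multiset.card (minpoly K f).roots + 1) = 0 := by
    rw [pow_succ, h5, zero_mul]
  have h8 : f ^ 2 = 1 := by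
    apply uh_isom_nilp h2 q hq (f ^ 2) _ _ h7
    intro x
    rw [pow_two, Module.End.mul_apply]
    show q (g (g x)) = q x
    rw [hg, hg]
  ext x
  have h9 := LinearMap.congr_fun h8 x
  rw [pow_two, Module.End.mul_apply] at h9
  rw [pow_two]
  exact h9

end Groth.Agent.S15165
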