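import Groth.Statements.S15166
-- import your own Groth.Agent.* helpers here
import Mathlib
import Groth.Agent.S15165

set_option autoImplicit false
universe u v
open Polynomial
open BddFin

namespace Groth.Agent.S15166

/-- Let K be a field of characteristic different from 2 such that K contains all roots of unity (for
every n ≥ 1 the polynomial X^n − 1 splits into linear factors over K), V a finite-dimensional
K-vector space and q a quadratic form on V that does not represent zero. Then every finite subgroup
of the group of K-linear automorphisms of V preserving q is abelian and has order at most 2 ^ (dim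
V). (The published statement also covers perfect fields of characteristic 2; this row is the case of
characteristic ≠ 2.) -/
theorem result
    (K : Type u) [Field K] (hK : ∀ n : ℕ, 0 < n → (X ^ n - 1 : K[X]).Splits) (h2 : (2 : K) ≠ 0)
    (V : Type v) [AddCommGroup V] [Module K V] [FiniteDimensional K V]
    (q : QuadraticForm K V) (hq : q.Anisotropic)
    (G : Subgroup (V ≃ₗ[K] V)) [Finite G] (hG : ∀ g ∈ G, ∀ x : V, q (g x) = q x) :
    (∀ g ∈ G, ∀ h ∈ G, g * h = h * g) ∧ Nat.card G ≤ 2 ^ Module.finrank K V := by
  classical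
  have hsq : ∀ g ∈ G, g ^ 2 = 1 := by
    intro g hg
    have hfo : IsOfFinOrder (⟨g, hg⟩ : G) := isOfFinOrder_of_finite _
    obtain ⟨n, hn0, hn⟩ := hfo.exists_pow_eq_one
    have h1 : g ^ n = 1 := by
      have := congrArg Subtype.val hn
      simpa using this
    exact Groth.Agent.S15165.result K hK h2 V q hq g (hG g hg) n hn0 h1
  have hcomm : ∀ g ∈ G, ∀ h ∈ G, g * h = h * g := by
    intro g hg h hh
    have e1 : g⁻¹ = g := inv_eq_of_mul_eq_one_left (by rw [← pow_two]; exact hsq g hg)
    have e2 : h⁻¹ = h := inv_eq_of_mul_eq_one_left (by rw [← pow_two]; exact hsq h hh)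
    have e3 : (g * h)⁻¹ = g * h :=
      inv_eq_of_mul_eq_one_left (by rw [← pow_two]; exact hsq _ (G.mul_mem hg hh))
    rw [mul_inv_rev, e1, e2] at e3
    exact e3.symm
  refine ⟨hcomm, ?_⟩
  haveI : Fintype G := Fintype.ofFinite G
  let f : G → Module.End K V := fun g => (g.1 : V →ₗ[K] V)
  have hf2 : ∀ (g : G) (x : V), f g (f g x) = x := by
    intro g x
    have := DFunLike.congr_fun (hsq g.1 g.2) x
    rw [pow_two] at this
    exact this
  have hcomm' : ∀ i j : G, Commute (f i) (f j) := by
    intro i j
    show f i * f j = f j * f i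
    ext x
    have := DFunLike.congr_fun (hcomm i.1 i.2 j.1 j.2) x
    exact this
  have hss : ∀ g : G, (f g).IsFinitelySemisimple := by
    intro g
    apply Module.End.IsSemisimple.isFinitelySemisimple
    apply Module.End.isSemisimple_of_squarefree_aeval_eq_zero (p := X ^ 2 - C 1)
    · exact (separable_X_pow_sub_C (1 : K) (n := 2) (by exact_mod_cast h2) one_ne_zero).squarefree
    · simp only [map_sub, map_pow, aeval_X, aeval_C, map_one]
      rw [sub_eq_zero]
      ext x
      rw [pow_two]
      exact hf2 g x
  have htri : ∀ g : G, ⨆ μ, (f g).maxGenEigenspace μ = ⊤ := by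
    intro g
    rw [eq_top_iff]
    intro x _
    have hx : x = (2 : K)⁻¹ • (x + f g x) + (2 : K)⁻¹ • (x - f g x) := by
      rw [← smul_add, add_add_sub_cancel, ← two_smul K x, smul_smul, inv_mul_cancel₀ h2, one_smul]
    rw [hx]
    apply Submodule.add_mem
    · apply Submodule.mem_iSup_of_mem (1 : K)
      apply Module.End.eigenspace_le_maxGenEigenspace
      rw [Module.End.mem_eigenspace_iff, one_smul, map_smul, map_add, hf2, add_comm]
    · apply Submodule.mem_iSup_of_mem (-1 : K)
      apply Module.End.eigenspace_le_maxGenEigenspace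
      rw [Module.End.mem_eigenspace_iff, map_smul, map_sub, hf2, neg_one_smul, ← smul_neg, neg_sub]
  have hind : iSupIndep fun χ : G → K => ⨅ i, (f i).maxGenEigenspace (χ i) :=
    Module.End.independent_iInf_maxGenEigenspace_of_forall_mapsTo f (fun i j φ =>
      Module.End.mapsTo_maxGenEigenspace_of_comm (hcomm' j i) φ)
  have htop : ⨆ χ : G → K, ⨅ i, (f i).maxGenEigenspace (χ i) = ⊤ :=
    Module.End.iSup_iInf_maxGenEigenspace_eq_top_of_iSup_maxGenEigenspace_eq_top_of_commute f
      (fun i j _ => hcomm' i j) htri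
  have heig : ∀ (χ : G → K) (x : V), x ∈ (⨅ i, (f i).maxGenEigenspace (χ i)) →
      ∀ g : G, f g x = χ g • x := by
    intro χ x hx g
    have h1 : x ∈ (f g).maxGenEigenspace (χ g) := (Submodule.mem_iInf _).mp hx g
    rw [(hss g).maxGenEigenspace_eq_eigenspace, Module.End.mem_eigenspace_iff] at h1
    exact h1
  have hval : ∀ (χ : G → K), (⨅ i, (f i).maxGenEigenspace (χ i)) ≠ ⊥ →
      ∀ g : G, χ g = 1 ∨ χ g = -1 := by
    intro χ hχ g
    obtain ⟨x, hx, hx0⟩ := Submodule.exists_mem_ne_zero_of_ne_bot hχ
    have h1 := heig χ x hx g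
    have h3 : x = (χ g * χ g) • x := by
      calc x = f g (f g x) := (hf2 g x).symm
        _ = f g (χ g • x) := by rw [h1]
        _ = χ g • f g x := map_smul _ _ _
        _ = χ g • χ g • x := by rw [h1]
        _ = (χ g * χ g) • x := smul_smul _ _ _
    have h4 : (χ g * χ g - 1) • x = 0 := by rw [sub_smul, one_smul, ← h3, sub_self]
    have h5 : χ g * χ g - 1 = 0 := (smul_eq_zero.mp h4).resolve_right hx0
    have h6 : (χ g - 1) * (χ g + 1) = 0 := by linear_combination h5
    rcases mul_eq_zero.mp h6 with h | h
    · left; exact sub_eq_zero.mp h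
    · right; exact eq_neg_of_add_eq_zero_left h
  haveI : Fintype {χ : G → K // (⨅ i, (f i).maxGenEigenspace (χ i)) ≠ ⊥} :=
    hind.fintypeNeBotOfFiniteDimensional
  have hS : Fintype.card {χ : G → K // (⨅ i, (f i).maxGenEigenspace (χ i)) ≠ ⊥}
      ≤ Module.finrank K V := hind.subtype_ne_bot_le_finrank
  let Θ : G → ({χ : G → K // (⨅ i, (f i).maxGenEigenspace (χ i)) ≠ ⊥} → Bool) :=
    fun g χ => decide (χ.1 g = 1)
  have hΘ : Function.Injective Θ := by
    intro g g' hgg'
    have hχ : ∀ χ : {χ : G → K // (⨅ i, (f i).maxGenEigenspace (χ i)) ≠ ⊥},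
        χ.1 g = χ.1 g' := by
      intro χ
      have h1 := congrFun hgg' χ
      simp only [Θ, decide_eq_decide] at h1
      rcases hval χ.1 χ.2 g with h | h <;> rcases hval χ.1 χ.2 g' with h' | h'
      · rw [h, h']
      · exfalso
        have h7 := h1.mp h
        rw [h'] at h7
        apply h2
        linear_combination (-1 : K) * h7
      · exfalso
        have h7 := h1.mpr h'
        rw [h] at h7
        apply h2
        linear_combination (-1 : K) * h7
      · rw [h, h']
    have hle : (⊤ : Submodule K V) ≤ LinearMap.eqLocus (f g) (f g') := by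
      rw [← htop]
      apply iSup_le
      intro χ
      by_cases hb : (⨅ i, (f i).maxGenEigenspace (χ i)) = ⊥
      · rw [hb]; exact bot_le
      · intro x hx
        have h8 : χ g = χ g' := hχ ⟨χ, hb⟩
        rw [LinearMap.mem_eqLocus, heig χ x hx g, heig χ x hx g', h8]
    have hfg : f g = f g' :=
      LinearMap.ext fun x => LinearMap.mem_eqLocus.mp (hle (Submodule.mem_top : x ∈ ⊤))
    apply Subtype.ext
    apply LinearEquiv.toLinearMap_injective
    exact hfg
  calc Nat.card G = Fintype.card G := Nat.card_eq_fintype_card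
    _ ≤ Fintype.card ({χ : G → K // (⨅ i, (f i).maxGenEigenspace (χ i)) ≠ ⊥} → Bool) :=
        Fintype.card_le_of_injective Θ hΘ
    _ = 2 ^ Fintype.card {χ : G → K // (⨅ i, (f i).maxGenEigenspace (χ i)) ≠ ⊥} := by
        rw [Fintype.card_fun, Fintype.card_bool]
    _ ≤ 2 ^ Module.finrank K V := Nat.pow_le_pow_right (by norm_num) hS

end Groth.Agent.S15166
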