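import Groth.Statements.S15168
import Mathlib
import Groth.Agent.Lib.helper6.RootsUnity

set_option autoImplicit false
universe u v
open Polynomial
open BddFin

namespace Groth.Agent.S15168

/-- Let K be a field such that K contains all roots of unity (for every n ≥ 1 the polynomial X^n − 1
splits into linear factors over K), A a central division algebra of dimension n ^ 2 over K, and x an
element of A some power x ^ m (m ≥ 1) of which lies in K. Then x ^ n lies in K; that is, the order
of the class of x in the quotient of the unit group of A by that of K divides n. -/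
theorem result
    (K : Type u) [Field K] (hK : ∀ n : ℕ, 0 < n → (X ^ n - 1 : K[X]).Splits)
    (A : Type v) [DivisionRing A] [Algebra K A] [Algebra.IsCentral K A] [FiniteDimensional K A]
    (n : ℕ) (hn : Module.finrank K A = n ^ 2)
    (x : A) (hxm : ∃ m : ℕ, 0 < m ∧ x ^ m ∈ (algebraMap K A).range) :
    x ^ n ∈ (algebraMap K A).range := by
  classical
  obtain ⟨m, hm, hmem⟩ := hxm
  obtain ⟨a, ha⟩ := RingHom.mem_range.mp hmem
  have hn0 : n ≠ 0 := by
    rintro rfl
    have : 0 < Module.finrank K A := Module.finrank_pos
    rw [hn] at this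
    simp at this
  by_cases hx0 : x = 0
  · rw [hx0, zero_pow hn0]
    exact ⟨0, map_zero _⟩
  have ha0 : a ≠ 0 := by
    rintro rfl
    rw [map_zero] at ha
    exact hx0 ((pow_eq_zero_iff hm.ne').mp ha.symm)
  have hint : IsIntegral K x := Algebra.IsIntegral.isIntegral x
  have hdiv : minpoly K x ∣ X ^ m - C a := by
    apply minpoly.dvd
    simp only [map_sub, map_pow, aeval_X, aeval_C]
    rw [ha]
    exact sub_self _
  obtain ⟨c, hc⟩ := H6RU.exists_dvd_X_pow_sub_C hK (minpoly K x) (minpoly.irreducible hint)
    (minpoly.monic hint) m hm a ha0 hdiv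
  obtain ⟨e, he⟩ := H6RU.natDegree_minpoly_dvd n hn x
  have hxd : x ^ (minpoly K x).natDegree = algebraMap K A c := by
    obtain ⟨g, hg⟩ := hc
    have := congrArg (aeval x) hg
    simp only [map_sub, map_pow, aeval_X, aeval_C, map_mul, minpoly.aeval, zero_mul] at this
    exact sub_eq_zero.mp this
  rw [he, pow_mul, hxd, ← map_pow]
  exact ⟨c ^ e, rfl⟩

end Groth.Agent.S15168
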