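import Groth.Statements.S15169
import Mathlib
import Groth.Agent.Lib.helper6.CyclicSN

set_option autoImplicit false
universe u v
open BddFin

namespace Groth.Agent.S15169

/-- (1) ⇒ (2): let K be a field with char K = p > 0 and A a central division K-algebra with dim_K A = p
^ 2. If some element of A is not separable over K, then there are v, u in A with v ^ p and u ^ p in
K and v * u - u * v = 1 which generate A as a K-algebra. -/
theorem result
    (K : Type u) [Field K] (p : ℕ) [Fact p.Prime] [CharP K p]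
    (A : Type v) [DivisionRing A] [Algebra K A] [Algebra.IsCentral K A] [FiniteDimensional K A]
    (hA : Module.finrank K A = p ^ 2) (h : ∃ v : A, ¬ IsSeparable K v) :
    ∃ v u : A, v ^ p ∈ (algebraMap K A).range ∧ u ^ p ∈ (algebraMap K A).range ∧ v * u - u * v = 1 ∧
      Algebra.adjoin K {v, u} = ⊤ := by
  classical
  have hp : p.Prime := Fact.out
  haveI : CharP A p := charP_of_injective_algebraMap (algebraMap K A).injective p
  obtain ⟨v, hvsep⟩ := h
  have hvint : IsIntegral K v := Algebra.IsIntegral.isIntegral v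
  have hirr : Irreducible (minpoly K v) := minpoly.irreducible hvint
  obtain ⟨g, hgirr, hgexp⟩ : ∃ g : Polynomial K, Irreducible g ∧
      Polynomial.expand K p g = minpoly K v := by
    rcases Polynomial.separable_or p hirr with h1 | ⟨_, h2⟩
    · exact absurd h1 hvsep
    · exact h2
  have hdeg : (minpoly K v).natDegree = g.natDegree * p := by
    rw [← hgexp, Polynomial.natDegree_expand]
  have hle := H6Cyc.natDegree_minpoly_le p hA v
  have hg1 : 0 < g.natDegree := Irreducible.natDegree_pos hgirr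
  have hgdeg : g.natDegree = 1 := by
    have h5 : g.natDegree * p ≤ 1 * p := by rw [← hdeg, one_mul]; exact hle
    have h6 := Nat.le_of_mul_le_mul_right h5 hp.pos
    omega
  have hvdeg : (minpoly K v).natDegree = p := by rw [hdeg, hgdeg, one_mul]
  have ha1 : g.coeff 1 ≠ 0 := by
    have h5 := Polynomial.leadingCoeff_ne_zero.mpr hgirr.ne_zero
    rwa [Polynomial.leadingCoeff, hgdeg] at h5
  have haev : Polynomial.aeval (v ^ p) g = 0 := by
    rw [← Polynomial.expand_aeval, hgexp, minpoly.aeval]
  obtain ⟨a₁, a₀, ha1', hgform⟩ : ∃ a₁ a₀ : K, a₁ ≠ 0 ∧ g = Polynomial.C a₁ * Polynomial.X +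
      Polynomial.C a₀ :=
    ⟨_, _, ha1, Polynomial.eq_X_add_C_of_natDegree_le_one (le_of_eq hgdeg)⟩
  have hvp : v ^ p = algebraMap K A (-a₀ / a₁) := by
    rw [hgform] at haev
    simp only [map_add, map_mul, Polynomial.aeval_C, Polynomial.aeval_X] at haev
    have h3 : algebraMap K A a₁ * v ^ p = algebraMap K A (-a₀) := by
      rw [map_neg]; exact eq_neg_of_add_eq_zero_left haev
    rw [div_eq_inv_mul, map_mul, ← h3, ← mul_assoc, ← map_mul, inv_mul_cancel₀ ha1', map_one,
      one_mul]
  have hvK : ∀ c : K, v ≠ algebraMap K A c := by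
    intro c hc
    apply hvsep
    rw [hc]
    exact isSeparable_algebraMap c
  let δ : Module.End K A := LinearMap.mulLeft K v - LinearMap.mulRight K v
  have hδapply : ∀ y, δ y = v * y - y * v := fun y => rfl
  haveI : CharP (Module.End K A) p :=
    charP_of_injective_algebraMap (algebraMap K (Module.End K A)).injective p
  have hδp : δ ^ p = 0 := by
    show (LinearMap.mulLeft K v - LinearMap.mulRight K v) ^ p = 0
    rw [sub_pow_char_of_commute p (LinearMap.commute_mulLeft_right v v), LinearMap.pow_mulLeft,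
      LinearMap.pow_mulRight, hvp]
    ext y
    simp only [LinearMap.sub_apply, LinearMap.mulLeft_apply, LinearMap.mulRight_apply,
      LinearMap.zero_apply]
    rw [Algebra.commutes, sub_self]
  have hδ0 : δ ≠ 0 := by
    intro h0
    have hc : v ∈ Subalgebra.center K A := by
      rw [Subalgebra.mem_center_iff]
      intro y
      have h5 := LinearMap.congr_fun h0 y
      rw [hδapply] at h5
      exact (sub_eq_zero.mp h5).symm
    have h6 := Algebra.IsCentral.out hc
    obtain ⟨c, hc'⟩ := Algebra.mem_bot.mp h6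
    exact hvK c hc'.symm
  have hex : ∃ r : ℕ, δ ^ r = 0 := ⟨p, hδp⟩
  have hr0 : Nat.find hex ≠ 0 := by
    intro h0
    have h5 := Nat.find_spec hex
    rw [h0, pow_zero] at h5
    exact one_ne_zero h5
  have hr1 : Nat.find hex ≠ 1 := by
    intro h1
    have h5 := Nat.find_spec hex
    rw [h1, pow_one] at h5
    exact hδ0 h5
  obtain ⟨r', hr'⟩ : ∃ r', Nat.find hex = r' + 2 := ⟨Nat.find hex - 2, by omega⟩
  have hne : δ ^ (r' + 1) ≠ 0 := Nat.find_min hex (by omega)
  have hzero : δ ^ (r' + 2) = 0 := by rw [← hr']; exact Nat.find_spec hex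
  obtain ⟨z, hz⟩ : ∃ z, (δ ^ (r' + 1)) z ≠ 0 := by
    by_contra hcon
    push Not at hcon
    exact hne (LinearMap.ext hcon)
  have hδw : δ ((δ ^ r') z) = (δ ^ (r' + 1)) z := by rw [pow_succ', Module.End.mul_apply]
  have hδδw : δ (δ ((δ ^ r') z)) = 0 := by
    rw [hδw, ← Module.End.mul_apply, ← pow_succ', hzero]
    rfl
  obtain ⟨w, c, hcw, hc0, hvc⟩ : ∃ w c : A, v * w - w * v = c ∧ c ≠ 0 ∧ v * c = c * v := by
    refine ⟨(δ ^ r') z, δ ((δ ^ r') z), (hδapply _).symm, ?_, ?_⟩
    · rw [hδw]; exact hz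
    · have h5 := hδδw
      rw [hδapply] at h5
      exact sub_eq_zero.mp h5
  have hvci : v * c⁻¹ = c⁻¹ * v := (Commute.inv_right₀ (show Commute v c from hvc)).eq
  have hvu : v * (c⁻¹ * w) - c⁻¹ * w * v = 1 := by
    rw [← mul_assoc, hvci, mul_assoc, mul_assoc, ← mul_sub, hcw, inv_mul_cancel₀ hc0]
  obtain ⟨u, hu⟩ : ∃ u : A, u = c⁻¹ * w := ⟨_, rfl⟩
  rw [← hu] at hvu
  have hvu' : v * u = u * v + 1 := by rw [← hvu]; abel
  have hder : ∀ n : ℕ, v * u ^ (n + 1) = u ^ (n + 1) * v + ((n + 1 : ℕ) : A) * u ^ n := by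
    intro n
    induction n with
    | zero => simp [hvu']
    | succ n ih =>
      calc v * u ^ (n + 1 + 1) = v * u ^ (n + 1) * u := by rw [pow_succ u (n + 1), mul_assoc]
        _ = u ^ (n + 1) * (v * u) + ((n + 1 : ℕ) : A) * u ^ (n + 1) := by
            rw [ih, add_mul, mul_assoc, mul_assoc, ← pow_succ]
        _ = u ^ (n + 1 + 1) * v + ((n + 1 + 1 : ℕ) : A) * u ^ (n + 1) := by
            rw [hvu', mul_add, mul_one, ← mul_assoc, ← pow_succ]
            push_cast
            rw [add_mul ((n : A) + 1) 1 (u ^ (n + 1)), one_mul]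
            abel
  obtain ⟨q, hq⟩ : ∃ q, p = q + 1 := ⟨p - 1, (Nat.succ_pred_eq_of_pos hp.pos).symm⟩
  have hvup : v * u ^ p = u ^ p * v := by
    have h5 := hder q
    rw [← hq, CharP.cast_eq_zero A p, zero_mul, add_zero] at h5
    exact h5
  let S : Subalgebra K A := Algebra.adjoin K {v, u}
  have hvS : v ∈ S := Algebra.subset_adjoin (by simp)
  have huS : u ∈ S := Algebra.subset_adjoin (by simp)
  haveI : IsSimpleRing S := by
    letI := divisionRingOfFiniteDimensional K S
    infer_instance
  have h1 := H6SN2.centralizer_finrank (k := K) (A := A) S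
  rw [hA] at h1
  have hdvd : Module.finrank K S ∣ p ^ 2 := ⟨_, h1⟩
  obtain ⟨i, hi, hdim⟩ := (Nat.dvd_prime_pow hp).mp hdvd
  have hmS : minpoly K (⟨v, hvS⟩ : S) = minpoly K v :=
    (minpoly.algHom_eq S.val Subtype.val_injective ⟨v, hvS⟩).symm
  have hpS : p ≤ Module.finrank K S := by
    have h2 := minpoly.natDegree_le (A := K) (⟨v, hvS⟩ : S)
    rw [hmS, hvdeg] at h2
    exact h2
  have hStop : S = ⊤ := by
    interval_cases i
    · exfalso
      rw [hdim, pow_zero] at hpS
      have := hp.two_le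
      omega
    · exfalso
      rw [pow_one] at hdim
      have hli := linearIndependent_pow (K := K) (⟨v, hvS⟩ : S)
      have hspan := hli.span_eq_top_of_card_eq_finrank' (by rw [Fintype.card_fin, hmS, hvdeg, hdim])
      have hcomm : ∀ x : S, x * (⟨v, hvS⟩ : S) = (⟨v, hvS⟩ : S) * x := by
        intro x
        have hx : x ∈ Submodule.span K (Set.range fun i : Fin (minpoly K (⟨v, hvS⟩ : S)).natDegree =>
            (⟨v, hvS⟩ : S) ^ (i : ℕ)) := by rw [hspan]; trivial
        refine Submodule.span_induction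
          (p := fun x _ => x * (⟨v, hvS⟩ : S) = (⟨v, hvS⟩ : S) * x) ?_ ?_ ?_ ?_ hx
        · rintro _ ⟨i, rfl⟩
          exact ((Commute.refl (⟨v, hvS⟩ : S)).pow_left i).eq
        · show (0 : S) * (⟨v, hvS⟩ : S) = (⟨v, hvS⟩ : S) * 0
          simp
        · intro a b _ _ ha hb
          show (a + b) * (⟨v, hvS⟩ : S) = (⟨v, hvS⟩ : S) * (a + b)
          rw [add_mul, mul_add, ha, hb]
        · intro c a _ ha
          show (c • a) * (⟨v, hvS⟩ : S) = (⟨v, hvS⟩ : S) * (c • a)
          rw [smul_mul_assoc, mul_smul_comm, ha]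
      have huv : u * v = v * u := congrArg Subtype.val (hcomm ⟨u, huS⟩)
      rw [huv, sub_self] at hvu
      exact zero_ne_one hvu
    · apply Subalgebra.eq_of_le_of_finrank_eq le_top
      rw [hdim, Subalgebra.topEquiv.toLinearEquiv.finrank_eq, hA]
  have hup : u ^ p ∈ Subalgebra.center K A := by
    rw [Subalgebra.mem_center_iff]
    have hle2 : S ≤ Subalgebra.centralizer K ({u ^ p} : Set A) := by
      apply Algebra.adjoin_le
      intro y hy
      rw [SetLike.mem_coe, Subalgebra.mem_centralizer_iff K]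
      intro g hg
      rw [Set.mem_singleton_iff] at hg
      subst hg
      rcases hy with rfl | hy
      · exact hvup.symm
      · rw [Set.mem_singleton_iff] at hy
        subst hy
        exact ((Commute.refl y).pow_left p).eq
    intro y
    have hy : y ∈ Subalgebra.centralizer K ({u ^ p} : Set A) := hle2 (by rw [hStop]; trivial)
    rw [Subalgebra.mem_centralizer_iff K] at hy
    exact (hy (u ^ p) rfl).symm
  obtain ⟨b, hb⟩ := Algebra.mem_bot.mp (Algebra.IsCentral.out hup)
  exact ⟨v, u, ⟨_, hvp.symm⟩, ⟨b, hb⟩, hvu, hStop⟩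

end Groth.Agent.S15169
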