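import Groth.Statements.S1517
import Mathlib

set_option autoImplicit false
universe u
open Brauer

namespace Groth.Agent.S1517

/-- Let A be a ring with no nontrivial two-sided ideals and M a nonzero right ideal, viewed as a right
A-module with endomorphism ring A'. Then every A'-linear endomorphism of M is right multiplication
by exactly one element of A; that is, the natural map from A to the bicommutant of M is a bijection. -/
theorem result (A : Type u) [Ring A] [IsSimpleRing A]
    (M : Submodule Aᵐᵒᵖ A) (hM : M ≠ ⊥)
    (g : Module.End (Module.End Aᵐᵒᵖ M) M) :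
    ∃! a : A, ∀ m : M, (g m : A) = (m : A) * a := by
  classical
  have hI2 : (Ideal.span (M : Set A)).IsTwoSided := by
    constructor
    intro a b ha
    induction ha using Submodule.span_induction with
    | mem x hx =>
      apply Ideal.subset_span
      have e : x * b = (MulOpposite.op b) • x := rfl
      rw [e]
      exact M.smul_mem _ hx
    | zero => rw [zero_mul]; exact Submodule.zero_mem _
    | add x y _ _ hx hy => rw [add_mul]; exact Submodule.add_mem _ hx hy
    | smul r x _ hx => rw [smul_eq_mul, mul_assoc]; exact Ideal.mul_mem_left _ r hx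
  haveI := hI2
  have h1 : (1 : A) ∈ Ideal.span (M : Set A) := by
    rcases eq_bot_or_eq_top (Ideal.span (M : Set A)).toTwoSided with hb | ht
    · exfalso
      obtain ⟨x, hx, hx0⟩ := Submodule.exists_mem_ne_zero_of_ne_bot hM
      apply hx0
      have hx' : x ∈ (Ideal.span (M : Set A)).toTwoSided :=
        Ideal.mem_toTwoSided.mpr (Ideal.subset_span hx)
      rw [hb] at hx'
      exact (TwoSidedIdeal.mem_bot A).mp hx'
    · have h1' : (1 : A) ∈ (Ideal.span (M : Set A)).toTwoSided := by rw [ht]; trivial
      exact Ideal.mem_toTwoSided.mp h1'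
  obtain ⟨n, f, gm, hsum⟩ := Submodule.mem_span_set'.mp h1
  have hmulmem : ∀ (x : M) (c : A), (x : A) * c ∈ M :=
    fun x c => M.smul_mem (MulOpposite.op c) x.2
  let L : M → (M →ₗ[Aᵐᵒᵖ] M) := fun x =>
    { toFun := fun m => ⟨(x : A) * (m : A), hmulmem x m⟩
      map_add' := fun m m' => Subtype.ext (mul_add _ _ _)
      map_smul' := fun r m => Subtype.ext (by
        show (x : A) * ((m : A) * r.unop) = ((x : A) * (m : A)) * r.unop
        rw [mul_assoc]) }
  have hL : ∀ (y z : M), (g (L y z) : A) = (y : A) * (g z : A) := by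
    intro y z
    have h0 := g.map_smul (L y) z
    exact congrArg Subtype.val h0
  let gm' : Fin n → M := fun i => ⟨(gm i : A), (gm i).2⟩
  have hsum' : ∑ i, f i * (gm' i : A) = 1 := hsum
  refine ⟨∑ i, f i * (g (gm' i) : A), ?_, ?_⟩
  · intro m
    have hm : m = ∑ i, L ⟨(m : A) * f i, hmulmem m (f i)⟩ (gm' i) := by
      apply Subtype.ext
      rw [Submodule.coe_sum]
      show (m : A) = ∑ i, ((m : A) * f i) * (gm' i : A)
      simp only [mul_assoc]
      rw [← Finset.mul_sum, hsum', mul_one]
    calc (g m : A) = (g (∑ i, L ⟨(m : A) * f i, hmulmem m (f i)⟩ (gm' i)) : A) := by rw [← hm]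
      _ = ∑ i, (g (L ⟨(m : A) * f i, hmulmem m (f i)⟩ (gm' i)) : A) := by
          rw [map_sum, Submodule.coe_sum]
      _ = ∑ i, ((m : A) * f i) * (g (gm' i) : A) := by
          refine Finset.sum_congr rfl (fun i _ => ?_)
          exact hL _ _
      _ = (m : A) * ∑ i, f i * (g (gm' i) : A) := by
          rw [Finset.mul_sum]
          simp only [mul_assoc]
  · intro a' ha'
    calc a' = (∑ i, f i * (gm' i : A)) * a' := by rw [hsum', one_mul]
      _ = ∑ i, f i * ((gm' i : A) * a') := by rw [Finset.sum_mul]; simp only [mul_assoc]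
      _ = ∑ i, f i * (g (gm' i) : A) := by
          refine Finset.sum_congr rfl (fun i _ => ?_)
          rw [ha' (gm' i)]

end Groth.Agent.S1517
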