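import Groth.Statements.S15170
import Mathlib
import Groth.Agent.Lib.helper6.EndStruct

set_option autoImplicit false
universe u v
open BddFin

namespace Groth.Agent.S15170

theorem artinSchreier_galois {K : Type*} [Field K] (p : ℕ) [Fact p.Prime] [CharP K p]
    {L : Type*} [Field L] [Algebra K L] [FiniteDimensional K L] (s : L)
    (hroot : ∀ j : ℕ, Polynomial.aeval (s + (j : L)) (minpoly K s) = 0)
    (hgen : Algebra.adjoin K {s} = ⊤) (hle : Module.finrank K L ≤ p) :
    IsGalois K L ∧ Module.finrank K L = p := by
  classical
  have hp : p.Prime := Fact.out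
  haveI : CharP L p := charP_of_injective_algebraMap (algebraMap K L).injective p
  have hf0 : minpoly K s ≠ 0 := minpoly.ne_zero (Algebra.IsIntegral.isIntegral s)
  have hfm : (minpoly K s).map (algebraMap K L) ≠ 0 := Polynomial.map_ne_zero hf0
  let Z : Finset L := (Finset.range p).image (fun j : ℕ => s + (j : L))
  have hZcard : Z.card = p := by
    rw [Finset.card_image_of_injOn, Finset.card_range]
    intro i hi j hj hij
    have h1 : (i : L) = (j : L) := add_left_cancel hij
    exact CharP.natCast_injOn_Iio L p (Finset.mem_range.mp hi) (Finset.mem_range.mp hj) h1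
  have hZroots : Z.val ⊆ ((minpoly K s).map (algebraMap K L)).roots := by
    intro x hx
    obtain ⟨j, -, rfl⟩ := Finset.mem_image.mp (Finset.mem_val.mp hx)
    rw [Polynomial.mem_roots hfm, Polynomial.IsRoot.def, Polynomial.eval_map_algebraMap]
    exact hroot j
  have hZle : Z.val ≤ ((minpoly K s).map (algebraMap K L)).roots :=
    (Multiset.le_iff_subset Z.nodup).mpr hZroots
  have h1 : p ≤ ((minpoly K s).map (algebraMap K L)).roots.card := by
    rw [← hZcard]; exact Multiset.card_le_card hZle
  have h2 : ((minpoly K s).map (algebraMap K L)).roots.card ≤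
      ((minpoly K s).map (algebraMap K L)).natDegree := Polynomial.card_roots' _
  have h3 : ((minpoly K s).map (algebraMap K L)).natDegree = (minpoly K s).natDegree :=
    Polynomial.natDegree_map _
  have h4 : (minpoly K s).natDegree ≤ Module.finrank K L := minpoly.natDegree_le s
  have hfin : Module.finrank K L = p := by omega
  have hcard : ((minpoly K s).map (algebraMap K L)).roots.card =
      ((minpoly K s).map (algebraMap K L)).natDegree := by omega
  have hsplits : ((minpoly K s).map (algebraMap K L)).Splits :=
    Polynomial.splits_iff_card_roots.mpr hcard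
  have hrootsZ : ((minpoly K s).map (algebraMap K L)).roots = Z.val :=
    (Multiset.eq_of_le_of_card_le hZle (by rw [Finset.card_val, hZcard]; omega)).symm
  have hnodup : ((minpoly K s).map (algebraMap K L)).roots.Nodup := by
    rw [hrootsZ]; exact Z.nodup
  have hsepL : ((minpoly K s).map (algebraMap K L)).Separable :=
    (Polynomial.nodup_roots_iff_of_splits hfm hsplits).mp hnodup
  have hsep : (minpoly K s).Separable := (Polynomial.separable_map (algebraMap K L)).mp hsepL
  haveI : (minpoly K s).IsSplittingField K L := ⟨hsplits, by
    rw [eq_top_iff, ← hgen]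
    apply Algebra.adjoin_mono
    rw [Set.singleton_subset_iff, Polynomial.mem_rootSet]
    exact ⟨hf0, minpoly.aeval K s⟩⟩
  exact ⟨IsGalois.of_separable_splitting_field hsep, hfin⟩


/-- (2) ⇒ (3): let K be a field with char K = p > 0 and A a central division K-algebra with dim_K A = p
^ 2. If v, u in A satisfy v ^ p ∈ K, u ^ p ∈ K and v * u - u * v = 1, then some Galois extension L
of K with [L : K] = p admits a K-algebra embedding into A (so A has a Galois subfield of degree p
over K). -/
theorem result
    (K : Type u) [Field K] (p : ℕ) [Fact p.Prime] [CharP K p]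
    (A : Type v) [DivisionRing A] [Algebra K A] [Algebra.IsCentral K A] [FiniteDimensional K A]
    (hA : Module.finrank K A = p ^ 2) (v u : A) (hv : v ^ p ∈ (algebraMap K A).range)
    (hu : u ^ p ∈ (algebraMap K A).range) (hvu : v * u - u * v = 1) :
    ∃ (L : Type v) (_ : Field L) (_ : Algebra K L), IsGalois K L ∧ Module.finrank K L = p ∧
      Nonempty (L →ₐ[K] A) := by
  classical
  have hp : p.Prime := Fact.out
  haveI : CharP A p := charP_of_injective_algebraMap (algebraMap K A).injective p
  have hv0 : v ≠ 0 := by
    rintro rfl
    simp at hvu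
  have hvt : v * (u * v) = (u * v + 1) * v := by
    have h1 : v * u = u * v + 1 := by rw [← hvu]; abel
    rw [← mul_assoc, h1]
  have hconj : ∀ (g : Polynomial K) (s : A), v * s = (s + 1) * v →
      v * Polynomial.aeval s g = Polynomial.aeval (s + 1) g * v := by
    intro g s hs
    have hpow : ∀ n : ℕ, v * s ^ n = (s + 1) ^ n * v := by
      intro n
      induction n with
      | zero => simp
      | succ n ih => rw [pow_succ, ← mul_assoc, ih, mul_assoc, hs, ← mul_assoc, ← pow_succ]
    induction g using Polynomial.induction_on' with
    | add g₁ g₂ h₁ h₂ => rw [map_add, map_add, mul_add, add_mul, h₁, h₂]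
    | monomial n a =>
      rw [Polynomial.aeval_monomial, Polynomial.aeval_monomial, ← mul_assoc,
        ← Algebra.commutes a v, mul_assoc, hpow n, mul_assoc]
  have hrootA : ∀ j : ℕ, Polynomial.aeval (u * v + (j : A)) (minpoly K (u * v)) = 0 := by
    intro j
    induction j with
    | zero => simp [minpoly.aeval]
    | succ j ih =>
      have hs : v * (u * v + (j : A)) = (u * v + (j : A) + 1) * v := by
        rw [mul_add, hvt, ← (Nat.cast_commute j v).eq, ← add_mul, add_right_comm]
      have h := hconj (minpoly K (u * v)) _ hs
      rw [ih, mul_zero] at h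
      have h' := (mul_eq_zero.mp h.symm).resolve_right hv0
      rw [Nat.cast_succ, ← add_assoc]
      exact h'
  let L : Subalgebra K A := Algebra.adjoin K {u * v}
  letI instC : CommRing L := Algebra.adjoinCommRingOfComm K (by
    intro a ha b hb
    rw [Set.mem_singleton_iff] at ha hb
    rw [ha, hb])
  haveI : Algebra.IsIntegral K L := Algebra.IsIntegral.of_finite K L
  have hF : IsField L := isField_of_isIntegral_of_isField' (Field.toIsField K)
  haveI hS : IsSimpleRing L := (isSimpleRing_iff_isField L).mpr hF
  have hle : Module.finrank K L ≤ p := by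
    have h1 := H6SN2.centralizer_finrank (k := K) (A := A) L
    have h2 : L ≤ Subalgebra.centralizer K (L : Set A) := by
      intro x hx
      rw [Subalgebra.mem_centralizer_iff K]
      intro g hg
      exact congrArg Subtype.val (mul_comm (⟨g, hg⟩ : L) ⟨x, hx⟩)
    have h3 : Module.finrank K L ≤ Module.finrank K (Subalgebra.centralizer K (L : Set A)) := by
      rw [← Subalgebra.finrank_toSubmodule,
        ← Subalgebra.finrank_toSubmodule (Subalgebra.centralizer K (L : Set A))]
      exact Submodule.finrank_mono (Subalgebra.toSubmodule.monotone h2)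
    rw [hA] at h1
    nlinarith
  let tL : L := ⟨u * v, Algebra.subset_adjoin rfl⟩
  have hset : ((↑) : L → A) ⁻¹' ({u * v} : Set A) = {tL} := by
    ext x
    simp only [Set.mem_preimage, Set.mem_singleton_iff]
    exact ⟨fun h => Subtype.ext h, fun h => by rw [h]⟩
  have hgen : Algebra.adjoin K {tL} = ⊤ := by
    rw [← hset]; exact Algebra.adjoin_adjoin_coe_preimage
  have hmin : minpoly K tL = minpoly K (u * v) :=
    (minpoly.algHom_eq L.val Subtype.val_injective tL).symm
  have hrootL : ∀ j : ℕ, Polynomial.aeval (tL + (j : L)) (minpoly K tL) = 0 := by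
    intro j
    have h1 : L.val (Polynomial.aeval (tL + (j : L)) (minpoly K tL)) = 0 := by
      rw [← Polynomial.aeval_algHom_apply, map_add, map_natCast, hmin]
      exact hrootA j
    exact (injective_iff_map_eq_zero L.val).mp Subtype.val_injective _ h1
  letI instF : Field L := hF.toField
  letI instAlg : Algebra K L := Subalgebra.algebra L
  obtain ⟨hG, hfin⟩ := artinSchreier_galois (K := K) (L := L) p tL hrootL hgen hle
  exact ⟨L, instF, instAlg, hG, hfin, ⟨L.val⟩⟩

end Groth.Agent.S15170
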