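import Groth.Statements.S15171
import Mathlib
import Groth.Agent.Lib.helper6.CyclicSN

set_option autoImplicit false
universe u v w
open BddFin

namespace Groth.Agent.S15171

/-- (3) ⇒ (1): let K be a field with char K = p > 0 and A a central division K-algebra with dim_K A = p
^ 2. If some Galois extension L of K with [L : K] = p admits a K-algebra embedding into A, then some
element of A is not separable over K. -/
theorem result
    (K : Type u) [Field K] (p : ℕ) [Fact p.Prime] [CharP K p]
    (A : Type v) [DivisionRing A] [Algebra K A] [Algebra.IsCentral K A] [FiniteDimensional K A]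
    (hA : Module.finrank K A = p ^ 2) (L : Type w) [Field L] [Algebra K L] [IsGalois K L]
    (hL : Module.finrank K L = p) (ι : L →ₐ[K] A) :
    ∃ v : A, ¬ IsSeparable K v := by
  classical
  have hp : p.Prime := Fact.out
  haveI : FiniteDimensional K L := Module.finite_of_finrank_pos (by rw [hL]; exact hp.pos)
  have hcard : Nat.card (L ≃ₐ[K] L) = p := by rw [IsGalois.card_aut_eq_finrank, hL]
  haveI : Nontrivial (L ≃ₐ[K] L) := by
    rw [← Finite.one_lt_card_iff_nontrivial, hcard]; exact hp.one_lt
  obtain ⟨σ, hσ1⟩ := exists_ne (1 : L ≃ₐ[K] L)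
  have hz : Subgroup.zpowers σ = ⊤ := zpowers_eq_top_of_prime_card hcard hσ1
  obtain ⟨y, hy, -, b, hb⟩ := H6Cyc.cyclic_conj (k := K) (A := A) ι p hA hL σ
    (fun τ => by rw [hz]; exact Subgroup.mem_top τ)
  have hinj : Function.Injective ι := ι.toRingHom.injective
  have hyK : ∀ c : K, (y : A) ≠ algebraMap K A c := by
    intro c hc
    apply hσ1
    ext x
    apply hinj
    have h1 := hy x
    rw [hc, ← Algebra.commutes c (ι x)] at h1
    have hc0 : algebraMap K A c ≠ 0 := by rw [← hc]; exact y.ne_zero
    exact (mul_left_cancel₀ hc0 h1).symm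
  refine ⟨y, ?_⟩
  intro hsep
  haveI : CharP A p := charP_of_injective_algebraMap (algebraMap K A).injective p
  by_cases hb' : ∃ c : K, c ^ p = b
  · obtain ⟨c, hc⟩ := hb'
    have h1 : ((y : A) - algebraMap K A c) ^ p = 0 := by
      rw [sub_pow_char_of_commute p (Algebra.commute_algebraMap_right c (y : A)), hb, ← map_pow, hc,
        sub_self]
    have h2 := (pow_eq_zero_iff hp.ne_zero).mp h1
    exact hyK c (sub_eq_zero.mp h2)
  · push Not at hb'
    have hirr := X_pow_sub_C_irreducible_of_prime hp hb'
    have hmin : (Polynomial.X ^ p - Polynomial.C b : Polynomial K) = minpoly K (y : A) := by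
      apply minpoly.eq_of_irreducible_of_monic hirr
      · simp [hb]
      · exact Polynomial.monic_X_pow_sub_C b hp.ne_zero
    unfold IsSeparable at hsep
    rw [← hmin] at hsep
    have hder : Polynomial.derivative (Polynomial.X ^ p - Polynomial.C b : Polynomial K) = 0 := by
      simp [Polynomial.derivative_X_pow]
    rw [Polynomial.separable_def, hder, isCoprime_zero_right] at hsep
    exact hirr.not_isUnit hsep

end Groth.Agent.S15171
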