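import Groth.Statements.S15172
-- import your own Groth.Agent.* helpers here
import Mathlib

set_option autoImplicit false
universe u v
open Polynomial
open BddFin

namespace Groth.Agent.S15172

/-- Let L be a field of characteristic p > 0 and s a finite subset of L containing 0 and closed under
addition (a finite additive subgroup). Then the polynomial f = ∏_{a ∈ s} (X - a) is additive: f (x +
y) = f x + f y for all x, y in any commutative L-algebra (equivalently, as an identity of
polynomials in two variables). -/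
theorem result
    (L : Type u) [Field L] (p : ℕ) [Fact p.Prime] [CharP L p] (s : Finset L) (h0 : (0 : L) ∈ s)
    (hadd : ∀ a ∈ s, ∀ b ∈ s, a + b ∈ s) (R : Type v) [CommRing R] [Algebra L R] (x y : R) :
    aeval (x + y) (∏ a ∈ s, (X - C a)) = aeval x (∏ a ∈ s, (X - C a)) + aeval y (∏ a ∈ s, (X - C a)) := by
  classical
  have hnsmul : ∀ (n : ℕ) (a : L), a ∈ s → n • a ∈ s := by
    intro n a ha
    induction n with
    | zero => simpa using h0
    | succ n ih =>
      rw [succ_nsmul]
      exact hadd _ ih _ ha
  have hneg : ∀ a ∈ s, -a ∈ s := by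
    intro a ha
    have h1 := hnsmul (p - 1) a ha
    have e : ((p - 1 : ℕ) • a) = -a := by
      rw [nsmul_eq_mul, Nat.cast_sub (Fact.out : p.Prime).one_le, CharP.cast_eq_zero,
        Nat.cast_one]
      ring
    rwa [e] at h1
  have htrans : ∀ b ∈ s, (∏ a ∈ s, (X - C a) : L[X]).comp (X + C b) = ∏ a ∈ s, (X - C a) := by
    intro b hb
    rw [Polynomial.prod_comp]
    simp only [sub_comp, X_comp, C_comp]
    apply Finset.prod_nbij' (fun a => a - b) (fun a => a + b)
    · intro a ha
      rw [sub_eq_add_neg]
      exact hadd a ha (-b) (hneg b hb)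
    · intro a ha
      exact hadd a ha b hb
    · intro a _
      ring
    · intro a _
      ring
    · intro a _
      rw [C_sub]
      ring
  have hmonicP : (∏ a ∈ s, (X - C a) : L[X]).Monic :=
    monic_prod_of_monic _ _ (fun a _ => monic_X_sub_C a)
  have hdegP : (∏ a ∈ s, (X - C a) : L[X]).natDegree = s.card :=
    natDegree_finsetProd_X_sub_C_eq_card s (fun a => a)
  have hcard : 1 ≤ s.card := Finset.card_pos.mpr ⟨0, h0⟩
  have hmonic : ((∏ a ∈ s, (X - C a) : L[X]).map (C : L →+* L[X])).Monic := hmonicP.map _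
  have hdeg : ((∏ a ∈ s, (X - C a) : L[X]).map (C : L →+* L[X])).natDegree = s.card := by
    rw [hmonicP.natDegree_map, hdegP]
  have hmonic2 : (((∏ a ∈ s, (X - C a) : L[X]).map (C : L →+* L[X])).comp
      (X + C (X : L[X]))).Monic := hmonic.comp_X_add_C _
  have hdeg2 : (((∏ a ∈ s, (X - C a) : L[X]).map (C : L →+* L[X])).comp
      (X + C (X : L[X]))).natDegree = s.card := by
    rw [natDegree_comp, hdeg, natDegree_X_add_C, mul_one]
  have hQ : ((∏ a ∈ s, (X - C a) : L[X]).map (C : L →+* L[X])).comp (X + C (X : L[X])) -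
      (∏ a ∈ s, (X - C a) : L[X]).map (C : L →+* L[X]) - C (∏ a ∈ s, (X - C a) : L[X]) = 0 := by
    by_contra hne
    apply hne
    apply eq_zero_of_natDegree_lt_card_of_eval_eq_zero' _ (s.image (C : L → L[X]))
    · intro i hi
      obtain ⟨a, ha, rfl⟩ := Finset.mem_image.mp hi
      rw [eval_sub, eval_sub, eval_C, eval_comp, eval_add, eval_X, eval_C, eval_map, eval_map]
      have e1 : eval₂ (C : L →+* L[X]) (C a) (∏ a ∈ s, (X - C a) : L[X]) = 0 := by
        rw [eval₂_finsetProd]
        apply Finset.prod_eq_zero ha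
        simp
      have e2 : eval₂ (C : L →+* L[X]) (C a + X) (∏ a ∈ s, (X - C a) : L[X]) =
          ∏ a ∈ s, (X - C a) := by
        have := htrans a ha
        rw [comp, add_comm] at this
        exact this
      rw [e1, e2]
      ring
    · rw [Finset.card_image_of_injective _ C_injective, natDegree_lt_iff_degree_lt hne]
      have d1 : (((∏ a ∈ s, (X - C a) : L[X]).map (C : L →+* L[X])).comp (X + C (X : L[X])) -
          (∏ a ∈ s, (X - C a) : L[X]).map (C : L →+* L[X])).degree < s.card := by
        have := degree_sub_lt_left (p := ((∏ a ∈ s, (X - C a) : L[X]).map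
          (C : L →+* L[X])).comp (X + C (X : L[X])))
          (q := (∏ a ∈ s, (X - C a) : L[X]).map (C : L →+* L[X]))
          (by rw [degree_eq_natDegree hmonic2.ne_zero, degree_eq_natDegree hmonic.ne_zero,
            hdeg, hdeg2])
          hmonic2.ne_zero (by rw [hmonic2.leadingCoeff, hmonic.leadingCoeff])
        rwa [degree_eq_natDegree hmonic2.ne_zero, hdeg2] at this
      refine lt_of_le_of_lt (degree_sub_le _ _) (max_lt d1 ?_)
      exact lt_of_le_of_lt degree_C_le (by exact_mod_cast hcard)
  have hfinal := congrArg (eval₂ (aeval y : L[X] →ₐ[L] R).toRingHom x) hQ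
  rw [eval₂_sub, eval₂_sub, eval₂_C, eval₂_comp, eval₂_add, eval₂_X, eval₂_C, eval₂_map,
    eval₂_zero] at hfinal
  rw [eval₂_map] at hfinal
  have e3 : ((aeval y : L[X] →ₐ[L] R).toRingHom).comp (C : L →+* L[X]) = algebraMap L R := by
    ext a
    simp
  rw [e3] at hfinal
  have e4 : (aeval y : L[X] →ₐ[L] R).toRingHom (X : L[X]) = y := by simp
  rw [e4] at hfinal
  rw [aeval_def, aeval_def, aeval_def]
  have e5 : (aeval y : L[X] →ₐ[L] R).toRingHom (∏ a ∈ s, (X - C a) : L[X]) =
      eval₂ (algebraMap L R) y (∏ a ∈ s, (X - C a) : L[X]) := by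
    rw [← aeval_def]
    rfl
  rw [e5] at hfinal
  linear_combination hfinal

end Groth.Agent.S15172
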