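import Groth.Statements.S15183
import Mathlib.RingTheory.Polynomial.Cyclotomic.Roots
import Mathlib.RingTheory.SimpleModule.WedderburnArtin
import Mathlib.Tactic

set_option autoImplicit false
universe u v
open Polynomial
open BddFin

namespace Groth.Agent.S15183

/-- Let K be a field such that K contains all roots of unity (for every n ≥ 1 the polynomial X^n − 1
splits into linear factors over K), and A a finite-dimensional central simple K-algebra which is not
a division algebra (some non-zero element is not a unit). Then the quotient of the unit group of A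
by that of K has elements of every finite order invertible in K: for every d ≥ 1 with d ≠ 0 in K
there is a unit x of A with x ^ d in K and x ^ k not in K for 0 < k < d. (The published assertion is
phrased for the automorphism group of the Severi–Brauer variety of A, which is isomorphic to the
units of A modulo those of K; this row is the algebra-side statement its proof establishes.) -/
theorem result
    (K : Type u) [Field K] (hK : ∀ n : ℕ, 0 < n → (X ^ n - 1 : K[X]).Splits)
    (A : Type v) [Ring A] [Algebra K A] [Algebra.IsCentral K A] [IsSimpleRing A] [FiniteDimensional K A]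
    (hA : ∃ y : A, y ≠ 0 ∧ ¬ IsUnit y) (d : ℕ) (hd : 0 < d) (hdK : (d : K) ≠ 0) :
    ∃ x : A, IsUnit x ∧ x ^ d ∈ (algebraMap K A).range ∧
      ∀ k : ℕ, 0 < k → k < d → x ^ k ∉ (algebraMap K A).range := by
  classical
  haveI : NeZero (d : K) := ⟨hdK⟩
  have hne : (X ^ d - 1 : K[X]) ≠ 0 := by
    have := X_pow_sub_C_ne_zero (R := K) hd 1
    simpa using this
  have hsplit : (cyclotomic d K).Splits :=
    Splits.of_dvd (hK d hd) hne (cyclotomic.dvd_X_pow_sub_one d K)
  obtain ⟨ζ, hζ⟩ := hsplit.exists_eval_eq_zero (degree_cyclotomic_pos d K hd).ne'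
  have hprim : IsPrimitiveRoot ζ d := isRoot_cyclotomic_iff.mp hζ
  haveI : IsArtinianRing A := IsArtinianRing.of_finite K A
  obtain ⟨n, hn, D, _, _, _, ⟨φ⟩⟩ := IsSimpleRing.exists_algEquiv_matrix_divisionRing_finite K A
  have hn0 : n ≠ 0 := NeZero.ne n
  have hn2 : 2 ≤ n := by
    by_contra hlt
    have hn1 : n = 1 := by omega
    subst hn1
    obtain ⟨y, hy0, hyu⟩ := hA
    apply hyu
    have hφy : φ y ≠ 0 := fun h => hy0 (by simpa using h)
    have hc : φ y 0 0 ≠ 0 := by
      intro h
      apply hφy
      ext i j
      have hi : i = 0 := Subsingleton.elim _ _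
      have hj : j = 0 := Subsingleton.elim _ _
      rw [hi, hj, h]; rfl
    have hunit : IsUnit (φ y) := by
      refine ⟨⟨φ y, Matrix.of (fun _ _ => (φ y 0 0)⁻¹), ?_, ?_⟩, rfl⟩
      · ext i j
        have hi : i = 0 := Subsingleton.elim _ _
        have hj : j = 0 := Subsingleton.elim _ _
        subst hi hj
        simp [Matrix.mul_apply, hc]
      · ext i j
        have hi : i = 0 := Subsingleton.elim _ _
        have hj : j = 0 := Subsingleton.elim _ _
        subst hi hj
        simp [Matrix.mul_apply, hc]
    have := hunit.map φ.symm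
    simpa using this
  let i0 : Fin n := ⟨0, by omega⟩
  let i1 : Fin n := ⟨1, by omega⟩
  have hi01 : i1 ≠ i0 := by
    intro h
    have := congrArg Fin.val h
    simp [i0, i1] at this
  let x' : Matrix (Fin n) (Fin n) D :=
    Matrix.diagonal (fun i => if i = i0 then algebraMap K D ζ else 1)
  have hpow : ∀ k : ℕ, x' ^ k
      = Matrix.diagonal (fun i => if i = i0 then algebraMap K D (ζ ^ k) else 1) := by
    intro k
    rw [Matrix.diagonal_pow]
    congr 1
    funext i
    simp only [Pi.pow_apply]
    split_ifs <;> simp
  have h1 : (φ.symm x') ^ d = 1 := by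
    rw [← map_pow, hpow, hprim.pow_eq_one]
    have : (Matrix.diagonal (fun i => if i = i0 then algebraMap K D 1 else 1) :
        Matrix (Fin n) (Fin n) D) = 1 := by
      rw [← Matrix.diagonal_one]; congr 1; funext i; split_ifs <;> simp
    rw [this, map_one]
  refine ⟨φ.symm x', IsUnit.of_pow_eq_one h1 hd.ne', RingHom.mem_range.mpr ⟨1, by rw [map_one, h1]⟩, ?_⟩
  intro k hk0 hkd hmem
  obtain ⟨c, hc⟩ := RingHom.mem_range.mp hmem
  have h2 : φ (algebraMap K A c) = x' ^ k := by rw [hc, map_pow, AlgEquiv.apply_symm_apply]
  rw [AlgEquiv.commutes, hpow, Matrix.algebraMap_eq_diagonal] at h2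
  have h3 := Matrix.diagonal_injective h2
  have h30 : algebraMap K D c = algebraMap K D (ζ ^ k) := by
    have : algebraMap K (Fin n → D) c i0
        = (if i0 = i0 then algebraMap K D (ζ ^ k) else 1) := congrFun h3 i0
    rw [Pi.algebraMap_apply, if_pos rfl] at this
    exact this
  have h31 : algebraMap K D c = 1 := by
    have : algebraMap K (Fin n → D) c i1
        = (if i1 = i0 then algebraMap K D (ζ ^ k) else 1) := congrFun h3 i1
    rw [Pi.algebraMap_apply, if_neg hi01] at this
    exact this
  have h4 : ζ ^ k = 1 := by
    apply (algebraMap K D).injective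
    rw [← h30, h31, map_one]
  have h5 := (hprim.pow_eq_one_iff_dvd k).mp h4
  exact absurd (Nat.le_of_dvd hk0 h5) (not_le.mpr hkd)

end Groth.Agent.S15183
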