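import Groth.Statements.S15224
-- import your own Groth.Agent.* helpers here
import Mathlib

set_option autoImplicit false
open Finset
open W4c2rk2extmaps

namespace Groth.Agent.S15224

/-- In a commutative ℚ-algebra R let y be an element and put c_k = y^k / k! for every k. Then for k ≥ 2,
Σ_{i=1}^{k-1} (-1)^(i-1) c_i c_(k-i) + (-1)^(k-1) c_k = c_k. (The published statement concerns the
Chern classes of a specific vector bundle on a Jacobian, which are of the form c_k = (4θ)^k / k!;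
the printed argument establishes the identity for every sequence of this form in a commutative
ℚ-algebra, which is the form stated here.) -/
theorem result (R : Type*) [CommRing R] [Algebra ℚ R] (y : R)
    (c : ℕ → R) (hc : ∀ k : ℕ, c k = ((Nat.factorial k : ℚ)⁻¹) • y ^ k)
    (k : ℕ) (hk : 2 ≤ k) :
    (∑ i ∈ Finset.Ico 1 k, (-1 : R) ^ (i - 1) * c i * c (k - i)) + (-1 : R) ^ (k - 1) * c k = c k := by
  set φ := algebraMap ℚ R with hφ
  have hc' : ∀ j : ℕ, c j = φ ((Nat.factorial j : ℚ)⁻¹) * y ^ j := by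
    intro j; rw [hc, Algebra.smul_def]
  set f : ℕ → ℚ := fun i => (-1 : ℚ) ^ i / ((Nat.factorial i : ℚ) * (Nat.factorial (k - i) : ℚ)) with hf
  have hk0 : k ≠ 0 := by omega
  have h0 : ∑ i ∈ Finset.range (k + 1), f i = 0 := by
    have h1 : ∑ i ∈ Finset.range (k + 1), (-1 : ℚ) ^ i * 1 ^ (k - i) * (k.choose i : ℚ) = 0 := by
      rw [← add_pow]; simp [hk0]
    have h2 : ∀ i ∈ Finset.range (k + 1), f i = ((-1 : ℚ) ^ i * 1 ^ (k - i) * (k.choose i : ℚ)) / (Nat.factorial k : ℚ) := by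
      intro i hi
      have hik : i ≤ k := Nat.lt_succ_iff.1 (Finset.mem_range.1 hi)
      rw [Nat.cast_choose ℚ hik, hf, one_pow]
      have := Nat.factorial_ne_zero k
      have := Nat.factorial_ne_zero i
      have := Nat.factorial_ne_zero (k - i)
      field_simp
    rw [Finset.sum_congr rfl h2, ← Finset.sum_div, h1, zero_div]
  have h3 : f 0 + ∑ i ∈ Finset.Ico 1 k, f i + f k = 0 := by
    rw [Finset.sum_range_succ, Finset.range_eq_Ico, Finset.sum_eq_sum_Ico_succ_bot (by omega : 0 < k)] at h0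
    exact h0
  have hf0 : f 0 = (Nat.factorial k : ℚ)⁻¹ := by simp [hf]
  have hfk : f k = (-1 : ℚ) ^ k * (Nat.factorial k : ℚ)⁻¹ := by simp [hf, div_eq_mul_inv]
  have t1 : ∀ i ∈ Finset.Ico 1 k, (-1 : R) ^ (i - 1) * c i * c (k - i) = φ (- f i) * y ^ k := by
    intro i hi
    rw [Finset.mem_Ico] at hi
    have e1 : y ^ k = y ^ i * y ^ (k - i) := by rw [← pow_add]; congr 1; omega
    have e2 : (-1 : R) ^ (i - 1) = φ ((-1 : ℚ) ^ (i - 1)) := by simp
    have e3 : -f i = (-1 : ℚ) ^ (i - 1) * (Nat.factorial i : ℚ)⁻¹ * (Nat.factorial (k - i) : ℚ)⁻¹ := by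
      have : (-1 : ℚ) ^ i = (-1) ^ (i - 1) * (-1) := by rw [← pow_succ]; congr 1; omega
      simp only [hf]; rw [this]; field_simp
    rw [hc', hc', e1, e2, e3, map_mul, map_mul]; ring
  have t2 : (-1 : R) ^ (k - 1) * c k = φ (- f k) * y ^ k := by
    have e2 : (-1 : R) ^ (k - 1) = φ ((-1 : ℚ) ^ (k - 1)) := by simp
    have e3 : -f k = (-1 : ℚ) ^ (k - 1) * (Nat.factorial k : ℚ)⁻¹ := by
      have : (-1 : ℚ) ^ k = (-1) ^ (k - 1) * (-1) := by rw [← pow_succ]; congr 1; omega
      rw [hfk, this]; ring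
    rw [hc', e2, e3, map_mul]; ring
  rw [Finset.sum_congr rfl t1, t2, ← Finset.sum_mul, ← add_mul, ← map_sum, ← map_add, hc', ← hf0]
  congr 2
  rw [Finset.sum_neg_distrib]
  linarith

end Groth.Agent.S15224
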