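import Groth.Statements.S15229
-- import your own Groth.Agent.* helpers here
import Mathlib
import Groth.Agent.S15224

set_option autoImplicit false
open Finset
open W4c2rk2extmaps

namespace Groth.Agent.S15229

/-- In a commutative ℚ-algebra R let θ, η be elements and g a natural number, and put c_k = (4θ)^k / k!.
Suppose θ^(g+1) = 0 and that η satisfies the relation η^(g+1) = Σ_{i=1}^{g+1} (-1)^(i-1) c_i
η^(g+1-i). Then η^(g+k) θ^(g-k) = c_k η^g θ^(g-k) for every 1 ≤ k ≤ g. (The published statement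
concerns the first Chern class η of the tautological line bundle on a projective bundle P(U) over a
g-dimensional Jacobian, with c_k the Chern classes of U, which are (4θ)^k / k!; there θ^(g+1)
vanishes for dimension reasons and the displayed relation is the projective-bundle relation, and the
printed argument derives the identity from exactly these three inputs, which is the form stated
here.) -/
theorem result (R : Type*) [CommRing R] [Algebra ℚ R]
    (θ η : R) (g : ℕ) (c : ℕ → R) (hc : ∀ k : ℕ, c k = ((Nat.factorial k : ℚ)⁻¹) • ((4 : R) * θ) ^ k)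
    (hθ : θ ^ (g + 1) = 0)
    (hrel : η ^ (g + 1) = ∑ i ∈ Finset.Ico 1 (g + 2), (-1 : R) ^ (i - 1) * c i * η ^ (g + 1 - i))
    (k : ℕ) (hk1 : 1 ≤ k) (hkg : k ≤ g) :
    η ^ (g + k) * θ ^ (g - k) = c k * η ^ g * θ ^ (g - k) := by
  set φ := algebraMap ℚ R with hφ
  have hc' : ∀ j : ℕ, c j = φ ((Nat.factorial j : ℚ)⁻¹ * 4 ^ j) * θ ^ j := by
    intro j
    have h4 : (4 : R) = φ 4 := (map_ofNat (algebraMap ℚ R) 4).symm
    rw [hc, Algebra.smul_def, mul_pow, map_mul, map_pow, ← h4, mul_assoc]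
  have hvan : ∀ j m : ℕ, g + 1 ≤ j + m → c j * θ ^ m = 0 := by
    intro j m h
    rw [hc', mul_assoc, ← pow_add]
    obtain ⟨d, hd⟩ := Nat.exists_eq_add_of_le h
    rw [hd, pow_add, hθ, zero_mul, mul_zero]
  revert hk1 hkg
  induction k using Nat.strong_induction_on with
  | _ k ih =>
    intro hk1 hkg
    have key : η ^ (g + k) * θ ^ (g - k) = ∑ i ∈ Finset.Ico 1 (g + 2), (-1 : R) ^ (i - 1) * c i * η ^ (g + 1 - i) * (η ^ (k - 1) * θ ^ (g - k)) := by
      rw [← Finset.sum_mul, ← hrel, ← mul_assoc, ← pow_add]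
      congr 2
      omega
    have hsplit : ∀ f : ℕ → R, ∑ i ∈ Finset.Ico 1 (g + 2), f i = ∑ i ∈ Finset.Ico 1 k, f i + f k + ∑ i ∈ Finset.Ico (k + 1) (g + 2), f i := by
      intro f
      rw [← Finset.sum_Ico_consecutive f hk1 (by omega : k ≤ g + 2), Finset.sum_eq_sum_Ico_succ_bot (by omega : k < g + 2) f, add_assoc]
    rw [key, hsplit]
    have t3 : ∑ i ∈ Finset.Ico (k + 1) (g + 2), (-1 : R) ^ (i - 1) * c i * η ^ (g + 1 - i) * (η ^ (k - 1) * θ ^ (g - k)) = 0 := by
      apply Finset.sum_eq_zero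
      intro i hi
      rw [Finset.mem_Ico] at hi
      have : c i * θ ^ (g - k) = 0 := hvan i (g - k) (by omega)
      calc (-1 : R) ^ (i - 1) * c i * η ^ (g + 1 - i) * (η ^ (k - 1) * θ ^ (g - k))
          = (-1 : R) ^ (i - 1) * η ^ (g + 1 - i) * η ^ (k - 1) * (c i * θ ^ (g - k)) := by ring
        _ = 0 := by rw [this, mul_zero]
    have t2 : (-1 : R) ^ (k - 1) * c k * η ^ (g + 1 - k) * (η ^ (k - 1) * θ ^ (g - k)) = (-1 : R) ^ (k - 1) * c k * (η ^ g * θ ^ (g - k)) := by
      have : η ^ g = η ^ (g + 1 - k) * η ^ (k - 1) := by rw [← pow_add]; congr 1; omega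
      rw [this]; ring
    have t1 : ∀ i ∈ Finset.Ico 1 k, (-1 : R) ^ (i - 1) * c i * η ^ (g + 1 - i) * (η ^ (k - 1) * θ ^ (g - k)) = (-1 : R) ^ (i - 1) * c i * c (k - i) * (η ^ g * θ ^ (g - k)) := by
      intro i hi
      rw [Finset.mem_Ico] at hi
      have hIH := ih (k - i) (by omega) (by omega) (by omega)
      have e1 : η ^ (g + 1 - i) * η ^ (k - 1) = η ^ (g + (k - i)) := by rw [← pow_add]; congr 1; omega
      have e2 : θ ^ i * θ ^ (g - k) = θ ^ (g - (k - i)) := by rw [← pow_add]; congr 1; omega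
      calc (-1 : R) ^ (i - 1) * c i * η ^ (g + 1 - i) * (η ^ (k - 1) * θ ^ (g - k))
          = (-1 : R) ^ (i - 1) * φ ((Nat.factorial i : ℚ)⁻¹ * 4 ^ i) * (η ^ (g + 1 - i) * η ^ (k - 1)) * (θ ^ i * θ ^ (g - k)) := by
            rw [hc' i]; ring
        _ = (-1 : R) ^ (i - 1) * φ ((Nat.factorial i : ℚ)⁻¹ * 4 ^ i) * (η ^ (g + (k - i)) * θ ^ (g - (k - i))) := by
            rw [e1, e2]; ring
        _ = (-1 : R) ^ (i - 1) * φ ((Nat.factorial i : ℚ)⁻¹ * 4 ^ i) * (c (k - i) * η ^ g * (θ ^ i * θ ^ (g - k))) := by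
            rw [hIH, e2]
        _ = (-1 : R) ^ (i - 1) * c i * c (k - i) * (η ^ g * θ ^ (g - k)) := by
            rw [hc' i]; ring
    rw [Finset.sum_congr rfl t1, t2, t3, add_zero, ← Finset.sum_mul, ← add_mul]
    rcases Nat.lt_or_ge k 2 with h | h
    · have : k = 1 := by omega
      subst this
      simp [mul_assoc]
    · rw [Groth.Agent.S15224.result R ((4 : R) * θ) c hc k h, mul_assoc]

end Groth.Agent.S15229
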