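import Groth.Statements.S15233
-- import your own Groth.Agent.* helpers here
import Mathlib

set_option autoImplicit false
universe u
open CategoryTheory CategoryTheory.Limits Opposite
open CohSite

namespace Groth.Agent.S15233

/-- Let C be a small category with a Grothendieck topology J, and let B be a class of objects forming a
prebasis: for every object V and every covering sieve S of V, the arrows of S whose domain lies in B
generate a covering sieve of V. If F is a presheaf of abelian groups on C such that F(U) = 0 for
every object U in B, then the sheafification of F is zero. -/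
theorem result {C : Type u} [SmallCategory C] (J : GrothendieckTopology C)
    (B : ObjectProperty C)
    (hB : ∀ (V : C) (S : Sieve V), S ∈ J V →
      Sieve.generate (fun (U : C) => {g : U ⟶ V | S.arrows g ∧ B U}) ∈ J V)
    (F : Cᵒᵖ ⥤ AddCommGrpCat.{u}) (hF : ∀ U : C, B U → IsZero (F.obj (op U))) :
    IsZero ((presheafToSheaf J AddCommGrpCat.{u}).obj F) := by
  have key : toSheafify J F = 0 := by
    ext V : 2
    induction V using Opposite.rec with
    | op V =>
    apply Presheaf.IsSheaf.hom_ext (((presheafToSheaf J AddCommGrpCat.{u}).obj F).property)
      ⟨_, hB V ⊤ (J.top_mem V)⟩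
    rintro ⟨W, f, U, h, g, ⟨_, hU⟩, rfl⟩
    have hz : F.map g.op = 0 := (hF U hU).eq_of_tgt _ _
    show (toSheafify J F).app (op V) ≫ (sheafify J F).map (h ≫ g).op =
      (0 : F ⟶ sheafify J F).app (op V) ≫ (sheafify J F).map (h ≫ g).op
    rw [← (toSheafify J F).naturality, op_comp, F.map_comp, hz]
    simp
  rw [IsZero.iff_id_eq_zero]
  apply Sheaf.hom_ext
  apply sheafify_hom_ext J _ _ (((presheafToSheaf J AddCommGrpCat.{u}).obj F).property)
  rw [key]
  simp

end Groth.Agent.S15233
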