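import Groth.Statements.S15235
-- import your own Groth.Agent.* helpers here
import Mathlib

set_option autoImplicit false
universe u
open CategoryTheory Opposite
open HomAlg3

namespace Groth.Agent.S15235


private def T (G : ℕᵒᵖ ⥤ AddCommGrpCat.{u}) {a b : ℕ} (h : a ≤ b) :
    G.obj (op b) → G.obj (op a) :=
  fun x => (G.map (homOfLE h).op).hom x

private lemma T_comp (G : ℕᵒᵖ ⥤ AddCommGrpCat.{u}) {a b c : ℕ} (h1 : a ≤ b) (h2 : b ≤ c)
    (x : G.obj (op c)) : T G h1 (T G h2 x) = T G (h1.trans h2) x := by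
  unfold T
  have : (homOfLE (h1.trans h2)).op = (homOfLE h2).op ≫ (homOfLE h1).op := rfl
  rw [this, G.map_comp]
  rfl

private lemma T_self (G : ℕᵒᵖ ⥤ AddCommGrpCat.{u}) (a : ℕ) (x : G.obj (op a)) :
    T G (le_refl a) x = x := by
  unfold T
  have : (homOfLE (le_refl a)).op = 𝟙 (op a) := rfl
  rw [this, G.map_id]
  rfl

private lemma F_map_eq (G : ℕᵒᵖ ⥤ AddCommGrpCat.{u}) {a b : ℕ} (f : op b ⟶ op a) (h : a ≤ b)
    (x : G.obj (op b)) :
    (G ⋙ forget AddCommGrpCat.{u}).map f x = T G h x := by
  have : f = (homOfLE h).op := Quiver.Hom.unop_inj (Subsingleton.elim _ _)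
  subst this
  rfl

private lemma T_surj (G : ℕᵒᵖ ⥤ AddCommGrpCat.{u}) (j₀ : ℕ)
    (hs : ∀ j : ℕ, j₀ ≤ j → Function.Surjective (G.map (homOfLE (Nat.le_succ j)).op).hom)
    {a b : ℕ} (ha : j₀ ≤ a) (h : a ≤ b) : Function.Surjective (T G h) := by
  induction b, h using Nat.le_induction with
  | base => intro x; exact ⟨x, T_self G a x⟩
  | succ b hab ih =>
    intro x
    obtain ⟨y, hy⟩ := ih x
    obtain ⟨z, hz⟩ := hs b (ha.trans hab) y
    refine ⟨z, ?_⟩
    rw [← hy, ← hz]
    exact (T_comp G hab (Nat.le_succ b) z).symm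

private lemma T_inj (G : ℕᵒᵖ ⥤ AddCommGrpCat.{u}) (j₀ : ℕ)
    (hs : ∀ j : ℕ, j₀ ≤ j → Function.Injective (G.map (homOfLE (Nat.le_succ j)).op).hom)
    {a b : ℕ} (ha : j₀ ≤ a) (h : a ≤ b) : Function.Injective (T G h) := by
  induction b, h using Nat.le_induction with
  | base =>
    intro x y hxy
    rwa [T_self, T_self] at hxy
  | succ b hab ih =>
    intro x y hxy
    apply hs b (ha.trans hab)
    apply ih
    have h1 := T_comp G hab (Nat.le_succ b) x
    have h2 := T_comp G hab (Nat.le_succ b) y
    exact h1.trans (hxy.trans h2.symm)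

/-- Let (G_j) be an inverse system of abelian groups indexed by the natural numbers, with transition
maps G_{j+1} → G_j, and let j₀ be a natural number such that the transition map G_{j+1} → G_j is
surjective for every j ≥ j₀. Then: (a) the system satisfies the Mittag-Leffler condition; (b) the
evaluation map from the inverse limit (realised as the set of compatible families) to G_{j₀} is
surjective; (c) if in addition the transition maps G_{j+1} → G_j are injective for every j ≥ j₀,
that evaluation map is bijective. (The published statement indexes the system by the negative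
integers and assumes j₀ ≥ 1; this row indexes it by the natural numbers and allows j₀ = 0, which
changes nothing.) -/
theorem result (G : ℕᵒᵖ ⥤ AddCommGrpCat.{u})
    (j₀ : ℕ) (hs : ∀ j : ℕ, j₀ ≤ j → Function.Surjective (G.map (homOfLE (Nat.le_succ j)).op).hom) :
    (G ⋙ forget AddCommGrpCat.{u}).IsMittagLeffler ∧
      Function.Surjective (fun s : (G ⋙ forget AddCommGrpCat.{u}).sections => s.1 (op j₀)) ∧
      ((∀ j : ℕ, j₀ ≤ j → Function.Injective (G.map (homOfLE (Nat.le_succ j)).op).hom) →
        Function.Bijective (fun s : (G ⋙ forget AddCommGrpCat.{u}).sections => s.1 (op j₀))) := by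
  have part1 : (G ⋙ forget AddCommGrpCat.{u}).IsMittagLeffler := by
    intro j
    obtain ⟨a⟩ := j
    refine ⟨op (max a j₀), (homOfLE (le_max_left a j₀)).op, ?_⟩
    intro k g
    obtain ⟨b⟩ := k
    rintro _ ⟨y, rfl⟩
    have hab : a ≤ b := leOfHom g.unop
    obtain ⟨w, hw⟩ := T_surj G j₀ hs (le_max_right a j₀) (le_max_right b (max a j₀)) y
    refine ⟨T G (le_max_left b (max a j₀)) w, ?_⟩
    rw [F_map_eq G g hab, F_map_eq G _ (le_max_left a j₀), T_comp, ← hw, T_comp]
  have part2 : Function.Surjective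
      (fun s : (G ⋙ forget AddCommGrpCat.{u}).sections => s.1 (op j₀)) := by
    intro x
    let y : ∀ n, G.obj (op (j₀ + n)) := fun n =>
      Nat.rec (motive := fun n => G.obj (op (j₀ + n))) x
        (fun n yn => (hs (j₀ + n) (Nat.le_add_right _ _) yn).choose) n
    have hy : ∀ n, T G (Nat.le_succ (j₀ + n)) (y (n + 1)) = y n := fun n =>
      (hs (j₀ + n) (Nat.le_add_right _ _) (y n)).choose_spec
    have hyc : ∀ (b a : ℕ) (h : b ≤ a), T G (Nat.add_le_add_left h j₀) (y a) = y b := by
      intro b a h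
      induction a, h using Nat.le_induction with
      | base => exact T_self G _ _
      | succ a hba ih =>
        rw [← ih, ← hy a, T_comp]
    refine ⟨⟨fun j => T G (Nat.le_add_left j.unop j₀) (y j.unop), ?_⟩, ?_⟩
    · intro j j' f
      obtain ⟨a⟩ := j
      obtain ⟨b⟩ := j'
      have hba : b ≤ a := leOfHom f.unop
      rw [F_map_eq G f hba]
      change T G hba (T G (Nat.le_add_left a j₀) (y a)) = T G (Nat.le_add_left b j₀) (y b)
      rw [T_comp, ← hyc b a hba, T_comp]
    · exact hyc 0 j₀ (Nat.zero_le _)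
  refine ⟨part1, part2, fun hinj => ⟨?_, part2⟩⟩
  intro s s' h
  apply Subtype.ext
  funext j
  obtain ⟨m⟩ := j
  have h1 : ∀ t : (G ⋙ forget AddCommGrpCat.{u}).sections,
      t.1 (op m) = T G (le_max_left m j₀) (t.1 (op (max m j₀))) := by
    intro t
    rw [← F_map_eq G (homOfLE (le_max_left m j₀)).op]
    exact (t.2 _).symm
  have h2 : ∀ t : (G ⋙ forget AddCommGrpCat.{u}).sections,
      T G (le_max_right m j₀) (t.1 (op (max m j₀))) = t.1 (op j₀) := by
    intro t
    rw [← F_map_eq G (homOfLE (le_max_right m j₀)).op]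
    exact t.2 _
  change s.1 (op m) = s'.1 (op m)
  rw [h1 s, h1 s']
  congr 1
  apply T_inj G j₀ hinj (le_refl j₀) (le_max_right m j₀)
  rw [h2 s, h2 s']
  exact h

end Groth.Agent.S15235
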