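import Groth.Statements.S15237
-- import your own Groth.Agent.* helpers here
import Mathlib

set_option autoImplicit false
open CategoryTheory AlgebraicGeometry
universe u
open Variety

namespace Groth.Agent.S15237

section
open Cardinal

lemma linInd_inv_sub {k L : Type*} [Field k] [Field L] [Algebra k L] (t : L)
    (ht : Transcendental k t) :
    LinearIndependent k (fun a : k => (t - algebraMap k L a)⁻¹) := by
  classical
  rw [linearIndependent_iff']
  intro s c hsum a₀ ha₀
  have hne : ∀ a : k, t - algebraMap k L a ≠ 0 := by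
    intro a h
    apply ht
    rw [sub_eq_zero] at h
    rw [h]
    exact isAlgebraic_algebraMap a
  have hp : Polynomial.aeval t (∑ a ∈ s, Polynomial.C (c a) *
      ∏ b ∈ s.erase a, (Polynomial.X - Polynomial.C b)) = 0 := by
    have h1 : Polynomial.aeval t (∑ a ∈ s, Polynomial.C (c a) *
        ∏ b ∈ s.erase a, (Polynomial.X - Polynomial.C b)) =
        (∏ b ∈ s, (t - algebraMap k L b)) * ∑ a ∈ s, c a • (t - algebraMap k L a)⁻¹ := by
      simp only [map_sum, map_mul, map_prod, map_sub, Polynomial.aeval_C, Polynomial.aeval_X]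
      rw [Finset.mul_sum]
      apply Finset.sum_congr rfl
      intro a ha
      rw [← Finset.mul_prod_erase s (fun b => t - algebraMap k L b) ha, Algebra.smul_def]
      rw [show ((t - algebraMap k L a) * ∏ b ∈ s.erase a, (t - algebraMap k L b)) *
          (algebraMap k L (c a) * (t - algebraMap k L a)⁻¹) =
          algebraMap k L (c a) * (∏ b ∈ s.erase a, (t - algebraMap k L b)) *
          ((t - algebraMap k L a) * (t - algebraMap k L a)⁻¹) by ring,
        mul_inv_cancel₀ (hne a), mul_one]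
    rw [h1, hsum, mul_zero]
  have hp0 := (transcendental_iff.mp ht) _ hp
  have heval : Polynomial.eval a₀ (∑ a ∈ s, Polynomial.C (c a) *
      ∏ b ∈ s.erase a, (Polynomial.X - Polynomial.C b)) =
      c a₀ * ∏ b ∈ s.erase a₀, (a₀ - b) := by
    simp only [Polynomial.eval_finset_sum, Polynomial.eval_mul, Polynomial.eval_C,
      Polynomial.eval_prod, Polynomial.eval_sub, Polynomial.eval_X]
    rw [Finset.sum_eq_single a₀]
    · intro a ha hne'
      have : a₀ ∈ s.erase a := Finset.mem_erase.mpr ⟨fun h => hne' h.symm, ha₀⟩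
      rw [Finset.prod_eq_zero this (sub_self a₀), mul_zero]
    · intro h
      exact absurd ha₀ h
  rw [hp0, Polynomial.eval_zero] at heval
  have hprod : ∏ b ∈ s.erase a₀, (a₀ - b) ≠ 0 := by
    rw [Finset.prod_ne_zero_iff]
    intro b hb
    exact sub_ne_zero.mpr (Finset.ne_of_mem_erase hb).symm
  exact (mul_eq_zero.mp heval.symm).resolve_right hprod

lemma isAlgebraic_of_rank_le {k L : Type u} [Field k] [Uncountable k] [Field L] [Algebra k L]
    (h : Module.rank k L ≤ ℵ₀) : Algebra.IsAlgebraic k L := by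
  constructor
  intro t
  by_contra ht
  have hli := linInd_inv_sub t ht
  have h1 : #k ≤ Module.rank k L := hli.cardinal_le_rank
  have h2 : #k ≤ ℵ₀ := h1.trans h
  rw [Cardinal.mk_le_aleph0_iff] at h2
  exact not_countable h2

lemma core (k A : Type u) [Field k] [Uncountable k] [CommRing A] (φ : k →+* A)
    (hφ : φ.FiniteType) (hirr : (nilradical A).IsPrime) (f : ℕ → A)
    (hf : ∀ n, ¬ IsNilpotent (f n)) :
    ∃ m : Ideal A, m.IsMaximal ∧ ∀ n, f n ∉ m := by
  classical
  letI : Algebra k A := φ.toAlgebra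
  have hft : Algebra.FiniteType k A := hφ
  obtain ⟨n, θ, hθ⟩ := Algebra.FiniteType.iff_quotient_mvPolynomial''.mp hft
  haveI : (nilradical A).IsPrime := hirr
  let ψ₀ : A →+* FractionRing (A ⧸ nilradical A) :=
    (algebraMap (A ⧸ nilradical A) (FractionRing (A ⧸ nilradical A))).comp
      (Ideal.Quotient.mk (nilradical A))
  have hψ₀ : ∀ j, ψ₀ (f j) ≠ 0 := by
    intro j h
    have h1 : algebraMap (A ⧸ nilradical A) (FractionRing (A ⧸ nilradical A))
        (Ideal.Quotient.mk (nilradical A) (f j)) = 0 := h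
    have h2 : Ideal.Quotient.mk (nilradical A) (f j) = 0 :=
      IsFractionRing.injective (A ⧸ nilradical A) (FractionRing (A ⧸ nilradical A))
        (by rw [h1, map_zero])
    rw [Ideal.Quotient.eq_zero_iff_mem, mem_nilradical] at h2
    exact hf j h2
  let g : (Fin n ⊕ ℕ) → FractionRing (A ⧸ nilradical A) :=
    Sum.elim (fun i => ψ₀ (θ (MvPolynomial.X i))) (fun j => (ψ₀ (f j))⁻¹)
  let ρ : MvPolynomial (Fin n ⊕ ℕ) k →+* FractionRing (A ⧸ nilradical A) :=
    MvPolynomial.eval₂Hom (ψ₀.comp φ) g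
  have hC : ∀ c : k, θ (MvPolynomial.C c) = φ c := by
    intro c
    rw [MvPolynomial.algHom_C]
    rfl
  have hρ : ∀ p : MvPolynomial (Fin n) k, ρ (MvPolynomial.rename Sum.inl p) = ψ₀ (θ p) := by
    intro p
    have hcomp : ρ.comp (MvPolynomial.rename Sum.inl :
        MvPolynomial (Fin n) k →ₐ[k] MvPolynomial (Fin n ⊕ ℕ) k).toRingHom =
        ψ₀.comp θ.toRingHom := by
      apply MvPolynomial.ringHom_ext
      · intro c
        show ρ (MvPolynomial.rename Sum.inl (MvPolynomial.C c)) = ψ₀ (θ (MvPolynomial.C c))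
        rw [hC, MvPolynomial.rename_C]
        show MvPolynomial.eval₂Hom (ψ₀.comp φ) g (MvPolynomial.C c) = ψ₀ (φ c)
        rw [MvPolynomial.eval₂Hom_C]
        rfl
      · intro i
        show ρ (MvPolynomial.rename Sum.inl (MvPolynomial.X i)) = ψ₀ (θ (MvPolynomial.X i))
        rw [MvPolynomial.rename_X]
        show MvPolynomial.eval₂Hom (ψ₀.comp φ) g (MvPolynomial.X (Sum.inl i)) = _
        rw [MvPolynomial.eval₂Hom_X']
        rfl
    exact RingHom.congr_fun hcomp p
  have hker_ne : RingHom.ker ρ ≠ ⊤ := RingHom.ker_ne_top ρ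
  obtain ⟨𝔐, h𝔐max, h𝔐le⟩ := Ideal.exists_le_maximal _ hker_ne
  haveI := h𝔐max
  letI : Field (MvPolynomial (Fin n ⊕ ℕ) k ⧸ 𝔐) := Ideal.Quotient.field 𝔐
  have hrank : Module.rank k (MvPolynomial (Fin n ⊕ ℕ) k ⧸ 𝔐) ≤ ℵ₀ := by
    have h1 := LinearMap.rank_le_of_surjective (Ideal.Quotient.mkₐ k 𝔐).toLinearMap
      (Ideal.Quotient.mkₐ_surjective k 𝔐)
    refine h1.trans ?_
    rw [MvPolynomial.rank_eq_lift, Cardinal.lift_le_aleph0]
    exact Cardinal.mk_le_aleph0
  have halg : Algebra.IsAlgebraic k (MvPolynomial (Fin n ⊕ ℕ) k ⧸ 𝔐) :=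
    isAlgebraic_of_rank_le hrank
  let π : MvPolynomial (Fin n ⊕ ℕ) k →+* (MvPolynomial (Fin n ⊕ ℕ) k ⧸ 𝔐) :=
    Ideal.Quotient.mk 𝔐
  let χ : MvPolynomial (Fin n) k →+* (MvPolynomial (Fin n ⊕ ℕ) k ⧸ 𝔐) :=
    π.comp (MvPolynomial.rename Sum.inl :
      MvPolynomial (Fin n) k →ₐ[k] MvPolynomial (Fin n ⊕ ℕ) k).toRingHom
  have hker : RingHom.ker θ.toRingHom ≤ RingHom.ker χ := by
    intro p hp
    rw [RingHom.mem_ker] at hp ⊢
    have hp' : θ p = 0 := hp
    show π (MvPolynomial.rename Sum.inl p) = 0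
    rw [Ideal.Quotient.eq_zero_iff_mem]
    apply h𝔐le
    rw [RingHom.mem_ker, hρ, hp', map_zero]
  obtain ⟨ψ, hψ⟩ : ∃ ψ : A →+* (MvPolynomial (Fin n ⊕ ℕ) k ⧸ 𝔐), ∀ p, ψ (θ p) = χ p :=
    ⟨θ.toRingHom.liftOfSurjective hθ ⟨χ, hker⟩,
      fun p => RingHom.liftOfSurjective_comp_apply _ hθ ⟨χ, hker⟩ p⟩
  refine ⟨RingHom.ker ψ, ?_, ?_⟩
  · have hint : (ψ.comp φ).IsIntegral := by
      have e : ψ.comp φ = algebraMap k (MvPolynomial (Fin n ⊕ ℕ) k ⧸ 𝔐) := by
        ext c
        show ψ (φ c) = _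
        rw [← hC, hψ]
        show π (MvPolynomial.rename Sum.inl (MvPolynomial.C c)) = _
        rw [MvPolynomial.rename_C]
        rfl
      rw [e]
      exact algebraMap_isIntegral_iff.mpr (Algebra.isAlgebraic_iff_isIntegral.mp halg)
    have hint' : ψ.IsIntegral := RingHom.IsIntegral.tower_top φ ψ hint
    haveI : (⊥ : Ideal (MvPolynomial (Fin n ⊕ ℕ) k ⧸ 𝔐)).IsMaximal := Ideal.bot_isMaximal
    have := Ideal.isMaximal_comap_of_isIntegral_of_isMaximal' ψ hint'
      (⊥ : Ideal (MvPolynomial (Fin n ⊕ ℕ) k ⧸ 𝔐))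
    rwa [← RingHom.ker_eq_comap_bot] at this
  · intro j hj
    rw [RingHom.mem_ker] at hj
    obtain ⟨pj, hpj⟩ := hθ (f j)
    have h1 : χ pj = 0 := by rw [← hψ, hpj, hj]
    have h2 : MvPolynomial.X (Sum.inr j) * MvPolynomial.rename Sum.inl pj - 1 ∈ 𝔐 := by
      apply h𝔐le
      rw [RingHom.mem_ker, map_sub, map_mul, map_one, hρ, hpj]
      show MvPolynomial.eval₂Hom (ψ₀.comp φ) g (MvPolynomial.X (Sum.inr j)) * ψ₀ (f j) - 1 = 0
      rw [MvPolynomial.eval₂Hom_X']
      show (ψ₀ (f j))⁻¹ * ψ₀ (f j) - 1 = 0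
      rw [inv_mul_cancel₀ (hψ₀ j), sub_self]
    have h3 : π (MvPolynomial.X (Sum.inr j)) * χ pj = 1 := by
      have := (Ideal.Quotient.eq_zero_iff_mem).mpr h2
      rw [map_sub, map_mul, map_one, sub_eq_zero] at this
      exact this
    rw [h1, mul_zero] at h3
    exact zero_ne_one h3

end

/-- Let k be an uncountable field and X an irreducible k-scheme of finite type. Then the closed points
of X are not covered by countably many closed subsets of X different from X: for every sequence Z₀,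
Z₁, … of closed subsets of X with Zₙ ≠ X for all n there is a closed point of X lying in no Zₙ. (The
published statement is for an irreducible quasi-projective variety and says that the variety is not
a countable union of closed subsets different from it, a variety being read through its closed
points; with the generic point of the scheme that assertion would be immediate, so this row asks for
a closed point, and it assumes only finite type over k.) -/
theorem result (k : Type u) [Field k] [Uncountable k]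
    (X : Scheme.{u}) (sX : X ⟶ Spec (CommRingCat.of k)) [IrreducibleSpace X]
    [LocallyOfFiniteType sX] [QuasiCompact sX]
    (Z : ℕ → TopologicalSpace.Closeds X) (hZ : ∀ n, (Z n : Set X) ≠ Set.univ) :
    ∃ x : X, IsClosed ({x} : Set X) ∧ ∀ n, x ∉ Z n := by
  classical
  obtain ⟨x₀⟩ := (inferInstance : Nonempty X)
  obtain ⟨_, ⟨U, hU, rfl⟩, hx₀U, -⟩ := (X.isBasis_affineOpens).exists_subset_of_mem_open
    (Set.mem_univ x₀) isOpen_univ
  have hU' : IsAffineOpen U := hU
  have hrange : Set.range hU'.fromSpec = (U : Set X) := hU'.range_fromSpec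
  obtain ⟨z₀, hz₀⟩ : x₀ ∈ Set.range hU'.fromSpec := by rw [hrange]; exact hx₀U
  haveI : Nonempty (Spec Γ(X, U)) := ⟨z₀⟩
  haveI hirrS : IrreducibleSpace (Spec Γ(X, U)) :=
    hU'.fromSpec.isOpenEmbedding.irreducibleSpace
  have hirr : (nilradical Γ(X, U)).IsPrime :=
    (PrimeSpectrum.irreducibleSpace_iff_isPrime_nilradical (R := Γ(X, U))).mp
      (show IrreducibleSpace (PrimeSpectrum Γ(X, U)) from hirrS)
  let φ : k →+* Γ(X, U) :=
    ((Scheme.ΓSpecIso (CommRingCat.of k)).inv ≫ sX.appLE ⊤ U le_top).hom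
  have hφ : φ.FiniteType := by
    have h1 : (sX.appLE ⊤ U le_top).hom.FiniteType :=
      sX.finiteType_appLE (isAffineOpen_top _) hU' le_top
    have h2 : ((Scheme.ΓSpecIso (CommRingCat.of k)).inv).hom.FiniteType :=
      RingHom.FiniteType.of_surjective _ (fun b =>
        ⟨(Scheme.ΓSpecIso (CommRingCat.of k)).hom.hom b, by simp⟩)
    show ((sX.appLE ⊤ U le_top).hom.comp
      ((Scheme.ΓSpecIso (CommRingCat.of k)).inv).hom).FiniteType
    exact h1.comp h2
  have hfn : ∀ n, ∃ fn : Γ(X, U), (∃ y, y ∈ X.basicOpen fn) ∧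
      ∀ y ∈ X.basicOpen fn, y ∉ Z n := by
    intro n
    have hne : ((Z n : Set X)ᶜ ∩ (U : Set X)).Nonempty := by
      apply nonempty_preirreducible_inter (Z n).isClosed.isOpen_compl U.isOpen
      · exact Set.nonempty_compl.mpr (hZ n)
      · exact ⟨x₀, hx₀U⟩
    obtain ⟨y, hyZ, hyU⟩ := hne
    obtain ⟨fn, hle, hy⟩ := hU'.exists_basicOpen_le
      (V := (⟨(Z n : Set X)ᶜ, (Z n).isClosed.isOpen_compl⟩ : X.Opens) ⊓ U)
      ⟨y, ⟨hyZ, hyU⟩⟩ hyU
    refine ⟨fn, ⟨y, hy⟩, fun y' hy' => ?_⟩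
    exact (hle hy').1
  choose f hfne hfZ using hfn
  have hfnil : ∀ n, ¬ IsNilpotent (f n) := by
    intro n hnil
    obtain ⟨y, hy⟩ := hfne n
    have hyU : y ∈ (U : Set X) := X.basicOpen_le (f n) hy
    rw [← hrange] at hyU
    obtain ⟨z, rfl⟩ := hyU
    have hz : z ∈ hU'.fromSpec ⁻¹ᵁ X.basicOpen (f n) := hy
    rw [hU'.fromSpec_preimage_basicOpen, (PrimeSpectrum.basicOpen_eq_bot_iff (f n)).mpr hnil] at hz
    exact hz
  obtain ⟨m, hm, hfm⟩ := core k Γ(X, U) φ hφ hirr f hfnil
  refine ⟨hU'.fromSpec (⟨m, hm.isPrime⟩ : PrimeSpectrum Γ(X, U)), ?_, ?_⟩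
  · haveI : JacobsonSpace X := LocallyOfFiniteType.jacobsonSpace sX
    apply isClosed_singleton_of_isLocallyClosed_singleton
    have hz : IsClosed ({(⟨m, hm.isPrime⟩ : PrimeSpectrum Γ(X, U))} : Set (PrimeSpectrum Γ(X, U))) :=
      (PrimeSpectrum.isClosed_singleton_iff_isMaximal _).mpr hm
    have := hz.isLocallyClosed.image hU'.fromSpec.isOpenEmbedding.isInducing
      (hU'.fromSpec.isOpenEmbedding.isOpen_range.isLocallyClosed)
    rwa [Set.image_singleton] at this
  · intro n
    apply hfZ n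
    show (⟨m, hm.isPrime⟩ : PrimeSpectrum Γ(X, U)) ∈ hU'.fromSpec ⁻¹ᵁ X.basicOpen (f n)
    rw [hU'.fromSpec_preimage_basicOpen]
    exact hfm n

end Groth.Agent.S15237
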