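import Groth.Statements.S15258
-- import your own Groth.Agent.* helpers here
import Mathlib

set_option autoImplicit false
universe u
open CategoryTheory CategoryTheory.Limits AlgebraicGeometry TopologicalSpace
open W4c2seshadripos

namespace Groth.Agent.S15258

section
open CategoryTheory AlgebraicGeometry TopologicalSpace

lemma locA {X : Scheme.{u}} {U : X.Opens} (hU : IsAffineOpen U) (h : Γ(X, U)) (W : X.Opens)
    (hW : W = X.basicOpen h) (le : W ≤ U) :
    (X.presheaf.map (homOfLE le).op).hom.EssFiniteType := by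
  subst hW
  have := hU.isLocalization_basicOpen h
  exact RingHom.EssFiniteType.holdsForLocalization Γ(X, X.basicOpen h) (Submonoid.powers h)

lemma key {X Y : Scheme.{u}} (f : X ⟶ Y) (U U' : Y.affineOpens) (V : X.affineOpens)
    (e' : (V : X.Opens) ≤ f ⁻¹ᵁ (U' : Y.Opens))
    (hV : (f.appLE (U' : Y.Opens) (V : X.Opens) e').hom.EssFiniteType)
    (h : Γ(Y, (U : Y.Opens))) (h' : Γ(Y, (U' : Y.Opens)))
    (hh : Y.basicOpen h = Y.basicOpen h') (x : X) (hxV : x ∈ (V : X.Opens))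
    (hfx : f x ∈ Y.basicOpen h) :
    ∃ V' : X.affineOpens, x ∈ (V' : X.Opens) ∧
      ∃ e : (V' : X.Opens) ≤ f ⁻¹ᵁ (U : Y.Opens),
        (f.appLE (U : Y.Opens) (V' : X.Opens) e).hom.EssFiniteType := by
  set g := f.appLE (U' : Y.Opens) (V : X.Opens) e' h' with hg
  have hV'eq : X.basicOpen g = (V : X.Opens) ⊓ f ⁻¹ᵁ (Y.basicOpen h') :=
    Scheme.basicOpen_appLE f V U' e' h'
  have le1 : X.basicOpen g ≤ f ⁻¹ᵁ (Y.basicOpen h') := by rw [hV'eq]; exact inf_le_right
  have le2 : Y.basicOpen h' ≤ (U : Y.Opens) := hh ▸ Y.basicOpen_le h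
  have le3 : Y.basicOpen h' ≤ (U' : Y.Opens) := Y.basicOpen_le h'
  have e : X.basicOpen g ≤ f ⁻¹ᵁ (U : Y.Opens) := le1.trans (f.preimage_mono le2)
  refine ⟨⟨X.basicOpen g, V.2.basicOpen g⟩, ?_, e, ?_⟩
  · show x ∈ X.basicOpen g
    rw [hV'eq]
    exact ⟨hxV, hh ▸ hfx⟩
  · have c1 : Y.presheaf.map (homOfLE le3).op ≫ f.appLE (Y.basicOpen h') (X.basicOpen g) le1 =
        f.appLE (U' : Y.Opens) (V : X.Opens) e' ≫
          X.presheaf.map (homOfLE (X.basicOpen_le g)).op := by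
      rw [Scheme.Hom.map_appLE, Scheme.Hom.appLE_map]
    have s1 : (f.appLE (Y.basicOpen h') (X.basicOpen g) le1).hom.EssFiniteType := by
      have r : (f.appLE (U' : Y.Opens) (V : X.Opens) e' ≫
          X.presheaf.map (homOfLE (X.basicOpen_le g)).op).hom.EssFiniteType := by
        rw [CommRingCat.hom_comp]
        exact hV.comp (locA V.2 g _ rfl _)
      rw [← c1, CommRingCat.hom_comp] at r
      exact RingHom.EssFiniteType.of_comp _ r
    have c2 : f.appLE (U : Y.Opens) (X.basicOpen g) e =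
        Y.presheaf.map (homOfLE le2).op ≫ f.appLE (Y.basicOpen h') (X.basicOpen g) le1 := by
      rw [Scheme.Hom.map_appLE]
    show (f.appLE (U : Y.Opens) (X.basicOpen g) e).hom.EssFiniteType
    rw [c2, CommRingCat.hom_comp]
    exact (locA U.2 h _ hh.symm le2).comp s1

end

/-- Call f : X → Y locally essentially of finite type when Y has a cover by affine opens U = Spec A such
that each f⁻¹(U) has a cover by affine opens Spec B with A → B essentially of finite type (a
localization of a finite-type A-algebra; Mathlib's RingHom.EssFiniteType), and essentially of finite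
type when moreover f is quasi-compact. Then f is locally essentially of finite type exactly when
every affine open U = Spec A of Y has f⁻¹(U) covered by affine opens V = Spec B of X with A → B
essentially of finite type. -/
theorem result {X Y : Scheme.{u}} (f : X ⟶ Y) :
    (∃ S : Set Y.affineOpens, (⋃ U ∈ S, ((U : Y.Opens) : Set ↥Y)) = Set.univ ∧
      ∀ U ∈ S, ∃ T : Set X.affineOpens, (⋃ V ∈ T, ((V : X.Opens) : Set ↥X)) = ((f ⁻¹ᵁ (U : Y.Opens)) : Set ↥X) ∧
        ∀ V ∈ T, ∃ e : (V : X.Opens) ≤ f ⁻¹ᵁ (U : Y.Opens), (f.appLE (U : Y.Opens) (V : X.Opens) e).hom.EssFiniteType) ↔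
    ∀ U : Y.affineOpens, ∃ T : Set X.affineOpens, (⋃ V ∈ T, ((V : X.Opens) : Set ↥X)) = ((f ⁻¹ᵁ (U : Y.Opens)) : Set ↥X) ∧
        ∀ V ∈ T, ∃ e : (V : X.Opens) ≤ f ⁻¹ᵁ (U : Y.Opens), (f.appLE (U : Y.Opens) (V : X.Opens) e).hom.EssFiniteType := by
  constructor
  · rintro ⟨S, hS, hT⟩ U
    refine ⟨{V | ∃ e : (V : X.Opens) ≤ f ⁻¹ᵁ (U : Y.Opens),
      (f.appLE (U : Y.Opens) (V : X.Opens) e).hom.EssFiniteType}, ?_, fun V hV => hV⟩
    apply Set.Subset.antisymm
    · intro x hx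
      simp only [Set.mem_iUnion] at hx
      obtain ⟨V, ⟨e, -⟩, hxV⟩ := hx
      exact e hxV
    · intro x hx
      have hfx : f x ∈ (Set.univ : Set Y) := trivial
      rw [← hS] at hfx
      simp only [Set.mem_iUnion] at hfx
      obtain ⟨U', hU'S, hfxU'⟩ := hfx
      obtain ⟨T', hT'cover, hT'⟩ := hT U' hU'S
      have hx' : x ∈ ((f ⁻¹ᵁ (U' : Y.Opens)) : Set X) := hfxU'
      rw [← hT'cover] at hx'
      simp only [Set.mem_iUnion] at hx'
      obtain ⟨V, hVT', hxV⟩ := hx'
      obtain ⟨e', hV⟩ := hT' V hVT'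
      obtain ⟨h, h', hhh', hfxh⟩ :=
        exists_basicOpen_le_affine_inter U.2 U'.2 (f x) ⟨hx, hfxU'⟩
      obtain ⟨V', hxV', e, hV'⟩ := key f U U' V e' hV h h' hhh' x hxV hfxh
      simp only [Set.mem_iUnion]
      exact ⟨V', ⟨e, hV'⟩, hxV'⟩
  · intro H
    refine ⟨Set.univ, ?_, fun U _ => H U⟩
    apply Set.eq_univ_of_forall
    intro y
    obtain ⟨_, ⟨W, hW, rfl⟩, hyW, -⟩ := (Y.isBasis_affineOpens).exists_subset_of_mem_open
      (Set.mem_univ y) isOpen_univ
    simp only [Set.mem_iUnion]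
    exact ⟨⟨W, hW⟩, trivial, hyW⟩

end Groth.Agent.S15258
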