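import Groth.Statements.S15259
-- import your own Groth.Agent.* helpers here
import Groth.Statements.S15259
import Groth.Agent.S15258

set_option autoImplicit false
universe u
open CategoryTheory CategoryTheory.Limits AlgebraicGeometry TopologicalSpace
open W4c2seshadripos

namespace Groth.Agent.S15259

/-- Call f : X → Y locally essentially of finite type when Y has a cover by affine opens U = Spec A such
that each f⁻¹(U) has a cover by affine opens Spec B with A → B essentially of finite type (a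
localization of a finite-type A-algebra; Mathlib's RingHom.EssFiniteType), and essentially of finite
type when moreover f is quasi-compact. Then f is essentially of finite type exactly when every
affine open U = Spec A of Y has f⁻¹(U) covered by finitely many affine opens V = Spec B of X with A
→ B essentially of finite type. -/
theorem result {X Y : Scheme.{u}} (f : X ⟶ Y) :
    ((∃ S : Set Y.affineOpens, (⋃ U ∈ S, ((U : Y.Opens) : Set ↥Y)) = Set.univ ∧
      ∀ U ∈ S, ∃ T : Set X.affineOpens, (⋃ V ∈ T, ((V : X.Opens) : Set ↥X)) = ((f ⁻¹ᵁ (U : Y.Opens)) : Set ↥X) ∧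
        ∀ V ∈ T, ∃ e : (V : X.Opens) ≤ f ⁻¹ᵁ (U : Y.Opens), (f.appLE (U : Y.Opens) (V : X.Opens) e).hom.EssFiniteType) ∧ QuasiCompact f) ↔
    ∀ U : Y.affineOpens, ∃ T : Set X.affineOpens, T.Finite ∧ (⋃ V ∈ T, ((V : X.Opens) : Set ↥X)) = ((f ⁻¹ᵁ (U : Y.Opens)) : Set ↥X) ∧
        ∀ V ∈ T, ∃ e : (V : X.Opens) ≤ f ⁻¹ᵁ (U : Y.Opens), (f.appLE (U : Y.Opens) (V : X.Opens) e).hom.EssFiniteType := by
  constructor
  · rintro ⟨hloc, hqc⟩ U
    obtain ⟨T, hT, hT'⟩ := (Groth.Agent.S15258.result f).mp hloc U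
    have hc : IsCompact ((f ⁻¹ᵁ (U : Y.Opens)) : Set X) :=
      (quasiCompact_iff_forall_isAffineOpen (f := f)).mp hqc U U.2
    obtain ⟨T₀, hT₀sub, hT₀fin, hT₀cov⟩ := hc.elim_finite_subcover_image
      (b := T) (c := fun V : X.affineOpens => ((V : X.Opens) : Set X))
      (fun V _ => (V : X.Opens).isOpen) (by rw [hT])
    refine ⟨T₀, hT₀fin, ?_, fun V hV => hT' V (hT₀sub hV)⟩
    apply Set.Subset.antisymm
    · rw [← hT]
      exact Set.biUnion_subset_biUnion_left hT₀sub
    · exact hT₀cov
  · intro H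
    refine ⟨(Groth.Agent.S15258.result f).mpr (fun U => ?_), ?_⟩
    · obtain ⟨T, -, h2, h3⟩ := H U
      exact ⟨T, h2, h3⟩
    · rw [quasiCompact_iff_forall_isAffineOpen]
      intro U hU
      obtain ⟨T, hfin, hcov, -⟩ := H ⟨U, hU⟩
      have : ((f ⁻¹ᵁ U : X.Opens) : Set X) = ⋃ V ∈ T, ((V : X.Opens) : Set X) := hcov.symm
      rw [this]
      exact hfin.isCompact_biUnion (fun V _ => V.2.isCompact)

end Groth.Agent.S15259
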