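import Groth.Statements.S15260
-- import your own Groth.Agent.* helpers here
import Mathlib

set_option autoImplicit false
universe u
open CategoryTheory CategoryTheory.Limits AlgebraicGeometry TopologicalSpace
open W4c2seshadripos

namespace Groth.Agent.S15260

/-- Say a morphism of schemes h : S → T is locally essentially of finite type when for every affine open
U = Spec A of T the preimage h⁻¹(U) is covered by affine opens V = Spec B of S with A → B
essentially of finite type (a localization of a finite-type A-algebra; this is the every-affine-open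
form of the notion). If f : X → Y and g : Y → Z are locally essentially of finite type then so is f
≫ g. (The published statement also covers the quasi-compact variant, essentially of finite type;
that case follows since quasi-compact morphisms are stable under composition.) -/
theorem result {X Y Z : Scheme.{u}} (f : X ⟶ Y) (g : Y ⟶ Z)
    (hf : ∀ U : Y.affineOpens, ∃ T : Set X.affineOpens, (⋃ V ∈ T, ((V : X.Opens) : Set ↥X)) = ((f ⁻¹ᵁ (U : Y.Opens)) : Set ↥X) ∧
        ∀ V ∈ T, ∃ e : (V : X.Opens) ≤ f ⁻¹ᵁ (U : Y.Opens), (f.appLE (U : Y.Opens) (V : X.Opens) e).hom.EssFiniteType)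
    (hg : ∀ U : Z.affineOpens, ∃ T : Set Y.affineOpens, (⋃ V ∈ T, ((V : Y.Opens) : Set ↥Y)) = ((g ⁻¹ᵁ (U : Z.Opens)) : Set ↥Y) ∧
        ∀ V ∈ T, ∃ e : (V : Y.Opens) ≤ g ⁻¹ᵁ (U : Z.Opens), (g.appLE (U : Z.Opens) (V : Y.Opens) e).hom.EssFiniteType)
    (U : Z.affineOpens) :
    ∃ T : Set X.affineOpens, (⋃ V ∈ T, ((V : X.Opens) : Set ↥X)) = (((f ≫ g) ⁻¹ᵁ (U : Z.Opens)) : Set ↥X) ∧
        ∀ V ∈ T, ∃ e : (V : X.Opens) ≤ (f ≫ g) ⁻¹ᵁ (U : Z.Opens), ((f ≫ g).appLE (U : Z.Opens) (V : X.Opens) e).hom.EssFiniteType := by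
  refine ⟨{V | ∃ e : (V : X.Opens) ≤ (f ≫ g) ⁻¹ᵁ (U : Z.Opens),
    ((f ≫ g).appLE (U : Z.Opens) (V : X.Opens) e).hom.EssFiniteType}, ?_, fun V hV => hV⟩
  apply Set.Subset.antisymm
  · intro x hx
    simp only [Set.mem_iUnion] at hx
    obtain ⟨V, ⟨e, -⟩, hxV⟩ := hx
    exact e hxV
  · intro x hx
    obtain ⟨Tg, hTg, hTg'⟩ := hg U
    have hfx : f x ∈ ((g ⁻¹ᵁ (U : Z.Opens)) : Set Y) := hx
    rw [← hTg] at hfx
    simp only [Set.mem_iUnion] at hfx
    obtain ⟨W, hW, hfxW⟩ := hfx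
    obtain ⟨eW, hWe⟩ := hTg' W hW
    obtain ⟨Tf, hTf, hTf'⟩ := hf W
    have hx2 : x ∈ ((f ⁻¹ᵁ (W : Y.Opens)) : Set X) := hfxW
    rw [← hTf] at hx2
    simp only [Set.mem_iUnion] at hx2
    obtain ⟨V, hV, hxV⟩ := hx2
    obtain ⟨eV, hVe⟩ := hTf' V hV
    simp only [Set.mem_iUnion]
    have key := Scheme.Hom.appLE_comp_appLE f g (U : Z.Opens) (W : Y.Opens) (V : X.Opens) eW eV
    refine ⟨V, ⟨eV.trans (f.preimage_mono eW), ?_⟩, hxV⟩
    rw [← key, CommRingCat.hom_comp]
    exact hWe.comp hVe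

end Groth.Agent.S15260
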