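import Groth.Statements.S15261
-- import your own Groth.Agent.* helpers here
import Mathlib
import Groth.Statements.S15261
import Groth.Agent.S15258

set_option autoImplicit false
universe u
open CategoryTheory CategoryTheory.Limits AlgebraicGeometry TopologicalSpace
open W4c2seshadripos

namespace Groth.Agent.S15261

section
open CategoryTheory CategoryTheory.Limits AlgebraicGeometry TopologicalSpace

lemma key2 {X Y Y' : Scheme.{u}} (f : X ⟶ Y) (g : Y' ⟶ Y) (U : Y.affineOpens) (V : X.affineOpens)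
    (U'' : Y'.affineOpens) (e : (V : X.Opens) ≤ f ⁻¹ᵁ (U : Y.Opens))
    (e'' : (U'' : Y'.Opens) ≤ g ⁻¹ᵁ (U : Y.Opens))
    (hV : (f.appLE (U : Y.Opens) (V : X.Opens) e).hom.EssFiniteType) :
    IsAffineOpen (pullback.fst f g ⁻¹ᵁ (V : X.Opens) ⊓ pullback.snd f g ⁻¹ᵁ (U'' : Y'.Opens)) ∧
      ((pullback.snd f g).appLE (U'' : Y'.Opens)
        (pullback.fst f g ⁻¹ᵁ (V : X.Opens) ⊓ pullback.snd f g ⁻¹ᵁ (U'' : Y'.Opens))
        inf_le_right).hom.EssFiniteType := by
  have H := Scheme.Hom.isPullback_resLE (IsPullback.of_hasPullback f g) (US := (U : Y.Opens))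
    (UT := (U'' : Y'.Opens)) (UX := (V : X.Opens)) e'' e
    (UY := pullback.fst f g ⁻¹ᵁ (V : X.Opens) ⊓ pullback.snd f g ⁻¹ᵁ (U'' : Y'.Opens)) rfl
  haveI : IsAffine (U : Y.Opens).toScheme := U.2
  haveI : IsAffine (V : X.Opens).toScheme := V.2
  haveI : IsAffine (U'' : Y'.Opens).toScheme := U''.2
  have hι : H.flip.isoPullback.hom ≫ pullback.fst _ _ =
      (pullback.snd f g).resLE (U'' : Y'.Opens)
        (pullback.fst f g ⁻¹ᵁ (V : X.Opens) ⊓ pullback.snd f g ⁻¹ᵁ (U'' : Y'.Opens)) inf_le_right :=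
    H.flip.isoPullback_hom_fst
  have haff : IsAffine
      (pullback.fst f g ⁻¹ᵁ (V : X.Opens) ⊓ pullback.snd f g ⁻¹ᵁ (U'' : Y'.Opens)).toScheme :=
    IsAffine.of_isIso H.flip.isoPullback.hom
  refine ⟨haff, ?_⟩
  have h1 : ((f.resLE (U : Y.Opens) (V : X.Opens) e).appTop).hom.EssFiniteType :=
    (RingHom.EssFiniteType.respectsIso.arrow_mk_iso_iff (arrowResLEAppIso f _ _ e)).mpr hV
  have h2 := RingHom.EssFiniteType.isStableUnderBaseChange.pullback_fst_appTop _
    RingHom.EssFiniteType.respectsIso (g.resLE (U : Y.Opens) (U'' : Y'.Opens) e'')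
    (f.resLE (U : Y.Opens) (V : X.Opens) e) h1
  have h3 : (((pullback.snd f g).resLE (U'' : Y'.Opens)
      (pullback.fst f g ⁻¹ᵁ (V : X.Opens) ⊓ pullback.snd f g ⁻¹ᵁ (U'' : Y'.Opens))
      inf_le_right).appTop).hom.EssFiniteType := by
    haveI : IsIso (H.flip.isoPullback.hom.appTop) :=
      (inferInstance : IsIso (Scheme.Γ.map H.flip.isoPullback.hom.op))
    rw [← hι, Scheme.Hom.comp_appTop, CommRingCat.hom_comp,
      RingHom.EssFiniteType.respectsIso.cancel_right_isIso]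
    exact h2
  exact (RingHom.EssFiniteType.respectsIso.arrow_mk_iso_iff
    (arrowResLEAppIso (pullback.snd f g) _ _ _)).mp h3

end

/-- Say a morphism of schemes h : S → T is locally essentially of finite type when for every affine open
U = Spec A of T the preimage h⁻¹(U) is covered by affine opens V = Spec B of S with A → B
essentially of finite type (the every-affine-open form of the notion). If f : X → Y is locally
essentially of finite type and g : Y' → Y is any morphism of schemes, then the base change X ×_Y Y'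
→ Y' is locally essentially of finite type. (The quasi-compact variant, essentially of finite type,
follows since quasi-compactness is stable under base change.) -/
theorem result {X Y Y' : Scheme.{u}} (f : X ⟶ Y) (g : Y' ⟶ Y)
    (hf : ∀ U : Y.affineOpens, ∃ T : Set X.affineOpens, (⋃ V ∈ T, ((V : X.Opens) : Set ↥X)) = ((f ⁻¹ᵁ (U : Y.Opens)) : Set ↥X) ∧
        ∀ V ∈ T, ∃ e : (V : X.Opens) ≤ f ⁻¹ᵁ (U : Y.Opens), (f.appLE (U : Y.Opens) (V : X.Opens) e).hom.EssFiniteType)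
    (U : Y'.affineOpens) :
    ∃ T : Set (pullback f g).affineOpens, (⋃ V ∈ T, ((V : (pullback f g).Opens) : Set ↥(pullback f g))) = (((pullback.snd f g) ⁻¹ᵁ (U : Y'.Opens)) : Set ↥(pullback f g)) ∧
        ∀ V ∈ T, ∃ e : (V : (pullback f g).Opens) ≤ (pullback.snd f g) ⁻¹ᵁ (U : Y'.Opens), ((pullback.snd f g).appLE (U : Y'.Opens) (V : (pullback f g).Opens) e).hom.EssFiniteType := by
  refine ⟨{W | ∃ e : (W : (pullback f g).Opens) ≤ (pullback.snd f g) ⁻¹ᵁ (U : Y'.Opens),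
      ((pullback.snd f g).appLE (U : Y'.Opens) (W : (pullback f g).Opens) e).hom.EssFiniteType},
      ?_, fun V hV => hV⟩
  apply Set.Subset.antisymm
  · intro x hx
    simp only [Set.mem_iUnion] at hx
    obtain ⟨V, ⟨e, -⟩, hxV⟩ := hx
    exact e hxV
  · intro z hz
    have hz' : pullback.snd f g z ∈ (U : Y'.Opens) := hz
    obtain ⟨_, ⟨U₀, hU₀, rfl⟩, hyU₀, -⟩ := (Y.isBasis_affineOpens).exists_subset_of_mem_open
      (Set.mem_univ (f (pullback.fst f g z))) isOpen_univ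
    obtain ⟨T, hTcover, hT⟩ := hf ⟨U₀, hU₀⟩
    have hx' : pullback.fst f g z ∈ ⋃ V ∈ T, ((V : X.Opens) : Set X) := by
      rw [hTcover]; exact hyU₀
    simp only [Set.mem_iUnion] at hx'
    obtain ⟨V, hVT, hzV⟩ := hx'
    obtain ⟨e, hV⟩ := hT V hVT
    have hcond : g (pullback.snd f g z) = f (pullback.fst f g z) := by
      rw [← Scheme.Hom.comp_apply, ← Scheme.Hom.comp_apply, pullback.condition]
    have hmem : pullback.snd f g z ∈ (U : Y'.Opens) ⊓ g ⁻¹ᵁ U₀ :=
      ⟨hz', by show g _ ∈ U₀; rw [hcond]; exact hyU₀⟩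
    obtain ⟨h, hle, hzh⟩ := U.2.exists_basicOpen_le ⟨pullback.snd f g z, hmem⟩ hz'
    have e'' : Y'.basicOpen h ≤ g ⁻¹ᵁ U₀ := hle.trans inf_le_right
    obtain ⟨hWaff, hWeft⟩ := key2 f g ⟨U₀, hU₀⟩ V ⟨Y'.basicOpen h, U.2.basicOpen h⟩ e e'' hV
    have leU : Y'.basicOpen h ≤ (U : Y'.Opens) := Y'.basicOpen_le h
    have eW : pullback.fst f g ⁻¹ᵁ (V : X.Opens) ⊓ pullback.snd f g ⁻¹ᵁ (Y'.basicOpen h) ≤
        pullback.snd f g ⁻¹ᵁ (U : Y'.Opens) :=
      inf_le_right.trans ((pullback.snd f g).preimage_mono leU)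
    simp only [Set.mem_iUnion]
    refine ⟨⟨_, hWaff⟩, ⟨eW, ?_⟩, ⟨hzV, hzh⟩⟩
    have c2 : (pullback.snd f g).appLE (U : Y'.Opens)
        (pullback.fst f g ⁻¹ᵁ (V : X.Opens) ⊓ pullback.snd f g ⁻¹ᵁ (Y'.basicOpen h)) eW =
        Y'.presheaf.map (homOfLE leU).op ≫ (pullback.snd f g).appLE (Y'.basicOpen h)
          (pullback.fst f g ⁻¹ᵁ (V : X.Opens) ⊓ pullback.snd f g ⁻¹ᵁ (Y'.basicOpen h))
          inf_le_right := by
      rw [Scheme.Hom.map_appLE]
    show ((pullback.snd f g).appLE (U : Y'.Opens)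
        (pullback.fst f g ⁻¹ᵁ (V : X.Opens) ⊓ pullback.snd f g ⁻¹ᵁ (Y'.basicOpen h)) eW).hom.EssFiniteType
    rw [c2, CommRingCat.hom_comp]
    exact (Groth.Agent.S15258.locA U.2 h _ rfl leU).comp hWeft

end Groth.Agent.S15261
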