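import Groth.Statements.S15285
-- import your own Groth.Agent.* helpers here
import Mathlib

set_option autoImplicit false
universe v v' u u'
open PicCat

namespace Groth.Agent.S15285

open CategoryTheory MonoidalCategory in
/-- Let C and D be Picard categories (monoidal groupoids in which tensoring on either side with any
object is an equivalence of categories) and F : C ⥤ D a lax monoidal functor. If F induces a
bijection on isomorphism classes of objects (it is essentially surjective, and F X ≅ F Y only when X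
≅ Y) and a bijection on endomorphisms of the unit object, then F is an equivalence of categories. -/
theorem result
    {C : Type u} [Category.{v} C] [MonoidalCategory C] [IsGroupoid C]
    {D : Type u'} [Category.{v'} D] [MonoidalCategory D] [IsGroupoid D]
    (hC : ∀ X : C, (tensorLeft X).IsEquivalence ∧ (tensorRight X).IsEquivalence)
    (hD : ∀ X : D, (tensorLeft X).IsEquivalence ∧ (tensorRight X).IsEquivalence)
    (F : C ⥤ D) [F.LaxMonoidal] [F.EssSurj]
    (h0 : ∀ X Y : C, Nonempty (F.obj X ≅ F.obj Y) → Nonempty (X ≅ Y))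
    (h1 : Function.Bijective (fun φ : 𝟙_ C ⟶ 𝟙_ C => F.map φ)) :
    F.IsEquivalence := by
  classical
  let θ : ∀ X : C, F.obj (𝟙_ C) ⊗ F.obj X ≅ F.obj X := fun X =>
    asIso (Functor.LaxMonoidal.μ F (𝟙_ C) X) ≪≫ F.mapIso (λ_ X)
  have key : ∀ (X : C) (φ : 𝟙_ C ⟶ 𝟙_ C),
      F.map ((λ_ X).inv ≫ (φ ▷ X) ≫ (λ_ X).hom) =
        (θ X).inv ≫ (F.map φ ▷ F.obj X) ≫ (θ X).hom := by
    intro X φ
    simp only [θ, Iso.trans_inv, Iso.trans_hom, asIso_hom, asIso_inv, Functor.mapIso_hom,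
      Functor.mapIso_inv, Category.assoc, F.map_comp]
    rw [Functor.LaxMonoidal.μ_natural_left_assoc, IsIso.inv_hom_id_assoc]
  have hid : ∀ (X : C) (a : X ⟶ X), F.map a = 𝟙 _ → a = 𝟙 X := by
    intro X a ha
    haveI := (hC X).2
    haveI := (hD (F.obj X)).2
    obtain ⟨φ, hφ⟩ := (tensorRight X).map_surjective (X := 𝟙_ C) (Y := 𝟙_ C)
      ((λ_ X).hom ≫ a ≫ (λ_ X).inv)
    have hφ' : φ ▷ X = (λ_ X).hom ≫ a ≫ (λ_ X).inv := hφ
    have ha' : a = (λ_ X).inv ≫ (φ ▷ X) ≫ (λ_ X).hom := by rw [hφ']; simp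
    rw [ha', key] at ha
    have h2 : F.map φ ▷ F.obj X = 𝟙 _ := by
      calc F.map φ ▷ F.obj X
          = (θ X).hom ≫ ((θ X).inv ≫ (F.map φ ▷ F.obj X) ≫ (θ X).hom) ≫ (θ X).inv := by simp
        _ = 𝟙 _ := by rw [ha]; simp
    have h3 : F.map φ = 𝟙 _ := by
      apply (tensorRight (F.obj X)).map_injective
      rw [CategoryTheory.Functor.map_id]
      exact h2
    have h4 : φ = 𝟙 _ := by
      apply h1.1
      show F.map φ = F.map (𝟙 _)
      rw [F.map_id]; exact h3
    rw [ha', h4]; simp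
  have hsurjEnd : ∀ (X : C) (c : F.obj X ⟶ F.obj X), ∃ a : X ⟶ X, F.map a = c := by
    intro X c
    haveI := (hD (F.obj X)).2
    obtain ⟨ψ, hψ⟩ := (tensorRight (F.obj X)).map_surjective (X := F.obj (𝟙_ C))
      (Y := F.obj (𝟙_ C)) ((θ X).hom ≫ c ≫ (θ X).inv)
    have hψ' : ψ ▷ F.obj X = (θ X).hom ≫ c ≫ (θ X).inv := hψ
    obtain ⟨φ, hφ⟩ := h1.2 ψ
    have hφ' : F.map φ = ψ := hφ
    refine ⟨(λ_ X).inv ≫ (φ ▷ X) ≫ (λ_ X).hom, ?_⟩
    rw [key, hφ', hψ']
    simp
  haveI : F.Faithful := ⟨fun {X Y} f g hfg => by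
    haveI : IsIso g := IsGroupoid.all_isIso g
    have h4 : f ≫ inv g = 𝟙 X := hid X (f ≫ inv g)
      (by rw [F.map_comp, hfg, ← F.map_comp, IsIso.hom_inv_id, F.map_id])
    calc f = (f ≫ inv g) ≫ g := by simp
      _ = g := by rw [h4, Category.id_comp]⟩
  haveI : F.Full := ⟨fun {X Y} b => by
    haveI : IsIso b := IsGroupoid.all_isIso b
    obtain ⟨e⟩ := h0 X Y ⟨asIso b⟩
    obtain ⟨a, ha⟩ := hsurjEnd X (b ≫ F.map e.inv)
    refine ⟨a ≫ e.hom, ?_⟩
    rw [F.map_comp, ha, Category.assoc, ← F.map_comp, e.inv_hom_id, F.map_id, Category.comp_id]⟩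
  exact {}

end Groth.Agent.S15285
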