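import Groth.Statements.S15292
-- import your own Groth.Agent.* helpers here
import Mathlib
import Groth.Agent.Lib.helper7.DeRhamSpan

set_option autoImplicit false
universe u
open DeRham

namespace Groth.Agent.S15292

open exteriorPower in
/-- Let R → A be a ring map and d a family of R-linear maps from p-forms to (p+1)-forms on the exterior
powers of the Kähler differentials of A over R, p ≥ 0, satisfying the de Rham rule d(b₀ db₁ ∧ … ∧
db_p) = db₀ ∧ db₁ ∧ … ∧ db_p for all p and all bᵢ in A. Then the composite of two consecutive d is
zero in every degree; together with the rule this says that d is a de Rham differential of the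
Kähler differentials. -/
theorem result (R A : Type u) [CommRing R] [CommRing A] [Algebra R A]
    (d : ∀ p : ℕ, ↥(⋀[A]^p (Ω[A⁄R])) →ₗ[R] ↥(⋀[A]^(p + 1) (Ω[A⁄R])))
    (hd : DeRham.IsRule (KaehlerDifferential.D R A) d) :
    DeRham.IsDiff (KaehlerDifferential.D R A) d := by
  refine ⟨hd, fun p => ?_⟩
  apply LinearMap.ext
  intro x
  rw [LinearMap.comp_apply, LinearMap.zero_apply]
  revert x
  apply Groth.Agent.Lib.helper7.dR_gen_induction p
  · intro a b
    rw [hd p a b, Groth.Agent.Lib.helper7.dR_cons_comp]
    have h := hd (p + 1) 1 (Fin.cons a b)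
    have e : DeRham.gen (KaehlerDifferential.D R A) (p + 1) 1 (Fin.cons a b)
        = ιMulti A (p + 1)
            (fun i => KaehlerDifferential.D R A ((Fin.cons a b : Fin (p + 1) → A) i)) :=
      one_smul _ _
    rw [← e, h]
    exact Groth.Agent.Lib.helper7.dR_cons_one _ _
  · rw [map_zero, map_zero]
  · intro x y hx hy
    rw [map_add, map_add, hx, hy, add_zero]

end Groth.Agent.S15292
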