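import Groth.Statements.S15297
-- import your own Groth.Agent.* helpers here
import Mathlib

set_option autoImplicit false
universe u
open DeRham

namespace Groth.Agent.S15297


open exteriorPower in
lemma W_mul {R A : Type u} [CommRing R] [CommRing A] [Algebra R A] (p : ℕ)
    (b' : Fin p → Ω[A⁄R]) (a a' : A) :
    ιMulti A (p + 1) (Fin.cons (KaehlerDifferential.D R A (a * a')) b' : Fin (p + 1) → Ω[A⁄R])
      = a • ιMulti A (p + 1) (Fin.cons (KaehlerDifferential.D R A a') b' : Fin (p + 1) → Ω[A⁄R])
        + a' • ιMulti A (p + 1)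
            (Fin.cons (KaehlerDifferential.D R A a) b' : Fin (p + 1) → Ω[A⁄R]) := by
  rw [Derivation.leibniz]
  have h1 := (ιMulti A (p + 1) (M := Ω[A⁄R])).toMultilinearMap.cons_add b'
    (a • KaehlerDifferential.D R A a') (a' • KaehlerDifferential.D R A a)
  have h2 := (ιMulti A (p + 1) (M := Ω[A⁄R])).toMultilinearMap.cons_smul b' a
    (KaehlerDifferential.D R A a')
  have h3 := (ιMulti A (p + 1) (M := Ω[A⁄R])).toMultilinearMap.cons_smul b' a'
    (KaehlerDifferential.D R A a)
  simp only [AlternatingMap.coe_multilinearMap] at h1 h2 h3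
  rw [h1, h2, h3]

open exteriorPower in
lemma W_one {R A : Type u} [CommRing R] [CommRing A] [Algebra R A] (p : ℕ)
    (b' : Fin p → Ω[A⁄R]) :
    ιMulti A (p + 1) (Fin.cons (KaehlerDifferential.D R A (1 : A)) b' : Fin (p + 1) → Ω[A⁄R])
      = 0 := by
  apply AlternatingMap.map_coord_zero _ (0 : Fin (p + 1))
  rw [Fin.cons_zero]
  exact Derivation.map_one_eq_zero _

open exteriorPower in
/-- Let R → A be a ring map and d a de Rham differential of the Kähler differentials of A over R. Then
each d from p-forms to (p+1)-forms, an R-linear map between A-modules, is a differential operator of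
order at most 1 relative to R → A: every commutator of d with multiplication by an element of A is
A-linear. -/
theorem result (R A : Type u) [CommRing R] [CommRing A] [Algebra R A]
    (d : ∀ p : ℕ, ↥(⋀[A]^p (Ω[A⁄R])) →ₗ[R] ↥(⋀[A]^(p + 1) (Ω[A⁄R])))
    (hd : DeRham.IsDiff (KaehlerDifferential.D R A) d) (p : ℕ) :
    Diff16.IsDiffOpLE R A ↥(⋀[A]^p (Ω[A⁄R])) ↥(⋀[A]^(p + 1) (Ω[A⁄R])) 1 (d p) := by
  classical
  obtain ⟨hrule, -⟩ := hd
  let G : (Fin p → A) → ↥(⋀[A]^p (Ω[A⁄R])) :=
    fun b' => ιMulti A p (fun i => KaehlerDifferential.D R A (b' i))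
  have hspan : Submodule.span A (Set.range G) = ⊤ := by
    letI : LinearOrder A := IsWellOrder.linearOrder WellOrderingRel
    have hv : Submodule.span A (Set.range (fun a : A => KaehlerDifferential.D R A a)) = ⊤ :=
      KaehlerDifferential.span_range_derivation R A
    have h1 := exteriorPower.ιMulti_family_span_of_span (R := A) (n := p) hv
    rw [eq_top_iff, ← h1]
    apply Submodule.span_mono
    rintro _ ⟨s, rfl⟩
    exact ⟨fun i => (Set.powersetCard.ofFinEmbEquiv.symm s) i, rfl⟩
  intro b
  have hT : ∀ m', Diff16.commutator R A ↥(⋀[A]^p (Ω[A⁄R])) ↥(⋀[A]^(p + 1) (Ω[A⁄R])) (d p) b m'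
      = d p (b • m') - b • d p m' := fun m' => rfl
  have main : ∀ m ∈ Submodule.span A (Set.range G), ∀ c : A,
      Diff16.commutator R A ↥(⋀[A]^p (Ω[A⁄R])) ↥(⋀[A]^(p + 1) (Ω[A⁄R])) (d p) b (c • m)
        = c • Diff16.commutator R A ↥(⋀[A]^p (Ω[A⁄R])) ↥(⋀[A]^(p + 1) (Ω[A⁄R])) (d p) b m := by
    intro m hm
    induction hm using Submodule.span_induction with
    | mem x hx =>
      obtain ⟨b', rfl⟩ := hx
      intro c
      have hW : ∀ a : A, d p (a • G b') = ιMulti A (p + 1)
          (Fin.cons (KaehlerDifferential.D R A a) (fun i => KaehlerDifferential.D R A (b' i))) :=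
        fun a => hrule p a b'
      have hG1 : d p (G b') = 0 := by
        have h1 := hW 1
        rw [one_smul] at h1
        rw [h1]
        exact W_one p _
      rw [hT, hT, smul_smul, hW, hW, hW, hG1, W_mul, smul_zero, sub_zero, add_sub_cancel_left]
    | zero =>
      intro c
      rw [smul_zero, map_zero, smul_zero]
    | add x y _ _ ihx ihy =>
      intro c
      rw [smul_add, map_add, map_add, smul_add, ihx c, ihy c]
    | smul a x _ ih =>
      intro c
      rw [smul_smul, ih (c * a), ih a, smul_smul]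
  intro c m
  exact main m (by rw [hspan]; trivial) c

end Groth.Agent.S15297
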