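import Groth.Statements.S15302
-- import your own Groth.Agent.* helpers here
import Mathlib

set_option autoImplicit false
universe v u
open HomAlg3

namespace Groth.Agent.S15302

open CategoryTheory CategoryTheory.Limits

section
variable {C : Type u} [Category.{v} C] [Abelian C]

lemma exists_iso_biprod_of_section {A B : C} (β : A ⟶ B) (σ : B ⟶ A) (h : σ ≫ β = 𝟙 B) :
    ∃ (K : C) (e : A ≅ B ⊞ K), β = e.hom ≫ biprod.fst := by
  have hk : (𝟙 A - β ≫ σ) ≫ β = 0 := by
    rw [Preadditive.sub_comp, Category.id_comp, Category.assoc, h, Category.comp_id, sub_self]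
  refine ⟨kernel β, ⟨biprod.lift β (kernel.lift β (𝟙 A - β ≫ σ) hk),
    biprod.desc σ (kernel.ι β), ?_, ?_⟩, ?_⟩
  · rw [biprod.lift_desc, kernel.lift_ι]
    abel
  · apply biprod.hom_ext'
    · rw [biprod.inl_desc_assoc, Category.comp_id]
      apply biprod.hom_ext
      · rw [Category.assoc, biprod.lift_fst, h, biprod.inl_fst]
      · rw [Category.assoc, biprod.lift_snd, biprod.inl_snd]
        apply (cancel_mono (kernel.ι β)).1
        rw [Category.assoc, kernel.lift_ι, zero_comp, Preadditive.comp_sub, Category.comp_id,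
          ← Category.assoc, h, Category.id_comp, sub_self]
    · rw [biprod.inr_desc_assoc, Category.comp_id]
      apply biprod.hom_ext
      · rw [Category.assoc, biprod.lift_fst, kernel.condition, biprod.inr_fst]
      · rw [Category.assoc, biprod.lift_snd, biprod.inr_snd]
        apply (cancel_mono (kernel.ι β)).1
        rw [Category.assoc, kernel.lift_ι, Category.id_comp, Preadditive.comp_sub,
          Category.comp_id, ← Category.assoc, kernel.condition, zero_comp, sub_zero]
  · rw [biprod.lift_fst]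

lemma aux_succ {A0 A1 A2 A3 : C} (d0 : A0 ⟶ A1) (d1 : A1 ⟶ A2) (d2 : A2 ⟶ A3) :
    biprod.lift ((biprod.fst : A2 ⊞ A1 ⟶ A2) ≫ d2) (biprod.fst - biprod.snd ≫ d1) ≫
        (biprod.snd : A3 ⊞ A2 ⟶ A2) ≫ (biprod.inl : A2 ⟶ A2 ⊞ A1) +
      ((biprod.snd : A2 ⊞ A1 ⟶ A1) ≫ (biprod.inl : A1 ⟶ A1 ⊞ A0)) ≫
        biprod.lift ((biprod.fst : A1 ⊞ A0 ⟶ A1) ≫ d1) (biprod.fst - biprod.snd ≫ d0) =
      𝟙 (A2 ⊞ A1) := by
  apply biprod.hom_ext
  · simp only [Preadditive.add_comp, Preadditive.sub_comp, Preadditive.comp_sub,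
        Preadditive.comp_add, Category.assoc, biprod.lift_fst, biprod.lift_snd,
        biprod.lift_fst_assoc, biprod.lift_snd_assoc, biprod.inl_fst, biprod.inl_snd,
        biprod.inr_fst, biprod.inr_snd, biprod.inl_fst_assoc, biprod.inl_snd_assoc,
        Category.id_comp, Category.comp_id, zero_comp, comp_zero, sub_self, add_zero, zero_add, sub_zero]
    try abel
  · simp only [Preadditive.add_comp, Preadditive.sub_comp, Preadditive.comp_sub,
        Preadditive.comp_add, Category.assoc, biprod.lift_fst, biprod.lift_snd,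
        biprod.lift_fst_assoc, biprod.lift_snd_assoc, biprod.inl_fst, biprod.inl_snd,
        biprod.inr_fst, biprod.inr_snd, biprod.inl_fst_assoc, biprod.inl_snd_assoc,
        Category.id_comp, Category.comp_id, zero_comp, comp_zero, sub_self, add_zero, zero_add, sub_zero]
    try abel

variable (I : CochainComplex C ℕ)

/-- objects of the contractible complex -/
noncomputable def TX : ℕ → C
  | 0 => I.X 0
  | (p+1) => I.X (p+1) ⊞ I.X p

/-- differentials of the contractible complex -/
noncomputable def Td : ∀ n, TX I n ⟶ TX I (n+1)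
  | 0 => biprod.lift (I.d 0 1) (𝟙 (I.X 0))
  | (p+1) => biprod.lift (biprod.fst ≫ I.d (p+1) (p+2)) (biprod.fst - biprod.snd ≫ I.d p (p+1))

lemma Td_sq : ∀ n, Td I n ≫ Td I (n+1) = 0
  | 0 => by
    show biprod.lift (I.d 0 1) (𝟙 (I.X 0)) ≫
      biprod.lift ((biprod.fst : I.X 1 ⊞ I.X 0 ⟶ I.X 1) ≫ I.d 1 2)
        (biprod.fst - biprod.snd ≫ I.d 0 1) = 0
    apply biprod.hom_ext
    · simp only [Preadditive.add_comp, Preadditive.sub_comp, Preadditive.comp_sub,
        Preadditive.comp_add, Category.assoc, biprod.lift_fst, biprod.lift_snd,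
        biprod.lift_fst_assoc, biprod.lift_snd_assoc, biprod.inl_fst, biprod.inl_snd,
        biprod.inr_fst, biprod.inr_snd, biprod.inl_fst_assoc, biprod.inl_snd_assoc,
        Category.id_comp, Category.comp_id, zero_comp, comp_zero, HomologicalComplex.d_comp_d,
        HomologicalComplex.d_comp_d_assoc, sub_self, add_zero, zero_add, sub_zero]
    · simp only [Preadditive.add_comp, Preadditive.sub_comp, Preadditive.comp_sub,
        Preadditive.comp_add, Category.assoc, biprod.lift_fst, biprod.lift_snd,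
        biprod.lift_fst_assoc, biprod.lift_snd_assoc, biprod.inl_fst, biprod.inl_snd,
        biprod.inr_fst, biprod.inr_snd, biprod.inl_fst_assoc, biprod.inl_snd_assoc,
        Category.id_comp, Category.comp_id, zero_comp, comp_zero, HomologicalComplex.d_comp_d,
        HomologicalComplex.d_comp_d_assoc, sub_self, add_zero, zero_add, sub_zero]
  | (p+1) => by
    show biprod.lift ((biprod.fst : I.X (p+1) ⊞ I.X p ⟶ I.X (p+1)) ≫ I.d (p+1) (p+2))
        (biprod.fst - biprod.snd ≫ I.d p (p+1)) ≫
      biprod.lift ((biprod.fst : I.X (p+2) ⊞ I.X (p+1) ⟶ I.X (p+2)) ≫ I.d (p+2) (p+3))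
        (biprod.fst - biprod.snd ≫ I.d (p+1) (p+2)) = 0
    apply biprod.hom_ext
    · simp only [Preadditive.add_comp, Preadditive.sub_comp, Preadditive.comp_sub,
        Preadditive.comp_add, Category.assoc, biprod.lift_fst, biprod.lift_snd,
        biprod.lift_fst_assoc, biprod.lift_snd_assoc, biprod.inl_fst, biprod.inl_snd,
        biprod.inr_fst, biprod.inr_snd, biprod.inl_fst_assoc, biprod.inl_snd_assoc,
        Category.id_comp, Category.comp_id, zero_comp, comp_zero, HomologicalComplex.d_comp_d,
        HomologicalComplex.d_comp_d_assoc, sub_self, add_zero, zero_add, sub_zero]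
    · simp only [Preadditive.add_comp, Preadditive.sub_comp, Preadditive.comp_sub,
        Preadditive.comp_add, Category.assoc, biprod.lift_fst, biprod.lift_snd,
        biprod.lift_fst_assoc, biprod.lift_snd_assoc, biprod.inl_fst, biprod.inl_snd,
        biprod.inr_fst, biprod.inr_snd, biprod.inl_fst_assoc, biprod.inl_snd_assoc,
        Category.id_comp, Category.comp_id, zero_comp, comp_zero, HomologicalComplex.d_comp_d,
        HomologicalComplex.d_comp_d_assoc, sub_self, add_zero, zero_add, sub_zero]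
      try abel

/-- the contractible complex -/
noncomputable def Tc : CochainComplex C ℕ := CochainComplex.of (TX I) (Td I) (Td_sq I)

lemma Tc_d (n : ℕ) : (Tc I).d n (n+1) = Td I n := CochainComplex.of_d _ _ _

/-- components of projection -/
noncomputable def prf : ∀ n, TX I n ⟶ I.X n
  | 0 => 𝟙 _
  | (p+1) => biprod.fst

/-- components of the section -/
noncomputable def secf : ∀ n, I.X n ⟶ TX I n
  | 0 => 𝟙 _
  | (p+1) => biprod.inl

lemma secf_prf : ∀ n, secf I n ≫ prf I n = 𝟙 _
  | 0 => by
    show 𝟙 (I.X 0) ≫ 𝟙 (I.X 0) = 𝟙 (I.X 0)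
    simp
  | (p+1) => by
    show (biprod.inl : I.X (p+1) ⟶ I.X (p+1) ⊞ I.X p) ≫ biprod.fst = 𝟙 _
    simp

lemma prf_comm : ∀ n, prf I n ≫ I.d n (n+1) = Td I n ≫ prf I (n+1)
  | 0 => by
    show 𝟙 (I.X 0) ≫ I.d 0 1 = biprod.lift (I.d 0 1) (𝟙 (I.X 0)) ≫ biprod.fst
    simp
  | (p+1) => by
    show (biprod.fst : I.X (p+1) ⊞ I.X p ⟶ I.X (p+1)) ≫ I.d (p+1) (p+2) =
      biprod.lift ((biprod.fst : I.X (p+1) ⊞ I.X p ⟶ I.X (p+1)) ≫ I.d (p+1) (p+2))
        (biprod.fst - biprod.snd ≫ I.d p (p+1)) ≫ biprod.fst
    simp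

/-- the projection chain map -/
noncomputable def pr : Tc I ⟶ I where
  f n := prf I n
  comm' i j hij := by
    have h : i + 1 = j := hij
    subst h
    rw [Tc_d]
    exact prf_comm I i

/-- contraction pieces -/
noncomputable def sH : ∀ j, TX I (j+1) ⟶ TX I j
  | 0 => biprod.snd
  | (p+1) => biprod.snd ≫ biprod.inl

lemma sH_zero : Td I 0 ≫ sH I 0 = 𝟙 _ := by
  show biprod.lift (I.d 0 1) (𝟙 (I.X 0)) ≫ biprod.snd = 𝟙 (I.X 0)
  simp

lemma sH_succ : ∀ i, Td I (i+1) ≫ sH I (i+1) + sH I i ≫ Td I i = 𝟙 _
  | 0 => by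
    show biprod.lift ((biprod.fst : I.X 1 ⊞ I.X 0 ⟶ I.X 1) ≫ I.d 1 2)
        (biprod.fst - biprod.snd ≫ I.d 0 1) ≫
        (biprod.snd : I.X 2 ⊞ I.X 1 ⟶ I.X 1) ≫ (biprod.inl : I.X 1 ⟶ I.X 1 ⊞ I.X 0) +
      (biprod.snd : I.X 1 ⊞ I.X 0 ⟶ I.X 0) ≫ biprod.lift (I.d 0 1) (𝟙 (I.X 0)) =
      𝟙 (I.X 1 ⊞ I.X 0)
    apply biprod.hom_ext
    · simp only [Preadditive.add_comp, Preadditive.sub_comp, Preadditive.comp_sub,
        Preadditive.comp_add, Category.assoc, biprod.lift_fst, biprod.lift_snd,
        biprod.lift_fst_assoc, biprod.lift_snd_assoc, biprod.inl_fst, biprod.inl_snd,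
        biprod.inr_fst, biprod.inr_snd, biprod.inl_fst_assoc, biprod.inl_snd_assoc,
        Category.id_comp, Category.comp_id, zero_comp, comp_zero, HomologicalComplex.d_comp_d,
        HomologicalComplex.d_comp_d_assoc, sub_self, add_zero, zero_add, sub_zero]
      try abel
    · simp only [Preadditive.add_comp, Preadditive.sub_comp, Preadditive.comp_sub,
        Preadditive.comp_add, Category.assoc, biprod.lift_fst, biprod.lift_snd,
        biprod.lift_fst_assoc, biprod.lift_snd_assoc, biprod.inl_fst, biprod.inl_snd,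
        biprod.inr_fst, biprod.inr_snd, biprod.inl_fst_assoc, biprod.inl_snd_assoc,
        Category.id_comp, Category.comp_id, zero_comp, comp_zero, HomologicalComplex.d_comp_d,
        HomologicalComplex.d_comp_d_assoc, sub_self, add_zero, zero_add, sub_zero]
      try abel
  | (p+1) => aux_succ (I.d p (p+1)) (I.d (p+1) (p+2)) (I.d (p+2) (p+3))

/-- contraction pieces, typed in the complex -/
noncomputable def sHc (j : ℕ) : (Tc I).X (j+1) ⟶ (Tc I).X j := sH I j

/-- the contraction -/
noncomputable def contr : Homotopy (𝟙 (Tc I)) 0 where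
  hom i j := if h : j + 1 = i then ((Tc I).XIsoOfEq h).inv ≫ sHc I j else 0
  zero i j hij := dif_neg (fun h => hij h)
  comm i := by
    cases i with
    | zero =>
      rw [Homotopy.dNext_cochainComplex, Homotopy.prevD_zero_cochainComplex, dif_pos rfl, Tc_d]
      simp only [HomologicalComplex.XIsoOfEq_rfl, Iso.refl_inv, Category.id_comp,
        HomologicalComplex.id_f, HomologicalComplex.zero_f, add_zero]
      exact (sH_zero I).symm
    | succ i =>
      rw [Homotopy.dNext_cochainComplex, Homotopy.prevD_succ_cochainComplex, dif_pos rfl,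
        dif_pos rfl, Tc_d, Tc_d]
      simp only [HomologicalComplex.XIsoOfEq_rfl, Iso.refl_inv, Category.id_comp,
        HomologicalComplex.id_f, HomologicalComplex.zero_f, add_zero]
      exact (sH_succ I i).symm

/-- homotopy equivalence with the biproduct -/
noncomputable def heq (K : CochainComplex C ℕ) : HomotopyEquiv K (K ⊞ Tc I) where
  hom := biprod.inl
  inv := biprod.fst
  homotopyHomInvId := Homotopy.ofEq (by simp)
  homotopyInvHomId :=
    (Homotopy.ofEq (by simp : (biprod.fst : K ⊞ Tc I ⟶ K) ≫ biprod.inl =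
        (biprod.fst : K ⊞ Tc I ⟶ K) ≫ biprod.inl +
          (biprod.snd : K ⊞ Tc I ⟶ Tc I) ≫ (0 : Tc I ⟶ Tc I) ≫ biprod.inr)).trans
      (((Homotopy.refl ((biprod.fst : K ⊞ Tc I ⟶ K) ≫ biprod.inl)).add
        (((contr I).compRight biprod.inr).compLeft (biprod.snd : K ⊞ Tc I ⟶ Tc I))).symm.trans
        (Homotopy.ofEq (by
          rw [Category.id_comp]
          exact biprod.total)))

instance injective_TX [∀ n, Injective (I.X n)] : ∀ n, Injective (TX I n)
  | 0 => (inferInstance : Injective (I.X 0))
  | (p+1) => (inferInstance : Injective (I.X (p+1) ⊞ I.X p))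

end

open CategoryTheory CategoryTheory.Limits in
/-- In an abelian category with enough injectives, let α : G ⟶ F be a morphism and I an injective
resolution of F. Then G has an injective resolution J together with a morphism of cochain complexes
β : J ⟶ I lying over α (the augmentations commute with α and β) such that for every p there are an
object K^p and an isomorphism J^p ≅ I^p ⊕ K^p identifying β^p with the projection onto the first
factor (so K^p is injective as well). (The published statement is for abelian sheaves on a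
topological space; its proof uses only an embedding of G into an injective object and cokernels, so
the row is stated in any abelian category with enough injectives.) -/
theorem result {C : Type u} [Category.{v} C] [Abelian C]
    [EnoughInjectives C] {G F : C} (α : G ⟶ F) (I : InjectiveResolution F) :
    ∃ (J : InjectiveResolution G) (β : J.cocomplex ⟶ I.cocomplex),
      J.ι ≫ β = (CochainComplex.single₀ C).map α ≫ I.ι ∧
      ∀ p : ℕ, ∃ (K : C) (e : J.cocomplex.X p ≅ I.cocomplex.X p ⊞ K), β.f p = e.hom ≫ biprod.fst := by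
  classical
  obtain ⟨J'⟩ := (inferInstance : HasInjectiveResolution G).out
  let φ : J'.cocomplex ⟶ I.cocomplex := InjectiveResolution.desc α I J'
  have hφ : J'.ι ≫ φ = (CochainComplex.single₀ C).map α ≫ I.ι :=
    InjectiveResolution.desc_commutes α I J'
  haveI : ∀ n, Injective ((Tc I.cocomplex).X n) := fun n => injective_TX I.cocomplex n
  haveI hinj : ∀ n, Injective ((J'.cocomplex ⊞ Tc I.cocomplex).X n) := fun n =>
    Injective.of_iso (HomologicalComplex.biprodXIso J'.cocomplex (Tc I.cocomplex) n).symm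
      inferInstance
  haveI hq : QuasiIso (biprod.inl : J'.cocomplex ⟶ J'.cocomplex ⊞ Tc I.cocomplex) :=
    (heq I.cocomplex J'.cocomplex).quasiIso_hom
  let J : InjectiveResolution G :=
    { cocomplex := J'.cocomplex ⊞ Tc I.cocomplex
      injective := hinj
      ι := J'.ι ≫ biprod.inl
      quasiIso := inferInstance }
  let β : J'.cocomplex ⊞ Tc I.cocomplex ⟶ I.cocomplex := biprod.desc φ (pr I.cocomplex)
  refine ⟨J, β, ?_, ?_⟩
  · show (J'.ι ≫ biprod.inl) ≫ biprod.desc φ (pr I.cocomplex) = _
    rw [Category.assoc, biprod.inl_desc, hφ]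
  · intro p
    have h1 : (biprod.inr : Tc I.cocomplex ⟶ J'.cocomplex ⊞ Tc I.cocomplex) ≫ β =
        pr I.cocomplex := biprod.inr_desc _ _
    have h2 : (biprod.inr : Tc I.cocomplex ⟶ J'.cocomplex ⊞ Tc I.cocomplex).f p ≫ β.f p =
        prf I.cocomplex p := by
      rw [← HomologicalComplex.comp_f, h1]
      rfl
    exact exists_iso_biprod_of_section (β.f p)
      (secf I.cocomplex p ≫
        (biprod.inr : Tc I.cocomplex ⟶ J'.cocomplex ⊞ Tc I.cocomplex).f p)
      ((Category.assoc _ _ _).trans
        ((congrArg (fun g => secf I.cocomplex p ≫ g) h2).trans (secf_prf _ p)))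

end Groth.Agent.S15302
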