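import Groth.Statements.S15315
-- import your own Groth.Agent.* helpers here
import Mathlib

set_option autoImplicit false
universe u
open ArLef

namespace Groth.Agent.S15315

/-- For a Noetherian commutative ring A, elements a, b with a a non-zero-divisor on A/(b), and an ideal
I, one has length(A/(aI + bA)) = length(A/(a, b)) + length(A/(I + bA)) as extended natural numbers;
in particular when two of the three quotients have finite length so does the third. -/
theorem result (A : Type u) [CommRing A] [IsNoetherianRing A] (a b : A) (I : Ideal A)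
    (ha : IsSMulRegular (A ⧸ Ideal.span ({b} : Set A)) a) :
    Module.length A (A ⧸ (Ideal.span {a} * I ⊔ Ideal.span {b})) =
      Module.length A (A ⧸ Ideal.span ({a, b} : Set A)) + Module.length A (A ⧸ (I ⊔ Ideal.span {b})) := by
  have h1 : I ⊔ Ideal.span {b} ≤
      Submodule.comap (LinearMap.lsmul A A a) (Ideal.span {a} * I ⊔ Ideal.span {b}) := by
    intro x hx
    rw [Submodule.mem_comap, LinearMap.lsmul_apply]
    obtain ⟨y, hy, z, hz, rfl⟩ := Submodule.mem_sup.mp hx
    rw [smul_add]
    apply Submodule.add_mem
    · apply Submodule.mem_sup_left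
      rw [smul_eq_mul]
      exact Ideal.mul_mem_mul (Ideal.mem_span_singleton_self a) hy
    · apply Submodule.mem_sup_right
      rw [smul_eq_mul]
      exact Ideal.mul_mem_left _ a hz
  have h2 : Ideal.span {a} * I ⊔ Ideal.span {b} ≤
      Submodule.comap (LinearMap.id : A →ₗ[A] A) (Ideal.span {a, b}) := by
    rw [Submodule.comap_id]
    apply sup_le
    · exact Ideal.mul_le_left.trans
        (Ideal.span_mono (Set.singleton_subset_iff.mpr (Set.mem_insert _ _)))
    · exact Ideal.span_mono (Set.singleton_subset_iff.mpr (Set.mem_insert_of_mem _ rfl))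
  have hf : Function.Injective (Submodule.mapQ (I ⊔ Ideal.span {b})
      (Ideal.span {a} * I ⊔ Ideal.span {b}) (LinearMap.lsmul A A a) h1) := by
    rw [injective_iff_map_eq_zero]
    intro y hy
    obtain ⟨x, rfl⟩ := Submodule.Quotient.mk_surjective _ y
    rw [Submodule.mapQ_apply, Submodule.Quotient.mk_eq_zero] at hy
    rw [Submodule.Quotient.mk_eq_zero]
    obtain ⟨y, hy1, z, hz, hyz⟩ := Submodule.mem_sup.mp hy
    obtain ⟨i, hi, rfl⟩ := Ideal.mem_span_singleton_mul.mp hy1
    simp only [LinearMap.lsmul_apply, smul_eq_mul] at hyz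
    have hxi : x - i ∈ Ideal.span {b} := by
      have e : a • (Ideal.Quotient.mk (Ideal.span {b}) (x - i)) =
          a • (0 : A ⧸ Ideal.span {b}) := by
        rw [smul_zero]
        have e1 : a • (Ideal.Quotient.mk (Ideal.span {b}) (x - i)) =
            Ideal.Quotient.mk (Ideal.span {b}) (a * (x - i)) := rfl
        rw [e1, Ideal.Quotient.eq_zero_iff_mem]
        have e2 : a * (x - i) = z := by linear_combination -hyz
        rw [e2]
        exact hz
      exact Ideal.Quotient.eq_zero_iff_mem.mp (ha e)
    have e3 : x = i + (x - i) := by ring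
    rw [e3]
    exact Submodule.add_mem _ (Submodule.mem_sup_left hi) (Submodule.mem_sup_right hxi)
  have hg : Function.Surjective (Submodule.mapQ (Ideal.span {a} * I ⊔ Ideal.span {b})
      (Ideal.span {a, b}) (LinearMap.id : A →ₗ[A] A) h2) := by
    intro y
    obtain ⟨x, rfl⟩ := Submodule.Quotient.mk_surjective _ y
    exact ⟨Submodule.Quotient.mk x, rfl⟩
  have hex : Function.Exact (Submodule.mapQ (I ⊔ Ideal.span {b})
      (Ideal.span {a} * I ⊔ Ideal.span {b}) (LinearMap.lsmul A A a) h1)
      (Submodule.mapQ (Ideal.span {a} * I ⊔ Ideal.span {b})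
      (Ideal.span {a, b}) (LinearMap.id : A →ₗ[A] A) h2) := by
    intro y
    obtain ⟨x, rfl⟩ := Submodule.Quotient.mk_surjective _ y
    constructor
    · intro hy
      rw [Submodule.mapQ_apply, Submodule.Quotient.mk_eq_zero, LinearMap.id_apply] at hy
      obtain ⟨r, s, hrs⟩ := Ideal.mem_span_pair.mp hy
      refine ⟨Submodule.Quotient.mk r, ?_⟩
      rw [Submodule.mapQ_apply, Submodule.Quotient.eq, LinearMap.lsmul_apply, smul_eq_mul]
      have e : a * r - x = -(s * b) := by linear_combination hrs
      rw [e]
      exact Submodule.mem_sup_right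
        (neg_mem (Ideal.mul_mem_left _ s (Ideal.mem_span_singleton_self b)))
    · rintro ⟨y', hy'⟩
      rw [← hy']
      obtain ⟨r, rfl⟩ := Submodule.Quotient.mk_surjective _ y'
      rw [Submodule.mapQ_apply, Submodule.mapQ_apply, Submodule.Quotient.mk_eq_zero,
        LinearMap.id_apply, LinearMap.lsmul_apply, smul_eq_mul]
      exact Ideal.mul_mem_right _ _ (Ideal.subset_span (by simp))
  rw [Module.length_eq_add_of_exact _ _ hf hg hex, add_comm]

end Groth.Agent.S15315
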