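import Groth.Statements.S15319
-- import your own Groth.Agent.* helpers here
import Mathlib

set_option autoImplicit false
universe u
open ArLef ArLef.NodeAlg

namespace Groth.Agent.S15319

open MvPowerSeries in
lemma diag_coeff {B : Type u} [CommRing B] [IsNoetherianRing B] [IsLocalRing B] (π : B)
    (hπ : ¬ IsUnit π) (c : B) (F : MvPowerSeries (Fin 2) B)
    (hF : F * (X 0 * X 1 - C π) = C c) : c = 0 := by
  classical
  have hX : (X 0 * X 1 : MvPowerSeries (Fin 2) B) =
      monomial (Finsupp.single 0 1 + Finsupp.single 1 1) 1 := by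
    rw [X_def, X_def, monomial_mul_monomial, one_mul]
  have hε0 : ∀ n : ℕ, n • (Finsupp.single (0 : Fin 2) 1 + Finsupp.single 1 1) +
      (Finsupp.single (0 : Fin 2) 1 + Finsupp.single 1 1) ≠ 0 := by
    intro n h
    have h1 := congrArg (fun f => f 0) h
    simp at h1
  have hrec : ∀ n : ℕ, coeff (n • (Finsupp.single (0 : Fin 2) 1 + Finsupp.single 1 1)) F =
      coeff (n • (Finsupp.single (0 : Fin 2) 1 + Finsupp.single 1 1) +
        (Finsupp.single (0 : Fin 2) 1 + Finsupp.single 1 1)) F * π := by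
    intro n
    have h1 := congrArg (coeff ((n + 1) • (Finsupp.single (0 : Fin 2) 1 + Finsupp.single 1 1))) hF
    rw [mul_sub, map_sub, coeff_mul_C, coeff_C, hX, succ_nsmul, coeff_add_mul_monomial,
      if_neg (hε0 n), mul_one] at h1
    exact sub_eq_zero.1 h1
  have h0 : - (coeff 0 F * π) = c := by
    have h1 := congrArg (coeff (0 : Fin 2 →₀ ℕ)) hF
    rw [mul_sub, map_sub, coeff_mul_C, coeff_C, if_pos rfl, hX, coeff_mul_monomial, if_neg,
      zero_sub] at h1
    · exact h1
    · intro h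
      have h2 := hε0 0
      rw [zero_smul, zero_add] at h2
      exact h2 (le_antisymm h zero_le)
  have hpow : ∀ n : ℕ, coeff 0 F =
      coeff (n • (Finsupp.single (0 : Fin 2) 1 + Finsupp.single 1 1)) F * π ^ n := by
    intro n
    induction n with
    | zero => simp
    | succ n ih => rw [ih, hrec n, succ_nsmul, pow_succ]; ring
  have hmem : coeff 0 F ∈ ⨅ i, (Ideal.span {π}) ^ i := by
    rw [Ideal.mem_iInf]
    intro n
    rw [hpow n, Ideal.span_singleton_pow]
    exact Ideal.mul_mem_left _ _ (Ideal.mem_span_singleton_self _)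
  rw [Ideal.iInf_pow_eq_bot_of_isLocalRing _ (by rwa [Ne, Ideal.span_singleton_eq_top])] at hmem
  rw [← h0, (Ideal.mem_bot.1 hmem), zero_mul, neg_zero]

lemma hte {B : Type u} [CommRing B] (π : B) :
    (ArLef.NodeAlg.t π : ArLef.NodeAlg B π) * ArLef.NodeAlg.e π =
      algebraMap B (ArLef.NodeAlg B π) π := by
  show Ideal.Quotient.mk _ (MvPowerSeries.X 0) * Ideal.Quotient.mk _ (MvPowerSeries.X 1) =
    Ideal.Quotient.mk _ (MvPowerSeries.C π)
  rw [← map_mul, Ideal.Quotient.eq]
  exact Ideal.subset_span rfl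

lemma unit_aux {B : Type u} [CommRing B] (π γ : B) (hγ : IsUnit γ) (j : ℕ) (hj : 1 ≤ j)
    (a b : ArLef.NodeAlg B π) :
    IsUnit (algebraMap B (ArLef.NodeAlg B π) γ - a * ArLef.NodeAlg.e π - b * ArLef.NodeAlg.t π -
      a * b * (algebraMap B (ArLef.NodeAlg B π) π) ^ j) := by
  obtain ⟨a', rfl⟩ := Ideal.Quotient.mk_surjective a
  obtain ⟨b', rfl⟩ := Ideal.Quotient.mk_surjective b
  rw [← hte]
  have h1 : algebraMap B (ArLef.NodeAlg B π) γ - Ideal.Quotient.mk _ a' * ArLef.NodeAlg.e π -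
      Ideal.Quotient.mk _ b' * ArLef.NodeAlg.t π -
      Ideal.Quotient.mk _ a' * Ideal.Quotient.mk _ b' *
        (ArLef.NodeAlg.t π * ArLef.NodeAlg.e π) ^ j =
      Ideal.Quotient.mk _ (MvPowerSeries.C γ - a' * MvPowerSeries.X 1 - b' * MvPowerSeries.X 0 -
        a' * b' * (MvPowerSeries.X 0 * MvPowerSeries.X 1) ^ j) := by
    simp only [map_sub, map_mul, map_pow]
    rfl
  rw [h1]
  apply IsUnit.map
  rw [MvPowerSeries.isUnit_iff_constantCoeff]
  simp only [map_sub, map_mul, map_pow, MvPowerSeries.constantCoeff_C,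
    MvPowerSeries.constantCoeff_X, mul_zero, zero_pow (by omega : j ≠ 0), sub_zero]
  exact hγ

/-- Let B be a discrete valuation ring with uniformizer π, N = B[[t, e]]/(te - π) the complete local
ring of a semi-stable arithmetic surface over B at a singular point of the closed fibre, and σ a
ring automorphism of N sending π to π + γ π^j with γ a unit of B and j ≥ 1 (σ lies over an
automorphism τ of B with v(τ(π) - π) = j). Then the fixed-point ideal of σ is not contained in (π^j)
= (t^j e^j): the two branches through the point cannot both occur with multiplicity j in the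
divisorial part of the fixed locus. (The published setting has B complete with algebraically closed
residue field.) -/
theorem result (B : Type u) [CommRing B] [IsDomain B] [IsDiscreteValuationRing B] (π : B) (hπ : Irreducible π)
    (j : ℕ) (hj : 1 ≤ j) (γ : B) (hγ : IsUnit γ)
    (σ : ArLef.NodeAlg B π ≃+* ArLef.NodeAlg B π)
    (hσ : σ (algebraMap B (ArLef.NodeAlg B π) π) = algebraMap B (ArLef.NodeAlg B π) (π + γ * π ^ j)) :
    ¬ ArLef.fixIdeal σ ≤ Ideal.span ({algebraMap B (ArLef.NodeAlg B π) (π ^ j)} : Set (ArLef.NodeAlg B π)) := by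
  classical
  intro hle
  have ht : σ (ArLef.NodeAlg.t π) - ArLef.NodeAlg.t π ∈
      Ideal.span ({algebraMap B (ArLef.NodeAlg B π) (π ^ j)} : Set (ArLef.NodeAlg B π)) :=
    hle (Ideal.subset_span ⟨_, rfl⟩)
  have he : σ (ArLef.NodeAlg.e π) - ArLef.NodeAlg.e π ∈
      Ideal.span ({algebraMap B (ArLef.NodeAlg B π) (π ^ j)} : Set (ArLef.NodeAlg B π)) :=
    hle (Ideal.subset_span ⟨_, rfl⟩)
  obtain ⟨a, ha⟩ := Ideal.mem_span_singleton'.1 ht
  obtain ⟨b, hb⟩ := Ideal.mem_span_singleton'.1 he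
  have h1 : σ (ArLef.NodeAlg.t π * ArLef.NodeAlg.e π) =
      σ (ArLef.NodeAlg.t π) * σ (ArLef.NodeAlg.e π) := map_mul σ _ _
  rw [hte, hσ, map_add, map_mul, map_pow] at h1
  rw [map_pow] at ha hb
  have h2 : σ (ArLef.NodeAlg.t π) =
      ArLef.NodeAlg.t π + a * (algebraMap B (ArLef.NodeAlg B π) π) ^ j := by
    rw [ha]; ring
  have h3 : σ (ArLef.NodeAlg.e π) =
      ArLef.NodeAlg.e π + b * (algebraMap B (ArLef.NodeAlg B π) π) ^ j := by
    rw [hb]; ring
  rw [h2, h3] at h1
  have h4 : (algebraMap B (ArLef.NodeAlg B π) π) ^ j *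
      (algebraMap B (ArLef.NodeAlg B π) γ - a * ArLef.NodeAlg.e π - b * ArLef.NodeAlg.t π -
        a * b * (algebraMap B (ArLef.NodeAlg B π) π) ^ j) = 0 := by
    linear_combination h1 + hte π
  have h5 : (algebraMap B (ArLef.NodeAlg B π) π) ^ j = 0 :=
    ((unit_aux π γ hγ j hj a b).mul_left_eq_zero).1 h4
  rw [← map_pow] at h5
  have h6 : (MvPowerSeries.C (π ^ j) : MvPowerSeries (Fin 2) B) ∈
      Ideal.span {(MvPowerSeries.X 0 * MvPowerSeries.X 1 - MvPowerSeries.C π :
        MvPowerSeries (Fin 2) B)} := Ideal.Quotient.eq_zero_iff_mem.1 h5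
  obtain ⟨F, hF⟩ := Ideal.mem_span_singleton'.1 h6
  exact pow_ne_zero j hπ.ne_zero (diag_coeff π hπ.not_isUnit (π ^ j) F hF)

end Groth.Agent.S15319
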