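import Groth.Statements.S15327
-- import your own Groth.Agent.* helpers here
import Mathlib

set_option autoImplicit false
open ArLef ArLef.BlowupGraph

namespace Groth.Agent.S15327

section helpers

variable {n : ℕ} (G : ArLef.BlowupGraph n)

theorem tt_eq (k l : Fin n) : G.tt k l = if l < k then 0 else if l = k then 1 else ∑ m ∈ G.par l, G.tt k m := by
  unfold ArLef.BlowupGraph.tt
  rw [ArLef.BlowupGraph.ttN]
  have h3 : ∑ p ∈ (G.parN l.1).attach, G.ttN k.1 p.1 = ∑ m ∈ G.par l, G.ttN k.1 m.1 := by
    rw [Finset.sum_attach (G.parN l.1) (fun p => G.ttN k.1 p)]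
    unfold ArLef.BlowupGraph.parN
    rw [dif_pos l.2, Finset.sum_map]
    rfl
  rw [h3]
  by_cases h1 : l < k
  · rw [if_pos h1, if_pos (Fin.lt_def.1 h1)]
  · rw [if_neg h1, if_neg (fun h => h1 (Fin.lt_def.2 h))]
    by_cases h2 : l = k
    · rw [if_pos h2, if_pos (congrArg Fin.val h2)]
    · rw [if_neg h2, if_neg (fun h => h2 (Fin.ext h))]

noncomputable def Tm : Matrix (Fin n) (Fin n) ℚ := fun k m => (G.tt k m : ℚ)
noncomputable def Bm : Matrix (Fin n) (Fin n) ℚ :=
  fun m l => (if m = l then 1 else 0) - (if m ∈ G.par l then 1 else 0)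

theorem tt_of_lt (k l : Fin n) (h : l < k) : G.tt k l = 0 := by
  rw [tt_eq, if_pos h]

theorem Tm_mul_Bm : Tm G * Bm G = 1 := by
  ext k l
  rw [Matrix.mul_apply]
  simp only [Tm, Bm, mul_sub, Finset.sum_sub_distrib, mul_ite, mul_one, mul_zero]
  rw [Finset.sum_ite_eq' Finset.univ l, if_pos (Finset.mem_univ _)]
  have h1 : ∑ x : Fin n, (if x ∈ G.par l then (G.tt k x : ℚ) else 0) = ∑ x ∈ G.par l, (G.tt k x : ℚ) := by
    rw [← Finset.sum_filter]
    congr 1
    ext x; simp
  rw [h1, Matrix.one_apply]
  rw [tt_eq G k l]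
  by_cases hlk : l < k
  · rw [if_pos hlk, if_neg (ne_of_gt hlk)]
    have : ∑ x ∈ G.par l, (G.tt k x : ℚ) = 0 := by
      apply Finset.sum_eq_zero
      intro x hx
      rw [tt_of_lt G k x (lt_trans (G.par_lt l x hx) hlk)]; simp
    rw [this]; simp
  · rw [if_neg hlk]
    by_cases hEq : l = k
    · rw [if_pos hEq, if_pos hEq.symm]
      have : ∑ x ∈ G.par l, (G.tt k x : ℚ) = 0 := by
        apply Finset.sum_eq_zero
        intro x hx
        rw [tt_of_lt G k x (hEq ▸ G.par_lt l x hx)]; simp
      rw [this]; simp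
    · rw [if_neg hEq, if_neg (fun h => hEq h.symm)]
      push_cast
      simp

noncomputable def cnt (p q : Fin n) : ℚ :=
  ((Finset.univ.filter fun k => p ∈ G.par k ∧ q ∈ G.par k).card : ℚ)

theorem cnt_comm (p q : Fin n) : cnt G p q = cnt G q p := by
  unfold cnt
  congr 2
  ext k
  simp [and_comm]

theorem Adj_comm (p q : Fin n) : G.Adj p q ↔ G.Adj q p := by
  unfold ArLef.BlowupGraph.Adj
  exact Or.comm

theorem BBt (p q : Fin n) : (Bm G * (Bm G).transpose) p q =
    (if p = q then 1 else 0) - (if q ∈ G.par p then 1 else 0) - (if p ∈ G.par q then 1 else 0)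
      + cnt G p q := by
  rw [Matrix.mul_apply]
  simp only [Matrix.transpose_apply, Bm]
  have h : ∀ k : Fin n, ((if p = k then (1:ℚ) else 0) - (if p ∈ G.par k then 1 else 0)) *
      ((if q = k then 1 else 0) - (if q ∈ G.par k then 1 else 0)) =
      (if p = k then (if q = k then 1 else 0) else 0) - (if p = k then (if q ∈ G.par k then 1 else 0) else 0)
        - (if q = k then (if p ∈ G.par k then 1 else 0) else 0)
        + (if (p ∈ G.par k ∧ q ∈ G.par k) then 1 else 0) := by
    intro k
    split_ifs <;> norm_num <;> tauto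
  simp_rw [h, Finset.sum_add_distrib, Finset.sum_sub_distrib, Finset.sum_ite_eq, Finset.mem_univ, if_true]
  unfold cnt
  rw [Finset.card_filter]
  push_cast
  congr 3
  by_cases hpq : p = q
  · simp [hpq]
  · simp [hpq, Ne.symm hpq]

theorem par_eq_pair {p q k : Fin n} (hpq : p ≠ q) (hp : p ∈ G.par k) (hq : q ∈ G.par k) :
    G.par k = {p, q} := by
  symm
  apply Finset.eq_of_subset_of_card_le
  · intro x hx
    rw [Finset.mem_insert, Finset.mem_singleton] at hx
    rcases hx with rfl | rfl
    · exact hp
    · exact hq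
  · rw [Finset.card_pair hpq]
    exact G.card_le_two k

theorem keyL {p q : Fin n} (hpq : p < q) :
    (if p ∈ G.par q then (1:ℚ) else 0) - cnt G p q = if G.Adj p q then 1 else 0 := by
  have hne : p ≠ q := ne_of_lt hpq
  have hqp : q ∉ G.par p := fun h => lt_asymm hpq (G.par_lt p q h)
  have hAdj : G.Adj p q ↔ (p ∈ G.par q ∧ ∀ m, q < m → G.par m ≠ {p, q}) := by
    unfold ArLef.BlowupGraph.Adj
    constructor
    · rintro (h | h)
      · exact h
      · exact absurd h.1 hqp
    · intro h; exact Or.inl h
  by_cases hp : p ∈ G.par q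
  · by_cases hex : ∃ m, q < m ∧ G.par m = {p, q}
    · obtain ⟨m, hqm, hm⟩ := hex
      have hnA : ¬ G.Adj p q := by
        rw [hAdj]
        intro h
        exact h.2 m hqm hm
      have hpm : p ∈ G.par m := by rw [hm]; simp
      have hqm' : q ∈ G.par m := by rw [hm]; simp
      have hset : (Finset.univ.filter fun k => p ∈ G.par k ∧ q ∈ G.par k) = {m} := by
        ext k
        simp only [Finset.mem_filter, Finset.mem_univ, true_and, Finset.mem_singleton]
        constructor
        · rintro ⟨hpk, hqk⟩
          have hk : G.par k = {p, q} := par_eq_pair G hne hpk hqk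
          have hqk' : q < k := G.par_lt k q hqk
          rcases lt_trichotomy k m with h | h | h
          · exact absurd hk ((G.meet_of_two m p q hpm hqm' hpq).2 k hqk' h)
          · exact h
          · exact absurd hm ((G.meet_of_two k p q hpk hqk hpq).2 m hqm h)
        · rintro rfl
          exact ⟨hpm, hqm'⟩
      unfold cnt
      rw [hset, if_pos hp, if_neg hnA]
      simp
    · have hA : G.Adj p q := by
        rw [hAdj]
        refine ⟨hp, fun m hqm hm => hex ⟨m, hqm, hm⟩⟩
      have hset : (Finset.univ.filter fun k => p ∈ G.par k ∧ q ∈ G.par k) = ∅ := by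
        ext k
        simp only [Finset.mem_filter, Finset.mem_univ, true_and, Finset.notMem_empty, iff_false]
        rintro ⟨hpk, hqk⟩
        exact hex ⟨k, G.par_lt k q hqk, par_eq_pair G hne hpk hqk⟩
      unfold cnt
      rw [hset, if_pos hp, if_pos hA]
      simp
  · have hnA : ¬ G.Adj p q := by
      rw [hAdj]
      intro h
      exact hp h.1
    have hset : (Finset.univ.filter fun k => p ∈ G.par k ∧ q ∈ G.par k) = ∅ := by
      ext k
      simp only [Finset.mem_filter, Finset.mem_univ, true_and, Finset.notMem_empty, iff_false]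
      rintro ⟨hpk, hqk⟩
      exact hp (G.meet_of_two k p q hpk hqk hpq).1
    unfold cnt
    rw [hset, if_neg hp, if_neg hnA]
    simp

theorem mat_eq : G.mat = -(Bm G * (Bm G).transpose) := by
  ext p q
  rw [Matrix.neg_apply, BBt]
  unfold ArLef.BlowupGraph.mat
  rcases lt_trichotomy p q with h | h | h
  · have hne : p ≠ q := ne_of_lt h
    have hqp : q ∉ G.par p := fun h' => lt_asymm h (G.par_lt p q h')
    rw [if_neg hne, if_neg hne, if_neg hqp, ← keyL G h]
    ring
  · subst h
    have hpp : p ∉ G.par p := fun h' => lt_irrefl _ (G.par_lt p p h')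
    rw [if_pos rfl, if_pos rfl, if_neg hpp]
    unfold ArLef.BlowupGraph.selfInt cnt
    push_cast
    have : (Finset.univ.filter fun k => p ∈ G.par k ∧ p ∈ G.par k) = (Finset.univ.filter fun m => p ∈ G.par m) := by
      ext k; simp
    rw [this]
    ring
  · have hne : p ≠ q := ne_of_gt h
    have hpq : p ∉ G.par q := fun h' => lt_asymm h (G.par_lt q p h')
    have hA : (if G.Adj p q then (1:ℚ) else 0) = if G.Adj q p then 1 else 0 := by
      by_cases hh : G.Adj p q
      · rw [if_pos hh, if_pos ((Adj_comm G p q).1 hh)]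
      · rw [if_neg hh, if_neg (fun h' => hh ((Adj_comm G p q).2 h'))]
    rw [if_neg hne, if_neg hne, if_neg hpq, hA, ← keyL G h, cnt_comm G p q]
    ring

theorem Bm_mul_Tm : Bm G * Tm G = 1 := mul_eq_one_comm.1 (Tm_mul_Bm G)

noncomputable def Nm : Matrix (Fin n) (Fin n) ℚ := (Tm G).transpose * Tm G

theorem Nm_apply (i j : Fin n) : Nm G i j = (G.mult i j : ℚ) := by
  unfold Nm ArLef.BlowupGraph.mult
  rw [Matrix.mul_apply]
  push_cast
  rfl

theorem Nm_symm (i j : Fin n) : Nm G i j = Nm G j i := by
  rw [Nm_apply, Nm_apply]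
  unfold ArLef.BlowupGraph.mult
  congr 1
  apply Finset.sum_congr rfl
  intro k _
  ring

theorem mat_mul_Nm : G.mat * Nm G = -1 := by
  rw [mat_eq, Nm, Matrix.neg_mul]
  congr 1
  calc Bm G * (Bm G).transpose * ((Tm G).transpose * Tm G)
      = Bm G * ((Bm G).transpose * (Tm G).transpose) * Tm G := by
        simp only [Matrix.mul_assoc]
    _ = Bm G * (Tm G * Bm G).transpose * Tm G := by rw [Matrix.transpose_mul]
    _ = 1 := by rw [Tm_mul_Bm, Matrix.transpose_one, Matrix.mul_one, Bm_mul_Tm]

theorem isUnit_sub (I : Finset (Fin n)) :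
    IsUnit (G.mat.submatrix (fun x : I => x.1) (fun x : I => x.1)) := by
  have hB : IsUnit (Bm G) := (Matrix.isUnit_iff_isUnit_det _).2
    (Matrix.isUnit_det_of_right_inverse (Bm_mul_Tm G))
  have h1 : (Bm G * (Bm G).conjTranspose).PosDef :=
    Matrix.PosDef.mul_conjTranspose_self (Bm G) (Matrix.vecMul_injective_of_isUnit hB)
  have h2 := h1.submatrix (e := fun x : I => x.1) Subtype.val_injective
  have h3 := h2.isUnit
  rw [Matrix.conjTranspose_eq_transpose_of_trivial] at h3
  have h4 : G.mat.submatrix (fun x : I => x.1) (fun x : I => x.1)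
      = -((Bm G * (Bm G).transpose).submatrix (fun x : I => x.1) (fun x : I => x.1)) := by
    rw [mat_eq]; rfl
  rw [h4]
  exact h3.neg

theorem keyC (I : Finset (Fin n)) (a i : Fin n) (hi : i ∉ I) (M N : Matrix (Fin n) (Fin n) ℚ)
    (hMN : M * N = -1)
    (hD : IsUnit (M.submatrix (fun x : I => x.1) (fun x : I => x.1))) :
    ∑ j ∈ Finset.univ.filter (fun j => j ∉ I),
      (M a j - ∑ b : I, ∑ c : I, M a b.1 *
        (M.submatrix (fun x : I => x.1) (fun x : I => x.1))⁻¹ b c * M c.1 j) * N j i
      = -(1 : Matrix (Fin n) (Fin n) ℚ) a i := by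
  set D := M.submatrix (fun x : I => x.1) (fun x : I => x.1) with hDdef
  have hdet : IsUnit D.det := (Matrix.isUnit_iff_isUnit_det D).1 hD
  have hsplit : ∀ f : Fin n → ℚ, ∑ j, f j =
      ∑ j ∈ Finset.univ.filter (fun j => j ∉ I), f j + ∑ d : I, f d.1 := by
    intro f
    rw [← Finset.sum_filter_not_add_sum_filter Finset.univ (fun j => j ∈ I) f]
    congr 1
    rw [Finset.sum_coe_sort I f]
    congr 1
    ext x
    simp
  have hMN' : ∀ x y, ∑ j, M x j * N j y = -(1 : Matrix (Fin n) (Fin n) ℚ) x y := by
    intro x y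
    have := congrFun (congrFun hMN x) y
    rwa [Matrix.mul_apply, Matrix.neg_apply] at this
  let w : I → ℚ := fun d => N d.1 i
  have hu : ∀ c : I, ∑ j ∈ Finset.univ.filter (fun j => j ∉ I), M c.1 j * N j i
      = -(D.mulVec w) c := by
    intro c
    have h1 := hMN' c.1 i
    rw [hsplit] at h1
    have hci : c.1 ≠ i := fun h => hi (h ▸ c.2)
    rw [Matrix.one_apply_ne hci, neg_zero] at h1
    have h2 : (D.mulVec w) c = ∑ d : I, M c.1 d.1 * N d.1 i := rfl
    rw [h2]
    linarith
  calc ∑ j ∈ Finset.univ.filter (fun j => j ∉ I),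
      (M a j - ∑ b : I, ∑ c : I, M a b.1 * D⁻¹ b c * M c.1 j) * N j i
      = ∑ j ∈ Finset.univ.filter (fun j => j ∉ I), M a j * N j i
        - ∑ b : I, ∑ c : I, M a b.1 * D⁻¹ b c *
          (∑ j ∈ Finset.univ.filter (fun j => j ∉ I), M c.1 j * N j i) := by
        simp only [sub_mul, Finset.sum_sub_distrib, Finset.sum_mul]
        congr 1
        rw [Finset.sum_comm]
        apply Finset.sum_congr rfl
        intro b _
        rw [Finset.sum_comm]
        apply Finset.sum_congr rfl
        intro c _
        rw [Finset.mul_sum]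
        apply Finset.sum_congr rfl
        intro j _
        ring
    _ = ∑ j ∈ Finset.univ.filter (fun j => j ∉ I), M a j * N j i
        + ∑ b : I, M a b.1 * (D⁻¹.mulVec (D.mulVec w)) b := by
        simp_rw [hu]
        rw [sub_eq_add_neg, ← Finset.sum_neg_distrib]
        congr 1
        apply Finset.sum_congr rfl
        intro b _
        rw [Matrix.mulVec, dotProduct, Finset.mul_sum, ← Finset.sum_neg_distrib]
        apply Finset.sum_congr rfl
        intro c _
        ring
    _ = ∑ j ∈ Finset.univ.filter (fun j => j ∉ I), M a j * N j i + ∑ b : I, M a b.1 * w b := by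
        rw [Matrix.mulVec_mulVec, Matrix.nonsing_inv_mul _ hdet, Matrix.one_mulVec]
    _ = ∑ j, M a j * N j i := (hsplit _).symm
    _ = _ := hMN' a i

end helpers

/-- Let Φ be the labelled dual graph of the exceptional curves of n successive blow-ups of closed points
starting from a regular surface with algebraically closed residue fields (vertices = exceptional
curves in order of creation, labels = intersection numbers), I any set of vertices (the curves
contracted to a normal surface) and σ a permutation of the vertices preserving all intersection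
numbers and the set I. Let e_{ij} be the multiplicity of E_i × E_j in the fibre square of the
composite blow-down (the sum over k of c^k_i c^k_j, c^k the total transform of the k-th exceptional
curve) and (E_i · E_j)_I Mumford's rational intersection number of the images after contracting I.
Then the sum over i, j outside I of e_{ij} (σ E_i · E_j)_I equals minus the number of σ-fixed
vertices outside I. (Stated for the dual graphs realized with all residue fields equal to the base
field, which is the case the published argument realizes geometrically.) -/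
theorem result (n : ℕ) (G : ArLef.BlowupGraph n) (I : Finset (Fin n))
    (σ : Equiv.Perm (Fin n)) (hσ : ∀ i j : Fin n, G.mat (σ i) (σ j) = G.mat i j)
    (hσI : ∀ i : Fin n, σ i ∈ I ↔ i ∈ I) :
    G.lNum I σ = ArLef.BlowupGraph.rNum I σ := by
  unfold ArLef.BlowupGraph.lNum ArLef.BlowupGraph.rNum
  have h1 : ∀ i ∈ Finset.univ.filter (fun i => i ∉ I),
      ∑ j ∈ Finset.univ.filter (fun j => j ∉ I), (G.mult i j : ℚ) * G.pairing I (σ i) j
        = -(1 : Matrix (Fin n) (Fin n) ℚ) (σ i) i := by
    intro i hi
    have hi' : i ∉ I := (Finset.mem_filter.1 hi).2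
    rw [← keyC I (σ i) i hi' G.mat (Nm G) (mat_mul_Nm G) (isUnit_sub G I)]
    apply Finset.sum_congr rfl
    intro j _
    rw [← Nm_apply, Nm_symm, mul_comm]
    rfl
  rw [Finset.sum_congr rfl h1, Finset.sum_neg_distrib]
  congr 1
  simp only [Matrix.one_apply]
  rw [Finset.sum_boole, Finset.filter_filter]

end Groth.Agent.S15327
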