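import Groth.Statements.S15329
-- import your own Groth.Agent.* helpers here
import Mathlib

set_option autoImplicit false
open TensorProduct LaurentPolynomial
universe u v
open CAlg

namespace Groth.Agent.S15329

private lemma smulT_mem_iff (k : Type u) [Field k] (c : k) (j : ℤ) :
    c • (LaurentPolynomial.T j : LaurentPolynomial k) ∈
      (Polynomial.toLaurent : Polynomial k →+* LaurentPolynomial k).range ↔ c = 0 ∨ 0 ≤ j := by
  rw [LaurentPolynomial.smul_eq_C_mul]
  constructor
  · rintro ⟨f, hf⟩
    by_contra hcon
    rw [not_or, not_le] at hcon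
    have h1 : LaurentPolynomial.trunc (Polynomial.toLaurent f) =
        LaurentPolynomial.trunc (LaurentPolynomial.C c * LaurentPolynomial.T j) := by rw [hf]
    rw [Polynomial.trunc_toLaurent, LaurentPolynomial.trunc_C_mul_T,
      if_neg (not_le.mpr hcon.2)] at h1
    rw [h1, map_zero, ← LaurentPolynomial.single_eq_C_mul_T] at hf
    exact hcon.1 (AddMonoidAlgebra.single_eq_zero.mp hf.symm)
  · rintro (rfl | hj)
    · rw [map_zero, zero_mul]
      exact zero_mem _
    · refine ⟨Polynomial.C c * Polynomial.X ^ j.toNat, ?_⟩
      rw [Polynomial.toLaurent_C_mul_X_pow, Int.toNat_of_nonneg hj]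

/-- Let k be a field, E a k-vector space and F an increasing ℤ-indexed filtration of E by subspaces. In
E[T, T⁻¹] = k[T, T⁻¹] ⊗ E the Rees module of (E, F) is the k-span of the elements T^n ⊗ v with v ∈ F
n; it is the module of global sections of the equivariant bundle on the affine line attached to (E,
F), and E[T, T⁻¹] that of its sections away from the origin. For a linear form α on E and an integer
p, the k[T, T⁻¹]-linear form m ↦ T^p · (id ⊗ α)(m) is the invariant section α of the dual bundle
away from the origin multiplied by T^p, and it extends over the origin exactly when it maps the Rees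
module into the polynomial subring k[T]. This happens if and only if α vanishes on F(−p − 1); so the
dual equivariant bundle corresponds to the dual space filtered by the annihilators of the F(−p − 1).
(The published statement has the annihilator of F(−p + 1), over the complex numbers; for E = k with
F n = 0 for n < 0 and F n = E for n ≥ 0 the form with p = 0 and α ≠ 0 maps the Rees module into k[T]
although α does not vanish on F(1) = E, and the published argument gives the index −p − 1, which
this row states, over any field.) -/
theorem result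
    (k : Type u) [Field k] (E : Type v) [AddCommGroup E] [Module k E]
    (F : ℤ → Submodule k E) (hF : Monotone F)
    (α : Module.Dual k E) (p : ℤ) :
    (∀ m ∈ Submodule.span k {x : k[T;T⁻¹] ⊗[k] E | ∃ (n : ℤ) (v : E), v ∈ F n ∧ x = T n ⊗ₜ[k] v},
      T p * (TensorProduct.AlgebraTensorModule.rid k k[T;T⁻¹] k[T;T⁻¹]) (LinearMap.baseChange k[T;T⁻¹] α m)
        ∈ (Polynomial.toLaurent : Polynomial k →+* k[T;T⁻¹]).range) ↔
    ∀ v ∈ F (-p - 1), α v = 0 := by
  constructor
  · intro h v hv
    have hm : (T (-p - 1) ⊗ₜ[k] v : k[T;T⁻¹] ⊗[k] E) ∈ Submodule.span k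
        {x : k[T;T⁻¹] ⊗[k] E | ∃ (n : ℤ) (v : E), v ∈ F n ∧ x = T n ⊗ₜ[k] v} :=
      Submodule.subset_span ⟨-p - 1, v, hv, rfl⟩
    have h1 := h _ hm
    rw [LinearMap.baseChange_tmul, TensorProduct.AlgebraTensorModule.rid_tmul, mul_smul_comm,
      ← LaurentPolynomial.T_add, smulT_mem_iff] at h1
    rcases h1 with h1 | h1
    · exact h1
    · omega
  · intro h m hm
    induction hm using Submodule.span_induction with
    | mem x hx =>
      obtain ⟨n, v, hv, rfl⟩ := hx
      rw [LinearMap.baseChange_tmul, TensorProduct.AlgebraTensorModule.rid_tmul, mul_smul_comm,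
        ← LaurentPolynomial.T_add, smulT_mem_iff]
      by_cases hn : 0 ≤ p + n
      · exact Or.inr hn
      · left
        exact h v (hF (by omega) hv)
    | zero =>
      rw [map_zero, map_zero, mul_zero]
      exact zero_mem _
    | add x y _ _ hx hy =>
      rw [map_add, map_add, mul_add]
      exact add_mem hx hy
    | smul c x _ hx =>
      rw [← algebraMap_smul k[T;T⁻¹] c x, map_smul, map_smul, smul_eq_mul, mul_left_comm]
      have hc : (algebraMap k k[T;T⁻¹] c) ∈
          (Polynomial.toLaurent : Polynomial k →+* k[T;T⁻¹]).range :=
        ⟨Polynomial.C c, by rw [Polynomial.toLaurent_C, LaurentPolynomial.C_eq_algebraMap]⟩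
      exact mul_mem hc hx

end Groth.Agent.S15329
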