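import Groth.Statements.S15353
-- import your own Groth.Agent.* helpers here
import Mathlib
import Groth.Agent.Lib.helper7.PicNil

set_option autoImplicit false
universe u
open CAlg

namespace Groth.Agent.S15353

open TensorProduct

/-- Let f : A' → A be a surjective ring homomorphism whose kernel is a nilpotent ideal. Then the induced
homomorphism of Picard groups Pic(A') → Pic(A), base change of invertible modules along f, is
bijective. -/
theorem result {A' A : Type u} [CommRing A'] [CommRing A]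
    (f : A' →+* A) (hf : Function.Surjective f) (hker : IsNilpotent (RingHom.ker f)) :
    Function.Bijective (CommRing.Pic.mapRingHom f) := by
  classical
  letI : Algebra A' A := f.toAlgebra
  have hsurj : Function.Surjective (algebraMap A' A) := hf
  have hnil : IsNilpotent (RingHom.ker (algebraMap A' A)) := hker
  show Function.Bijective (CommRing.Pic.mapAlgebra A' A)
  constructor
  · rw [injective_iff_map_eq_one]
    intro M hM
    rw [CommRing.Pic.mapAlgebra_apply, CommRing.Pic.mk_eq_one_iff] at hM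
    obtain ⟨e⟩ := hM
    obtain ⟨e'⟩ := Groth.Agent.Lib.helper7.pn_nakIso hsurj hnil M e
    rw [← CommRing.Pic.mk_eq_self (M := M), CommRing.Pic.mk_eq_one_iff]
    exact ⟨e'⟩
  · intro L
    obtain ⟨M, _, _, _, _, ⟨e₁⟩⟩ := Groth.Agent.Lib.helper7.pn_lift hsurj hnil L
    obtain ⟨M', _, _, _, _, ⟨e₂⟩⟩ :=
      Groth.Agent.Lib.helper7.pn_lift hsurj hnil (L⁻¹ : CommRing.Pic A)
    obtain ⟨e₃⟩ : Nonempty (L ⊗[A] (L⁻¹ : CommRing.Pic A) ≃ₗ[A] A) := by
      rw [← CommRing.Pic.mk_eq_one_iff, ← CommRing.Pic.mul_eq_tensor, mul_inv_cancel]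
    let eT : A ⊗[A'] (M ⊗[A'] M') ≃ₗ[A] A :=
      (TensorProduct.AlgebraTensorModule.distribBaseChange A' A M M') ≪≫ₗ
        TensorProduct.congr e₁ e₂ ≪≫ₗ e₃
    obtain ⟨eT'⟩ := Groth.Agent.Lib.helper7.pn_nakIso hsurj hnil (M ⊗[A'] M') eT
    haveI : Module.Invertible A' M := Module.Invertible.left eT'
    refine ⟨CommRing.Pic.mk A' M, ?_⟩
    rw [CommRing.Pic.mapAlgebra_apply, CommRing.Pic.mk_eq_iff]
    exact ⟨(TensorProduct.AlgebraTensorModule.congr (LinearEquiv.refl A A)
      (CommRing.Pic.mk.linearEquiv A' M)) ≪≫ₗ e₁⟩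

end Groth.Agent.S15353
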