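import Groth.Statements.S15354
-- import your own Groth.Agent.* helpers here
import Mathlib

set_option autoImplicit false
universe u
open CategoryTheory CategoryTheory.Limits AlgebraicGeometry
open Mor

namespace Groth.Agent.S15354

/-- Let f : Y ⟶ X be a morphism of schemes, A a valuation ring with fraction field K and residue field
k, and ξ, η : Spec A ⟶ Y two A-points of Y over the same A-point of X. If ξ and η restrict to the
same K-point and to the same k-point of Y, then ξ = η. (The published statement is an equivalence,
for algebraic spaces locally of finite presentation over a Noetherian scheme, between local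
separatedness of f and conditions (a), (b); this row is the necessity of (a) in the case of schemes,
where no hypothesis on f is needed.) -/
theorem result {X Y : Scheme.{u}} (f : Y ⟶ X)
    (A : Type u) [CommRing A] [IsDomain A] [ValuationRing A] (K : Type u) [Field K] [Algebra A K]
    [IsFractionRing A K] (ξ η : Spec (CommRingCat.of A) ⟶ Y) (hf : ξ ≫ f = η ≫ f)
    (hK : Spec.map (CommRingCat.ofHom (algebraMap A K)) ≫ ξ = Spec.map (CommRingCat.ofHom (algebraMap A K)) ≫ η)
    (hk : Spec.map (CommRingCat.ofHom (IsLocalRing.residue A)) ≫ ξ =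
      Spec.map (CommRingCat.ofHom (IsLocalRing.residue A)) ≫ η) :
    ξ = η := by
  let c : Spec (CommRingCat.of A) := IsLocalRing.closedPoint A
  have hc : ξ c = η c := by
    let z : Spec (CommRingCat.of (IsLocalRing.ResidueField A)) :=
      IsLocalRing.closedPoint (IsLocalRing.ResidueField A)
    have hz : Spec.map (CommRingCat.ofHom (IsLocalRing.residue A)) z = c :=
      IsLocalRing.PrimeSpectrum.comap_residue A z
    have h1 : (Spec.map (CommRingCat.ofHom (IsLocalRing.residue A)) ≫ ξ) z =
        (Spec.map (CommRingCat.ofHom (IsLocalRing.residue A)) ≫ η) z := by rw [hk]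
    rw [Scheme.Hom.comp_apply, Scheme.Hom.comp_apply, hz] at h1
    exact h1
  obtain ⟨W, hW, hcW, -⟩ := exists_isAffineOpen_mem_and_subset (X := Y) (x := ξ c) (U := ⊤) trivial
  have hξW : Set.range ξ ⊆ Set.range W.ι := by
    rw [Scheme.Opens.range_ι]
    rintro _ ⟨x, rfl⟩
    exact ((IsLocalRing.specializes_closedPoint x).map ξ.continuous).mem_open W.2 hcW
  have hηW : Set.range η ⊆ Set.range W.ι := by
    rw [Scheme.Opens.range_ι]
    rintro _ ⟨x, rfl⟩
    exact ((IsLocalRing.specializes_closedPoint x).map η.continuous).mem_open W.2 (hc ▸ hcW)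
  haveI : IsAffine (W : Scheme) := hW
  have key : IsOpenImmersion.lift W.ι ξ hξW = IsOpenImmersion.lift W.ι η hηW := by
    apply ext_of_isAffine
    have h2 : Spec.map (CommRingCat.ofHom (algebraMap A K)) ≫ IsOpenImmersion.lift W.ι ξ hξW =
        Spec.map (CommRingCat.ofHom (algebraMap A K)) ≫ IsOpenImmersion.lift W.ι η hηW := by
      rw [← cancel_mono W.ι, Category.assoc, Category.assoc, IsOpenImmersion.lift_fac,
        IsOpenImmersion.lift_fac, hK]
    have h3 := congrArg Scheme.Hom.appTop h2
    rw [Scheme.Hom.comp_appTop, Scheme.Hom.comp_appTop] at h3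
    haveI hφ : Mono (CommRingCat.ofHom (algebraMap A K)) :=
      ConcreteCategory.mono_of_injective _ (IsFractionRing.injective A K)
    haveI : Mono ((Spec.map (CommRingCat.ofHom (algebraMap A K))).appTop ≫
        (Scheme.ΓSpecIso _).hom) := by
      rw [Scheme.ΓSpecIso_naturality]
      infer_instance
    haveI : Mono (Spec.map (CommRingCat.ofHom (algebraMap A K))).appTop :=
      mono_of_mono _ (Scheme.ΓSpecIso _).hom
    exact (cancel_mono _).mp h3
  calc ξ = IsOpenImmersion.lift W.ι ξ hξW ≫ W.ι := (IsOpenImmersion.lift_fac _ _ _).symm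
    _ = IsOpenImmersion.lift W.ι η hηW ≫ W.ι := by rw [key]
    _ = η := IsOpenImmersion.lift_fac _ _ _

end Groth.Agent.S15354
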