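import Groth.Statements.S15362
import Mathlib
import Groth.Agent.Lib.helper1.FrobSemi

set_option autoImplicit false
universe u v w
open CAlg

namespace Groth.Agent.S15362

/-- For an algebraically closed field L of characteristic p > 0, a commutative L-algebra R integral over
L, and a finitely presented R-module M carrying an additive endomorphism φ with φ(r·m) = r^p·φ(m)
for r ∈ R, m ∈ M, the map m ↦ φ(m) − m is onto. (R is taken of exponential characteristic p so that
its Frobenius is a ring endomorphism; for a non-zero L-algebra this is automatic.) -/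
theorem result (p : ℕ) [Fact p.Prime]
    (L : Type u) [Field L] [IsAlgClosed L] [CharP L p]
    (R : Type v) [CommRing R] [Algebra L R] [Algebra.IsIntegral L R] [ExpChar R p]
    (M : Type w) [AddCommGroup M] [Module R M] [Module.FinitePresentation R M]
    (φ : M →ₛₗ[frobenius R p] M) :
    Function.Surjective fun m : M => φ m - m := by
  classical
  intro m
  obtain ⟨n, g, hg⟩ := Module.Finite.exists_fin (R := R) (M := M)
  have hmem : ∀ x : M, ∃ c : Fin n → R, ∑ i, c i • g i = x := fun x =>
    (Submodule.mem_span_range_iff_exists_fun R).mp (by rw [hg]; exact Submodule.mem_top)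
  choose r hr using fun j : Fin n => hmem (φ (g j))
  obtain ⟨s, hs⟩ := hmem m
  obtain ⟨A, hA⟩ : ∃ A : Subalgebra L R, A = Algebra.adjoin L
      (Set.range (fun ij : Fin n × Fin n => r ij.1 ij.2) ∪ Set.range s) := ⟨_, rfl⟩
  have hfinA : Module.Finite L ↥A := by
    rw [hA]
    exact Algebra.finite_adjoin_of_finite_of_isIntegral
      ((Set.finite_range _).union (Set.finite_range _))
      (fun x _ => Algebra.IsIntegral.isIntegral x)
  have hrA : ∀ j i, r j i ∈ A := fun j i => by
    rw [hA]; exact Algebra.subset_adjoin (Or.inl ⟨(j, i), rfl⟩)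
  have hsA : ∀ j, s j ∈ A := fun j => by
    rw [hA]; exact Algebra.subset_adjoin (Or.inr ⟨j, rfl⟩)
  have hApow : ∀ x y : ↥A, (x + y) ^ p = x ^ p + y ^ p := fun x y =>
    Subtype.ext (by push_cast; exact add_pow_expChar _ _ p)
  obtain ⟨π, hπ⟩ : ∃ π : (Fin n → ↥A) →+ M, ∀ a, π a = ∑ j, (a j : R) • g j :=
    ⟨AddMonoidHom.mk' (fun a => ∑ j, (a j : R) • g j) (by
      intro a b
      simp only [Pi.add_apply, Subalgebra.coe_add, add_smul, Finset.sum_add_distrib]),
      fun a => rfl⟩
  obtain ⟨F, hFdef⟩ : ∃ F : (Fin n → ↥A) →+ (Fin n → ↥A),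
      ∀ a i, F a i = ∑ j, (⟨r j i, hrA j i⟩ : ↥A) * (a j) ^ p :=
    ⟨AddMonoidHom.mk' (fun a i => ∑ j, (⟨r j i, hrA j i⟩ : ↥A) * (a j) ^ p) (by
      intro a b
      funext i
      simp only [Pi.add_apply, hApow, mul_add, Finset.sum_add_distrib]), fun a i => rfl⟩
  have hFsemi : ∀ (c : L) (a : Fin n → ↥A), F (c • a) = c ^ p • F a := by
    intro c a
    funext i
    rw [Pi.smul_apply, hFdef, hFdef, Finset.smul_sum]
    refine Finset.sum_congr rfl fun j _ => ?_
    rw [Pi.smul_apply, smul_pow, mul_smul_comm]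
  have hint : ∀ a, π (F a) = φ (π a) := by
    intro a
    rw [hπ, hπ, map_sum]
    have h1 : ∀ j, φ ((a j : R) • g j) = ∑ i, ((a j : R) ^ p * r j i) • g i := by
      intro j
      rw [φ.map_smulₛₗ, frobenius_def, ← hr j, Finset.smul_sum]
      refine Finset.sum_congr rfl fun i _ => ?_
      rw [smul_smul]
    simp only [h1]
    rw [Finset.sum_comm]
    refine Finset.sum_congr rfl fun i _ => ?_
    rw [hFdef, ← Finset.sum_smul]
    congr 1
    push_cast
    exact Finset.sum_congr rfl fun j _ => mul_comm _ _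
  have hI : ∀ a, F a - a ∈ AddSubgroup.comap π
      (φ.toAddMonoidHom - AddMonoidHom.id M).range := by
    intro a
    rw [AddSubgroup.mem_comap, map_sub, hint]
    exact ⟨π a, by rw [AddMonoidHom.sub_apply, AddMonoidHom.id_apply]; rfl⟩
  have : Module.Finite L (Fin n → ↥A) := Module.Finite.pi
  have hall := Helper1.FrobSemi.mem_of_sub_mem p F hFsemi _ hI (fun j => ⟨s j, hsA j⟩)
  rw [AddSubgroup.mem_comap] at hall
  obtain ⟨x, hx⟩ := AddMonoidHom.mem_range.mp hall
  refine ⟨x, ?_⟩
  rw [AddMonoidHom.sub_apply, AddMonoidHom.id_apply, hπ] at hx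
  rw [← hs]
  exact hx

end Groth.Agent.S15362
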