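import Groth.Statements.S15368
import Mathlib
-- import your own Groth.Agent.* helpers here

set_option autoImplicit false
universe u v
open TensorProduct
open CAlg

namespace Groth.Agent.S15368



/-- Let R be a discrete valuation ring with uniformizer π and residue field k, n ≥ 0, M₀ a finitely
generated R-module killed by πⁿ and N₀ a submodule of M₀. Then dim_k(N₀/πN₀) ≤ dim_k(M₀/πM₀). The
published lemma is stated for a finitely presented submodule N of a finitely presented module M over
the quotient of the ring of integers of an algebraic closure of K by the elements of valuation ≥ t,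
and the published proof reduces it by descent to exactly this statement over the valuation ring of a
finite extension of K (comparing π-torsion with π-cotorsion by additivity of length); the row states
that step. -/
theorem result
    (R : Type u) [CommRing R] [IsDomain R] [IsDiscreteValuationRing R] (ϖ : R) (hϖ : Irreducible ϖ) (n : ℕ)
    (M : Type v) [AddCommGroup M] [Module R M] [Module.Finite R M] (hM : ∀ m : M, ϖ ^ n • m = 0)
    (N : Submodule R M) :
    Module.finrank (IsLocalRing.ResidueField R) (IsLocalRing.ResidueField R ⊗[R] N) ≤
      Module.finrank (IsLocalRing.ResidueField R) (IsLocalRing.ResidueField R ⊗[R] M) := by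
  classical
  have hsurj : Function.Surjective
      (TensorProduct.mk R (IsLocalRing.ResidueField R) M 1) :=
    TensorProduct.mk_surjective (R := R) (S := IsLocalRing.ResidueField R) (M := M)
      IsLocalRing.residue_surjective
  let b := Module.finBasis (IsLocalRing.ResidueField R) (IsLocalRing.ResidueField R ⊗[R] M)
  choose m hm using fun i => hsurj (b i)
  have hspan : Submodule.span R (Set.range m) = ⊤ :=
    IsLocalRing.span_eq_top_of_tmul_eq_basis m b (fun i => hm i)
  let φ : (Fin (Module.finrank (IsLocalRing.ResidueField R) (IsLocalRing.ResidueField R ⊗[R] M)) → R)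
      →ₗ[R] M := Fintype.linearCombination R m
  have hφ : Function.Surjective φ := by
    rw [← LinearMap.range_eq_top, Fintype.range_linearCombination, hspan]
  let N' : Submodule R
      (Fin (Module.finrank (IsLocalRing.ResidueField R) (IsLocalRing.ResidueField R ⊗[R] M)) → R) :=
    N.comap φ
  let ψ : N' →ₗ[R] N := φ.restrict (fun x hx => hx)
  have hψ : Function.Surjective ψ := by
    rintro ⟨y, hy⟩
    obtain ⟨x, rfl⟩ := hφ y
    exact ⟨⟨x, hy⟩, rfl⟩
  obtain ⟨n', bN'⟩ := Submodule.basisOfPid (Pi.basisFun R
    (Fin (Module.finrank (IsLocalRing.ResidueField R) (IsLocalRing.ResidueField R ⊗[R] M)))) N'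
  haveI : Module.Free R N' := Module.Free.of_basis bN'
  haveI : Module.Finite R N' := Module.Finite.of_basis bN'
  have hψ' : Function.Surjective (ψ.baseChange (IsLocalRing.ResidueField R)) :=
    LinearMap.lTensor_surjective _ hψ
  have h1 : Module.finrank (IsLocalRing.ResidueField R) (IsLocalRing.ResidueField R ⊗[R] N) ≤
      Module.finrank (IsLocalRing.ResidueField R) (IsLocalRing.ResidueField R ⊗[R] N') :=
    LinearMap.finrank_le_finrank_of_surjective hψ'
  have h2 : Module.finrank (IsLocalRing.ResidueField R) (IsLocalRing.ResidueField R ⊗[R] N') =
      Module.finrank R N' := Module.finrank_baseChange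
  have h3 : Module.finrank R N' ≤ Module.finrank R
      (Fin (Module.finrank (IsLocalRing.ResidueField R) (IsLocalRing.ResidueField R ⊗[R] M)) → R) :=
    Submodule.finrank_le N'
  rw [Module.finrank_fin_fun] at h3
  omega

end Groth.Agent.S15368
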