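import Groth.Statements.S15391
-- import your own Groth.Agent.* helpers here
import Mathlib

set_option autoImplicit false
universe u
open TensorProduct
open TorFree

namespace Groth.Agent.S15391

/-- Let R be a reduced Noetherian commutative ring, M a finitely generated torsion-free R-module (no
non-zero element of M is annihilated by a non-zero-divisor of R), and t an element of M whose image
1 ⊗ t in the fibre κ(p) ⊗_R M vanishes for every prime ideal p of R, κ(p) being the residue field at
p. Then t = 0. This is the affine form of the claim that a global section of a coherent torsion-free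
module on a reduced Noetherian scheme which vanishes in every fibre is zero. -/
theorem result (R : Type u) [CommRing R] [IsReduced R] [IsNoetherianRing R]
    (M : Type u) [AddCommGroup M] [Module R M] [Module.Finite R M] [Module.IsTorsionFree R M]
    (t : M) (ht : ∀ p : PrimeSpectrum R, (1 : p.asIdeal.ResidueField) ⊗ₜ[R] t = (0 : p.asIdeal.ResidueField ⊗[R] M)) :
    t = 0 := by
  classical
  have stepA : ∀ p : Ideal R, p ∈ minimalPrimes R → ∃ s : R, s ∉ p ∧ s • t = 0 := by
    intro p hp
    haveI : p.IsPrime := hp.1.1
    haveI : Ring.KrullDimLE 0 (Localization.AtPrime p) :=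
      Ring.KrullDimLE.of_isLocalization p hp (Localization.AtPrime p)
    have hfield : IsField (Localization.AtPrime p) := Ring.KrullDimLE.isField_of_isReduced
    have hmax : IsLocalRing.maximalIdeal (Localization.AtPrime p) = ⊥ :=
      IsLocalRing.isField_iff_maximalIdeal_eq.mp hfield
    let ι : Localization.AtPrime p →ₗ[R] p.ResidueField :=
      (IsScalarTower.toAlgHom R (Localization.AtPrime p) p.ResidueField).toLinearMap
    have hι : ∀ x, ι x = IsLocalRing.residue (Localization.AtPrime p) x := fun x => rfl
    have hinj : Function.Injective ι := by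
      rw [← LinearMap.ker_eq_bot, LinearMap.ker_eq_bot']
      intro x hx
      rw [hι, IsLocalRing.residue_eq_zero_iff, hmax] at hx
      exact hx
    have hsurj : Function.Surjective ι := fun y => by
      obtain ⟨x, rfl⟩ := IsLocalRing.residue_surjective y
      exact ⟨x, rfl⟩
    let e : Localization.AtPrime p ≃ₗ[R] p.ResidueField := LinearEquiv.ofBijective ι ⟨hinj, hsurj⟩
    have h0 := ht ⟨p, inferInstance⟩
    have h1 : (1 : Localization.AtPrime p) ⊗ₜ[R] t = (0 : Localization.AtPrime p ⊗[R] M) := by
      have h := congrArg (LinearMap.rTensor M e.symm.toLinearMap) h0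
      rw [LinearMap.rTensor_tmul, map_zero] at h
      have e1 : e.symm (1 : p.ResidueField) = 1 := by
        rw [LinearEquiv.symm_apply_eq]
        show (1 : p.ResidueField) = ι 1
        rw [hι, map_one]
      simpa [e1] using h
    have h2 : (TensorProduct.mk R (Localization.AtPrime p) M 1) t = 0 := h1
    rw [IsLocalizedModule.eq_zero_iff p.primeCompl] at h2
    obtain ⟨s, hs⟩ := h2
    exact ⟨s.1, s.2, hs⟩
  have hfin : (minimalPrimes R).Finite := minimalPrimes.finite_of_isNoetherianRing R
  let Ann : Ideal R := LinearMap.ker (LinearMap.toSpanSingleton R M t)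
  have hAnn : ∀ s, s ∈ Ann ↔ s • t = 0 := fun s => by
    simp [Ann, LinearMap.mem_ker]
  have hex : ∃ s ∈ Ann, ∀ p ∈ minimalPrimes R, s ∉ p := by
    by_contra hcon
    push Not at hcon
    have key := (Ideal.subset_union_prime (R := R) (s := hfin.toFinset) (f := fun q => q) ⊥ ⊥
      (fun q hq _ _ => (hfin.mem_toFinset.mp hq).1.1) (I := Ann)).mp (by
      intro s hs
      obtain ⟨p, hp, hsp⟩ := hcon s hs
      simp only [Set.mem_iUnion, Finset.mem_coe, Set.Finite.mem_toFinset]
      exact ⟨p, hp, hsp⟩)
    obtain ⟨p, hp, hle⟩ := key
    have hp' := hfin.mem_toFinset.mp hp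
    obtain ⟨s, hsp, hst⟩ := stepA p hp'
    exact hsp (hle ((hAnn s).mpr hst))
  obtain ⟨s, hsAnn, hs⟩ := hex
  have hreg : IsRegular s := by
    rw [isRegular_iff_mem_nonZeroDivisors, mem_nonZeroDivisors_iff_right]
    intro x hx
    have hxmem : x ∈ sInf (minimalPrimes R) := by
      rw [Submodule.mem_sInf]
      intro p hp
      have h3 : x * s ∈ p := by rw [hx]; exact zero_mem _
      exact (hp.1.1.mem_or_mem h3).resolve_right (hs p hp)
    rw [Ideal.sInf_minimalPrimes] at hxmem
    have h4 : x ∈ nilradical R := hxmem
    rw [nilradical_eq_zero] at h4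
    exact h4
  have hsm : IsSMulRegular M s := Module.IsTorsionFree.isSMulRegular hreg
  apply hsm
  show s • t = s • 0
  rw [smul_zero]
  exact (hAnn s).mp hsAnn

end Groth.Agent.S15391
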