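import Groth.Statements.S15429
import Mathlib
import Groth.Agent.S15428
-- import your own Groth.Agent.* helpers here

set_option autoImplicit false
universe u
open GrSyz

namespace Groth.Agent.S15429

/-- Let k be a field, S = k[x_0, …, x_r] graded by degree and M a ℤ-graded S-module with a finite graded
free resolution 0 → F_m → … → F_0 → M → 0 by free modules of finite rank with homogeneous bases, the
basis vectors of F_i having degrees a_{i,b}. Then there is a polynomial P with rational
coefficients, the Hilbert polynomial of M, with dim_k M_d = P(d) for every integer d such that d ≥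
a_{i,b} − r for all i and b. -/
theorem result (k : Type u) [Field k] (r : ℕ)
    (M : Type u) [AddCommGroup M] [Module k M] [Module (MvPolynomial (Fin (r + 1)) k) M]
    [IsScalarTower k (MvPolynomial (Fin (r + 1)) k) M] [Module.Finite (MvPolynomial (Fin (r + 1)) k) M]
    (ℳ : ℤ → Submodule k M) [DirectSum.Decomposition ℳ] [SetLike.GradedSMul (GrSyz.stdGr k (Fin (r + 1))) ℳ]
    (F : GrSyz.FreeRes (GrSyz.stdGr k (Fin (r + 1))) ℳ) (m : ℕ) (hF : F.HasLengthLE m) :
    ∃ P : Polynomial ℚ, ∀ d : ℤ, (∀ (i : ℕ) (b : Fin (F.rk i)), F.deg i b - (r : ℤ) ≤ d) →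
      ((Module.finrank k ↥(ℳ d) : ℤ) : ℚ) = P.eval (d : ℚ) := by
  classical
  let Q : ℤ → Polynomial ℚ := fun a => Polynomial.C ((r.factorial : ℚ)⁻¹) *
    (ascPochhammer ℚ r).comp (Polynomial.X - Polynomial.C ((a : ℚ) - 1))
  have hQ : ∀ (a d : ℤ), a - (r : ℤ) ≤ d → (Q a).eval (d : ℚ) =
      if a ≤ d then ((Nat.choose (r + (d - a).toNat) r : ℕ) : ℚ) else 0 := by
    intro a d had
    simp only [Q, Polynomial.eval_mul, Polynomial.eval_C, Polynomial.eval_comp,
      Polynomial.eval_sub, Polynomial.eval_X]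
    by_cases h : a ≤ d
    · rw [if_pos h]
      obtain ⟨t, ht⟩ := Int.eq_ofNat_of_zero_le (sub_nonneg.mpr h)
      have e1 : ((d : ℚ) - ((a : ℚ) - 1)) = ((t + 1 : ℕ) : ℚ) := by
        have h2 : (d : ℚ) - (a : ℚ) = (t : ℚ) := by exact_mod_cast congrArg (Int.cast : ℤ → ℚ) ht
        push_cast; linarith
      rw [e1, ← ascPochhammer_eval_cast, ascPochhammer_nat_eq_ascFactorial,
        Nat.ascFactorial_eq_factorial_mul_choose, ht, Int.toNat_natCast]
      push_cast
      have hr : (r.factorial : ℚ) ≠ 0 := by exact_mod_cast r.factorial_ne_zero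
      rw [add_comm r t]
      field_simp
    · rw [if_neg h]
      push Not at h
      obtain ⟨j, hj⟩ := Int.eq_ofNat_of_zero_le (show 0 ≤ a - d - 1 by omega)
      have hjr : j < r := by omega
      have e1 : ((d : ℚ) - ((a : ℚ) - 1)) = -((j : ℕ) : ℚ) := by
        have h2 : (a : ℚ) - (d : ℚ) - 1 = (j : ℚ) := by
          exact_mod_cast congrArg (Int.cast : ℤ → ℚ) hj
        linarith
      rw [e1, ascPochhammer_eval_neg_coe_nat_of_lt hjr]
      simp
  refine ⟨∑ i ∈ Finset.range (m + 1), Polynomial.C ((-1 : ℚ) ^ i) *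
    ∑ b : Fin (F.rk i), Q (F.deg i b), ?_⟩
  intro d hd
  rw [Groth.Agent.S15428.result k r M ℳ F m hF d, Polynomial.eval_finsetSum]
  push_cast
  refine Finset.sum_congr rfl fun i _ => ?_
  rw [Polynomial.eval_mul, Polynomial.eval_C, Polynomial.eval_finsetSum]
  congr 1
  refine Finset.sum_congr rfl fun b _ => ?_
  rw [hQ _ _ (hd i b)]

end Groth.Agent.S15429
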