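import Groth.Statements.S15437
import Mathlib
import Groth.Agent.Lib.lead.Hilb
-- import your own Groth.Agent.* helpers here

set_option autoImplicit false
universe u
open GrSyz

namespace Groth.Agent.S15437

/-- Let k be a field, S = k[x_0, …, x_r] graded by degree and M a ℤ-graded S-module with a finite graded
free resolution F of length at most m by free modules of finite rank with homogeneous bases; write
β_{i,j} for the number of basis vectors of F_i of degree j (the graded Betti numbers when F is
minimal) and B_j = Σ_{i ≤ m} (−1)^i β_{i,j}. Then for every integer d, dim_k M_d = Σ_j B_j C(r + d −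
j, r), where a binomial with d < j counts as zero and only finitely many j contribute; and the B_j
are recovered from the Hilbert function by B_j = dim_k M_j − Σ_{n < j} B_n C(r + j − n, r). (Stated
for any finite graded free resolution; the published statement takes the minimal one.) -/
theorem result (k : Type u) [Field k] (r : ℕ)
    (M : Type u) [AddCommGroup M] [Module k M] [Module (MvPolynomial (Fin (r + 1)) k) M]
    [IsScalarTower k (MvPolynomial (Fin (r + 1)) k) M] [Module.Finite (MvPolynomial (Fin (r + 1)) k) M]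
    (ℳ : ℤ → Submodule k M) [DirectSum.Decomposition ℳ] [SetLike.GradedSMul (GrSyz.stdGr k (Fin (r + 1))) ℳ]
    (F : GrSyz.FreeRes (GrSyz.stdGr k (Fin (r + 1))) ℳ) (m : ℕ) (hF : F.HasLengthLE m) :
    (∀ d : ℤ, (Module.finrank k ↥(ℳ d) : ℤ) =
        ∑ᶠ j : ℤ, (∑ i ∈ Finset.range (m + 1), (-1 : ℤ) ^ i * (F.betti i j : ℤ)) *
          (if j ≤ d then ((Nat.choose (r + (d - j).toNat) r : ℕ) : ℤ) else 0)) ∧
      ∀ j : ℤ, (∑ i ∈ Finset.range (m + 1), (-1 : ℤ) ^ i * (F.betti i j : ℤ)) =
        (Module.finrank k ↥(ℳ j) : ℤ) -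
          ∑ᶠ n : ℤ, (if n < j then (∑ i ∈ Finset.range (m + 1), (-1 : ℤ) ^ i * (F.betti i n : ℤ)) * ((Nat.choose (r + (j - n).toNat) r : ℕ) : ℤ) else 0) := by
  classical
  set T : Finset ℤ := (Finset.range (m + 1)).biUnion (fun i => Finset.univ.image (F.deg i)) with hT
  have hbetti0 : ∀ i ∈ Finset.range (m + 1), ∀ j ∉ T, F.betti i j = 0 := by
    intro i hi j hj
    unfold GrSyz.FreeRes.betti
    rw [Finset.card_eq_zero, Finset.filter_eq_empty_iff]
    intro b _ hb
    apply hj
    rw [hT, Finset.mem_biUnion]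
    exact ⟨i, hi, Finset.mem_image.mpr ⟨b, Finset.mem_univ _, hb⟩⟩
  have hB0 : ∀ j ∉ T, (∑ i ∈ Finset.range (m + 1), (-1 : ℤ) ^ i * (F.betti i j : ℤ)) = 0 := by
    intro j hj
    apply Finset.sum_eq_zero
    intro i hi
    rw [hbetti0 i hi j hj]; simp
  have hL1 : ∀ i ∈ Finset.range (m + 1), ∀ (T' : Finset ℤ), T ⊆ T' → ∀ h : ℤ → ℤ,
      ∑ b : Fin (F.rk i), h (F.deg i b) = ∑ j ∈ T', (F.betti i j : ℤ) * h j := by
    intro i hi T' hTT' h
    rw [← Finset.sum_fiberwise_of_maps_to (s := Finset.univ) (t := T') (g := F.deg i)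
      (fun b _ => hTT' (by
        rw [hT, Finset.mem_biUnion]
        exact ⟨i, hi, Finset.mem_image.mpr ⟨b, Finset.mem_univ _, rfl⟩⟩))
      (fun b => h (F.deg i b))]
    refine Finset.sum_congr rfl fun j _ => ?_
    have h2 : ∀ b ∈ Finset.univ.filter (fun b => F.deg i b = j), h (F.deg i b) = h j := by
      intro b hb
      rw [(Finset.mem_filter.mp hb).2]
    rw [Finset.sum_congr rfl h2, Finset.sum_const, nsmul_eq_mul]
    rfl
  have hA : ∀ (T' : Finset ℤ), T ⊆ T' → ∀ d : ℤ, (Module.finrank k ↥(ℳ d) : ℤ) =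
      ∑ j ∈ T', (∑ i ∈ Finset.range (m + 1), (-1 : ℤ) ^ i * (F.betti i j : ℤ)) *
        (if j ≤ d then ((Nat.choose (r + (d - j).toNat) r : ℕ) : ℤ) else 0) := by
    intro T' hTT' d
    rw [Groth.Agent.LeadHilb.hilbert_formula F d m hF]
    simp_rw [Finset.sum_mul]
    rw [Finset.sum_comm]
    refine Finset.sum_congr rfl fun i hi => ?_
    rw [hL1 i hi T' hTT'
      (fun j => if j ≤ d then ((Nat.choose (r + (d - j).toNat) r : ℕ) : ℤ) else 0),
      Finset.mul_sum]
    refine Finset.sum_congr rfl fun j _ => ?_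
    ring
  constructor
  · intro d
    rw [finsum_eq_sum_of_support_subset _ (s := T) ?_]
    · exact hA T (Finset.Subset.refl _) d
    · intro j hj
      rw [Finset.mem_coe]
      by_contra hjT
      exact (Function.mem_support.mp hj) (by simp only [hB0 j hjT, zero_mul])
  · intro j
    have h1 := hA (insert j T) (Finset.subset_insert j T) j
    have hsplit : ∀ n, (∑ i ∈ Finset.range (m + 1), (-1 : ℤ) ^ i * (F.betti i n : ℤ)) *
        (if n ≤ j then ((Nat.choose (r + (j - n).toNat) r : ℕ) : ℤ) else 0) =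
        (if n = j then (∑ i ∈ Finset.range (m + 1), (-1 : ℤ) ^ i * (F.betti i j : ℤ)) else 0) +
        (if n < j then (∑ i ∈ Finset.range (m + 1), (-1 : ℤ) ^ i * (F.betti i n : ℤ)) *
          ((Nat.choose (r + (j - n).toNat) r : ℕ) : ℤ) else 0) := by
      intro n
      rcases lt_trichotomy n j with h | h | h
      · rw [if_pos h.le, if_neg h.ne, if_pos h, zero_add]
      · subst h
        simp
      · rw [if_neg (not_le.mpr h), if_neg h.ne', if_neg (not_lt.mpr h.le)]; simp
    rw [Finset.sum_congr rfl (fun n _ => hsplit n), Finset.sum_add_distrib, Finset.sum_ite_eq',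
      if_pos (Finset.mem_insert_self j T)] at h1
    rw [finsum_eq_sum_of_support_subset _ (s := insert j T) ?_]
    · rw [h1]; ring
    · intro n hn
      rw [Finset.mem_coe]
      by_contra hnT
      have hnT' : n ∉ T := fun h => hnT (Finset.mem_insert_of_mem h)
      refine (Function.mem_support.mp hn) ?_
      simp only [hB0 n hnT', zero_mul, ite_self]

end Groth.Agent.S15437
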