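import Groth.Statements.S15442
import Mathlib
import Groth.Agent.Lib.lead.Weil
-- import your own Groth.Agent.* helpers here

set_option autoImplicit false
universe u v
open CategoryTheory AlgebraicGeometry
open WeilCoh

namespace Groth.Agent.S15442

/-- Let H^* be a Weil cohomology theory, with coefficient field K of characteristic zero, on nonsingular
connected projective varieties over the algebraically closed field k, and X such a variety. Then the
structure morphism K → H^0(X) is an isomorphism: c ↦ c · 1 is a bijection from K onto the degree-0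
part of the cohomology ring. -/
theorem result (k : Type u) [Field k] [IsAlgClosed k] (K : Type v) [Field K] [CharZero K]
    (T : WeilCoh.Theory k K) (X : WeilCoh.Var k) :
    Function.Bijective (fun c : K =>
      (⟨c • (1 : T.H X), (T.gr X 0).smul_mem c (SetLike.one_mem_graded (T.gr X))⟩ : ↥(T.gr X 0))) := by
  have hone : (1 : T.H X) ∈ T.gr X 0 := SetLike.one_mem_graded (T.gr X)
  let e : ↥(T.gr X 0) := ⟨1, hone⟩
  let φ : K →ₗ[K] ↥(T.gr X 0) := LinearMap.toSpanSingleton K _ e
  have hfun : (fun c : K => (⟨c • (1 : T.H X),
      (T.gr X 0).smul_mem c (SetLike.one_mem_graded (T.gr X))⟩ : ↥(T.gr X 0))) = ⇑φ := by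
    funext c; rfl
  have hdual := T.duality X 0 (2 * (WeilCoh.dim X.obj.left : ℤ)) (by ring)
  have h1 : Module.finrank K ↥(T.gr X 0)
      = Module.finrank K ↥(T.gr X (2 * (WeilCoh.dim X.obj.left : ℤ))) :=
    Module.finrank_of_isPerfPair
      (WeilCoh.pairing K (T.gr X 0) (T.gr X (2 * (WeilCoh.dim X.obj.left : ℤ))) (T.tr X))
  have h2 : Module.finrank K ↥(T.gr X (2 * (WeilCoh.dim X.obj.left : ℤ))) = 1 := by
    rw [(LinearEquiv.ofBijective _ (T.tr_bijective X)).finrank_eq, Module.finrank_self]
  have hne : (1 : T.H X) ≠ 0 := by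
    intro h0
    obtain ⟨x, hx⟩ := (T.tr_bijective X).surjective 1
    have hx0 : (x : T.H X) = 0 := by rw [← mul_one (x : T.H X), h0, mul_zero]
    rw [LinearMap.domRestrict_apply, hx0, map_zero] at hx
    exact zero_ne_one hx
  have hinj : Function.Injective φ := by
    rw [injective_iff_map_eq_zero]
    intro c hc
    by_contra hc0
    apply hne
    have h3 : c • (1 : T.H X) = 0 := congrArg Subtype.val hc
    rcases smul_eq_zero.mp h3 with h | h
    · exact absurd h hc0
    · exact h
  rw [hfun]
  exact ⟨hinj, (LinearMap.injective_iff_surjective_of_finrank_eq_finrank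
    (by rw [Module.finrank_self, h1, h2])).mp hinj⟩

end Groth.Agent.S15442
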