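import Groth.Statements.S15465
import Mathlib


set_option autoImplicit false
universe v u
open HomAlg

namespace Groth.Agent.S15465

open CategoryTheory CategoryTheory.Limits in
theorem aux {C : Type u} [Category.{v} C] [Abelian C] {A₂ A₃ C₁ C₂ : C} (S0 : ShortComplex C)
    (p₁ : A₂ ⟶ A₃) [Epi p₁] (i₁ : S0.X₁ ⟶ A₂) (wA : i₁ ≫ p₁ = 0)
    (i₂ : A₂ ⟶ S0.X₂) [Mono i₂] (π₂ : S0.X₂ ⟶ C₂) [Epi π₂] (wB : i₂ ≫ π₂ = 0)
    (hBex : (ShortComplex.mk i₂ π₂ wB).Exact)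
    (j : C₁ ⟶ C₂) [Mono j] (q : C₂ ⟶ S0.X₃) (wC : j ≫ q = 0)
    (hf0 : S0.f = i₁ ≫ i₂) (hg0 : S0.g = π₂ ≫ q)
    (h₂ : i₂ ≫ S0.g = 0) (h₃ : S0.f ≫ π₂ = 0)
    (f : A₃ ⟶ S0.homology) (g : S0.homology ⟶ C₁)
    (hf : p₁ ≫ f = S0.liftCycles i₂ h₂ ≫ S0.homologyπ)
    (hg : g ≫ j = S0.homologyι ≫ S0.descOpcycles π₂ h₃) :
    ∃ wfg : f ≫ g = 0, (ShortComplex.mk f g wfg).ShortExact := by
  have hcyc : ∀ {T : C} (a : T ⟶ A₂), (a ≫ i₂) ≫ S0.g = 0 := fun a => by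
    rw [Category.assoc, h₂, comp_zero]
  have Lz : ∀ {T : C} (z : T ⟶ S0.X₂) (hz : z ≫ S0.g = 0),
      S0.liftCycles z hz ≫ S0.homologyπ ≫ g ≫ j = z ≫ π₂ := by
    intro T z hz
    rw [hg, S0.homology_π_ι_assoc, S0.liftCycles_i_assoc, S0.p_descOpcycles]
  have e2 : ∀ {T : C} (a₂ : T ⟶ A₂),
      a₂ ≫ S0.liftCycles i₂ h₂ = S0.liftCycles (a₂ ≫ i₂) (hcyc a₂) := fun a₂ => by
    rw [← cancel_mono S0.iCycles, Category.assoc, S0.liftCycles_i, S0.liftCycles_i]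
  have wfg : f ≫ g = 0 := by
    rw [← cancel_epi p₁, ← cancel_mono j]
    have e : (p₁ ≫ f ≫ g) ≫ j = (p₁ ≫ f) ≫ g ≫ j := by simp only [Category.assoc]
    rw [e, hf, Category.assoc, Lz i₂ h₂, wB, comp_zero, zero_comp]
  have hmono : Mono f := by
    rw [Preadditive.mono_iff_cancel_zero]
    intro T a ha
    obtain ⟨T', π, hπ, a₂, ha₂⟩ := surjective_up_to_refinements_of_epi p₁ a
    have h1 : S0.liftCycles (a₂ ≫ i₂) (hcyc a₂) ≫ S0.homologyπ = 0 := by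
      rw [← e2, Category.assoc, ← hf, ← Category.assoc, ← ha₂, Category.assoc, ha, comp_zero]
    obtain ⟨T'', π', hπ', x₁, hx₁⟩ :=
      (S0.liftCycles_comp_homologyπ_eq_zero_iff_up_to_refinements _ _).mp h1
    have hx₁' : (π' ≫ a₂) ≫ i₂ = (x₁ ≫ i₁) ≫ i₂ := by
      rw [Category.assoc, Category.assoc, ← hf0]; exact hx₁
    have h2 : π' ≫ a₂ = x₁ ≫ i₁ := (cancel_mono i₂).mp hx₁'
    have h3 : (π' ≫ π) ≫ a = 0 := by
      rw [Category.assoc, ha₂, ← Category.assoc, h2, Category.assoc, wA, comp_zero]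
    exact (cancel_epi (π' ≫ π)).mp (h3.trans comp_zero.symm)
  have hepi : Epi g := by
    rw [epi_iff_surjective_up_to_refinements]
    intro T c
    obtain ⟨T', π, hπ, b, hb⟩ := surjective_up_to_refinements_of_epi π₂ (c ≫ j)
    have hbz : b ≫ S0.g = 0 := by
      rw [hg0, ← Category.assoc, ← hb, Category.assoc, Category.assoc, wC, comp_zero, comp_zero]
    refine ⟨T', π, hπ, S0.liftCycles b hbz ≫ S0.homologyπ, ?_⟩
    rw [← cancel_mono j, Category.assoc, Category.assoc, Category.assoc, Lz b hbz, hb]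
  have hex : (ShortComplex.mk f g wfg).Exact := by
    rw [ShortComplex.exact_iff_exact_up_to_refinements]
    intro T κ hκ
    have hκ' : (κ : T ⟶ S0.homology) ≫ g = 0 := hκ
    obtain ⟨T', π, hπ, z, hz, hκz⟩ := S0.eq_liftCycles_homologyπ_up_to_refinements κ
    have hzπ : z ≫ π₂ = 0 := by
      have e : (π ≫ κ) ≫ g ≫ j = 0 := by
        rw [Category.assoc, ← Category.assoc κ g j, hκ', zero_comp, comp_zero]
      rw [hκz, Category.assoc, Lz z hz] at e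
      exact e
    obtain ⟨T'', π', hπ', a₂, ha₂⟩ := hBex.exact_up_to_refinements z hzπ
    have ha₂' : π' ≫ z = (a₂ : T'' ⟶ A₂) ≫ i₂ := ha₂
    have e1 : π' ≫ S0.liftCycles z hz = S0.liftCycles ((a₂ : T'' ⟶ A₂) ≫ i₂) (hcyc a₂) := by
      rw [← cancel_mono S0.iCycles, Category.assoc, S0.liftCycles_i, S0.liftCycles_i, ha₂']
    refine ⟨T'', π' ≫ π, inferInstance, (a₂ : T'' ⟶ A₂) ≫ p₁, ?_⟩
    show (π' ≫ π) ≫ κ = ((a₂ : T'' ⟶ A₂) ≫ p₁) ≫ f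
    calc (π' ≫ π) ≫ κ = π' ≫ (π ≫ κ) := Category.assoc _ _ _
      _ = π' ≫ S0.liftCycles z hz ≫ S0.homologyπ := by rw [hκz]
      _ = (π' ≫ S0.liftCycles z hz) ≫ S0.homologyπ := (Category.assoc _ _ _).symm
      _ = ((a₂ : T'' ⟶ A₂) ≫ S0.liftCycles i₂ h₂) ≫ S0.homologyπ := by rw [e1, e2]
      _ = (a₂ : T'' ⟶ A₂) ≫ (p₁ ≫ f) := by rw [hf, Category.assoc]
      _ = ((a₂ : T'' ⟶ A₂) ≫ p₁) ≫ f := (Category.assoc _ _ _).symm
  exact ⟨wfg, { exact := hex, mono_f := hmono, epi_g := hepi }⟩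


open CategoryTheory CategoryTheory.Limits in
/-- In an abelian category let 0 → A₂ → B₂ → C₂ → 0 (maps i₂, π₂), 0 → A₁ → A₂ → A₃ → 0 (maps i₁, p₁)
and 0 → C₁ → C₂ → C₃ → 0 (maps j, q) be short exact sequences, let α = i₁ ≫ i₂ : A₁ → B₂ and β = π₂
≫ q : B₂ → C₃, and let K = ker β / im α be the homology object of the complex A₁ → B₂ → C₃. Let f :
A₃ → K be the map induced by i₂ (the unique map whose composite with p₁ is the homology class of the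
cycle i₂) and g : K → C₁ the map induced by π₂ (the unique map whose composite with j is the map K →
C₂ induced by π₂). Then 0 → A₃ → K → C₁ → 0, with maps f and g, is a short exact sequence. (The
hypotheses w, h₂, h₃ are consequences of i₂ ≫ π₂ = 0, carried so that the maps can be named; the
published statement assumes in addition that the category has enough injective objects, which plays
no role in this assertion.) -/
theorem result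
    {C : Type u} [Category.{v} C] [Abelian C] {A₁ A₂ A₃ B₂ C₁ C₂ C₃ : C}
    (i₁ : A₁ ⟶ A₂) (p₁ : A₂ ⟶ A₃) (wA : i₁ ≫ p₁ = 0) (hA : (ShortComplex.mk i₁ p₁ wA).ShortExact)
    (i₂ : A₂ ⟶ B₂) (π₂ : B₂ ⟶ C₂) (wB : i₂ ≫ π₂ = 0) (hB : (ShortComplex.mk i₂ π₂ wB).ShortExact)
    (j : C₁ ⟶ C₂) (q : C₂ ⟶ C₃) (wC : j ≫ q = 0) (hC : (ShortComplex.mk j q wC).ShortExact)
    (w : (i₁ ≫ i₂) ≫ (π₂ ≫ q) = 0) (h₂ : i₂ ≫ (π₂ ≫ q) = 0) (h₃ : (i₁ ≫ i₂) ≫ π₂ = 0)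
    (f : A₃ ⟶ (CategoryTheory.ShortComplex.mk (i₁ ≫ i₂) (π₂ ≫ q) w).homology)
    (g : (CategoryTheory.ShortComplex.mk (i₁ ≫ i₂) (π₂ ≫ q) w).homology ⟶ C₁)
    (hf : p₁ ≫ f = (CategoryTheory.ShortComplex.mk (i₁ ≫ i₂) (π₂ ≫ q) w).liftCycles i₂ h₂ ≫ (CategoryTheory.ShortComplex.mk (i₁ ≫ i₂) (π₂ ≫ q) w).homologyπ)
    (hg : g ≫ j = (CategoryTheory.ShortComplex.mk (i₁ ≫ i₂) (π₂ ≫ q) w).homologyι ≫ (CategoryTheory.ShortComplex.mk (i₁ ≫ i₂) (π₂ ≫ q) w).descOpcycles π₂ h₃) :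
    ∃ wfg : f ≫ g = 0, (ShortComplex.mk f g wfg).ShortExact := by
  haveI : Epi p₁ := hA.epi_g
  haveI : Mono i₂ := hB.mono_f
  haveI : Epi π₂ := hB.epi_g
  haveI : Mono j := hC.mono_f
  exact aux (CategoryTheory.ShortComplex.mk (i₁ ≫ i₂) (π₂ ≫ q) w) p₁ i₁ wA i₂ π₂ wB hB.exact j q wC
    rfl rfl h₂ h₃ f g hf hg

end Groth.Agent.S15465
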