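import Groth.Statements.S15488
import Mathlib

set_option autoImplicit false
universe u
open IsoNat

namespace Groth.Agent.S15488


/-- the orbit relation of left multiplication by powers of `g` -/
abbrev Sg {G : Type*} [Group G] (g : G) : Setoid G := QuotientGroup.rightRel (Subgroup.zpowers g)


/-- Let A be a nontrivial commutative ring, G a finite group, g an element of G of order ν and l an
element of A with l ^ ν = 1. In the free A-module of functions G → A (the regular representation, g
acting by translation v ↦ v(g·)), the submodule of v with v(g h) = l v(h) for all h is a direct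
summand, free of rank |G| / ν (stated as: free, rank · ν = |G|, and a complementary submodule
exists). (The published statement is over an arbitrary ring and also covers Hom(A^N, −) of the
regular representation, which follows; nontriviality of A is needed for the rank to be meaningful.) -/
theorem result
    (A : Type u) [CommRing A] [Nontrivial A] (G : Type u) [Group G] [Finite G]
    (g : G) (l : A) (hl : l ^ orderOf g = 1) :
    Module.Free A (LinearMap.ker (LinearMap.funLeft A A (fun h : G => g * h) - l • LinearMap.id)) ∧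
      Module.finrank A (LinearMap.ker (LinearMap.funLeft A A (fun h : G => g * h) - l • LinearMap.id)) * orderOf g = Nat.card G ∧
      ∃ E' : Submodule A (G → A), IsCompl (LinearMap.ker (LinearMap.funLeft A A (fun h : G => g * h) - l • LinearMap.id)) E' := by
  classical
  have hν : 0 < orderOf g := orderOf_pos g
  obtain ⟨L, hL⟩ : ∃ L : Aˣ, (L : A) = l := ⟨Units.ofPowEqOne l _ hl hν.ne', rfl⟩
  have hLν : L ^ orderOf g = 1 := by
    apply Units.ext
    rw [Units.val_pow_eq_pow_val, hL, hl, Units.val_one]
  have hWD : ∀ a b : ℤ, g ^ a = g ^ b → L ^ a = L ^ b := by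
    intro a b hab
    have h1 : g ^ (a - b) = 1 := by rw [zpow_sub, hab, mul_inv_cancel]
    obtain ⟨c, hc⟩ := (orderOf_dvd_iff_zpow_eq_one).2 h1
    have h2 : L ^ (a - b) = 1 := by rw [hc, zpow_mul, zpow_natCast, hLν, one_zpow]
    have h3 : a = (a - b) + b := by ring
    rw [h3, zpow_add, h2, one_mul]
  have hout : ∀ h : G, ∃ k : ℤ, g ^ k = h * ((Quotient.mk (Sg g) h).out)⁻¹ := by
    intro h
    have h1 := Quotient.mk_out (s := Sg g) h
    have h2 : h * ((Quotient.mk (Sg g) h).out)⁻¹ ∈ Subgroup.zpowers g :=
      QuotientGroup.rightRel_apply.1 h1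
    exact Subgroup.mem_zpowers_iff.1 h2
  choose ι hι using hout
  have hmk : ∀ h : G, Quotient.mk (Sg g) (g * h) = Quotient.mk (Sg g) h := by
    intro h
    apply Quotient.sound
    show (QuotientGroup.rightRel (Subgroup.zpowers g)) (g * h) h
    rw [QuotientGroup.rightRel_apply]
    have h1 : h * (g * h)⁻¹ = g⁻¹ := by group
    rw [h1]
    exact Subgroup.inv_mem _ (Subgroup.mem_zpowers g)
  have hK : ∀ v : G → A,
      v ∈ LinearMap.ker (LinearMap.funLeft A A (fun h : G => g * h) - l • LinearMap.id) ↔
        ∀ h, v (g * h) = l * v h := by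
    intro v
    rw [LinearMap.mem_ker]
    constructor
    · intro hv h
      have h1 := congrFun hv h
      simp only [LinearMap.sub_apply, LinearMap.funLeft_apply, LinearMap.smul_apply,
        LinearMap.id_apply, Pi.sub_apply, Pi.smul_apply, smul_eq_mul, Pi.zero_apply] at h1
      exact sub_eq_zero.1 h1
    · intro hv
      ext h
      simp only [LinearMap.sub_apply, LinearMap.funLeft_apply, LinearMap.smul_apply,
        LinearMap.id_apply, Pi.sub_apply, Pi.smul_apply, smul_eq_mul, Pi.zero_apply]
      exact sub_eq_zero.2 (hv h)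
  have hKz : ∀ v : G → A, (∀ h, v (g * h) = l * v h) →
      ∀ (i : ℤ) (h : G), v (g ^ i * h) = ((L ^ i : Aˣ) : A) * v h := by
    intro v hv
    have hnat : ∀ (n : ℕ) (h : G), v (g ^ n * h) = ((L ^ n : Aˣ) : A) * v h := by
      intro n
      induction n with
      | zero => intro h; simp
      | succ n ih =>
        intro h
        rw [pow_succ', mul_assoc, hv, ih, pow_succ', Units.val_mul, hL, mul_assoc]
    intro i h
    obtain ⟨n, rfl | rfl⟩ := Int.eq_nat_or_neg i
    · rw [zpow_natCast, zpow_natCast]; exact hnat n h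
    · have hy : g ^ n * (g ^ (-(n : ℤ)) * h) = h := by
        rw [← mul_assoc, ← zpow_natCast, ← zpow_add, add_neg_cancel, zpow_zero, one_mul]
      have h1 := hnat n (g ^ (-(n : ℤ)) * h)
      rw [hy] at h1
      have h2 : (L ^ (-(n : ℤ))) * L ^ n = 1 := by rw [zpow_neg, zpow_natCast, inv_mul_cancel]
      rw [h1, ← mul_assoc, ← Units.val_mul, h2, Units.val_one, one_mul]
  let Ext : (Quotient (Sg g) → A) →ₗ[A] (G → A) :=
    { toFun := fun w h => ((L ^ ι h : Aˣ) : A) * w (Quotient.mk (Sg g) h)
      map_add' := fun w w' => by ext h; simp [mul_add]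
      map_smul' := fun c w => by ext h; simp [mul_left_comm] }
  have hExt : ∀ w h, Ext w h = ((L ^ ι h : Aˣ) : A) * w (Quotient.mk (Sg g) h) := fun w h => rfl
  have F1 : ∀ w, Ext w ∈
      LinearMap.ker (LinearMap.funLeft A A (fun h : G => g * h) - l • LinearMap.id) := by
    intro w
    rw [hK]
    intro h
    have e1 : g ^ ι (g * h) = g ^ (1 + ι h) := by
      rw [hι (g * h), hmk h, zpow_one_add, hι h, mul_assoc]
    rw [hExt, hExt, hmk h, hWD _ _ e1, zpow_one_add, Units.val_mul, hL, mul_assoc]
  have F2 : ∀ w (c : Quotient (Sg g)), Ext w c.out = w c := by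
    intro w c
    have e0 : g ^ ι c.out = g ^ (0 : ℤ) := by
      rw [hι c.out, Quotient.out_eq, mul_inv_cancel, zpow_zero]
    rw [hExt, hWD _ _ e0, zpow_zero, Units.val_one, one_mul, Quotient.out_eq]
  have F3 : ∀ v : G → A, (∀ h, v (g * h) = l * v h) →
      ∀ h, Ext (fun c => v c.out) h = v h := by
    intro v hv h
    rw [hExt]
    show ((L ^ ι h : Aˣ) : A) * v ((Quotient.mk (Sg g) h).out) = v h
    rw [← hKz v hv (ι h) ((Quotient.mk (Sg g) h).out), hι h, inv_mul_cancel_right]
  set K := LinearMap.ker (LinearMap.funLeft A A (fun h : G => g * h) - l • LinearMap.id) with hKdef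
  let Res : (G → A) →ₗ[A] (Quotient (Sg g) → A) :=
    LinearMap.funLeft A A (fun c : Quotient (Sg g) => c.out)
  have hRes : ∀ v c, Res v c = v c.out := fun v c => rfl
  have hExtRes : ∀ x : K, Ext (Res x.1) = x.1 := by
    intro x
    funext h
    exact F3 x.1 ((hK _).1 x.2) h
  let f1 : K →ₗ[A] (Quotient (Sg g) → A) := Res ∘ₗ K.subtype
  have hf1 : ∀ x : K, f1 x = Res x.1 := fun x => rfl
  have hinj : Function.Injective f1 := by
    intro x y hxy
    apply Subtype.ext
    rw [← hExtRes x, ← hExtRes y, ← hf1 x, ← hf1 y, hxy]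
  have hsurj : Function.Surjective f1 := by
    intro w
    refine ⟨⟨Ext w, F1 w⟩, ?_⟩
    funext c
    rw [hf1, hRes]
    exact F2 w c
  let e : K ≃ₗ[A] (Quotient (Sg g) → A) := LinearEquiv.ofBijective f1 ⟨hinj, hsurj⟩
  haveI : Fintype (Quotient (Sg g)) := Fintype.ofFinite _
  refine ⟨Module.Free.of_equiv e.symm, ?_, ?_⟩
  · rw [e.finrank_eq, Module.finrank_fintype_fun_eq_card, ← Nat.card_eq_fintype_card,
      Nat.card_congr (QuotientGroup.quotientRightRelEquivQuotientLeftRel (Subgroup.zpowers g)),
      Subgroup.card_eq_card_quotient_mul_card_subgroup (Subgroup.zpowers g), Nat.card_zpowers]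
  · let f : (G → A) →ₗ[A] K := (Ext ∘ₗ Res).codRestrict K (fun v => F1 (Res v))
    have hf : ∀ x : K, f x = x := by
      intro x
      apply Subtype.ext
      exact hExtRes x
    exact ⟨LinearMap.ker f, LinearMap.isCompl_of_proj hf⟩

end Groth.Agent.S15488
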