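import Groth.Statements.S15495
import Mathlib
-- import your own Groth.Agent.* helpers here

set_option autoImplicit false
universe u
open CAlg

namespace Groth.Agent.S15495

/-- In an Artinian local ring R whose maximal ideal m contains the prime number p, the multiplicative
group 1 + m is annihilated under some power of p: there is n with (1 + x)^(p^n) = 1 for every x in
m. (The published text makes this assertion inside a proof, for Artinian local algebras over the
Witt ring of a perfect field of characteristic p; only p ∈ m and the nilpotence of m are used.) -/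
theorem result
    (R : Type u) [CommRing R] [IsLocalRing R] [IsArtinianRing R]
    (p : ℕ) (hp : p.Prime) (hpm : (p : R) ∈ IsLocalRing.maximalIdeal R) :
    ∃ n : ℕ, ∀ x ∈ IsLocalRing.maximalIdeal R, (1 + x) ^ (p ^ n) = 1 := by
  have hnil : IsNilpotent (IsLocalRing.maximalIdeal R) := by
    rw [← IsLocalRing.jacobson_eq_maximalIdeal (⊥ : Ideal R) bot_ne_top]
    exact IsArtinianRing.isNilpotent_jacobson_bot
  obtain ⟨N, hN⟩ := hnil
  have key : ∀ k : ℕ, ∀ x ∈ IsLocalRing.maximalIdeal R,
      (1 + x) ^ (p ^ k) - 1 ∈ IsLocalRing.maximalIdeal R ^ (k + 1) := by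
    intro k
    induction k with
    | zero => intro x hx; simpa using hx
    | succ k ih =>
      intro x hx
      have h1 := ih x hx
      set a := (1 + x) ^ (p ^ k) with ha
      have ham : a - 1 ∈ IsLocalRing.maximalIdeal R :=
        Ideal.pow_le_self (by omega) h1
      have hsum : (∑ i ∈ Finset.range p, a ^ i) ∈ IsLocalRing.maximalIdeal R := by
        rw [← Ideal.Quotient.eq_zero_iff_mem, map_sum]
        have h1' : Ideal.Quotient.mk (IsLocalRing.maximalIdeal R) a = 1 := by
          have := (Ideal.Quotient.eq_zero_iff_mem).mpr ham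
          rw [map_sub, map_one, sub_eq_zero] at this
          exact this
        simp only [map_pow, h1', one_pow, Finset.sum_const, Finset.card_range, nsmul_eq_mul, mul_one]
        have := (Ideal.Quotient.eq_zero_iff_mem).mpr hpm
        simpa using this
      have : (1 + x) ^ (p ^ (k + 1)) - 1 = (a - 1) * ∑ i ∈ Finset.range p, a ^ i := by
        rw [mul_geom_sum, ha, ← pow_mul, pow_succ]
      rw [this, pow_succ (IsLocalRing.maximalIdeal R) (k + 1)]
      exact Ideal.mul_mem_mul h1 hsum
  refine ⟨N, fun x hx => ?_⟩
  have h := key N x hx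
  have h2 : IsLocalRing.maximalIdeal R ^ (N + 1) ≤ IsLocalRing.maximalIdeal R ^ N :=
    Ideal.pow_le_pow_right (by omega)
  have h3 := h2 h
  rw [hN] at h3
  have h4 : (1 + x) ^ (p ^ N) - 1 = 0 := by simpa using h3
  exact sub_eq_zero.mp h4

end Groth.Agent.S15495
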