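import Groth.Statements.S15496
import Mathlib
-- import your own Groth.Agent.* helpers here

set_option autoImplicit false
universe u
open CAlg

namespace Groth.Agent.S15496

/-- Let R be a local ring with maximal ideal m, p a prime number lying in m, and suppose the residue
field of R is perfect, i.e. every element is a p-th power; let n ≥ 0. Then every unit of R is the
product of a p^n-th power of a unit and an element of 1 + m, and an element of 1 + m which is a
p^n-th power of a unit is a p^n-th power of an element of 1 + m; so the inclusion of 1 + m in the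
unit group induces a bijection between (1 + m)/(1 + m)^(p^n) and Rˣ/(Rˣ)^(p^n). (The published text
derives this equality of quotients, inside a proof, from perfectness of the base field K for all
Artinian local algebras over its Witt ring, whose residue fields need not be perfect; this row
assumes the residue field of R perfect of characteristic p, which the equality needs, and does not
assume R Artinian.) -/
theorem result
    (R : Type u) [CommRing R] [IsLocalRing R] (p : ℕ) (hp : p.Prime)
    (hpm : (p : R) ∈ IsLocalRing.maximalIdeal R)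
    (hperf : ∀ a : IsLocalRing.ResidueField R, ∃ b : IsLocalRing.ResidueField R, b ^ p = a)
    (n : ℕ) :
    (∀ u : Rˣ, ∃ v : Rˣ, ∃ x ∈ IsLocalRing.maximalIdeal R, (u : R) = (v : R) ^ (p ^ n) * (1 + x)) ∧
    (∀ x ∈ IsLocalRing.maximalIdeal R, (∃ v : Rˣ, (v : R) ^ (p ^ n) = 1 + x) →
      ∃ y ∈ IsLocalRing.maximalIdeal R, (1 + y) ^ (p ^ n) = 1 + x) := by
  haveI : Fact p.Prime := ⟨hp⟩
  have hp0 : ((p : ℕ) : IsLocalRing.ResidueField R) = 0 := by
    have h := (IsLocalRing.residue_eq_zero_iff (p : R)).mpr hpm
    simpa using h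
  haveI : CharP (IsLocalRing.ResidueField R) p := (CharP.charP_iff_prime_eq_zero hp).mpr hp0
  have hroot : ∀ (m : ℕ) (a : IsLocalRing.ResidueField R), ∃ b, b ^ (p ^ m) = a := by
    intro m
    induction m with
    | zero => intro a; exact ⟨a, by simp⟩
    | succ m ih =>
      intro a
      obtain ⟨c, hc⟩ := hperf a
      obtain ⟨b, hb⟩ := ih c
      exact ⟨b, by rw [pow_succ, pow_mul, hb, hc]⟩
  constructor
  · intro u
    obtain ⟨b, hb⟩ := hroot n (IsLocalRing.residue R u)
    obtain ⟨w, hw⟩ := IsLocalRing.residue_surjective b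
    have hbne : b ≠ 0 := by
      rintro rfl
      have hu0 : IsLocalRing.residue R (u : R) = 0 := by
        rw [← hb, zero_pow (pow_ne_zero n hp.ne_zero)]
      rw [IsLocalRing.residue_eq_zero_iff] at hu0
      exact (IsLocalRing.notMem_maximalIdeal.mpr u.isUnit) hu0
    have hwu : IsUnit w := by
      rw [← IsLocalRing.notMem_maximalIdeal, ← IsLocalRing.residue_eq_zero_iff, hw]
      exact hbne
    obtain ⟨v, rfl⟩ := hwu
    refine ⟨v, (u : R) * ((v⁻¹ : Rˣ) : R) ^ (p ^ n) - 1, ?_, ?_⟩
    · rw [← IsLocalRing.residue_eq_zero_iff, map_sub, map_mul, map_pow, map_one, ← hb, ← hw,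
        ← mul_pow, ← map_mul, Units.mul_inv, map_one, one_pow, sub_self]
    · have h1 : (v : R) ^ (p ^ n) * ((v⁻¹ : Rˣ) : R) ^ (p ^ n) = 1 := by
        rw [← mul_pow, Units.mul_inv, one_pow]
      calc (u : R) = (u : R) * ((v : R) ^ (p ^ n) * ((v⁻¹ : Rˣ) : R) ^ (p ^ n)) := by
            rw [h1, mul_one]
        _ = (v : R) ^ (p ^ n) * (1 + ((u : R) * ((v⁻¹ : Rˣ) : R) ^ (p ^ n) - 1)) := by ring
  · rintro x hx ⟨v, hv⟩
    have hres : IsLocalRing.residue R (v : R) ^ (p ^ n) = 1 := by
      rw [← map_pow, hv, map_add, map_one, (IsLocalRing.residue_eq_zero_iff x).mpr hx, add_zero]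
    have h1 : (IsLocalRing.residue R (v : R) - 1) ^ (p ^ n) = 0 := by
      rw [sub_pow_char_pow, hres, one_pow, sub_self]
    have h2 : IsLocalRing.residue R (v : R) - 1 = 0 :=
      (pow_eq_zero_iff (pow_ne_zero n hp.ne_zero)).mp h1
    refine ⟨(v : R) - 1, ?_, ?_⟩
    · rw [← IsLocalRing.residue_eq_zero_iff, map_sub, map_one]; exact h2
    · rw [add_sub_cancel, hv]

end Groth.Agent.S15496
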