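import Groth.Statements.S15498
-- import your own Groth.Agent.* helpers here
import Mathlib

set_option autoImplicit false
open NewtonPoly

namespace Groth.Agent.S15498

/-- Let m, n ≥ 1 be coprime, h = m + n, δ the segment from (0,0) to (h,m) (the isoclinic Newton polygon
of slope m/h) and ρ the ordinary polygon with n slopes 0 followed with m slopes 1, so ρ(i) = max(0,
i − n). The integer points (i,j), 0 ≤ i ≤ h, on or above ρ and strictly below δ — that is max(0, i −
n) ≤ j and j·h < i·m — are (m−1)(n−1)/2 + (m+n−1) in number (which equals mn − r for r =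
(m−1)(n−1)/2). (The published text works under m ≥ n > 0 coprime; the inequality m ≥ n is not used
and not assumed.) -/
theorem result
    (m n : ℕ) (hm : 0 < m) (hn : 0 < n) (hmn : Nat.Coprime m n) :
    ((Finset.range (m + n + 1) ×ˢ Finset.range (m + 1)).filter
      (fun ij : ℕ × ℕ => ij.1 ≤ ij.2 + n ∧ ij.2 * (m + n) < ij.1 * m)).card
      = (m - 1) * (n - 1) / 2 + (m + n - 1) := by
  classical
  have hinner : ∀ j, j ∈ Finset.range (m+1) →
      ((Finset.range (m + n + 1)).filter
        (fun i => i ≤ j + n ∧ j * (m + n) < i * m)).card = n - j * n / m := by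
    intro j hj
    have hjm : j ≤ m := by have := Finset.mem_range.mp hj; omega
    have hset : (Finset.range (m + n + 1)).filter (fun i => i ≤ j + n ∧ j * (m + n) < i * m)
        = Finset.Ioc (j + j * n / m) (j + n) := by
      ext i
      simp only [Finset.mem_filter, Finset.mem_range, Finset.mem_Ioc]
      constructor
      · rintro ⟨_, h1, h2⟩
        refine ⟨?_, h1⟩
        by_contra hcon
        push Not at hcon
        have h3 : i * m ≤ (j + j * n / m) * m := Nat.mul_le_mul_right m hcon
        have h4 : j * n / m * m ≤ j * n := Nat.div_mul_le_self _ _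
        rw [add_mul] at h3
        rw [mul_add] at h2
        omega
      · rintro ⟨h1, h2⟩
        refine ⟨by omega, h2, ?_⟩
        have h3 : (j + j * n / m + 1) * m ≤ i * m :=
          Nat.mul_le_mul_right m (Nat.succ_le_of_lt h1)
        have h4 : j * n < m * (j * n / m + 1) := Nat.lt_mul_div_succ _ hm
        rw [mul_add]
        have h5 : (j + j * n / m + 1) * m = j * m + m * (j * n / m + 1) := by ring
        omega
    rw [hset, Nat.card_Ioc]
    omega
  have hcard : ((Finset.range (m + n + 1) ×ˢ Finset.range (m + 1)).filter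
      (fun ij : ℕ × ℕ => ij.1 ≤ ij.2 + n ∧ ij.2 * (m + n) < ij.1 * m)).card
      = ∑ j ∈ Finset.range (m+1), (n - j * n / m) := by
    rw [Finset.card_filter, Finset.sum_product_right]
    refine Finset.sum_congr rfl fun j hj => ?_
    rw [← hinner j hj, Finset.card_filter]
  rw [hcard]
  obtain ⟨m', rfl⟩ : ∃ m', m = m' + 1 := ⟨m - 1, by omega⟩
  obtain ⟨f, hf⟩ : ∃ f : ℕ → ℕ, ∀ j, f j = n - j * n / (m'+1) := ⟨_, fun _ => rfl⟩
  rw [Finset.sum_congr rfl (fun j _ => (hf j).symm)]
  have hpair : ∀ j, 0 < j → j < m' + 1 →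
      j * n / (m'+1) + (m' + 1 - j) * n / (m'+1) = n - 1 := by
    intro j hj0 hjm
    generalize hM : m' + 1 = M at *
    have hMpos : 0 < M := by omega
    have hra : j * n % M ≠ 0 := by
      intro h0
      have hdvd : M ∣ j * n := Nat.dvd_of_mod_eq_zero h0
      have hdvd' : M ∣ j := Nat.Coprime.dvd_of_dvd_mul_right hmn hdvd
      have := Nat.le_of_dvd hj0 hdvd'
      omega
    have e1 := Nat.div_add_mod (j * n) M
    have e2 := Nat.div_add_mod ((M - j) * n) M
    have r1 := Nat.mod_lt (j * n) hMpos
    have r2 := Nat.mod_lt ((M - j) * n) hMpos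
    have esum : j * n + (M - j) * n = M * n := by
      rw [← add_mul]; congr 1; omega
    generalize j * n / M = qa at *
    generalize (M - j) * n / M = qb at *
    have h1 : M * n = M * (qa + qb) + (j * n % M + (M - j) * n % M) := by
      rw [mul_add]; omega
    rcases Nat.lt_trichotomy n (qa + qb + 1) with h | h | h
    · have h3 : M * n ≤ M * (qa + qb) := Nat.mul_le_mul_left M (by omega)
      omega
    · omega
    · have h3 : M * (qa + qb + 2) ≤ M * n := Nat.mul_le_mul_left M (by omega)
      rw [mul_add] at h3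
      omega
  have e0 : f 0 + f (m' + 1 + 1 - 1 - 0) = n := by
    rw [hf, hf, show m' + 1 + 1 - 1 - 0 = m' + 1 by omega,
      Nat.mul_div_cancel_left n (by omega : 0 < m' + 1)]
    simp
  have em : f (m' + 1) + f (m' + 1 + 1 - 1 - (m' + 1)) = n := by
    rw [hf, hf, show m' + 1 + 1 - 1 - (m' + 1) = 0 by omega,
      Nat.mul_div_cancel_left n (by omega : 0 < m' + 1)]
    simp
  have emid : ∀ j ∈ Finset.range m', f (j + 1) + f (m' + 1 + 1 - 1 - (j + 1)) = n + 1 := by
    intro j hj
    have hj' := Finset.mem_range.mp hj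
    have hp := hpair (j+1) (by omega) (by omega)
    rw [hf, hf, show m' + 1 + 1 - 1 - (j + 1) = m' + 1 - (j + 1) by omega]
    have aux : ∀ A B : ℕ, A + B = n - 1 → n - A + (n - B) = n + 1 := by
      intro A B h; omega
    exact aux _ _ hp
  have key : ∑ j ∈ Finset.range (m'+1+1), (f j + f (m' + 1 + 1 - 1 - j))
      = 2 * n + m' * (n + 1) := by
    rw [Finset.sum_range_succ, Finset.sum_range_succ', Finset.sum_congr rfl emid, e0, em,
      Finset.sum_const, Finset.card_range, smul_eq_mul]
    ring
  have h2S : 2 * ∑ j ∈ Finset.range (m'+1+1), f j = 2 * n + m' * (n + 1) := by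
    have hrefl : ∑ j ∈ Finset.range (m'+1+1), f (m' + 1 + 1 - 1 - j)
        = ∑ j ∈ Finset.range (m'+1+1), f j := Finset.sum_range_reflect f (m'+1+1)
    rw [← key, Finset.sum_add_distrib, hrefl]; ring
  have hev : Even (m' * (n - 1)) := by
    rw [Nat.even_mul]
    by_cases h : Even m'
    · exact Or.inl h
    · right
      have hodd : Odd m' := Nat.not_even_iff_odd.mp h
      have h1 : Even (m' + 1) := hodd.add_one
      have hnodd : Odd n := by
        rw [← Nat.not_even_iff_odd]
        intro hne
        exact Nat.not_coprime_of_dvd_of_dvd (by norm_num : 1 < 2)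
          (even_iff_two_dvd.mp h1) (even_iff_two_dvd.mp hne) hmn
      exact Nat.Odd.sub_odd hnodd odd_one
  obtain ⟨c, hc⟩ := hev
  have hP : m' * (n + 1) = m' * (n - 1) + 2 * m' := by
    obtain ⟨n', rfl⟩ : ∃ n', n = n' + 1 := ⟨n - 1, by omega⟩
    simp only [Nat.add_sub_cancel]
    ring
  rw [show m' + 1 - 1 = m' by omega]
  have fin : ∀ S P Q c : ℕ, 2 * S = 2 * n + Q → Q = P + 2 * m' → P = c + c →
      S = P / 2 + (m' + 1 + n - 1) := by
    intro S P Q c h1 h2 h3
    omega
  exact fin _ _ _ _ h2S hP hc

end Groth.Agent.S15498
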