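import Groth.Statements.S15505
import Mathlib
-- import your own Groth.Agent.* helpers here

set_option autoImplicit false
universe u v w
open FrobAlg

namespace Groth.Agent.S15505

/-- Let k be an algebraically closed field of characteristic p, V a k-vector space, φ a p⁻¹-linear
endomorphism of V (additive, φ(a·v) = a^{1/p}·φ(v)) and b a finite basis of V consisting of vectors
fixed by φ. Then the vectors fixed by φ are exactly the combinations of the b_i with coefficients in
the prime field: v is fixed if and only if v = Σ c_i·b_i with all c_i in the image of ℤ/p. -/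
theorem result (p : ℕ) [Fact p.Prime]
    (k : Type u) [Field k] [CharP k p] [IsAlgClosed k]
    (V : Type v) [AddCommGroup V] [Module k V]
    (φ : V →ₛₗ[((frobeniusEquiv k p).symm : k →+* k)] V)
    {ι : Type w} [Fintype ι] (b : Module.Basis ι k V) (hb : ∀ i, φ (b i) = b i) (v : V) :
    φ v = v ↔ ∃ c : ι → ZMod p, v = ∑ i, (ZMod.castHom (dvd_refl p) k (c i)) • b i := by
  classical
  have hφv : ∀ a : ι → k, φ (∑ i, a i • b i) = ∑ i, ((frobeniusEquiv k p).symm (a i)) • b i := by
    intro a
    rw [map_sum]
    refine Finset.sum_congr rfl fun i _ => ?_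
    rw [map_smulₛₗ, hb i]
    rfl
  have hfix : ∀ a : k, (frobeniusEquiv k p).symm a = a ↔ a ^ p = a := by
    intro a
    constructor
    · intro h
      have h1 := frobeniusEquiv_symm_pow_p k p a
      rw [h] at h1
      exact h1
    · intro h
      rw [RingEquiv.symm_apply_eq, frobeniusEquiv_def]; exact h.symm
  constructor
  · intro hv
    have hcoord : ∀ i, (frobeniusEquiv k p).symm (b.repr v i) = b.repr v i := by
      intro i
      have h1 : b.repr (φ v) i = (frobeniusEquiv k p).symm (b.repr v i) := by
        conv_lhs => rw [← b.sum_repr v, hφv, b.repr_sum_self]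
      rw [← h1, hv]
    have hmem : ∀ i, ∃ c : ZMod p, ZMod.castHom (dvd_refl p) k c = b.repr v i := by
      intro i
      have h2 : b.repr v i ∈ (⊥ : Subfield k) :=
        (Subfield.mem_bot_iff_pow_eq_self k p).mpr ((hfix _).mp (hcoord i))
      rw [← ZMod.fieldRange_castHom_eq_bot p] at h2
      exact RingHom.mem_fieldRange.mp h2
    choose c hc using hmem
    refine ⟨c, ?_⟩
    conv_lhs => rw [← b.sum_repr v]
    exact Finset.sum_congr rfl fun i _ => by rw [hc i]
  · rintro ⟨c, rfl⟩
    rw [hφv]
    refine Finset.sum_congr rfl fun i _ => ?_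
    congr 1
    rw [hfix, ← map_pow, ZMod.pow_card]

end Groth.Agent.S15505
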