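import Groth.Statements.S15524
-- import your own Groth.Agent.* helpers here
import Mathlib
import Groth.Statements.S15524
import Groth.Agent.S7825

set_option autoImplicit false
open Finset
open Zeta

namespace Groth.Agent.S15524

/-- Let q ≥ 1 and let α_1, …, α_{2g} be complex numbers permuted by α ↦ q/α, i.e. α_{σ(i)} α_i = q for a
permutation σ of the indices; these play the role of the inverse roots of the numerator of the zeta
function of a curve over a field with q elements, for which #X(F_{q^N}) = q^N + 1 − Σ_i α_i^N. If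
for some d ≥ 1 and real C one has |Σ_i α_i^{dN}| ≤ C q^{dN/2} for every N ≥ 1, then |α_i|^2 = q for
every i (the Riemann hypothesis for the curve). -/
theorem result {g : ℕ} (q : ℕ) (hq : 0 < q)
    (α : Fin (2 * g) → ℂ) (σ : Equiv.Perm (Fin (2 * g))) (hσ : ∀ i, α (σ i) * α i = q)
    (d : ℕ) (hd : 0 < d) (C : ℝ)
    (hC : ∀ N : ℕ, 1 ≤ N → ‖∑ i, α i ^ (d * N)‖ ≤ C * (q : ℝ) ^ ((d : ℝ) * N / 2))
    (i : Fin (2 * g)) : ‖α i‖ ^ 2 = q := by
  have hq0 : (0 : ℝ) < q := by exact_mod_cast hq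
  set s : ℝ := Real.sqrt q with hs
  have hspos : 0 < s := Real.sqrt_pos.mpr hq0
  have hs2 : s ^ 2 = q := Real.sq_sqrt hq0.le
  have hpow : ∀ N : ℕ, (q : ℝ) ^ ((d : ℝ) * N / 2) = (s ^ d) ^ N := by
    intro N
    rw [← pow_mul, hs, Real.sqrt_eq_rpow, ← Real.rpow_natCast, ← Real.rpow_mul hq0.le]
    congr 1
    push_cast
    ring
  have hle : ∀ j, ‖α j‖ ≤ s := by
    intro j
    have h1 := Groth.Agent.S7825.result (fun j => α j ^ d / ((s ^ d : ℝ) : ℂ)) C (fun r hr => by
      have e : ∑ j, (α j ^ d / ((s ^ d : ℝ) : ℂ)) ^ r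
          = (∑ j, α j ^ (d * r)) / (((s ^ d) ^ r : ℝ) : ℂ) := by
        rw [Finset.sum_div]
        refine Finset.sum_congr rfl fun j _ => ?_
        simp only [div_pow, pow_mul, Complex.ofReal_pow]
      rw [e, norm_div, Complex.norm_real,
        Real.norm_of_nonneg (show (0:ℝ) ≤ (s ^ d) ^ r by positivity),
        div_le_iff₀ (show (0:ℝ) < (s ^ d) ^ r by positivity), ← hpow r]
      exact hC r hr) j
    beta_reduce at h1
    rw [norm_div, norm_pow, Complex.norm_real,
      Real.norm_of_nonneg (show (0:ℝ) ≤ s ^ d by positivity),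
      div_le_one (show (0:ℝ) < s ^ d by positivity)] at h1
    exact (pow_le_pow_iff_left₀ (norm_nonneg _) hspos.le hd.ne').mp h1
  have h2 : ‖α (σ i)‖ * ‖α i‖ = s ^ 2 := by
    rw [← norm_mul, hσ i, hs2]
    simp
  have h3 := hle (σ i)
  have h4 := hle i
  have h5 : s ≤ ‖α i‖ := by
    by_contra hlt
    push Not at hlt
    have h6 : ‖α (σ i)‖ * ‖α i‖ < s * s := by
      calc ‖α (σ i)‖ * ‖α i‖ ≤ s * ‖α i‖ := mul_le_mul_of_nonneg_right h3 (norm_nonneg _)
        _ < s * s := mul_lt_mul_of_pos_left hlt hspos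
    rw [h2, sq] at h6
    exact lt_irrefl _ h6
  have h6 : ‖α i‖ = s := le_antisymm h4 h5
  rw [h6, hs2]

end Groth.Agent.S15524
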