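import Groth.Statements.S15525
import Mathlib
-- import your own Groth.Agent.* helpers here

set_option autoImplicit false
universe u
open Zeta

namespace Groth.Agent.S15525
theorem key (x : ℂ) (hx : x ≠ 0) (s : Multiset ℂ)
    (hs : ∀ z ∈ s, z * (starRingEnd ℂ) z = 1) :
    s.prod * (s.map (fun z => x - (starRingEnd ℂ) z)).prod =
      (-x) ^ Multiset.card s * (s.map (fun z => x⁻¹ - z)).prod := by
  induction s using Multiset.induction_on with
  | empty => simp
  | cons a s ih =>
    have ha := hs a (Multiset.mem_cons_self a s)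
    have ih' := ih (fun z hz => hs z (Multiset.mem_cons_of_mem hz))
    rw [Multiset.prod_cons, Multiset.map_cons, Multiset.prod_cons, Multiset.card_cons, pow_succ,
      Multiset.map_cons, Multiset.prod_cons]
    have e : a * (x - (starRingEnd ℂ) a) = (-x) * (x⁻¹ - a) := by
      have e1 : a * (x - (starRingEnd ℂ) a) = a * x - a * (starRingEnd ℂ) a := by ring
      have e2 : (-x) * (x⁻¹ - a) = x * a - x * x⁻¹ := by ring
      rw [e1, e2, ha, mul_inv_cancel₀ hx]; ring
    calc a * s.prod * ((x - (starRingEnd ℂ) a) * (s.map fun z => x - (starRingEnd ℂ) z).prod)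
        = (a * (x - (starRingEnd ℂ) a)) *
          (s.prod * (s.map fun z => x - (starRingEnd ℂ) z).prod) := by ring
      _ = ((-x) * (x⁻¹ - a)) * ((-x) ^ Multiset.card s * (s.map fun z => x⁻¹ - z).prod) := by
          rw [e, ih']
      _ = _ := by ring


/-- Let L be a field with a ring embedding ι into ℂ and M an r × r matrix over L all of whose
eigenvalues, the complex roots of its characteristic polynomial mapped along ι, have absolute value
1. Then every coefficient of the characteristic polynomial of the block-diagonal matrix with blocks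
M and the inverse transpose of M is mapped by ι into ℝ. This is the pointwise content of the
assertion that for a lisse sheaf F pure of weight 0 the sum of F and its dual is real, the Frobenius
of the dual acting by the inverse transpose. -/
theorem result (L : Type u) [Field L] (ι : L →+* ℂ)
    {r : ℕ} (M : Matrix (Fin r) (Fin r) L)
    (hM : ∀ z ∈ ((Matrix.charpoly M).map ι).roots, ‖z‖ = 1) (n : ℕ) :
    (ι ((Matrix.fromBlocks M 0 0 (M⁻¹).transpose).charpoly.coeff n)).im = 0 := by
  classical
  obtain ⟨N, hN⟩ : ∃ N : Matrix (Fin r) (Fin r) ℂ, N = M.map ι := ⟨_, rfl⟩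
  obtain ⟨p, hp⟩ : ∃ p : Polynomial ℂ, p = N.charpoly := ⟨_, rfl⟩
  have hpmap : p = M.charpoly.map ι := by rw [hp, hN]; exact Matrix.charpoly_map M ι
  have hsplit : p.Splits := IsAlgClosed.splits p
  have hmonic : p.Monic := by rw [hp]; exact Matrix.charpoly_monic N
  have hroots : ∀ z ∈ p.roots, ‖z‖ = 1 := by rw [hpmap]; exact hM
  have hz0 : ∀ z ∈ p.roots, z ≠ 0 := by
    intro z hz h0
    have h1 := hroots z hz
    rw [h0, norm_zero] at h1
    exact zero_ne_one h1
  have hconj : ∀ z ∈ p.roots, z * (starRingEnd ℂ) z = 1 := by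
    intro z hz
    rw [Complex.mul_conj, Complex.normSq_eq_norm_sq, hroots z hz]; norm_num
  have hcard : Multiset.card p.roots = r := by
    rw [← hsplit.natDegree_eq_card_roots, hp, Matrix.charpoly_natDegree_eq_dim, Fintype.card_fin]
  have hdetN : N.det = p.roots.prod := by rw [hp]; exact Matrix.det_eq_prod_roots_charpoly N
  have hdetN0 : N.det ≠ 0 := by
    rw [hdetN]
    exact Multiset.prod_ne_zero (fun h => hz0 0 h rfl)
  have hNunit : IsUnit N.det := isUnit_iff_ne_zero.mpr hdetN0
  have hdetM : ι M.det = N.det := by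
    rw [hN]; exact RingHom.map_det ι M
  have hMunit : IsUnit M.det := by
    rw [isUnit_iff_ne_zero]
    intro h0
    apply hdetN0
    rw [← hdetM, h0, map_zero]
  have hNinv : (M⁻¹).map ι = N⁻¹ := by
    symm
    apply Matrix.inv_eq_right_inv
    have h := congrArg ι.mapMatrix (Matrix.mul_nonsing_inv M hMunit)
    rw [map_mul, map_one] at h
    rw [hN]
    exact h
  have hs : ∀ y : ℂ, Matrix.scalar (Fin r) y = y • (1 : Matrix (Fin r) (Fin r) ℂ) := by
    intro y
    ext i j
    simp [Matrix.scalar_apply, Matrix.diagonal_apply, Matrix.one_apply]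
  have hq : (N⁻¹).charpoly = p.map (starRingEnd ℂ) := by
    apply Polynomial.eq_of_infinite_eval_eq
    refine Set.Infinite.mono (s := {x : ℂ | x ≠ 0}) ?_ ?_
    · intro x hx
      have hx0 : x ≠ 0 := hx
      show Polynomial.eval x (N⁻¹).charpoly = Polynomial.eval x (p.map (starRingEnd ℂ))
      have hL : N.det * Polynomial.eval x (N⁻¹).charpoly =
          (-x) ^ r * Polynomial.eval x⁻¹ p := by
        have h1 : N * (Matrix.scalar (Fin r) x - N⁻¹) =
            (-x) • (Matrix.scalar (Fin r) x⁻¹ - N) := by
          rw [hs, hs, mul_sub, Matrix.mul_smul, mul_one, Matrix.mul_nonsing_inv N hNunit,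
            smul_sub, smul_smul, neg_mul, mul_inv_cancel₀ hx0, neg_smul, neg_smul, one_smul]
          abel
        rw [hp, Matrix.eval_charpoly, Matrix.eval_charpoly, ← Matrix.det_mul, h1,
          Matrix.det_smul, Fintype.card_fin]
      have hR : Polynomial.eval x (p.map (starRingEnd ℂ)) =
          (p.roots.map (fun z => x - (starRingEnd ℂ) z)).prod := by
        conv_lhs => rw [hsplit.eq_prod_roots_of_monic hmonic]
        rw [Polynomial.map_multiset_prod, Polynomial.eval_multiset_prod, Multiset.map_map,
          Multiset.map_map]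
        congr 1
        apply Multiset.map_congr rfl
        intro z _
        simp
      have hP : Polynomial.eval x⁻¹ p = (p.roots.map (fun z => x⁻¹ - z)).prod :=
        hsplit.eval_eq_prod_roots_of_monic hmonic x⁻¹
      have hk := key x hx0 p.roots hconj
      rw [hcard, ← hdetN, ← hR, ← hP, ← hL] at hk
      exact (mul_left_cancel₀ hdetN0 hk).symm
    · exact (Set.finite_singleton (0 : ℂ)).infinite_compl
  have hPmap : ((Matrix.fromBlocks M 0 0 (M⁻¹).transpose).charpoly).map ι =
      p * p.map (starRingEnd ℂ) := by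
    rw [Matrix.charpoly_fromBlocks_zero₁₂, Matrix.charpoly_transpose, Polynomial.map_mul,
      ← Matrix.charpoly_map, ← Matrix.charpoly_map, hNinv, ← hN, ← hp, hq]
  have hinv : (p * p.map (starRingEnd ℂ)).map (starRingEnd ℂ) = p * p.map (starRingEnd ℂ) := by
    rw [Polynomial.map_mul, Polynomial.map_map]
    have h1 : (starRingEnd ℂ).comp (starRingEnd ℂ) = RingHom.id ℂ := by
      ext z <;> simp
    rw [h1, Polynomial.map_id, mul_comm]
  have hc : (starRingEnd ℂ) (ι ((Matrix.fromBlocks M 0 0 (M⁻¹).transpose).charpoly.coeff n)) =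
      ι ((Matrix.fromBlocks M 0 0 (M⁻¹).transpose).charpoly.coeff n) := by
    rw [← Polynomial.coeff_map, ← Polynomial.coeff_map, hPmap, hinv]
  exact Complex.conj_eq_iff_im.mp hc

end Groth.Agent.S15525
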