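import Groth.Statements.S15526
-- import your own Groth.Agent.* helpers here
import Mathlib

set_option autoImplicit false
universe u
open MvPolynomial
open CAlg

namespace Groth.Agent.S15526

/-- Let R be a commutative ring, P ∈ R[x] a monic polynomial of degree 2g + 1, and A = R[x, y, z]/(y^2 −
P(x), yz − 1). Then every element of A is a finite sum Σ_n Q_n(x) y^n over integers n, negative
powers of y meaning powers of z, with each Q_n ∈ R[x] of degree at most 2g: the R-submodule of A
spanned by the classes of x^i y^n and x^i z^n with i ≤ 2g and n ≥ 0 is all of A. (The published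
statement takes for R the ring of Witt vectors of a finite field and for P a lift of a separable
polynomial; the argument uses only that P is monic of degree 2g + 1.) -/
theorem result (R : Type u) [CommRing R] (g : ℕ)
    (P : Polynomial R) (hP : P.Monic) (hdeg : P.natDegree = 2 * g + 1) :
    Submodule.span R {a : MvPolynomial (Fin 3) R ⧸
        Ideal.span ({X 1 ^ 2 - Polynomial.aeval (X 0 : MvPolynomial (Fin 3) R) P, X 1 * X 2 - 1} :
          Set (MvPolynomial (Fin 3) R)) |
        ∃ i n : ℕ, i ≤ 2 * g ∧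
          (a = Ideal.Quotient.mk _ (X 0 ^ i * X 1 ^ n) ∨ a = Ideal.Quotient.mk _ (X 0 ^ i * X 2 ^ n))} =
      ⊤ := by
  classical
  generalize hJ : Ideal.span ({X 1 ^ 2 - Polynomial.aeval (X 0 : MvPolynomial (Fin 3) R) P,
    X 1 * X 2 - 1} : Set (MvPolynomial (Fin 3) R)) = J
  obtain ⟨x, hx⟩ : ∃ x : MvPolynomial (Fin 3) R ⧸ J, x = Ideal.Quotient.mk J (X 0) := ⟨_, rfl⟩
  obtain ⟨y, hy⟩ : ∃ y : MvPolynomial (Fin 3) R ⧸ J, y = Ideal.Quotient.mk J (X 1) := ⟨_, rfl⟩
  obtain ⟨z, hz⟩ : ∃ z : MvPolynomial (Fin 3) R ⧸ J, z = Ideal.Quotient.mk J (X 2) := ⟨_, rfl⟩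
  have hset : {a : MvPolynomial (Fin 3) R ⧸ J | ∃ i n : ℕ, i ≤ 2 * g ∧
      (a = Ideal.Quotient.mk J (X 0 ^ i * X 1 ^ n) ∨ a = Ideal.Quotient.mk J (X 0 ^ i * X 2 ^ n))}
      = {a : MvPolynomial (Fin 3) R ⧸ J | ∃ i n : ℕ, i ≤ 2 * g ∧
        (a = x ^ i * y ^ n ∨ a = x ^ i * z ^ n)} := by
    ext a
    simp only [map_mul, map_pow, ← hx, ← hy, ← hz]
  rw [hset]
  obtain ⟨S, hS⟩ : ∃ S : Submodule R (MvPolynomial (Fin 3) R ⧸ J), S = Submodule.span R
      {a : MvPolynomial (Fin 3) R ⧸ J | ∃ i n : ℕ, i ≤ 2 * g ∧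
        (a = x ^ i * y ^ n ∨ a = x ^ i * z ^ n)} := ⟨_, rfl⟩
  rw [← hS]
  -- relations
  have hyz : y * z = 1 := by
    have h : Ideal.Quotient.mk J (X 1 * X 2 - 1) = 0 := by
      rw [Ideal.Quotient.eq_zero_iff_mem, ← hJ]
      exact Ideal.subset_span (by simp)
    rw [map_sub, map_mul, map_one, sub_eq_zero, ← hy, ← hz] at h
    exact h
  have hy2 : y ^ 2 = Polynomial.aeval x P := by
    have h : Ideal.Quotient.mk J
        (X 1 ^ 2 - Polynomial.aeval (X 0 : MvPolynomial (Fin 3) R) P) = 0 := by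
      rw [Ideal.Quotient.eq_zero_iff_mem, ← hJ]
      exact Ideal.subset_span (by simp)
    rw [map_sub, map_pow, sub_eq_zero, ← hy] at h
    rw [h, hx]
    exact (Polynomial.aeval_algHom_apply (Ideal.Quotient.mkₐ R J) (X 0) P).symm
  have hc : P.coeff (2 * g + 1) = 1 := by rw [← hdeg]; exact hP.coeff_natDegree
  have hx_top : x ^ (2 * g + 1)
      = y ^ 2 - ∑ l ∈ Finset.range (2 * g + 1), P.coeff l • x ^ l := by
    rw [hy2, Polynomial.aeval_eq_sum_range, hdeg, Finset.sum_range_succ, hc, one_smul]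
    abel
  -- membership of generators
  have hBy : ∀ i n, i ≤ 2 * g → x ^ i * y ^ n ∈ S := by
    intro i n hi
    rw [hS]
    exact Submodule.subset_span ⟨i, n, hi, Or.inl rfl⟩
  have hBz : ∀ i n, i ≤ 2 * g → x ^ i * z ^ n ∈ S := by
    intro i n hi
    rw [hS]
    exact Submodule.subset_span ⟨i, n, hi, Or.inr rfl⟩
  have closure_of_gen : ∀ u : MvPolynomial (Fin 3) R ⧸ J,
      (∀ i n, i ≤ 2 * g → u * (x ^ i * y ^ n) ∈ S) →
      (∀ i n, i ≤ 2 * g → u * (x ^ i * z ^ n) ∈ S) → ∀ s ∈ S, u * s ∈ S := by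
    intro u hu1 hu2 s hs
    rw [hS] at hs
    induction hs using Submodule.span_induction with
    | mem b hb =>
      obtain ⟨i, n, hi, rfl | rfl⟩ := hb
      · exact hu1 i n hi
      · exact hu2 i n hi
    | zero => rw [mul_zero]; exact zero_mem _
    | add a b _ _ ha hb => rw [mul_add]; exact add_mem ha hb
    | smul r a _ ha => rw [mul_smul_comm]; exact Submodule.smul_mem _ _ ha
  have hyS : ∀ s ∈ S, y * s ∈ S := by
    apply closure_of_gen
    · intro i n hi
      have e : y * (x ^ i * y ^ n) = x ^ i * y ^ (n + 1) := by ring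
      rw [e]; exact hBy i (n+1) hi
    · intro i n hi
      cases n with
      | zero =>
        have e : y * (x ^ i * z ^ 0) = x ^ i * y ^ 1 := by ring
        rw [e]; exact hBy i 1 hi
      | succ m =>
        have e : y * (x ^ i * z ^ (m + 1)) = x ^ i * z ^ m * (y * z) := by ring
        rw [e, hyz, mul_one]; exact hBz i m hi
  have hzS : ∀ s ∈ S, z * s ∈ S := by
    apply closure_of_gen
    · intro i n hi
      cases n with
      | zero =>
        have e : z * (x ^ i * y ^ 0) = x ^ i * z ^ 1 := by ring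
        rw [e]; exact hBz i 1 hi
      | succ m =>
        have e : z * (x ^ i * y ^ (m + 1)) = x ^ i * y ^ m * (y * z) := by ring
        rw [e, hyz, mul_one]; exact hBy i m hi
    · intro i n hi
      have e : z * (x ^ i * z ^ n) = x ^ i * z ^ (n + 1) := by ring
      rw [e]; exact hBz i (n+1) hi
  have hxS : ∀ s ∈ S, x * s ∈ S := by
    apply closure_of_gen
    · intro i n hi
      rcases Nat.lt_or_ge i (2*g) with h | h
      · have e : x * (x ^ i * y ^ n) = x ^ (i+1) * y ^ n := by ring
        rw [e]; exact hBy (i+1) n (by omega)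
      · have hi' : i = 2 * g := by omega
        subst hi'
        have e : x * (x ^ (2*g) * y ^ n) = x ^ (2*g+1) * y ^ n := by ring
        rw [e, hx_top, sub_mul, Finset.sum_mul]
        refine sub_mem ?_ (Submodule.sum_mem _ fun l hl => ?_)
        · have e2 : y ^ 2 * y ^ n = x ^ 0 * y ^ (n+2) := by ring
          rw [e2]; exact hBy 0 (n+2) (Nat.zero_le _)
        · rw [smul_mul_assoc]
          exact Submodule.smul_mem _ _ (hBy l n (by have := Finset.mem_range.mp hl; omega))
    · intro i n hi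
      rcases Nat.lt_or_ge i (2*g) with h | h
      · have e : x * (x ^ i * z ^ n) = x ^ (i+1) * z ^ n := by ring
        rw [e]; exact hBz (i+1) n (by omega)
      · have hi' : i = 2 * g := by omega
        subst hi'
        have e : x * (x ^ (2*g) * z ^ n) = x ^ (2*g+1) * z ^ n := by ring
        rw [e, hx_top, sub_mul, Finset.sum_mul]
        refine sub_mem ?_ (Submodule.sum_mem _ fun l hl => ?_)
        · match n with
          | 0 =>
            have e2 : y ^ 2 * z ^ 0 = x ^ 0 * y ^ 2 := by ring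
            rw [e2]; exact hBy 0 2 (Nat.zero_le _)
          | 1 =>
            have e2 : y ^ 2 * z ^ 1 = x ^ 0 * y ^ 1 * (y * z) := by ring
            rw [e2, hyz, mul_one]; exact hBy 0 1 (Nat.zero_le _)
          | (m+2) =>
            have e2 : y ^ 2 * z ^ (m+2) = x ^ 0 * z ^ m * ((y * z) * (y * z)) := by ring
            rw [e2, hyz, mul_one, mul_one]; exact hBz 0 m (Nat.zero_le _)
        · rw [smul_mul_assoc]
          exact Submodule.smul_mem _ _ (hBz l n (by have := Finset.mem_range.mp hl; omega))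
  have hS1 : (1 : MvPolynomial (Fin 3) R ⧸ J) ∈ S := by
    have := hBy 0 0 (Nat.zero_le _)
    simpa using this
  rw [eq_top_iff]
  rintro q -
  obtain ⟨f, rfl⟩ := Ideal.Quotient.mk_surjective q
  induction f using MvPolynomial.induction_on with
  | C a =>
    have h := map_smul (Ideal.Quotient.mkₐ R J) a (1 : MvPolynomial (Fin 3) R)
    rw [map_one] at h
    have e : Ideal.Quotient.mk J (C a) = a • (1 : MvPolynomial (Fin 3) R ⧸ J) := by
      rw [← h, MvPolynomial.smul_eq_C_mul, mul_one]; rfl
    rw [e]; exact Submodule.smul_mem _ _ hS1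
  | add p q hp hq => rw [map_add]; exact add_mem hp hq
  | mul_X p j hp =>
    rw [map_mul, mul_comm]
    fin_cases j
    · have := hxS _ hp; rw [hx] at this; exact this
    · have := hyS _ hp; rw [hy] at this; exact this
    · have := hzS _ hp; rw [hz] at this; exact this

end Groth.Agent.S15526
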