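import Groth.Statements.S15543
-- import your own Groth.Agent.* helpers here
import Mathlib
import Groth.Agent.Lib.helper7.LocConstr

set_option autoImplicit false
open CategoryTheory AlgebraicGeometry
universe u
open ProCons

namespace Groth.Agent.S15543

/-- The ind-constructible case. Let f : X ⟶ Y be any morphism of schemes and T an ind-constructible
subset of Y (locally on Y a union of locally constructible subsets). Then the preimage of T under f
is ind-constructible in X. -/
theorem result {X Y : Scheme.{u}} (f : X ⟶ Y) (T : Set Y)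
    (hT : ProCons.IsIndConstructible T) :
    ProCons.IsIndConstructible (f.base ⁻¹' T) := by
  intro x
  obtain ⟨U, hU, hxU, S, hS, hE⟩ := hT (f.base x)
  let U' : Y.Opens := ⟨U, hU⟩
  refine ⟨f.base ⁻¹' U, hU.preimage f.continuous, hxU, ?_⟩
  let g : ↥(f.base ⁻¹' U) → ↥U := fun z => (f ∣_ U').base z
  have hg : ∀ z, (g z).1 = f.base z.1 := fun z => morphismRestrict_base_coe f U' z
  refine ⟨(fun T' => g ⁻¹' T') '' S, ?_, ?_⟩
  · rintro _ ⟨T', hT', rfl⟩
    exact Groth.Agent.Lib.helper7.isLocallyConstructible_preimage (f ∣_ U') (hS T' hT')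
  · ext z
    have h1 : g z ∈ (Subtype.val ⁻¹' T : Set ↥U) ↔ z ∈ (Subtype.val ⁻¹' (f.base ⁻¹' T) : Set ↥(f.base ⁻¹' U)) := by
      simp only [Set.mem_preimage, hg]
    rw [← h1, hE]
    simp only [Set.mem_sUnion, Set.mem_image]
    constructor
    · rintro ⟨t, ht, hz⟩
      exact ⟨g ⁻¹' t, ⟨t, ht, rfl⟩, hz⟩
    · rintro ⟨_, ⟨t, ht, rfl⟩, hz⟩
      exact ⟨t, ht, hz⟩

end Groth.Agent.S15543
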