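import Groth.Statements.S15546
import Mathlib
-- import your own Groth.Agent.* helpers here

set_option autoImplicit false
open scoped TensorProduct
universe u
open Unram

namespace Groth.Agent.S15546



/-- Let E be a finite extension of a field k which is not separable over k, and K an algebraic closure
of k. Then E ⊗_k K has a nonzero nilpotent element. -/
theorem result (k E K : Type u) [Field k] [Field E]
    [Algebra k E] [FiniteDimensional k E] [Field K] [Algebra k K] [IsAlgClosure k K]
    (h : ¬ Algebra.IsSeparable k E) : ∃ x : E ⊗[k] K, x ≠ 0 ∧ IsNilpotent x := by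
  classical
  haveI : IsAlgClosed K := IsAlgClosure.isAlgClosed k
  obtain ⟨α, hα⟩ : ∃ α : E, ¬ IsSeparable k α := by
    by_contra hcon
    push Not at hcon
    exact h ⟨hcon⟩
  have hint : IsIntegral k α := Algebra.IsIntegral.isIntegral α
  obtain ⟨f, hf⟩ : ∃ f : Polynomial k, f = minpoly k α := ⟨_, rfl⟩
  have hf0 : f ≠ 0 := by rw [hf]; exact minpoly.ne_zero hint
  have hnsep : ¬ f.Separable := by rw [hf]; exact hα
  have hli : LinearIndependent k fun i : Fin f.natDegree => α ^ (i : ℕ) := by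
    rw [hf]; exact linearIndependent_pow α
  obtain ⟨fK, hfK⟩ : ∃ fK : Polynomial K, fK = f.map (algebraMap k K) := ⟨_, rfl⟩
  have hfK0 : fK ≠ 0 := by rw [hfK]; exact Polynomial.map_ne_zero hf0
  have hnsepK : ¬ fK.Separable := by rw [hfK, Polynomial.separable_map]; exact hnsep
  have hsplit : fK.Splits := IsAlgClosed.splits fK
  have hnodup : ¬ fK.roots.Nodup := by
    rw [Polynomial.nodup_roots_iff_of_splits hfK0 hsplit]; exact hnsepK
  rw [Multiset.nodup_iff_count_le_one] at hnodup
  push Not at hnodup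
  obtain ⟨a, ha⟩ := hnodup
  rw [Polynomial.count_roots] at ha
  have hdvd : (Polynomial.X - Polynomial.C a) ^ 2 ∣ fK :=
    (Polynomial.le_rootMultiplicity_iff hfK0).1 ha
  obtain ⟨g, hg⟩ := hdvd
  obtain ⟨hh, hhdef⟩ : ∃ hh : Polynomial K, hh = (Polynomial.X - Polynomial.C a) * g := ⟨_, rfl⟩
  have hfact : fK = (Polynomial.X - Polynomial.C a) * hh := by rw [hg, hhdef]; ring
  have hh0 : hh ≠ 0 := by
    intro h0
    apply hfK0
    rw [hfact, h0, mul_zero]
  have hsq : hh ^ 2 = fK * g := by rw [hg, hhdef]; ring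
  have hdeg : hh.natDegree + 1 = f.natDegree := by
    have h1 : fK.natDegree = f.natDegree := by rw [hfK]; exact Polynomial.natDegree_map _
    have h3 : fK.natDegree = (Polynomial.X - Polynomial.C a).natDegree + hh.natDegree := by
      rw [hfact]; exact Polynomial.natDegree_mul (Polynomial.X_sub_C_ne_zero a) hh0
    rw [Polynomial.natDegree_X_sub_C] at h3
    omega
  let ι : K →+* E ⊗[k] K := (Algebra.TensorProduct.includeRight : K →ₐ[k] E ⊗[k] K).toRingHom
  let t : E ⊗[k] K := α ⊗ₜ[k] (1 : K)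
  let ψ : Polynomial K →+* E ⊗[k] K := Polynomial.eval₂RingHom ι t
  have hψf : ψ fK = 0 := by
    show Polynomial.eval₂ ι t fK = 0
    rw [hfK, Polynomial.eval₂_map]
    have hcomp : ι.comp (algebraMap k K) =
        (Algebra.TensorProduct.includeLeft : E →ₐ[k] E ⊗[k] K).toRingHom.comp (algebraMap k E) := by
      ext c
      show (Algebra.TensorProduct.includeRight : K →ₐ[k] E ⊗[k] K) (algebraMap k K c) =
        (Algebra.TensorProduct.includeLeft : E →ₐ[k] E ⊗[k] K) (algebraMap k E c)
      rw [AlgHom.commutes, AlgHom.commutes]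
    rw [hcomp]
    have h5 : Polynomial.eval₂ ((Algebra.TensorProduct.includeLeft : E →ₐ[k] E ⊗[k] K).toRingHom.comp
        (algebraMap k E)) t f =
        (Algebra.TensorProduct.includeLeft : E →ₐ[k] E ⊗[k] K).toRingHom
          (Polynomial.eval₂ (algebraMap k E) α f) := by
      rw [Polynomial.hom_eval₂]; rfl
    rw [h5, ← Polynomial.aeval_def, hf, minpoly.aeval, map_zero]
  refine ⟨ψ hh, ?_, ⟨2, by rw [← map_pow, hsq, map_mul, hψf, zero_mul]⟩⟩
  intro hz
  have hmn : hh.natDegree < f.natDegree := by omega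
  obtain ⟨G', hG'⟩ := (Finsupp.linearCombination k
    (fun i : Fin f.natDegree => α ^ (i : ℕ))).exists_leftInverse_of_injective
      (LinearMap.ker_eq_bot.2 hli)
  let lam : E →ₗ[k] k := (Finsupp.lapply (⟨hh.natDegree, hmn⟩ : Fin f.natDegree)).comp G'
  have hlam : ∀ i : Fin f.natDegree,
      lam (α ^ (i : ℕ)) = if i = ⟨hh.natDegree, hmn⟩ then 1 else 0 := by
    intro i
    have h1 : G' (α ^ (i : ℕ)) = Finsupp.single i 1 := by
      have h2 := LinearMap.congr_fun hG' (Finsupp.single i 1)
      simpa [Finsupp.linearCombination_single] using h2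
    show (G' (α ^ (i : ℕ))) ⟨hh.natDegree, hmn⟩ = _
    rw [h1, Finsupp.single_apply]
  let L : E ⊗[k] K →ₗ[k] K := (TensorProduct.lid k K).toLinearMap.comp (lam.rTensor K)
  have hL : ∀ (e : E) (c : K), L (e ⊗ₜ[k] c) = lam e • c := by
    intro e c
    show (TensorProduct.lid k K) ((lam.rTensor K) (e ⊗ₜ[k] c)) = _
    rw [LinearMap.rTensor_tmul, TensorProduct.lid_tmul]
  have hψ : ψ hh = ∑ i ∈ Finset.range f.natDegree, (α ^ i) ⊗ₜ[k] (hh.coeff i) := by
    show Polynomial.eval₂ ι t hh = _
    rw [Polynomial.eval₂_eq_sum_range' ι hmn t]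
    refine Finset.sum_congr rfl fun i _ => ?_
    show (1 : E) ⊗ₜ[k] (hh.coeff i) * (α ⊗ₜ[k] (1 : K)) ^ i = _
    rw [Algebra.TensorProduct.tmul_pow, Algebra.TensorProduct.tmul_mul_tmul, one_mul, one_pow,
      mul_one]
  have hLz : L (ψ hh) = hh.coeff hh.natDegree := by
    rw [hψ, map_sum, Finset.sum_eq_single hh.natDegree]
    · rw [hL]
      have h6 := hlam ⟨hh.natDegree, hmn⟩
      rw [if_pos rfl] at h6
      have h7 : lam (α ^ hh.natDegree) = 1 := h6
      rw [h7, one_smul]
    · intro i hi him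
      rw [hL]
      have h6 := hlam ⟨i, Finset.mem_range.1 hi⟩
      rw [if_neg (by intro h8; apply him; exact congrArg Fin.val h8)] at h6
      have h7 : lam (α ^ i) = 0 := h6
      rw [h7, zero_smul]
    · intro hm'
      exact absurd (Finset.mem_range.2 hmn) hm'
  rw [hz, map_zero] at hLz
  exact hh0 (Polynomial.leadingCoeff_eq_zero.1 hLz.symm)

end Groth.Agent.S15546
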