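import Groth.Statements.S15557
-- import your own Groth.Agent.* helpers here

set_option autoImplicit false
universe v u
open CategoryTheory
open CohDer

namespace Groth.Agent.S15557

open CategoryTheory.Pretriangulated in
/-- Let T = (X, Y, Z) and T' = (X', Y', Z') be distinguished triangles in a pretriangulated category and
assume that every morphism X → Z' and every morphism X → Z'[-1] is zero. Then composing with the
first map X' → Y' of T' is a bijection Hom(X, X') → Hom(X, Y'), and composing with the second map Y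
→ Z of T is a bijection Hom(Z, Z') → Hom(Y, Z'). (The published lemma is for triangulated
categories; the octahedral axiom plays no role.) -/
theorem result {D : Type u} [Category.{v} D] [Preadditive D]
    [Limits.HasZeroObject D] [HasShift D ℤ] [∀ n : ℤ, (shiftFunctor D n).Additive] [Pretriangulated D]
    (T T' : Triangle D) (hT : T ∈ distinguishedTriangles) (hT' : T' ∈ distinguishedTriangles)
    (hXZ : ∀ u : T.obj₁ ⟶ T'.obj₃, u = 0)
    (hXZ' : ∀ u : T.obj₁ ⟶ (shiftFunctor D (-1 : ℤ)).obj T'.obj₃, u = 0) :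
    Function.Bijective (fun u : T.obj₁ ⟶ T'.obj₁ => u ≫ T'.mor₁) ∧
      Function.Bijective (fun w : T.obj₃ ⟶ T'.obj₃ => T.mor₂ ≫ w) := by
  constructor
  · constructor
    · intro u₁ u₂ h
      have h0 : (u₁ - u₂) ≫ T'.invRotate.mor₂ = 0 := by
        change (u₁ - u₂) ≫ T'.mor₁ = 0
        rw [Preadditive.sub_comp]
        exact sub_eq_zero.mpr h
      obtain ⟨v, hv⟩ := Triangle.coyoneda_exact₂ _ (inv_rot_of_distTriang _ hT') (u₁ - u₂) h0
      have hv0 : v = 0 := hXZ' v
      rw [hv0, Limits.zero_comp] at hv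
      exact sub_eq_zero.mp hv
    · intro w
      have hw : w ≫ T'.mor₂ = 0 := hXZ _
      obtain ⟨u, hu⟩ := Triangle.coyoneda_exact₂ _ hT' w hw
      exact ⟨u, hu.symm⟩
  · constructor
    · intro w₁ w₂ h
      have h0 : T.mor₂ ≫ (w₁ - w₂) = 0 := by
        rw [Preadditive.comp_sub]
        exact sub_eq_zero.mpr h
      obtain ⟨v, hv⟩ := Triangle.yoneda_exact₃ _ hT (w₁ - w₂) h0
      have hv1 : (shiftShiftNeg T.obj₁ (1 : ℤ)).inv ≫ v⟦(-1 : ℤ)⟧' = 0 := hXZ' _
      have hv2 : v⟦(-1 : ℤ)⟧' = 0 := by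
        rw [← cancel_epi (shiftShiftNeg T.obj₁ (1 : ℤ)).inv, hv1, Limits.comp_zero]
      have hv0 : v = 0 := by
        apply (shiftFunctor D (-1 : ℤ)).map_injective
        rw [hv2, Functor.map_zero]
      rw [hv0, Limits.comp_zero] at hv
      exact sub_eq_zero.mp hv
    · intro w
      have hw : T.mor₁ ≫ w = 0 := hXZ _
      obtain ⟨u, hu⟩ := Triangle.yoneda_exact₂ _ hT w hw
      exact ⟨u, hu.symm⟩

end Groth.Agent.S15557
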