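import Groth.Statements.S15560
import Groth.Agent.Lib.lead.Kron
-- import your own Groth.Agent.* helpers here

set_option autoImplicit false
universe u v w
open KronMod

namespace Groth.Agent.S15560

/-- Let f be a Kronecker module with n arrows over a field K, from a space V of dimension d₋₁ > 0 to a
space W of dimension d₀ > 0. If n·d₋₁ < d₀ or n·d₀ < d₋₁, then f is not semistable; that is, there
are no semistable Kronecker modules of dimension vector (d₋₁, d₀). (The published statement assumes
K algebraically closed of characteristic zero and n ≥ 2; this row allows any field K and any number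
n of arrows.) -/
theorem result (K : Type u) [Field K] (V : Type v) (W : Type w)
    [AddCommGroup V] [Module K V] [FiniteDimensional K V]
    [AddCommGroup W] [Module K W] [FiniteDimensional K W]
    (n : ℕ) (f : Fin n → (V →ₗ[K] W))
    (hV : 0 < Module.finrank K V) (hW : 0 < Module.finrank K W)
    (h : n * Module.finrank K V < Module.finrank K W ∨ n * Module.finrank K W < Module.finrank K V) :
    ¬ KronMod.IsSemistable f := by
  intro hss
  obtain ⟨_, hss⟩ := hss
  rcases h with h | h
  · have h1 := hss ⊤ (LinearMap.range (Groth.Agent.LeadKron.sumMap f))
      (Groth.Agent.LeadKron.subrep_top_range f)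
      (fun hh => Groth.Agent.LeadKron.top_ne_bot_of_finrank_pos hV hh.1)
      (fun hh => by
        have h2 := Groth.Agent.LeadKron.finrank_range_sumMap_le f
        rw [hh.2, finrank_top] at h2
        omega)
    rw [finrank_top] at h1
    have h2 := Groth.Agent.LeadKron.finrank_range_sumMap_le f
    rw [mul_comm] at h1
    have := Nat.le_of_mul_le_mul_left h1 hV
    omega
  · have h3 := Groth.Agent.LeadKron.finrank_le_ker_piMap f
    have hpos : 0 < Module.finrank K (LinearMap.ker (Groth.Agent.LeadKron.piMap f)) := by omega
    have h1 := hss (LinearMap.ker (Groth.Agent.LeadKron.piMap f)) ⊥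
      (Groth.Agent.LeadKron.subrep_ker_bot f)
      (fun hh => by
        rw [hh.1, finrank_bot] at hpos
        omega)
      (fun hh => Groth.Agent.LeadKron.top_ne_bot_of_finrank_pos hW hh.2.symm)
    rw [finrank_bot, Nat.mul_zero] at h1
    have := Nat.pos_of_ne_zero (fun h0 => by rw [h0] at hpos; omega : Module.finrank K (LinearMap.ker (Groth.Agent.LeadKron.piMap f)) ≠ 0)
    have := Nat.mul_pos hW hpos
    omega

end Groth.Agent.S15560
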