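import Groth.Statements.S15565
import Groth.Agent.Lib.lead.Kron2
import Mathlib.Tactic
-- import your own Groth.Agent.* helpers here

set_option autoImplicit false
universe u v w
open KronMod

namespace Groth.Agent.S15565

/-- Over an algebraically closed field K, a Kronecker module with two arrows between spaces V and W of
the same dimension k ≥ 2 is never stable: the stable locus of dimension vector (k, k) for the
Kronecker quiver with two arrows is empty. (The published statement also assumes characteristic
zero; this row does not.) -/
theorem result (K : Type u) [Field K] [IsAlgClosed K] (V : Type v) (W : Type w)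
    [AddCommGroup V] [Module K V] [FiniteDimensional K V]
    [AddCommGroup W] [Module K W] [FiniteDimensional K W]
    (f : Fin 2 → (V →ₗ[K] W)) (k : ℕ) (hk : 2 ≤ k)
    (hV : Module.finrank K V = k) (hW : Module.finrank K W = k) :
    ¬ KronMod.IsStable f := by
  have hex : ∃ (v : V) (w : W), v ≠ 0 ∧ ∀ j, f j v ∈ (K ∙ w) := by
    by_cases hinj : Function.Injective (f 0)
    · have hdim : Module.finrank K V = Module.finrank K W := by rw [hV, hW]
      have hbij : Function.Bijective (f 0) :=
        ⟨hinj, (LinearMap.injective_iff_surjective_of_finrank_eq_finrank hdim).mp hinj⟩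
      let E := LinearEquiv.ofBijective (f 0) hbij
      let T : Module.End K V := E.symm.toLinearMap ∘ₗ f 1
      have : Nontrivial V := (Module.finrank_pos_iff (R := K) (M := V)).mp (by rw [hV]; omega)
      obtain ⟨c, hc⟩ := Module.End.exists_eigenvalue T
      obtain ⟨v, hv⟩ := hc.exists_hasEigenvector
      refine ⟨v, f 0 v, hv.2, ?_⟩
      have h1 : T v = c • v := hv.apply_eq_smul
      have h2 : f 1 v = c • f 0 v := by
        have := congrArg E h1
        simpa [T, E] using this
      intro j
      fin_cases j
      · exact Submodule.mem_span_singleton_self _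
      · show f 1 v ∈ _
        rw [h2]
        exact Submodule.smul_mem _ _ (Submodule.mem_span_singleton_self _)
    · rw [← LinearMap.ker_eq_bot] at hinj
      obtain ⟨v, hv, hv0⟩ := (Submodule.ne_bot_iff _).mp hinj
      refine ⟨v, f 1 v, hv0, ?_⟩
      intro j
      fin_cases j
      · show f 0 v ∈ _
        rw [LinearMap.mem_ker.mp hv]
        exact Submodule.zero_mem _
      · exact Submodule.mem_span_singleton_self _
  obtain ⟨v, w, hv, hvw⟩ := hex
  exact Groth.Agent.LeadKron.not_stable_of_line f v hv (K ∙ w) 1
    (Groth.Agent.LeadKron.finrank_span_singleton_le w) hvw (by omega) (by omega)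

end Groth.Agent.S15565
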