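import Groth.Statements.S15573
import Mathlib
-- import your own Groth.Agent.* helpers here

set_option autoImplicit false
universe u v
open RInv

namespace Groth.Agent.S15573

/-- Let `R` be a commutative ring with an involution `lam` and let `S` be its fixed ring. If there is an
element `r` of `R` such that `r - lam r` is a unit, then `R` is a quadratic etale `S`-algebra. -/
theorem result (S : Type u) (R : Type v) [CommRing S] [CommRing R]
    [Algebra S R] (lam : R ≃+* R) (hlam : Function.Involutive lam) (hS : RInv.IsFixedRing S R lam)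
    (h : ∃ r : R, IsUnit (r - lam r)) : RInv.IsQuadEtale S R := by
  obtain ⟨r, hr⟩ := h
  obtain ⟨hinj, hfix⟩ := hS
  obtain ⟨δ', hδ'⟩ := isUnit_iff_exists_inv.mp hr
  have hlamδ : lam (r - lam r) = -(r - lam r) := by rw [map_sub, hlam r]; ring
  have hlamδ' : lam δ' = -δ' := by
    have h1 : lam (r - lam r) * lam δ' = 1 := by rw [← map_mul, hδ', map_one]
    rw [hlamδ] at h1
    calc lam δ' = ((r - lam r) * δ') * lam δ' := by rw [hδ', one_mul]
      _ = -δ' * (-(r - lam r) * lam δ') := by ring
      _ = -δ' := by rw [h1, mul_one]
  have hlamS : ∀ s : S, lam (algebraMap S R s) = algebraMap S R s :=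
    fun s => (hfix _).mpr ⟨s, rfl⟩
  have hdecomp : ∀ x : R, ∃ s t : S, x = algebraMap S R s + algebraMap S R t * r := by
    intro x
    have hb : lam ((x - lam x) * δ') = (x - lam x) * δ' := by
      rw [map_mul, map_sub, hlam x, hlamδ']; ring
    obtain ⟨t, ht⟩ := (hfix _).mp hb
    have ha : lam (x - (x - lam x) * δ' * r) = x - (x - lam x) * δ' * r := by
      rw [map_sub, map_mul, hb]
      have h2 : (x - lam x) * δ' * (r - lam r) = x - lam x := by
        rw [mul_assoc, mul_comm δ', hδ', mul_one]
      linear_combination h2
    obtain ⟨s, hs⟩ := (hfix _).mp ha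
    refine ⟨s, t, ?_⟩
    rw [hs, ht]; ring
  have hli : LinearIndependent S ![(1 : R), r] := by
    rw [LinearIndependent.pair_iff]
    intro s t hst
    rw [Algebra.smul_def, Algebra.smul_def, mul_one] at hst
    have hst' : algebraMap S R s + algebraMap S R t * lam r = 0 := by
      have h2 := congrArg lam hst
      rwa [map_add, map_mul, hlamS, hlamS, map_zero] at h2
    have ht0 : algebraMap S R t = 0 := by
      have h2 : algebraMap S R t * (r - lam r) = 0 := by linear_combination hst - hst'
      calc algebraMap S R t = algebraMap S R t * ((r - lam r) * δ') := by rw [hδ', mul_one]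
        _ = algebraMap S R t * (r - lam r) * δ' := by ring
        _ = 0 := by rw [h2, zero_mul]
    have hs0 : algebraMap S R s = 0 := by
      rw [ht0, zero_mul, add_zero] at hst; exact hst
    exact ⟨hinj (by rw [hs0, map_zero]), hinj (by rw [ht0, map_zero])⟩
  have hsp : ⊤ ≤ Submodule.span S (Set.range ![(1 : R), r]) := by
    intro x _
    obtain ⟨s, t, hx⟩ := hdecomp x
    rw [hx]
    refine Submodule.add_mem _ ?_ ?_
    · have h2 : algebraMap S R s = s • (1 : R) := by rw [Algebra.smul_def, mul_one]
      rw [h2]
      exact Submodule.smul_mem _ _ (Submodule.subset_span ⟨0, rfl⟩)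
    · have h2 : algebraMap S R t * r = t • r := by rw [Algebra.smul_def]
      rw [h2]
      exact Submodule.smul_mem _ _ (Submodule.subset_span ⟨1, rfl⟩)
  let b : Module.Basis (Fin 2) S R := Module.Basis.mk hli hsp
  haveI : Module.Free S R := Module.Free.of_basis b
  haveI : Module.Finite S R := Module.Finite.of_basis b
  refine ⟨inferInstance, inferInstance, ?_, ?_⟩
  · constructor
    have hDr : KaehlerDifferential.D S R r = 0 := by
      have htr : lam (r + lam r) = r + lam r := by rw [map_add, hlam r, add_comm]
      have hnm : lam (r * lam r) = r * lam r := by rw [map_mul, hlam r, mul_comm]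
      obtain ⟨tr, htr'⟩ := (hfix _).mp htr
      obtain ⟨nm, hnm'⟩ := (hfix _).mp hnm
      have hrel : r * r - algebraMap S R tr * r + algebraMap S R nm = 0 := by
        rw [htr', hnm']; ring
      have hD := congrArg (KaehlerDifferential.D S R) hrel
      simp only [map_zero, map_add, map_sub, Derivation.leibniz, Derivation.map_algebraMap,
        smul_zero, add_zero] at hD
      have h3 : (r - lam r) • KaehlerDifferential.D S R r = 0 := by
        have h4 : (r - lam r) = r + r - algebraMap S R tr := by rw [htr']; ring
        rw [h4, sub_smul, add_smul]; exact hD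
      calc KaehlerDifferential.D S R r
          = (δ' * (r - lam r)) • KaehlerDifferential.D S R r := by rw [mul_comm, hδ', one_smul]
        _ = δ' • ((r - lam r) • KaehlerDifferential.D S R r) := by rw [mul_smul]
        _ = 0 := by rw [h3, smul_zero]
    have hD0 : ∀ x : R, KaehlerDifferential.D S R x = 0 := by
      intro x
      obtain ⟨s, t, hx⟩ := hdecomp x
      rw [hx]
      simp only [map_add, Derivation.map_algebraMap, Derivation.leibniz, hDr, smul_zero, add_zero]
    have htop : (⊤ : Submodule R Ω[R⁄S]) = ⊥ := by
      rw [← KaehlerDifferential.span_range_derivation S R, Submodule.span_eq_bot]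
      rintro _ ⟨x, rfl⟩
      exact hD0 x
    refine subsingleton_of_forall_eq 0 (fun m => ?_)
    have hm : m ∈ (⊤ : Submodule R Ω[R⁄S]) := trivial
    rw [htop] at hm
    exact (Submodule.mem_bot R).mp hm
  · intro p
    haveI : Nontrivial S := nontrivial_of_ne (0 : S) 1 (fun h0 => p.isPrime.ne_top
      ((Ideal.eq_top_iff_one _).mpr (by rw [← h0]; exact p.asIdeal.zero_mem)))
    have h1 := congrFun (Module.rankAtStalk_eq_finrank_of_free (R := S) (M := R)) p
    rw [h1]
    simp [Module.finrank_eq_card_basis b]

end Groth.Agent.S15573
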