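import Groth.Statements.S15576
import Mathlib
import Groth.Agent.S15573
-- import your own Groth.Agent.* helpers here

set_option autoImplicit false
universe u v
open RInv

namespace Groth.Agent.S15576
theorem algebraMap_mem_of_nonunit (S : Type u) (R : Type v) [CommRing S] [CommRing R]
    [Algebra S R] (lam : R ≃+* R) (hlam : Function.Involutive lam)
    (hfix : ∀ r : R, lam r = r ↔ r ∈ Set.range (algebraMap S R)) [IsLocalRing S]
    (s : S) (hs : ¬ IsUnit s) (J : Ideal R) (hJ : J.IsMaximal) : algebraMap S R s ∈ J := by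
  by_contra hsJ
  obtain ⟨y, i, hi, hyi⟩ := hJ.exists_inv hsJ
  have htr : lam (y + lam y) = y + lam y := by rw [map_add, hlam y, add_comm]
  have hnm : lam (y * lam y) = y * lam y := by rw [map_mul, hlam y, mul_comm]
  obtain ⟨t, ht⟩ := (hfix _).mp htr
  obtain ⟨ν, hν⟩ := (hfix _).mp hnm
  have hlamS : lam (algebraMap S R s) = algebraMap S R s := (hfix _).mpr ⟨s, rfl⟩
  have hi' : i = 1 - y * algebraMap S R s := by rw [← hyi]; ring
  have hprod : i * lam i = algebraMap S R (1 - s * (t - ν * s)) := by
    rw [hi']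
    simp only [map_sub, map_one, map_mul, hlamS]
    rw [ht, hν]; ring
  have hsm : s ∈ IsLocalRing.maximalIdeal S := (IsLocalRing.mem_maximalIdeal s).2 hs
  have hsm' : s * (t - ν * s) ∈ IsLocalRing.maximalIdeal S := Ideal.mul_mem_right _ _ hsm
  have hu : IsUnit (1 - s * (t - ν * s)) :=
    IsLocalRing.isUnit_one_sub_self_of_mem_nonunits _ ((IsLocalRing.mem_maximalIdeal _).1 hsm')
  have hmem : i * lam i ∈ J := J.mul_mem_right _ hi
  rw [hprod] at hmem
  exact hJ.ne_top (Ideal.eq_top_of_isUnit_mem J hmem (hu.map (algebraMap S R)))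


/-- Let `R` be a commutative ring with an involution `lam` whose fixed ring `S` is local. If the
automorphism induced by `lam` on `R` modulo its Jacobson radical is not the identity, then `R` is a
quadratic etale `S`-algebra. -/
theorem result (S : Type u) (R : Type v) [CommRing S] [CommRing R]
    [Algebra S R] (lam : R ≃+* R) (hlam : Function.Involutive lam) (hS : RInv.IsFixedRing S R lam)
    [IsLocalRing S] (h : ∃ r : R, lam r - r ∉ Ring.jacobson R) : RInv.IsQuadEtale S R := by
  obtain ⟨r, hr⟩ := h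
  obtain ⟨hinj, hfix⟩ := hS
  apply Groth.Agent.S15573.result S R lam hlam ⟨hinj, hfix⟩
  have hlamδ : lam (lam r - r) = -(lam r - r) := by rw [map_sub, hlam r]; ring
  have hδ2 : lam ((lam r - r) * (lam r - r)) = (lam r - r) * (lam r - r) := by
    rw [map_mul, hlamδ]; ring
  obtain ⟨c, hc⟩ := (hfix _).mp hδ2
  by_cases hcu : IsUnit c
  · refine ⟨r, ?_⟩
    have hδu : IsUnit (lam r - r) := by
      obtain ⟨c', hc'⟩ := isUnit_iff_exists_inv.mp hcu
      refine isUnit_iff_exists_inv.mpr ⟨(lam r - r) * algebraMap S R c', ?_⟩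
      rw [← mul_assoc, ← hc, ← map_mul, hc', map_one]
    have : r - lam r = -(lam r - r) := by ring
    rw [this]; exact hδu.neg
  · exfalso
    apply hr
    rw [← Ideal.jacobson_bot]
    refine Ideal.mem_sInf.2 ?_
    rintro J ⟨_, hJ⟩
    have hcJ : algebraMap S R c ∈ J := algebraMap_mem_of_nonunit S R lam hlam hfix c hcu J hJ
    rw [hc] at hcJ
    exact (hJ.isPrime.mem_or_mem hcJ).elim id id

end Groth.Agent.S15576
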