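import Groth.Statements.S15581
import Mathlib
-- import your own Groth.Agent.* helpers here

set_option autoImplicit false
universe u v
open RInv

namespace Groth.Agent.S15581

/-- Let `A` be a commutative ring with an involution `lam` whose fixed ring `B` is local with `2`
invertible. Then `Jac(A)^2 ⊆ Jac(B) A`. -/
theorem result (B : Type u) (A : Type v) [CommRing B]
    [CommRing A] [Algebra B A] (lam : A ≃+* A) (hlam : Function.Involutive lam)
    (hB : RInv.IsFixedRing B A lam) [IsLocalRing B] (h2 : IsUnit (2 : B)) :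
    (Ring.jacobson A) ^ 2 ≤ (IsLocalRing.maximalIdeal B).map (algebraMap B A) := by
  classical
  obtain ⟨hinj, hfix⟩ := hB
  have hJ : ∀ x : A, x ∈ Ring.jacobson A ↔ ∀ y, ∃ z, z * y * x + z - 1 = 0 := by
    intro x
    rw [← Ideal.jacobson_bot, Ideal.mem_jacobson_iff]
    simp only [Ideal.mem_bot]
  have hlamJ : ∀ x ∈ Ring.jacobson A, lam x ∈ Ring.jacobson A := by
    intro x hx
    rw [hJ] at hx ⊢
    intro y
    obtain ⟨z, hz⟩ := hx (lam.symm y)
    refine ⟨lam z, ?_⟩
    have := congrArg lam hz
    simpa using this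
  have hnt : Nontrivial A := hinj.nontrivial
  have hkey : ∀ b : B, algebraMap B A b ∈ Ring.jacobson A → b ∈ IsLocalRing.maximalIdeal B := by
    intro b hb
    rw [IsLocalRing.mem_maximalIdeal, mem_nonunits_iff]
    intro hu
    have hu' : IsUnit (algebraMap B A b) := hu.map _
    have h1 : Ring.jacobson A = ⊤ := Ideal.eq_top_of_isUnit_mem _ hb hu'
    rw [← Ideal.jacobson_bot, Ideal.jacobson_eq_top_iff] at h1
    exact bot_ne_top h1
  have hmap : ∀ x : A, lam x = x → x ∈ Ring.jacobson A →
      x ∈ (IsLocalRing.maximalIdeal B).map (algebraMap B A) := by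
    intro x hx hxJ
    obtain ⟨b, rfl⟩ := (hfix x).mp hx
    exact Ideal.mem_map_of_mem _ (hkey b hxJ)
  obtain ⟨u, hu⟩ := h2
  set half : A := algebraMap B A ((u⁻¹ : Bˣ) : B) with hhalf
  have hhalf2 : 2 * half = 1 := by
    have h2' : (2 : A) = algebraMap B A ((u : Bˣ) : B) := by rw [hu, map_ofNat]
    rw [hhalf, h2', ← map_mul, Units.mul_inv, map_one]
  have hlamhalf : lam half = half := (hfix half).mpr ⟨_, rfl⟩
  have hs : ∀ a ∈ Ring.jacobson A, half * (a + lam a) ∈
      (IsLocalRing.maximalIdeal B).map (algebraMap B A) := by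
    intro a ha
    apply hmap
    · rw [map_mul, map_add, hlamhalf, hlam a, add_comm]
    · exact Ideal.mul_mem_left _ _ (Ideal.add_mem _ ha (hlamJ a ha))
  have ht : ∀ a ∈ Ring.jacobson A, ∀ c ∈ Ring.jacobson A,
      (half * (a - lam a)) * (half * (c - lam c)) ∈
      (IsLocalRing.maximalIdeal B).map (algebraMap B A) := by
    intro a ha c hc
    apply hmap
    · simp only [map_mul, map_sub, hlamhalf, hlam a, hlam c]
      ring
    · exact Ideal.mul_mem_right _ _ (Ideal.mul_mem_left _ _ (Ideal.sub_mem _ ha (hlamJ a ha)))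
  rw [pow_two, Ideal.mul_le]
  intro a ha c hc
  have hdecomp : a * c = (half * (a + lam a)) * c + (half * (a - lam a)) * (half * (c + lam c))
      + (half * (a - lam a)) * (half * (c - lam c)) := by
    linear_combination (-(a * c + half * (a - lam a) * c)) * hhalf2
  rw [hdecomp]
  refine Ideal.add_mem _ (Ideal.add_mem _ ?_ ?_) ?_
  · exact Ideal.mul_mem_right _ _ (hs a ha)
  · exact Ideal.mul_mem_left _ _ (hs c hc)
  · exact ht a ha c hc

end Groth.Agent.S15581
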