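import Groth.Statements.S15585
import Mathlib

set_option autoImplicit false
universe u v
open RInv

namespace Groth.Agent.S15585

section Aux

theorem two_dim (k : Type u) (B : Type v) [Field k] [CommRing B] [Algebra k B]
    [Algebra.FormallyUnramified k B] (h2 : Module.finrank k B = 2) :
    (IsField B ∧ Algebra.IsSeparable k B) ∨ Nonempty (B ≃ₐ[k] k × k) := by
  haveI : Module.Finite k B := Module.finite_of_finrank_pos (by rw [h2]; norm_num)
  haveI : Nontrivial B := Module.nontrivial_of_finrank_pos (R := k) (by rw [h2]; norm_num)
  by_cases hloc : IsLocalRing B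
  · left
    haveI := hloc
    haveI : IsReduced B := Algebra.FormallyUnramified.isReduced_of_field k B
    haveI : IsArtinianRing B := IsArtinianRing.of_finite k B
    have hf : IsField B := IsArtinianRing.isField_of_isReduced_of_isLocalRing B
    refine ⟨hf, ?_⟩
    letI := hf.toField
    exact Algebra.FormallyUnramified.isSeparable k B
  · right
    have hex : ∃ a : B, ¬ IsUnit a ∧ ¬ IsUnit (1 - a) := by
      by_contra hcon
      push_neg at hcon
      exact hloc (IsLocalRing.of_isUnit_or_isUnit_one_sub_self fun a => by
        by_cases ha : IsUnit a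
        · exact Or.inl ha
        · exact Or.inr (hcon a ha))
    obtain ⟨a, ha, ha1⟩ := hex
    have hA0 : ∀ c : k, c ≠ 0 → ∀ y : B, y * algebraMap k B c⁻¹ * algebraMap k B c = y := by
      intro c hc y
      rw [mul_assoc, ← map_mul, inv_mul_cancel₀ hc, map_one, mul_one]
    have ha_notin : ∀ c : k, a ≠ algebraMap k B c := by
      intro c hac
      rcases eq_or_ne c 0 with rfl | hc
      · rw [map_zero] at hac
        rw [hac, sub_zero] at ha1
        exact ha1 isUnit_one
      · rw [hac] at ha
        exact ha ((isUnit_iff_ne_zero.2 hc).map (algebraMap k B))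
    have hli : ∀ s t : k, s • (1 : B) + t • a = 0 → s = 0 ∧ t = 0 := by
      intro s t hst
      rcases eq_or_ne t 0 with rfl | ht
      · rw [zero_smul, add_zero] at hst
        rcases smul_eq_zero.1 hst with h | h
        · exact ⟨h, rfl⟩
        · exact absurd h one_ne_zero
      · exfalso
        apply ha_notin (-(t⁻¹ * s))
        have h1 : t • a = -(s • (1 : B)) := eq_neg_of_add_eq_zero_right hst
        have h3 : a = t⁻¹ • (t • a) := by rw [smul_smul, inv_mul_cancel₀ ht, one_smul]
        rw [h3, h1, Algebra.algebraMap_eq_smul_one, smul_neg, smul_smul, neg_smul]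
    have hlin : LinearIndependent k ![(1 : B), a] := LinearIndependent.pair_iff.2 hli
    have hcard : Fintype.card (Fin 2) = Module.finrank k B := by rw [h2]; rfl
    let bas := basisOfLinearIndependentOfCardEqFinrank hlin hcard
    have hb0 : bas 0 = 1 := by
      rw [coe_basisOfLinearIndependentOfCardEqFinrank]; rfl
    have hb1 : bas 1 = a := by
      rw [coe_basisOfLinearIndependentOfCardEqFinrank]; rfl
    obtain ⟨β, α, hsq⟩ : ∃ β α : k, a * a = algebraMap k B β + algebraMap k B α * a := by
      refine ⟨bas.repr (a * a) 0, bas.repr (a * a) 1, ?_⟩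
      have h := bas.sum_repr (a * a)
      rw [Fin.sum_univ_two, hb0, hb1, Algebra.smul_def, Algebra.smul_def, mul_one] at h
      exact h.symm
    have hβ : β = 0 := by
      by_contra hβ
      apply ha
      rw [isUnit_iff_exists_inv]
      refine ⟨(a - algebraMap k B α) * algebraMap k B β⁻¹, ?_⟩
      have e1 : a * (a - algebraMap k B α) = algebraMap k B β := by linear_combination hsq
      rw [← mul_assoc, e1, ← map_mul, mul_inv_cancel₀ hβ, map_one]
    rw [hβ, map_zero, zero_add] at hsq
    have hα : α = 1 := by
      by_contra hα
      have hα' : α - 1 ≠ 0 := sub_ne_zero.2 hα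
      apply ha1
      rw [isUnit_iff_exists_inv]
      refine ⟨((1 - a) + (algebraMap k B α - 2)) * algebraMap k B (α - 1)⁻¹, ?_⟩
      have e1 : (1 - a) * ((1 - a) + (algebraMap k B α - 2)) = algebraMap k B (α - 1) := by
        rw [map_sub, map_one]
        linear_combination hsq
      rw [← mul_assoc, e1, ← map_mul, mul_inv_cancel₀ hα', map_one]
    have hidem : a * a = a := by rw [hsq, hα, map_one, one_mul]
    let ψ : k × k →ₐ[k] B :=
      { toFun := fun p => algebraMap k B p.1 * a + algebraMap k B p.2 * (1 - a)
        map_one' := by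
          show algebraMap k B 1 * a + algebraMap k B 1 * (1 - a) = 1
          rw [map_one]; ring
        map_mul' := fun p q => by
          show algebraMap k B (p.1 * q.1) * a + algebraMap k B (p.2 * q.2) * (1 - a) =
            (algebraMap k B p.1 * a + algebraMap k B p.2 * (1 - a)) *
              (algebraMap k B q.1 * a + algebraMap k B q.2 * (1 - a))
          rw [map_mul, map_mul]
          linear_combination (-(algebraMap k B p.1 * algebraMap k B q.1 -
            algebraMap k B p.1 * algebraMap k B q.2 - algebraMap k B p.2 * algebraMap k B q.1 +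
            algebraMap k B p.2 * algebraMap k B q.2)) * hidem
        map_zero' := by
          show algebraMap k B 0 * a + algebraMap k B 0 * (1 - a) = 0
          rw [map_zero]; ring
        map_add' := fun p q => by
          show algebraMap k B (p.1 + q.1) * a + algebraMap k B (p.2 + q.2) * (1 - a) =
            (algebraMap k B p.1 * a + algebraMap k B p.2 * (1 - a)) +
              (algebraMap k B q.1 * a + algebraMap k B q.2 * (1 - a))
          rw [map_add, map_add]; ring
        commutes' := fun c => by
          show algebraMap k B c * a + algebraMap k B c * (1 - a) = algebraMap k B c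
          ring }
    have hψ : ∀ p : k × k, ψ p = algebraMap k B p.1 * a + algebraMap k B p.2 * (1 - a) :=
      fun p => rfl
    have hinj : Function.Injective ψ := by
      rw [injective_iff_map_eq_zero]
      intro p hp
      rw [hψ] at hp
      have h0 : p.2 • (1 : B) + (p.1 - p.2) • a = 0 := by
        rw [Algebra.smul_def, Algebra.smul_def, map_sub]
        linear_combination hp
      obtain ⟨h1, h2'⟩ := hli _ _ h0
      have h3 : p.1 = 0 := by rw [h1, sub_zero] at h2'; exact h2'
      exact Prod.ext h3 h1
    have hfr : Module.finrank k (k × k) = Module.finrank k B := by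
      rw [h2, Module.finrank_prod, Module.finrank_self]
    have hsurj : Function.Surjective ψ :=
      (LinearMap.injective_iff_surjective_of_finrank_eq_finrank hfr (f := ψ.toLinearMap)).1 hinj
    exact ⟨(AlgEquiv.ofBijective ψ ⟨hinj, hsurj⟩).symm⟩

end Aux

/-- For a local ring `S` (maximal ideal `m`, residue field `k`) and a quadratic etale `S`-algebra `R`,
the ring `R/mR` is a field that is a separable extension of `k` of degree 2, or else it is
isomorphic as a `k`-algebra to `k × k`. -/
theorem result (S : Type u) (R : Type v) [CommRing S]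
    [CommRing R] [Algebra S R] [IsLocalRing S] (hq : RInv.IsQuadEtale S R) :
    (IsField (R ⧸ (IsLocalRing.maximalIdeal S).map (algebraMap S R)) ∧
      Module.finrank (S ⧸ IsLocalRing.maximalIdeal S)
        (R ⧸ (IsLocalRing.maximalIdeal S).map (algebraMap S R)) = 2 ∧
      Algebra.IsSeparable (S ⧸ IsLocalRing.maximalIdeal S)
        (R ⧸ (IsLocalRing.maximalIdeal S).map (algebraMap S R))) ∨
    Nonempty ((R ⧸ (IsLocalRing.maximalIdeal S).map (algebraMap S R)) ≃ₐ[S ⧸ IsLocalRing.maximalIdeal S]
      ((S ⧸ IsLocalRing.maximalIdeal S) × (S ⧸ IsLocalRing.maximalIdeal S))) := by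
  obtain ⟨hfin, hproj, hunr, hrank⟩ := hq
  haveI := hfin
  haveI := hproj
  haveI := hunr
  haveI : Module.Free S R := Module.free_of_flat_of_isLocalRing
  have h2 : Module.finrank S R = 2 := by
    have h := hrank (IsLocalRing.closedPoint S)
    simpa using h
  letI := Ideal.Quotient.field (IsLocalRing.maximalIdeal S)
  have h2' : Module.finrank (S ⧸ IsLocalRing.maximalIdeal S)
      (R ⧸ (IsLocalRing.maximalIdeal S).map (algebraMap S R)) = 2 := by
    rw [IsLocalRing.finrank_quotient_map, h2]
  rcases two_dim (S ⧸ IsLocalRing.maximalIdeal S)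
    (R ⧸ (IsLocalRing.maximalIdeal S).map (algebraMap S R)) h2' with ⟨hf, hsep⟩ | hiso
  · exact Or.inl ⟨hf, h2', hsep⟩
  · exact Or.inr hiso

end Groth.Agent.S15585
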