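import Groth.Statements.S15586
import Mathlib
-- import your own Groth.Agent.* helpers here

set_option autoImplicit false
universe u v w
open scoped TensorProduct
open RInv

namespace Groth.Agent.S15586

/-- Let `R` be a commutative ring with an involution `lam` and fixed ring `S`, and let `S'` be a
commutative `S`-algebra. If `S'` is flat over `S`, or if `2` is invertible in `S`, then `S'` is the
fixed ring of the base-changed involution `id ⊗ lam` of `S' ⊗_S R`: the structure map `S' → S' ⊗_S
R` is injective with image the fixed elements. (In general the fixed ring does not commute with base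
change.) -/
theorem result (S : Type u) (R : Type v) (S' : Type w)
    [CommRing S] [CommRing R] [Algebra S R] [CommRing S'] [Algebra S S']
    (lam : R ≃ₐ[S] R) (hlam : Function.Involutive lam)
    (hS : RInv.IsFixedRing S R lam.toRingEquiv)
    (h : Module.Flat S S' ∨ IsUnit (2 : S)) :
    RInv.IsFixedRing S' (S' ⊗[S] R)
      (Algebra.TensorProduct.congr (AlgEquiv.refl : S' ≃ₐ[S] S') lam).toRingEquiv := by
  have hT : ∀ t : S' ⊗[S] R,
      (Algebra.TensorProduct.congr (AlgEquiv.refl : S' ≃ₐ[S] S') lam).toRingEquiv t =
        lam.toLinearMap.lTensor S' t := by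
    intro t
    induction t using TensorProduct.induction_on with
    | zero => simp
    | tmul a b => simp
    | add a b ha hb => rw [map_add, map_add, ha, hb]
  have hamap : ∀ s' : S', algebraMap S' (S' ⊗[S] R) s' = s' ⊗ₜ[S] (1 : R) := fun s' => rfl
  obtain ⟨hinj, hfix⟩ := hS
  have hf : ∀ t : S' ⊗[S] R, t ∈ LinearMap.range ((Algebra.linearMap S R).lTensor S') ↔
      t ∈ Set.range (algebraMap S' (S' ⊗[S] R)) := by
    intro t
    constructor
    · rintro ⟨z, rfl⟩
      induction z using TensorProduct.induction_on with
      | zero => exact ⟨0, by simp⟩
      | tmul a b =>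
        refine ⟨b • a, ?_⟩
        rw [hamap, LinearMap.lTensor_tmul, Algebra.linearMap_apply, Algebra.algebraMap_eq_smul_one,
          TensorProduct.tmul_smul, TensorProduct.smul_tmul']
      | add z w hz hw =>
        obtain ⟨a, ha⟩ := hz
        obtain ⟨b, hb⟩ := hw
        exact ⟨a + b, by rw [map_add, ha, hb, map_add]⟩
    · rintro ⟨s', rfl⟩
      refine ⟨s' ⊗ₜ[S] (1 : S), ?_⟩
      rw [hamap, LinearMap.lTensor_tmul, Algebra.linearMap_apply, map_one]
  rcases h with hflat | h2
  · constructor
    · have hinj' : Function.Injective ((Algebra.linearMap S R).lTensor S') :=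
        Module.Flat.lTensor_preserves_injective_linearMap _ hinj
      intro a b hab
      rw [hamap, hamap] at hab
      have h1 : (Algebra.linearMap S R).lTensor S' (a ⊗ₜ[S] (1 : S)) =
          (Algebra.linearMap S R).lTensor S' (b ⊗ₜ[S] (1 : S)) := by
        rw [LinearMap.lTensor_tmul, LinearMap.lTensor_tmul, Algebra.linearMap_apply, map_one]
        exact hab
      have h2 := hinj' h1
      have h3 := congrArg (TensorProduct.rid S S') h2
      simpa using h3
    · intro t
      rw [hT, ← hf]
      have hex : Function.Exact (Algebra.linearMap S R) ((lam.toLinearMap : R →ₗ[S] R) - (LinearMap.id : R →ₗ[S] R)) := by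
        intro r
        rw [LinearMap.sub_apply, sub_eq_zero]
        exact hfix r
      have hex' := Module.Flat.lTensor_exact S' hex
      have h1 := hex' t
      rw [LinearMap.lTensor_sub, LinearMap.lTensor_id, LinearMap.sub_apply, LinearMap.id_apply,
        sub_eq_zero] at h1
      exact h1
  · -- 2 invertible: retraction
    obtain ⟨v, hv⟩ := h2.exists_left_inv
    have hrange : ∀ r : R, r + lam r ∈ Set.range (algebraMap S R) := by
      intro r
      rw [← hfix]
      show lam (r + lam r) = r + lam r
      rw [map_add, hlam r, add_comm]
    -- the retraction π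
    have hπ : ∃ π : R →ₗ[S] S, ∀ s : S, π (algebraMap S R s) = s := by
      let e := LinearEquiv.ofInjective (Algebra.linearMap S R) hinj
      let g : R →ₗ[S] LinearMap.range (Algebra.linearMap S R) :=
        LinearMap.codRestrict _ (LinearMap.id + lam.toLinearMap) (by
          intro r
          obtain ⟨s, hs⟩ := hrange r
          exact ⟨s, hs⟩)
      refine ⟨v • (e.symm.toLinearMap ∘ₗ g), ?_⟩
      intro s
      have hg : g (algebraMap S R s) = (2 : S) • e s := by
        apply Subtype.ext
        simp [g, e, two_smul] <;> rfl
      rw [LinearMap.smul_apply, LinearMap.comp_apply, hg, map_smul]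
      simp only [LinearEquiv.coe_coe, LinearEquiv.symm_apply_apply, smul_eq_mul]
      rw [← mul_assoc, hv, one_mul]
    obtain ⟨π, hπ⟩ := hπ
    constructor
    · intro a b hab
      rw [hamap, hamap] at hab
      have h3 := congrArg (fun t => TensorProduct.rid S S' (π.lTensor S' t)) hab
      have hπ1 : π 1 = 1 := by
        have := hπ 1
        rwa [map_one] at this
      simpa [hπ1] using h3
    · intro t
      rw [hT]
      constructor
      · intro ht
        -- t + T t ∈ range
        have hsum : ∀ w : S' ⊗[S] R, w + lam.toLinearMap.lTensor S' w ∈
            LinearMap.range ((Algebra.linearMap S R).lTensor S') := by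
          intro w
          induction w using TensorProduct.induction_on with
          | zero => simp
          | tmul a b =>
            obtain ⟨s, hs⟩ := hrange b
            refine ⟨a ⊗ₜ[S] s, ?_⟩
            rw [LinearMap.lTensor_tmul, LinearMap.lTensor_tmul, Algebra.linearMap_apply, hs,
              TensorProduct.tmul_add]
            rfl
          | add w w' hw hw' =>
            have := Submodule.add_mem _ hw hw'
            rw [map_add]
            convert this using 1
            abel
        have h1 := hsum t
        rw [ht, ← two_smul S t] at h1
        have h2' := Submodule.smul_mem _ v h1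
        rw [smul_smul, hv, one_smul] at h2'
        exact (hf t).mp h2'
      · rintro ⟨s', rfl⟩
        rw [hamap, LinearMap.lTensor_tmul]
        simp

end Groth.Agent.S15586
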