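import Groth.Statements.S15590
import Mathlib
-- import your own Groth.Agent.* helpers here

set_option autoImplicit false
universe u v
open CAlg

namespace Groth.Agent.S15590

/-- Let A → B be an injective homomorphism of commutative rings which makes B a finite flat A-module,
and suppose B is a Dedekind domain (Noetherian, integrally closed, of Krull dimension at most one; a
field is allowed). Then A is a Dedekind domain. -/
theorem result (A : Type u) (B : Type v)
    [CommRing A] [CommRing B] [Algebra A B] [IsDedekindDomain B]
    (hinj : Function.Injective (algebraMap A B)) [Module.Finite A B] [Module.Flat A B] :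
    IsDedekindDomain A := by
  haveI : FaithfulSMul A B := (faithfulSMul_iff_algebraMap_injective A B).mpr hinj
  haveI : IsDomain A := hinj.isDomain (algebraMap A B)
  haveI : Algebra.IsIntegral A B := Algebra.IsIntegral.of_finite A B
  haveI : Module.FaithfullyFlat A B := inferInstance
  -- Noetherian
  haveI hN : IsNoetherianRing A := by
    have emb : Ideal A ↪o Ideal B :=
      OrderEmbedding.ofMapLEIff (Ideal.map (algebraMap A B)) (fun I J => by
        constructor
        · intro h
          rw [← Ideal.comap_map_eq_self_of_faithfullyFlat (B := B) I,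
            ← Ideal.comap_map_eq_self_of_faithfullyFlat (B := B) J]
          exact Ideal.comap_mono h
        · intro h
          exact Ideal.map_mono h)
    have hB : WellFoundedGT (Ideal B) := (isNoetherian_iff' (R := B) (M := B)).mp inferInstance
    rw [isNoetherianRing_iff, isNoetherian_iff']
    exact emb.wellFoundedGT
  -- dimension ≤ 1
  haveI hD : Ring.DimensionLEOne A := by
    refine ⟨fun {p} hp0 hpp => ?_⟩
    obtain ⟨P, hPp, hPc⟩ := Ideal.exists_ideal_over_prime_of_isIntegral_of_isDomain p (S := B)
      (by simp [(RingHom.injective_iff_ker_eq_bot _).mp hinj])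
    have hP0 : P ≠ ⊥ := by
      rintro rfl
      apply hp0
      rw [← hPc]
      exact (RingHom.injective_iff_ker_eq_bot _).mp hinj
    haveI hPm : P.IsMaximal := hPp.isMaximal hP0
    rw [← hPc]
    exact Ideal.isMaximal_comap_of_isIntegral_of_isMaximal P
  -- integrally closed
  haveI hI : IsIntegrallyClosed A := by
    rw [isIntegrallyClosed_iff (FractionRing A)]
    intro x hx
    have hg : Function.Injective ((algebraMap B (FractionRing B)).comp (algebraMap A B)) :=
      (IsFractionRing.injective B (FractionRing B)).comp hinj
    obtain ⟨ψ, hψ⟩ : ∃ ψ : FractionRing A →+* FractionRing B, ψ = IsFractionRing.lift hg := ⟨_, rfl⟩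
    have hψa : ∀ a : A, ψ (algebraMap A (FractionRing A) a) =
        algebraMap B (FractionRing B) (algebraMap A B a) := by
      intro a
      rw [hψ, IsFractionRing.lift_algebraMap]; rfl
    have hint : IsIntegral B (ψ x) := by
      refine IsIntegral.map_of_comp_eq (algebraMap A B) ψ ?_ hx
      ext a
      simp only [RingHom.comp_apply, hψa]
    obtain ⟨c, hc⟩ := IsIntegrallyClosed.algebraMap_eq_of_integral hint
    obtain ⟨a, b, hb, rfl⟩ := IsFractionRing.div_surjective (A := A) x
    have hb0 : b ≠ 0 := nonZeroDivisors.ne_zero hb
    have hbK : algebraMap A (FractionRing A) b ≠ 0 := by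
      intro h
      exact hb0 ((IsFractionRing.injective A (FractionRing A)) (by rw [h, map_zero]))
    have hbL : algebraMap B (FractionRing B) (algebraMap A B b) ≠ 0 := by
      intro h
      exact hb0 (hg (by rw [RingHom.comp_apply, h, map_zero]))
    rw [map_div₀, hψa, hψa, eq_div_iff hbL, ← map_mul] at hc
    have hc' := IsFractionRing.injective B (FractionRing B) hc
    have hmem : a ∈ Ideal.comap (algebraMap A B) (Ideal.map (algebraMap A B) (Ideal.span {b})) := by
      rw [Ideal.mem_comap, Ideal.map_span, Set.image_singleton, Ideal.mem_span_singleton']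
      exact ⟨c, hc'⟩
    rw [Ideal.comap_map_eq_self_of_faithfullyFlat, Ideal.mem_span_singleton'] at hmem
    obtain ⟨y, hy⟩ := hmem
    refine ⟨y, ?_⟩
    rw [eq_div_iff hbK, ← map_mul, hy]
  haveI : IsDedekindRing A := {}
  exact {}

end Groth.Agent.S15590
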