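import Groth.Statements.S15594
import Mathlib
-- import your own Groth.Agent.* helpers here

set_option autoImplicit false
universe u
open TensorProduct
open AGF

namespace Groth.Agent.S15594

/-- Affine form. Let k ⊆ K be a field extension, A a commutative k-algebra and S a set of k-algebra
homomorphisms A → k (rational points of Spec A). The ideal ⋂_{σ ∈ S} ker σ cuts out the Zariski
closure of S with its reduced structure, and its extension to K ⊗_k A equals ⋂_{σ ∈ S} ker σ_K,
where σ_K : K ⊗_k A → K is the K-algebra map induced by σ. In words: the closure of a set of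
rational points is formed compatibly with extension of the ground field. (The published statement is
for schemes locally of finite type; this affine row assumes no finiteness, which the argument does
not use.) -/
theorem result (k K A : Type u) [Field k] [Field K] [Algebra k K]
    [CommRing A] [Algebra k A] (S : Set (A →ₐ[k] k)) :
    Ideal.map (Algebra.TensorProduct.includeRight : A →ₐ[k] K ⊗[k] A) (⨅ σ ∈ S, RingHom.ker σ) =
      ⨅ σ ∈ S, RingHom.ker ((Algebra.TensorProduct.rid k K K).toAlgHom.comp
        (Algebra.TensorProduct.map (AlgHom.id K K) σ)) := by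
  classical
  set I : Ideal A := ⨅ σ ∈ S, RingHom.ker σ with hI
  have hmemI : ∀ a : A, a ∈ I ↔ ∀ σ ∈ S, σ a = 0 := by
    intro a
    simp only [hI, Ideal.mem_iInf, RingHom.mem_ker]
  let σK : (A →ₐ[k] k) → (K ⊗[k] A →ₐ[K] K) := fun σ =>
    (Algebra.TensorProduct.rid k K K).toAlgHom.comp (Algebra.TensorProduct.map (AlgHom.id K K) σ)
  have hσK : ∀ σ (b : K) (a : A), σK σ (b ⊗ₜ[k] a) = σ a • b := by
    intro σ b a
    simp [σK]
  apply le_antisymm
  · rw [Ideal.map_le_iff_le_comap]
    intro a ha
    rw [Ideal.mem_comap]
    simp only [Ideal.mem_iInf, RingHom.mem_ker]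
    intro σ hσ
    have h1 : (Algebra.TensorProduct.includeRight : A →ₐ[k] K ⊗[k] A) a = (1 : K) ⊗ₜ[k] a := rfl
    rw [h1]
    change σK σ _ = 0
    rw [hσK, (hmemI a).mp ha σ hσ, zero_smul]
  · intro t ht
    simp only [Ideal.mem_iInf, RingHom.mem_ker] at ht
    let b := Module.Basis.ofVectorSpace k K
    obtain ⟨c, rfl⟩ := TensorProduct.eq_repr_basis_left (N := A) b t
    have hc : ∀ i, c i ∈ I := by
      intro i
      rw [hmemI]
      intro σ hσ
      have h1 := ht σ hσ
      change σK σ _ = 0 at h1
      rw [Finsupp.sum, map_sum] at h1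
      simp only [hσK] at h1
      by_cases hi : i ∈ c.support
      · exact linearIndependent_iff'.mp b.linearIndependent c.support (fun i => σ (c i)) h1 i hi
      · rw [Finsupp.notMem_support_iff.mp hi, map_zero]
    rw [Finsupp.sum]
    apply Ideal.sum_mem
    intro i _
    have h2 : b i ⊗ₜ[k] c i = (b i ⊗ₜ[k] (1:A)) *
        (Algebra.TensorProduct.includeRight : A →ₐ[k] K ⊗[k] A) (c i) := by
      rw [Algebra.TensorProduct.includeRight_apply, Algebra.TensorProduct.tmul_mul_tmul,
        mul_one, one_mul]
    rw [h2]
    exact Ideal.mul_mem_left _ _ (Ideal.mem_map_of_mem _ (hc i))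

end Groth.Agent.S15594
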