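import Groth.Statements.S15605
import Mathlib
-- import your own Groth.Agent.* helpers here

set_option autoImplicit false
universe u
open TensorProduct
open AGF

namespace Groth.Agent.S15605

open TensorProduct in
theorem helper8_tensor_jointly_injective (k : Type u) [Field k] (B B' : Type u) [CommRing B]
    [Algebra k B] [CommRing B'] [Algebra k B']
    (S : Set (B →ₐ[k] k)) (S' : Set (B' →ₐ[k] k))
    (hS : ∀ x : B, (∀ τ ∈ S, τ x = 0) → x = 0) (hS' : ∀ x : B', (∀ τ ∈ S', τ x = 0) → x = 0)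
    (u : B ⊗[k] B')
    (hu : ∀ τ ∈ S, ∀ τ' ∈ S', (Algebra.TensorProduct.lmul' (S := k) k).comp
      (Algebra.TensorProduct.map τ τ') u = 0) : u = 0 := by
  classical
  let b := Module.Basis.ofVectorSpace k B
  obtain ⟨c, rfl⟩ := TensorProduct.eq_repr_basis_left (N := B') b u
  have hc : c = 0 := by
    ext j
    rw [Finsupp.zero_apply]
    apply hS'
    intro τ' hτ'
    have hx : ∑ j ∈ c.support, τ' (c j) • b j = 0 := by
      apply hS
      intro τ hτ
      have := hu τ hτ τ' hτ'
      rw [Finsupp.sum, map_sum] at this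
      rw [map_sum, ← this]
      apply Finset.sum_congr rfl
      intro j _
      simp [mul_comm]
    by_cases hj : j ∈ c.support
    · exact linearIndependent_iff'.mp b.linearIndependent c.support (fun j => τ' (c j)) hx j hj
    · rw [Finsupp.notMem_support_iff.mp hj, map_zero]
  rw [hc]; simp

/-- Affine form. Let k be a field, A and A' finitely generated commutative k-algebras and S, S' sets of
k-algebra homomorphisms A → k, A' → k. The closure of a set of rational points of Spec A is cut out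
by the intersection of their kernels. Compatibility of these closures with products: in A ⊗_k A',
the intersection over (σ, σ') ∈ S × S' of the kernels of σ ⊗ σ' : A ⊗_k A' → k equals the ideal
generated by the images of ⋂_{σ} ker σ and of ⋂_{σ'} ker σ'. -/
theorem result (k A A' : Type u) [Field k] [CommRing A] [Algebra k A]
    [Algebra.FiniteType k A] [CommRing A'] [Algebra k A'] [Algebra.FiniteType k A']
    (S : Set (A →ₐ[k] k)) (S' : Set (A' →ₐ[k] k)) :
    (⨅ σ ∈ S, ⨅ σ' ∈ S', RingHom.ker ((Algebra.TensorProduct.lmul' (S := k) k).comp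
        (Algebra.TensorProduct.map σ σ'))) =
      Ideal.map (Algebra.TensorProduct.includeLeft : A →ₐ[k] A ⊗[k] A') (⨅ σ ∈ S, RingHom.ker σ) ⊔
        Ideal.map (Algebra.TensorProduct.includeRight : A' →ₐ[k] A ⊗[k] A') (⨅ σ' ∈ S', RingHom.ker σ') := by
  classical
  set I : Ideal A := ⨅ σ ∈ S, RingHom.ker σ with hI
  set I' : Ideal A' := ⨅ σ' ∈ S', RingHom.ker σ' with hI'
  have hmemI : ∀ a, a ∈ I ↔ ∀ σ ∈ S, σ a = 0 := by
    intro a; simp only [hI, Ideal.mem_iInf, RingHom.mem_ker]
  have hmemI' : ∀ a, a ∈ I' ↔ ∀ σ ∈ S', σ a = 0 := by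
    intro a; simp only [hI', Ideal.mem_iInf, RingHom.mem_ker]
  let T : (A →ₐ[k] k) → (A' →ₐ[k] k) → (A ⊗[k] A' →ₐ[k] k) := fun σ σ' =>
    (Algebra.TensorProduct.lmul' (S := k) k).comp (Algebra.TensorProduct.map σ σ')
  let Ψ : A ⊗[k] A' →ₐ[k] (A ⧸ I) ⊗[k] (A' ⧸ I') :=
    Algebra.TensorProduct.map (Ideal.Quotient.mkₐ k I) (Ideal.Quotient.mkₐ k I')
  have hkerΨ : RingHom.ker Ψ =
      Ideal.map (Algebra.TensorProduct.includeLeft : A →ₐ[k] A ⊗[k] A') I ⊔
      Ideal.map (Algebra.TensorProduct.includeRight : A' →ₐ[k] A ⊗[k] A') I' := by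
    have := Algebra.TensorProduct.map_ker (Ideal.Quotient.mkₐ k I) (Ideal.Quotient.mkₐ k I')
      (Ideal.Quotient.mkₐ_surjective k I) (Ideal.Quotient.mkₐ_surjective k I')
    have hk1 : RingHom.ker (Ideal.Quotient.mkₐ k I) = I := by
      ext a; rw [RingHom.mem_ker]; exact Ideal.Quotient.eq_zero_iff_mem
    have hk2 : RingHom.ker (Ideal.Quotient.mkₐ k I') = I' := by
      ext a; rw [RingHom.mem_ker]; exact Ideal.Quotient.eq_zero_iff_mem
    rw [hk1, hk2] at this
    exact this
  rw [← hkerΨ]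
  ext t
  simp only [Ideal.mem_iInf, RingHom.mem_ker]
  constructor
  · intro ht
    apply helper8_tensor_jointly_injective k (A ⧸ I) (A' ⧸ I')
      {τ | τ.comp (Ideal.Quotient.mkₐ k I) ∈ S} {τ' | τ'.comp (Ideal.Quotient.mkₐ k I') ∈ S'}
    · intro x hx
      obtain ⟨a, rfl⟩ := Ideal.Quotient.mk_surjective x
      rw [Ideal.Quotient.eq_zero_iff_mem, hmemI]
      intro σ hσ
      have hσI : ∀ a ∈ I, σ a = 0 := fun a ha => (hmemI a).mp ha σ hσ
      have := hx (Ideal.Quotient.liftₐ I σ hσI) (by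
        show (Ideal.Quotient.liftₐ I σ hσI).comp (Ideal.Quotient.mkₐ k I) ∈ S
        rw [Ideal.Quotient.liftₐ_comp]; exact hσ)
      exact this
    · intro x hx
      obtain ⟨a, rfl⟩ := Ideal.Quotient.mk_surjective x
      rw [Ideal.Quotient.eq_zero_iff_mem, hmemI']
      intro σ hσ
      have hσI : ∀ a ∈ I', σ a = 0 := fun a ha => (hmemI' a).mp ha σ hσ
      have := hx (Ideal.Quotient.liftₐ I' σ hσI) (by
        show (Ideal.Quotient.liftₐ I' σ hσI).comp (Ideal.Quotient.mkₐ k I') ∈ S'
        rw [Ideal.Quotient.liftₐ_comp]; exact hσ)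
      exact this
    · intro τ hτ τ' hτ'
      have hnat : ((Algebra.TensorProduct.lmul' (S := k) k).comp
          (Algebra.TensorProduct.map τ τ')).comp Ψ
          = T (τ.comp (Ideal.Quotient.mkₐ k I)) (τ'.comp (Ideal.Quotient.mkₐ k I')) := by
        apply Algebra.TensorProduct.ext'
        intro a a'
        simp [Ψ, T]
      have := ht _ hτ _ hτ'
      change T _ _ t = 0 at this
      rw [← hnat] at this
      exact this
  · intro ht σ hσ σ' hσ'
    have hσI : ∀ a ∈ I, σ a = 0 := fun a ha => (hmemI a).mp ha σ hσ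
    have hσI' : ∀ a ∈ I', σ' a = 0 := fun a ha => (hmemI' a).mp ha σ' hσ'
    have hnat : T σ σ' = ((Algebra.TensorProduct.lmul' (S := k) k).comp
        (Algebra.TensorProduct.map (Ideal.Quotient.liftₐ I σ hσI)
          (Ideal.Quotient.liftₐ I' σ' hσI'))).comp Ψ := by
      apply Algebra.TensorProduct.ext'
      intro a a'
      simp [Ψ, T]
    change T σ σ' t = 0
    rw [hnat, AlgHom.comp_apply, ht, map_zero]

end Groth.Agent.S15605
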