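import Groth.Statements.S15610
import Mathlib

set_option autoImplicit false
universe u
open SchFin SchFin.RSpace

namespace Groth.Agent.S15610

section Aux

theorem connSpec_iff (R : Type u) [CommRing R] :
    ConnectedSpace (PrimeSpectrum R) ↔
      Nontrivial R ∧ ∀ e : R, IsIdempotentElem e → e = 0 ∨ e = 1 := by
  rw [connectedSpace_iff_clopen]
  constructor
  · rintro ⟨hne, h⟩
    have hnt : Nontrivial R := PrimeSpectrum.nonempty_iff_nontrivial.1 hne
    refine ⟨hnt, fun e he => ?_⟩
    have hcl : IsClopen ((PrimeSpectrum.basicOpen e : Set (PrimeSpectrum R))) :=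
      PrimeSpectrum.isClopen_iff.2 ⟨e, he, rfl⟩
    rcases h _ hcl with h0 | h1
    · left
      refine PrimeSpectrum.basicOpen_injOn_isIdempotentElem he IsIdempotentElem.zero ?_
      rw [PrimeSpectrum.basicOpen_zero]
      exact SetLike.coe_injective (h0.trans TopologicalSpace.Opens.coe_bot.symm)
    · right
      refine PrimeSpectrum.basicOpen_injOn_isIdempotentElem he IsIdempotentElem.one ?_
      rw [PrimeSpectrum.basicOpen_one]
      exact SetLike.coe_injective (h1.trans TopologicalSpace.Opens.coe_top.symm)
  · rintro ⟨hnt, h⟩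
    refine ⟨PrimeSpectrum.nonempty_iff_nontrivial.2 hnt, fun s hs => ?_⟩
    obtain ⟨e, he, rfl⟩ := PrimeSpectrum.isClopen_iff.1 hs
    rcases h e he with rfl | rfl
    · left; rw [PrimeSpectrum.basicOpen_zero]; rfl
    · right; rw [PrimeSpectrum.basicOpen_one]; rfl

theorem sect_compat (X : RSpace.{u}) (e : ↥(X.sectRing Set.univ))
    (q q' : (Set.univ : Set X.pt)) (h : q.1 ≤ q'.1) : X.res h (e.1 q) = e.1 q' :=
  e.2 q q' h

theorem conn_of_top (X : RSpace.{u}) (hpw : X.IsPwConnected) (ht : X.IsTopConnected) :
    X.IsConnected := by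
  have hloc : ∀ p : X.pt, Nontrivial (X.ring p) ∧
      ∀ e : X.ring p, IsIdempotentElem e → e = 0 ∨ e = 1 :=
    fun p => (connSpec_iff (X.ring p)).1 (hpw p)
  obtain ⟨⟨p₀⟩, hconn⟩ := ht
  unfold RSpace.IsConnected
  rw [connSpec_iff]
  constructor
  · refine ⟨⟨0, 1, fun h01 => ?_⟩⟩
    haveI := (hloc p₀).1
    have : (0 : X.ring p₀) = 1 :=
      congrArg (fun t : ↥(X.sectRing Set.univ) => t.1 ⟨p₀, trivial⟩) h01
    exact zero_ne_one this
  · intro e he
    have hpt : ∀ q : (Set.univ : Set X.pt), e.1 q = 0 ∨ e.1 q = 1 := by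
      intro q
      apply (hloc q.1).2
      exact congrArg (fun t : ↥(X.sectRing Set.univ) => t.1 q) he
    have step : ∀ a b : X.pt, a ≤ b → (e.1 ⟨a, trivial⟩ = 0 ↔ e.1 ⟨b, trivial⟩ = 0) := by
      intro a b hab
      have hc := sect_compat X e ⟨a, trivial⟩ ⟨b, trivial⟩ hab
      haveI := (hloc b).1
      constructor
      · intro h0
        rw [← hc, h0, map_zero]
      · intro h0
        rcases hpt ⟨a, trivial⟩ with h | h
        · exact h
        · exfalso
          rw [h, map_one] at hc
          exact one_ne_zero (hc.trans h0)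
    have key : ∀ p q : X.pt, Relation.EqvGen (fun a b : X.pt => a ≤ b) p q →
        (e.1 ⟨p, trivial⟩ = 0 ↔ e.1 ⟨q, trivial⟩ = 0) := by
      intro p q h
      induction h with
      | rel a b hab => exact step a b hab
      | refl a => exact Iff.rfl
      | symm a b _ ih => exact ih.symm
      | trans a b c _ _ ih1 ih2 => exact ih1.trans ih2
    rcases hpt ⟨p₀, trivial⟩ with h | h
    · left
      apply Subtype.ext
      funext q
      obtain ⟨q, hq⟩ := q
      exact (key p₀ q (hconn p₀ q)).1 h
    · right
      apply Subtype.ext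
      funext q
      obtain ⟨q, hq⟩ := q
      rcases hpt ⟨q, hq⟩ with h' | h'
      · exfalso
        haveI := (hloc p₀).1
        have := (key p₀ q (hconn p₀ q)).2 h'
        rw [h] at this
        exact one_ne_zero this
      · exact h'

theorem top_of_conn (X : RSpace.{u}) (hpw : X.IsPwConnected) (hc : X.IsConnected) :
    X.IsTopConnected := by
  classical
  have hloc : ∀ p : X.pt, Nontrivial (X.ring p) :=
    fun p => ((connSpec_iff (X.ring p)).1 (hpw p)).1
  unfold RSpace.IsConnected at hc
  rw [connSpec_iff] at hc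
  obtain ⟨hnt, hidem⟩ := hc
  constructor
  · by_contra hemp
    rw [not_nonempty_iff] at hemp
    obtain ⟨a, b, hab⟩ := hnt
    apply hab
    apply Subtype.ext
    funext q
    exact (hemp.false q.1).elim
  · intro p q
    by_contra hpq
    let f : (x : (Set.univ : Set X.pt)) → X.ring x.1 :=
      fun x => if Relation.EqvGen (fun a b : X.pt => a ≤ b) p x.1 then 1 else 0
    have hf : f ∈ X.sectRing Set.univ := by
      show ∀ (x x' : (Set.univ : Set X.pt)) (h : x.1 ≤ x'.1), X.res h (f x) = f x'
      intro x x' h
      have hiff : Relation.EqvGen (fun a b : X.pt => a ≤ b) p x.1 ↔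
          Relation.EqvGen (fun a b : X.pt => a ≤ b) p x'.1 :=
        ⟨fun hx => Relation.EqvGen.trans _ _ _ hx (Relation.EqvGen.rel _ _ h),
         fun hx => Relation.EqvGen.trans _ _ _ hx
          (Relation.EqvGen.symm _ _ (Relation.EqvGen.rel _ _ h))⟩
      by_cases hx : Relation.EqvGen (fun a b : X.pt => a ≤ b) p x.1
      · have hx' := hiff.1 hx
        show X.res h (if Relation.EqvGen (fun a b : X.pt => a ≤ b) p x.1 then
          (1 : X.ring x.1) else 0) = (if Relation.EqvGen (fun a b : X.pt => a ≤ b) p x'.1 then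
          (1 : X.ring x'.1) else 0)
        rw [if_pos hx, if_pos hx', map_one]
      · have hx' : ¬ Relation.EqvGen (fun a b : X.pt => a ≤ b) p x'.1 :=
          fun h' => hx (hiff.2 h')
        show X.res h (if Relation.EqvGen (fun a b : X.pt => a ≤ b) p x.1 then
          (1 : X.ring x.1) else 0) = (if Relation.EqvGen (fun a b : X.pt => a ≤ b) p x'.1 then
          (1 : X.ring x'.1) else 0)
        rw [if_neg hx, if_neg hx', map_zero]
    have hidemf : IsIdempotentElem (⟨f, hf⟩ : ↥(X.sectRing Set.univ)) := by
      apply Subtype.ext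
      funext x
      show (if Relation.EqvGen (fun a b : X.pt => a ≤ b) p x.1 then
          (1 : X.ring x.1) else 0) * (if Relation.EqvGen (fun a b : X.pt => a ≤ b) p x.1 then
          (1 : X.ring x.1) else 0) = (if Relation.EqvGen (fun a b : X.pt => a ≤ b) p x.1 then
          (1 : X.ring x.1) else 0)
      by_cases hx : Relation.EqvGen (fun a b : X.pt => a ≤ b) p x.1
      · rw [if_pos hx, mul_one]
      · rw [if_neg hx, mul_zero]
    rcases hidem _ hidemf with h0 | h1
    · have hp : Relation.EqvGen (fun a b : X.pt => a ≤ b) p p := Relation.EqvGen.refl p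
      have hthis : (if Relation.EqvGen (fun a b : X.pt => a ≤ b) p p then
          (1 : X.ring p) else 0) = 0 :=
        congrArg (fun t : ↥(X.sectRing Set.univ) => t.1 ⟨p, trivial⟩) h0
      rw [if_pos hp] at hthis
      haveI := hloc p
      exact one_ne_zero hthis
    · have hthis : (if Relation.EqvGen (fun a b : X.pt => a ≤ b) p q then
          (1 : X.ring q) else 0) = 1 :=
        congrArg (fun t : ↥(X.sectRing Set.univ) => t.1 ⟨q, trivial⟩) h1
      rw [if_neg hpq] at hthis
      haveI := hloc q
      exact zero_ne_one hthis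

end Aux

open SchFin in
/-- A schematic finite space is well-connected (the prime spectrum of its ring of global sections is
connected and the prime spectrum of the ring of each point is connected) if and only if its poset of
points is non-empty and connected and the prime spectrum of the ring of each point is connected. -/
theorem result (X : RSpace.{u})
    (hX : X.IsSchematic) : X.IsWellConnected ↔ (X.IsTopConnected ∧ X.IsPwConnected) := by
  constructor
  · rintro ⟨hc, hpw⟩
    exact ⟨top_of_conn X hpw hc, hpw⟩
  · rintro ⟨ht, hpw⟩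
    exact ⟨conn_of_top X hpw ht, hpw⟩

end Groth.Agent.S15610
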