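import Groth.Statements.S15624
import Mathlib

set_option autoImplicit false
universe u
open SchFin SchFin.FEt

namespace Groth.Agent.S15624

open SchFin CategoryTheory in
/-- Over a schematic finite space, a morphism of étale covers which is surjective at every point is an
epimorphism in the category of étale covers. -/
theorem result (X : RSpace.{u}) (hX : X.IsSchematic) {A B : FEt X} (f : A ⟶ B)
    (hf : ∀ p : X.pt, Function.Surjective (f.hom.app p)) : Epi f := by
  constructor
  intro Z g h hgh
  apply CategoryTheory.ObjectProperty.hom_ext
  apply SchFin.Alg.hom_ext
  intro p
  apply AlgHom.ext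
  intro b
  obtain ⟨a, rfl⟩ := hf p b
  have hthis := congrArg (fun k : A ⟶ Z => k.hom.app p a) hgh
  exact hthis

end Groth.Agent.S15624
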