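import Groth.Statements.S15634
import Mathlib

set_option autoImplicit false
universe u
open SchFin SchFin.RSpace

namespace Groth.Agent.S15634

section Aux
open SchFin TensorProduct
variable {X : RSpace.{u}}

/-- constant cochain attached to an element of the ring of a point below all of `U` -/
def cst {U : Set X.pt} {R : Type u} [CommRing R] (φ : Coef X U R) (y : X.pt)
    (hy : ∀ q ∈ U, y ≤ q) (b : X.ring y) : Cochain φ X.str 0 :=
  fun σ => X.res (hy _ (σ (Fin.last 0)).2) b

theorem cst_mem {U : Set X.pt} {R : Type u} [CommRing R] (φ : Coef X U R) (y : X.pt)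
    (hy : ∀ q ∈ U, y ≤ q) (b : X.ring y) : cst φ y hy b ∈ cocycles φ X.str 0 := by
  show diff φ X.str 0 (cst φ y hy b) = 0
  funext σ
  show ∑ j : Fin 2, ((-1 : ℤ) ^ (j : ℕ)) • (cst φ y hy b).faceVal σ j = 0
  have e : ∀ j, (cst φ y hy b).faceVal σ j = X.res (hy _ (σ (Fin.last 1)).2) b :=
    fun j => X.res_comp _ _ b
  rw [Fin.sum_univ_two, e, e]
  simp

/-- the one-point chain -/
def chain0 {U : Set X.pt} (q : U) : Chain U 0 :=
  OrderEmbedding.ofMapLEIff (fun _ => q)
    (fun a b => ⟨fun _ => le_of_eq (Fin.ext (by have := a.2; have := b.2; omega)),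
      fun _ => le_rfl⟩)

end Aux

open SchFin in
/-- In a schematic finite space the restriction maps of rings along x ≤ y are epimorphisms of rings: two
ring maps out of the ring of y into a commutative ring which agree after composition with the
restriction map from the ring of x are equal. (The published statement also asserts flatness of the
restriction maps, which here is part of the standing finite-space condition, and a second clause for
affine spaces recalled without proof; only the epimorphism clause, the degree-zero case of the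
schematic condition, is stated.) -/
theorem result (X : RSpace.{u}) (hX : X.IsSchematic) {x y : X.pt} (h : x ≤ y)
    {T : Type u} [CommRing T] (g₁ g₂ : X.ring y →+* T) (hg : g₁.comp (X.res h) = g₂.comp (X.res h)) :
    g₁ = g₂ := by
  have hBC := (hX.2.2 0 x y h y y le_rfl).1
  let U : Set X.pt := (Hom.id X).wedge x y
  let U' : Set X.pt := (Hom.id X).wedge y y
  let φ : Coef X U (X.ring x) := Coef.ofLE x U ((Hom.id X).wedge_subset_up x y)
  let φ' : Coef X U' (X.ring y) := Coef.ofLE y U' ((Hom.id X).wedge_subset_up y y)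
  let s : Coef.Sub φ φ' := (Hom.id X).subSrc h y
  have hyU : ∀ q ∈ U, y ≤ q := fun q hq => hq.2
  have hyU' : ∀ q ∈ U', y ≤ q := fun q hq => hq.2
  letI alg : Algebra (X.ring x) (X.ring y) := (X.res h).toAlgebra
  letI mod : Module (X.ring x) (H φ' X.str 0) := Module.compHom _ (X.res h)
  haveI tower : IsScalarTower (X.ring x) (X.ring y) (H φ' X.str 0) :=
    IsScalarTower.of_algebraMap_smul fun _ _ => rfl
  let flin : H φ X.str 0 →ₗ[X.ring x] H φ' X.str 0 :=
    { toFun := resH X.str s 0
      map_add' := (resH X.str s 0).map_add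
      map_smul' := (resH X.str s 0).map_smulₛₗ }
  have hBC' : IsBaseChange (X.ring y) flin := hBC
  let mU : X.ring y → H φ X.str 0 := fun b =>
    H.mk φ X.str 0 ⟨cst φ y hyU b, cst_mem φ y hyU b⟩
  let mU' : X.ring y → H φ' X.str 0 := fun b =>
    H.mk φ' X.str 0 ⟨cst φ' y hyU' b, cst_mem φ' y hyU' b⟩
  have fact1 : ∀ b, flin (mU b) = mU' b := fun b => rfl
  have fact2 : ∀ b, b • mU' 1 = mU' b := by
    intro b
    have h1 : b • (⟨cst φ' y hyU' 1, cst_mem φ' y hyU' 1⟩ : ↥(cocycles φ' X.str 0)) =
        ⟨cst φ' y hyU' b, cst_mem φ' y hyU' b⟩ := by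
      apply Subtype.ext
      funext τ
      change X.res _ b * X.res _ (1 : X.ring y) = X.res _ b
      rw [map_one, mul_one]
    show b • H.mk φ' X.str 0 _ = H.mk φ' X.str 0 _
    rw [← (H.mk φ' X.str 0).map_smul, h1]
  have key : ∀ b : X.ring y, (1 : X.ring y) ⊗ₜ[X.ring x] mU b = b ⊗ₜ[X.ring x] mU 1 := by
    intro b
    apply hBC'.equiv.injective
    rw [IsBaseChange.equiv_tmul, IsBaseChange.equiv_tmul, one_smul, fact1, fact1, fact2]
  let σ₀ : Chain U 0 := chain0 ⟨y, h, le_rfl⟩
  let evLin : ↥(cocycles φ X.str 0) →ₗ[X.ring x] X.ring y :=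
    { toFun := fun z => z.1 σ₀
      map_add' := fun _ _ => rfl
      map_smul' := fun r z => rfl }
  have hker : (cobdry φ X.str 0).comap (cocycles φ X.str 0).subtype ≤ LinearMap.ker evLin := by
    intro z hz
    have hz0 : z.1 = 0 := (Submodule.mem_bot (X.ring x)).1 hz
    show z.1 σ₀ = 0
    rw [hz0]; rfl
  let ev : H φ X.str 0 →ₗ[X.ring x] X.ring y := Submodule.liftQ _ evLin hker
  have hev : ∀ b, ev (mU b) = b := fun b => X.res_self y b
  let f : X.ring y →+ H φ X.str 0 →+ T :=
    ((AddMonoidHom.mul (R := T)).comp g₁.toAddMonoidHom).compl₂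
      (g₂.toAddMonoidHom.comp ev.toAddMonoidHom)
  have hfapp : ∀ a m, f a m = g₁ a * g₂ (ev m) := fun a m => rfl
  have hf : ∀ (r : X.ring x) (a : X.ring y) (m : H φ X.str 0), f (r • a) m = f a (r • m) := by
    intro r a m
    rw [hfapp, hfapp, ev.map_smul, Algebra.smul_def, Algebra.smul_def, map_mul, map_mul]
    have : g₁ (algebraMap (X.ring x) (X.ring y) r) = g₂ (algebraMap (X.ring x) (X.ring y) r) :=
      RingHom.congr_fun hg r
    rw [this]; ring
  apply RingHom.ext
  intro b
  have := congrArg (TensorProduct.liftAddHom f hf) (key b)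
  rw [TensorProduct.liftAddHom_tmul, TensorProduct.liftAddHom_tmul, hfapp, hfapp, hev, hev,
    map_one, map_one, one_mul, mul_one] at this
  exact this.symm

end Groth.Agent.S15634
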