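import Groth.Statements.S15706
import Mathlib
-- import your own Groth.Agent.* helpers here

set_option autoImplicit false
universe u
open CAlg

namespace Groth.Agent.S15706

/-- Let A be a Noetherian ring with Serre's property (S_1), stated here in the equivalent form that
every associated prime of A is a minimal prime of A. Let I be an ideal of A and b an element of A/I
which is regular (a non-zero-divisor) in A/I. Then b is the image of a regular element of A. -/
theorem result (A : Type u) [CommRing A]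
    [IsNoetherianRing A] (hS1 : ∀ p ∈ associatedPrimes A A, p ∈ minimalPrimes A) (I : Ideal A)
    (b : A ⧸ I) (hb : b ∈ nonZeroDivisors (A ⧸ I)) :
    ∃ a : A, a ∈ nonZeroDivisors A ∧ Ideal.Quotient.mk I a = b := by
  classical
  obtain ⟨a₀, rfl⟩ := Ideal.Quotient.mk_surjective b
  have hfin : (minimalPrimes A).Finite := minimalPrimes.finite_of_isNoetherianRing A
  set S : Finset (Ideal A) := hfin.toFinset with hS
  have hSmem : ∀ P, P ∈ S ↔ P ∈ minimalPrimes A := fun P => hfin.mem_toFinset
  set S₁ := S.filter (fun P => a₀ ∈ P) with hS₁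
  set S₂ := S.filter (fun P => a₀ ∉ P) with hS₂
  have h1 : ∀ P ∈ S₁, ¬ I ≤ P := by
    intro P hP hIP
    rw [Finset.mem_filter, hSmem] at hP
    obtain ⟨hPmin, ha₀P⟩ := hP
    have hPI : P ∈ I.minimalPrimes := by
      refine ⟨⟨hPmin.1.1, hIP⟩, ?_⟩
      rintro Q ⟨hQprime, _⟩ hQP
      exact hPmin.2 ⟨hQprime, bot_le⟩ hQP
    rw [Ideal.minimalPrimes_eq_comap] at hPI
    obtain ⟨q, hq, rfl⟩ := hPI
    exact notMem_nonZeroDivisors_of_mem_mem_minimalPrimes
      (show Ideal.Quotient.mk I a₀ ∈ q from ha₀P) hq hb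
  set K : Ideal A := I * ∏ P ∈ S₂, P with hK
  have h2 : ¬ ((K : Set A) ⊆ ⋃ P ∈ (S₁ : Set (Ideal A)), (P : Set A)) := by
    rw [Ideal.subset_union_prime (f := fun P : Ideal A => P) ⊥ ⊥
      (fun P hP _ _ => ((hSmem P).mp (Finset.mem_filter.mp hP).1).1.1)]
    rintro ⟨P', hP', hKP'⟩
    have hP'prime : P'.IsPrime := ((hSmem P').mp (Finset.mem_filter.mp hP').1).1.1
    rcases (Ideal.IsPrime.mul_le hP'prime).mp hKP' with h | h
    · exact h1 P' hP' h
    · obtain ⟨P, hP, hPP'⟩ := (Ideal.IsPrime.prod_le hP'prime).mp h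
      have hPmem := Finset.mem_filter.mp hP
      have hP'mem := Finset.mem_filter.mp hP'
      have hPmin := (hSmem P).mp hPmem.1
      have hP'min := (hSmem P').mp hP'mem.1
      have : P' ≤ P := hP'min.2 ⟨hPmin.1.1, bot_le⟩ hPP'
      exact hPmem.2 (this hP'mem.2)
  obtain ⟨i, hiK, hi⟩ := Set.not_subset.mp h2
  have hKI : K ≤ I := by rw [hK]; exact Ideal.mul_le_left
  have hiI : i ∈ I := hKI hiK
  refine ⟨a₀ + i, ?_, ?_⟩
  · have hcompl : a₀ + i ∉ (nonZeroDivisors A : Set A)ᶜ := by
      rw [← biUnion_associatedPrimes_eq_compl_nonZeroDivisors A]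
      simp only [Set.mem_iUnion, SetLike.mem_coe, exists_prop, not_exists, not_and]
      intro p hp hap
      have hpmin : p ∈ minimalPrimes A := hS1 p hp
      have hpS : p ∈ S := (hSmem p).mpr hpmin
      by_cases ha₀ : a₀ ∈ p
      · have hpS₁ : p ∈ S₁ := Finset.mem_filter.mpr ⟨hpS, ha₀⟩
        apply hi
        simp only [Set.mem_iUnion, SetLike.mem_coe, exists_prop]
        refine ⟨p, hpS₁, ?_⟩
        have : i = (a₀ + i) - a₀ := by ring
        rw [this]
        exact p.sub_mem hap ha₀
      · have hpS₂ : p ∈ S₂ := Finset.mem_filter.mpr ⟨hpS, ha₀⟩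
        have hKp : K ≤ p := by
          rw [hK]
          exact (Ideal.mul_le_right).trans ((Ideal.IsPrime.prod_le hpmin.1.1).mpr ⟨p, hpS₂, le_rfl⟩)
        apply ha₀
        have : a₀ = (a₀ + i) - i := by ring
        rw [this]
        exact p.sub_mem hap (hKp hiK)
    simpa using hcompl
  · rw [map_add, Ideal.Quotient.eq_zero_iff_mem.mpr hiI, add_zero]

end Groth.Agent.S15706
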