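import Groth.Statements.S15708
import Mathlib

set_option autoImplicit false
universe u v
open CAlg

namespace Groth.Agent.S15708

section Aux

variable {R : Type u} {A : Type v} [CommRing R] [CommRing A] [Algebra R A]
  (𝒜 : ℕ → Submodule R A) [GradedRing 𝒜]

theorem lemmaH (K p : Ideal A) (hK : K.IsHomogeneous 𝒜) (h : ¬ K ≤ p) :
    ∃ (m : ℕ) (y : A), y ∈ 𝒜 m ∧ y ∈ K ∧ y ∉ p := by
  classical
  by_contra hcon
  push_neg at hcon
  apply h
  intro x hx
  rw [← DirectSum.sum_support_decompose 𝒜 x]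
  refine Ideal.sum_mem _ fun i _ => ?_
  exact hcon i _ (SetLike.coe_mem _) (hK i hx)

theorem base (J p : Ideal A) (hJ : J.IsHomogeneous 𝒜) (hp : p.IsPrime)
    (hirr : ¬ (HomogeneousIdeal.irrelevant 𝒜).toIdeal ≤ p) (hJp : ¬ J ≤ p) :
    ∃ (w : A) (k : ℕ), 0 < k ∧ w ∈ 𝒜 k ∧ w ∈ J ∧ w ∉ p := by
  obtain ⟨m, x, hxm, hxJ, hxp⟩ := lemmaH 𝒜 J p hJ hJp
  obtain ⟨k, y, hyk, hyI, hyp⟩ :=
    lemmaH 𝒜 _ p (HomogeneousIdeal.irrelevant 𝒜).isHomogeneous hirr
  have hk : 0 < k := by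
    rcases Nat.eq_zero_or_pos k with rfl | h
    · exfalso
      apply hyp
      have : y = 0 := by
        have h1 := (HomogeneousIdeal.mem_irrelevant_iff 𝒜 y).mp hyI
        rw [GradedRing.proj_apply, DirectSum.decompose_of_mem_same 𝒜 hyk] at h1
        exact h1
      rw [this]; exact Submodule.zero_mem _
    · exact h
  refine ⟨x * y, m + k, by omega, SetLike.mul_mem_graded hxm hyk, J.mul_mem_right _ hxJ, ?_⟩
  intro h
  rcases hp.mem_or_mem h with h | h
  · exact hxp h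
  · exact hyp h

theorem main (J : Ideal A) (hJ : J.IsHomogeneous 𝒜) :
    ∀ (r : ℕ) (P : Finset (Ideal A)), P.card = r →
      (∀ p ∈ P, p.IsPrime ∧ p.IsHomogeneous 𝒜 ∧
        ¬ (HomogeneousIdeal.irrelevant 𝒜).toIdeal ≤ p ∧ ¬ J ≤ p) →
      ∃ (z : A) (n : ℕ), 0 < n ∧ z ∈ 𝒜 n ∧ z ∈ J ∧ ∀ p ∈ P, z ∉ p := by
  classical
  intro r
  induction r using Nat.strong_induction_on with
  | _ r ih =>
  intro P hcard hP
  rcases P.eq_empty_or_nonempty with rfl | ⟨p, hpP⟩
  · exact ⟨0, 1, one_pos, Submodule.zero_mem _, Submodule.zero_mem _, by simp⟩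
  · obtain ⟨hpprime, hphom, hpirr, hpJ⟩ := hP p hpP
    have hcard' : (P.erase p).card < r := by
      rw [← hcard]; exact Finset.card_erase_lt_of_mem hpP
    obtain ⟨z', n, hn, hz'n, hz'J, hz'P⟩ := ih _ hcard' (P.erase p) rfl
      (fun q hq => hP q (Finset.mem_of_mem_erase hq))
    by_cases hz'p : z' ∈ p
    swap
    · refine ⟨z', n, hn, hz'n, hz'J, fun q hq => ?_⟩
      by_cases hqp : q = p
      · rw [hqp]; exact hz'p
      · exact hz'P q (Finset.mem_erase.mpr ⟨hqp, hq⟩)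
    by_cases hsub : ∃ q ∈ P.erase p, q ≤ p
    · obtain ⟨q, hq, hqp⟩ := hsub
      have hqP : q ∈ P := Finset.mem_of_mem_erase hq
      have hcard'' : (P.erase q).card < r := by
        rw [← hcard]; exact Finset.card_erase_lt_of_mem hqP
      obtain ⟨z, m, hm, hzm, hzJ, hzP⟩ := ih _ hcard'' (P.erase q) rfl
        (fun q' hq' => hP q' (Finset.mem_of_mem_erase hq'))
      refine ⟨z, m, hm, hzm, hzJ, fun q' hq' => ?_⟩
      by_cases hq'q : q' = q
      · rw [hq'q]
        have hpne : p ≠ q := fun h => (Finset.mem_erase.mp hq).1 h.symm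
        have : z ∉ p := hzP p (Finset.mem_erase.mpr ⟨hpne, hpP⟩)
        exact fun hzq => this (hqp hzq)
      · exact hzP q' (Finset.mem_erase.mpr ⟨hq'q, hq'⟩)
    · push_neg at hsub
      have hy : ∀ q ∈ P.erase p, ∃ (y : A) (m : ℕ), y ∈ 𝒜 m ∧ y ∈ q ∧ y ∉ p := by
        intro q hq
        obtain ⟨m, y, hym, hyq, hyp⟩ :=
          lemmaH 𝒜 q p (hP q (Finset.mem_of_mem_erase hq)).2.1 (hsub q hq)
        exact ⟨y, m, hym, hyq, hyp⟩
      choose! y m hym hyq hyp using hy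
      obtain ⟨w, k, hk, hwk, hwJ, hwp⟩ := base 𝒜 J p hJ hpprime hpirr hpJ
      obtain ⟨t, ht⟩ : ∃ t, t = w * ∏ q ∈ P.erase p, y q := ⟨_, rfl⟩
      obtain ⟨d, hd⟩ : ∃ d, d = k + ∑ q ∈ P.erase p, m q := ⟨_, rfl⟩
      have hdpos : 0 < d := by omega
      have htd : t ∈ 𝒜 d := by
        rw [ht, hd]
        exact SetLike.mul_mem_graded hwk
          (SetLike.prod_mem_graded 𝒜 m y (fun q hq => hym q hq))
      have htJ : t ∈ J := by rw [ht]; exact J.mul_mem_right _ hwJ
      have htp : t ∉ p := by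
        rw [ht]
        intro h
        rcases hpprime.mem_or_mem h with h | h
        · exact hwp h
        · haveI := hpprime
          obtain ⟨q, hq, hyqp⟩ := Ideal.IsPrime.prod_mem_iff.mp h
          exact hyp q hq hyqp
      have htq : ∀ q ∈ P.erase p, t ∈ q := by
        intro q hq
        rw [ht]
        apply Ideal.mul_mem_left
        obtain ⟨c, hc⟩ := Finset.dvd_prod_of_mem y hq
        rw [hc]; exact Ideal.mul_mem_right _ _ (hyq q hq)
      refine ⟨z' ^ d + t ^ n, n * d, Nat.mul_pos hn hdpos, ?_, ?_, ?_⟩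
      · apply Submodule.add_mem
        · have := SetLike.pow_mem_graded d hz'n
          rwa [smul_eq_mul, mul_comm] at this
        · have := SetLike.pow_mem_graded n htd
          rwa [smul_eq_mul] at this
      · exact J.add_mem (J.pow_mem_of_mem hz'J d hdpos) (J.pow_mem_of_mem htJ n hn)
      · intro q hq hzq
        by_cases hqp : q = p
        · rw [hqp] at hzq
          have h1 : z' ^ d ∈ p := Ideal.pow_mem_of_mem _ hz'p d hdpos
          have h2 : t ^ n ∈ p := (Ideal.add_mem_iff_right _ h1).mp hzq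
          exact htp (hpprime.mem_of_pow_mem n h2)
        · have hq' : q ∈ P.erase p := Finset.mem_erase.mpr ⟨hqp, hq⟩
          have hqprime := (hP q hq).1
          have h1 : t ^ n ∈ q := Ideal.pow_mem_of_mem _ (htq q hq') n hn
          have h2 : z' ^ d ∈ q := (Ideal.add_mem_iff_left _ h1).mp hzq
          exact hz'P q hq' (hqprime.mem_of_pow_mem d h2)

end Aux

/-- Let A be a Noetherian commutative ring graded by the natural numbers, J a homogeneous ideal, and
p_1, ..., p_r finitely many prime ideals such that no p_i contains the irrelevant ideal A_+ and no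
p_i contains J. Then there is a homogeneous element z of positive degree with z in J and z in no
p_i. -/
theorem result {R : Type u} {A : Type v} [CommRing R] [CommRing A]
    [Algebra R A] [IsNoetherianRing A] (𝒜 : ℕ → Submodule R A) [GradedRing 𝒜]
    (J : Ideal A) (hJ : J.IsHomogeneous 𝒜) (P : Finset (Ideal A))
    (hP : ∀ p ∈ P, p.IsPrime ∧ ¬ (HomogeneousIdeal.irrelevant 𝒜).toIdeal ≤ p ∧ ¬ J ≤ p) :
    ∃ (z : A) (n : ℕ), 0 < n ∧ z ∈ 𝒜 n ∧ z ∈ J ∧ ∀ p ∈ P, z ∉ p := by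
  classical
  obtain ⟨P', hP'⟩ : ∃ P' : Finset (Ideal A),
      P' = P.image (fun p => (p.homogeneousCore 𝒜).toIdeal) := ⟨_, rfl⟩
  have hP'prop : ∀ p' ∈ P', p'.IsPrime ∧ p'.IsHomogeneous 𝒜 ∧
      ¬ (HomogeneousIdeal.irrelevant 𝒜).toIdeal ≤ p' ∧ ¬ J ≤ p' := by
    intro p' hp'
    rw [hP', Finset.mem_image] at hp'
    obtain ⟨p, hp, rfl⟩ := hp'
    obtain ⟨h1, h2, h3⟩ := hP p hp
    exact ⟨h1.homogeneousCore, (p.homogeneousCore 𝒜).isHomogeneous,
      fun h => h2 (h.trans (Ideal.toIdeal_homogeneousCore_le 𝒜 p)),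
      fun h => h3 (h.trans (Ideal.toIdeal_homogeneousCore_le 𝒜 p))⟩
  obtain ⟨z, n, hn, hzn, hzJ, hzP⟩ := main 𝒜 J hJ P'.card P' rfl hP'prop
  refine ⟨z, n, hn, hzn, hzJ, fun p hp hzp => ?_⟩
  apply hzP _ (by rw [hP']; exact Finset.mem_image_of_mem _ hp)
  exact Ideal.mem_homogeneousCore_of_homogeneous_of_mem ⟨n, hzn⟩ hzp

end Groth.Agent.S15708
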