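import Groth.Statements.S15724
import Mathlib
import Groth.Agent.Lib.helper8.WtPiece

set_option autoImplicit false
universe u
open W4c2invhilbsl2 MvPolynomial

namespace Groth.Agent.S15724

/-- Grade the polynomial ring k[X₀,…,X₄] over a field k by ℤ × ℤ/m, giving X₀ weight (1,0), X₁ and X₂
weight (−p,−1), and X₃ and X₄ weight (q,1), where 0 < p < q are coprime integers and m ≥ 1, and let
P be the principal ideal generated by the weight-zero element X₀^(q−p) − X₁X₄ + X₂X₃ (the equation
of an affine hypersurface). Then every polynomial homogeneous of the weight of X₁ is congruent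
modulo P to some a·X₁ + b·X₂ with a and b homogeneous of weight zero, and every polynomial
homogeneous of the weight of X₃ is congruent modulo P to some a·X₃ + b·X₄ with a and b homogeneous
of weight zero. Equivalently, in the coordinate ring of the hypersurface the weight pieces of the
weights of X₁ and of X₃ are generated over the weight-zero subring (the ring of invariants of the
diagonal action of a one-dimensional torus times the group of m-th roots of unity with these
weights) by X₁, X₂ and by X₃, X₄ respectively. (For the weight of X₁ the congruence is already an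
equality in the polynomial ring; for the weight of X₃ the hypersurface equation is needed, e.g.
X₀^(q+p)X₁ has that weight when m divides 2.) -/
theorem result (k : Type u) [Field k] (p q m : ℕ) (hp : 0 < p) (hpq : p < q) (hcop : Nat.Coprime p q) (hm : 0 < m) (f : MvPolynomial (Fin 5) k) :
    (f ∈ MvPolynomial.weightedHomogeneousSubmodule k (W4c2invhilbsl2.wt5 p q m) (W4c2invhilbsl2.wt5 p q m 1) →
      ∃ a b : MvPolynomial (Fin 5) k, a ∈ MvPolynomial.weightedHomogeneousSubmodule k (W4c2invhilbsl2.wt5 p q m) 0 ∧ b ∈ MvPolynomial.weightedHomogeneousSubmodule k (W4c2invhilbsl2.wt5 p q m) 0 ∧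
        f - (a * MvPolynomial.X (1 : Fin 5) + b * MvPolynomial.X (2 : Fin 5)) ∈ Ideal.span {MvPolynomial.X (0 : Fin 5) ^ (q - p) - MvPolynomial.X 1 * MvPolynomial.X 4 + MvPolynomial.X 2 * MvPolynomial.X 3}) ∧
    (f ∈ MvPolynomial.weightedHomogeneousSubmodule k (W4c2invhilbsl2.wt5 p q m) (W4c2invhilbsl2.wt5 p q m 3) →
      ∃ a b : MvPolynomial (Fin 5) k, a ∈ MvPolynomial.weightedHomogeneousSubmodule k (W4c2invhilbsl2.wt5 p q m) 0 ∧ b ∈ MvPolynomial.weightedHomogeneousSubmodule k (W4c2invhilbsl2.wt5 p q m) 0 ∧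
        f - (a * MvPolynomial.X (3 : Fin 5) + b * MvPolynomial.X (4 : Fin 5)) ∈ Ideal.span {MvPolynomial.X (0 : Fin 5) ^ (q - p) - MvPolynomial.X 1 * MvPolynomial.X 4 + MvPolynomial.X 2 * MvPolynomial.X 3}) := by
  have hz := (weightedHomogeneousSubmodule k (wt5 p q m) 0).zero_mem
  have hp' : (0:ℤ) < p := by exact_mod_cast hp
  have hq0 : (0:ℤ) ≤ q := by positivity
  constructor
  · intro hf
    have key : weightedHomogeneousSubmodule k (wt5 p q m) (wt5 p q m 1) ≤
        H8WP.comb2 (weightedHomogeneousSubmodule k (wt5 p q m) 0)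
          (Ideal.span {X (0 : Fin 5) ^ (q - p) - X 1 * X 4 + X 2 * X 3})
          (X (1 : Fin 5)) (X (2 : Fin 5)) := by
      apply H8WP.le_of_monomials
      intro d hd
      have hw1 := congrArg Prod.fst hd
      have hw2 := congrArg Prod.snd hd
      rw [H8WP.weight_wt5_fst] at hw1
      rw [H8WP.weight_wt5_snd] at hw2
      have hw1' : (d 0 : ℤ) - p * d 1 - p * d 2 + q * d 3 + q * d 4 = -p := hw1
      have hw2' : (m : ℤ) ∣ (d 3 : ℤ) + d 4 - d 1 - d 2 + 1 := by
        apply (CharP.intCast_eq_zero_iff (ZMod m) m _).mp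
        have h2 : (((d 3 : ℤ) + d 4 - d 1 - d 2 : ℤ) : ZMod m) = -1 := hw2
        rw [Int.cast_add, h2]; simp
      rw [H8WP.monomial_fin5]
      have hd0 : (0:ℤ) ≤ d 0 := by positivity
      rcases Nat.eq_zero_or_pos (d 1) with h1 | h1
      · rcases Nat.eq_zero_or_pos (d 2) with h2 | h2
        · exfalso
          rw [h1, h2] at hw1'
          push_cast at hw1'
          have h3 : (0:ℤ) ≤ q * d 3 := by positivity
          have h4 : (0:ℤ) ≤ q * d 4 := by positivity
          linarith
        · obtain ⟨b, hb⟩ := Nat.exists_eq_add_of_le h2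
          refine (H8WP.mem_comb2 _ _ _ _ _).mpr
            ⟨0, X 0 ^ d 0 * X 1 ^ d 1 * X 2 ^ b * X 3 ^ d 3 * X 4 ^ d 4, hz,
              H8WP.pow5_mem p q m _ _ _ _ _ ?_ ?_, ?_⟩
          · rw [hb] at hw1'; push_cast at hw1'; linarith
          · rw [hb] at hw2'; push_cast at hw2'; convert hw2' using 1; ring
          · refine H8WP.mem_of_eq_zero _ ?_
            rw [hb]; ring
      · obtain ⟨b, hb⟩ := Nat.exists_eq_add_of_le h1
        refine (H8WP.mem_comb2 _ _ _ _ _).mpr
          ⟨X 0 ^ d 0 * X 1 ^ b * X 2 ^ d 2 * X 3 ^ d 3 * X 4 ^ d 4, 0,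
            H8WP.pow5_mem p q m _ _ _ _ _ ?_ ?_, hz, ?_⟩
        · rw [hb] at hw1'; push_cast at hw1'; linarith
        · rw [hb] at hw2'; push_cast at hw2'; convert hw2' using 1; ring
        · refine H8WP.mem_of_eq_zero _ ?_
          rw [hb]; ring
    obtain ⟨a, b, ha, hb, h⟩ := (H8WP.mem_comb2 _ _ _ _ _).mp (key hf)
    exact ⟨a, b, ha, hb, h⟩
  · intro hf
    have key : weightedHomogeneousSubmodule k (wt5 p q m) (wt5 p q m 3) ≤
        H8WP.comb2 (weightedHomogeneousSubmodule k (wt5 p q m) 0)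
          (Ideal.span {X (0 : Fin 5) ^ (q - p) - X 1 * X 4 + X 2 * X 3})
          (X (3 : Fin 5)) (X (4 : Fin 5)) := by
      apply H8WP.le_of_monomials
      intro d hd
      have hw1 := congrArg Prod.fst hd
      have hw2 := congrArg Prod.snd hd
      rw [H8WP.weight_wt5_fst] at hw1
      rw [H8WP.weight_wt5_snd] at hw2
      have hw1' : (d 0 : ℤ) - p * d 1 - p * d 2 + q * d 3 + q * d 4 = q := hw1
      have hw2' : (m : ℤ) ∣ (d 3 : ℤ) + d 4 - d 1 - d 2 - 1 := by
        apply (CharP.intCast_eq_zero_iff (ZMod m) m _).mp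
        have h2 : (((d 3 : ℤ) + d 4 - d 1 - d 2 : ℤ) : ZMod m) = 1 := hw2
        rw [Int.cast_sub, h2]; simp
      rw [H8WP.monomial_fin5]
      rcases Nat.eq_zero_or_pos (d 3) with h3 | h3
      · rcases Nat.eq_zero_or_pos (d 4) with h4 | h4
        · have hd0 : d 0 = (q - p) + p * (d 1 + d 2 + 1) := by
            rw [h3, h4] at hw1'
            zify [hpq.le]
            push_cast at hw1'
            linarith
          have hwa : (X 0 ^ (p * (d 1 + d 2 + 1)) * X 1 ^ d 1 * X 2 ^ (d 2 + 1) * X 3 ^ 0 * X 4 ^ 0 :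
              MvPolynomial (Fin 5) k) ∈ weightedHomogeneousSubmodule k (wt5 p q m) 0 := by
            refine H8WP.pow5_mem p q m _ _ _ _ _ ?_ ?_
            · push_cast; ring
            · rw [h3, h4] at hw2'; push_cast at hw2' ⊢; convert hw2' using 1; ring
          have hwb : (X 0 ^ (p * (d 1 + d 2 + 1)) * X 1 ^ (d 1 + 1) * X 2 ^ d 2 * X 3 ^ 0 * X 4 ^ 0 :
              MvPolynomial (Fin 5) k) ∈ weightedHomogeneousSubmodule k (wt5 p q m) 0 := by
            refine H8WP.pow5_mem p q m _ _ _ _ _ ?_ ?_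
            · push_cast; ring
            · rw [h3, h4] at hw2'; push_cast at hw2' ⊢; convert hw2' using 1; ring
          refine (H8WP.mem_comb2 _ _ _ _ _).mpr ⟨_, _, Submodule.neg_mem _ hwa, hwb, ?_⟩
          refine H8WP.mem_of_eq_mul _ _
            (X 0 ^ (p * (d 1 + d 2 + 1)) * X 1 ^ d 1 * X 2 ^ d 2)
            (Ideal.subset_span (Set.mem_singleton _)) ?_
          rw [hd0, h3, h4]; ring
        · obtain ⟨b, hb⟩ := Nat.exists_eq_add_of_le h4
          refine (H8WP.mem_comb2 _ _ _ _ _).mpr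
            ⟨0, X 0 ^ d 0 * X 1 ^ d 1 * X 2 ^ d 2 * X 3 ^ d 3 * X 4 ^ b, hz,
              H8WP.pow5_mem p q m _ _ _ _ _ ?_ ?_, ?_⟩
          · rw [hb] at hw1'; push_cast at hw1'; linarith
          · rw [hb] at hw2'; push_cast at hw2'; convert hw2' using 1; ring
          · refine H8WP.mem_of_eq_zero _ ?_
            rw [hb]; ring
      · obtain ⟨b, hb⟩ := Nat.exists_eq_add_of_le h3
        refine (H8WP.mem_comb2 _ _ _ _ _).mpr
          ⟨X 0 ^ d 0 * X 1 ^ d 1 * X 2 ^ d 2 * X 3 ^ b * X 4 ^ d 4, 0,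
            H8WP.pow5_mem p q m _ _ _ _ _ ?_ ?_, hz, ?_⟩
        · rw [hb] at hw1'; push_cast at hw1'; linarith
        · rw [hb] at hw2'; push_cast at hw2'; convert hw2' using 1; ring
        · refine H8WP.mem_of_eq_zero _ ?_
          rw [hb]; ring
    obtain ⟨a, b, ha, hb, h⟩ := (H8WP.mem_comb2 _ _ _ _ _).mp (key hf)
    exact ⟨a, b, ha, hb, h⟩

end Groth.Agent.S15724
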