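import Groth.Statements.S15725
import Mathlib
import Groth.Agent.Lib.helper8.WtPiece

set_option autoImplicit false
universe u
open W4c2invhilbsl2 MvPolynomial

namespace Groth.Agent.S15725

/-- Grade the polynomial ring k[X₀,X₁,X₂] over a field k by ℤ × ℤ/m, giving X₀ weight (1,0), X₁ weight
(−p,−1) and X₂ weight (q,1), where 0 < p < q are coprime integers and m ≥ 1 (this three-variable
ring stands for the subring k[X₀,X₁,Xⱼ], j = 3 or 4, of the five-variable ring with the same
weights). Then every polynomial homogeneous of weight (q−p, 0) can be written a·X₀^(q−p) + b·X₁X₂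
with a and b homogeneous of weight zero; in other words the weight-(q−p, 0) piece is generated by
X₀^(q−p) and X₁X₂ as a module over the weight-zero subring. -/
theorem result (k : Type u) [Field k] (p q m : ℕ) (hp : 0 < p) (hpq : p < q) (hcop : Nat.Coprime p q) (hm : 0 < m) (f : MvPolynomial (Fin 3) k)
    (hf : f ∈ MvPolynomial.weightedHomogeneousSubmodule k (W4c2invhilbsl2.wt3 p q m) ((q : ℤ) - (p : ℤ), (0 : ZMod m))) :
    ∃ a b : MvPolynomial (Fin 3) k, a ∈ MvPolynomial.weightedHomogeneousSubmodule k (W4c2invhilbsl2.wt3 p q m) 0 ∧ b ∈ MvPolynomial.weightedHomogeneousSubmodule k (W4c2invhilbsl2.wt3 p q m) 0 ∧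
      f = a * MvPolynomial.X (0 : Fin 3) ^ (q - p) + b * (MvPolynomial.X (1 : Fin 3) * MvPolynomial.X (2 : Fin 3)) := by
  have key : weightedHomogeneousSubmodule k (wt3 p q m) ((q:ℤ) - p, 0) ≤
      Submodule.map (LinearMap.mulRight k (X (0 : Fin 3) ^ (q - p)))
        (weightedHomogeneousSubmodule k (wt3 p q m) 0) ⊔
      Submodule.map (LinearMap.mulRight k (X (1 : Fin 3) * X (2 : Fin 3)))
        (weightedHomogeneousSubmodule k (wt3 p q m) 0) := by
    apply H8WP.le_of_monomials
    intro d hd
    have hw1 := congrArg Prod.fst hd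
    have hw2 := congrArg Prod.snd hd
    rw [H8WP.weight_wt3_fst] at hw1
    rw [H8WP.weight_wt3_snd] at hw2
    have hw1' : (d 0 : ℤ) - p * d 1 + q * d 2 = q - p := hw1
    have hw2' : (m : ℤ) ∣ (d 2 : ℤ) - d 1 := (CharP.intCast_eq_zero_iff (ZMod m) m _).mp hw2
    rw [H8WP.monomial_fin3]
    by_cases hA : 1 ≤ d 1 ∧ 1 ≤ d 2
    · obtain ⟨b, hb⟩ := Nat.exists_eq_add_of_le hA.1
      obtain ⟨c, hc⟩ := Nat.exists_eq_add_of_le hA.2
      apply Submodule.mem_sup_right
      refine ⟨X 0 ^ d 0 * X 1 ^ b * X 2 ^ c, H8WP.pow3_mem p q m _ _ _ ?_ ?_, ?_⟩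
      · rw [hb, hc] at hw1'; push_cast at hw1'; linarith
      · rw [hb, hc] at hw2'; push_cast at hw2'; convert hw2' using 1; ring
      · rw [LinearMap.mulRight_apply, hb, hc]; ring
    · by_cases hB : d 1 = 0
      · have hd2 : d 2 = 0 := by
          by_contra h
          have h1 : (1:ℤ) ≤ d 2 := by exact_mod_cast Nat.one_le_iff_ne_zero.mpr h
          have hq0 : (0:ℤ) ≤ q := by positivity
          have h3 : (q:ℤ) ≤ q * d 2 := le_mul_of_one_le_right hq0 h1
          rw [hB] at hw1'
          push_cast at hw1'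
          have hp' : (0:ℤ) < p := by exact_mod_cast hp
          have hd0 : (0:ℤ) ≤ d 0 := by positivity
          linarith
        have hd0 : d 0 = q - p := by
          rw [hB, hd2] at hw1'
          zify [hpq.le]
          push_cast at hw1'
          linarith
        apply Submodule.mem_sup_left
        refine ⟨1, isWeightedHomogeneous_one k _, ?_⟩
        rw [LinearMap.mulRight_apply, hB, hd2, hd0]; ring
      · have hd2 : d 2 = 0 := by omega
        have hd0 : d 0 = (q - p) + p * d 1 := by
          rw [hd2] at hw1'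
          zify [hpq.le]
          push_cast at hw1'
          linarith
        apply Submodule.mem_sup_left
        refine ⟨X 0 ^ (p * d 1) * X 1 ^ d 1 * X 2 ^ 0, H8WP.pow3_mem p q m _ _ _ ?_ ?_, ?_⟩
        · push_cast; ring
        · rw [hd2] at hw2'; exact hw2'
        · rw [LinearMap.mulRight_apply, hd0, hd2]; ring
  obtain ⟨y, hy, z, hz, hyz⟩ := Submodule.mem_sup.mp (key hf)
  obtain ⟨a, ha, rfl⟩ := hy
  obtain ⟨b, hb, rfl⟩ := hz
  exact ⟨a, b, ha, hb, hyz.symm⟩

end Groth.Agent.S15725
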