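import Groth.Statements.S15726
import Mathlib
import Groth.Agent.Lib.helper8.WtPiece

set_option autoImplicit false
universe u
open W4c2invhilbsl2 MvPolynomial

namespace Groth.Agent.S15726

/-- Grade the polynomial ring k[X₀,…,X₄] over a field k by ℤ × ℤ/m, giving X₀ weight (1,0), X₁ and X₂
weight (−p,−1), and X₃ and X₄ weight (q,1), where 0 < p < q are coprime integers and m ≥ 1. Then
modulo the principal ideal generated by the weight-zero element X₀^(q−p) − X₁X₄ + X₂X₃ (the equation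
of an affine hypersurface), every polynomial homogeneous of weight (q−p, 0) is congruent to a
combination a₁₃X₁X₃ + a₁₄X₁X₄ + a₂₃X₂X₃ + a₂₄X₂X₄ whose four coefficients are homogeneous of weight
zero. Equivalently, in the coordinate ring of the hypersurface the weight-(q−p, 0) piece is
generated over the weight-zero subring (the invariant ring of the diagonal action with these
weights) by the span of the four products XₐX_b with a ∈ {1,2} and b ∈ {3,4}. (The published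
statement is over the complex numbers; this row takes any field.) -/
theorem result (k : Type u) [Field k] (p q m : ℕ) (hp : 0 < p) (hpq : p < q) (hcop : Nat.Coprime p q) (hm : 0 < m) (f : MvPolynomial (Fin 5) k)
    (hf : f ∈ MvPolynomial.weightedHomogeneousSubmodule k (W4c2invhilbsl2.wt5 p q m) ((q : ℤ) - (p : ℤ), (0 : ZMod m))) :
    ∃ a₁₃ a₁₄ a₂₃ a₂₄ : MvPolynomial (Fin 5) k,
      a₁₃ ∈ MvPolynomial.weightedHomogeneousSubmodule k (W4c2invhilbsl2.wt5 p q m) 0 ∧ a₁₄ ∈ MvPolynomial.weightedHomogeneousSubmodule k (W4c2invhilbsl2.wt5 p q m) 0 ∧ a₂₃ ∈ MvPolynomial.weightedHomogeneousSubmodule k (W4c2invhilbsl2.wt5 p q m) 0 ∧ a₂₄ ∈ MvPolynomial.weightedHomogeneousSubmodule k (W4c2invhilbsl2.wt5 p q m) 0 ∧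
      f - (a₁₃ * (MvPolynomial.X (1 : Fin 5) * MvPolynomial.X 3) + a₁₄ * (MvPolynomial.X (1 : Fin 5) * MvPolynomial.X 4) +
          a₂₃ * (MvPolynomial.X (2 : Fin 5) * MvPolynomial.X 3) + a₂₄ * (MvPolynomial.X (2 : Fin 5) * MvPolynomial.X 4)) ∈
        Ideal.span {MvPolynomial.X (0 : Fin 5) ^ (q - p) - MvPolynomial.X 1 * MvPolynomial.X 4 + MvPolynomial.X 2 * MvPolynomial.X 3} := by
  have key : weightedHomogeneousSubmodule k (wt5 p q m) ((q:ℤ) - p, 0) ≤
      H8WP.comb4 (weightedHomogeneousSubmodule k (wt5 p q m) 0)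
        (Ideal.span {X (0 : Fin 5) ^ (q - p) - X 1 * X 4 + X 2 * X 3})
        (X (1 : Fin 5) * X 3) (X (1 : Fin 5) * X 4) (X (2 : Fin 5) * X 3)
        (X (2 : Fin 5) * X 4) := by
    apply H8WP.le_of_monomials
    intro d hd
    have hw1 := congrArg Prod.fst hd
    have hw2 := congrArg Prod.snd hd
    rw [H8WP.weight_wt5_fst] at hw1
    rw [H8WP.weight_wt5_snd] at hw2
    have hw1' : (d 0 : ℤ) - p * d 1 - p * d 2 + q * d 3 + q * d 4 = q - p := hw1
    have hw2' : (m : ℤ) ∣ (d 3 : ℤ) + d 4 - d 1 - d 2 :=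
      (CharP.intCast_eq_zero_iff (ZMod m) m _).mp hw2
    rw [H8WP.monomial_fin5]
    have hz := (weightedHomogeneousSubmodule k (wt5 p q m) 0).zero_mem
    have hp' : (0:ℤ) < p := by exact_mod_cast hp
    have hq0 : (0:ℤ) ≤ q := by positivity
    have hd0 : (0:ℤ) ≤ d 0 := by positivity
    by_cases h34 : d 3 = 0 ∧ d 4 = 0
    · have hd0 : d 0 = (q - p) + p * d 1 + p * d 2 := by
        rw [h34.1, h34.2] at hw1'
        zify [hpq.le]
        push_cast at hw1'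
        linarith
      have hw : (X 0 ^ (p * d 1 + p * d 2) * X 1 ^ d 1 * X 2 ^ d 2 * X 3 ^ 0 * X 4 ^ 0 :
          MvPolynomial (Fin 5) k) ∈ weightedHomogeneousSubmodule k (wt5 p q m) 0 := by
        refine H8WP.pow5_mem p q m _ _ _ _ _ ?_ ?_
        · push_cast; ring
        · rw [h34.1, h34.2] at hw2'; exact hw2'
      refine (H8WP.mem_comb4 _ _ _ _ _ _ _).mpr ⟨0, _, _, 0, hz, hw, Submodule.neg_mem _ hw, hz, ?_⟩
      refine H8WP.mem_of_eq_mul _ _
        (X 0 ^ (p * d 1 + p * d 2) * X 1 ^ d 1 * X 2 ^ d 2 * X 3 ^ 0 * X 4 ^ 0)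
        (Ideal.subset_span (Set.mem_singleton _)) ?_
      rw [hd0, h34.1, h34.2]; ring
    by_cases h13 : 1 ≤ d 1 ∧ 1 ≤ d 3
    · obtain ⟨b, hb⟩ := Nat.exists_eq_add_of_le h13.1
      obtain ⟨c, hc⟩ := Nat.exists_eq_add_of_le h13.2
      refine (H8WP.mem_comb4 _ _ _ _ _ _ _).mpr
        ⟨X 0 ^ d 0 * X 1 ^ b * X 2 ^ d 2 * X 3 ^ c * X 4 ^ d 4, 0, 0, 0,
          H8WP.pow5_mem p q m _ _ _ _ _ ?_ ?_, hz, hz, hz, ?_⟩
      · rw [hb, hc] at hw1'; push_cast at hw1'; linarith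
      · rw [hb, hc] at hw2'; push_cast at hw2'; convert hw2' using 1; ring
      · refine H8WP.mem_of_eq_zero _ ?_
        rw [hb, hc]; ring
    by_cases h14 : 1 ≤ d 1 ∧ 1 ≤ d 4
    · obtain ⟨b, hb⟩ := Nat.exists_eq_add_of_le h14.1
      obtain ⟨c, hc⟩ := Nat.exists_eq_add_of_le h14.2
      refine (H8WP.mem_comb4 _ _ _ _ _ _ _).mpr
        ⟨0, X 0 ^ d 0 * X 1 ^ b * X 2 ^ d 2 * X 3 ^ d 3 * X 4 ^ c, 0, 0, hz,
          H8WP.pow5_mem p q m _ _ _ _ _ ?_ ?_, hz, hz, ?_⟩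
      · rw [hb, hc] at hw1'; push_cast at hw1'; linarith
      · rw [hb, hc] at hw2'; push_cast at hw2'; convert hw2' using 1; ring
      · refine H8WP.mem_of_eq_zero _ ?_
        rw [hb, hc]; ring
    by_cases h23 : 1 ≤ d 2 ∧ 1 ≤ d 3
    · obtain ⟨b, hb⟩ := Nat.exists_eq_add_of_le h23.1
      obtain ⟨c, hc⟩ := Nat.exists_eq_add_of_le h23.2
      refine (H8WP.mem_comb4 _ _ _ _ _ _ _).mpr
        ⟨0, 0, X 0 ^ d 0 * X 1 ^ d 1 * X 2 ^ b * X 3 ^ c * X 4 ^ d 4, 0, hz, hz,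
          H8WP.pow5_mem p q m _ _ _ _ _ ?_ ?_, hz, ?_⟩
      · rw [hb, hc] at hw1'; push_cast at hw1'; linarith
      · rw [hb, hc] at hw2'; push_cast at hw2'; convert hw2' using 1; ring
      · refine H8WP.mem_of_eq_zero _ ?_
        rw [hb, hc]; ring
    by_cases h24 : 1 ≤ d 2 ∧ 1 ≤ d 4
    · obtain ⟨b, hb⟩ := Nat.exists_eq_add_of_le h24.1
      obtain ⟨c, hc⟩ := Nat.exists_eq_add_of_le h24.2
      refine (H8WP.mem_comb4 _ _ _ _ _ _ _).mpr
        ⟨0, 0, 0, X 0 ^ d 0 * X 1 ^ d 1 * X 2 ^ b * X 3 ^ d 3 * X 4 ^ c, hz, hz, hz,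
          H8WP.pow5_mem p q m _ _ _ _ _ ?_ ?_, ?_⟩
      · rw [hb, hc] at hw1'; push_cast at hw1'; linarith
      · rw [hb, hc] at hw2'; push_cast at hw2'; convert hw2' using 1; ring
      · refine H8WP.mem_of_eq_zero _ ?_
        rw [hb, hc]; ring
    exfalso
    have h1 : d 1 = 0 := by omega
    have h2 : d 2 = 0 := by omega
    have h34' : (1:ℤ) ≤ (d 3 : ℤ) + d 4 := by omega
    have h5 : (q:ℤ) ≤ q * ((d 3 : ℤ) + d 4) := le_mul_of_one_le_right hq0 h34'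
    rw [h1, h2] at hw1'
    push_cast at hw1'
    linarith
  obtain ⟨a1, a2, a3, a4, h1, h2, h3, h4, h⟩ := (H8WP.mem_comb4 _ _ _ _ _ _ _).mp (key hf)
  exact ⟨a1, a2, a3, a4, h1, h2, h3, h4, h⟩

end Groth.Agent.S15726
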