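import Groth.Statements.S15727
import Mathlib
import Groth.Agent.Lib.helper8.WtPiece

set_option autoImplicit false
universe u
open W4c2invhilbsl2 MvPolynomial

namespace Groth.Agent.S15727

/-- Let k be an algebraically closed field, 0 < p < q coprime integers and m ≥ 1, and grade k[X₀,…,X₄]
by ℤ × ℤ/m, giving X₀ weight (1,0), X₁ and X₂ weight (−p,−1), and X₃ and X₄ weight (q,1). For s ∈ k
let I_s be the ideal (X₀^(q−p) − X₁X₄, X₂, X₃, s − X₀^(mp)X₁^m), whose generators are homogeneous
(the last one of weight zero). Then for every weight ν the image in k[X₀,…,X₄]/I_s of the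
homogeneous polynomials of weight ν is a k-vector space of dimension at most 1. (The published
statement asserts that this dimension equals 1 for every ν and every s, namely that the quotient has
the Hilbert function of the regular representation of the grading group; this row states the upper
bound, the half obtained from the monomial analysis of the weight pieces, while the lower bound
there is drawn from the moduli interpretation of these ideals. The published statement is over the
complex numbers; this row takes any algebraically closed field, which is what the reduction to s =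
0, 1 by rescaling the variables uses.) -/
theorem result (k : Type u) [Field k] [IsAlgClosed k] (p q m : ℕ) (hp : 0 < p) (hpq : p < q) (hcop : Nat.Coprime p q) (hm : 0 < m) (s : k) (ν : ℤ × ZMod m) :
    Module.rank k (W4c2invhilbsl2.piece k (W4c2invhilbsl2.wt5 p q m) (W4c2invhilbsl2.idealI k p q m s) ν) ≤ 1 := by
  apply H8WP.rank_piece_le_one
  intro d d' hd hd'
  have hx2 : Ideal.Quotient.mk (idealI k p q m s) (X 2) = 0 :=
    Ideal.Quotient.eq_zero_iff_mem.mpr
      (Ideal.subset_span (Set.mem_insert_of_mem _ (Set.mem_insert _ _)))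
  have hx3 : Ideal.Quotient.mk (idealI k p q m s) (X 3) = 0 :=
    Ideal.Quotient.eq_zero_iff_mem.mpr
      (Ideal.subset_span (Set.mem_insert_of_mem _ (Set.mem_insert_of_mem _ (Set.mem_insert _ _))))
  have hrel : Ideal.Quotient.mk (idealI k p q m s) (X 0) ^ (q - p) =
      Ideal.Quotient.mk (idealI k p q m s) (X 1) * Ideal.Quotient.mk (idealI k p q m s) (X 4) := by
    rw [← map_pow, ← map_mul]
    exact Ideal.Quotient.eq.mpr (Ideal.subset_span (Set.mem_insert _ _))
  have hS : Ideal.Quotient.mk (idealI k p q m s) (C s) =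
      Ideal.Quotient.mk (idealI k p q m s) (X 0) ^ (m * p) *
        Ideal.Quotient.mk (idealI k p q m s) (X 1) ^ m := by
    rw [← map_pow, ← map_pow, ← map_mul]
    exact Ideal.Quotient.eq.mpr (Ideal.subset_span (Set.mem_insert_of_mem _
      (Set.mem_insert_of_mem _ (Set.mem_insert_of_mem _ (Set.mem_singleton _)))))
  have hmon0 : ∀ d : Fin 5 →₀ ℕ, (d 2 ≠ 0 ∨ d 3 ≠ 0) →
      Ideal.Quotient.mk (idealI k p q m s) (monomial d 1) = 0 := by
    intro d h
    rw [H8WP.monomial_fin5, map_mul, map_mul, map_mul, map_mul, map_pow, map_pow, map_pow,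
      map_pow, map_pow, hx2, hx3]
    rcases h with h | h
    · rw [zero_pow h]; simp
    · rw [zero_pow h]; simp
  have hmon1 : ∀ d : Fin 5 →₀ ℕ, d 2 = 0 → d 3 = 0 →
      Ideal.Quotient.mk (idealI k p q m s) (monomial d 1) =
        Ideal.Quotient.mk (idealI k p q m s) (X 0) ^ d 0 *
          Ideal.Quotient.mk (idealI k p q m s) (X 1) ^ d 1 *
          Ideal.Quotient.mk (idealI k p q m s) (X 4) ^ d 4 := by
    intro d h2 h3
    rw [H8WP.monomial_fin5, h2, h3, pow_zero, pow_zero, mul_one, mul_one, map_mul, map_mul,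
      map_pow, map_pow, map_pow]
  by_cases hz : d 2 ≠ 0 ∨ d 3 ≠ 0
  · exact ⟨0, Or.inl (by rw [hmon0 d hz, zero_smul])⟩
  by_cases hz' : d' 2 ≠ 0 ∨ d' 3 ≠ 0
  · exact ⟨0, Or.inr (by rw [hmon0 d' hz', zero_smul])⟩
  push Not at hz hz'
  rw [hmon1 d hz.1 hz.2, hmon1 d' hz'.1 hz'.2]
  have hw1 := congrArg Prod.fst (hd.trans hd'.symm)
  have hw2 := congrArg Prod.snd (hd.trans hd'.symm)
  rw [H8WP.weight_wt5_fst, H8WP.weight_wt5_fst] at hw1
  rw [H8WP.weight_wt5_snd, H8WP.weight_wt5_snd, ZMod.intCast_eq_intCast_iff_dvd_sub] at hw2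
  simp only [hz.1, hz.2, hz'.1, hz'.2, Nat.cast_zero, mul_zero, sub_zero, add_zero, zero_add]
    at hw1 hw2
  obtain ⟨t, ht⟩ := hw2
  rcases le_total 0 t with h0 | h0
  · obtain ⟨n, rfl⟩ := Int.eq_ofNat_of_zero_le h0
    refine ⟨s ^ n, Or.inl ?_⟩
    rw [H8WP.smul_mk, map_pow]
    exact H8WP.lemmaI _ _ _ _ p q m hpq hrel hS _ _ _ _ _ _ n (by linarith) (by linarith)
  · obtain ⟨n, hn⟩ := Int.eq_ofNat_of_zero_le (neg_nonneg.mpr h0)
    have htn : t = -(n : ℤ) := by linarith
    rw [htn] at ht
    refine ⟨s ^ n, Or.inr ?_⟩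
    rw [H8WP.smul_mk, map_pow]
    exact H8WP.lemmaI _ _ _ _ p q m hpq hrel hS _ _ _ _ _ _ n (by linarith) (by linarith)

end Groth.Agent.S15727
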