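import Groth.Statements.S15728
import Mathlib
import Groth.Agent.Lib.helper8.WtPiece

set_option autoImplicit false
universe u
open W4c2invhilbsl2 MvPolynomial

namespace Groth.Agent.S15728

/-- Let k be an algebraically closed field, 0 < p < q coprime integers and m ≥ 1; put g = gcd(m, q−p)
and a = m/g, and grade k[X₀,…,X₄] by ℤ × ℤ/m, giving X₀ weight (1,0), X₁ and X₂ weight (−p,−1), and
X₃ and X₄ weight (q,1). For s ∈ k let J_s be the ideal (X₀^g, X₂, X₄, s − X₁^(aq)X₃^(ap)), whose
generators are homogeneous (the last one of weight zero). Then for every weight ν the image in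
k[X₀,…,X₄]/J_s of the homogeneous polynomials of weight ν is a k-vector space of dimension at most
1. (The published statement asserts that this dimension equals 1 for every ν and every s; this row
states the upper bound, the half obtained from the monomial analysis of the weight pieces, while the
lower bound there is drawn from the moduli interpretation of these ideals. The published statement
is over the complex numbers; this row takes any algebraically closed field, which is what the
reduction to s = 0, 1 by rescaling the variables uses.) -/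
theorem result (k : Type u) [Field k] [IsAlgClosed k] (p q m : ℕ) (hp : 0 < p) (hpq : p < q) (hcop : Nat.Coprime p q) (hm : 0 < m) (s : k) (ν : ℤ × ZMod m) :
    Module.rank k (W4c2invhilbsl2.piece k (W4c2invhilbsl2.wt5 p q m) (W4c2invhilbsl2.idealJ k p q m s) ν) ≤ 1 := by
  apply H8WP.rank_piece_le_one
  intro d d' hd hd'
  have hx0 : Ideal.Quotient.mk (idealJ k p q m s) (X 0) ^ (Nat.gcd m (q - p)) = 0 := by
    rw [← map_pow]
    exact Ideal.Quotient.eq_zero_iff_mem.mpr (Ideal.subset_span (Set.mem_insert _ _))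
  have hx2 : Ideal.Quotient.mk (idealJ k p q m s) (X 2) = 0 :=
    Ideal.Quotient.eq_zero_iff_mem.mpr
      (Ideal.subset_span (Set.mem_insert_of_mem _ (Set.mem_insert _ _)))
  have hx4 : Ideal.Quotient.mk (idealJ k p q m s) (X 4) = 0 :=
    Ideal.Quotient.eq_zero_iff_mem.mpr
      (Ideal.subset_span (Set.mem_insert_of_mem _ (Set.mem_insert_of_mem _ (Set.mem_insert _ _))))
  have hS : Ideal.Quotient.mk (idealJ k p q m s) (C s) =
      Ideal.Quotient.mk (idealJ k p q m s) (X 1) ^ (m / Nat.gcd m (q - p) * q) *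
        Ideal.Quotient.mk (idealJ k p q m s) (X 3) ^ (m / Nat.gcd m (q - p) * p) := by
    rw [← map_pow, ← map_pow, ← map_mul]
    exact Ideal.Quotient.eq.mpr (Ideal.subset_span (Set.mem_insert_of_mem _
      (Set.mem_insert_of_mem _ (Set.mem_insert_of_mem _ (Set.mem_singleton _)))))
  have hmon0 : ∀ d : Fin 5 →₀ ℕ, (d 2 ≠ 0 ∨ d 4 ≠ 0 ∨ Nat.gcd m (q - p) ≤ d 0) →
      Ideal.Quotient.mk (idealJ k p q m s) (monomial d 1) = 0 := by
    intro d h
    rw [H8WP.monomial_fin5, map_mul, map_mul, map_mul, map_mul, map_pow, map_pow, map_pow,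
      map_pow, map_pow, hx2, hx4]
    rcases h with h | h | h
    · rw [zero_pow h]; simp
    · rw [zero_pow h]; simp
    · rw [pow_eq_zero_of_le h hx0]; simp
  have hmon1 : ∀ d : Fin 5 →₀ ℕ, d 2 = 0 → d 4 = 0 →
      Ideal.Quotient.mk (idealJ k p q m s) (monomial d 1) =
        Ideal.Quotient.mk (idealJ k p q m s) (X 0) ^ d 0 *
          Ideal.Quotient.mk (idealJ k p q m s) (X 1) ^ d 1 *
          Ideal.Quotient.mk (idealJ k p q m s) (X 3) ^ d 3 := by
    intro d h2 h4
    rw [H8WP.monomial_fin5, h2, h4, pow_zero, pow_zero, mul_one, mul_one, map_mul, map_mul,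
      map_pow, map_pow, map_pow]
  by_cases hz : d 2 ≠ 0 ∨ d 4 ≠ 0 ∨ Nat.gcd m (q - p) ≤ d 0
  · exact ⟨0, Or.inl (by rw [hmon0 d hz, zero_smul])⟩
  by_cases hz' : d' 2 ≠ 0 ∨ d' 4 ≠ 0 ∨ Nat.gcd m (q - p) ≤ d' 0
  · exact ⟨0, Or.inr (by rw [hmon0 d' hz', zero_smul])⟩
  push Not at hz hz'
  rw [hmon1 d hz.1 hz.2.1, hmon1 d' hz'.1 hz'.2.1]
  have hw1 := congrArg Prod.fst (hd.trans hd'.symm)
  have hw2 := congrArg Prod.snd (hd.trans hd'.symm)
  rw [H8WP.weight_wt5_fst, H8WP.weight_wt5_fst] at hw1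
  rw [H8WP.weight_wt5_snd, H8WP.weight_wt5_snd, ZMod.intCast_eq_intCast_iff_dvd_sub] at hw2
  simp only [hz.1, hz.2.1, hz'.1, hz'.2.1, Nat.cast_zero, mul_zero, sub_zero, add_zero, zero_add]
    at hw1 hw2
  obtain ⟨n, hn | hn⟩ := H8WP.lemmaJ (Ideal.Quotient.mk (idealJ k p q m s) (X 0))
    (Ideal.Quotient.mk (idealJ k p q m s) (X 1)) (Ideal.Quotient.mk (idealJ k p q m s) (X 3))
    (Ideal.Quotient.mk (idealJ k p q m s) (C s)) p q m hp hpq hcop hm hS
    (d 0) (d 1) (d 3) (d' 0) (d' 1) (d' 3) hz.2.2 hz'.2.2 (by linarith)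
    (by convert hw2 using 1 <;> ring)
  · exact ⟨s ^ n, Or.inl (by rw [H8WP.smul_mk, map_pow]; exact hn)⟩
  · exact ⟨s ^ n, Or.inr (by rw [H8WP.smul_mk, map_pow]; exact hn)⟩

end Groth.Agent.S15728
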