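import Groth.Statements.S15729
import Mathlib
import Groth.Agent.Lib.helper8.HJLib

set_option autoImplicit false
universe u
open W4c2invhilbsl2

namespace Groth.Agent.S15729

section Aux
open MvPolynomial

theorem hjW_mono (c : List ℤ) (hc1 : ∀ x ∈ c, (2:ℤ) ≤ x) :
    ∀ j : ℕ, j ≤ c.length →
      1 ≤ hjP c j - hjQ c j ∧ hjP c j - hjQ c j ≤ hjP c (j+1) - hjQ c (j+1) := by
  intro j
  induction j with
  | zero =>
    intro _
    show 1 ≤ hjP c 0 - hjQ c 0 ∧ hjP c 0 - hjQ c 0 ≤ hjP c 1 - hjQ c 1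
    rw [H8HJ.hjP_zero, H8HJ.hjP_one, H8HJ.hjQ_zero, H8HJ.hjQ_one]; norm_num
  | succ j ih =>
    intro hj
    obtain ⟨h0, h1⟩ := ih (by omega)
    have hjl : j < c.length := by omega
    have hcj : (2:ℤ) ≤ c.getD j 0 := by
      rw [List.getD_eq_getElem _ _ hjl]
      exact hc1 _ (List.getElem_mem _)
    refine ⟨by linarith, ?_⟩
    show hjP c (j+1) - hjQ c (j+1) ≤ hjP c (j+2) - hjQ c (j+2)
    rw [H8HJ.hjP_rec, H8HJ.hjQ_rec]
    have := mul_le_mul_of_nonneg_right hcj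
      (by linarith : (0:ℤ) ≤ hjP c (j+1) - hjQ c (j+1))
    linarith

theorem nN_facts (p q m : ℕ) (hpq : p < q) (hm : 0 < m) (c : List ℤ)
    (hc2 : HJFrac.hjVal c = (bB p q m : ℚ) / (tT p q m : ℚ)) :
    ∃ β a : ℕ, a = alpha p q m ∧ ((q:ℤ) - p) * a + β = (m:ℤ) * p ∧
      HJFrac.hjVal c = ((((q:ℤ) - p : ℤ)) : ℚ) / ((((q:ℤ) - p - β : ℤ)) : ℚ) ∧
      ∀ k, nN p q m c k = ((q:ℤ) - p - β) * hjP c k - ((q:ℤ) - p) * hjQ c k := by
  have hDpos : 0 < q - p := Nat.sub_pos_of_lt hpq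
  obtain ⟨β, hβ⟩ : ∃ β : ℕ, β = m * p % (q - p) := ⟨_, rfl⟩
  have hβlt : β < q - p := by rw [hβ]; exact Nat.mod_lt _ hDpos
  obtain ⟨g, hg⟩ : ∃ g : ℕ, g = Nat.gcd m (q - p) := ⟨_, rfl⟩
  have hgpos : 0 < g := by rw [hg]; exact Nat.gcd_pos_of_pos_left _ hm
  have hgD : g ∣ q - p := by rw [hg]; exact Nat.gcd_dvd_right _ _
  have hgβ : g ∣ β := by
    rw [hg, hβ]
    exact (Nat.dvd_mod_iff (Nat.gcd_dvd_right _ _)).2
      (Dvd.dvd.mul_right (Nat.gcd_dvd_left _ _) _)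
  have hgDβ : g ∣ q - p - β := Nat.dvd_sub hgD hgβ
  have hgq : (g:ℚ) ≠ 0 := by exact_mod_cast hgpos.ne'
  have hval : HJFrac.hjVal c = ((((q:ℤ) - p : ℤ)) : ℚ) / ((((q:ℤ) - p - β : ℤ)) : ℚ) := by
    have hb : ((bB p q m : ℕ) : ℚ) = ((q:ℚ) - p)/(g:ℚ) := by
      unfold bB gcdK; rw [← hg, Nat.cast_div hgD hgq, Nat.cast_sub hpq.le]
    have ht : ((tT p q m : ℕ) : ℚ) = ((q:ℚ) - p - β)/(g:ℚ) := by
      unfold tT gcdK
      rw [← hg, ← hβ, Nat.cast_div hgDβ hgq, Nat.cast_sub hβlt.le, Nat.cast_sub hpq.le]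
    rw [hc2, hb, ht, div_div_div_cancel_right₀ hgq]
    simp only [Int.cast_sub, Int.cast_natCast]
  obtain ⟨a, ha⟩ : ∃ a : ℕ, a = alpha p q m := ⟨_, rfl⟩
  have h2 : ((q:ℤ) - p) * a + β = (m:ℤ) * p := by
    have h := Nat.div_add_mod (m * p) (q - p)
    have ha' : a = m * p / (q - p) := ha
    rw [← ha', ← hβ] at h
    have h' : (((q - p : ℕ) : ℤ)) * (a:ℤ) + (β:ℤ) = (m:ℤ) * (p:ℤ) := by exact_mod_cast h
    rwa [Nat.cast_sub hpq.le] at h'
  have hn : ∀ j, nN p q m c j = ((q:ℤ) - p - β) * hjP c j - ((q:ℤ) - p) * hjQ c j := by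
    intro j
    unfold nN eE lL
    rw [← ha]
    push_cast
    linear_combination (hjP c j) * h2
  exact ⟨β, a, ha, h2, hval, hn⟩

theorem nN_pos (p q m : ℕ) (hpq : p < q) (hm : 0 < m) (c : List ℤ)
    (hc : IsHJDigits p q m c) (j : ℕ) (hjr : j < c.length) : 0 < nN p q m c (j+1) := by
  obtain ⟨hc1, hc2⟩ := hc
  obtain ⟨β, a, ha, h2, hval, hn⟩ := nN_facts p q m hpq hm c hc2
  have hd : (0:ℤ) < (q:ℤ) - p := by
    have : (p:ℤ) < q := by exact_mod_cast hpq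
    linarith
  rw [hn]
  exact (H8HJ.N_dec c hc1 _ _ hd hval j hjr).1

theorem comb (p q m : ℕ) (hpq : p < q) (hm : 0 < m) (c : List ℤ)
    (hc : IsHJDigits p q m c) (j : ℕ) (hjr : j < c.length) (d0 d1 d2 : ℕ) (u : ℤ)
    (hw : (d0:ℤ) - p * d1 + q * d2 = nN p q m c (j+1)) (hu : (d1:ℤ) - d2 = m * u)
    (hlt : (d0:ℤ) < nN p q m c (j+1)) :
    eE p q m c (j+1) ≤ d1 ∧ lL p q m c (j+1) ≤ d2 := by
  obtain ⟨hc1, hc2⟩ := hc
  obtain ⟨β, a, ha, h2, hval, hn⟩ := nN_facts p q m hpq hm c hc2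
  have hd : (0:ℤ) < (q:ℤ) - p := by
    have : (p:ℤ) < q := by exact_mod_cast hpq
    linarith
  obtain ⟨N, hN⟩ : ∃ N : ℕ → ℤ,
      ∀ k, N k = ((q:ℤ) - p - β) * hjP c k - ((q:ℤ) - p) * hjQ c k := ⟨fun k => _, fun k => rfl⟩
  have hnN : ∀ k, nN p q m c k = N k := fun k => by rw [hn, hN]
  have hdec : ∀ k, k < c.length → 0 < N (k+1) ∧ N (k+1) < N k := by
    intro k hk; rw [hN, hN]; exact H8HJ.N_dec c hc1 _ _ hd hval k hk
  have hN0 : N 0 = (q:ℤ) - p := by rw [hN, H8HJ.hjP_zero, H8HJ.hjQ_zero]; ring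
  have hle : ∀ k, k ≤ c.length → N k ≤ (q:ℤ) - p := by
    intro k
    induction k with
    | zero => intro _; rw [hN0]
    | succ k ih =>
      intro hk
      have h1 := (hdec k (by omega)).2
      have h2 := ih (by omega)
      linarith
  rw [hnN] at hw hlt
  obtain ⟨hNpos, hNlt⟩ := hdec j hjr
  have hNd : N (j+1) < (q:ℤ) - p := by
    have := hle j (by omega); linarith
  have hd0nn : (0:ℤ) ≤ (d0:ℤ) := Int.natCast_nonneg _
  have hd1nn : (0:ℤ) ≤ (d1:ℤ) := Int.natCast_nonneg _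
  have hd2nn : (0:ℤ) ≤ (d2:ℤ) := Int.natCast_nonneg _
  have hpnn : (0:ℤ) ≤ (p:ℤ) := Int.natCast_nonneg _
  have hmnn : (0:ℤ) ≤ (m:ℤ) := Int.natCast_nonneg _
  have hann : (0:ℤ) ≤ (a:ℤ) := Int.natCast_nonneg _
  obtain ⟨y, hy⟩ : ∃ y : ℤ, y = u + a * u - d2 := ⟨_, rfl⟩
  have hlam : ((q:ℤ) - p - β) * u - ((q:ℤ) - p) * y = N (j+1) - d0 := by
    rw [hy]; linear_combination (-u) * h2 + hw + (p:ℤ) * hu
  have hlam2 : N (j+1) - d0 = ((q:ℤ) - p) * d2 - (p:ℤ) * m * u := by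
    linear_combination (-1:ℤ) * hw - (p:ℤ) * hu
  have hP1 : 1 ≤ hjP c (j+1) := by
    obtain ⟨h0, h1⟩ := H8HJ.hjP_mono c hc1 j (by omega); linarith
  have hu1 : hjP c (j+1) ≤ u := by
    by_contra hcon
    push Not at hcon
    rcases lt_or_ge 0 u with hu0 | hu0
    · rcases Nat.eq_zero_or_pos j with hj0 | hjpos
      · subst hj0
        have hcon' : u < hjP c 1 := hcon
        rw [H8HJ.hjP_one] at hcon'
        omega
      · obtain ⟨k, rfl⟩ : ∃ k, j = k + 1 := ⟨j - 1, by omega⟩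
        have hcon' : u < hjP c (k+2) := hcon
        have hlam' : ((q:ℤ) - p - β) * u - ((q:ℤ) - p) * y = N (k+2) - d0 := hlam
        have hd' : 0 < N (k+2) ∧ N (k+2) < N (k+1) := hdec (k+1) hjr
        have hdet : hjP c (k+1) * hjQ c (k+2) - hjP c (k+2) * hjQ c (k+1) = 1 :=
          H8HJ.hj_det c (k+1)
        obtain ⟨hPk0, hPk1⟩ := H8HJ.hjP_mono c hc1 k (by omega)
        have hPk2 : hjP c (k+1) + 1 ≤ hjP c (k+2) :=
          (H8HJ.hjP_mono c hc1 (k+1) (by omega)).2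
        have hlt' : (d0:ℤ) < N (k+2) := hlt
        have := H8HJ.lattice_key (hjP c (k+1)) (hjP c (k+2)) (hjQ c (k+1)) (hjQ c (k+2))
          (N (k+1)) (N (k+2)) ((q:ℤ) - p) ((q:ℤ) - p - β) u y hdet (hN (k+1)) (hN (k+2))
          (by linarith) (by linarith) hd'.1 hd'.2 hu0 hcon' (by rw [hlam']; linarith)
        rw [hlam'] at this
        linarith [hd'.2]
    · have t1 : 0 ≤ ((p:ℤ) * m) * (-u) := mul_nonneg (mul_nonneg hpnn hmnn) (by linarith)
      have hd2z : (d2:ℤ) = 0 := by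
        by_contra h
        have h1 : (1:ℤ) ≤ d2 := by omega
        have := mul_le_mul_of_nonneg_left h1 hd.le
        nlinarith
      have t2 : 0 ≤ (m:ℤ) * (-u) := mul_nonneg hmnn (by linarith)
      have hmu : (m:ℤ) * u = 0 := by
        apply le_antisymm
        · linarith
        · linarith
      have hpmu : (p:ℤ) * m * u = 0 := by rw [mul_assoc, hmu, mul_zero]
      rw [hpmu, hd2z] at hlam2
      linarith
  obtain ⟨u', hu'⟩ : ∃ u' : ℤ, u' = u - hjP c (j+1) := ⟨_, rfl⟩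
  have hu'0 : 0 ≤ u' := by rw [hu']; linarith
  have hl : lL p q m c (j+1) = ((a:ℤ) + 1) * hjP c (j+1) - hjQ c (j+1) := by
    unfold lL; rw [← ha]; push_cast; ring
  have he : eE p q m c (j+1) = lL p q m c (j+1) + (m:ℤ) * hjP c (j+1) := by
    unfold eE lL; push_cast; ring
  have hd2l : lL p q m c (j+1) ≤ d2 := by
    by_contra hcon
    push Not at hcon
    have hY : ((a:ℤ) + 1) * u' + 1 ≤ y - hjQ c (j+1) := by
      rw [hl] at hcon; rw [hy, hu']; linarith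
    have k1 := mul_le_mul_of_nonneg_left hY hd.le
    have k2 : 0 ≤ ((m:ℤ) * p) * u' := mul_nonneg (mul_nonneg hmnn hpnn) hu'0
    have h2u : (((q:ℤ) - p) * a + β) * u' = ((m:ℤ) * p) * u' := by rw [h2]
    have hd0 : (d0:ℤ) = -(((q:ℤ) - p - β) * u') + ((q:ℤ) - p) * (y - hjQ c (j+1)) := by
      rw [hu']; have := hN (j+1); linarith [hlam]
    nlinarith
  refine ⟨?_, hd2l⟩
  rw [he]
  have t3 : 0 ≤ (m:ℤ) * u' := mul_nonneg hmnn hu'0
  rw [hu'] at t3
  nlinarith [hu]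

theorem weight_wt3 (p q m : ℕ) (d : Fin 3 →₀ ℕ) :
    Finsupp.weight (wt3 p q m) d =
      ((d 0 : ℤ) - p * d 1 + q * d 2, ((d 2 : ℕ) : ZMod m) - ((d 1 : ℕ) : ZMod m)) := by
  rw [Finsupp.weight_apply, Finsupp.sum_fintype d (fun i c => c • wt3 p q m i) (fun i => zero_smul _ _), Fin.sum_univ_three]
  show d 0 • ((1:ℤ), (0:ZMod m)) + d 1 • (-(p:ℤ), (-1 : ZMod m)) + d 2 • ((q:ℤ), (1:ZMod m)) = _
  refine Prod.ext ?_ ?_
  · simp only [Prod.fst_add, Prod.smul_fst]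
    simp only [nsmul_eq_mul]; ring
  · simp only [Prod.snd_add, Prod.smul_snd]
    simp only [nsmul_eq_mul]; ring

end Aux

/-- Let 0 < p < q be coprime integers and m ≥ 1 such that q − p does not divide m; put g = gcd(m, q−p),
b = (q−p)/g, α = ⌊mp/(q−p)⌋, β = the remainder of mp modulo q−p and t = (q−p−β)/g, so that 1 ≤ t <
b, and let b/t = c₁ − 1/(c₂ − 1/(⋯ − 1/c_r)) be the negative-regular (Hirzebruch–Jung) continued
fraction expansion with every cᵢ ≥ 2; set P₀ = 0, P₁ = 1, Q₀ = −1, Q₁ = 0, Pᵢ = cᵢ₋₁Pᵢ₋₁ − Pᵢ₋₂, Qᵢ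
= cᵢ₋₁Qᵢ₋₁ − Qᵢ₋₂ for 2 ≤ i ≤ r+1, and eᵢ = (α+1+m)Pᵢ − Qᵢ, lᵢ = (α+1)Pᵢ − Qᵢ, nᵢ = q·lᵢ − p·eᵢ,
which are non-negative integers for 0 ≤ i ≤ r+1. Grade the polynomial ring k[X₀,X₁,X₂] over a field
k by ℤ × ℤ/m with weights (1,0), (−p,−1), (q,1) (it stands for k[X₀,X₁,Xⱼ], j = 3 or 4, inside the
five-variable ring). Then for every 1 ≤ i ≤ r, every polynomial homogeneous of weight (nᵢ, 0) can be
written a·X₀^(nᵢ) + b·X₁^(eᵢ)X₂^(lᵢ) with a and b homogeneous of weight zero; that is, the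
weight-(nᵢ,0) piece is generated over the weight-zero subring by X₀^(nᵢ) and X₁^(eᵢ)X₂^(lᵢ). -/
theorem result (k : Type u) [Field k] (p q m : ℕ) (hp : 0 < p) (hpq : p < q) (hcop : Nat.Coprime p q) (hm : 0 < m) (hnt : ¬ (q - p ∣ m)) (c : List ℤ) (hc : W4c2invhilbsl2.IsHJDigits p q m c) (i : ℕ) (hi : 1 ≤ i) (hir : i ≤ c.length)
    (f : MvPolynomial (Fin 3) k) (hf : f ∈ MvPolynomial.weightedHomogeneousSubmodule k (W4c2invhilbsl2.wt3 p q m) (W4c2invhilbsl2.nN p q m c i, (0 : ZMod m))) :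
    ∃ a b : MvPolynomial (Fin 3) k, a ∈ MvPolynomial.weightedHomogeneousSubmodule k (W4c2invhilbsl2.wt3 p q m) 0 ∧ b ∈ MvPolynomial.weightedHomogeneousSubmodule k (W4c2invhilbsl2.wt3 p q m) 0 ∧
      f = a * MvPolynomial.X (0 : Fin 3) ^ (W4c2invhilbsl2.nN p q m c i).toNat +
        b * (MvPolynomial.X (1 : Fin 3) ^ (W4c2invhilbsl2.eE p q m c i).toNat * MvPolynomial.X (2 : Fin 3) ^ (W4c2invhilbsl2.lL p q m c i).toNat) := by
  obtain ⟨j, rfl⟩ : ∃ j, i = j + 1 := ⟨i - 1, by omega⟩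
  have hjr : j < c.length := by omega
  have hc' := hc
  obtain ⟨hc1, hc2⟩ := hc'
  have hnpos := nN_pos p q m hpq hm c hc j hjr
  obtain ⟨hP0, hP1⟩ := H8HJ.hjP_mono c hc1 (j+1) (by omega)
  obtain ⟨hW1, _⟩ := hjW_mono c hc1 (j+1) (by omega)
  have hl0 : 0 ≤ lL p q m c (j+1) := by
    unfold lL; push_cast
    have := mul_nonneg (Int.natCast_nonneg (alpha p q m)) hP0
    nlinarith
  have hel : eE p q m c (j+1) = lL p q m c (j+1) + (m:ℤ) * hjP c (j+1) := by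
    unfold eE lL; push_cast; ring
  have he0 : 0 ≤ eE p q m c (j+1) := by
    rw [hel]; have := mul_nonneg (Int.natCast_nonneg m) hP0; linarith
  have hnel : nN p q m c (j+1) = -(p:ℤ) * eE p q m c (j+1) + (q:ℤ) * lL p q m c (j+1) := rfl
  obtain ⟨n, hn⟩ : ∃ n : ℕ, (n:ℤ) = nN p q m c (j+1) := ⟨_, Int.toNat_of_nonneg hnpos.le⟩
  obtain ⟨e, he⟩ : ∃ e : ℕ, (e:ℤ) = eE p q m c (j+1) := ⟨_, Int.toNat_of_nonneg he0⟩
  obtain ⟨l, hl⟩ : ∃ l : ℕ, (l:ℤ) = lL p q m c (j+1) := ⟨_, Int.toNat_of_nonneg hl0⟩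
  have hn' : (nN p q m c (j+1)).toNat = n := by rw [← hn]; exact Int.toNat_natCast n
  have he' : (eE p q m c (j+1)).toNat = e := by rw [← he]; exact Int.toNat_natCast e
  have hl' : (lL p q m c (j+1)).toNat = l := by rw [← hl]; exact Int.toNat_natCast l
  rw [hn', he', hl']
  rw [MvPolynomial.mem_weightedHomogeneousSubmodule] at hf
  have hz : ((e:ℕ) : ZMod m) - ((l:ℕ) : ZMod m) = 0 := by
    have h1 : ((e:ℤ) - (l:ℤ)) = (m:ℤ) * hjP c (j+1) := by rw [he, hl, hel]; ring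
    have h2 := congrArg (Int.cast : ℤ → ZMod m) h1
    push_cast at h2
    rw [h2]; simp
  have hbase : ∀ d ∈ f.support, ∃ a b : MvPolynomial (Fin 3) k,
      a ∈ MvPolynomial.weightedHomogeneousSubmodule k (wt3 p q m) 0 ∧
      b ∈ MvPolynomial.weightedHomogeneousSubmodule k (wt3 p q m) 0 ∧
      MvPolynomial.monomial d (MvPolynomial.coeff d f) =
        a * MvPolynomial.X (0 : Fin 3) ^ n +
          b * (MvPolynomial.X (1 : Fin 3) ^ e * MvPolynomial.X (2 : Fin 3) ^ l) := by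
    intro d hd
    have hcoef : MvPolynomial.coeff d f ≠ 0 := MvPolynomial.mem_support_iff.1 hd
    have hwd := hf hcoef
    rw [weight_wt3, Prod.mk.injEq] at hwd
    obtain ⟨hw1, hw2⟩ := hwd
    have hdvd : (m:ℤ) ∣ (d 1 : ℤ) - (d 2 : ℤ) := by
      rw [← ZMod.intCast_zmod_eq_zero_iff_dvd]
      push_cast
      linear_combination (-1 : ZMod m) * hw2
    obtain ⟨u, hu⟩ := hdvd
    rcases lt_or_ge (d 0 : ℤ) (nN p q m c (j+1)) with hlt | hge
    · obtain ⟨hE, hL⟩ := comb p q m hpq hm c hc j hjr (d 0) (d 1) (d 2) u hw1 hu hlt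
      have hE' : e ≤ d 1 := by
        have : (e:ℤ) ≤ d 1 := by rw [he]; exact hE
        exact_mod_cast this
      have hL' : l ≤ d 2 := by
        have : (l:ℤ) ≤ d 2 := by rw [hl]; exact hL
        exact_mod_cast this
      have hs : Finsupp.single 1 e + Finsupp.single 2 l ≤ d := by
        rw [Finsupp.le_def]
        intro x
        fin_cases x <;> simp [Finsupp.single_apply, hE', hL']
      refine ⟨0, MvPolynomial.monomial (d - (Finsupp.single 1 e + Finsupp.single 2 l))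
        (MvPolynomial.coeff d f), Submodule.zero_mem _, ?_, ?_⟩
      · rw [MvPolynomial.mem_weightedHomogeneousSubmodule]
        apply MvPolynomial.isWeightedHomogeneous_monomial
        rw [weight_wt3]
        have e0 : (d - (Finsupp.single 1 e + Finsupp.single 2 l) : Fin 3 →₀ ℕ) 0 = d 0 := by
          simp [Finsupp.tsub_apply, Finsupp.single_apply]
        have e1 : (d - (Finsupp.single 1 e + Finsupp.single 2 l) : Fin 3 →₀ ℕ) 1 = d 1 - e := by
          simp [Finsupp.tsub_apply, Finsupp.single_apply]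
        have e2 : (d - (Finsupp.single 1 e + Finsupp.single 2 l) : Fin 3 →₀ ℕ) 2 = d 2 - l := by
          simp [Finsupp.tsub_apply, Finsupp.single_apply]
        rw [e0, e1, e2, Nat.cast_sub hE', Nat.cast_sub hL', Nat.cast_sub hE', Nat.cast_sub hL']
        refine Prod.ext ?_ ?_
        · show (_ : ℤ) = 0
          linear_combination hw1 + hnel + (p:ℤ) * he - (q:ℤ) * hl
        · show (_ : ZMod m) = 0
          linear_combination hw2 + hz
      · rw [zero_mul, zero_add, MvPolynomial.X_pow_eq_monomial, MvPolynomial.X_pow_eq_monomial,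
          MvPolynomial.monomial_mul, MvPolynomial.monomial_mul, one_mul, mul_one,
          tsub_add_cancel_of_le hs]
    · have hN' : n ≤ d 0 := by
        have : (n:ℤ) ≤ d 0 := by rw [hn]; exact hge
        exact_mod_cast this
      refine ⟨MvPolynomial.monomial (d - Finsupp.single 0 n) (MvPolynomial.coeff d f), 0, ?_,
        Submodule.zero_mem _, ?_⟩
      · rw [MvPolynomial.mem_weightedHomogeneousSubmodule]
        apply MvPolynomial.isWeightedHomogeneous_monomial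
        rw [weight_wt3]
        have e0 : (d - Finsupp.single 0 n : Fin 3 →₀ ℕ) 0 = d 0 - n := by
          simp [Finsupp.tsub_apply, Finsupp.single_apply]
        have e1 : (d - Finsupp.single 0 n : Fin 3 →₀ ℕ) 1 = d 1 := by
          simp [Finsupp.tsub_apply, Finsupp.single_apply]
        have e2 : (d - Finsupp.single 0 n : Fin 3 →₀ ℕ) 2 = d 2 := by
          simp [Finsupp.tsub_apply, Finsupp.single_apply]
        rw [e0, e1, e2, Nat.cast_sub hN']
        refine Prod.ext ?_ ?_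
        · show (_ : ℤ) = 0
          linear_combination hw1 - hn
        · exact hw2
      · rw [zero_mul, add_zero, MvPolynomial.X_pow_eq_monomial, MvPolynomial.monomial_mul,
          mul_one, tsub_add_cancel_of_le (Finsupp.single_le_iff.2 hN')]
  have H : ∃ a b : MvPolynomial (Fin 3) k,
      a ∈ MvPolynomial.weightedHomogeneousSubmodule k (wt3 p q m) 0 ∧
      b ∈ MvPolynomial.weightedHomogeneousSubmodule k (wt3 p q m) 0 ∧
      (∑ d ∈ f.support, MvPolynomial.monomial d (MvPolynomial.coeff d f)) =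
        a * MvPolynomial.X (0 : Fin 3) ^ n +
          b * (MvPolynomial.X (1 : Fin 3) ^ e * MvPolynomial.X (2 : Fin 3) ^ l) := by
    refine Finset.sum_induction (fun d => MvPolynomial.monomial d (MvPolynomial.coeff d f))
      (fun g => ∃ a b : MvPolynomial (Fin 3) k,
        a ∈ MvPolynomial.weightedHomogeneousSubmodule k (wt3 p q m) 0 ∧
        b ∈ MvPolynomial.weightedHomogeneousSubmodule k (wt3 p q m) 0 ∧
        g = a * MvPolynomial.X (0 : Fin 3) ^ n +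
          b * (MvPolynomial.X (1 : Fin 3) ^ e * MvPolynomial.X (2 : Fin 3) ^ l)) ?_ ?_ hbase
    · rintro g1 g2 ⟨a1, b1, ha1, hb1, h1⟩ ⟨a2, b2, ha2, hb2, h2⟩
      exact ⟨a1 + a2, b1 + b2, Submodule.add_mem _ ha1 ha2, Submodule.add_mem _ hb1 hb2,
        by rw [h1, h2]; ring⟩
    · exact ⟨0, 0, Submodule.zero_mem _, Submodule.zero_mem _, by ring⟩
  rw [MvPolynomial.support_sum_monomial_coeff] at H
  exact H

end Groth.Agent.S15729
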