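import Groth.Statements.S15730
import Mathlib
import Groth.Agent.Lib.helper8.HJLib
import Groth.Agent.S15729

set_option autoImplicit false
universe u
open W4c2invhilbsl2

namespace Groth.Agent.S15730

section Aux
open MvPolynomial

theorem data (p q m : ℕ) (hpq : p < q) (hm : 0 < m) (c : List ℤ) (hc : IsHJDigits p q m c)
    (j : ℕ) (hjr : j < c.length) :
    0 < nN p q m c (j+1) ∧ nN p q m c (j+1) < nN p q m c j ∧
    0 ≤ eE p q m c j ∧ eE p q m c j ≤ eE p q m c (j+1) ∧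
    0 ≤ lL p q m c j ∧ lL p q m c j ≤ lL p q m c (j+1) ∧
    (∀ z0 z1 z2 u : ℤ, z0 - p * z1 + q * z2 = 0 → z1 - z2 = m * u →
      ∃ A B : ℤ, z0 = -(A * nN p q m c j + B * nN p q m c (j+1)) ∧
        z1 = A * eE p q m c j + B * eE p q m c (j+1) ∧
        z2 = A * lL p q m c j + B * lL p q m c (j+1)) := by
  obtain ⟨hc1, hc2⟩ := hc
  obtain ⟨β, a, ha, h2, hval, hn⟩ := Groth.Agent.S15729.nN_facts p q m hpq hm c hc2
  have hd : (0:ℤ) < (q:ℤ) - p := by
    have : (p:ℤ) < q := by exact_mod_cast hpq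
    linarith
  have hl : ∀ k, lL p q m c k = ((a:ℤ)+1) * hjP c k - hjQ c k := by
    intro k; unfold lL; rw [← ha]; push_cast; ring
  have he : ∀ k, eE p q m c k = lL p q m c k + (m:ℤ) * hjP c k := by
    intro k; unfold eE lL; push_cast; ring
  have hnel : ∀ k, nN p q m c k = -(p:ℤ) * eE p q m c k + (q:ℤ) * lL p q m c k := fun k => rfl
  have hann : (0:ℤ) ≤ (a:ℤ) := Int.natCast_nonneg _
  have hmnn : (0:ℤ) ≤ (m:ℤ) := Int.natCast_nonneg _
  obtain ⟨hP0, hP1⟩ := H8HJ.hjP_mono c hc1 j (by omega)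
  obtain ⟨hW0, hW1⟩ := Groth.Agent.S15729.hjW_mono c hc1 j (by omega)
  have t1 := mul_nonneg hann hP0
  have t2 := mul_nonneg hann (by linarith : (0:ℤ) ≤ hjP c (j+1) - hjP c j)
  have t3 := mul_nonneg hmnn hP0
  have t4 := mul_nonneg hmnn (by linarith : (0:ℤ) ≤ hjP c (j+1) - hjP c j)
  have hN := H8HJ.N_dec c hc1 _ _ hd hval j hjr
  refine ⟨by rw [hn]; exact hN.1, by rw [hn, hn]; exact hN.2, ?_, ?_, ?_, ?_, ?_⟩
  · rw [he, hl]; nlinarith
  · rw [he, he, hl, hl]; nlinarith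
  · rw [hl]; nlinarith
  · rw [hl, hl]; nlinarith
  · intro z0 z1 z2 u hz hu
    have det := H8HJ.hj_det c j
    obtain ⟨y, hy⟩ : ∃ y : ℤ, y = ((a:ℤ)+1) * u - z2 := ⟨_, rfl⟩
    refine ⟨u * hjQ c (j+1) - y * hjP c (j+1), hjP c j * y - hjQ c j * u, ?_, ?_, ?_⟩
    · rw [hnel, hnel, he, he, hl, hl, hy]
      linear_combination hz + (p:ℤ) * hu - ((p:ℤ) * z2 + p * m * u - q * z2) * det
    · rw [he, he, hl, hl, hy]
      linear_combination hu - (z2 + m * u) * det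
    · rw [hl, hl, hy]
      linear_combination (-z2) * det

theorem key0_aux (n' n e' e l' l : ℤ) (hn : 0 < n) (hnn : n < n') (he' : 0 ≤ e') (hee : e' ≤ e)
    (hl' : 0 ≤ l') (hll : l' ≤ l)
    (D0 D1 D2 E0 E1 E2 A B : ℤ) (hD0 : 0 ≤ D0) (hD1 : 0 ≤ D1) (hD2 : 0 ≤ D2)
    (hE0 : 0 ≤ E0) (hE1 : 0 ≤ E1) (hE2 : 0 ≤ E2)
    (h0 : E0 - D0 = -(A * n' + B * n)) (h1 : E1 - D1 = A * e' + B * e)
    (h2 : E2 - D2 = A * l' + B * l)
    (hAB : 0 < B ∨ (B = 0 ∧ 0 < A)) :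
    (n' ≤ D0 ∨ (e ≤ D1 ∧ l ≤ D2) ∨ (n' - n ≤ D0 ∧ e - e' ≤ D1 ∧ l - l' ≤ D2)) ∨
    (n' ≤ E0 ∨ (e ≤ E1 ∧ l ≤ E2) ∨ (n' - n ≤ E0 ∧ e - e' ≤ E1 ∧ l - l' ≤ E2)) := by
  rcases hAB with hB | ⟨hB, hA⟩
  · rcases lt_or_ge A 0 with hA | hA
    · by_cases hE : n' ≤ E0
      · right; left; exact hE
      push Not at hE
      have hBA : -A ≤ B := by
        by_contra h
        push Not at h
        have t1 := mul_nonneg (by linarith : (0:ℤ) ≤ -A - 1 - B) (by linarith : (0:ℤ) ≤ n')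
        have t2 := mul_nonneg hB.le (by linarith : (0:ℤ) ≤ n' - n)
        nlinarith
      rcases eq_or_lt_of_le hBA with hEq | hLt
      · right; right; right
        have hA' : A = -B := by linarith
        subst hA'
        refine ⟨?_, ?_, ?_⟩
        · nlinarith [mul_nonneg (by linarith : (0:ℤ) ≤ B - 1) (by linarith : (0:ℤ) ≤ n' - n)]
        · nlinarith [mul_nonneg (by linarith : (0:ℤ) ≤ B - 1) (by linarith : (0:ℤ) ≤ e - e')]
        · nlinarith [mul_nonneg (by linarith : (0:ℤ) ≤ B - 1) (by linarith : (0:ℤ) ≤ l - l')]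
      · right; right; left
        constructor
        · nlinarith [mul_nonneg (by linarith : (0:ℤ) ≤ -A) (by linarith : (0:ℤ) ≤ e - e'),
            mul_nonneg (by linarith : (0:ℤ) ≤ B + A - 1) (by linarith : (0:ℤ) ≤ e)]
        · nlinarith [mul_nonneg (by linarith : (0:ℤ) ≤ -A) (by linarith : (0:ℤ) ≤ l - l'),
            mul_nonneg (by linarith : (0:ℤ) ≤ B + A - 1) (by linarith : (0:ℤ) ≤ l)]
    · right; right; left
      constructor
      · nlinarith [mul_nonneg hA he', mul_nonneg (by linarith : (0:ℤ) ≤ B - 1)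
          (by linarith : (0:ℤ) ≤ e)]
      · nlinarith [mul_nonneg hA hl', mul_nonneg (by linarith : (0:ℤ) ≤ B - 1)
          (by linarith : (0:ℤ) ≤ l)]
  · left; left
    subst hB
    nlinarith [mul_nonneg (by linarith : (0:ℤ) ≤ A - 1) (by linarith : (0:ℤ) ≤ n')]

theorem key0 (n' n e' e l' l : ℤ) (hn : 0 < n) (hnn : n < n') (he' : 0 ≤ e') (hee : e' ≤ e)
    (hl' : 0 ≤ l') (hll : l' ≤ l)
    (D0 D1 D2 E0 E1 E2 A B : ℤ) (hD0 : 0 ≤ D0) (hD1 : 0 ≤ D1) (hD2 : 0 ≤ D2)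
    (hE0 : 0 ≤ E0) (hE1 : 0 ≤ E1) (hE2 : 0 ≤ E2)
    (h0 : E0 - D0 = -(A * n' + B * n)) (h1 : E1 - D1 = A * e' + B * e)
    (h2 : E2 - D2 = A * l' + B * l)
    (hne : A ≠ 0 ∨ B ≠ 0) :
    (n' ≤ D0 ∨ (e ≤ D1 ∧ l ≤ D2) ∨ (n' - n ≤ D0 ∧ e - e' ≤ D1 ∧ l - l' ≤ D2)) ∨
    (n' ≤ E0 ∨ (e ≤ E1 ∧ l ≤ E2) ∨ (n' - n ≤ E0 ∧ e - e' ≤ E1 ∧ l - l' ≤ E2)) := by
  by_cases hpos : 0 < B ∨ (B = 0 ∧ 0 < A)
  · exact key0_aux n' n e' e l' l hn hnn he' hee hl' hll D0 D1 D2 E0 E1 E2 A B hD0 hD1 hD2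
      hE0 hE1 hE2 h0 h1 h2 hpos
  · have hneg : 0 < -B ∨ (-B = 0 ∧ 0 < -A) := by
      rcases lt_trichotomy B 0 with h | h | h
      · left; linarith
      · right
        refine ⟨by linarith, ?_⟩
        rcases lt_trichotomy A 0 with h' | h' | h'
        · linarith
        · exfalso; rcases hne with hA | hB
          · exact hA h'
          · exact hB h
        · exfalso; exact hpos (Or.inr ⟨h, h'⟩)
      · exfalso; exact hpos (Or.inl h)
    have := key0_aux n' n e' e l' l hn hnn he' hee hl' hll E0 E1 E2 D0 D1 D2 (-A) (-B)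
      hE0 hE1 hE2 hD0 hD1 hD2 (by linarith) (by linarith) (by linarith) hneg
    exact this.symm

theorem weight_wt3 (p q m : ℕ) (d : Fin 3 →₀ ℕ) :
    Finsupp.weight (wt3 p q m) d =
      ((d 0 : ℤ) - p * d 1 + q * d 2, ((d 2 : ℕ) : ZMod m) - ((d 1 : ℕ) : ZMod m)) :=
  Groth.Agent.S15729.weight_wt3 p q m d

theorem rank_piece_le_one {σ : Type*} (k : Type*) [Field k] {M : Type*} [AddCommMonoid M]
    (w : σ → M) (I : Ideal (MvPolynomial σ k)) (ν : M)
    (H : ∀ D D' : σ →₀ ℕ, Finsupp.weight w D = ν → Finsupp.weight w D' = ν →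
      Ideal.Quotient.mk I (monomial D (1:k)) = Ideal.Quotient.mk I (monomial D' (1:k)) ∨
        monomial D (1:k) ∈ I ∨ monomial D' (1:k) ∈ I) :
    Module.rank k (piece k w I ν) ≤ 1 := by
  classical
  rw [rank_submodule_le_one_iff']
  obtain ⟨v₀, hv₀⟩ : ∃ v₀ : MvPolynomial σ k ⧸ I, ∀ D, Finsupp.weight w D = ν →
      Ideal.Quotient.mk I (monomial D (1:k)) ∈ Submodule.span k {v₀} := by
    by_cases hex : ∃ D, Finsupp.weight w D = ν ∧ monomial D (1:k) ∉ I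
    · obtain ⟨D₀, hD₀, hn₀⟩ := hex
      refine ⟨Ideal.Quotient.mk I (monomial D₀ 1), fun D hD => ?_⟩
      rcases H D₀ D hD₀ hD with h | h | h
      · rw [← h]; exact Submodule.mem_span_singleton_self _
      · exact absurd h hn₀
      · rw [Ideal.Quotient.eq_zero_iff_mem.2 h]; exact Submodule.zero_mem _
    · push Not at hex
      refine ⟨0, fun D hD => ?_⟩
      rw [Ideal.Quotient.eq_zero_iff_mem.2 (hex D hD)]; exact Submodule.zero_mem _
  refine ⟨v₀, ?_⟩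
  intro v hv
  unfold piece at hv
  obtain ⟨f, hf, rfl⟩ := Submodule.mem_map.1 hv
  rw [mem_weightedHomogeneousSubmodule] at hf
  rw [← support_sum_monomial_coeff f, map_sum]
  refine Submodule.sum_mem _ (fun d hd => ?_)
  have hwd : Finsupp.weight w d = ν := hf (mem_support_iff.1 hd)
  have : monomial d (coeff d f) = coeff d f • monomial d (1:k) := by
    rw [smul_monomial, smul_eq_mul, mul_one]
  rw [this, map_smul]
  exact Submodule.smul_mem _ _ (hv₀ d hwd)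

theorem mem1 {k : Type u} [Field k] (p q m a b e l : ℕ) (s : k) (D : Fin 3 →₀ ℕ)
    (h : a ≤ D 0) :
    monomial D (1:k) ∈ Ideal.span {X (0 : Fin 3) ^ a,
      C s * X (0 : Fin 3) ^ b - X (1 : Fin 3) ^ e * X (2 : Fin 3) ^ l} ⊔ idealK k p q m := by
  have : monomial D (1:k) = monomial (D - Finsupp.single 0 a) 1 * X (0 : Fin 3) ^ a := by
    rw [X_pow_eq_monomial, monomial_mul, mul_one,
      tsub_add_cancel_of_le (Finsupp.single_le_iff.2 h)]
  rw [this]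
  exact Ideal.mem_sup_left (Ideal.mul_mem_left _ _ (Ideal.subset_span (Set.mem_insert _ _)))

theorem mem2 {k : Type u} [Field k] (p q m a b e l : ℕ) (D : Fin 3 →₀ ℕ)
    (h1 : e ≤ D 1) (h2 : l ≤ D 2) :
    monomial D (1:k) ∈ Ideal.span {X (0 : Fin 3) ^ a,
      C (0:k) * X (0 : Fin 3) ^ b - X (1 : Fin 3) ^ e * X (2 : Fin 3) ^ l} ⊔ idealK k p q m := by
  have hs : Finsupp.single 1 e + Finsupp.single 2 l ≤ D := by
    rw [Finsupp.le_def]
    intro x
    fin_cases x <;> simp [Finsupp.single_apply] <;> omega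
  have : monomial D (1:k) = monomial (D - (Finsupp.single 1 e + Finsupp.single 2 l)) 1 *
      (X (1 : Fin 3) ^ e * X (2 : Fin 3) ^ l) := by
    rw [X_pow_eq_monomial, X_pow_eq_monomial, monomial_mul, monomial_mul, mul_one, mul_one,
      tsub_add_cancel_of_le hs]
  rw [this]
  refine Ideal.mem_sup_left (Ideal.mul_mem_left _ _ ?_)
  have hg : C (0:k) * X (0 : Fin 3) ^ b - X (1 : Fin 3) ^ e * X (2 : Fin 3) ^ l ∈
      Ideal.span {X (0 : Fin 3) ^ a,
        C (0:k) * X (0 : Fin 3) ^ b - X (1 : Fin 3) ^ e * X (2 : Fin 3) ^ l} :=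
    Ideal.subset_span (Set.mem_insert_of_mem _ (Set.mem_singleton _))
  have hneg : X (1 : Fin 3) ^ e * X (2 : Fin 3) ^ l =
      -(C (0:k) * X (0 : Fin 3) ^ b - X (1 : Fin 3) ^ e * X (2 : Fin 3) ^ l) := by
    rw [map_zero, zero_mul, zero_sub, neg_neg]
  have hfin := (Ideal.neg_mem_iff _).2 hg
  rw [← hneg] at hfin
  exact hfin

theorem mem3 {k : Type u} [Field k] (p q m a b e l : ℕ) (s : k) (D ω : Fin 3 →₀ ℕ)
    (hω0 : ω ≠ 0) (hωw : Finsupp.weight (wt3 p q m) ω = 0) (hle : ω ≤ D) :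
    monomial D (1:k) ∈ Ideal.span {X (0 : Fin 3) ^ a,
      C s * X (0 : Fin 3) ^ b - X (1 : Fin 3) ^ e * X (2 : Fin 3) ^ l} ⊔ idealK k p q m := by
  have : monomial D (1:k) = monomial (D - ω) 1 * monomial ω 1 := by
    rw [monomial_mul, mul_one, tsub_add_cancel_of_le hle]
  rw [this]
  refine Ideal.mem_sup_right (Ideal.mul_mem_left _ _ ?_)
  exact Ideal.subset_span ⟨ω, hω0, hωw, rfl⟩

/-- the weight-zero monomial attached to consecutive indices -/
theorem omega_facts (p q m : ℕ) (c : List ℤ) (j : ℕ) (a b e' e l' l : ℕ)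
    (ha : (a:ℤ) = nN p q m c j) (hb : (b:ℤ) = nN p q m c (j+1))
    (he' : (e':ℤ) = eE p q m c j) (he : (e:ℤ) = eE p q m c (j+1))
    (hl' : (l':ℤ) = lL p q m c j) (hl : (l:ℤ) = lL p q m c (j+1))
    (hba : b < a) (hee : e' ≤ e) (hll : l' ≤ l) :
    (Finsupp.single 0 (a - b) + Finsupp.single 1 (e - e') + Finsupp.single 2 (l - l') :
      Fin 3 →₀ ℕ) ≠ 0 ∧
    Finsupp.weight (wt3 p q m) (Finsupp.single 0 (a - b) + Finsupp.single 1 (e - e') +
      Finsupp.single 2 (l - l')) = 0 := by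
  have hel : ∀ k, eE p q m c k = lL p q m c k + (m:ℤ) * hjP c k := by
    intro k; unfold eE lL; push_cast; ring
  have hnel : ∀ k, nN p q m c k = -(p:ℤ) * eE p q m c k + (q:ℤ) * lL p q m c k := fun k => rfl
  have s0 : (Finsupp.single 0 (a - b) + Finsupp.single 1 (e - e') + Finsupp.single 2 (l - l') :
      Fin 3 →₀ ℕ) 0 = a - b := by simp [Finsupp.single_apply]
  have s1 : (Finsupp.single 0 (a - b) + Finsupp.single 1 (e - e') + Finsupp.single 2 (l - l') :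
      Fin 3 →₀ ℕ) 1 = e - e' := by simp [Finsupp.single_apply]
  have s2 : (Finsupp.single 0 (a - b) + Finsupp.single 1 (e - e') + Finsupp.single 2 (l - l') :
      Fin 3 →₀ ℕ) 2 = l - l' := by simp [Finsupp.single_apply]
  constructor
  · intro h
    have := DFunLike.congr_fun h 0
    rw [s0] at this
    simp at this
    omega
  · rw [weight_wt3, s0, s1, s2, Nat.cast_sub hba.le, Nat.cast_sub hee, Nat.cast_sub hll,
      Nat.cast_sub hee, Nat.cast_sub hll]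
    refine Prod.ext ?_ ?_
    · show ((a:ℤ) - b) - (p:ℤ) * ((e:ℤ) - e') + (q:ℤ) * ((l:ℤ) - l') = 0
      rw [ha, hb, he, he', hl, hl', hnel j, hnel (j+1)]; ring
    · show (((l:ℕ) : ZMod m) - ((l':ℕ) : ZMod m)) - (((e:ℕ) : ZMod m) - ((e':ℕ) : ZMod m)) = 0
      have h1 : ((l:ℤ) - l') - ((e:ℤ) - e') = (m:ℤ) * (hjP c j - hjP c (j+1)) := by
        rw [he, he', hl, hl', hel j, hel (j+1)]; ring
      have h2 := congrArg (Int.cast : ℤ → ZMod m) h1
      push_cast at h2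
      rw [h2]; simp

end Aux

/-- Let 0 < p < q be coprime integers and m ≥ 1 such that q − p does not divide m; put g = gcd(m, q−p),
b = (q−p)/g, α = ⌊mp/(q−p)⌋, β = the remainder of mp modulo q−p and t = (q−p−β)/g, so that 1 ≤ t <
b, and let b/t = c₁ − 1/(c₂ − 1/(⋯ − 1/c_r)) be the negative-regular (Hirzebruch–Jung) continued
fraction expansion with every cᵢ ≥ 2; set P₀ = 0, P₁ = 1, Q₀ = −1, Q₁ = 0, Pᵢ = cᵢ₋₁Pᵢ₋₁ − Pᵢ₋₂, Qᵢ
= cᵢ₋₁Qᵢ₋₁ − Qᵢ₋₂ for 2 ≤ i ≤ r+1, and eᵢ = (α+1+m)Pᵢ − Qᵢ, lᵢ = (α+1)Pᵢ − Qᵢ, nᵢ = q·lᵢ − p·eᵢ,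
which are non-negative integers for 0 ≤ i ≤ r+1. Grade the polynomial ring k[X₀,X₁,X₂] over a field
k by ℤ × ℤ/m with weights (1,0), (−p,−1), (q,1) (it stands for k[X₀,X₁,Xⱼ], j = 3 or 4, inside the
five-variable ring), let K be the ideal generated by all weight-zero monomials other than 1, and for
1 ≤ i ≤ r let L⁽ⁱ⁾₀ be the ideal (X₀^(nᵢ₋₁), X₁^(eᵢ)X₂^(lᵢ)) + K, which is generated by homogeneous
elements. Then for every weight ν the image in k[X₀,X₁,X₂]/L⁽ⁱ⁾₀ of the homogeneous polynomials of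
weight ν is a k-vector space of dimension at most 1. (The published statement is over the complex
numbers and writes this ideal as (X₀^(nᵢ₋₁), s·X₀^(nᵢ) − X₁^(eᵢ)X₂^(lᵢ)) + K with s = 0; this row
takes any field.) -/
theorem result (k : Type u) [Field k] (p q m : ℕ) (hp : 0 < p) (hpq : p < q) (hcop : Nat.Coprime p q) (hm : 0 < m) (hnt : ¬ (q - p ∣ m)) (c : List ℤ) (hc : W4c2invhilbsl2.IsHJDigits p q m c) (i : ℕ) (hi : 1 ≤ i) (hir : i ≤ c.length)
    (ν : ℤ × ZMod m) :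
    Module.rank k (W4c2invhilbsl2.piece k (W4c2invhilbsl2.wt3 p q m) (W4c2invhilbsl2.idealL k p q m c i 0) ν) ≤ 1 := by
  obtain ⟨j, rfl⟩ : ∃ j, i = j + 1 := ⟨i - 1, by omega⟩
  have hjr : j < c.length := by omega
  obtain ⟨hn, hnn, he'0, hee, hl'0, hll, hlat⟩ := data p q m hpq hm c hc j hjr
  have hn'pos : 0 < nN p q m c j := by linarith
  obtain ⟨a, ha⟩ : ∃ a : ℕ, (a:ℤ) = nN p q m c j := ⟨_, Int.toNat_of_nonneg hn'pos.le⟩
  obtain ⟨b, hb⟩ : ∃ b : ℕ, (b:ℤ) = nN p q m c (j+1) := ⟨_, Int.toNat_of_nonneg hn.le⟩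
  obtain ⟨e', he'⟩ : ∃ e' : ℕ, (e':ℤ) = eE p q m c j := ⟨_, Int.toNat_of_nonneg he'0⟩
  obtain ⟨e, he⟩ : ∃ e : ℕ, (e:ℤ) = eE p q m c (j+1) :=
    ⟨_, Int.toNat_of_nonneg (he'0.trans hee)⟩
  obtain ⟨l', hl'⟩ : ∃ l' : ℕ, (l':ℤ) = lL p q m c j := ⟨_, Int.toNat_of_nonneg hl'0⟩
  obtain ⟨l, hl⟩ : ∃ l : ℕ, (l:ℤ) = lL p q m c (j+1) :=
    ⟨_, Int.toNat_of_nonneg (hl'0.trans hll)⟩
  have ha' : (nN p q m c j).toNat = a := by rw [← ha]; exact Int.toNat_natCast a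
  have hb' : (nN p q m c (j+1)).toNat = b := by rw [← hb]; exact Int.toNat_natCast b
  have he'' : (eE p q m c (j+1)).toNat = e := by rw [← he]; exact Int.toNat_natCast e
  have hl'' : (lL p q m c (j+1)).toNat = l := by rw [← hl]; exact Int.toNat_natCast l
  have hI : idealL k p q m c (j+1) 0 = Ideal.span {MvPolynomial.X (0 : Fin 3) ^ a,
      MvPolynomial.C (0:k) * MvPolynomial.X (0 : Fin 3) ^ b -
        MvPolynomial.X (1 : Fin 3) ^ e * MvPolynomial.X (2 : Fin 3) ^ l} ⊔ idealK k p q m := by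
    show Ideal.span {MvPolynomial.X (0 : Fin 3) ^ (nN p q m c j).toNat,
      MvPolynomial.C (0:k) * MvPolynomial.X (0 : Fin 3) ^ (nN p q m c (j+1)).toNat -
        MvPolynomial.X (1 : Fin 3) ^ (eE p q m c (j+1)).toNat *
          MvPolynomial.X (2 : Fin 3) ^ (lL p q m c (j+1)).toNat} ⊔ idealK k p q m = _
    rw [ha', hb', he'', hl'']
  rw [hI]
  have hba : b < a := by
    have : (b:ℤ) < a := by rw [ha, hb]; exact hnn
    exact_mod_cast this
  have hee' : e' ≤ e := by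
    have : (e':ℤ) ≤ e := by rw [he, he']; exact hee
    exact_mod_cast this
  have hll' : l' ≤ l := by
    have : (l':ℤ) ≤ l := by rw [hl, hl']; exact hll
    exact_mod_cast this
  obtain ⟨hω0, hωw⟩ := omega_facts p q m c j a b e' e l' l ha hb he' he hl' hl hba hee' hll'
  have kill : ∀ F : Fin 3 →₀ ℕ,
      (nN p q m c j ≤ F 0 ∨ (eE p q m c (j+1) ≤ F 1 ∧ lL p q m c (j+1) ≤ F 2) ∨
        (nN p q m c j - nN p q m c (j+1) ≤ F 0 ∧ eE p q m c (j+1) - eE p q m c j ≤ F 1 ∧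
          lL p q m c (j+1) - lL p q m c j ≤ F 2)) →
      MvPolynomial.monomial F (1:k) ∈ Ideal.span {MvPolynomial.X (0 : Fin 3) ^ a,
      MvPolynomial.C (0:k) * MvPolynomial.X (0 : Fin 3) ^ b -
        MvPolynomial.X (1 : Fin 3) ^ e * MvPolynomial.X (2 : Fin 3) ^ l} ⊔ idealK k p q m := by
    intro F hF
    rw [← ha, ← hb, ← he, ← he', ← hl, ← hl'] at hF
    rcases hF with h | ⟨h1, h2⟩ | ⟨h1, h2, h3⟩
    · exact mem1 p q m a b e l 0 F (by exact_mod_cast h)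
    · exact mem2 p q m a b e l F (by exact_mod_cast h1) (by exact_mod_cast h2)
    · refine mem3 p q m a b e l 0 F _ hω0 hωw ?_
      rw [Finsupp.le_def]
      intro x
      fin_cases x <;> simp [Finsupp.single_apply] <;> omega
  apply rank_piece_le_one
  intro D E hD hE
  by_cases hDE : D = E
  · left; rw [hDE]
  · right
    rw [weight_wt3] at hD hE
    have h12 := hD.trans hE.symm
    rw [Prod.mk.injEq] at h12
    obtain ⟨hw1, hw2⟩ := h12
    have hz : ((E 0:ℤ) - D 0) - p * ((E 1:ℤ) - D 1) + q * ((E 2:ℤ) - D 2) = 0 := by linarith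
    have hdvd : (m:ℤ) ∣ ((E 1:ℤ) - D 1) - ((E 2:ℤ) - D 2) := by
      rw [← ZMod.intCast_zmod_eq_zero_iff_dvd]
      push_cast
      linear_combination hw2
    obtain ⟨u, hu⟩ := hdvd
    obtain ⟨A, B, h0, h1, h2⟩ := hlat _ _ _ u hz hu
    have hne : A ≠ 0 ∨ B ≠ 0 := by
      by_contra h
      push Not at h
      obtain ⟨hA, hB⟩ := h
      rw [hA, hB] at h0 h1 h2
      simp only [zero_mul, add_zero, neg_zero] at h0 h1 h2
      apply hDE
      ext x
      fin_cases x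
      · show D 0 = E 0; omega
      · show D 1 = E 1; omega
      · show D 2 = E 2; omega
    have := key0 _ _ _ _ _ _ hn hnn he'0 hee hl'0 hll (D 0) (D 1) (D 2) (E 0) (E 1) (E 2) A B
      (Int.natCast_nonneg _) (Int.natCast_nonneg _) (Int.natCast_nonneg _)
      (Int.natCast_nonneg _) (Int.natCast_nonneg _) (Int.natCast_nonneg _) h0 h1 h2 hne
    rcases this with h | h
    · left; exact kill D h
    · right; exact kill E h

end Groth.Agent.S15730
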