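import Groth.Statements.S15731
import Mathlib
import Groth.Agent.Lib.helper8.HJLib
import Groth.Agent.S15730

set_option autoImplicit false
universe u
open W4c2invhilbsl2

namespace Groth.Agent.S15731

section Aux
open MvPolynomial

/-- the ideal, with natural-number exponents -/
noncomputable abbrev II (k : Type u) [Field k] (p q m a b e l : ℕ) : Ideal (MvPolynomial (Fin 3) k) :=
  Ideal.span {X (0 : Fin 3) ^ a,
    C (1:k) * X (0 : Fin 3) ^ b - X (1 : Fin 3) ^ e * X (2 : Fin 3) ^ l} ⊔ idealK k p q m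

theorem num_step (n' n e' e l' l : ℤ) (hn : 0 < n) (hnn : n < n') (he' : 0 ≤ e') (hee : e' ≤ e)
    (hl' : 0 ≤ l') (hll : l' ≤ l)
    (D0 D1 D2 E0 E1 E2 A B : ℤ) (hD0 : 0 ≤ D0) (hD1 : 0 ≤ D1) (hD2 : 0 ≤ D2)
    (h0 : E0 - D0 = -(A * n' + B * n)) (h1 : E1 - D1 = A * e' + B * e)
    (h2 : E2 - D2 = A * l' + B * l) (hB : 0 < B) :
    n' ≤ E0 ∨ (e ≤ E1 ∧ l ≤ E2) ∨ (n' - n ≤ E0 ∧ e - e' ≤ E1 ∧ l - l' ≤ E2) := by
  rcases lt_or_ge A 0 with hA | hA
  · by_cases hE : n' ≤ E0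
    · left; exact hE
    push Not at hE
    have hBA : -A ≤ B := by
      by_contra h
      push Not at h
      have t1 := mul_nonneg (by linarith : (0:ℤ) ≤ -A - 1 - B) (by linarith : (0:ℤ) ≤ n')
      have t2 := mul_nonneg hB.le (by linarith : (0:ℤ) ≤ n' - n)
      nlinarith
    rcases eq_or_lt_of_le hBA with hEq | hLt
    · right; right
      have hA' : A = -B := by linarith
      subst hA'
      refine ⟨?_, ?_, ?_⟩
      · nlinarith [mul_nonneg (by linarith : (0:ℤ) ≤ B - 1) (by linarith : (0:ℤ) ≤ n' - n)]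
      · nlinarith [mul_nonneg (by linarith : (0:ℤ) ≤ B - 1) (by linarith : (0:ℤ) ≤ e - e')]
      · nlinarith [mul_nonneg (by linarith : (0:ℤ) ≤ B - 1) (by linarith : (0:ℤ) ≤ l - l')]
    · right; left
      constructor
      · nlinarith [mul_nonneg (by linarith : (0:ℤ) ≤ -A) (by linarith : (0:ℤ) ≤ e - e'),
          mul_nonneg (by linarith : (0:ℤ) ≤ B + A - 1) (by linarith : (0:ℤ) ≤ e)]
      · nlinarith [mul_nonneg (by linarith : (0:ℤ) ≤ -A) (by linarith : (0:ℤ) ≤ l - l'),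
          mul_nonneg (by linarith : (0:ℤ) ≤ B + A - 1) (by linarith : (0:ℤ) ≤ l)]
  · right; left
    constructor
    · nlinarith [mul_nonneg hA he', mul_nonneg (by linarith : (0:ℤ) ≤ B - 1)
        (by linarith : (0:ℤ) ≤ e)]
    · nlinarith [mul_nonneg hA hl', mul_nonneg (by linarith : (0:ℤ) ≤ B - 1)
        (by linarith : (0:ℤ) ≤ l)]

theorem step {k : Type u} [Field k] (p q m a b e l : ℕ) (E : Fin 3 →₀ ℕ)
    (h1 : e ≤ E 1) (h2 : l ≤ E 2) :
    ∃ E₁ : Fin 3 →₀ ℕ, E₁ 0 = E 0 + b ∧ E₁ 1 = E 1 - e ∧ E₁ 2 = E 2 - l ∧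
      Ideal.Quotient.mk (II k p q m a b e l) (monomial E (1:k)) =
        Ideal.Quotient.mk (II k p q m a b e l) (monomial E₁ (1:k)) := by
  have hs : Finsupp.single 1 e + Finsupp.single 2 l ≤ E := by
    rw [Finsupp.le_def]
    intro x
    fin_cases x <;> simp [Finsupp.single_apply] <;> omega
  refine ⟨(E - (Finsupp.single 1 e + Finsupp.single 2 l)) + Finsupp.single 0 b, ?_, ?_, ?_, ?_⟩
  · simp [Finsupp.single_apply]
  · simp [Finsupp.single_apply]
  · simp [Finsupp.single_apply]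
  · rw [Ideal.Quotient.eq]
    have e1 : monomial E (1:k) = monomial (E - (Finsupp.single 1 e + Finsupp.single 2 l)) 1 *
        (X (1 : Fin 3) ^ e * X (2 : Fin 3) ^ l) := by
      rw [X_pow_eq_monomial, X_pow_eq_monomial, monomial_mul, monomial_mul, mul_one, mul_one,
        tsub_add_cancel_of_le hs]
    have e2 : monomial ((E - (Finsupp.single 1 e + Finsupp.single 2 l)) + Finsupp.single 0 b)
        (1:k) = monomial (E - (Finsupp.single 1 e + Finsupp.single 2 l)) 1 *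
        X (0 : Fin 3) ^ b := by
      rw [X_pow_eq_monomial, monomial_mul, mul_one]
    have e3 : monomial E (1:k) - monomial ((E - (Finsupp.single 1 e + Finsupp.single 2 l)) +
        Finsupp.single 0 b) (1:k) =
        -(monomial (E - (Finsupp.single 1 e + Finsupp.single 2 l)) 1 *
          (C (1:k) * X (0 : Fin 3) ^ b - X (1 : Fin 3) ^ e * X (2 : Fin 3) ^ l)) := by
      rw [e1, e2, C_1, one_mul]; ring
    rw [e3]
    exact Ideal.mem_sup_left ((Ideal.neg_mem_iff _).2 (Ideal.mul_mem_left _ _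
      (Ideal.subset_span (Set.mem_insert_of_mem _ (Set.mem_singleton _)))))

theorem T_pos {k : Type u} [Field k] (p q m a b e' e l' l : ℕ) (hb : 0 < b) (hba : b < a)
    (hee : e' ≤ e) (hll : l' ≤ l)
    (hω0 : (Finsupp.single 0 (a - b) + Finsupp.single 1 (e - e') + Finsupp.single 2 (l - l') :
      Fin 3 →₀ ℕ) ≠ 0)
    (hωw : Finsupp.weight (wt3 p q m) (Finsupp.single 0 (a - b) + Finsupp.single 1 (e - e') +
      Finsupp.single 2 (l - l')) = 0) :
    ∀ (K : ℕ) (D E : Fin 3 →₀ ℕ) (A : ℤ),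
      ((E 0:ℤ) - D 0 = -(A * a + K * b)) → ((E 1:ℤ) - D 1 = A * e' + K * e) →
      ((E 2:ℤ) - D 2 = A * l' + K * l) →
      (Ideal.Quotient.mk (II k p q m a b e l) (monomial D (1:k)) =
          Ideal.Quotient.mk (II k p q m a b e l) (monomial E (1:k)) ∨
        monomial D (1:k) ∈ II k p q m a b e l ∨ monomial E (1:k) ∈ II k p q m a b e l) := by
  have hann : (0:ℤ) ≤ (a:ℤ) := Int.natCast_nonneg _
  intro K
  induction K with
  | zero =>
    intro D E A h0 h1 h2
    simp only [Nat.cast_zero, zero_mul, add_zero] at h0 h1 h2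
    rcases lt_trichotomy A 0 with hA | hA | hA
    · right; right
      refine Groth.Agent.S15730.mem1 p q m a b e l 1 E ?_
      have : (a:ℤ) ≤ E 0 := by
        have := mul_nonneg (by linarith : (0:ℤ) ≤ -A - 1) hann
        have hD0 : (0:ℤ) ≤ (D 0 : ℤ) := Int.natCast_nonneg _
        nlinarith
      exact_mod_cast this
    · left
      subst hA
      simp only [zero_mul, neg_zero] at h0 h1 h2
      have : D = E := by
        ext x
        fin_cases x
        · show D 0 = E 0; omega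
        · show D 1 = E 1; omega
        · show D 2 = E 2; omega
      rw [this]
    · right; left
      refine Groth.Agent.S15730.mem1 p q m a b e l 1 D ?_
      have : (a:ℤ) ≤ D 0 := by
        have := mul_nonneg (by linarith : (0:ℤ) ≤ A - 1) hann
        have hE0 : (0:ℤ) ≤ (E 0 : ℤ) := Int.natCast_nonneg _
        nlinarith
      exact_mod_cast this
  | succ K ih =>
    intro D E A h0 h1 h2
    push_cast at h0 h1 h2
    have hKnn : (0:ℤ) ≤ (K:ℤ) := Int.natCast_nonneg _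
    have := num_step (a:ℤ) b e' e l' l (by exact_mod_cast hb) (by exact_mod_cast hba)
      (Int.natCast_nonneg _) (by exact_mod_cast hee) (Int.natCast_nonneg _)
      (by exact_mod_cast hll) (D 0) (D 1) (D 2) (E 0) (E 1) (E 2) A ((K:ℤ)+1)
      (Int.natCast_nonneg _) (Int.natCast_nonneg _) (Int.natCast_nonneg _) h0 h1 h2
      (by linarith)
    rcases this with h | ⟨g1, g2⟩ | ⟨g1, g2, g3⟩
    · right; right
      exact Groth.Agent.S15730.mem1 p q m a b e l 1 E (by exact_mod_cast h)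
    · have g1' : e ≤ E 1 := by exact_mod_cast g1
      have g2' : l ≤ E 2 := by exact_mod_cast g2
      obtain ⟨E₁, q0, q1, q2, hmk⟩ := step (k := k) p q m a b e l E g1' g2'
      have ih' := ih D E₁ A (by rw [q0]; push_cast; linarith)
        (by rw [q1, Nat.cast_sub g1']; linarith) (by rw [q2, Nat.cast_sub g2']; linarith)
      rcases ih' with h | h | h
      · left; exact h.trans hmk.symm
      · right; left; exact h
      · right; right
        exact Ideal.Quotient.eq_zero_iff_mem.1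
          (hmk.trans (Ideal.Quotient.eq_zero_iff_mem.2 h))
    · right; right
      refine Groth.Agent.S15730.mem3 p q m a b e l 1 E _ hω0 hωw ?_
      rw [Finsupp.le_def]
      intro x
      fin_cases x <;> simp [Finsupp.single_apply] <;> omega

theorem T_all {k : Type u} [Field k] (p q m a b e' e l' l : ℕ) (hb : 0 < b) (hba : b < a)
    (hee : e' ≤ e) (hll : l' ≤ l)
    (hω0 : (Finsupp.single 0 (a - b) + Finsupp.single 1 (e - e') + Finsupp.single 2 (l - l') :
      Fin 3 →₀ ℕ) ≠ 0)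
    (hωw : Finsupp.weight (wt3 p q m) (Finsupp.single 0 (a - b) + Finsupp.single 1 (e - e') +
      Finsupp.single 2 (l - l')) = 0)
    (D E : Fin 3 →₀ ℕ) (A B : ℤ)
    (h0 : (E 0:ℤ) - D 0 = -(A * a + B * b)) (h1 : (E 1:ℤ) - D 1 = A * e' + B * e)
    (h2 : (E 2:ℤ) - D 2 = A * l' + B * l) :
    (Ideal.Quotient.mk (II k p q m a b e l) (monomial D (1:k)) =
        Ideal.Quotient.mk (II k p q m a b e l) (monomial E (1:k)) ∨
      monomial D (1:k) ∈ II k p q m a b e l ∨ monomial E (1:k) ∈ II k p q m a b e l) := by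
  rcases lt_or_ge B 0 with hB | hB
  · obtain ⟨K, hK⟩ : ∃ K : ℕ, (K:ℤ) = -B := ⟨(-B).toNat, Int.toNat_of_nonneg (by linarith)⟩
    have := T_pos (k := k) p q m a b e' e l' l hb hba hee hll hω0 hωw K E D (-A)
      (by rw [hK]; linarith) (by rw [hK]; linarith) (by rw [hK]; linarith)
    rcases this with h | h | h
    · left; exact h.symm
    · right; right; exact h
    · right; left; exact h
  · obtain ⟨K, hK⟩ : ∃ K : ℕ, (K:ℤ) = B := ⟨B.toNat, Int.toNat_of_nonneg hB⟩
    exact T_pos (k := k) p q m a b e' e l' l hb hba hee hll hω0 hωw K D E A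
      (by rw [hK]; exact h0) (by rw [hK]; exact h1) (by rw [hK]; exact h2)

end Aux

/-- Let 0 < p < q be coprime integers and m ≥ 1 such that q − p does not divide m; put g = gcd(m, q−p),
b = (q−p)/g, α = ⌊mp/(q−p)⌋, β = the remainder of mp modulo q−p and t = (q−p−β)/g, so that 1 ≤ t <
b, and let b/t = c₁ − 1/(c₂ − 1/(⋯ − 1/c_r)) be the negative-regular (Hirzebruch–Jung) continued
fraction expansion with every cᵢ ≥ 2; set P₀ = 0, P₁ = 1, Q₀ = −1, Q₁ = 0, Pᵢ = cᵢ₋₁Pᵢ₋₁ − Pᵢ₋₂, Qᵢ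
= cᵢ₋₁Qᵢ₋₁ − Qᵢ₋₂ for 2 ≤ i ≤ r+1, and eᵢ = (α+1+m)Pᵢ − Qᵢ, lᵢ = (α+1)Pᵢ − Qᵢ, nᵢ = q·lᵢ − p·eᵢ,
which are non-negative integers for 0 ≤ i ≤ r+1. Grade the polynomial ring k[X₀,X₁,X₂] over a field
k by ℤ × ℤ/m with weights (1,0), (−p,−1), (q,1) (it stands for k[X₀,X₁,Xⱼ], j = 3 or 4, inside the
five-variable ring), let K be the ideal generated by all weight-zero monomials other than 1, and for
1 ≤ i ≤ r let L⁽ⁱ⁾₁ be the ideal (X₀^(nᵢ₋₁), X₀^(nᵢ) − X₁^(eᵢ)X₂^(lᵢ)) + K, which is generated by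
homogeneous elements (X₀^(nᵢ) and X₁^(eᵢ)X₂^(lᵢ) both have weight (nᵢ, 0)). Then for every weight ν
the image in k[X₀,X₁,X₂]/L⁽ⁱ⁾₁ of the homogeneous polynomials of weight ν is a k-vector space of
dimension at most 1. (The published statement is over the complex numbers; this row takes any
field.) -/
theorem result (k : Type u) [Field k] (p q m : ℕ) (hp : 0 < p) (hpq : p < q) (hcop : Nat.Coprime p q) (hm : 0 < m) (hnt : ¬ (q - p ∣ m)) (c : List ℤ) (hc : W4c2invhilbsl2.IsHJDigits p q m c) (i : ℕ) (hi : 1 ≤ i) (hir : i ≤ c.length)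
    (ν : ℤ × ZMod m) :
    Module.rank k (W4c2invhilbsl2.piece k (W4c2invhilbsl2.wt3 p q m) (W4c2invhilbsl2.idealL k p q m c i 1) ν) ≤ 1 := by
  obtain ⟨j, rfl⟩ : ∃ j, i = j + 1 := ⟨i - 1, by omega⟩
  have hjr : j < c.length := by omega
  obtain ⟨hn, hnn, he'0, hee, hl'0, hll, hlat⟩ := Groth.Agent.S15730.data p q m hpq hm c hc j hjr
  have hn'pos : 0 < nN p q m c j := by linarith
  obtain ⟨a, ha⟩ : ∃ a : ℕ, (a:ℤ) = nN p q m c j := ⟨_, Int.toNat_of_nonneg hn'pos.le⟩
  obtain ⟨b, hb⟩ : ∃ b : ℕ, (b:ℤ) = nN p q m c (j+1) := ⟨_, Int.toNat_of_nonneg hn.le⟩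
  obtain ⟨e', he'⟩ : ∃ e' : ℕ, (e':ℤ) = eE p q m c j := ⟨_, Int.toNat_of_nonneg he'0⟩
  obtain ⟨e, he⟩ : ∃ e : ℕ, (e:ℤ) = eE p q m c (j+1) :=
    ⟨_, Int.toNat_of_nonneg (he'0.trans hee)⟩
  obtain ⟨l', hl'⟩ : ∃ l' : ℕ, (l':ℤ) = lL p q m c j := ⟨_, Int.toNat_of_nonneg hl'0⟩
  obtain ⟨l, hl⟩ : ∃ l : ℕ, (l:ℤ) = lL p q m c (j+1) :=
    ⟨_, Int.toNat_of_nonneg (hl'0.trans hll)⟩
  have ha' : (nN p q m c j).toNat = a := by rw [← ha]; exact Int.toNat_natCast a
  have hb' : (nN p q m c (j+1)).toNat = b := by rw [← hb]; exact Int.toNat_natCast b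
  have he'' : (eE p q m c (j+1)).toNat = e := by rw [← he]; exact Int.toNat_natCast e
  have hl'' : (lL p q m c (j+1)).toNat = l := by rw [← hl]; exact Int.toNat_natCast l
  have hI : idealL k p q m c (j+1) 1 = II k p q m a b e l := by
    show Ideal.span {MvPolynomial.X (0 : Fin 3) ^ (nN p q m c j).toNat,
      MvPolynomial.C (1:k) * MvPolynomial.X (0 : Fin 3) ^ (nN p q m c (j+1)).toNat -
        MvPolynomial.X (1 : Fin 3) ^ (eE p q m c (j+1)).toNat *
          MvPolynomial.X (2 : Fin 3) ^ (lL p q m c (j+1)).toNat} ⊔ idealK k p q m = _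
    rw [ha', hb', he'', hl'']
  rw [hI]
  have hbpos : 0 < b := by
    have : (0:ℤ) < b := by rw [hb]; exact hn
    exact_mod_cast this
  have hba : b < a := by
    have : (b:ℤ) < a := by rw [ha, hb]; exact hnn
    exact_mod_cast this
  have hee' : e' ≤ e := by
    have : (e':ℤ) ≤ e := by rw [he, he']; exact hee
    exact_mod_cast this
  have hll' : l' ≤ l := by
    have : (l':ℤ) ≤ l := by rw [hl, hl']; exact hll
    exact_mod_cast this
  obtain ⟨hω0, hωw⟩ := Groth.Agent.S15730.omega_facts p q m c j a b e' e l' l ha hb he' he hl' hl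
    hba hee' hll'
  apply Groth.Agent.S15730.rank_piece_le_one
  intro D E hD hE
  rw [Groth.Agent.S15730.weight_wt3] at hD hE
  have h12 := hD.trans hE.symm
  rw [Prod.mk.injEq] at h12
  obtain ⟨hw1, hw2⟩ := h12
  have hz : ((E 0:ℤ) - D 0) - p * ((E 1:ℤ) - D 1) + q * ((E 2:ℤ) - D 2) = 0 := by linarith
  have hdvd : (m:ℤ) ∣ ((E 1:ℤ) - D 1) - ((E 2:ℤ) - D 2) := by
    rw [← ZMod.intCast_zmod_eq_zero_iff_dvd]
    push_cast
    linear_combination hw2
  obtain ⟨u, hu⟩ := hdvd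
  obtain ⟨A, B, h0, h1, h2⟩ := hlat _ _ _ u hz hu
  rw [← ha, ← hb] at h0
  rw [← he, ← he'] at h1
  rw [← hl, ← hl'] at h2
  exact T_all p q m a b e' e l' l hbpos hba hee' hll' hω0 hωw D E A B h0 h1 h2

end Groth.Agent.S15731
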