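import Groth.Statements.S15732
import Mathlib
import Groth.Agent.Lib.helper8.HJLib
import Groth.Agent.S15729

set_option autoImplicit false
universe u
open W4c2invhilbsl2

namespace Groth.Agent.S15732

section Aux
open MvPolynomial

theorem weight_wt5 (p q m : ℕ) (d : Fin 5 →₀ ℕ) :
    Finsupp.weight (wt5 p q m) d =
      ((d 0 : ℤ) - p * ((d 1 + d 2 : ℕ) : ℤ) + q * ((d 3 + d 4 : ℕ) : ℤ),
        ((d 3 + d 4 : ℕ) : ZMod m) - ((d 1 + d 2 : ℕ) : ZMod m)) := by
  rw [Finsupp.weight_apply, Finsupp.sum_fintype d (fun i c => c • wt5 p q m i)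
    (fun i => zero_smul _ _), Fin.sum_univ_five]
  show d 0 • ((1:ℤ), (0:ZMod m)) + d 1 • (-(p:ℤ), (-1 : ZMod m)) + d 2 • (-(p:ℤ), (-1 : ZMod m))
    + d 3 • ((q:ℤ), (1:ZMod m)) + d 4 • ((q:ℤ), (1:ZMod m)) = _
  refine Prod.ext ?_ ?_
  · simp only [Prod.fst_add, Prod.smul_fst]
    simp only [nsmul_eq_mul]; push_cast; ring
  · simp only [Prod.snd_add, Prod.smul_snd]
    simp only [nsmul_eq_mul]; push_cast; ring

/-- the property to be proved, as a predicate on the polynomial -/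
def Pr (k : Type u) [Field k] (p q m n e l : ℕ) (g : MvPolynomial (Fin 5) k) : Prop :=
  ∃ (a₀ : MvPolynomial (Fin 5) k) (a : ℕ → ℕ → MvPolynomial (Fin 5) k),
    a₀ ∈ weightedHomogeneousSubmodule k (wt5 p q m) 0 ∧
    (∀ x y : ℕ, a x y ∈ weightedHomogeneousSubmodule k (wt5 p q m) 0) ∧
    g - (a₀ * X (0 : Fin 5) ^ n +
        ∑ x ∈ Finset.range (e + 1), ∑ y ∈ Finset.range (l + 1),
          a x y * (X (1 : Fin 5) ^ (e - x) * X (2 : Fin 5) ^ x *
            X (3 : Fin 5) ^ (l - y) * X (4 : Fin 5) ^ y)) ∈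
      Ideal.span {X (0 : Fin 5) ^ (q - p) - X 1 * X 4 + X 2 * X 3}

theorem Pr_add {k : Type u} [Field k] {p q m n e l : ℕ} {g1 g2 : MvPolynomial (Fin 5) k}
    (h1 : Pr k p q m n e l g1) (h2 : Pr k p q m n e l g2) : Pr k p q m n e l (g1 + g2) := by
  obtain ⟨a1, A1, ha1, hA1, hm1⟩ := h1
  obtain ⟨a2, A2, ha2, hA2, hm2⟩ := h2
  refine ⟨a1 + a2, fun x y => A1 x y + A2 x y, Submodule.add_mem _ ha1 ha2,
    fun x y => Submodule.add_mem _ (hA1 x y) (hA2 x y), ?_⟩
  have := Ideal.add_mem _ hm1 hm2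
  convert this using 1
  simp only [add_mul, Finset.sum_add_distrib]
  ring

theorem Pr_zero {k : Type u} [Field k] {p q m n e l : ℕ} : Pr k p q m n e l 0 := by
  refine ⟨0, fun _ _ => 0, Submodule.zero_mem _, fun _ _ => Submodule.zero_mem _, ?_⟩
  simp

theorem Pr_monoA {k : Type u} [Field k] {p q m n e l : ℕ} (d : Fin 5 →₀ ℕ) (r : k)
    (hn : n ≤ d 0)
    (hw : Finsupp.weight (wt5 p q m) (d - Finsupp.single 0 n) = 0) :
    Pr k p q m n e l (monomial d r) := by
  refine ⟨monomial (d - Finsupp.single 0 n) r, fun _ _ => 0, ?_,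
    fun _ _ => Submodule.zero_mem _, ?_⟩
  · rw [mem_weightedHomogeneousSubmodule]; exact isWeightedHomogeneous_monomial _ _ _ hw
  · have : monomial (d - Finsupp.single 0 n) r * X (0 : Fin 5) ^ n = monomial d r := by
      rw [X_pow_eq_monomial, monomial_mul, mul_one,
        tsub_add_cancel_of_le (Finsupp.single_le_iff.2 hn)]
    rw [this]; simp

theorem Pr_monoB {k : Type u} [Field k] {p q m n e l : ℕ} (d : Fin 5 →₀ ℕ) (r : k)
    (e' l' : ℕ) (he' : e' ≤ e) (hl' : l' ≤ l)
    (hs : Finsupp.single 1 (e - e') + Finsupp.single 2 e' + Finsupp.single 3 (l - l') +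
      Finsupp.single 4 l' ≤ d)
    (hw : Finsupp.weight (wt5 p q m) (d - (Finsupp.single 1 (e - e') + Finsupp.single 2 e' +
      Finsupp.single 3 (l - l') + Finsupp.single 4 l')) = 0) :
    Pr k p q m n e l (monomial d r) := by
  classical
  refine ⟨0, fun x y => if x = e' ∧ y = l' then monomial (d - (Finsupp.single 1 (e - e') +
    Finsupp.single 2 e' + Finsupp.single 3 (l - l') + Finsupp.single 4 l')) r else 0,
    Submodule.zero_mem _, ?_, ?_⟩
  · intro x y
    show (if x = e' ∧ y = l' then monomial (d - (Finsupp.single 1 (e - e') +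
      Finsupp.single 2 e' + Finsupp.single 3 (l - l') + Finsupp.single 4 l')) r else 0) ∈ _
    split_ifs
    · rw [mem_weightedHomogeneousSubmodule]; exact isWeightedHomogeneous_monomial _ _ _ hw
    · exact Submodule.zero_mem _
  · have hM : monomial (d - (Finsupp.single 1 (e - e') + Finsupp.single 2 e' +
        Finsupp.single 3 (l - l') + Finsupp.single 4 l')) r *
        (X (1 : Fin 5) ^ (e - e') * X (2 : Fin 5) ^ e' * X (3 : Fin 5) ^ (l - l') *
          X (4 : Fin 5) ^ l') = monomial d r := by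
      rw [X_pow_eq_monomial, X_pow_eq_monomial, X_pow_eq_monomial, X_pow_eq_monomial,
        monomial_mul, monomial_mul, monomial_mul, monomial_mul]
      simp only [one_mul, mul_one]
      rw [tsub_add_cancel_of_le hs]
    have hsum : (∑ x ∈ Finset.range (e+1), ∑ y ∈ Finset.range (l+1),
        (if x = e' ∧ y = l' then monomial (d - (Finsupp.single 1 (e - e') +
          Finsupp.single 2 e' + Finsupp.single 3 (l - l') + Finsupp.single 4 l')) r else 0) *
          (X (1 : Fin 5) ^ (e - x) * X (2 : Fin 5) ^ x * X (3 : Fin 5) ^ (l - y) *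
            X (4 : Fin 5) ^ y)) = monomial d r := by
      rw [Finset.sum_eq_single_of_mem e' (Finset.mem_range.2 (by omega))]
      · rw [Finset.sum_eq_single_of_mem l' (Finset.mem_range.2 (by omega))]
        · rw [if_pos ⟨rfl, rfl⟩, hM]
        · intro y _ hy; rw [if_neg (fun h => hy h.2), zero_mul]
      · intro x _ hx
        apply Finset.sum_eq_zero
        intro y _; rw [if_neg (fun h => hx h.1), zero_mul]
    show monomial d r - (0 * X (0 : Fin 5) ^ n + ∑ x ∈ Finset.range (e+1),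
      ∑ y ∈ Finset.range (l+1),
        (if x = e' ∧ y = l' then monomial (d - (Finsupp.single 1 (e - e') +
          Finsupp.single 2 e' + Finsupp.single 3 (l - l') + Finsupp.single 4 l')) r else 0) *
          (X (1 : Fin 5) ^ (e - x) * X (2 : Fin 5) ^ x * X (3 : Fin 5) ^ (l - y) *
            X (4 : Fin 5) ^ y)) ∈ _
    rw [hsum]; simp

end Aux

/-- Let 0 < p < q be coprime integers and m ≥ 1 such that q − p does not divide m; put g = gcd(m, q−p),
b = (q−p)/g, α = ⌊mp/(q−p)⌋, β = the remainder of mp modulo q−p and t = (q−p−β)/g, so that 1 ≤ t <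
b, and let b/t = c₁ − 1/(c₂ − 1/(⋯ − 1/c_r)) be the negative-regular (Hirzebruch–Jung) continued
fraction expansion with every cᵢ ≥ 2; set P₀ = 0, P₁ = 1, Q₀ = −1, Q₁ = 0, Pᵢ = cᵢ₋₁Pᵢ₋₁ − Pᵢ₋₂, Qᵢ
= cᵢ₋₁Qᵢ₋₁ − Qᵢ₋₂ for 2 ≤ i ≤ r+1, and eᵢ = (α+1+m)Pᵢ − Qᵢ, lᵢ = (α+1)Pᵢ − Qᵢ, nᵢ = q·lᵢ − p·eᵢ,
which are non-negative integers for 0 ≤ i ≤ r+1. Grade the polynomial ring k[X₀,…,X₄] over a field k
by ℤ × ℤ/m, giving X₀ weight (1,0), X₁ and X₂ weight (−p,−1), and X₃ and X₄ weight (q,1). Then for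
every 1 ≤ i ≤ r, modulo the principal ideal generated by the weight-zero element X₀^(q−p) − X₁X₄ +
X₂X₃, every polynomial homogeneous of weight (nᵢ, 0) is congruent to a combination a₀·X₀^(nᵢ) + Σ
a_{e,l}·X₁^(eᵢ−e)X₂^e X₃^(lᵢ−l)X₄^l (sum over 0 ≤ e ≤ eᵢ, 0 ≤ l ≤ lᵢ) whose coefficients a₀, a_{e,l}
are homogeneous of weight zero. Equivalently, in the coordinate ring of the hypersurface the
weight-(nᵢ,0) piece is generated over the weight-zero subring (the invariant ring) by X₀^(nᵢ)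
together with the products of a degree-eᵢ monomial in X₁, X₂ and a degree-lᵢ monomial in X₃, X₄.
(The published statement is over the complex numbers; this row takes any field.) -/
theorem result (k : Type u) [Field k] (p q m : ℕ) (hp : 0 < p) (hpq : p < q) (hcop : Nat.Coprime p q) (hm : 0 < m) (hnt : ¬ (q - p ∣ m)) (c : List ℤ) (hc : W4c2invhilbsl2.IsHJDigits p q m c) (i : ℕ) (hi : 1 ≤ i) (hir : i ≤ c.length)
    (f : MvPolynomial (Fin 5) k) (hf : f ∈ MvPolynomial.weightedHomogeneousSubmodule k (W4c2invhilbsl2.wt5 p q m) (W4c2invhilbsl2.nN p q m c i, (0 : ZMod m))) :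
    ∃ (a₀ : MvPolynomial (Fin 5) k) (a : ℕ → ℕ → MvPolynomial (Fin 5) k),
      a₀ ∈ MvPolynomial.weightedHomogeneousSubmodule k (W4c2invhilbsl2.wt5 p q m) 0 ∧ (∀ e l : ℕ, a e l ∈ MvPolynomial.weightedHomogeneousSubmodule k (W4c2invhilbsl2.wt5 p q m) 0) ∧
      f - (a₀ * MvPolynomial.X (0 : Fin 5) ^ (W4c2invhilbsl2.nN p q m c i).toNat +
          ∑ e ∈ Finset.range ((W4c2invhilbsl2.eE p q m c i).toNat + 1), ∑ l ∈ Finset.range ((W4c2invhilbsl2.lL p q m c i).toNat + 1),
            a e l * (MvPolynomial.X (1 : Fin 5) ^ ((W4c2invhilbsl2.eE p q m c i).toNat - e) * MvPolynomial.X (2 : Fin 5) ^ e *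
              MvPolynomial.X (3 : Fin 5) ^ ((W4c2invhilbsl2.lL p q m c i).toNat - l) * MvPolynomial.X (4 : Fin 5) ^ l)) ∈
        Ideal.span {MvPolynomial.X (0 : Fin 5) ^ (q - p) - MvPolynomial.X 1 * MvPolynomial.X 4 + MvPolynomial.X 2 * MvPolynomial.X 3} := by
  obtain ⟨j, rfl⟩ : ∃ j, i = j + 1 := ⟨i - 1, by omega⟩
  have hjr : j < c.length := by omega
  have hc' := hc
  obtain ⟨hc1, hc2⟩ := hc'
  have hnpos := Groth.Agent.S15729.nN_pos p q m hpq hm c hc j hjr
  obtain ⟨hP0, hP1⟩ := H8HJ.hjP_mono c hc1 (j+1) (by omega)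
  obtain ⟨hW1, _⟩ := Groth.Agent.S15729.hjW_mono c hc1 (j+1) (by omega)
  have hl0 : 0 ≤ lL p q m c (j+1) := by
    unfold lL; push_cast
    have := mul_nonneg (Int.natCast_nonneg (alpha p q m)) hP0
    nlinarith
  have hel : eE p q m c (j+1) = lL p q m c (j+1) + (m:ℤ) * hjP c (j+1) := by
    unfold eE lL; push_cast; ring
  have he0 : 0 ≤ eE p q m c (j+1) := by
    rw [hel]; have := mul_nonneg (Int.natCast_nonneg m) hP0; linarith
  have hnel : nN p q m c (j+1) = -(p:ℤ) * eE p q m c (j+1) + (q:ℤ) * lL p q m c (j+1) := rfl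
  obtain ⟨n, hn⟩ : ∃ n : ℕ, (n:ℤ) = nN p q m c (j+1) := ⟨_, Int.toNat_of_nonneg hnpos.le⟩
  obtain ⟨e, he⟩ : ∃ e : ℕ, (e:ℤ) = eE p q m c (j+1) := ⟨_, Int.toNat_of_nonneg he0⟩
  obtain ⟨l, hl⟩ : ∃ l : ℕ, (l:ℤ) = lL p q m c (j+1) := ⟨_, Int.toNat_of_nonneg hl0⟩
  have hn' : (nN p q m c (j+1)).toNat = n := by rw [← hn]; exact Int.toNat_natCast n
  have he' : (eE p q m c (j+1)).toNat = e := by rw [← he]; exact Int.toNat_natCast e
  have hl' : (lL p q m c (j+1)).toNat = l := by rw [← hl]; exact Int.toNat_natCast l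
  rw [hn', he', hl']
  rw [MvPolynomial.mem_weightedHomogeneousSubmodule] at hf
  have hz : ((l:ℕ) : ZMod m) - ((e:ℕ) : ZMod m) = 0 := by
    have h1 : ((l:ℤ) - (e:ℤ)) = -((m:ℤ) * hjP c (j+1)) := by rw [he, hl, hel]; ring
    have h2 := congrArg (Int.cast : ℤ → ZMod m) h1
    push_cast at h2
    rw [h2]; simp
  have hbase : ∀ d ∈ f.support,
      Pr k p q m n e l (MvPolynomial.monomial d (MvPolynomial.coeff d f)) := by
    intro d hd
    have hcoef : MvPolynomial.coeff d f ≠ 0 := MvPolynomial.mem_support_iff.1 hd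
    have hwd := hf hcoef
    have hwd' := hwd
    rw [weight_wt5, Prod.mk.injEq] at hwd'
    obtain ⟨hw1, hw2⟩ := hwd'
    have hdvd : (m:ℤ) ∣ ((d 1 + d 2 : ℕ) : ℤ) - ((d 3 + d 4 : ℕ) : ℤ) := by
      rw [← ZMod.intCast_zmod_eq_zero_iff_dvd]
      rw [Int.cast_sub, Int.cast_natCast, Int.cast_natCast]
      linear_combination (-1 : ZMod m) * hw2
    obtain ⟨u, hu⟩ := hdvd
    rcases lt_or_ge (d 0 : ℤ) (nN p q m c (j+1)) with hlt | hge
    · obtain ⟨hE, hL⟩ := Groth.Agent.S15729.comb p q m hpq hm c hc j hjr (d 0) (d 1 + d 2)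
        (d 3 + d 4) u hw1 hu hlt
      have hE' : e ≤ d 1 + d 2 := by
        have : (e:ℤ) ≤ ((d 1 + d 2 : ℕ) : ℤ) := by rw [he]; exact hE
        exact_mod_cast this
      have hL' : l ≤ d 3 + d 4 := by
        have : (l:ℤ) ≤ ((d 3 + d 4 : ℕ) : ℤ) := by rw [hl]; exact hL
        exact_mod_cast this
      obtain ⟨e', he'def⟩ : ∃ e' : ℕ, e' = min (d 2) e := ⟨_, rfl⟩
      obtain ⟨l', hl'def⟩ : ∃ l' : ℕ, l' = min (d 4) l := ⟨_, rfl⟩
      have g1 : e' ≤ e := by rw [he'def]; exact min_le_right _ _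
      have g2 : e' ≤ d 2 := by rw [he'def]; exact min_le_left _ _
      have g3 : e - e' ≤ d 1 := by rw [he'def]; omega
      have g4 : l' ≤ l := by rw [hl'def]; exact min_le_right _ _
      have g5 : l' ≤ d 4 := by rw [hl'def]; exact min_le_left _ _
      have g6 : l - l' ≤ d 3 := by rw [hl'def]; omega
      have hs : Finsupp.single 1 (e - e') + Finsupp.single 2 e' + Finsupp.single 3 (l - l') +
          Finsupp.single 4 l' ≤ d := by
        rw [Finsupp.le_def]
        intro x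
        fin_cases x <;> simp [Finsupp.single_apply] <;> omega
      refine Pr_monoB d _ e' l' g1 g4 hs ?_
      have hadd : Finsupp.weight (wt5 p q m) (d - (Finsupp.single 1 (e - e') +
          Finsupp.single 2 e' + Finsupp.single 3 (l - l') + Finsupp.single 4 l')) +
          Finsupp.weight (wt5 p q m) (Finsupp.single 1 (e - e') +
          Finsupp.single 2 e' + Finsupp.single 3 (l - l') + Finsupp.single 4 l') =
          Finsupp.weight (wt5 p q m) d := by
        rw [← map_add, tsub_add_cancel_of_le hs]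
      have hws : Finsupp.weight (wt5 p q m) (Finsupp.single 1 (e - e') +
          Finsupp.single 2 e' + Finsupp.single 3 (l - l') + Finsupp.single 4 l') =
          (nN p q m c (j+1), 0) := by
        rw [weight_wt5]
        have s0 : (Finsupp.single 1 (e - e') + Finsupp.single 2 e' + Finsupp.single 3 (l - l') +
          Finsupp.single 4 l' : Fin 5 →₀ ℕ) 0 = 0 := by simp [Finsupp.single_apply]
        have s1 : (Finsupp.single 1 (e - e') + Finsupp.single 2 e' + Finsupp.single 3 (l - l') +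
          Finsupp.single 4 l' : Fin 5 →₀ ℕ) 1 = e - e' := by simp [Finsupp.single_apply]
        have s2 : (Finsupp.single 1 (e - e') + Finsupp.single 2 e' + Finsupp.single 3 (l - l') +
          Finsupp.single 4 l' : Fin 5 →₀ ℕ) 2 = e' := by simp [Finsupp.single_apply]
        have s3 : (Finsupp.single 1 (e - e') + Finsupp.single 2 e' + Finsupp.single 3 (l - l') +
          Finsupp.single 4 l' : Fin 5 →₀ ℕ) 3 = l - l' := by simp [Finsupp.single_apply]
        have s4 : (Finsupp.single 1 (e - e') + Finsupp.single 2 e' + Finsupp.single 3 (l - l') +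
          Finsupp.single 4 l' : Fin 5 →₀ ℕ) 4 = l' := by simp [Finsupp.single_apply]
        rw [s0, s1, s2, s3, s4, Nat.sub_add_cancel g1, Nat.sub_add_cancel g4]
        refine Prod.ext ?_ ?_
        · show ((0:ℕ):ℤ) - (p:ℤ) * (e:ℤ) + (q:ℤ) * (l:ℤ) = nN p q m c (j+1)
          rw [hnel, he, hl]; push_cast; ring
        · exact hz
      have := eq_sub_of_add_eq hadd
      rw [this, hwd, hws, sub_self]
    · have hN' : n ≤ d 0 := by
        have : (n:ℤ) ≤ d 0 := by rw [hn]; exact hge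
        exact_mod_cast this
      refine Pr_monoA d _ hN' ?_
      have hs : Finsupp.single 0 n ≤ d := Finsupp.single_le_iff.2 hN'
      have hadd : Finsupp.weight (wt5 p q m) (d - Finsupp.single 0 n) +
          Finsupp.weight (wt5 p q m) (Finsupp.single 0 n) = Finsupp.weight (wt5 p q m) d := by
        rw [← map_add, tsub_add_cancel_of_le hs]
      have hws : Finsupp.weight (wt5 p q m) (Finsupp.single 0 n) = (nN p q m c (j+1), 0) := by
        rw [weight_wt5]
        have s0 : (Finsupp.single 0 n : Fin 5 →₀ ℕ) 0 = n := by simp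
        have s1 : (Finsupp.single 0 n : Fin 5 →₀ ℕ) 1 = 0 := by simp [Finsupp.single_apply]
        have s2 : (Finsupp.single 0 n : Fin 5 →₀ ℕ) 2 = 0 := by simp [Finsupp.single_apply]
        have s3 : (Finsupp.single 0 n : Fin 5 →₀ ℕ) 3 = 0 := by simp [Finsupp.single_apply]
        have s4 : (Finsupp.single 0 n : Fin 5 →₀ ℕ) 4 = 0 := by simp [Finsupp.single_apply]
        rw [s0, s1, s2, s3, s4]
        refine Prod.ext ?_ ?_
        · show (n:ℤ) - (p:ℤ) * ((0 + 0 : ℕ) : ℤ) + (q:ℤ) * ((0 + 0 : ℕ) : ℤ) = nN p q m c (j+1)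
          rw [hn]; push_cast; ring
        · show (((0 + 0 : ℕ)) : ZMod m) - (((0 + 0 : ℕ)) : ZMod m) = 0
          simp
      have := eq_sub_of_add_eq hadd
      rw [this, hwd, hws, sub_self]
  have H : Pr k p q m n e l (∑ d ∈ f.support,
      MvPolynomial.monomial d (MvPolynomial.coeff d f)) :=
    Finset.sum_induction (fun d => MvPolynomial.monomial d (MvPolynomial.coeff d f))
      (Pr k p q m n e l) (fun _ _ h1 h2 => Pr_add h1 h2) Pr_zero hbase
  rw [MvPolynomial.support_sum_monomial_coeff] at H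
  exact H

end Groth.Agent.S15732
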