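import Groth.Statements.S15733
import Mathlib
import Groth.Agent.Lib.helper8.HJLib

set_option autoImplicit false
open W4c2invhilbsl2

namespace Groth.Agent.S15733

/-- Let 0 < p < q be coprime integers and m ≥ 1 such that q − p does not divide m; put g = gcd(m, q−p),
b = (q−p)/g, α = ⌊mp/(q−p)⌋, β = the remainder of mp modulo q−p and t = (q−p−β)/g, so that 1 ≤ t <
b, and let b/t = c₁ − 1/(c₂ − 1/(⋯ − 1/c_r)) be the negative-regular (Hirzebruch–Jung) continued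
fraction expansion with every cᵢ ≥ 2; set P₀ = 0, P₁ = 1, Q₀ = −1, Q₁ = 0, Pᵢ = cᵢ₋₁Pᵢ₋₁ − Pᵢ₋₂, Qᵢ
= cᵢ₋₁Qᵢ₋₁ − Qᵢ₋₂ for 2 ≤ i ≤ r+1, and eᵢ = (α+1+m)Pᵢ − Qᵢ, lᵢ = (α+1)Pᵢ − Qᵢ, nᵢ = q·lᵢ − p·eᵢ,
which are non-negative integers for 0 ≤ i ≤ r+1. Then for every 1 < i ≤ r and every integer x with 0
< x < Pᵢ, the remainder of pmx + nᵢ on division by q − p equals nᵢ plus the remainder of pmx on
division by q − p (in particular nᵢ + (pmx mod (q−p)) < q − p). -/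
theorem result (p q m : ℕ) (hp : 0 < p) (hpq : p < q) (hcop : Nat.Coprime p q) (hm : 0 < m) (hnt : ¬ (q - p ∣ m)) (c : List ℤ) (hc : W4c2invhilbsl2.IsHJDigits p q m c) (i : ℕ) (hi : 1 < i) (hir : i ≤ c.length)
    (x : ℤ) (hx0 : 0 < x) (hx : x < W4c2invhilbsl2.hjP c i) :
    Int.emod ((p : ℤ) * m * x + W4c2invhilbsl2.nN p q m c i) ((q : ℤ) - p) = W4c2invhilbsl2.nN p q m c i + Int.emod ((p : ℤ) * m * x) ((q : ℤ) - p) := by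
  obtain ⟨hc1, hc2⟩ := hc
  obtain ⟨k, rfl⟩ : ∃ k, i = k + 2 := ⟨i - 2, by omega⟩
  have hDpos : 0 < q - p := Nat.sub_pos_of_lt hpq
  obtain ⟨β, hβ⟩ : ∃ β : ℕ, β = m * p % (q - p) := ⟨_, rfl⟩
  have hβlt : β < q - p := by rw [hβ]; exact Nat.mod_lt _ hDpos
  obtain ⟨g, hg⟩ : ∃ g : ℕ, g = Nat.gcd m (q - p) := ⟨_, rfl⟩
  have hgpos : 0 < g := by rw [hg]; exact Nat.gcd_pos_of_pos_left _ hm
  have hgD : g ∣ q - p := by rw [hg]; exact Nat.gcd_dvd_right _ _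
  have hgβ : g ∣ β := by
    rw [hg, hβ]
    exact (Nat.dvd_mod_iff (Nat.gcd_dvd_right _ _)).2
      (Dvd.dvd.mul_right (Nat.gcd_dvd_left _ _) _)
  have hgDβ : g ∣ q - p - β := Nat.dvd_sub hgD hgβ
  have hgq : (g:ℚ) ≠ 0 := by exact_mod_cast hgpos.ne'
  have hd : (0:ℤ) < (q:ℤ) - p := by
    have : (p:ℤ) < q := by exact_mod_cast hpq
    linarith
  have hval : HJFrac.hjVal c = ((((q:ℤ) - p : ℤ)) : ℚ) / ((((q:ℤ) - p - β : ℤ)) : ℚ) := by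
    have hb : ((bB p q m : ℕ) : ℚ) = ((q:ℚ) - p)/(g:ℚ) := by
      unfold bB gcdK; rw [← hg, Nat.cast_div hgD hgq, Nat.cast_sub hpq.le]
    have ht : ((tT p q m : ℕ) : ℚ) = ((q:ℚ) - p - β)/(g:ℚ) := by
      unfold tT gcdK
      rw [← hg, ← hβ, Nat.cast_div hgDβ hgq, Nat.cast_sub hβlt.le, Nat.cast_sub hpq.le]
    rw [hc2, hb, ht, div_div_div_cancel_right₀ hgq]
    simp only [Int.cast_sub, Int.cast_natCast]
  obtain ⟨a, ha⟩ : ∃ a : ℕ, a = alpha p q m := ⟨_, rfl⟩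
  have h2 : ((q:ℤ) - p) * a + β = (m:ℤ) * p := by
    have h := Nat.div_add_mod (m * p) (q - p)
    have ha' : a = m * p / (q - p) := ha
    rw [← ha', ← hβ] at h
    have h' : (((q - p : ℕ) : ℤ)) * (a:ℤ) + (β:ℤ) = (m:ℤ) * (p:ℤ) := by exact_mod_cast h
    rwa [Nat.cast_sub hpq.le] at h'
  have hn : ∀ j, nN p q m c j = ((q:ℤ) - p - β) * hjP c j - ((q:ℤ) - p) * hjQ c j := by
    intro j
    unfold nN eE lL
    rw [← ha]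
    push_cast
    linear_combination (hjP c j) * h2
  have hdec : 0 < ((q:ℤ) - p - β) * hjP c (k+2) - ((q:ℤ) - p) * hjQ c (k+2) ∧
      ((q:ℤ) - p - β) * hjP c (k+2) - ((q:ℤ) - p) * hjQ c (k+2) <
        ((q:ℤ) - p - β) * hjP c (k+1) - ((q:ℤ) - p) * hjQ c (k+1) :=
    H8HJ.N_dec c hc1 ((q:ℤ) - p) ((q:ℤ) - p - β) hd hval (k+1) (by omega)
  have hdet : hjP c (k+1) * hjQ c (k+2) - hjP c (k+2) * hjQ c (k+1) = 1 := H8HJ.hj_det c (k+1)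
  obtain ⟨hPk0, hPk1⟩ := H8HJ.hjP_mono c hc1 k (by omega)
  have hPk2 : hjP c (k+1) + 1 ≤ hjP c (k+2) := (H8HJ.hjP_mono c hc1 (k+1) (by omega)).2
  obtain ⟨Nn, hNn⟩ : ∃ Nn : ℤ, Nn = ((q:ℤ) - p - β) * hjP c (k+2) - ((q:ℤ) - p) * hjQ c (k+2) :=
    ⟨_, rfl⟩
  rw [← hNn] at hdec
  obtain ⟨hNpos, hNlt⟩ := hdec
  rw [hn (k+2), ← hNn]
  change ((p:ℤ) * m * x + Nn) % ((q:ℤ) - p) = Nn + ((p:ℤ) * m * x) % ((q:ℤ) - p)
  obtain ⟨R, hR⟩ : ∃ R : ℤ, R = ((p:ℤ) * m * x) % ((q:ℤ) - p) := ⟨_, rfl⟩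
  obtain ⟨Y, hYdef⟩ : ∃ Y : ℤ, Y = ((p:ℤ) * m * x) / ((q:ℤ) - p) := ⟨_, rfl⟩
  have hR0 : 0 ≤ R := by rw [hR]; exact Int.emod_nonneg _ hd.ne'
  have hRd : R < (q:ℤ) - p := by rw [hR]; exact Int.emod_lt_of_pos _ hd
  have hY : (p:ℤ) * m * x = R + ((q:ℤ) - p) * Y := by rw [hR, hYdef, Int.emod_def]; ring
  rw [← hR]
  have hkey : Nn + R < (q:ℤ) - p := by
    by_contra hcon
    push Not at hcon
    obtain ⟨y, hy⟩ : ∃ y : ℤ, y = x + a * x - 1 - Y := ⟨_, rfl⟩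
    have hlam : ((q:ℤ) - p - β) * x - ((q:ℤ) - p) * y = ((q:ℤ) - p) - R := by
      rw [hy]; linear_combination (-x) * h2 - hY
    have := H8HJ.lattice_key (hjP c (k+1)) (hjP c (k+2)) (hjQ c (k+1)) (hjQ c (k+2)) _ Nn
      ((q:ℤ) - p) ((q:ℤ) - p - β) x y hdet rfl hNn (by linarith) (by linarith) hNpos hNlt hx0 hx
      (by rw [hlam]; linarith)
    rw [hlam] at this
    linarith
  have e1 : (p:ℤ) * m * x + Nn = (Nn + R) + ((q:ℤ) - p) * Y := by linarith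
  rw [e1, Int.add_mul_emod_self_left, Int.emod_eq_of_lt (by linarith) hkey]

end Groth.Agent.S15733
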