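import Groth.Statements.S15734
import Mathlib
import Groth.Agent.Lib.helper8.HJLib

set_option autoImplicit false
open W4c2invhilbsl2

namespace Groth.Agent.S15734

/-- Let 0 < p < q be coprime integers and m ≥ 1 such that q − p does not divide m; put g = gcd(m, q−p),
b = (q−p)/g, α = ⌊mp/(q−p)⌋, β = the remainder of mp modulo q−p and t = (q−p−β)/g, so that 1 ≤ t <
b, and let b/t = c₁ − 1/(c₂ − 1/(⋯ − 1/c_r)) be the negative-regular (Hirzebruch–Jung) continued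
fraction expansion with every cᵢ ≥ 2; set P₀ = 0, P₁ = 1, Q₀ = −1, Q₁ = 0, Pᵢ = cᵢ₋₁Pᵢ₋₁ − Pᵢ₋₂, Qᵢ
= cᵢ₋₁Qᵢ₋₁ − Qᵢ₋₂ for 2 ≤ i ≤ r+1, and eᵢ = (α+1+m)Pᵢ − Qᵢ, lᵢ = (α+1)Pᵢ − Qᵢ, nᵢ = q·lᵢ − p·eᵢ,
which are non-negative integers for 0 ≤ i ≤ r+1; moreover g divides every nᵢ, and write tᵢ = nᵢ/g
(so t₁ = t). Then (a) for every 1 ≤ i ≤ r the remainder of t·Pᵢ on division by b equals tᵢ, and (b)
for every 1 < i ≤ r and every integer x with 0 < x < Pᵢ the remainder ρ of t·x on division by b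
satisfies tᵢ₋₁ ≤ ρ ≤ b + tᵢ − tᵢ₋₁. -/
theorem result (p q m : ℕ) (hp : 0 < p) (hpq : p < q) (hcop : Nat.Coprime p q) (hm : 0 < m) (hnt : ¬ (q - p ∣ m)) (c : List ℤ) (hc : W4c2invhilbsl2.IsHJDigits p q m c) :
    (∀ i : ℕ, 1 ≤ i → i ≤ c.length →
      Int.emod ((W4c2invhilbsl2.tT p q m : ℤ) * W4c2invhilbsl2.hjP c i) (W4c2invhilbsl2.bB p q m : ℤ) = W4c2invhilbsl2.nN p q m c i / (W4c2invhilbsl2.gcdK p q m : ℤ)) ∧
    (∀ i : ℕ, 1 < i → i ≤ c.length → ∀ x : ℤ, 0 < x → x < W4c2invhilbsl2.hjP c i →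
      W4c2invhilbsl2.nN p q m c (i - 1) / (W4c2invhilbsl2.gcdK p q m : ℤ) ≤ Int.emod ((W4c2invhilbsl2.tT p q m : ℤ) * x) (W4c2invhilbsl2.bB p q m : ℤ) ∧
      Int.emod ((W4c2invhilbsl2.tT p q m : ℤ) * x) (W4c2invhilbsl2.bB p q m : ℤ) ≤
        (W4c2invhilbsl2.bB p q m : ℤ) + W4c2invhilbsl2.nN p q m c i / (W4c2invhilbsl2.gcdK p q m : ℤ) - W4c2invhilbsl2.nN p q m c (i - 1) / (W4c2invhilbsl2.gcdK p q m : ℤ)) := by
  obtain ⟨hc1, hc2⟩ := hc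
  have hDpos : 0 < q - p := Nat.sub_pos_of_lt hpq
  obtain ⟨β, hβ⟩ : ∃ β : ℕ, β = m * p % (q - p) := ⟨_, rfl⟩
  have hβlt : β < q - p := by rw [hβ]; exact Nat.mod_lt _ hDpos
  obtain ⟨g, hg⟩ : ∃ g : ℕ, g = gcdK p q m := ⟨_, rfl⟩
  have hg' : g = Nat.gcd m (q - p) := hg
  have hgpos : 0 < g := by rw [hg']; exact Nat.gcd_pos_of_pos_left _ hm
  have hgD : g ∣ q - p := by rw [hg']; exact Nat.gcd_dvd_right _ _
  have hgβ : g ∣ β := by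
    rw [hg', hβ]
    exact (Nat.dvd_mod_iff (Nat.gcd_dvd_right _ _)).2
      (Dvd.dvd.mul_right (Nat.gcd_dvd_left _ _) _)
  have hgDβ : g ∣ q - p - β := Nat.dvd_sub hgD hgβ
  obtain ⟨b, hb⟩ : ∃ b : ℕ, b = bB p q m := ⟨_, rfl⟩
  obtain ⟨t, ht⟩ : ∃ t : ℕ, t = tT p q m := ⟨_, rfl⟩
  have hgb : g * b = q - p := by
    rw [hb]; unfold bB; rw [← hg]; exact Nat.mul_div_cancel' hgD
  have hgt : g * t = q - p - β := by
    rw [ht]; unfold tT; rw [← hg, ← hβ]; exact Nat.mul_div_cancel' hgDβ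
  have hgbZ : (g:ℤ) * (b:ℤ) = (q:ℤ) - p := by
    have h : (g:ℤ) * (b:ℤ) = ((q - p : ℕ) : ℤ) := by exact_mod_cast hgb
    rwa [Nat.cast_sub hpq.le] at h
  have hgtZ : (g:ℤ) * (t:ℤ) = (q:ℤ) - p - β := by
    have h : (g:ℤ) * (t:ℤ) = ((q - p - β : ℕ) : ℤ) := by exact_mod_cast hgt
    rwa [Nat.cast_sub hβlt.le, Nat.cast_sub hpq.le] at h
  have hbpos : 0 < b := by
    rcases Nat.eq_zero_or_pos b with h | h
    · rw [h, Nat.mul_zero] at hgb; omega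
    · exact h
  have hb0 : (0:ℤ) < (b:ℤ) := by exact_mod_cast hbpos
  have hgne : (g:ℤ) ≠ 0 := by exact_mod_cast hgpos.ne'
  obtain ⟨a, ha⟩ : ∃ a : ℕ, a = alpha p q m := ⟨_, rfl⟩
  have h2 : ((q:ℤ) - p) * a + β = (m:ℤ) * p := by
    have h := Nat.div_add_mod (m * p) (q - p)
    have ha' : a = m * p / (q - p) := ha
    rw [← ha', ← hβ] at h
    have h' : (((q - p : ℕ) : ℤ)) * (a:ℤ) + (β:ℤ) = (m:ℤ) * (p:ℤ) := by exact_mod_cast h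
    rwa [Nat.cast_sub hpq.le] at h'
  have hn : ∀ j, nN p q m c j = ((q:ℤ) - p - β) * hjP c j - ((q:ℤ) - p) * hjQ c j := by
    intro j
    unfold nN eE lL
    rw [← ha]
    push_cast
    linear_combination (hjP c j) * h2
  obtain ⟨ν, hν⟩ : ∃ ν : ℕ → ℤ, ∀ j, ν j = (t:ℤ) * hjP c j - (b:ℤ) * hjQ c j :=
    ⟨fun j => _, fun j => rfl⟩
  have hnu : ∀ j, nN p q m c j / (g:ℤ) = ν j := by
    intro j
    have : nN p q m c j = (g:ℤ) * ν j := by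
      rw [hn, hν]; linear_combination (-(hjP c j)) * hgtZ + (hjQ c j) * hgbZ
    rw [this, Int.mul_ediv_cancel_left _ hgne]
  have hval' : HJFrac.hjVal c = (((b:ℕ):ℤ):ℚ)/(((t:ℕ):ℤ):ℚ) := by
    rw [hc2, ← hb, ← ht]; simp only [Int.cast_natCast]
  have hdec : ∀ j, j < c.length → 0 < ν (j+1) ∧ ν (j+1) < ν j := by
    intro j hj
    rw [hν, hν]
    exact H8HJ.N_dec c hc1 b t hb0 hval' j hj
  have hν0 : ν 0 = b := by rw [hν, H8HJ.hjP_zero, H8HJ.hjQ_zero]; ring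
  have hle : ∀ j, j ≤ c.length → ν j ≤ b := by
    intro j
    induction j with
    | zero => intro _; rw [hν0]
    | succ j ih =>
      intro hj
      have h1 := (hdec j (by omega)).2
      have h2 := ih (by omega)
      linarith
  rw [← hg, ← hb, ← ht]
  refine ⟨?_, ?_⟩
  · intro i hi1 hir
    rw [hnu]
    obtain ⟨j, rfl⟩ : ∃ j, i = j + 1 := ⟨i - 1, by omega⟩
    obtain ⟨hp1, hp2⟩ := hdec j (by omega)
    have hlej := hle j (by omega)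
    change ((t:ℤ) * hjP c (j+1)) % (b:ℤ) = ν (j+1)
    have e : (t:ℤ) * hjP c (j+1) = ν (j+1) + (b:ℤ) * hjQ c (j+1) := by rw [hν]; ring
    rw [e, Int.add_mul_emod_self_left, Int.emod_eq_of_lt hp1.le (by linarith)]
  · intro i hi1 hir x hx0 hx
    obtain ⟨k, rfl⟩ : ∃ k, i = k + 2 := ⟨i - 2, by omega⟩
    rw [hnu, hnu]
    change ν (k+1) ≤ ((t:ℤ) * x) % (b:ℤ) ∧ ((t:ℤ) * x) % (b:ℤ) ≤ (b:ℤ) + ν (k+2) - ν (k+1)
    have hd2 : 0 < ν (k+2) ∧ ν (k+2) < ν (k+1) := hdec (k+1) (by omega)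
    have hdet : hjP c (k+1) * hjQ c (k+2) - hjP c (k+2) * hjQ c (k+1) = 1 := H8HJ.hj_det c (k+1)
    obtain ⟨hPk0, hPk1⟩ := H8HJ.hjP_mono c hc1 k (by omega)
    have hPk2 : hjP c (k+1) + 1 ≤ hjP c (k+2) := (H8HJ.hjP_mono c hc1 (k+1) (by omega)).2
    have lower : ∀ z : ℤ, 0 < z → z < hjP c (k+2) → ν (k+1) ≤ ((t:ℤ) * z) % (b:ℤ) := by
      intro z hz0 hz
      have h1 : ((t:ℤ) * z) % (b:ℤ) = (t:ℤ) * z - (b:ℤ) * (((t:ℤ) * z) / (b:ℤ)) :=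
        Int.emod_def _ _
      have h0 : 0 ≤ ((t:ℤ) * z) % (b:ℤ) := Int.emod_nonneg _ hb0.ne'
      rw [h1] at h0 ⊢
      exact H8HJ.lattice_key (hjP c (k+1)) (hjP c (k+2)) (hjQ c (k+1)) (hjQ c (k+2))
        (ν (k+1)) (ν (k+2)) b t z _ hdet (hν (k+1)) (hν (k+2)) (by linarith) (by linarith)
        hd2.1 hd2.2 hz0 hz h0
    have hρ := lower x hx0 hx
    have hρ' := lower (hjP c (k+2) - x) (by linarith) (by linarith)
    refine ⟨hρ, ?_⟩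
    obtain ⟨ρ, hρdef⟩ : ∃ ρ : ℤ, ρ = ((t:ℤ) * x) % (b:ℤ) := ⟨_, rfl⟩
    obtain ⟨ρ', hρ'def⟩ : ∃ ρ' : ℤ, ρ' = ((t:ℤ) * (hjP c (k+2) - x)) % (b:ℤ) := ⟨_, rfl⟩
    obtain ⟨Y, hY⟩ : ∃ Y : ℤ, Y = ((t:ℤ) * x) / (b:ℤ) := ⟨_, rfl⟩
    obtain ⟨Y', hY'⟩ : ∃ Y' : ℤ, Y' = ((t:ℤ) * (hjP c (k+2) - x)) / (b:ℤ) := ⟨_, rfl⟩
    have e1 : ρ = (t:ℤ) * x - (b:ℤ) * Y := by rw [hρdef, hY]; exact Int.emod_def _ _
    have e2 : ρ' = (t:ℤ) * (hjP c (k+2) - x) - (b:ℤ) * Y' := by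
      rw [hρ'def, hY']; exact Int.emod_def _ _
    have hρb : ρ < b := by rw [hρdef]; exact Int.emod_lt_of_pos _ hb0
    have hρ'b : ρ' < b := by rw [hρ'def]; exact Int.emod_lt_of_pos _ hb0
    rw [← hρdef] at hρ ⊢
    rw [← hρ'def] at hρ'
    obtain ⟨z, hz⟩ : ∃ z : ℤ, z = hjQ c (k+2) - Y - Y' := ⟨_, rfl⟩
    have hsum : ρ + ρ' = ν (k+2) + (b:ℤ) * z := by rw [e1, e2, hν (k+2), hz]; ring
    have hz1 : z ≤ 1 := by
      by_contra h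
      push Not at h
      have := mul_le_mul_of_nonneg_left (by linarith : (2:ℤ) ≤ z) hb0.le
      linarith [hd2.1]
    have := mul_le_mul_of_nonneg_left hz1 hb0.le
    linarith

end Groth.Agent.S15734
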