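import Groth.Statements.S15735
import Mathlib

set_option autoImplicit false
open W4c2invhilbsl2

namespace Groth.Agent.S15735

theorem hjVal_gt_one : ∀ l : List ℤ, l ≠ [] → (∀ x ∈ l, (2:ℤ) ≤ x) → (1 : ℚ) < HJFrac.hjVal l
  | [], h, _ => absurd rfl h
  | b :: l', _, hl => by
    have hb : (2:ℚ) ≤ b := by exact_mod_cast hl b (List.mem_cons_self ..)
    have hinv : (HJFrac.hjVal l')⁻¹ < 1 := by
      by_cases h' : l' = []
      · subst h'
        simp [HJFrac.hjVal]
      · have h1 := hjVal_gt_one l' h' (fun x hx => hl x (List.mem_cons_of_mem _ hx))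
        exact inv_lt_one_of_one_lt₀ h1
    change 1 < (b:ℚ) - (HJFrac.hjVal l')⁻¹
    linarith

/-- Let 0 < p < q be coprime integers and m ≥ 1 such that q − p does not divide m; put g = gcd(m, q−p),
b = (q−p)/g, α = ⌊mp/(q−p)⌋, β = the remainder of mp modulo q−p and t = (q−p−β)/g, so that 1 ≤ t <
b, and let b/t = c₁ − 1/(c₂ − 1/(⋯ − 1/c_r)) be the negative-regular (Hirzebruch–Jung) continued
fraction expansion with every cᵢ ≥ 2; set P₀ = 0, P₁ = 1, Q₀ = −1, Q₁ = 0, Pᵢ = cᵢ₋₁Pᵢ₋₁ − Pᵢ₋₂, Qᵢ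
= cᵢ₋₁Qᵢ₋₁ − Qᵢ₋₂ for 2 ≤ i ≤ r+1, and eᵢ = (α+1+m)Pᵢ − Qᵢ, lᵢ = (α+1)Pᵢ − Qᵢ, nᵢ = q·lᵢ − p·eᵢ.
Then: (i) nᵢ = g·(t·Pᵢ − b·Qᵢ) for all 0 ≤ i ≤ r+1; (ii) nᵢ = cᵢ₋₁·nᵢ₋₁ − nᵢ₋₂ for all 2 ≤ i ≤ r+1;
(iii) nᵢ > nᵢ₊₁ for all 0 ≤ i ≤ r; (iv) n₀ = q − p, n_r = g and n_{r+1} = 0. (The published
statement also covers the case where q − p divides m, where r = 0; there the displayed formulas give
n₁ = n₀ = q − p (for p = 1, q = 3, m = 2, n₁ = 2), so (iii) and (iv) fail, and this row assumes that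
q − p does not divide m.) -/
theorem result (p q m : ℕ) (hp : 0 < p) (hpq : p < q) (hcop : Nat.Coprime p q) (hm : 0 < m) (hnt : ¬ (q - p ∣ m)) (c : List ℤ) (hc : W4c2invhilbsl2.IsHJDigits p q m c) :
    (∀ i : ℕ, i ≤ c.length + 1 →
      W4c2invhilbsl2.nN p q m c i = (W4c2invhilbsl2.gcdK p q m : ℤ) * ((W4c2invhilbsl2.tT p q m : ℤ) * W4c2invhilbsl2.hjP c i - (W4c2invhilbsl2.bB p q m : ℤ) * W4c2invhilbsl2.hjQ c i)) ∧
    (∀ i : ℕ, 2 ≤ i → i ≤ c.length + 1 →
      W4c2invhilbsl2.nN p q m c i = c.getD (i - 2) 0 * W4c2invhilbsl2.nN p q m c (i - 1) - W4c2invhilbsl2.nN p q m c (i - 2)) ∧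
    (∀ i : ℕ, i ≤ c.length → W4c2invhilbsl2.nN p q m c (i + 1) < W4c2invhilbsl2.nN p q m c i) ∧
    W4c2invhilbsl2.nN p q m c 0 = (q : ℤ) - p ∧ W4c2invhilbsl2.nN p q m c c.length = W4c2invhilbsl2.gcdK p q m ∧ W4c2invhilbsl2.nN p q m c (c.length + 1) = 0 := by
  have hDpos : 0 < q - p := by omega
  have hgpos : 0 < gcdK p q m := Nat.gcd_pos_of_pos_left _ hm
  have hgD : gcdK p q m ∣ q - p := Nat.gcd_dvd_right _ _
  have hgm : gcdK p q m ∣ m := Nat.gcd_dvd_left _ _
  have hβlt : m * p % (q - p) < q - p := Nat.mod_lt _ hDpos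
  have hgβ : gcdK p q m ∣ m * p % (q - p) := (Nat.dvd_mod_iff hgD).mpr (Dvd.dvd.mul_right hgm p)
  have hgDβ : gcdK p q m ∣ q - p - m * p % (q - p) := Nat.dvd_sub hgD hgβ
  have hgb : gcdK p q m * bB p q m = q - p := Nat.mul_div_cancel' hgD
  have hgt : gcdK p q m * tT p q m = q - p - m * p % (q - p) := Nat.mul_div_cancel' hgDβ
  have hdivmod : (q - p) * alpha p q m + m * p % (q - p) = m * p := Nat.div_add_mod (m * p) (q - p)
  have hcastD : ((q - p : ℕ) : ℤ) = (q:ℤ) - p := Nat.cast_sub hpq.le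
  obtain ⟨βz, hβz⟩ : ∃ z : ℤ, z = ((m * p % (q - p) : ℕ) : ℤ) := ⟨_, rfl⟩
  have hdiv : (m:ℤ) * p = ((q:ℤ) - p) * (alpha p q m : ℤ) + βz := by
    rw [← hcastD, hβz]; exact_mod_cast hdivmod.symm
  have hgt' : (gcdK p q m : ℤ) * (tT p q m : ℤ) = ((q:ℤ) - p) - βz := by
    rw [← hcastD, hβz, ← Nat.cast_sub hβlt.le]; exact_mod_cast hgt
  have hgb' : (gcdK p q m : ℤ) * (bB p q m : ℤ) = (q:ℤ) - p := by
    rw [← hcastD]; exact_mod_cast hgb
  have hi : ∀ i : ℕ, nN p q m c i =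
      (gcdK p q m : ℤ) * ((tT p q m : ℤ) * hjP c i - (bB p q m : ℤ) * hjQ c i) := by
    intro i
    simp only [nN, eE, lL]
    push_cast
    linear_combination (-(hjP c i)) * hdiv - (hjP c i) * hgt' + (hjQ c i) * hgb'
  obtain ⟨ν, hν⟩ : ∃ ν : ℕ → ℤ,
      ν = fun i => (tT p q m : ℤ) * hjP c i - (bB p q m : ℤ) * hjQ c i := ⟨_, rfl⟩
  have hν0 : ν 0 = bB p q m := by rw [hν]; simp [hjP, hjQ]
  have hν1 : ν 1 = tT p q m := by rw [hν]; simp [hjP, hjQ]
  have hPrec : ∀ j, hjP c (j+1+1) = c.getD j 0 * hjP c (j+1) - hjP c j := fun j => rfl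
  have hQrec : ∀ j, hjQ c (j+1+1) = c.getD j 0 * hjQ c (j+1) - hjQ c j := fun j => rfl
  have hνrec : ∀ j, ν (j+1+1) = c.getD j 0 * ν (j+1) - ν j := by
    intro j; rw [hν]; simp only [hPrec, hQrec]; ring
  have hnν : ∀ i, nN p q m c i = gcdK p q m * ν i := by intro i; rw [hi i, hν]
  have hxrec : ∀ j, j < c.length → HJFrac.hjVal (c.drop j) =
      (c.getD j 0 : ℚ) - (HJFrac.hjVal (c.drop (j+1)))⁻¹ := by
    intro j hj
    rw [List.drop_eq_getElem_cons hj, List.getD_eq_getElem _ _ hj]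
    rfl
  have hxgt : ∀ j, j < c.length → 1 < HJFrac.hjVal (c.drop j) := by
    intro j hj
    apply hjVal_gt_one
    · intro h; rw [List.drop_eq_nil_iff] at h; omega
    · intro x hx; exact hc.1 x (List.mem_of_mem_drop hx)
  have hxr : HJFrac.hjVal (c.drop c.length) = 0 := by rw [List.drop_length]; rfl
  have hbpos : 0 < bB p q m := Nat.div_pos (Nat.le_of_dvd hDpos hgD) hgpos
  have hb0 : (bB p q m : ℚ) ≠ 0 := by exact_mod_cast hbpos.ne'
  have hC : ∀ j, j ≤ c.length →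
      ((ν (j+1) : ℤ) : ℚ) = (ν j : ℚ) * (HJFrac.hjVal (c.drop j))⁻¹ ∧ 0 < ν j := by
    intro j
    induction j with
    | zero =>
      intro _
      refine ⟨?_, ?_⟩
      · have h01 : ν (0+1) = tT p q m := hν1
        rw [h01, hν0, List.drop_zero, hc.2, inv_div]
        push_cast
        field_simp
      · rw [hν0]; exact_mod_cast hbpos
    | succ j ih =>
      intro hj
      obtain ⟨ih1, ih2⟩ := ih (by omega)
      have hjlt : j < c.length := by omega
      have hx1 := hxgt j hjlt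
      have hxne : HJFrac.hjVal (c.drop j) ≠ 0 := (zero_lt_one.trans hx1).ne'
      have hνj : (ν j : ℚ) = ν (j+1) * HJFrac.hjVal (c.drop j) := by rw [ih1]; field_simp
      have hpos : 0 < ν (j+1) := by
        have h5 : (0:ℚ) < ν (j+1) := by
          rw [ih1]
          apply mul_pos
          · exact_mod_cast ih2
          · exact inv_pos.mpr (zero_lt_one.trans hx1)
        exact_mod_cast h5
      refine ⟨?_, hpos⟩
      rw [hνrec j]
      push_cast
      rw [hνj, hxrec j hjlt]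
      ring
  have hgposZ : (0:ℤ) < gcdK p q m := by exact_mod_cast hgpos
  have hdecr : ∀ i, i ≤ c.length → ν (i+1) < ν i := by
    intro i hi'
    obtain ⟨h1, h2⟩ := hC i hi'
    have h5 : ((ν (i+1) : ℤ) : ℚ) < ν i := by
      rw [h1]
      have hpos : (0:ℚ) < ν i := by exact_mod_cast h2
      rcases Nat.lt_or_ge i c.length with hlt | hge
      · have hx1 := hxgt i hlt
        have hinv : (HJFrac.hjVal (c.drop i))⁻¹ < 1 := inv_lt_one_of_one_lt₀ hx1
        exact mul_lt_of_lt_one_right hpos hinv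
      · obtain rfl : i = c.length := by omega
        rw [hxr, inv_zero, mul_zero]; exact hpos
    exact_mod_cast h5
  have hνlast : ν (c.length + 1) = 0 := by
    obtain ⟨h1, -⟩ := hC c.length le_rfl
    rw [hxr, inv_zero, mul_zero] at h1
    exact_mod_cast h1
  have hdvd : ∀ k, k ≤ c.length →
      ν c.length ∣ ν (c.length - k) ∧ ν c.length ∣ ν (c.length - k + 1) := by
    intro k
    induction k with
    | zero =>
      intro _
      exact ⟨dvd_refl _, by rw [Nat.sub_zero, hνlast]; exact dvd_zero _⟩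
    | succ k ih =>
      intro hk
      obtain ⟨ih1, ih2⟩ := ih (by omega)
      have e1 : c.length - k = (c.length - (k+1)) + 1 := by omega
      have e2 : c.length - k + 1 = (c.length - (k+1)) + 1 + 1 := by omega
      rw [e1] at ih1
      rw [e2] at ih2
      refine ⟨?_, ih1⟩
      have h := hνrec (c.length - (k+1))
      have h' : ν (c.length - (k+1)) = c.getD (c.length - (k+1)) 0 * ν (c.length - (k+1) + 1) -
          ν (c.length - (k+1) + 1 + 1) := by rw [h]; ring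
      rw [h']
      exact dvd_sub (Dvd.dvd.mul_left ih1 _) ih2
  have hgcd : Nat.gcd (q - p) (q - p - m * p % (q - p)) = gcdK p q m := by
    apply Nat.dvd_antisymm
    · change _ ∣ Nat.gcd m (q - p)
      apply Nat.dvd_gcd
      · obtain ⟨d, hd⟩ : ∃ d, d = Nat.gcd (q - p) (q - p - m * p % (q - p)) := ⟨_, rfl⟩
        rw [← hd]
        have hdD : d ∣ q - p := by rw [hd]; exact Nat.gcd_dvd_left _ _
        have hdDβ : d ∣ q - p - m * p % (q - p) := by rw [hd]; exact Nat.gcd_dvd_right _ _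
        have hdβ : d ∣ m * p % (q - p) := by
          have h6 := Nat.dvd_sub hdD hdDβ
          rwa [Nat.sub_sub_self hβlt.le] at h6
        have hdmp : d ∣ m * p := by
          have h7 : d ∣ (q - p) * alpha p q m + m * p % (q - p) :=
            dvd_add (Dvd.dvd.mul_right hdD _) hdβ
          rwa [hdivmod] at h7
        have hcopDp : Nat.Coprime (q - p) p := (Nat.coprime_sub_self_left hpq.le).mpr hcop.symm
        exact (Nat.Coprime.coprime_dvd_left hdD hcopDp).dvd_of_dvd_mul_right hdmp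
      · exact Nat.gcd_dvd_left _ _
    · exact Nat.dvd_gcd hgD hgDβ
  have hcopbt : Nat.Coprime (bB p q m) (tT p q m) := by
    have h := Nat.coprime_div_gcd_div_gcd (m := q - p) (n := q - p - m * p % (q - p))
      (by rw [hgcd]; exact hgpos)
    rw [hgcd] at h
    exact h
  have hcopZ : IsCoprime (bB p q m : ℤ) (tT p q m : ℤ) := Nat.isCoprime_iff_coprime.mpr hcopbt
  have hνr : ν c.length = 1 := by
    obtain ⟨h0, h1⟩ := hdvd c.length le_rfl
    rw [Nat.sub_self] at h0 h1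
    rw [hν0] at h0
    have h01 : ν (0+1) = tT p q m := hν1
    rw [h01] at h1
    have hu : IsUnit (ν c.length) := hcopZ.isUnit_of_dvd' h0 h1
    rcases Int.isUnit_iff.mp hu with h | h
    · exact h
    · have h8 := (hC c.length le_rfl).2
      omega
  refine ⟨fun i _ => hi i, ?_, ?_, ?_, ?_, ?_⟩
  · intro i h2 _
    obtain ⟨j, rfl⟩ : ∃ j, i = j + 1 + 1 := ⟨i - 2, by omega⟩
    have e1 : j + 1 + 1 - 2 = j := by omega
    have e2 : j + 1 + 1 - 1 = j + 1 := by omega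
    rw [e1, e2, hnν, hnν, hnν, hνrec j]
    ring
  · intro i hi'
    rw [hnν, hnν]
    exact mul_lt_mul_of_pos_left (hdecr i hi') hgposZ
  · rw [hnν, hν0, hgb']
  · rw [hnν, hνr, mul_one]
  · rw [hnν, hνlast, mul_zero]

end Groth.Agent.S15735
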