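import Groth.Statements.S15738
import Mathlib
import Groth.Agent.Lib.helper8.WtPiece

set_option autoImplicit false
universe u
open W4c2invhilbsl2 MvPolynomial

namespace Groth.Agent.S15738

/-- Let k be a field and m ≥ 1; for a monomial X₀^d₀X₁^d₁X₂^d₂ of the polynomial ring in X₀, X₁, X₂ (X₂
standing for Xⱼ, j = 3 or 4, of the five-variable ring) put n = d₀ − p·d₁ + q·d₂ (its weight for the
torus diag(t, t^(−p), t^q)), c = d₁ − d₂ and ω = p·d₁ − q·d₂, so that d₀ = n + ω; here 0 < p < q are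
coprime integers. Take two monomials X₀^d₀X₁^d₁X₂^d₂ and X₀^e₀X₁^e₁X₂^e₂ with the same n and with
values c, c' of c congruent modulo m (so both lie in the same ℤ × ℤ/m-weight piece for the weights
(1,0), (−p,−1), (q,1)). Then: (i) if c = c', the difference of the two monomials lies in the
principal ideal (X₀^(q−p) − X₁X₂); (ii) if c' < c, the monomial X₀^d₀X₁^d₁X₂^d₂ lies in the ideal
(X₀^(q−p) − X₁X₂, X₀^(mp)X₁^m); (iii) in all cases the difference lies in the ideal (X₀^(q−p) −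
X₁X₂, 1 − X₀^(mp)X₁^m). -/
theorem result (k : Type u) [Field k] (p q m : ℕ) (hp : 0 < p) (hpq : p < q) (hcop : Nat.Coprime p q) (hm : 0 < m)
    (d0 d1 d2 e0 e1 e2 : ℕ) (hn : (e0 : ℤ) - (p : ℤ) * e1 + (q : ℤ) * e2 = (d0 : ℤ) - (p : ℤ) * d1 + (q : ℤ) * d2)
    (hc : (m : ℤ) ∣ ((d1 : ℤ) - d2) - ((e1 : ℤ) - e2)) :
    ((d1 : ℤ) - d2 = (e1 : ℤ) - e2 →
      (MvPolynomial.X (0 : Fin 3) ^ d0 * MvPolynomial.X (1 : Fin 3) ^ d1 * MvPolynomial.X (2 : Fin 3) ^ d2 - MvPolynomial.X (0 : Fin 3) ^ e0 * MvPolynomial.X (1 : Fin 3) ^ e1 * MvPolynomial.X (2 : Fin 3) ^ e2 : MvPolynomial (Fin 3) k) ∈ Ideal.span {MvPolynomial.X (0 : Fin 3) ^ (q - p) - MvPolynomial.X (1 : Fin 3) * MvPolynomial.X (2 : Fin 3)}) ∧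
    ((e1 : ℤ) - e2 < (d1 : ℤ) - d2 →
      (MvPolynomial.X (0 : Fin 3) ^ d0 * MvPolynomial.X (1 : Fin 3) ^ d1 * MvPolynomial.X (2 : Fin 3) ^ d2 : MvPolynomial (Fin 3) k) ∈ Ideal.span {MvPolynomial.X (0 : Fin 3) ^ (q - p) - MvPolynomial.X (1 : Fin 3) * MvPolynomial.X (2 : Fin 3), MvPolynomial.X (0 : Fin 3) ^ (m * p) * MvPolynomial.X (1 : Fin 3) ^ m}) ∧
    ((MvPolynomial.X (0 : Fin 3) ^ d0 * MvPolynomial.X (1 : Fin 3) ^ d1 * MvPolynomial.X (2 : Fin 3) ^ d2 - MvPolynomial.X (0 : Fin 3) ^ e0 * MvPolynomial.X (1 : Fin 3) ^ e1 * MvPolynomial.X (2 : Fin 3) ^ e2 : MvPolynomial (Fin 3) k) ∈ Ideal.span {MvPolynomial.X (0 : Fin 3) ^ (q - p) - MvPolynomial.X (1 : Fin 3) * MvPolynomial.X (2 : Fin 3), 1 - MvPolynomial.X (0 : Fin 3) ^ (m * p) * MvPolynomial.X (1 : Fin 3) ^ m}) := by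
  have hI1 : (X 0 ^ (q - p) - X 1 * X 2 : MvPolynomial (Fin 3) k) ∈
      Ideal.span {(X (0 : Fin 3) ^ (q - p) - X (1 : Fin 3) * X (2 : Fin 3) :
        MvPolynomial (Fin 3) k)} := Ideal.subset_span (Set.mem_singleton _)
  have hI2 : (X 0 ^ (q - p) - X 1 * X 2 : MvPolynomial (Fin 3) k) ∈
      Ideal.span {(X (0 : Fin 3) ^ (q - p) - X (1 : Fin 3) * X (2 : Fin 3) :
        MvPolynomial (Fin 3) k), X (0 : Fin 3) ^ (m * p) * X (1 : Fin 3) ^ m} :=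
    Ideal.subset_span (Set.mem_insert _ _)
  have hI2' : (X 0 ^ (m * p) * X 1 ^ m : MvPolynomial (Fin 3) k) ∈
      Ideal.span {(X (0 : Fin 3) ^ (q - p) - X (1 : Fin 3) * X (2 : Fin 3) :
        MvPolynomial (Fin 3) k), X (0 : Fin 3) ^ (m * p) * X (1 : Fin 3) ^ m} :=
    Ideal.subset_span (Set.mem_insert_of_mem _ (Set.mem_singleton _))
  have hI3 : (X 0 ^ (q - p) - X 1 * X 2 : MvPolynomial (Fin 3) k) ∈
      Ideal.span {(X (0 : Fin 3) ^ (q - p) - X (1 : Fin 3) * X (2 : Fin 3) :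
        MvPolynomial (Fin 3) k), 1 - X (0 : Fin 3) ^ (m * p) * X (1 : Fin 3) ^ m} :=
    Ideal.subset_span (Set.mem_insert _ _)
  have hI3' : (1 - X 0 ^ (m * p) * X 1 ^ m : MvPolynomial (Fin 3) k) ∈
      Ideal.span {(X (0 : Fin 3) ^ (q - p) - X (1 : Fin 3) * X (2 : Fin 3) :
        MvPolynomial (Fin 3) k), 1 - X (0 : Fin 3) ^ (m * p) * X (1 : Fin 3) ^ m} :=
    Ideal.subset_span (Set.mem_insert_of_mem _ (Set.mem_singleton _))
  have hm0 : (0:ℤ) < m := by exact_mod_cast hm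
  refine ⟨fun hcc => ?_, fun hlt => ?_, ?_⟩
  · exact H8WP.mono_sub_mem _ p q hpq hI1 _ _ _ _ _ _ hn hcc
  · obtain ⟨t, ht⟩ := hc
    have ht0 : 0 < t := by
      by_contra h
      push Not at h
      nlinarith
    obtain ⟨n, rfl⟩ := Int.eq_ofNat_of_zero_le ht0.le
    have hn0 : n ≠ 0 := by
      rintro rfl
      simp at ht0
    rw [← Ideal.Quotient.eq_zero_iff_mem,
      H8WP.mono_eq_pow_mul _ p q m hpq hI2 d0 d1 d2 e0 e1 e2 n hn ht,
      Ideal.Quotient.eq_zero_iff_mem.mpr hI2', zero_pow hn0, zero_mul]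
  · obtain ⟨t, ht⟩ := hc
    have hS : Ideal.Quotient.mk (Ideal.span {(X (0 : Fin 3) ^ (q - p) - X (1 : Fin 3) * X (2 : Fin 3) :
        MvPolynomial (Fin 3) k), 1 - X (0 : Fin 3) ^ (m * p) * X (1 : Fin 3) ^ m})
        (X 0 ^ (m * p) * X 1 ^ m) = 1 := by
      rw [← map_one (Ideal.Quotient.mk _)]
      exact (Ideal.Quotient.eq.mpr hI3').symm
    rw [← Ideal.Quotient.eq]
    rcases le_total 0 t with h0 | h0
    · obtain ⟨n, rfl⟩ := Int.eq_ofNat_of_zero_le h0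
      rw [H8WP.mono_eq_pow_mul _ p q m hpq hI3 d0 d1 d2 e0 e1 e2 n hn ht, hS, one_pow, one_mul]
    · obtain ⟨n, hn'⟩ := Int.eq_ofNat_of_zero_le (neg_nonneg.mpr h0)
      have htn : t = -(n:ℤ) := by linarith
      rw [htn] at ht
      rw [H8WP.mono_eq_pow_mul _ p q m hpq hI3 e0 e1 e2 d0 d1 d2 n hn.symm (by linarith), hS,
        one_pow, one_mul]

end Groth.Agent.S15738
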