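import Groth.Statements.S15739
import Mathlib
import Groth.Agent.Lib.helper8.WtPiece

set_option autoImplicit false
universe u
open W4c2invhilbsl2 MvPolynomial

namespace Groth.Agent.S15739

/-- Let k be a field and m ≥ 1, put g = gcd(m, q−p), a = m/g and b = (q−p)/g; for a monomial
X₀^d₀X₁^d₁X₂^d₂ of the polynomial ring in X₀, X₁, X₂ (X₂ standing for Xⱼ, j = 3 or 4, of the
five-variable ring) put n = d₀ − p·d₁ + q·d₂ (its weight for the torus diag(t, t^(−p), t^q)), c = d₁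
− d₂ and ω = p·d₁ − q·d₂, so that d₀ = n + ω; here 0 < p < q are coprime integers. Take two
monomials X₀^d₀X₁^d₁X₂^d₂ and X₀^e₀X₁^e₁X₂^e₂ with the same n, where 0 ≤ n < q − p, whose values c
and c' of c are both divisible by m, and with d₀ < g and e₀ < g (so each has the least ω for its
pair (n, c), as g ≤ q − p). Then: (i) d₀ = e₀, i.e. the two values of ω agree, and m·b divides c −
c'; (ii) if c < c', then X₀^e₀X₁^e₁X₂^e₂ is a multiple of X₀^d₀X₁^d₁X₂^d₂ · X₁^(aq)X₂^(ap); (iii)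
the difference of the two monomials lies in the principal ideal (1 − X₁^(aq)X₂^(ap)). -/
theorem result (k : Type u) [Field k] (p q m : ℕ) (hp : 0 < p) (hpq : p < q) (hcop : Nat.Coprime p q) (hm : 0 < m)
    (d0 d1 d2 e0 e1 e2 : ℕ) (hn : (e0 : ℤ) - (p : ℤ) * e1 + (q : ℤ) * e2 = (d0 : ℤ) - (p : ℤ) * d1 + (q : ℤ) * d2)
    (hn0 : 0 ≤ (d0 : ℤ) - (p : ℤ) * d1 + (q : ℤ) * d2) (hnq : (d0 : ℤ) - (p : ℤ) * d1 + (q : ℤ) * d2 < (q : ℤ) - p)
    (hcd : (m : ℤ) ∣ (d1 : ℤ) - d2) (hce : (m : ℤ) ∣ (e1 : ℤ) - e2)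
    (hd0 : d0 < Nat.gcd m (q - p)) (he0 : e0 < Nat.gcd m (q - p)) :
    (d0 = e0 ∧ ((m : ℤ) * ((q - p) / Nat.gcd m (q - p) : ℕ)) ∣ ((d1 : ℤ) - d2) - ((e1 : ℤ) - e2)) ∧
    ((d1 : ℤ) - d2 < (e1 : ℤ) - e2 →
      (MvPolynomial.X (0 : Fin 3) ^ d0 * MvPolynomial.X (1 : Fin 3) ^ d1 * MvPolynomial.X (2 : Fin 3) ^ d2 * (MvPolynomial.X (1 : Fin 3) ^ (m / Nat.gcd m (q - p) * q) * MvPolynomial.X (2 : Fin 3) ^ (m / Nat.gcd m (q - p) * p)) : MvPolynomial (Fin 3) k) ∣ MvPolynomial.X (0 : Fin 3) ^ e0 * MvPolynomial.X (1 : Fin 3) ^ e1 * MvPolynomial.X (2 : Fin 3) ^ e2) ∧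
    ((MvPolynomial.X (0 : Fin 3) ^ e0 * MvPolynomial.X (1 : Fin 3) ^ e1 * MvPolynomial.X (2 : Fin 3) ^ e2 - MvPolynomial.X (0 : Fin 3) ^ d0 * MvPolynomial.X (1 : Fin 3) ^ d1 * MvPolynomial.X (2 : Fin 3) ^ d2 : MvPolynomial (Fin 3) k) ∈
      Ideal.span {(1 : MvPolynomial (Fin 3) k) - MvPolynomial.X (1 : Fin 3) ^ (m / Nat.gcd m (q - p) * q) * MvPolynomial.X (2 : Fin 3) ^ (m / Nat.gcd m (q - p) * p)}) := by
  have h2 : (m : ℤ) ∣ ((e2 : ℤ) - e1) - (d2 - d1) := by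
    have h3 := dvd_sub hcd hce
    have h4 : ((e2 : ℤ) - e1) - (d2 - d1) = ((d1 : ℤ) - d2) - ((e1 : ℤ) - e2) := by ring
    rw [h4]; exact h3
  obtain ⟨h0eq, t, hb, hc⟩ :=
    H8WP.arithJ p q m hp hpq hcop hm d0 d1 d2 e0 e1 e2 hd0 he0 hn.symm h2
  have hgm' : Nat.gcd m (q - p) ∣ m := Nat.gcd_dvd_left _ _
  have hgq' : Nat.gcd m (q - p) ∣ q - p := Nat.gcd_dvd_right _ _
  have hmag : m / Nat.gcd m (q - p) * Nat.gcd m (q - p) = m := Nat.div_mul_cancel hgm'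
  have hqbg : (q - p) / Nat.gcd m (q - p) * Nat.gcd m (q - p) = q - p := Nat.div_mul_cancel hgq'
  have hcast : ((q - p : ℕ) : ℤ) = (q : ℤ) - p := Nat.cast_sub hpq.le
  have hpq' : (p:ℤ) < q := by exact_mod_cast hpq
  refine ⟨⟨h0eq, ?_⟩, ?_, ?_⟩
  · refine ⟨t, ?_⟩
    have e1' : (m : ℤ) * (((q - p) / Nat.gcd m (q - p) : ℕ) : ℤ) =
        ((m / Nat.gcd m (q - p) : ℕ) : ℤ) * ((q : ℤ) - p) := by
      rw [← hcast]
      have h3 : m * ((q - p) / Nat.gcd m (q - p)) = m / Nat.gcd m (q - p) * (q - p) := by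
        calc m * ((q - p) / Nat.gcd m (q - p))
            = (m / Nat.gcd m (q - p) * Nat.gcd m (q - p)) * ((q - p) / Nat.gcd m (q - p)) := by
              rw [hmag]
          _ = m / Nat.gcd m (q - p) * ((q - p) / Nat.gcd m (q - p) * Nat.gcd m (q - p)) := by ring
          _ = m / Nat.gcd m (q - p) * (q - p) := by rw [hqbg]
      exact_mod_cast h3
    rw [e1']
    have h4 : ((d1 : ℤ) - d2) - ((e1 : ℤ) - e2) = ((d1 : ℤ) - e1) - ((d2 : ℤ) - e2) := by ring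
    rw [h4, hb, hc]; ring
  · intro hlt
    obtain ⟨A, hA⟩ : ∃ A, A = m / Nat.gcd m (q - p) := ⟨_, rfl⟩
    rw [← hA] at hb hc ⊢
    have ht : t < 0 := by
      by_contra h
      push Not at h
      have h3 : 0 ≤ (A : ℤ) * t := mul_nonneg (Nat.cast_nonneg _) h
      have h4 : 0 ≤ ((q:ℤ) - p) * ((A : ℤ) * t) := mul_nonneg (by linarith) h3
      linarith
    obtain ⟨n, hn'⟩ := Int.eq_ofNat_of_zero_le (neg_nonneg.mpr ht.le)
    have htn : t = -(n:ℤ) := by linarith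
    have hn1 : 1 ≤ n := by
      have h5 : (0:ℤ) < n := by linarith
      exact_mod_cast h5
    obtain ⟨n', rfl⟩ := Nat.exists_eq_add_of_le hn1
    rw [htn] at hb hc
    have he1 : e1 = d1 + A * q * (1 + n') := by
      zify; push_cast at hb; linarith
    have he2 : e2 = d2 + A * p * (1 + n') := by
      zify; push_cast at hc; linarith
    refine ⟨(X 1 ^ (A * q) * X 2 ^ (A * p)) ^ n', ?_⟩
    rw [he1, he2, ← h0eq]; ring
  · have hS1 : Ideal.Quotient.mk (Ideal.span {(1 : MvPolynomial (Fin 3) k) -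
        X (1 : Fin 3) ^ (m / Nat.gcd m (q - p) * q) * X (2 : Fin 3) ^ (m / Nat.gcd m (q - p) * p)})
        (X 1 ^ (m / Nat.gcd m (q - p) * q) * X 2 ^ (m / Nat.gcd m (q - p) * p)) = 1 := by
      rw [← map_one (Ideal.Quotient.mk _)]
      exact (Ideal.Quotient.eq.mpr (Ideal.subset_span (Set.mem_singleton _))).symm
    rw [← Ideal.Quotient.eq]
    simp only [map_mul, map_pow] at hS1 ⊢
    obtain ⟨n, h | h⟩ := H8WP.lemmaJ
      (Ideal.Quotient.mk (Ideal.span {(1 : MvPolynomial (Fin 3) k) -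
        X (1 : Fin 3) ^ (m / Nat.gcd m (q - p) * q) * X (2 : Fin 3) ^ (m / Nat.gcd m (q - p) * p)})
        (X 0))
      (Ideal.Quotient.mk (Ideal.span {(1 : MvPolynomial (Fin 3) k) -
        X (1 : Fin 3) ^ (m / Nat.gcd m (q - p) * q) * X (2 : Fin 3) ^ (m / Nat.gcd m (q - p) * p)})
        (X 1))
      (Ideal.Quotient.mk (Ideal.span {(1 : MvPolynomial (Fin 3) k) -
        X (1 : Fin 3) ^ (m / Nat.gcd m (q - p) * q) * X (2 : Fin 3) ^ (m / Nat.gcd m (q - p) * p)})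
        (X 2)) 1 p q m hp hpq hcop hm hS1.symm d0 d1 d2 e0 e1 e2 hd0 he0 hn.symm h2
    · rw [h, one_pow, one_mul]
    · rw [h, one_pow, one_mul]

end Groth.Agent.S15739
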