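import Groth.Statements.S15749
import Mathlib

set_option autoImplicit false
universe u
open CAlg

namespace Groth.Agent.S15749

theorem idem_mod_prime {R : Type*} [CommRing R] (e : LaurentSeries R) (he : IsIdempotentElem e)
    (p : Ideal R) [hp : p.IsPrime] :
    (∀ n : ℤ, e.coeff n ∈ p) ∨ ((e.coeff 0 - 1 ∈ p) ∧ ∀ n : ℤ, n ≠ 0 → e.coeff n ∈ p) := by
  have hdom : IsDomain (R ⧸ p) := Ideal.Quotient.isDomain p
  obtain ⟨φ, hφ⟩ : ∃ φ : R →+* R ⧸ p, φ = Ideal.Quotient.mk p := ⟨_, rfl⟩
  have hidem : (e.map φ.toNonUnitalRingHom) * (e.map φ.toNonUnitalRingHom)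
      = e.map φ.toNonUnitalRingHom := by
    rw [← HahnSeries.map_mul, he.eq]
  have h0 : (e.map φ.toNonUnitalRingHom) * (e.map φ.toNonUnitalRingHom - 1) = 0 := by
    rw [mul_sub, mul_one, hidem, sub_self]
  have hc : ∀ n : ℤ, (e.map φ.toNonUnitalRingHom).coeff n = φ (e.coeff n) := fun n => rfl
  have hmem : ∀ x : R, φ x = 0 → x ∈ p := by
    intro x hx
    rw [hφ] at hx
    exact Ideal.Quotient.eq_zero_iff_mem.mp hx
  rcases mul_eq_zero.mp h0 with h | h
  · left
    intro n
    apply hmem
    rw [← hc n, h, HahnSeries.coeff_zero]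
  · right
    have h1 : e.map φ.toNonUnitalRingHom = 1 := sub_eq_zero.mp h
    constructor
    · apply hmem
      rw [map_sub, map_one, ← hc 0, h1, HahnSeries.coeff_one, if_pos rfl, sub_self]
    · intro n hn
      apply hmem
      rw [← hc n, h1, HahnSeries.coeff_one, if_neg hn]

theorem decomp {R : Type*} [CommRing R] (e : LaurentSeries R)
    (hneg : ∀ n : ℤ, n < 0 → IsNilpotent (e.coeff n)) :
    ∃ (ν : LaurentSeries R) (p : PowerSeries R), IsNilpotent ν ∧
      e = ν + HahnSeries.ofPowerSeries ℤ R p ∧ PowerSeries.constantCoeff p = e.coeff 0 := by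
  classical
  refine ⟨∑ n ∈ Finset.Ico e.order 0, HahnSeries.single n (e.coeff n),
    PowerSeries.mk (fun n : ℕ => e.coeff (n : ℤ)), ?_, ?_, ?_⟩
  · rw [← mem_nilradical]
    refine Ideal.sum_mem _ (fun n hn => ?_)
    rw [mem_nilradical]
    obtain ⟨k, hk⟩ := hneg n (Finset.mem_Ico.mp hn).2
    exact ⟨k, by rw [HahnSeries.single_pow, hk, map_zero]⟩
  · ext i
    rw [HahnSeries.coeff_add, HahnSeries.coeff_sum, PowerSeries.coeff_coe]
    by_cases hi : i < 0
    · rw [if_pos hi, add_zero]
      by_cases hi2 : e.order ≤ i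
      · rw [Finset.sum_eq_single i]
        · rw [HahnSeries.coeff_single_same]
        · intro b _ hb
          exact HahnSeries.coeff_single_of_ne (Ne.symm hb)
        · intro h
          exact absurd (Finset.mem_Ico.mpr ⟨hi2, hi⟩) h
      · rw [Finset.sum_eq_zero]
        · exact HahnSeries.coeff_eq_zero_of_lt_order (not_le.mp hi2)
        · intro b hb
          apply HahnSeries.coeff_single_of_ne
          intro hib
          rw [hib] at hi2
          exact hi2 (Finset.mem_Ico.mp hb).1
    · rw [if_neg hi, PowerSeries.coeff_mk, Int.natAbs_of_nonneg (not_lt.mp hi),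
        Finset.sum_eq_zero, zero_add]
      intro b hb
      apply HahnSeries.coeff_single_of_ne
      intro hib
      exact hi (by rw [hib]; exact (Finset.mem_Ico.mp hb).2)
  · rw [← PowerSeries.coeff_zero_eq_constantCoeff_apply, PowerSeries.coeff_mk]
    rfl

/-- For an arbitrary commutative ring R, every idempotent of the ring of formal Laurent series R((t)) is
the constant series attached to a unique idempotent of R. Equivalently, the structure map R → R((t))
induces a bijection on idempotents, so that the spectrum of R((t)) is connected if and only if the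
spectrum of R is. No reducedness is assumed. -/
theorem result (R : Type u) [CommRing R]
    (e : LaurentSeries R) (he : IsIdempotentElem e) :
    ∃! r : R, IsIdempotentElem r ∧ HahnSeries.C r = e := by
  classical
  -- nilpotency of coefficients
  have hnil : ∀ n : ℤ, n ≠ 0 → IsNilpotent (e.coeff n) := by
    intro n hn
    rw [← mem_nilradical, nilradical_eq_sInf, Ideal.mem_sInf]
    intro p hp
    have hp' : p.IsPrime := hp
    rcases idem_mod_prime e he p with h | h
    · exact h n
    · exact h.2 n hn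
  have hnil0 : IsNilpotent (e.coeff 0 * e.coeff 0 - e.coeff 0) := by
    rw [← mem_nilradical, nilradical_eq_sInf, Ideal.mem_sInf]
    intro p hp
    have hp' : p.IsPrime := hp
    have heq : e.coeff 0 * e.coeff 0 - e.coeff 0 = e.coeff 0 * (e.coeff 0 - 1) := by ring
    rw [heq]
    rcases idem_mod_prime e he p with h | h
    · exact Ideal.mul_mem_right _ _ (h 0)
    · exact Ideal.mul_mem_left _ _ h.1
  -- lift the idempotent
  have hker : ∀ x ∈ RingHom.ker (Ideal.Quotient.mk (nilradical R)), IsNilpotent x := by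
    intro x hx
    rw [Ideal.mk_ker] at hx
    exact mem_nilradical.mp hx
  have hid : IsIdempotentElem (Ideal.Quotient.mk (nilradical R) (e.coeff 0)) := by
    unfold IsIdempotentElem
    rw [← map_mul, ← sub_eq_zero, ← map_sub]
    exact Ideal.Quotient.eq_zero_iff_mem.mpr (mem_nilradical.mpr hnil0)
  obtain ⟨r, hr, hre⟩ := exists_isIdempotentElem_eq_of_ker_isNilpotent
    (Ideal.Quotient.mk (nilradical R)) hker _ ⟨e.coeff 0, rfl⟩ hid
  have hre' : IsNilpotent (e.coeff 0 - r) := by
    rw [← mem_nilradical]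
    exact Ideal.Quotient.eq.mp hre.symm
  -- decomposition
  obtain ⟨ν, p, hν, hdec, hp0⟩ := decomp e (fun n hn => hnil n (ne_of_lt hn))
  have hCr : HahnSeries.C r * HahnSeries.C r = (HahnSeries.C r : LaurentSeries R) := by
    rw [← map_mul, hr.eq]
  obtain ⟨q, hq⟩ : ∃ q : PowerSeries R, q = p - PowerSeries.C r := ⟨_, rfl⟩
  have hf : e - HahnSeries.C r = ν + HahnSeries.ofPowerSeries ℤ R q := by
    rw [hq, map_sub, HahnSeries.ofPowerSeries_C]
    rw [hdec]
    ring
  have hq0 : IsNilpotent (PowerSeries.constantCoeff q) := by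
    rw [hq, map_sub, PowerSeries.constantCoeff_C, hp0]
    exact hre'
  have hu1 : IsUnit (1 - q * q) := by
    rw [PowerSeries.isUnit_iff_constantCoeff, map_sub, map_one, map_mul]
    apply IsNilpotent.isUnit_one_sub
    rw [← mem_nilradical]
    exact Ideal.mul_mem_left _ _ (mem_nilradical.mpr hq0)
  have hu2 : IsUnit (HahnSeries.ofPowerSeries ℤ R (1 - q * q)) := hu1.map _
  have hν2 : IsNilpotent (-(ν * (ν + 2 * HahnSeries.ofPowerSeries ℤ R q))) := by
    rw [← mem_nilradical]
    exact neg_mem (Ideal.mul_mem_right _ _ (mem_nilradical.mpr hν))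
  have hu3 : IsUnit (1 - (e - HahnSeries.C r) * (e - HahnSeries.C r)) := by
    have heq : 1 - (e - HahnSeries.C r) * (e - HahnSeries.C r)
        = HahnSeries.ofPowerSeries ℤ R (1 - q * q)
          + -(ν * (ν + 2 * HahnSeries.ofPowerSeries ℤ R q)) := by
      rw [hf, map_sub, map_one, map_mul]
      ring
    rw [heq]
    exact hν2.isUnit_add_left_of_commute hu2 (Commute.all _ _)
  have hzero : (e - HahnSeries.C r) * (1 - (e - HahnSeries.C r) * (e - HahnSeries.C r)) = 0 := by
    have he' : e * e = e := he.eq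
    linear_combination (-(e + 1 - 3 * HahnSeries.C r)) * he'
      + (-(3 * e - HahnSeries.C r - 1)) * hCr
  have hfin : e - HahnSeries.C r = 0 := (hu3.mul_left_eq_zero).mp hzero
  refine ⟨r, ⟨hr, (sub_eq_zero.mp hfin).symm⟩, ?_⟩
  rintro r' ⟨_, h'⟩
  exact HahnSeries.C_injective (h'.trans (sub_eq_zero.mp hfin))

end Groth.Agent.S15749
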