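import Groth.Statements.S15750
import Mathlib

set_option autoImplicit false
universe u
open CAlg

namespace Groth.Agent.S15750

theorem unit_mod_prime {R : Type*} [CommRing R] (F G : LaurentSeries R) (hFG : F * G = 1)
    (q : Ideal R) [hq : q.IsPrime] :
    ∃ n : ℤ, (∀ i : ℤ, i < n → F.coeff i ∈ q) ∧ (∀ j : ℤ, j < -n → G.coeff j ∈ q) ∧
      F.coeff n * G.coeff (-n) - 1 ∈ q := by
  have hdom : IsDomain (R ⧸ q) := Ideal.Quotient.isDomain q
  obtain ⟨φ, hφ⟩ : ∃ φ : R →+* R ⧸ q, φ = Ideal.Quotient.mk q := ⟨_, rfl⟩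
  have hmem : ∀ x : R, φ x = 0 → x ∈ q := by
    intro x hx
    rw [hφ] at hx
    exact Ideal.Quotient.eq_zero_iff_mem.mp hx
  have hone : (1 : LaurentSeries R).map φ.toNonUnitalRingHom = 1 := by
    ext i
    rw [HahnSeries.map_coeff, HahnSeries.coeff_one, HahnSeries.coeff_one]
    by_cases hi : i = 0
    · rw [if_pos hi, if_pos hi]; exact map_one φ
    · rw [if_neg hi, if_neg hi]; exact map_zero φ
  have hmul : F.map φ.toNonUnitalRingHom * G.map φ.toNonUnitalRingHom = 1 := by
    rw [← HahnSeries.map_mul, hFG, hone]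
  have hF0 : F.map φ.toNonUnitalRingHom ≠ 0 := by
    intro h
    rw [h, zero_mul] at hmul
    exact zero_ne_one hmul
  have hG0 : G.map φ.toNonUnitalRingHom ≠ 0 := by
    intro h
    rw [h, mul_zero] at hmul
    exact zero_ne_one hmul
  have hord : (F.map φ.toNonUnitalRingHom).order + (G.map φ.toNonUnitalRingHom).order = 0 := by
    rw [← HahnSeries.order_mul hF0 hG0, hmul, HahnSeries.order_one]
  have hlc := HahnSeries.coeff_mul_order_add_order (F.map φ.toNonUnitalRingHom)
    (G.map φ.toNonUnitalRingHom)
  rw [hord, hmul, HahnSeries.coeff_one, if_pos rfl, HahnSeries.leadingCoeff_eq,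
    HahnSeries.leadingCoeff_eq] at hlc
  have hGord : (G.map φ.toNonUnitalRingHom).order = -(F.map φ.toNonUnitalRingHom).order :=
    eq_neg_of_add_eq_zero_right hord
  refine ⟨(F.map φ.toNonUnitalRingHom).order, ?_, ?_, ?_⟩
  · intro i hi
    apply hmem
    exact HahnSeries.coeff_eq_zero_of_lt_order hi
  · intro j hj
    apply hmem
    rw [← hGord] at hj
    exact HahnSeries.coeff_eq_zero_of_lt_order hj
  · apply hmem
    rw [map_sub, map_one, map_mul, sub_eq_zero]
    rw [hGord] at hlc
    exact hlc.symm

/-- Let R be a nonzero reduced commutative ring with no idempotents other than 0 and 1. Then every unit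
of the Laurent series ring R((t)) is t^n · u for a unique integer n and a unique unit u of the power
series ring R[[t]]. (The published statement is for an arbitrary torus T over a reduced ring R, with
n replaced by a locally constant integer-valued function on Spec R, i.e. a point of the cocharacter
lattice; this row is the case where T is the multiplicative group and Spec R is connected, to which
the published proof reduces.) -/
theorem result (R : Type u) [CommRing R]
    [IsReduced R] [Nontrivial R] (hconn : ∀ e : R, IsIdempotentElem e → e = 0 ∨ e = 1)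
    (f : (LaurentSeries R)ˣ) :
    ∃! p : ℤ × (PowerSeries R)ˣ,
      (f : LaurentSeries R) = HahnSeries.single p.1 (1 : R) * HahnSeries.ofPowerSeries ℤ R (p.2 : PowerSeries R) := by
  classical
  obtain ⟨F, hF⟩ : ∃ F : LaurentSeries R, F = (f : LaurentSeries R) := ⟨_, rfl⟩
  obtain ⟨G, hG⟩ : ∃ G : LaurentSeries R,
      G = ((f⁻¹ : (LaurentSeries R)ˣ) : LaurentSeries R) := ⟨_, rfl⟩
  have hFG : F * G = 1 := by
    rw [hF, hG]
    exact Units.mul_inv f
  obtain ⟨p₀, hp₀⟩ := Ideal.exists_maximal R
  have hp₀' : p₀.IsPrime := hp₀.isPrime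
  obtain ⟨n₀, h1, h2, h3⟩ := unit_mod_prime F G hFG p₀
  have hprime : ∀ q : Ideal R, q.IsPrime →
      (F.coeff n₀ * G.coeff (-n₀) ∈ q ∨ F.coeff n₀ * G.coeff (-n₀) - 1 ∈ q) := by
    intro q hq
    have := hq
    obtain ⟨n, g1, g2, g3⟩ := unit_mod_prime F G hFG q
    rcases lt_trichotomy n₀ n with h | h | h
    · left
      exact Ideal.mul_mem_right _ _ (g1 n₀ h)
    · right
      rw [h]
      exact g3
    · left
      exact Ideal.mul_mem_left _ _ (g2 (-n₀) (by omega))
  have hzero_of_all : ∀ x : R, (∀ q : Ideal R, q.IsPrime → x ∈ q) → x = 0 := by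
    intro x hx
    have hxn : x ∈ nilradical R := by
      rw [nilradical_eq_sInf, Ideal.mem_sInf]
      intro q hq
      exact hx q hq
    exact (mem_nilradical.mp hxn).eq_zero
  have hidem : IsIdempotentElem (F.coeff n₀ * G.coeff (-n₀)) := by
    unfold IsIdempotentElem
    rw [← sub_eq_zero]
    apply hzero_of_all
    intro q hq
    have heq : F.coeff n₀ * G.coeff (-n₀) * (F.coeff n₀ * G.coeff (-n₀))
        - F.coeff n₀ * G.coeff (-n₀)
        = (F.coeff n₀ * G.coeff (-n₀)) * (F.coeff n₀ * G.coeff (-n₀) - 1) := by ring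
    rw [heq]
    rcases hprime q hq with h | h
    · exact Ideal.mul_mem_right _ _ h
    · exact Ideal.mul_mem_left _ _ h
  have he1 : F.coeff n₀ * G.coeff (-n₀) = 1 := by
    rcases hconn _ hidem with h | h
    · exfalso
      rw [h, zero_sub] at h3
      have h1' : (1 : R) ∈ p₀ := by
        have := neg_mem h3
        rwa [neg_neg] at this
      exact hp₀'.ne_top ((Ideal.eq_top_iff_one p₀).mpr h1')
    · exact h
  have hlow : ∀ i : ℤ, i < n₀ → F.coeff i = 0 := by
    intro i hi
    apply hzero_of_all
    intro q hq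
    have := hq
    obtain ⟨n, g1, g2, g3⟩ := unit_mod_prime F G hFG q
    rcases lt_trichotomy n₀ n with h | h | h
    · exact g1 i (lt_trans hi h)
    · exact g1 i (by rw [← h]; exact hi)
    · exfalso
      have hmem : F.coeff n₀ * G.coeff (-n₀) ∈ q :=
        Ideal.mul_mem_left _ _ (g2 (-n₀) (by omega))
      rw [he1] at hmem
      exact hq.ne_top ((Ideal.eq_top_iff_one q).mpr hmem)
  have hunit0 : IsUnit (F.coeff n₀) := IsUnit.of_mul_eq_one _ he1
  have hcoef : ∀ (n : ℤ) (x : PowerSeries R) (j : ℤ),
      (HahnSeries.single n (1:R) * HahnSeries.ofPowerSeries ℤ R x).coeff (j + n)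
        = if j < 0 then 0 else PowerSeries.coeff j.natAbs x := by
    intro n x j
    rw [HahnSeries.coeff_single_mul_add, one_mul, PowerSeries.coeff_coe]
  obtain ⟨u, hu⟩ : ∃ u : PowerSeries R,
      u = PowerSeries.mk (fun k : ℕ => F.coeff (n₀ + k)) := ⟨_, rfl⟩
  have huu : IsUnit u := by
    rw [PowerSeries.isUnit_iff_constantCoeff, ← PowerSeries.coeff_zero_eq_constantCoeff_apply, hu,
      PowerSeries.coeff_mk]
    simpa using hunit0
  have hFeq : F = HahnSeries.single n₀ (1:R) * HahnSeries.ofPowerSeries ℤ R u := by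
    ext i
    obtain ⟨j, rfl⟩ : ∃ j, i = j + n₀ := ⟨i - n₀, by ring⟩
    rw [hcoef]
    by_cases hj : j < 0
    · rw [if_pos hj]
      exact hlow _ (by omega)
    · rw [if_neg hj, hu, PowerSeries.coeff_mk]
      congr 1
      omega
  refine ⟨(n₀, huu.unit), ?_, ?_⟩
  · show (f : LaurentSeries R) = HahnSeries.single n₀ (1 : R) *
      HahnSeries.ofPowerSeries ℤ R ((huu.unit : (PowerSeries R)ˣ) : PowerSeries R)
    rw [IsUnit.unit_spec, ← hF]
    exact hFeq
  · rintro ⟨n, w⟩ hw
    have hw' : F = HahnSeries.single n (1 : R) *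
        HahnSeries.ofPowerSeries ℤ R (w : PowerSeries R) := by
      rw [hF]
      exact hw
    have hn : n = n₀ := by
      rcases lt_trichotomy n n₀ with hlt | heq | hgt
      · exfalso
        have e1 : F.coeff n = PowerSeries.constantCoeff (w : PowerSeries R) := by
          have h := hcoef n (w : PowerSeries R) 0
          rw [zero_add, ← hw', if_neg (lt_irrefl 0), Int.natAbs_zero,
            PowerSeries.coeff_zero_eq_constantCoeff_apply] at h
          exact h
        have e2 : IsUnit (PowerSeries.constantCoeff (w : PowerSeries R)) :=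
          PowerSeries.isUnit_iff_constantCoeff.mp w.isUnit
        rw [← e1, hlow n hlt] at e2
        exact not_isUnit_zero e2
      · exact heq
      · exfalso
        have h := hcoef n (w : PowerSeries R) (n₀ - n)
        rw [sub_add_cancel, ← hw', if_pos (by omega)] at h
        rw [h] at hunit0
        exact not_isUnit_zero hunit0
    subst hn
    have hwu : HahnSeries.ofPowerSeries ℤ R (w : PowerSeries R)
        = HahnSeries.ofPowerSeries ℤ R u := by
      ext j
      have e1 := congrArg (fun x => x.coeff (j + n)) (hw'.symm.trans hFeq)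
      simp only [HahnSeries.coeff_single_mul_add, one_mul] at e1
      exact e1
    have hwu' : (w : PowerSeries R) = u := HahnSeries.ofPowerSeries_injective hwu
    exact Prod.ext rfl (Units.ext (hwu'.trans (IsUnit.unit_spec huu).symm))

end Groth.Agent.S15750
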