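import Groth.Statements.S15765
import Mathlib

set_option autoImplicit false
universe u
open CategoryTheory AlgebraicGeometry
open CAlg

namespace Groth.Agent.S15765

/-- Let B be a topological ring in which the units form an open subset, B₀ → B a ring map with dense
image and X a quasi-affine scheme over B₀. Then the image of any B-point Spec B → X over B₀ is
contained in an affine open of X. (The published statement allows X ind-quasi-affine, i.e. with all
quasi-compact opens quasi-affine; since a B-point lands in a quasi-compact open, this row's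
quasi-affine case carries the content.) -/
theorem result (B : Type u) [CommRing B] [TopologicalSpace B]
    [IsTopologicalRing B] (hB : IsOpen {b : B | IsUnit b})
    (B₀ : Type u) [CommRing B₀] (φ : B₀ →+* B) (hφ : DenseRange φ)
    (X : Scheme.{u}) [X.IsQuasiAffine] (p : X ⟶ Spec (CommRingCat.of B₀))
    (f : Spec (CommRingCat.of B) ⟶ X) (hf : f ≫ p = Spec.map (CommRingCat.ofHom φ)) :
    ∃ U : X.Opens, IsAffineOpen U ∧ Set.range f.base ⊆ (U : Set X) := by
  classical
  obtain ⟨a, ha⟩ := Spec.map_surjective (f ≫ X.toSpecΓ)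
  let π : CommRingCat.of B₀ ⟶ Γ(X, ⊤) := (Scheme.ΓSpecIso (CommRingCat.of B₀)).inv ≫ p.appTop
  have hp : p = X.toSpecΓ ≫ Spec.map π := by
    have h1 := Scheme.toSpecΓ_naturality p
    have h2 : p = (p ≫ (Spec (CommRingCat.of B₀)).toSpecΓ) ≫
        Spec.map (Scheme.ΓSpecIso (CommRingCat.of B₀)).inv := by
      rw [Category.assoc, toSpecΓ_SpecMap_ΓSpecIso_inv, Category.comp_id]
    rw [h2, h1, Category.assoc, ← Spec.map_comp]
  have hπa : ∀ c : B₀, a.hom (π.hom c) = φ c := by
    have h3 : Spec.map (π ≫ a) = Spec.map (CommRingCat.ofHom φ) := by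
      rw [Spec.map_comp, ha, Category.assoc, ← hp, hf]
    have h4 := Spec.map_injective h3
    intro c
    exact congrArg (fun ψ => ψ.hom c) h4
  have hmem : ∀ (r : Γ(X, ⊤)) (y : Spec (CommRingCat.of B)),
      f y ∈ X.basicOpen r ↔ a.hom r ∉ (y : PrimeSpectrum B).asIdeal := by
    intro r y
    rw [← Scheme.toSpecΓ_preimage_basicOpen]
    show X.toSpecΓ (f y) ∈ PrimeSpectrum.basicOpen r ↔ _
    rw [← Scheme.Hom.comp_apply, ← ha]
    exact Iff.rfl
  have hchoose : ∀ y : Spec (CommRingCat.of B), ∃ r : Γ(X, ⊤),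
      X.toSpecΓ (f y) ∈ PrimeSpectrum.basicOpen r ∧
      (PrimeSpectrum.basicOpen r : Set (PrimeSpectrum Γ(X, ⊤))) ⊆ Set.range X.toSpecΓ := by
    intro y
    obtain ⟨_, ⟨_, ⟨r, rfl⟩, rfl⟩, h1, h2⟩ := (PrimeSpectrum.isBasis_basic_opens
      (R := Γ(X, ⊤))).exists_subset_of_mem_open (Set.mem_range_self (f y))
      X.toSpecΓ.isOpenEmbedding.isOpen_range
    exact ⟨r, h1, h2⟩
  choose r hr1 hr2 using hchoose
  have htop : Ideal.span (Set.range fun y => a.hom (r y)) = ⊤ := by
    by_contra hne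
    obtain ⟨m, hm, hle⟩ := Ideal.exists_le_maximal _ hne
    let y : Spec (CommRingCat.of B) := (⟨m, hm.isPrime⟩ : PrimeSpectrum B)
    have hin : a.hom (r y) ∈ m := hle (Ideal.subset_span ⟨y, rfl⟩)
    have h1 := hr1 y
    rw [← Scheme.Hom.comp_apply, ← ha] at h1
    exact absurd hin h1
  have h1mem : (1 : B) ∈ Submodule.span B (Set.range fun y => a.hom (r y)) := by
    have : (1 : B) ∈ Ideal.span (Set.range fun y => a.hom (r y)) := by rw [htop]; trivial
    exact this
  obtain ⟨c, hc⟩ := (Finsupp.mem_span_range_iff_exists_finsupp (R := B)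
    (v := fun y => a.hom (r y))).mp h1mem
  let s := c.support
  let Φ : (s → B) → B := fun v => ∑ i : s, v i * a.hom (r i.1)
  have hΦc : Continuous Φ :=
    continuous_finsetSum _ fun i _ => (continuous_apply i).mul continuous_const
  have hΦ1 : Φ (fun i => c i.1) = 1 := by
    rw [← hc, Finsupp.sum]
    simp only [Φ, smul_eq_mul]
    exact Finset.sum_coe_sort s (fun i => c i * a.hom (r i))
  have hopen : IsOpen (Φ ⁻¹' {b : B | IsUnit b}) := hB.preimage hΦc
  have hne : (Φ ⁻¹' {b : B | IsUnit b}).Nonempty :=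
    ⟨fun i => c i.1, by simp only [Set.mem_preimage, Set.mem_setOf_eq, hΦ1]; exact isUnit_one⟩
  have hdense : DenseRange (Pi.map (fun _ : s => (φ : B₀ → B))) := DenseRange.piMap fun _ => hφ
  obtain ⟨d, hd⟩ := hdense.exists_mem_open hopen hne
  let R : Γ(X, ⊤) := ∑ i : s, π.hom (d i) * r i.1
  have haR : a.hom R = Φ (Pi.map (fun _ : s => (φ : B₀ → B)) d) := by
    simp only [R, Φ, map_sum, map_mul, hπa, Pi.map_apply]
  have hunit : IsUnit (a.hom R) := by rw [haR]; exact hd
  have hDR : (PrimeSpectrum.basicOpen R : Set (PrimeSpectrum Γ(X, ⊤))) ⊆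
      Set.range X.toSpecΓ := by
    intro x hx
    have hx' : R ∉ x.asIdeal := hx
    by_contra hcon
    apply hx'
    refine Ideal.sum_mem _ fun i _ => Ideal.mul_mem_left _ _ ?_
    by_contra hri
    exact hcon (hr2 i.1 (show x ∈ (PrimeSpectrum.basicOpen (r i.1) : Set _) from hri))
  refine ⟨X.basicOpen R, ?_, ?_⟩
  · rw [← Scheme.toSpecΓ_preimage_basicOpen,
      ← Scheme.Hom.isAffineOpen_iff_of_isOpenImmersion X.toSpecΓ]
    convert IsAffineOpen.Spec_basicOpen R
    exact SetLike.coe_injective (Set.image_preimage_eq_of_subset hDR)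
  · rintro _ ⟨y, rfl⟩
    show f y ∈ X.basicOpen R
    rw [hmem]
    intro hin
    exact (y : PrimeSpectrum B).2.ne_top (Ideal.eq_top_of_isUnit_mem _ hin hunit)

end Groth.Agent.S15765
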