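import Groth.Statements.S15770
import Mathlib
-- import your own Groth.Agent.* helpers here

set_option autoImplicit false
universe u
open CAlg

namespace Groth.Agent.S15770

/-- Let B be a topological ring with Bˣ ⊂ B open and M, M' finitely generated projective B-modules, and
endow Hom_B(M, M') with the module topology (the canonical topology of a finite module). Then the
set of surjective B-linear maps M → M' is open. -/
theorem result (B : Type u) [CommRing B] [TopologicalSpace B]
    [IsTopologicalRing B] (hB : IsOpen {b : B | IsUnit b})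
    (M M' : Type u) [AddCommGroup M] [Module B M] [Module.Finite B M] [Module.Projective B M]
    [AddCommGroup M'] [Module B M'] [Module.Finite B M'] [Module.Projective B M']
    [TopologicalSpace (M →ₗ[B] M')] [IsModuleTopology B (M →ₗ[B] M')] :
    IsOpen {f : M →ₗ[B] M' | Function.Surjective f} := by
  classical
  obtain ⟨n, π, i, hπ, hi, hπi⟩ := Module.Finite.exists_comp_eq_id_of_projective B M'
  have hπi' : ∀ z, π (i z) = z := fun z => LinearMap.congr_fun hπi z
  rw [isOpen_iff_forall_mem_open]
  intro f₀ hf₀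
  obtain ⟨s₀, hs₀⟩ := Module.projective_lifting_property f₀ LinearMap.id hf₀
  have hs₀' : ∀ z, f₀ (s₀ z) = z := fun z => LinearMap.congr_fun hs₀ z
  obtain ⟨T, hT⟩ : ∃ T : (M →ₗ[B] M') → ((Fin n → B) →ₗ[B] (Fin n → B)),
      T = fun f => i ∘ₗ f ∘ₗ s₀ ∘ₗ π + (LinearMap.id - i ∘ₗ π) := ⟨_, rfl⟩
  have hTapp : ∀ f v, T f v = i (f (s₀ (π v))) + (v - i (π v)) := by
    intro f v
    rw [hT]
    simp only [LinearMap.add_apply, LinearMap.comp_apply, LinearMap.sub_apply, LinearMap.id_apply]
  have hcont : Continuous (fun f => (LinearMap.toMatrix' (T f)).det) := by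
    refine Continuous.matrix_det ?_
    refine continuous_pi fun a => continuous_pi fun b => ?_
    have : (fun f : M →ₗ[B] M' => LinearMap.toMatrix' (T f) a b) =
        fun f => ((LinearMap.proj a) ∘ₗ i ∘ₗ (LinearMap.applyₗ (s₀ (π (Pi.single b 1))))) f +
          ((Pi.single b 1 : Fin n → B) - i (π (Pi.single b 1))) a := by
      funext f
      rw [LinearMap.toMatrix'_apply, hTapp]
      simp only [LinearMap.comp_apply, LinearMap.applyₗ_apply_apply, LinearMap.proj_apply, Pi.add_apply]
    rw [this]
    exact (IsModuleTopology.continuous_of_linearMap _).add continuous_const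
  refine ⟨{f | IsUnit (LinearMap.toMatrix' (T f)).det}, ?_, hB.preimage hcont, ?_⟩
  · intro f hf y
    obtain ⟨A, hA⟩ : ∃ A, A = LinearMap.toMatrix' (T f) := ⟨_, rfl⟩
    have hAu : IsUnit A.det := hA ▸ hf
    obtain ⟨v, hv⟩ : ∃ v, v = A⁻¹.mulVec (i y) := ⟨_, rfl⟩
    have h1 : T f v = i y := by
      have : A.mulVec v = i y := by
        rw [hv, Matrix.mulVec_mulVec, Matrix.mul_nonsing_inv A hAu, Matrix.one_mulVec]
      rw [← this, hA, ← Matrix.toLin'_apply, Matrix.toLin'_toMatrix']
    refine ⟨s₀ (π v), ?_⟩
    have h2 := congrArg π h1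
    rw [hTapp, map_add, map_sub, hπi', hπi', hπi', sub_self, add_zero] at h2
    exact h2
  · show IsUnit (LinearMap.toMatrix' (T f₀)).det
    have : T f₀ = LinearMap.id := by
      refine LinearMap.ext fun v => ?_
      rw [hTapp, hs₀', LinearMap.id_apply, add_sub_cancel]
    rw [this, LinearMap.toMatrix'_id, Matrix.det_one]
    exact isUnit_one

end Groth.Agent.S15770
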