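import Groth.Statements.S15771
import Mathlib
-- import your own Groth.Agent.* helpers here

set_option autoImplicit false
universe u
open TensorProduct
open CAlg

namespace Groth.Agent.S15771

/-- For a ring map B₀ → B with dense image into a topological ring B, a finitely generated B₀-module M₀
and any topological B-module structure on M = B ⊗_{B₀} M₀, the natural map M₀ → M has dense image. -/
theorem result (B₀ B : Type u) [CommRing B₀] [CommRing B] [Algebra B₀ B]
    [TopologicalSpace B] [IsTopologicalRing B] (hφ : DenseRange (algebraMap B₀ B))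
    (M₀ : Type u) [AddCommGroup M₀] [Module B₀ M₀] [Module.Finite B₀ M₀]
    [TopologicalSpace (B ⊗[B₀] M₀)] [IsTopologicalAddGroup (B ⊗[B₀] M₀)] [ContinuousSMul B (B ⊗[B₀] M₀)] :
    DenseRange (fun m : M₀ => (1 : B) ⊗ₜ[B₀] m) := by
  classical
  obtain ⟨n, s, hs⟩ := Module.Finite.exists_fin (R := B₀) (M := M₀)
  let t : Fin n → B ⊗[B₀] M₀ := fun i => (1 : B) ⊗ₜ[B₀] s i
  let ψ : (Fin n → B) →ₗ[B] B ⊗[B₀] M₀ :=
    ∑ i, (LinearMap.proj (R := B) (φ := fun _ : Fin n => B) i).smulRight (t i)
  have hψ : ∀ b, ψ b = ∑ i, b i • t i := by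
    intro b
    simp [ψ, LinearMap.sum_apply]
  have hψc : Continuous ψ := by
    have : (ψ : (Fin n → B) → B ⊗[B₀] M₀) = fun b => ∑ i, b i • t i := funext hψ
    rw [this]
    refine continuous_finsetSum _ fun i _ => ?_
    have h1 : Continuous fun b : Fin n → B => b i := continuous_apply i
    have h2 : Continuous fun _ : Fin n → B => t i := continuous_const
    exact h1.smul h2
  have hψs : Function.Surjective ψ := by
    rw [← LinearMap.range_eq_top]
    rw [eq_top_iff]
    intro z hz
    clear hz
    induction z using TensorProduct.induction_on with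
    | zero => exact Submodule.zero_mem _
    | add x y hx hy => exact Submodule.add_mem _ hx hy
    | tmul b m =>
      have hm : m ∈ Submodule.span B₀ (Set.range s) := by rw [hs]; trivial
      induction hm using Submodule.span_induction generalizing b with
      | mem m hm =>
        obtain ⟨i, rfl⟩ := hm
        refine ⟨Pi.single i b, ?_⟩
        rw [hψ, Finset.sum_eq_single i]
        · simp [t, TensorProduct.smul_tmul']
        · intro j _ hj
          simp [Pi.single_eq_of_ne hj]
        · intro h; exact absurd (Finset.mem_univ i) h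
      | zero => rw [TensorProduct.tmul_zero]; exact Submodule.zero_mem _
      | add x y _ _ hx hy => rw [TensorProduct.tmul_add]; exact Submodule.add_mem _ (hx b) (hy b)
      | smul c x _ hx =>
        have : b ⊗ₜ[B₀] (c • x) = (c • b) ⊗ₜ[B₀] x := by
          rw [TensorProduct.smul_tmul]
        rw [this]
        exact hx _
  have hΦ : DenseRange (Pi.map fun (_ : Fin n) => (algebraMap B₀ B)) :=
    DenseRange.piMap fun _ => hφ
  have hcomp := hψs.denseRange.comp hΦ hψc
  refine hcomp.mono ?_
  rintro _ ⟨c, rfl⟩
  refine ⟨∑ i, c i • s i, ?_⟩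
  simp only [Function.comp_apply, hψ, Pi.map_apply, t]
  rw [TensorProduct.tmul_sum]
  apply Finset.sum_congr rfl
  intro i _
  rw [TensorProduct.tmul_smul, TensorProduct.smul_tmul', Algebra.smul_def, mul_one]
  rw [TensorProduct.smul_tmul', smul_eq_mul, mul_one]

end Groth.Agent.S15771
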