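import Groth.Statements.S15784
import Mathlib

set_option autoImplicit false
universe u
open Neron

namespace Groth.Agent.S15784

/-- Let O be a discrete valuation ring with fraction field L and uniformizer ϖ', let ϖ be an element of
the maximal ideal of O, let q = u·ϖ'^n with u a unit of O and n ≥ 1, and let m ≥ 1 be a divisor of
n. Then the following are equivalent: (i) there is a nonzero element z = w·ϖ'^a of L, with w a unit
of O and a an integer congruent to n/m modulo n, and an integer j such that z^m·q^j lies in 1 + ϖO;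
(ii) ϖ'^n/q is an m-th power in the group of units of O/ϖO, that is, u·(y^m + ϖ·r) = 1 for some y, r
∈ O. (The published statement phrases (i) geometrically, as the existence of a point of order m in
the special fibre of the Néron model of the Weil restriction of the Tate curve with parameter q from
L down to a subfield over which L is totally ramified with ϖ a uniformizer of the subfield, whose
image in the component group also has order m; this row states the equivalence between (i) and (ii)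
that the printed argument establishes.) -/
theorem result
    (O : Type u) [CommRing O] [IsDomain O] [IsDiscreteValuationRing O]
    (L : Type u) [Field L] [Algebra O L] [IsFractionRing O L]
    (ϖ' : O) (hϖ' : Irreducible ϖ') (ϖ : O) (hϖ : ϖ ∈ IsLocalRing.maximalIdeal O)
    (n : ℕ) (hn : 1 ≤ n) (u : Oˣ) (q : O) (hq : q = u * ϖ' ^ n)
    (m : ℕ) (hm : 1 ≤ m) (hmn : m ∣ n) :
    (∃ (w : Oˣ) (a j t : ℤ) (r : O), a = (n / m : ℕ) + t * n ∧
        (algebraMap O L w * algebraMap O L ϖ' ^ a) ^ m * algebraMap O L q ^ j = algebraMap O L (1 + ϖ * r)) ↔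
      ∃ y r : O, (u : O) * (y ^ m + ϖ * r) = 1 := by
  have hinj : Function.Injective (algebraMap O L) := IsFractionRing.injective O L
  have hπ0 : algebraMap O L ϖ' ≠ 0 := by
    intro h
    exact hϖ'.ne_zero (hinj (by rw [h, map_zero]))
  have hunit : ∀ x ∈ IsLocalRing.maximalIdeal O, IsUnit (1 + x) := by
    intro x hx
    by_contra hnu
    have h1 : (1 + x) ∈ IsLocalRing.maximalIdeal O := (IsLocalRing.mem_maximalIdeal _).mpr hnu
    have h2 : (1 : O) ∈ IsLocalRing.maximalIdeal O := by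
      have := Ideal.sub_mem _ h1 hx
      simpa using this
    exact (IsLocalRing.maximalIdeal.isMaximal O).ne_top ((Ideal.eq_top_iff_one _).mpr h2)
  have hZ : ∀ (k : ℤ) (c e : Oˣ),
      algebraMap O L (c : O) * algebraMap O L ϖ' ^ k = algebraMap O L (e : O) → k = 0 := by
    intro k c e h
    have hKey : ∀ K : ℕ, IsUnit (ϖ' ^ K) → K = 0 := by
      intro K hK
      by_contra hK0
      exact hϖ'.not_isUnit ((isUnit_pow_iff hK0).mp hK)
    obtain ⟨K, rfl | rfl⟩ := Int.eq_nat_or_neg k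
    · rw [zpow_natCast, ← map_pow, ← map_mul] at h
      have h2 := hinj h
      have h3 : IsUnit (ϖ' ^ K) := by
        have : ϖ' ^ K * (↑c * ↑(e⁻¹)) = 1 := by
          calc ϖ' ^ K * (↑c * ↑(e⁻¹)) = (↑c * ϖ' ^ K) * ↑(e⁻¹) := by ring
            _ = 1 := by rw [h2]; exact e.mul_inv
        exact IsUnit.of_mul_eq_one _ this
      simp [hKey K h3]
    · rw [zpow_neg, zpow_natCast, ← map_pow] at h
      have hne : algebraMap O L (ϖ' ^ K) ≠ 0 := by rw [map_pow]; exact pow_ne_zero _ hπ0
      have h1 : algebraMap O L (c : O) = algebraMap O L ((e : O) * ϖ' ^ K) := by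
        rw [map_mul, ← h, mul_assoc, inv_mul_cancel₀ hne, mul_one]
      have h2 := hinj h1
      have h3 : IsUnit (ϖ' ^ K) := by
        have : ϖ' ^ K * (↑e * ↑(c⁻¹)) = 1 := by
          calc ϖ' ^ K * (↑e * ↑(c⁻¹)) = (↑e * ϖ' ^ K) * ↑(c⁻¹) := by ring
            _ = 1 := by rw [← h2]; exact c.mul_inv
        exact IsUnit.of_mul_eq_one _ this
      simp [hKey K h3]
  have hNm : ((n / m : ℕ) : ℤ) * m = n := by
    have := Nat.div_mul_cancel hmn
    exact_mod_cast this
  constructor
  · rintro ⟨w, a, j, t, r, ha, heq⟩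
    obtain ⟨e, he⟩ := hunit (ϖ * r) (Ideal.mul_mem_right r _ hϖ)
    let ψ : Oˣ →* L := ((algebraMap O L : O →+* L) : O →* L).comp (Units.coeHom O)
    have hψ : ∀ x : Oˣ, ψ x = algebraMap O L (x : O) := fun x => rfl
    have hc : algebraMap O L ((w ^ m * u ^ j : Oˣ) : O) =
        algebraMap O L (w : O) ^ m * algebraMap O L (u : O) ^ j := by
      rw [← hψ, ← hψ, ← hψ, map_mul, map_pow, map_zpow]
    have heq2 : algebraMap O L ((w ^ m * u ^ j : Oˣ) : O) *
        algebraMap O L ϖ' ^ (a * m + n * j) = algebraMap O L (e : O) := by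
      rw [hc, he, ← heq, hq, map_mul, map_pow, mul_pow, mul_zpow, zpow_add₀ hπ0, zpow_mul,
        zpow_mul, zpow_natCast, zpow_natCast]
      ring
    have hk := hZ _ _ _ heq2
    have hj : j = -1 - t * m := by
      have h0 : (n : ℤ) * (1 + t * m + j) = 0 := by
        rw [ha] at hk
        linear_combination hk - hNm
      have hn0 : (n : ℤ) ≠ 0 := by exact_mod_cast (by omega : n ≠ 0)
      rcases mul_eq_zero.mp h0 with h | h
      · exact absurd h hn0
      · linarith
    have hce : ((w ^ m * u ^ j : Oˣ) : O) = (e : O) := by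
      apply hinj
      rw [← heq2, hk, zpow_zero, mul_one]
    have hce' : w ^ m * u ^ j = e := Units.ext hce
    have hgrp : u * (w⁻¹ * u ^ t) ^ m = e⁻¹ := by
      rw [← hce', hj]
      rw [mul_pow, inv_pow, mul_inv, ← zpow_natCast (u ^ t) m, ← zpow_mul, ← zpow_neg, neg_sub,
        sub_neg_eq_add, zpow_add_one, mul_left_comm u ((w ^ m)⁻¹) (u ^ (t * (m : ℤ))), mul_comm u]
    have h1 : (u : O) * ((w⁻¹ * u ^ t : Oˣ) : O) ^ m = ((e⁻¹ : Oˣ) : O) := by
      rw [← hgrp]
      simp only [Units.val_mul, Units.val_pow_eq_pow_val]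
    refine ⟨((w⁻¹ * u ^ t : Oˣ) : O), ((u⁻¹ : Oˣ) : O) * r * ((e⁻¹ : Oˣ) : O), ?_⟩
    calc (u : O) * (((w⁻¹ * u ^ t : Oˣ) : O) ^ m + ϖ * (((u⁻¹ : Oˣ) : O) * r * ((e⁻¹ : Oˣ) : O)))
        = (u : O) * ((w⁻¹ * u ^ t : Oˣ) : O) ^ m +
            ((u : O) * ((u⁻¹ : Oˣ) : O)) * (ϖ * r) * ((e⁻¹ : Oˣ) : O) := by ring
      _ = ((e⁻¹ : Oˣ) : O) + 1 * (ϖ * r) * ((e⁻¹ : Oˣ) : O) := by rw [h1, u.mul_inv]
      _ = (1 + ϖ * r) * ((e⁻¹ : Oˣ) : O) := by ring
      _ = 1 := by rw [← he]; exact e.mul_inv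
  · rintro ⟨y, r, h⟩
    have hval : (u : O) * y ^ m = 1 + ϖ * (-((u : O) * r)) := by linear_combination h
    have hu1 : IsUnit ((u : O) * y ^ m) := by
      rw [hval]; exact hunit _ (Ideal.mul_mem_right _ _ hϖ)
    have hym : IsUnit (y ^ m) := (IsUnit.mul_iff.mp hu1).2
    have hy : IsUnit y := (isUnit_pow_iff (by omega : m ≠ 0)).mp hym
    obtain ⟨y', rfl⟩ := hy
    refine ⟨y'⁻¹, ((n / m : ℕ) : ℤ), -1, 0, (u : O) * r * (((u * y' ^ m)⁻¹ : Oˣ) : O),
      by simp, ?_⟩
    have hz : (1 : O) + ϖ * ((u : O) * r * (((u * y' ^ m)⁻¹ : Oˣ) : O)) =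
        (((u * y' ^ m)⁻¹ : Oˣ) : O) := by
      have h1 : ((u * y' ^ m : Oˣ) : O) = 1 - ϖ * ((u : O) * r) := by
        rw [Units.val_mul, Units.val_pow_eq_pow_val]; linear_combination h
      have h2 : ((u * y' ^ m : Oˣ) : O) * (((u * y' ^ m)⁻¹ : Oˣ) : O) = 1 := Units.mul_inv _
      linear_combination (-1 : O) * h2 + (((u * y' ^ m)⁻¹ : Oˣ) : O) * h1
    rw [hz]
    have hU : algebraMap O L (u : O) ≠ 0 := by
      intro h0
      exact u.ne_zero (hinj (by rw [h0, map_zero]))
    have hY : algebraMap O L (y' : O) ≠ 0 := by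
      intro h0
      exact y'.ne_zero (hinj (by rw [h0, map_zero]))
    rw [zpow_natCast, zpow_neg_one, hq, map_mul, map_pow, mul_pow, ← pow_mul,
      Nat.div_mul_cancel hmn]
    have e1 : algebraMap O L ((y'⁻¹ : Oˣ) : O) = (algebraMap O L (y' : O))⁻¹ :=
      map_units_inv _ _
    have e2 : algebraMap O L (((u * y' ^ m)⁻¹ : Oˣ) : O) =
        (algebraMap O L (u : O) * (algebraMap O L (y' : O)) ^ m)⁻¹ := by
      rw [map_units_inv, Units.val_mul, Units.val_pow_eq_pow_val, map_mul, map_pow]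
    rw [e1, e2]
    field_simp
    rw [one_div, inv_pow, inv_mul_cancel₀ (pow_ne_zero _ hY)]

end Groth.Agent.S15784
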