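import Groth.Statements.S15795
import Mathlib
-- import your own Groth.Agent.* helpers here

set_option autoImplicit false
universe u v
open WildQuot

namespace Groth.Agent.S15795

/-- Let `A` be a regular local ring of Krull dimension `n` with maximal ideal `m`, let a finite group
`G` act on `A` by ring automorphisms inducing the identity on the residue field, and let `u_1, …,
u_n` generate `m`. Suppose that for every `σ ∈ G` and every `i`, `σ u_i ∈ (u_1, …, u_i) + m ^ 2`,
i.e. the induced linear maps of `m / m ^ 2` are upper triangular in the basis given by the `u_i`.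
Then the system `u` is admissible: for every choice `σ_1, …, σ_n ∈ G` the elements `σ_1 u_1, …, σ_n
u_n` generate `m`. (The published statement is for a complete regular local ring containing a
`G`-fixed field of representatives; this row drops completeness and asks only that `G` act trivially
on the residue field.) -/
theorem result
    (A : Type u) [CommRing A] [IsRegularLocalRing A]
    (G : Type v) [Group G] [Finite G] [MulSemiringAction G A]
    (hres : ∀ (σ : G) (a : A), σ • a - a ∈ IsLocalRing.maximalIdeal A)
    (n : ℕ) (hn : ringKrullDim A = n) (u : Fin n → A)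
    (hu : Ideal.span (Set.range u) = IsLocalRing.maximalIdeal A)
    (htri : ∀ (σ : G) (i : Fin n),
      σ • u i ∈ Ideal.span (u '' {j | j ≤ i}) ⊔ IsLocalRing.maximalIdeal A ^ 2) :
    ∀ τ : Fin n → G,
      Ideal.span (Set.range fun i => τ i • u i) = IsLocalRing.maximalIdeal A := by
  classical
  intro τ
  have hm_smul : ∀ (σ : G) (a : A), a ∈ IsLocalRing.maximalIdeal A →
      σ • a ∈ IsLocalRing.maximalIdeal A := by
    intro σ a ha
    rw [IsLocalRing.mem_maximalIdeal, mem_nonunits_iff] at ha ⊢
    intro hunit
    apply ha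
    have := hunit.map (MulSemiringAction.toRingHom G A σ⁻¹)
    simpa using this
  have hm2_smul : ∀ (σ : G) (a : A), a ∈ IsLocalRing.maximalIdeal A ^ 2 →
      σ • a ∈ IsLocalRing.maximalIdeal A ^ 2 := by
    intro σ a ha
    rw [pow_two] at ha ⊢
    refine Submodule.mul_induction_on ha ?_ ?_
    · intro x hx y hy
      rw [smul_mul']
      exact Ideal.mul_mem_mul (hm_smul σ x hx) (hm_smul σ y hy)
    · intro x y hx hy
      rw [smul_add]
      exact add_mem hx hy
  obtain ⟨F, hF⟩ : ∃ F : ℕ → Ideal A, F = fun k =>
      Ideal.span (u '' {j : Fin n | j.val < k}) ⊔ IsLocalRing.maximalIdeal A ^ 2 := ⟨_, rfl⟩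
  obtain ⟨T, hT⟩ : ∃ T : ℕ → Ideal A, T = fun k =>
      Ideal.span ((fun j => τ j • u j) '' {j : Fin n | j.val < k}) ⊔
        IsLocalRing.maximalIdeal A ^ 2 := ⟨_, rfl⟩
  have hinv : ∀ (σ : G) (k : ℕ) (x : A), x ∈ F k → σ • x ∈ F k := by
    intro σ k x hx
    rw [hF] at hx ⊢
    obtain ⟨y, hy, z, hz, rfl⟩ := Submodule.mem_sup.1 hx
    rw [smul_add]
    apply add_mem
    · refine Submodule.span_induction (p := fun y _ => σ • y ∈
        Ideal.span (u '' {j : Fin n | j.val < k}) ⊔ IsLocalRing.maximalIdeal A ^ 2)
        ?_ ?_ ?_ ?_ hy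
      · rintro _ ⟨j, hj, rfl⟩
        have hle : Ideal.span (u '' {l | l ≤ j}) ⊔ IsLocalRing.maximalIdeal A ^ 2 ≤
            Ideal.span (u '' {j : Fin n | j.val < k}) ⊔ IsLocalRing.maximalIdeal A ^ 2 := by
          refine sup_le_sup_right (Ideal.span_mono (Set.image_mono ?_)) _
          intro l hl
          exact lt_of_le_of_lt (Fin.le_def.1 hl) hj
        exact hle (htri σ j)
      · rw [smul_zero]
        exact zero_mem _
      · intro a b _ _ ha hb
        rw [smul_add]
        exact add_mem ha hb
      · intro a b _ hb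
        rw [smul_eq_mul, smul_mul']
        exact Ideal.mul_mem_left _ _ hb
    · exact Ideal.mem_sup_right (hm2_smul σ z hz)
  have hmain : ∀ k : ℕ, k ≤ n → F k ≤ T k := by
    intro k
    induction k with
    | zero =>
      intro _
      rw [hF, hT]
      have e : {j : Fin n | (j : ℕ) < 0} = ∅ := by
        ext j
        simp
      simp only [e, Set.image_empty]
      exact le_refl _
    | succ k ih =>
      intro hk
      have ih' : F k ≤ T k := ih (Nat.le_of_succ_le hk)
      have hmono : T k ≤ T (k + 1) := by
        rw [hT]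
        exact sup_le_sup_right (Ideal.span_mono (Set.image_mono
          (fun l hl => Nat.lt_succ_of_lt hl))) _
      have hdecomp : F (k + 1) ≤ F k ⊔ Ideal.span {u ⟨k, hk⟩} := by
        rw [hF]
        apply sup_le
        · rw [Ideal.span_le]
          rintro _ ⟨j, hj, rfl⟩
          by_cases hjk : j.val < k
          · exact Ideal.mem_sup_left (Ideal.mem_sup_left (Ideal.subset_span ⟨j, hjk, rfl⟩))
          · have hj' : j.val < k + 1 := hj
            have : j = ⟨k, hk⟩ := Fin.ext (by simp only; omega)
            rw [this]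
            exact Ideal.mem_sup_right (Ideal.subset_span rfl)
        · exact le_sup_of_le_left le_sup_right
      have hu0 : u ⟨k, hk⟩ ∈ F (k + 1) := by
        rw [hF]
        exact Ideal.mem_sup_left (Ideal.subset_span ⟨⟨k, hk⟩, Nat.lt_succ_self k, rfl⟩)
      have h1 : (τ ⟨k, hk⟩)⁻¹ • u ⟨k, hk⟩ ∈ F (k + 1) := hinv _ _ _ hu0
      obtain ⟨f, hf, z, hz, hfz⟩ := Submodule.mem_sup.1 (hdecomp h1)
      obtain ⟨c, rfl⟩ := Ideal.mem_span_singleton'.1 hz
      have h2 := congrArg (fun x => τ ⟨k, hk⟩ • x) hfz
      simp only [smul_add, smul_mul', smul_inv_smul] at h2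
      have hkey : u ⟨k, hk⟩ ∈ T (k + 1) := by
        rw [← h2]
        apply add_mem
        · exact hmono (ih' (hinv _ _ _ hf))
        · apply Ideal.mul_mem_left
          rw [hT]
          exact Ideal.mem_sup_left (Ideal.subset_span ⟨⟨k, hk⟩, Nat.lt_succ_self k, rfl⟩)
      refine hdecomp.trans (sup_le (ih'.trans hmono) ?_)
      rw [Ideal.span_le]
      intro x hx
      rw [Set.mem_singleton_iff] at hx
      rw [hx]
      exact hkey
  apply le_antisymm
  · rw [Ideal.span_le]
    rintro _ ⟨i, rfl⟩
    apply hm_smul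
    rw [← hu]
    exact Ideal.subset_span ⟨i, rfl⟩
  · refine Submodule.le_of_le_smul_of_le_jacobson_bot (I := IsLocalRing.maximalIdeal A)
      (IsNoetherian.noetherian _)
      (le_of_eq (IsLocalRing.jacobson_eq_maximalIdeal ⊥ bot_ne_top).symm) ?_
    have h1 : IsLocalRing.maximalIdeal A ≤ F n := by
      rw [← hu, hF]
      refine le_sup_of_le_left (Ideal.span_mono ?_)
      rintro _ ⟨j, rfl⟩
      exact ⟨j, j.2, rfl⟩
    have h2 : T n ≤ Ideal.span (Set.range fun i => τ i • u i) ⊔
        IsLocalRing.maximalIdeal A • IsLocalRing.maximalIdeal A := by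
      rw [hT, smul_eq_mul, ← pow_two]
      exact sup_le_sup_right (Ideal.span_mono (Set.image_subset_range _ _)) _
    exact h1.trans ((hmain n le_rfl).trans h2)

end Groth.Agent.S15795
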