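import Groth.Statements.S15811
import Mathlib
-- import your own Groth.Agent.* helpers here

set_option autoImplicit false
universe u
open WildQuot

namespace Groth.Agent.S15811

/-- Let `R` be an integrally closed domain of prime characteristic `p` with fraction field `K`, and `α ∈
R`. Then `α ≠ 0` and the polynomial `T ^ p - α T` splits into linear factors over `K` — which says
that the finite flat group scheme `Spec R[T]/(T ^ p - α T)` of order `p` has constant generic fibre
(its `p` roots are then distinct) — if and only if `α = a ^ (p-1)` for some nonzero `a ∈ R`. (The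
published statement is that the generic fibre of the finite flat group scheme of order `p` with
parameters `α, β` satisfying `α β = 0`, whose underlying scheme is `Spec R[T]/(T ^ p - α T)`, is
constant if and only if `β = 0` and `α` is the `(p-1)`-th power of a nonzero element of `R`; this
row states the polynomial condition, in which `α ≠ 0` already forces `β = 0` over a domain.) -/
theorem result
    (p : ℕ) [Fact p.Prime] (R : Type u) [CommRing R] [IsDomain R] [IsIntegrallyClosed R]
    [CharP R p] (α : R) :
    (α ≠ 0 ∧ (Polynomial.map (algebraMap R (FractionRing R))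
        (Polynomial.X ^ p - Polynomial.C α * Polynomial.X)).Splits) ↔
      ∃ a : R, a ≠ 0 ∧ α = a ^ (p - 1) := by
  classical
  have hp := (Fact.out : p.Prime)
  have hp2 : 2 ≤ p := hp.two_le
  have hinj : Function.Injective (algebraMap R (FractionRing R)) :=
    IsFractionRing.injective R (FractionRing R)
  haveI : CharP (FractionRing R) p := charP_of_injective_algebraMap hinj p
  have hmap : Polynomial.map (algebraMap R (FractionRing R))
      (Polynomial.X ^ p - Polynomial.C α * Polynomial.X) =
      Polynomial.X ^ p - Polynomial.C (algebraMap R (FractionRing R) α) * Polynomial.X := by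
    simp
  rw [hmap]
  have hp1 : 0 < p - 1 := by omega
  constructor
  · rintro ⟨hα, hs⟩
    have hfact : (Polynomial.X ^ p - Polynomial.C (algebraMap R (FractionRing R) α) * Polynomial.X :
        Polynomial (FractionRing R)) =
        Polynomial.X * (Polynomial.X ^ (p - 1) -
          Polynomial.C (algebraMap R (FractionRing R) α)) := by
      have : p = (p - 1) + 1 := by omega
      conv_lhs => rw [this, pow_succ']
      ring
    have hg0 : (Polynomial.X ^ (p - 1) - Polynomial.C (algebraMap R (FractionRing R) α) :
        Polynomial (FractionRing R)) ≠ 0 := Polynomial.X_pow_sub_C_ne_zero hp1 _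
    have hf0 : (Polynomial.X ^ p - Polynomial.C (algebraMap R (FractionRing R) α) * Polynomial.X :
        Polynomial (FractionRing R)) ≠ 0 := by
      rw [hfact]
      exact mul_ne_zero Polynomial.X_ne_zero hg0
    have hgs : (Polynomial.X ^ (p - 1) - Polynomial.C (algebraMap R (FractionRing R) α) :
        Polynomial (FractionRing R)).Splits :=
      Polynomial.Splits.of_dvd hs hf0 ⟨Polynomial.X, by rw [hfact]; ring⟩
    have hdeg : (Polynomial.X ^ (p - 1) - Polynomial.C (algebraMap R (FractionRing R) α) :
        Polynomial (FractionRing R)).degree ≠ 0 := by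
      rw [Polynomial.degree_X_pow_sub_C hp1]
      exact_mod_cast hp1.ne'
    obtain ⟨x, hx⟩ := hgs.exists_eval_eq_zero hdeg
    simp only [Polynomial.eval_sub, Polynomial.eval_pow, Polynomial.eval_X,
      Polynomial.eval_C] at hx
    have hxα : x ^ (p - 1) = algebraMap R (FractionRing R) α := sub_eq_zero.1 hx
    have hint : IsIntegral R x := by
      refine ⟨Polynomial.X ^ (p - 1) - Polynomial.C α, Polynomial.monic_X_pow_sub_C α hp1.ne', ?_⟩
      simp [hxα]
    obtain ⟨a, ha⟩ := IsIntegrallyClosed.algebraMap_eq_of_integral hint
    refine ⟨a, ?_, ?_⟩
    · rintro rfl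
      apply hα
      apply hinj
      rw [← hxα, ← ha, map_zero, zero_pow hp1.ne']
    · apply hinj
      rw [map_pow, ha, hxα]
  · rintro ⟨a, ha, rfl⟩
    refine ⟨pow_ne_zero _ ha, ?_⟩
    obtain ⟨b, hbdef⟩ : ∃ b, b = algebraMap R (FractionRing R) a := ⟨_, rfl⟩
    have hb : b ≠ 0 := by
      rw [hbdef]
      exact fun h => ha (hinj (by rw [h, map_zero]))
    rw [map_pow, ← hbdef]
    have hnat : (Polynomial.X ^ p - Polynomial.C (b ^ (p - 1)) * Polynomial.X :
        Polynomial (FractionRing R)).natDegree = p := by
      rw [Polynomial.natDegree_sub_eq_left_of_natDegree_lt]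
      · exact Polynomial.natDegree_X_pow p
      · rw [Polynomial.natDegree_X_pow]
        refine (Polynomial.natDegree_C_mul_le _ _).trans_lt ?_
        rw [Polynomial.natDegree_X]
        omega
    have hf0 : (Polynomial.X ^ p - Polynomial.C (b ^ (p - 1)) * Polynomial.X :
        Polynomial (FractionRing R)) ≠ 0 := by
      intro h
      rw [h, Polynomial.natDegree_zero] at hnat
      omega
    have hcast : ∀ c : ℕ, ((c : FractionRing R)) ^ p = c := by
      intro c
      induction c with
      | zero => simp [hp.ne_zero]
      | succ c ih => rw [Nat.cast_succ, add_pow_char, ih, one_pow]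
    rw [Polynomial.splits_iff_card_roots, hnat]
    apply le_antisymm
    · exact (Polynomial.card_roots' _).trans (le_of_eq hnat)
    · obtain ⟨s, hs⟩ : ∃ s : Finset (FractionRing R),
          s = (Finset.range p).image (fun c : ℕ => (c : FractionRing R) * b) := ⟨_, rfl⟩
      have hcard : s.card = p := by
        rw [hs, Finset.card_image_of_injOn, Finset.card_range]
        intro c hc c' hc' h
        have h' : (c : FractionRing R) = c' := mul_right_cancel₀ hb h
        exact CharP.natCast_injOn_Iio (FractionRing R) p (by simpa using hc) (by simpa using hc') h'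
      have hsub : s.val ≤ (Polynomial.X ^ p - Polynomial.C (b ^ (p - 1)) * Polynomial.X :
          Polynomial (FractionRing R)).roots := by
        rw [Multiset.le_iff_subset s.nodup]
        intro x hx
        rw [Finset.mem_val, hs, Finset.mem_image] at hx
        obtain ⟨c, _, rfl⟩ := hx
        rw [Polynomial.mem_roots hf0, Polynomial.IsRoot.def]
        simp only [Polynomial.eval_sub, Polynomial.eval_pow, Polynomial.eval_X,
          Polynomial.eval_mul, Polynomial.eval_C]
        rw [mul_pow, hcast]
        have : b ^ p = b ^ (p - 1) * b := by
          rw [← pow_succ]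
          congr 1
          omega
        rw [this]
        ring
      calc p = s.card := hcard.symm
        _ = Multiset.card s.val := rfl
        _ ≤ _ := Multiset.card_le_card hsub

end Groth.Agent.S15811
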