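import Groth.Statements.S15832
import Mathlib
-- import your own Groth.Agent.* helpers here

set_option autoImplicit false
universe u
open TopGrp

namespace Groth.Agent.S15832

theorem helper8_nonarch {G : Type u} [Group G] {ι : Type*} (H : ι → Subgroup G) :
    @NonarchimedeanGroup G _ (TopologicalSpace.generateFrom
      {S : Set G | ∃ (i : ι) (x y : G), S = (fun g : G => x * g * y) '' (H i : Set G)}) := by
  set B : Set (Set G) :=
    {S : Set G | ∃ (i : ι) (x y : G), S = (fun g : G => x * g * y) '' (H i : Set G)} with hB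
  letI t' : TopologicalSpace G := TopologicalSpace.generateFrom B
  have hopen : ∀ (i : ι) (x y : G), IsOpen ((fun g : G => x * g * y) '' (H i : Set G)) :=
    fun i x y => TopologicalSpace.isOpen_generateFrom_of_mem ⟨i, x, y, rfl⟩
  have hinv : Continuous (fun g : G => g⁻¹) := by
    apply continuous_generateFrom_iff.mpr
    rintro s ⟨i, x, y, rfl⟩
    have : (fun g : G => g⁻¹) ⁻¹' ((fun g : G => x * g * y) '' (H i : Set G)) =
        (fun g : G => y⁻¹ * g * x⁻¹) '' (H i : Set G) := by
      ext g
      simp only [Set.mem_preimage, Set.mem_image, SetLike.mem_coe]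
      constructor
      · rintro ⟨h, hh, hg⟩
        refine ⟨h⁻¹, (H i).inv_mem hh, ?_⟩
        rw [← inv_inj, ← hg]
        group
      · rintro ⟨h, hh, rfl⟩
        refine ⟨h⁻¹, (H i).inv_mem hh, ?_⟩
        group
    rw [this]
    exact hopen i _ _
  have hmul : Continuous (fun p : G × G => p.1 * p.2) := by
    apply continuous_generateFrom_iff.mpr
    rintro s ⟨i, x, y, rfl⟩
    rw [isOpen_prod_iff]
    rintro a b ⟨γ, hγ, hab⟩
    have hab' : x * γ * y = a * b := hab
    refine ⟨(fun g => (a * b * y⁻¹) * g * (y * b⁻¹)) '' (H i : Set G),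
      (fun g => (b * y⁻¹) * g * y) '' (H i : Set G), hopen _ _ _, hopen _ _ _,
      ⟨1, (H i).one_mem, by group⟩, ⟨1, (H i).one_mem, by group⟩, ?_⟩
    rintro ⟨u, v⟩ ⟨⟨h1, hh1, rfl⟩, ⟨h2, hh2, rfl⟩⟩
    refine ⟨γ * h1 * h2, (H i).mul_mem ((H i).mul_mem hγ hh1) hh2, ?_⟩
    change x * (γ * h1 * h2) * y = (a * b * y⁻¹ * h1 * (y * b⁻¹)) * (b * y⁻¹ * h2 * y)
    calc x * (γ * h1 * h2) * y = (x * γ * y) * y⁻¹ * h1 * h2 * y := by group
      _ = (a * b) * y⁻¹ * h1 * h2 * y := by rw [hab']
      _ = _ := by group
  have htg : IsTopologicalGroup G :=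
    { toContinuousMul := ⟨hmul⟩, toContinuousInv := ⟨hinv⟩ }
  have key : ∀ t : Set G, IsOpen t → ∀ g ∈ t,
      ∃ V : OpenSubgroup G, (fun v => g * v) '' (V : Set G) ⊆ t := by
    intro t ht
    have ht' : TopologicalSpace.GenerateOpen B t := ht
    induction ht' with
    | basic s hs =>
      obtain ⟨i, x, y, rfl⟩ := hs
      rintro g ⟨γ, hγ, rfl⟩
      let K : Subgroup G := (H i).map (MulAut.conj y⁻¹).toMonoidHom
      have hK : (K : Set G) = (fun h => y⁻¹ * h * y) '' (H i : Set G) := by
        ext z
        simp [K, Subgroup.mem_map, MulAut.conj_apply]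
      have hKo : IsOpen (K : Set G) := by
        rw [hK]
        exact hopen i _ _
      refine ⟨⟨K, hKo⟩, ?_⟩
      rintro _ ⟨v, hv, rfl⟩
      change v ∈ (K : Set G) at hv
      rw [hK] at hv
      obtain ⟨h, hh, rfl⟩ := hv
      exact ⟨γ * h, (H i).mul_mem hγ hh, by group⟩
    | univ =>
      intro g _
      exact ⟨⊤, Set.subset_univ _⟩
    | inter s t hs ht' ihs iht =>
      rintro g ⟨hgs, hgt⟩
      obtain ⟨V1, h1⟩ := ihs hs g hgs
      obtain ⟨V2, h2⟩ := iht ht' g hgt
      refine ⟨V1 ⊓ V2, ?_⟩
      rintro _ ⟨v, hv, rfl⟩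
      rw [OpenSubgroup.coe_inf] at hv
      exact ⟨h1 ⟨v, hv.1, rfl⟩, h2 ⟨v, hv.2, rfl⟩⟩
    | sUnion S hS ih =>
      rintro g ⟨s, hs, hgs⟩
      obtain ⟨V, hV⟩ := ih s hs (hS s hs) g hgs
      exact ⟨V, hV.trans (Set.subset_sUnion_of_mem hs)⟩
  refine @NonarchimedeanGroup.mk G _ t' htg ?_
  intro U hU
  obtain ⟨t, htU, hto, h1t⟩ := mem_nhds_iff.mp hU
  obtain ⟨V, hV⟩ := key t hto 1 h1t
  exact ⟨V, fun v hv => htU (hV ⟨v, hv, one_mul v⟩)⟩


/-- For a group T with a topology, let B be the family of two-sided translates x Γ y, where Γ runs over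
the subgroups of T open in the given topology and x, y over T; the topology generated by B makes T a
topological group in which every neighbourhood of the identity contains a subgroup open for that
topology. (The published statement is for the free topological product of two Noohi groups whose
open subgroups form a basis of neighbourhoods of the identity; the argument uses only the group
structure and the chosen family of subgroups, so the row is stated for an arbitrary group with a
topology. The published conventions include Hausdorffness in the word topological group; this row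
does not assert it, and the published argument does not prove it.) -/
theorem result (T : Type u) [Group T]
    [TopologicalSpace T] :
    @NonarchimedeanGroup T _ (TopologicalSpace.generateFrom
      {S : Set T | ∃ (Γ : OpenSubgroup T) (x y : T), S = (fun g : T => x * g * y) '' (Γ : Set T)}) := by
  exact helper8_nonarch (fun Γ : OpenSubgroup T => Γ.toSubgroup)

end Groth.Agent.S15832
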