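import Groth.Statements.S15833
import Mathlib

set_option autoImplicit false
universe u
open EtBase

namespace Groth.Agent.S15833

open CategoryTheory CategoryTheory.Limits AlgebraicGeometry in
lemma ker_eq_of_reduced' {Y X : Scheme.{u}} (f : Y ⟶ X) [IsReduced Y] :
    f.ker = Scheme.IdealSheafData.vanishingIdeal ⟨closure (Set.range f), isClosed_closure⟩ := by
  have h1 : f.ker = Scheme.IdealSheafData.vanishingIdeal
      (.closure (f '' (⊤ : TopologicalSpace.Closeds Y))) := by
    rw [← Scheme.IdealSheafData.map_vanishingIdeal, Scheme.IdealSheafData.vanishingIdeal_top,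
      Scheme.nilradical_eq_bot, Scheme.IdealSheafData.map_bot]
  rw [h1]
  congr 1
  apply TopologicalSpace.Closeds.ext
  simp [TopologicalSpace.Closeds.closure]

open CategoryTheory CategoryTheory.Limits AlgebraicGeometry in
lemma exists_factor_of_reduced {T X₀ X : Scheme.{u}} (i : X₀ ⟶ X) [IsClosedImmersion i]
    [Surjective i] (b : T ⟶ X) [IsReduced T] : ∃ b₀ : T ⟶ X₀, b₀ ≫ i = b := by
  have h1 : i.ker ≤ Scheme.IdealSheafData.vanishingIdeal ⊤ := by
    rw [← Scheme.IdealSheafData.le_support_iff_le_vanishingIdeal]
    intro x _
    exact i.range_subset_ker_support (i.surjective x)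
  have h2 : Scheme.IdealSheafData.vanishingIdeal (⊤ : TopologicalSpace.Closeds X) ≤ b.ker := by
    rw [ker_eq_of_reduced' b]
    exact Scheme.IdealSheafData.vanishingIdeal_antimono le_top
  exact ⟨IsClosedImmersion.lift i b (h1.trans h2), IsClosedImmersion.lift_fac i b _⟩

open CategoryTheory CategoryTheory.Limits AlgebraicGeometry in
/-- Let i : X₀ ⟶ X be a surjective closed immersion of schemes and f : Y ⟶ X a morphism. Then f
satisfies the valuative criterion (existence and uniqueness of a lift in every valuative square,
over arbitrary valuation rings) if and only if its base change Y ×_X X₀ ⟶ X₀ does. (The published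
statement takes X locally Noetherian and connected, X₀ the reduced closed subscheme with the same
underlying space and f étale, and combines this step with the equivalence between étale schemes over
X and over X₀ to identify the geometric coverings, i.e. the étale morphisms satisfying the valuative
criterion, of X and of X₀; the argument for this step uses only that X₀ ⟶ X is a surjective closed
immersion and that valuation rings are reduced.) -/
theorem result {X X₀ Y : Scheme.{u}} (i : X₀ ⟶ X)
    [IsClosedImmersion i] [Surjective i] (f : Y ⟶ X) :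
    ValuativeCriterion f ↔ ValuativeCriterion (pullback.snd f i) := by
  rw [ValuativeCriterion.iff, ValuativeCriterion.iff]
  constructor
  · rintro ⟨hE, hU⟩
    -- the square over f attached to a square over the base change
    let mkS : ValuativeCommSq (pullback.snd f i) → ValuativeCommSq f := fun S' =>
      { R := S'.R, K := S'.K, i₁ := S'.i₁ ≫ pullback.fst f i, i₂ := S'.i₂ ≫ i,
        commSq := ⟨by
          rw [Category.assoc, pullback.condition, ← Category.assoc, S'.commSq.w,
            Category.assoc]⟩ }
    constructor
    · intro S'
      obtain ⟨⟨l⟩⟩ := hE (mkS S')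
      have hl1 : Spec.map (CommRingCat.ofHom (algebraMap S'.R S'.K)) ≫ l.l =
          S'.i₁ ≫ pullback.fst f i := l.fac_left
      have hl2 : l.l ≫ f = S'.i₂ ≫ i := l.fac_right
      refine ⟨⟨{ l := pullback.lift l.l S'.i₂ hl2, fac_left := ?_, fac_right := ?_ }⟩⟩
      · apply pullback.hom_ext
        · rw [Category.assoc, pullback.lift_fst, hl1]
        · rw [Category.assoc, pullback.lift_snd, S'.commSq.w]
      · exact pullback.lift_snd _ _ _
    · intro S'
      constructor
      intro l₁ l₂
      let key : ∀ l : S'.commSq.LiftStruct, (mkS S').commSq.LiftStruct := fun l =>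
        { l := l.l ≫ pullback.fst f i
          fac_left := by
            show _ ≫ l.l ≫ pullback.fst f i = S'.i₁ ≫ pullback.fst f i
            rw [← Category.assoc, l.fac_left]
          fac_right := by
            show (l.l ≫ pullback.fst f i) ≫ f = S'.i₂ ≫ i
            rw [Category.assoc, pullback.condition, ← Category.assoc, l.fac_right] }
      have h12 : key l₁ = key l₂ := (hU (mkS S')).elim _ _
      have h12' : l₁.l ≫ pullback.fst f i = l₂.l ≫ pullback.fst f i := congrArg (·.l) h12
      apply CommSq.LiftStruct.ext
      apply pullback.hom_ext h12'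
      rw [l₁.fac_right, l₂.fac_right]
  · rintro ⟨hE, hU⟩
    have hfac : ∀ S : ValuativeCommSq f, ∃ b₀ : Spec (CommRingCat.of S.R) ⟶ X₀, b₀ ≫ i = S.i₂ :=
      fun S => exists_factor_of_reduced i S.i₂
    choose b₀ hb₀ using hfac
    let mkS' : ValuativeCommSq f → ValuativeCommSq (pullback.snd f i) := fun S =>
      { R := S.R, K := S.K,
        i₁ := pullback.lift S.i₁ (Spec.map (CommRingCat.ofHom (algebraMap S.R S.K)) ≫ b₀ S)
          (by rw [S.commSq.w, Category.assoc, hb₀]),
        i₂ := b₀ S,
        commSq := ⟨pullback.lift_snd _ _ _⟩ }
    constructor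
    · intro S
      obtain ⟨⟨l⟩⟩ := hE (mkS' S)
      have hl1 : Spec.map (CommRingCat.ofHom (algebraMap S.R S.K)) ≫ l.l =
          pullback.lift S.i₁ (Spec.map (CommRingCat.ofHom (algebraMap S.R S.K)) ≫ b₀ S)
          (by rw [S.commSq.w, Category.assoc, hb₀]) := l.fac_left
      have hl2 : l.l ≫ pullback.snd f i = b₀ S := l.fac_right
      refine ⟨⟨{ l := l.l ≫ pullback.fst f i, fac_left := ?_, fac_right := ?_ }⟩⟩
      · rw [← Category.assoc, hl1, pullback.lift_fst]
      · rw [Category.assoc, pullback.condition, ← Category.assoc, hl2, hb₀]
    · intro S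
      constructor
      intro l₁ l₂
      let key : ∀ l : S.commSq.LiftStruct, (mkS' S).commSq.LiftStruct := fun l =>
        { l := pullback.lift l.l (b₀ S) (by rw [l.fac_right, hb₀])
          fac_left := by
            show _ ≫ pullback.lift l.l (b₀ S) _ = pullback.lift S.i₁ _ _
            apply pullback.hom_ext
            · rw [Category.assoc, pullback.lift_fst, pullback.lift_fst, l.fac_left]
            · rw [Category.assoc, pullback.lift_snd, pullback.lift_snd]
          fac_right := pullback.lift_snd _ _ _ }
      have h12 : key l₁ = key l₂ := (hU (mkS' S)).elim _ _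
      have h12' : pullback.lift l₁.l (b₀ S) (by rw [l₁.fac_right, hb₀]) =
          pullback.lift l₂.l (b₀ S) (by rw [l₂.fac_right, hb₀]) := congrArg (·.l) h12
      apply CommSq.LiftStruct.ext
      have := congrArg (· ≫ pullback.fst f i) h12'
      simpa [pullback.lift_fst] using this

end Groth.Agent.S15833
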