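import Groth.Statements.S15835
import Mathlib
-- import your own Groth.Agent.* helpers here

set_option autoImplicit false
universe u
open SprIso

namespace Groth.Agent.S15835

/-- Over a commutative ring R of prime characteristic p, let n ≥ 1 and let p^m be the largest power of p
dividing n. The locus of n × n matrices with characteristic polynomial t^n is stable under adding a
scalar matrix a·1 with n·a = 0 exactly when a^(p^m) = 0: for X with characteristic polynomial t^n
and such an a, the matrix X + a·1 has characteristic polynomial t^n if and only if a^(p^m) = 0.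
(Stated on points with values in an arbitrary ring of characteristic p; the scheme-theoretic
assertion about the nilpotent scheme of SL_n is this statement for all such rings.) -/
theorem result (p : ℕ) [Fact p.Prime] (R : Type u) [CommRing R]
    [CharP R p] (n : ℕ) (hn : 0 < n) (X : Matrix (Fin n) (Fin n) R) (hX : X.charpoly = Polynomial.X ^ n)
    (a : R) (ha : (n : R) * a = 0) :
    (X + Matrix.scalar (Fin n) a).charpoly = Polynomial.X ^ n ↔ a ^ (p ^ padicValNat p n) = 0 := by
  classical
  have hp : p.Prime := Fact.out
  set m := padicValNat p n with hm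
  obtain ⟨u, hu⟩ : p ^ m ∣ n := pow_padicValNat_dvd
  have hpu : ¬ p ∣ u := by
    rintro ⟨v, rfl⟩
    apply pow_succ_padicValNat_not_dvd (p := p) hn.ne'
    rw [← hm, pow_succ]
    exact ⟨v, by rw [hu]; ring⟩
  have hu0 : 0 < u := by
    rcases Nat.eq_zero_or_pos u with h | h
    · subst h; simp at hu; omega
    · exact h
  -- charpoly of X + a
  have hcp : (X + Matrix.scalar (Fin n) a).charpoly = (Polynomial.X - Polynomial.C a) ^ n := by
    have h1 : X + Matrix.scalar (Fin n) a = X - Matrix.scalar (Fin n) (-a) := by
      rw [map_neg, sub_neg_eq_add]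
    rw [h1, Matrix.charpoly_sub_scalar, hX, Polynomial.X_pow_comp, map_neg, ← sub_eq_add_neg]
  rw [hcp]
  have hq : 0 < p ^ m := pow_pos hp.pos m
  -- rewrite (X - C a)^n
  have hpow : (Polynomial.X - Polynomial.C a : Polynomial R) ^ n =
      Polynomial.expand R (p ^ m) ((Polynomial.X - Polynomial.C (a ^ p ^ m)) ^ u) := by
    rw [hu, pow_mul, sub_pow_char_pow, map_pow, map_sub, Polynomial.expand_X,
      Polynomial.expand_C, ← Polynomial.C_pow]
  have hXn : (Polynomial.X : Polynomial R) ^ n = Polynomial.expand R (p ^ m) (Polynomial.X ^ u) := by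
    rw [hu, pow_mul, map_pow, Polynomial.expand_X]
  rw [hpow, hXn, (Polynomial.expand_injective hq).eq_iff]
  constructor
  · intro h
    have hc : Polynomial.coeff ((Polynomial.X - Polynomial.C (a ^ p ^ m)) ^ u) (u - 1) =
        Polynomial.coeff ((Polynomial.X : Polynomial R) ^ u) (u - 1) := by rw [h]
    rw [sub_eq_add_neg, ← Polynomial.C_neg, Polynomial.coeff_X_add_C_pow, Polynomial.coeff_X_pow,
      if_neg (by omega)] at hc
    have h1 : u - (u - 1) = 1 := by omega
    have h2 : u.choose (u - 1) = u := by
      rw [← Nat.choose_symm (by omega : u - 1 ≤ u), h1, Nat.choose_one_right]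
    rw [h1, pow_one, h2] at hc
    -- u is a unit in R
    have hcop : IsCoprime (u : ℤ) (p : ℤ) := by
      rw [Nat.isCoprime_iff_coprime]
      exact (Nat.Coprime.symm ((Nat.Prime.coprime_iff_not_dvd hp).mpr hpu))
    obtain ⟨s, t, hst⟩ := hcop
    have hst' : (s : R) * (u : R) + (t : R) * (p : R) = 1 := by
      have := congrArg (Int.cast : ℤ → R) hst
      push_cast at this
      exact this
    rw [CharP.cast_eq_zero R p, mul_zero, add_zero] at hst'
    have : a ^ p ^ m = a ^ p ^ m * ((s : R) * (u : R)) := by rw [hst', mul_one]
    rw [this]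
    have hc' : a ^ p ^ m * (u : R) = 0 := by
      have := congrArg Neg.neg hc
      simpa using this
    rw [mul_comm (s : R), ← mul_assoc, hc', zero_mul]
  · intro h
    rw [h, map_zero, sub_zero]

end Groth.Agent.S15835
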