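import Groth.Statements.S15838
import Mathlib

set_option autoImplicit false
universe u
open scoped TensorProduct
open SprIso

namespace Groth.Agent.S15838

section Aux

variable {k : Type u} [Field k] {V : Type u} [AddCommGroup V] [Module k V]
  {R : Type u} [CommRing R] [Algebra k R]

theorem aux_comm (h : Module.End R (R ⊗[k] V)) (X Z : Module.End k V)
    (hZ : Z ∈ Algebra.adjoin k {X}) (hc : Commute h (X.baseChange R)) :
    Commute h (Z.baseChange R) := by
  have hmem : (Module.End.baseChangeHom k R V) Z ∈
      Algebra.adjoin k {(Module.End.baseChangeHom k R V) X} := by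
    rw [← AlgHom.map_adjoin_singleton]
    exact Subalgebra.mem_map.mpr ⟨Z, hZ, rfl⟩
  exact Algebra.commute_of_mem_adjoin_singleton_of_commute hmem hc

theorem aux_add [PerfectField k] [FiniteDimensional k V] (X Y N : Module.End k V)
    (hY : Y.IsSemisimple) (hN : IsNilpotent N) (hc : Commute Y N) (hX : X = Y + N) :
    Y ∈ Algebra.adjoin k {X} ∧ N ∈ Algebra.adjoin k {X} := by
  obtain ⟨n₀, hn₀, s₀, hs₀, hn₀_nil, hs₀_ss, h₀⟩ := X.exists_isNilpotent_isSemisimple
  have hc0 : Commute n₀ s₀ :=
    Algebra.commute_of_mem_adjoin_singleton_of_commute hs₀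
      (Algebra.commute_of_mem_adjoin_singleton_of_commute hn₀ (Commute.refl X)).symm
  have := Module.End.isNilpotent_isSemisimple_unique hN hY hn₀_nil hs₀_ss hc.symm hc0
    (by rw [add_comm, ← hX, h₀])
  exact ⟨this.2 ▸ hs₀, this.1 ▸ hn₀⟩

end Aux

/-- General linear group case: this is the case G = GL(V), to which the general case reduces along a
closed embedding. Let k be a perfect field and V a finite-dimensional k-vector space. If an
invertible endomorphism g of V has multiplicative Jordan decomposition g = t u (t semisimple, u
unipotent, t and u commuting), then the scheme-theoretic centralizer of g in GL(V) is the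
centralizer of u inside the centralizer of t: for every commutative k-algebra R, an R-linear
endomorphism h of R ⊗ V commutes with g_R if and only if it commutes with both t_R and u_R.
Likewise, if an endomorphism X of V has additive Jordan decomposition X = Y + N (Y semisimple, N
nilpotent, commuting), then h commutes with X_R if and only if it commutes with both Y_R and N_R. -/
theorem result (k : Type u) [Field k] [PerfectField k]
    (V : Type u) [AddCommGroup V] [Module k V] [FiniteDimensional k V]
    (R : Type u) [CommRing R] [Algebra k R] (h : Module.End R (R ⊗[k] V)) :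
    (∀ (g t u : Module.End k V), IsUnit g → t.IsSemisimple → IsNilpotent (u - 1) → Commute t u → g = t * u →
      (Commute h (g.baseChange R) ↔ Commute h (t.baseChange R) ∧ Commute h (u.baseChange R))) ∧
    (∀ (X Y N : Module.End k V), Y.IsSemisimple → IsNilpotent N → Commute Y N → X = Y + N →
      (Commute h (X.baseChange R) ↔ Commute h (Y.baseChange R) ∧ Commute h (N.baseChange R))) := by
  refine ⟨?_, ?_⟩
  · intro g t u hg ht hu hc hgtu
    have hcu : Commute t (u - 1) := hc.sub_right (Commute.one_right t)
    have hNil : IsNilpotent (t * (u - 1)) := hcu.isNilpotent_mul_left hu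
    have hcN : Commute t (t * (u - 1)) := (Commute.refl t).mul_right hcu
    have hX : g = t + t * (u - 1) := by rw [hgtu, mul_sub, mul_one, add_sub_cancel]
    obtain ⟨htm, -⟩ := aux_add g t (t * (u - 1)) ht hNil hcN hX
    have htu' : IsUnit (t * u) := by rw [← hgtu]; exact hg
    have htu : IsUnit t := ((hc.isUnit_mul_iff).mp htu').1
    have htR : IsUnit (t.baseChange R) := htu.map (Module.End.baseChangeHom k R V)
    have hgR : g.baseChange R = t.baseChange R * u.baseChange R := by
      rw [hgtu, LinearMap.baseChange_mul]
    constructor
    · intro hh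
      have h1 := aux_comm h g t htm hh
      refine ⟨h1, ?_⟩
      rw [hgR] at hh
      have h2 : t.baseChange R * (h * u.baseChange R) = t.baseChange R * (u.baseChange R * h) := by
        rw [← mul_assoc, ← h1.eq, mul_assoc, hh.eq, mul_assoc]
      exact htR.mul_left_cancel h2
    · rintro ⟨h1, h2⟩
      rw [hgR]; exact h1.mul_right h2
  · intro X Y N hY hN hc hX
    obtain ⟨hYm, hNm⟩ := aux_add X Y N hY hN hc hX
    constructor
    · intro hh; exact ⟨aux_comm h X Y hYm hh, aux_comm h X N hNm hh⟩
    · rintro ⟨h1, h2⟩
      rw [hX, LinearMap.baseChange_add]; exact h1.add_right h2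

end Groth.Agent.S15838
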