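import Groth.Statements.S15845
import Mathlib
-- import your own Groth.Agent.* helpers here

set_option autoImplicit false
universe u
open SprIso

namespace Groth.Agent.S15845

/-- General linear group case: this is the case G = GL_n with its upper-triangular Borel subgroup B
(derived group SL_n simply connected, all primes good, so the hypotheses on the characteristic
hold), together with the companion statement for a regular nilpotent element of Lie B. Let k be a
field and u an n × n upper-triangular matrix over k whose diagonal entries are all equal and whose
superdiagonal entries u_{i,i+1} are all non-zero — for diagonal 1 this is a regular unipotent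
element of B(k), for diagonal 0 a regular nilpotent element of Lie B. Then the centralizer of u in
GL_n is contained in B and is the product of the centre with the centralizer in the unipotent
radical: for every commutative k-algebra R and every invertible x ∈ M_n(R) commuting with u_R, x is
upper triangular and its diagonal entries are all equal. (The smoothness of the centralizer in the
unipotent radical, also part of the published statement, is not stated here.) -/
theorem result (k : Type u) [Field k] (n : ℕ)
    (u : Matrix (Fin n) (Fin n) k) (htri : ∀ i j : Fin n, j < i → u i j = 0) (hdiag : ∀ i j : Fin n, u i i = u j j)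
    (hreg : ∀ (i j : Fin n), j.val = i.val + 1 → u i j ≠ 0)
    (R : Type u) [CommRing R] [Algebra k R] (x : Matrix (Fin n) (Fin n) R) (hx : IsUnit x)
    (hxu : x * u.map (algebraMap k R) = u.map (algebraMap k R) * x) :
    (∀ i j : Fin n, j < i → x i j = 0) ∧ (∀ i j : Fin n, x i i = x j j) := by
  -- the base-changed matrix
  obtain ⟨U, hU⟩ : ∃ U : Matrix (Fin n) (Fin n) R, U = u.map (algebraMap k R) := ⟨_, rfl⟩
  rw [← hU] at hxu
  have hUtri : ∀ i j : Fin n, j < i → U i j = 0 := by
    intro i j hji
    rw [hU, Matrix.map_apply, htri i j hji, map_zero]
  have hUdiag : ∀ i j : Fin n, U i i = U j j := by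
    intro i j
    rw [hU, Matrix.map_apply, Matrix.map_apply, hdiag i j]
  have hUreg : ∀ i j : Fin n, j.val = i.val + 1 → IsUnit (U i j) := by
    intro i j hij
    rw [hU, Matrix.map_apply]
    exact (hreg i j hij).isUnit.map (algebraMap k R)
  have hentry : ∀ i j : Fin n, ∑ l, x i l * U l j = ∑ l, U i l * x l j := by
    intro i j
    have := congrFun (congrFun hxu i) j
    rwa [Matrix.mul_apply, Matrix.mul_apply] at this
  -- lower triangular part vanishes
  have key : ∀ N : ℕ, ∀ i j : Fin n, j < i → j.val * (n + 1) + (n - i.val) < N → x i j = 0 := by
    intro N
    induction N with
    | zero => intro i j _ h; omega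
    | succ N ih =>
      intro i j hji hN
      have hji' : j.val < i.val := hji
      have hin : i.val < n := i.2
      obtain ⟨i', hi'⟩ : ∃ i' : Fin n, i'.val = i.val - 1 := ⟨⟨i.val - 1, by omega⟩, rfl⟩
      have hsup : IsUnit (U i' i) := hUreg i' i (by omega)
      have heq := hentry i' j
      have hL : ∑ l, x i' l * U l j = x i' j * U j j := by
        apply Finset.sum_eq_single j
        · intro l _ hlj
          rcases lt_or_gt_of_ne hlj with h | h
          · have hl : l.val < j.val := h
            have : x i' l = 0 := by
              apply ih i' l
              · show l.val < i'.val
                omega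
              · have : l.val * (n + 1) + (n - i'.val) < j.val * (n + 1) := by
                  have h1 : (l.val + 1) * (n + 1) ≤ j.val * (n + 1) := Nat.mul_le_mul_right _ (by omega)
                  have h2 : (l.val + 1) * (n + 1) = l.val * (n + 1) + (n + 1) := by ring
                  omega
                omega
            rw [this, zero_mul]
          · rw [hUtri l j h, mul_zero]
        · intro h; exact absurd (Finset.mem_univ _) h
      have hne : i' ≠ i := by
        intro h
        have := congrArg Fin.val h
        omega
      have hRsum : ∑ l, U i' l * x l j = U i' i' * x i' j + U i' i * x i j := by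
        apply Finset.sum_eq_add i' i hne
        · intro l _ hl
          by_cases h1 : l < i'
          · rw [hUtri i' l h1, zero_mul]
          · have hl1 : i'.val ≤ l.val := by
              have := not_lt.mp h1
              exact this
            have hl2 : l.val ≠ i'.val := fun h => hl.1 (Fin.ext h)
            have hl3 : l.val ≠ i.val := fun h => hl.2 (Fin.ext h)
            have : x l j = 0 := by
              apply ih l j
              · show j.val < l.val
                omega
              · have := l.2
                omega
            rw [this, mul_zero]
        · intro h; exact absurd (Finset.mem_univ _) h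
        · intro h; exact absurd (Finset.mem_univ _) h
      rw [hL, hRsum, hUdiag j i', mul_comm (x i' j)] at heq
      have h0 : U i' i * x i j = 0 := by
        have := heq
        linear_combination -this
      exact (hsup.mul_right_eq_zero).mp h0
  have hlow : ∀ i j : Fin n, j < i → x i j = 0 := fun i j h => key _ i j h (Nat.lt_succ_self _)
  refine ⟨hlow, ?_⟩
  -- consecutive diagonal entries agree
  have hstep : ∀ i j : Fin n, j.val = i.val + 1 → x i i = x j j := by
    intro i j hij
    have hne : i ≠ j := by
      intro h
      have := congrArg Fin.val h
      omega
    have heq := hentry i j
    have hL : ∑ l, x i l * U l j = x i i * U i j + x i j * U j j := by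
      apply Finset.sum_eq_add i j hne
      · intro l _ hl
        by_cases h1 : l < i
        · rw [hlow i l h1, zero_mul]
        · have hl1 : i.val ≤ l.val := not_lt.mp h1
          have hl2 : l.val ≠ i.val := fun h => hl.1 (Fin.ext h)
          have hl3 : l.val ≠ j.val := fun h => hl.2 (Fin.ext h)
          have : j < l := by
            show j.val < l.val
            omega
          rw [hUtri l j this, mul_zero]
      · intro h; exact absurd (Finset.mem_univ _) h
      · intro h; exact absurd (Finset.mem_univ _) h
    have hRsum : ∑ l, U i l * x l j = U i i * x i j + U i j * x j j := by
      apply Finset.sum_eq_add i j hne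
      · intro l _ hl
        by_cases h1 : l < i
        · rw [hUtri i l h1, zero_mul]
        · have hl1 : i.val ≤ l.val := not_lt.mp h1
          have hl2 : l.val ≠ i.val := fun h => hl.1 (Fin.ext h)
          have hl3 : l.val ≠ j.val := fun h => hl.2 (Fin.ext h)
          have : j < l := by
            show j.val < l.val
            omega
          rw [hlow l j this, mul_zero]
      · intro h; exact absurd (Finset.mem_univ _) h
      · intro h; exact absurd (Finset.mem_univ _) h
    rw [hL, hRsum, hUdiag j i] at heq
    have h0 : U i j * (x i i - x j j) = 0 := by
      linear_combination heq
    have := ((hUreg i j hij).mul_right_eq_zero).mp h0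
    exact sub_eq_zero.mp this
  have hall : ∀ (m : ℕ) (i : Fin n) (hm : m < n), i.val = m → x i i = x ⟨0, by omega⟩ ⟨0, by omega⟩ := by
    intro m
    induction m with
    | zero =>
      intro i hm hi
      have : i = ⟨0, by omega⟩ := Fin.ext hi
      rw [this]
    | succ m ih =>
      intro i hm hi
      have hm' : m < n := by omega
      rw [← hstep ⟨m, hm'⟩ i (by simp [hi])]
      exact ih ⟨m, hm'⟩ hm' rfl
  intro i j
  rw [hall i.val i i.2 rfl, hall j.val j j.2 rfl]

end Groth.Agent.S15845
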