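import Groth.Statements.S15893
import Mathlib
-- import your own Groth.Agent.* helpers here

set_option autoImplicit false
universe u v w
open CartDual

namespace Groth.Agent.S15893

theorem exists_symm' {R : Type u} {A : Type v} {B : Type w} [CommRing R] [Ring A] [Ring B]
    [Bialgebra R A] [Bialgebra R B]
    (e : A →ₐc[R] B) (he : Function.Bijective e) : ∃ s : B →ₐc[R] A, ∀ b, e (s b) = b :=
  ⟨(BialgEquiv.ofBijective e he).symm, fun b => (BialgEquiv.ofBijective e he).apply_symm_apply b⟩

theorem eval_bij (R : Type u) [CommRing R] (A : Type v)
    [CommRing A] [Bialgebra R A] [Module.Finite R A] [Module.Projective R A] :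
    Function.Bijective (CartDual.eval R A) := by
  have : (CartDual.eval R A : A → _) = (CartDual.toDual R (CartDual.D R A)).symm ∘
      (CartDual.toDual R A).dualMap ∘ Module.Dual.eval R A := rfl
  rw [this]
  exact (LinearEquiv.bijective _).comp ((LinearEquiv.bijective _).comp (Module.bijective_dual_eval R A))

theorem surj_aux (R : Type u) [CommRing R] (A : Type v) (B : Type w)
    [CommRing A] [Bialgebra R A] [Module.Finite R A] [Module.Projective R A]
    [CommRing B] [Bialgebra R B] [Module.Finite R B] [Module.Projective R B]
    (g : CartDual.D R B →ₐc[R] CartDual.D R A) :
    ∃ f : A →ₐc[R] B, CartDual.transpose R f = g := by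
  obtain ⟨s, hs⟩ := exists_symm' (R := R) (A := B) (B := CartDual.D R (CartDual.D R B))
    (CartDual.eval R B) (eval_bij R B)
  refine ⟨s.comp ((CartDual.transpose R g).comp (CartDual.eval R A)), ?_⟩
  apply BialgHom.ext
  intro y
  apply WithConv.ext
  apply LinearMap.ext
  intro a
  have h1 := hs (CartDual.transpose R g (CartDual.eval R A a))
  have h2 := congrArg (fun z : CartDual.D R (CartDual.D R B) => z y) h1
  simp only [CartDual.eval_apply, CartDual.transpose_apply] at h2
  exact h2

theorem inj_aux (R : Type u) [CommRing R] (A : Type v) (B : Type w)
    [CommRing A] [Bialgebra R A] [Module.Finite R A] [Module.Projective R A]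
    [CommRing B] [Bialgebra R B] [Module.Finite R B] [Module.Projective R B]
    (f f' : A →ₐc[R] B) (hff : CartDual.transpose R f = CartDual.transpose R f') : f = f' := by
  apply BialgHom.ext
  intro a
  rw [← sub_eq_zero, ← Module.forall_dual_apply_eq_zero_iff R]
  intro φ
  have h1 := DFunLike.congr_fun hff (WithConv.toConv φ)
  have h2 := congrArg (fun z : CartDual.D R A => z a) h1
  simp only [CartDual.transpose_apply] at h2
  rw [map_sub, sub_eq_zero]
  exact h2

/-- Let R be a commutative ring and A, B commutative and cocommutative Hopf algebras over R, each
finitely generated and projective as an R-module (finite locally free commutative group schemes G =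
Spec A, H = Spec B over Spec R). Then Cartier duality is a fully faithful contravariant functor: the
map sending a bialgebra homomorphism f : A → B (a homomorphism of group schemes H → G) to its
transpose between the dual Hopf algebras, Hom_R(B, R) → Hom_R(A, R) (the dual homomorphism G^D →
H^D), is a bijection between bialgebra homomorphisms A → B and bialgebra homomorphisms Hom_R(B, R) →
Hom_R(A, R). (The published statement also asserts that the canonical map to the double dual is an
isomorphism, which makes duality an involutory anti-equivalence; that part is not restated here. The
published notes work over a Noetherian base ring; the row allows any commutative base ring.) -/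
theorem result (R : Type u) [CommRing R] (A : Type v) (B : Type w)
    [CommRing A] [HopfAlgebra R A] [Coalgebra.IsCocomm R A] [Module.Finite R A] [Module.Projective R A]
    [CommRing B] [HopfAlgebra R B] [Coalgebra.IsCocomm R B] [Module.Finite R B] [Module.Projective R B] :
    Function.Bijective (fun f : A →ₐc[R] B => CartDual.transpose R f) := by
  constructor
  · intro f f' hff
    exact inj_aux R A B f f' hff
  · intro g
    exact surj_aux R A B g

end Groth.Agent.S15893
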