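import Groth.Statements.S15895
import Groth.Agent.Lib.helper8.CartDualLib

set_option autoImplicit false
universe u
open scoped TensorProduct
open Versch

namespace Groth.Agent.S15895

/-- Let p be a prime, R a commutative ring of characteristic p and B = Hom_R(R[ℤ/p], R) the dual Hopf
algebra of the group algebra of the cyclic group of order p: the Hopf algebra of the constant group
scheme ℤ/p over Spec R (the Cartier dual of μ_p). Let v : B → B ⊗_R R^(Frob) be the comorphism of
the Verschiebung V : (ℤ/p)^(p) → ℤ/p (the ring map whose transpose under the canonical pairing is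
the relative Frobenius of the dual Hopf algebra of B). Then V is the trivial homomorphism: v is the
composite of the counit ε : B → R, the identity of underlying rings R → R^(Frob) and the inclusion
of the twisted factor R^(Frob) → B ⊗_R R^(Frob), i.e. v(b) = 1 ⊗ ε(b). -/
theorem result (p : ℕ) [Fact p.Prime] (R : Type u) [CommRing R]
    [CharP R p] (v : CartDual.D R (MonoidAlgebra R (Multiplicative (ZMod p))) →+* FrobAlg.BaseChange p R (CartDual.D R (MonoidAlgebra R (Multiplicative (ZMod p)))))
    (hv : Versch.IsVerschiebung p R (CartDual.D R (MonoidAlgebra R (Multiplicative (ZMod p)))) v) :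
    v = ((Algebra.TensorProduct.includeRight (R := R) (A := CartDual.D R (MonoidAlgebra R (Multiplicative (ZMod p))))
            (B := FrobAlg.Twist p R)).toRingHom.comp (FrobAlg.toTwist p R).toRingHom).comp
          (Bialgebra.counitAlgHom R (CartDual.D R (MonoidAlgebra R (Multiplicative (ZMod p))))).toRingHom := by
  apply RingHom.ext
  intro b
  apply Versch.evTw_injective p R (CartDual.D R (MonoidAlgebra R (Multiplicative (ZMod p))))
  intro Φ
  have hv' := (Versch.isVerschiebung_iff p R
    (CartDual.D R (MonoidAlgebra R (Multiplicative (ZMod p)))) v).mp hv b Φ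
  rw [hv']
  have h : (((Algebra.TensorProduct.includeRight (R := R)
      (A := CartDual.D R (MonoidAlgebra R (Multiplicative (ZMod p))))
      (B := FrobAlg.Twist p R)).toRingHom.comp (FrobAlg.toTwist p R).toRingHom).comp
      (Bialgebra.counitAlgHom R (CartDual.D R (MonoidAlgebra R (Multiplicative (ZMod p))))).toRingHom) b =
      (1 : CartDual.D R (MonoidAlgebra R (Multiplicative (ZMod p)))) ⊗ₜ[R]
        FrobAlg.toTwist p R (Coalgebra.counit (R := R) b) := rfl
  rw [h, Versch.evTw_tmul', ← map_mul]
  congr 1
  obtain ⟨a, rfl⟩ := (H8CD.eval_bij R (MonoidAlgebra R (Multiplicative (ZMod p)))).2 Φ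
  have hG : ∀ g : Multiplicative (ZMod p), g ^ p = 1 := by
    intro g
    apply Multiplicative.toAdd.injective
    rw [toAdd_pow, toAdd_one, nsmul_eq_mul, CharP.cast_eq_zero (ZMod p) p, zero_mul]
  rw [← map_pow, H8CD.pow_p_monoidAlgebra p R _ hG a, CartDual.eval_apply, CartDual.eval_apply]
  rw [CartDual.counit_def, CartDual.counit_apply]
  have h1 : (1 : CartDual.D R (MonoidAlgebra R (Multiplicative (ZMod p)))) a =
      Coalgebra.counit (R := R) a := by
    simp [LinearMap.convOne_apply]
  rw [h1, Algebra.algebraMap_eq_smul_one, CartDual.coe_apply, map_smul, smul_eq_mul]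

end Groth.Agent.S15895
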