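import Groth.Statements.S15939
import Mathlib

set_option autoImplicit false
universe u
open CAlg

namespace Groth.Agent.S15939

open Polynomial in
/-- Let κ be a field and A a commutative κ-algebra whose only κ-subalgebras are the image of κ and A
itself, these two being different. Then A is finite-dimensional over κ, and A is isomorphic as a
κ-algebra to the dual numbers over κ, or to κ × κ, or A is a field which is either separable over κ
or isomorphic to κ[X]/(X^p - a) with p the (positive) characteristic of κ and a an element of κ that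
is not a p-th power. (The published statement also records that these four cases exclude one
another; that part is not restated.) -/
theorem result (κ A : Type u) [Field κ] [CommRing A] [Algebra κ A]
    (h : IsSimpleOrder (Subalgebra κ A)) :
    FiniteDimensional κ A ∧
    (Nonempty (A ≃ₐ[κ] DualNumber κ) ∨ Nonempty (A ≃ₐ[κ] (κ × κ)) ∨
      (IsField A ∧ (Algebra.IsSeparable κ A ∨
        ∃ (p : ℕ) (a : κ), p.Prime ∧ CharP κ p ∧ (∀ b : κ, b ^ p ≠ a) ∧
          Nonempty (A ≃ₐ[κ] AdjoinRoot (X ^ p - C a))))) := by
  classical
  haveI := h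
  have hbt : (⊥ : Subalgebra κ A) ≠ ⊤ := bot_ne_top
  haveI : Nontrivial A := by
    by_contra hn
    rw [not_nontrivial_iff_subsingleton] at hn
    apply hbt
    apply SetLike.ext
    intro z
    have hz : z = 0 := Subsingleton.elim _ _
    subst hz
    exact ⟨fun _ => Algebra.mem_top, fun _ => zero_mem _⟩
  have hinj : Function.Injective (algebraMap κ A) := (algebraMap κ A).injective
  have key : ∀ y : A, y ∉ (⊥ : Subalgebra κ A) → Algebra.adjoin κ {y} = ⊤ := by
    intro y hy
    rcases eq_bot_or_eq_top (Algebra.adjoin κ {y}) with hb | ht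
    · exfalso
      apply hy
      rw [← hb]
      exact Algebra.self_mem_adjoin_singleton κ y
    · exact ht
  obtain ⟨x, hx⟩ : ∃ x : A, x ∉ (⊥ : Subalgebra κ A) := by
    by_contra H
    push_neg at H
    exact hbt (eq_top_iff.mpr fun z _ => H z)
  have hxint : IsIntegral κ x := by
    by_cases hx2 : x ^ 2 ∈ (⊥ : Subalgebra κ A)
    · obtain ⟨c, hc⟩ := Algebra.mem_bot.mp hx2
      refine ⟨X ^ 2 - C c, monic_X_pow_sub_C c (by norm_num), ?_⟩
      rw [eval₂_sub, eval₂_pow, eval₂_X, eval₂_C, hc, sub_self]
    · have ht := key _ hx2
      have hxm : x ∈ Algebra.adjoin κ {x ^ 2} := by rw [ht]; exact Algebra.mem_top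
      rw [Algebra.adjoin_singleton_eq_range_aeval] at hxm
      obtain ⟨q, hq⟩ := (AlgHom.mem_range _).mp hxm
      apply IsAlgebraic.isIntegral
      refine ⟨expand κ 2 q - X, ?_, ?_⟩
      · intro h0
        have h1 : (expand κ 2 q - X).coeff 1 = -1 := by
          rw [coeff_sub, coeff_expand (by norm_num : 0 < 2), coeff_X_one,
            if_neg (by norm_num), zero_sub]
        rw [h0, coeff_zero] at h1
        exact one_ne_zero (neg_eq_zero.mp h1.symm)
      · rw [map_sub, expand_aeval, aeval_X, hq, sub_self]
  have htop := key x hx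
  haveI hfin : Module.Finite κ A := by
    have hfg := hxint.fg_adjoin_singleton
    rw [htop, Algebra.top_toSubmodule] at hfg
    exact Module.finite_def.mpr hfg
  haveI : IsArtinianRing A := IsArtinianRing.of_finite κ A
  refine ⟨hfin, ?_⟩
  by_cases hN : ∃ n : A, n ≠ 0 ∧ n * n = 0
  · left
    obtain ⟨n, hn0, hnn⟩ := hN
    have hnb : n ∉ (⊥ : Subalgebra κ A) := by
      intro hm
      obtain ⟨c, hc⟩ := Algebra.mem_bot.mp hm
      have h2 : algebraMap κ A (c * c) = algebraMap κ A 0 := by
        rw [map_mul, hc, hnn, map_zero]
      have hc0 : c = 0 := mul_self_eq_zero.mp (hinj h2)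
      exact hn0 (by rw [← hc, hc0, map_zero])
    have hnT := key n hnb
    let φ : DualNumber κ →ₐ[κ] A :=
      DualNumber.lift ⟨(Algebra.ofId κ A, n), hnn, fun a => Commute.all _ _⟩
    have hφ : ∀ z : DualNumber κ, φ z = algebraMap κ A z.fst + algebraMap κ A z.snd * n := by
      intro z
      rfl
    have hinjφ : Function.Injective φ := by
      rw [injective_iff_map_eq_zero]
      intro z hz
      rw [hφ] at hz
      have hs : z.snd = 0 := by
        by_contra hs
        apply hnb
        have h3 : algebraMap κ A (z.snd)⁻¹ *
            (algebraMap κ A z.fst + algebraMap κ A z.snd * n) = 0 := by rw [hz, mul_zero]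
        have h4 : algebraMap κ A (z.snd)⁻¹ * algebraMap κ A z.snd = 1 := by
          rw [← map_mul, inv_mul_cancel₀ hs, map_one]
        have h5 : n = algebraMap κ A (-(z.fst * (z.snd)⁻¹)) := by
          rw [map_neg, map_mul]
          linear_combination h3 - n * h4
        rw [h5]
        exact Algebra.mem_bot.mpr ⟨_, rfl⟩
      have hf : z.fst = 0 := by
        rw [hs, map_zero, zero_mul, add_zero] at hz
        exact hinj (hz.trans (map_zero _).symm)
      exact TrivSqZeroExt.ext hf hs
    have hsurjφ : Function.Surjective φ := by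
      intro z
      have hle : Algebra.adjoin κ {n} ≤ φ.range := Algebra.adjoin_le (by
        rw [Set.singleton_subset_iff]
        exact (AlgHom.mem_range φ).mpr ⟨DualNumber.eps, by
          rw [hφ, DualNumber.fst_eps, DualNumber.snd_eps, map_zero, map_one, zero_add, one_mul]⟩)
      have hz : z ∈ φ.range := hle (by rw [hnT]; exact Algebra.mem_top)
      exact (AlgHom.mem_range _).mp hz
    exact ⟨(AlgEquiv.ofBijective φ ⟨hinjφ, hsurjφ⟩).symm⟩
  by_cases hE : ∃ e : A, e ≠ 0 ∧ e ≠ 1 ∧ e * e = e
  · right; left
    obtain ⟨e, he0, he1, hee⟩ := hE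
    have heb : e ∉ (⊥ : Subalgebra κ A) := by
      intro hm
      obtain ⟨c, hc⟩ := Algebra.mem_bot.mp hm
      have h2 : algebraMap κ A (c * c) = algebraMap κ A c := by
        rw [map_mul, hc, hee]
      have hcc : c * c = c := hinj h2
      have hc01 : c = 0 ∨ c = 1 := by
        have : c * (c - 1) = 0 := by rw [mul_sub, hcc, mul_one, sub_self]
        rcases mul_eq_zero.mp this with h | h
        · exact Or.inl h
        · exact Or.inr (sub_eq_zero.mp h)
      rcases hc01 with h | h
      · exact he0 (by rw [← hc, h, map_zero])
      · exact he1 (by rw [← hc, h, map_one])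
    have heT := key e heb
    let ψ : (κ × κ) →ₐ[κ] A :=
      { toFun := fun z => algebraMap κ A z.1 * e + algebraMap κ A z.2 * (1 - e)
        map_one' := by
          show algebraMap κ A (1 : κ) * e + algebraMap κ A (1 : κ) * (1 - e) = 1
          rw [map_one]; ring
        map_mul' := by
          intro z w
          show algebraMap κ A (z.1 * w.1) * e + algebraMap κ A (z.2 * w.2) * (1 - e) =
            (algebraMap κ A z.1 * e + algebraMap κ A z.2 * (1 - e)) *
              (algebraMap κ A w.1 * e + algebraMap κ A w.2 * (1 - e))
          rw [map_mul, map_mul]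
          linear_combination (-(algebraMap κ A z.1 * algebraMap κ A w.1
            - algebraMap κ A z.1 * algebraMap κ A w.2 - algebraMap κ A z.2 * algebraMap κ A w.1
            + algebraMap κ A z.2 * algebraMap κ A w.2)) * hee
        map_zero' := by
          show algebraMap κ A (0 : κ) * e + algebraMap κ A (0 : κ) * (1 - e) = 0
          rw [map_zero]; ring
        map_add' := by
          intro z w
          show algebraMap κ A (z.1 + w.1) * e + algebraMap κ A (z.2 + w.2) * (1 - e) =
            (algebraMap κ A z.1 * e + algebraMap κ A z.2 * (1 - e)) +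
              (algebraMap κ A w.1 * e + algebraMap κ A w.2 * (1 - e))
          rw [map_add, map_add]; ring
        commutes' := by
          intro c
          show algebraMap κ A c * e + algebraMap κ A c * (1 - e) = algebraMap κ A c
          ring }
    have hψ : ∀ z : κ × κ, ψ z = algebraMap κ A z.1 * e + algebraMap κ A z.2 * (1 - e) :=
      fun z => rfl
    have hinjψ : Function.Injective ψ := by
      rw [injective_iff_map_eq_zero]
      intro z hz
      rw [hψ] at hz
      have h1 : algebraMap κ A z.1 * e = 0 := by
        have h3 : (algebraMap κ A z.1 * e + algebraMap κ A z.2 * (1 - e)) * e = 0 := by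
          rw [hz, zero_mul]
        linear_combination h3 - (algebraMap κ A z.1 - algebraMap κ A z.2) * hee
      have h2 : algebraMap κ A z.2 * (1 - e) = 0 := by
        have h3 : (algebraMap κ A z.1 * e + algebraMap κ A z.2 * (1 - e)) * (1 - e) = 0 := by
          rw [hz, zero_mul]
        linear_combination h3 + (algebraMap κ A z.1 - algebraMap κ A z.2) * hee
      have hz1 : z.1 = 0 := by
        by_contra hne
        apply he0
        have : algebraMap κ A (z.1)⁻¹ * (algebraMap κ A z.1 * e) = e := by
          rw [← mul_assoc, ← map_mul, inv_mul_cancel₀ hne, map_one, one_mul]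
        rw [← this, h1, mul_zero]
      have hz2 : z.2 = 0 := by
        by_contra hne
        apply sub_ne_zero.mpr (Ne.symm he1)
        have : algebraMap κ A (z.2)⁻¹ * (algebraMap κ A z.2 * (1 - e)) = 1 - e := by
          rw [← mul_assoc, ← map_mul, inv_mul_cancel₀ hne, map_one, one_mul]
        rw [← this, h2, mul_zero]
      exact Prod.ext hz1 hz2
    have hsurjψ : Function.Surjective ψ := by
      intro z
      have hle : Algebra.adjoin κ {e} ≤ ψ.range := Algebra.adjoin_le (by
        rw [Set.singleton_subset_iff]
        exact (AlgHom.mem_range ψ).mpr ⟨(1, 0), by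
          rw [hψ]
          show algebraMap κ A (1 : κ) * e + algebraMap κ A (0 : κ) * (1 - e) = e
          rw [map_one, map_zero]; ring⟩)
      have hz : z ∈ ψ.range := hle (by rw [heT]; exact Algebra.mem_top)
      exact (AlgHom.mem_range _).mp hz
    exact ⟨(AlgEquiv.ofBijective ψ ⟨hinjψ, hsurjψ⟩).symm⟩
  right; right
  push_neg at hN hE
  haveI : IsReduced A := (isReduced_iff_pow_one_lt 2 (by norm_num)).mpr fun y hy => by
    by_contra h0
    exact hN y h0 (by rw [← sq]; exact hy)
  have hunit : ∀ y : A, y ≠ 0 → ∃ w, y * w = 1 := by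
    intro y hy
    obtain ⟨n, w, hw0⟩ := IsArtinian.exists_pow_succ_smul_dvd y (1 : A)
    have hw : y ^ (n + 1) * w = y ^ n := by simpa using hw0
    have hk : ∀ k : ℕ, y ^ n = y ^ (n + k) * w ^ k := by
      intro k
      induction k with
      | zero => simp
      | succ k ih =>
        calc y ^ n = y ^ (n + k) * w ^ k := ih
          _ = y ^ k * w ^ k * y ^ n := by rw [pow_add]; ring
          _ = y ^ k * w ^ k * (y ^ (n + 1) * w) := by rw [hw]
          _ = y ^ (n + (k + 1)) * w ^ (k + 1) := by ring
    obtain ⟨e, he⟩ : ∃ e : A, e = y ^ n * w ^ n := ⟨_, rfl⟩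
    have hyn : y ^ n = y ^ n * e := by
      calc y ^ n = y ^ (n + n) * w ^ n := hk n
        _ = y ^ n * e := by rw [he, pow_add]; ring
    have hee : e * e = e := by
      calc e * e = (y ^ n * e) * w ^ n := by rw [he]; ring
        _ = y ^ n * w ^ n := by rw [← hyn]
        _ = e := he.symm
    by_cases h0 : e = 0
    · exfalso
      apply hy
      apply IsNilpotent.eq_zero
      refine ⟨n, ?_⟩
      rw [hyn, h0, mul_zero]
    · by_cases h1 : e = 1
      · rcases Nat.eq_zero_or_pos n with hn | hn
        · subst hn
          exact ⟨w, by simpa using hw⟩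
        · refine ⟨y ^ (n - 1) * w ^ n, ?_⟩
          calc y * (y ^ (n - 1) * w ^ n) = y ^ (n - 1 + 1) * w ^ n := by ring
            _ = y ^ n * w ^ n := by rw [Nat.sub_add_cancel hn]
            _ = 1 := by rw [← he, h1]
      · exact absurd hee (hE e h0 h1)
  have hF : IsField A := ⟨⟨0, 1, zero_ne_one⟩, mul_comm, fun {a} ha => hunit a ha⟩
  haveI : IsDomain A := hF.isDomain
  refine ⟨hF, ?_⟩
  by_cases hsep : ∀ y : A, IsSeparable κ y
  · left
    exact ⟨hsep⟩
  · right
    push_neg at hsep
    obtain ⟨y, hy⟩ := hsep
    have hyint : IsIntegral κ y := Algebra.IsIntegral.isIntegral y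
    have hirr : Irreducible (minpoly κ y) := minpoly.irreducible hyint
    obtain ⟨p, hp⟩ := CharP.exists κ
    haveI := hp
    rcases CharP.char_is_prime_or_zero κ p with hpp | hp0
    · haveI : Fact p.Prime := ⟨hpp⟩
      rcases separable_or p hirr with hs | ⟨_, g, _, hge⟩
      · exact absurd hs hy
      · have hyp : y ^ p ∈ (⊥ : Subalgebra κ A) := by
          by_contra hnb
          have ht := key _ hnb
          have hym : y ∈ Algebra.adjoin κ {y ^ p} := by rw [ht]; exact Algebra.mem_top
          rw [Algebra.adjoin_singleton_eq_range_aeval] at hym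
          obtain ⟨q, hq⟩ := (AlgHom.mem_range _).mp hym
          have hroot : aeval y (expand κ p q - X) = 0 := by
            rw [map_sub, expand_aeval, aeval_X, hq, sub_self]
          have hdvd := minpoly.dvd κ y hroot
          apply hy
          show (minpoly κ y).Separable
          refine Separable.of_dvd ?_ hdvd
          rw [separable_def]
          have hpc : ((p : ℕ) : κ[X]) = 0 := by
            rw [← map_natCast (C : κ →+* κ[X]) p, CharP.cast_eq_zero κ p, map_zero]
          have hder : derivative (expand κ p q - X) = -1 := by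
            rw [derivative_sub, derivative_expand, derivative_X, hpc]
            ring
          rw [hder]
          exact isCoprime_one_right.neg_right
        obtain ⟨a, ha⟩ := Algebra.mem_bot.mp hyp
        have hynb : y ∉ (⊥ : Subalgebra κ A) := by
          intro hm
          obtain ⟨c, hc⟩ := Algebra.mem_bot.mp hm
          apply hy
          show (minpoly κ y).Separable
          rw [← hc, minpoly.eq_X_sub_C_of_algebraMap_inj c hinj]
          exact separable_X_sub_C
        have hap : ∀ b : κ, b ^ p ≠ a := by
          intro b hb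
          haveI : CharP A p := charP_of_injective_algebraMap hinj p
          have h0 : (y - algebraMap κ A b) ^ p = 0 := by
            rw [sub_pow_char, ← map_pow, hb, ha, sub_self]
          have h1 := (pow_eq_zero_iff hpp.ne_zero).mp h0
          apply hynb
          rw [sub_eq_zero.mp h1]
          exact Algebra.mem_bot.mpr ⟨b, rfl⟩
        have hyT := key y hynb
        have hF' : Irreducible (X ^ p - C a : κ[X]) := X_pow_sub_C_irreducible_of_prime hpp hap
        haveI : Fact (Irreducible (X ^ p - C a : κ[X])) := ⟨hF'⟩
        have h2 : (X ^ p - C a : κ[X]).eval₂ ((Algebra.ofId κ A : κ →ₐ[κ] A) : κ →+* A) y = 0 := by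
          rw [eval₂_sub, eval₂_pow, eval₂_X, eval₂_C]
          show y ^ p - algebraMap κ A a = 0
          rw [ha, sub_self]
        let φ : AdjoinRoot (X ^ p - C a : κ[X]) →ₐ[κ] A :=
          AdjoinRoot.liftAlgHom (X ^ p - C a : κ[X]) (Algebra.ofId κ A) y h2
        have hinjφ : Function.Injective φ := (φ : AdjoinRoot (X ^ p - C a : κ[X]) →+* A).injective
        have hsurjφ : Function.Surjective φ := by
          intro z
          have hle : Algebra.adjoin κ {y} ≤ φ.range := Algebra.adjoin_le (by
            rw [Set.singleton_subset_iff]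
            exact (AlgHom.mem_range φ).mpr ⟨AdjoinRoot.root _,
              AdjoinRoot.liftAlgHom_root _ _ _ _⟩)
          have hz : z ∈ φ.range := hle (by rw [hyT]; exact Algebra.mem_top)
          exact (AlgHom.mem_range _).mp hz
        exact ⟨p, a, hpp, hp, hap, ⟨(AlgEquiv.ofBijective φ ⟨hinjφ, hsurjφ⟩).symm⟩⟩
    · subst hp0
      haveI := CharP.charP_to_charZero κ
      exact absurd hirr.separable hy

end Groth.Agent.S15939
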