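import Groth.Statements.S15941
import Mathlib
-- import your own Groth.Agent.* helpers here

set_option autoImplicit false
universe u
open HTop

namespace Groth.Agent.S15941

/-- An integrally closed integral domain is a seminormal ring, that is, whenever x^3 = y^2 there is
exactly one element a with x = a^2 and y = a^3. (The published statement is for a normal Noetherian
scheme and reduces at once to this affine integral case; the Noetherian hypothesis plays no role.) -/
theorem result (A : Type u) [CommRing A] [IsDomain A]
    [IsIntegrallyClosed A] : HTop.IsSeminormalRing A := by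
  intro x y hxy
  by_cases hx : x = 0
  · subst hx
    have hy : y = 0 := by
      have : y ^ 2 = 0 := by rw [← hxy]; simp
      exact pow_eq_zero_iff (two_ne_zero) |>.mp this
    subst hy
    refine ⟨0, by simp, ?_⟩
    rintro b ⟨hb, -⟩
    exact (pow_eq_zero_iff (two_ne_zero)).mp hb.symm
  · let K := FractionRing A
    have hxK : algebraMap A K x ≠ 0 := by
      simpa using hx
    have hsq : (algebraMap A K y / algebraMap A K x) ^ 2 = algebraMap A K x := by
      rw [div_pow, ← map_pow, ← hxy, map_pow, div_eq_iff (pow_ne_zero 2 hxK)]
      ring
    have hint : IsIntegral A ((algebraMap A K y / algebraMap A K x) ^ 2) := by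
      rw [hsq]; exact isIntegral_algebraMap
    obtain ⟨a, ha⟩ := IsIntegrallyClosed.exists_algebraMap_eq_of_isIntegral_pow (R := A) (K := K)
      (n := 2) (by norm_num) hint
    have hinj : Function.Injective (algebraMap A K) := IsFractionRing.injective A K
    have ha2 : x = a ^ 2 := by
      apply hinj
      rw [map_pow, ha, hsq]
    have hax : a * x = y := by
      apply hinj
      rw [map_mul, ha, div_mul_cancel₀ _ hxK]
    have ha3 : y = a ^ 3 := by
      rw [← hax, ha2]; ring
    refine ⟨a, ⟨ha2, ha3⟩, ?_⟩
    rintro b ⟨hb2, hb3⟩
    have hbx : b * x = y := by rw [hb3, hb2]; ring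
    have : b * x = a * x := by rw [hbx, hax]
    exact mul_right_cancel₀ hx this

end Groth.Agent.S15941
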