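import Groth.Statements.S15987
import Mathlib
-- import your own Groth.Agent.* helpers here

set_option autoImplicit false
universe u v
open Deform

namespace Groth.Agent.S15987

open TrivSqZeroExt in
/-- The automorphism `a + bε ↦ a + (b + D a)ε` as an algebra endomorphism. -/
noncomputable def helper8_phi (k : Type u) [Field k] (A : Type u) [CommRing A] [Algebra k A]
    (D : Derivation k A A) : DualNumber A →ₐ[k] DualNumber A :=
  AlgHom.ofLinearMap
    { toFun := fun x => inl x.fst + inr (x.snd + D x.fst)
      map_add' := by
        intro x y
        ext
        · simp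
        · simp only [fst_add, snd_add, map_add, snd_inl, snd_inr, zero_add]
          abel
      map_smul' := by
        intro c x
        ext
        · simp
        · simp only [fst_smul, snd_smul, snd_add, snd_inl, snd_inr, zero_add,
            RingHom.id_apply, smul_add]
          rw [D.map_smul, smul_zero, zero_add] }
    (by
      ext
      · simp
      · simp)
    (by
      intro x y
      ext
      · simp
      · simp only [LinearMap.coe_mk, AddHom.coe_mk, DualNumber.snd_mul, fst_mul, snd_add, snd_inl,
          snd_inr, zero_add, fst_add, fst_inl, fst_inr, add_zero, Derivation.leibniz, smul_eq_mul]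
        ring)

open TrivSqZeroExt in
theorem helper8_phi_apply (k : Type u) [Field k] (A : Type u) [CommRing A] [Algebra k A]
    (D : Derivation k A A) (x : DualNumber A) :
    helper8_phi k A D x = inl x.fst + inr (x.snd + D x.fst) := rfl

open TrivSqZeroExt in
/-- The automorphism `a + bε ↦ a + (b + D a)ε`. -/
noncomputable def helper8_equiv (k : Type u) [Field k] (A : Type u) [CommRing A] [Algebra k A]
    (D : Derivation k A A) : DualNumber A ≃ₐ[k] DualNumber A :=
  AlgEquiv.ofAlgHom (helper8_phi k A D) (helper8_phi k A (-D))
    (by
      apply AlgHom.ext
      intro x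
      rw [AlgHom.comp_apply, helper8_phi_apply, helper8_phi_apply]
      ext
      · simp
      · simp)
    (by
      apply AlgHom.ext
      intro x
      rw [AlgHom.comp_apply, helper8_phi_apply, helper8_phi_apply]
      ext
      · simp
      · simp)

open TrivSqZeroExt in
theorem helper8_equiv_apply (k : Type u) [Field k] (A : Type u) [CommRing A] [Algebra k A]
    (D : Derivation k A A) (x : DualNumber A) :
    helper8_equiv k A D x = inl x.fst + inr (x.snd + D x.fst) := rfl

open TrivSqZeroExt in
/-- The derivation `a ↦ (φ a)_ε` of an automorphism that is the identity modulo `ε`. -/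
noncomputable def helper8_der (k : Type u) [Field k] (A : Type u) [CommRing A] [Algebra k A]
    (φ : DualNumber A ≃ₐ[k] DualNumber A) (h : ∀ x, (φ x).fst = x.fst) : Derivation k A A :=
  Derivation.mk'
    { toFun := fun a => (φ (inl a : DualNumber A)).snd
      map_add' := by
        intro a b
        rw [inl_add, map_add, snd_add]
      map_smul' := by
        intro c a
        rw [inl_smul, map_smul, snd_smul, RingHom.id_apply] }
    (by
      intro a b
      change (φ (inl (a * b) : DualNumber A)).snd =
        a • (φ (inl b : DualNumber A)).snd + b • (φ (inl a : DualNumber A)).snd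
      rw [inl_mul, map_mul, DualNumber.snd_mul, h, h, fst_inl, fst_inl, smul_eq_mul, smul_eq_mul]
      ring)

open TrivSqZeroExt in
theorem helper8_der_apply (k : Type u) [Field k] (A : Type u) [CommRing A] [Algebra k A]
    (φ : DualNumber A ≃ₐ[k] DualNumber A) (h : ∀ x, (φ x).fst = x.fst) (a : A) :
    helper8_der k A φ h a = (φ (inl a : DualNumber A)).snd := rfl


open TrivSqZeroExt in
/-- Let k be a field, A a commutative k-algebra and q_i : A → k (i ∈ ι) k-algebra maps (marked k-points
of Spec A). The k-algebra automorphisms φ of the ring of dual numbers A[ε] that fix ε (so are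
k[ε]-linear), are the identity modulo ε, and satisfy q_i((φ x)_ε) = q_i(x_ε) for all i and x
(compatibility with the trivial lifts A[ε] → k[ε] of the marked points) are in bijection with the
k-derivations D : A → A such that q_i ∘ D = 0 for every i, the bijection sending φ to a ↦ (φ(a))_ε.
(The source identifies the right-hand side with the global vector fields vanishing at the marked
points; the condition the computation yields is q_i ∘ D = 0, which is the same for Spec A smooth
over k but is weaker in general, e.g. for A = k[x]/(x^2) with 2 invertible in k.) -/
theorem result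
    (k : Type u) [Field k] (A : Type u) [CommRing A] [Algebra k A] {ι : Type v} (q : ι → (A →ₐ[k] k)) :
    ∃ e : {φ : DualNumber A ≃ₐ[k] DualNumber A //
            φ DualNumber.eps = DualNumber.eps ∧ (∀ x, (φ x).fst = x.fst) ∧
              ∀ i x, q i (φ x).snd = q i x.snd} ≃
          {D : Derivation k A A // ∀ i a, q i (D a) = 0},
      ∀ φ (a : A), (e φ).1 a = (φ.1 (inl a : DualNumber A)).snd := by
  refine ⟨{ toFun := fun φ => ⟨helper8_der k A φ.1 φ.2.2.1, ?_⟩
            invFun := fun D => ⟨helper8_equiv k A D.1, ?_, ?_, ?_⟩
            left_inv := ?_
            right_inv := ?_ }, ?_⟩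
  · intro i a
    rw [helper8_der_apply, φ.2.2.2 i, snd_inl, map_zero]
  · rw [helper8_equiv_apply]
    ext
    · simp
    · simp
  · intro x
    rw [helper8_equiv_apply]
    simp
  · intro i x
    rw [helper8_equiv_apply]
    simp [D.2 i]
  · rintro ⟨φ, hε, hfst, hq⟩
    apply Subtype.ext
    apply AlgEquiv.ext
    intro x
    change helper8_equiv k A (helper8_der k A φ hfst) x = φ x
    have hinr : ∀ b : A, φ (inr b : DualNumber A) = inr b := by
      intro b
      have hb : (inr b : DualNumber A) = inl b * DualNumber.eps := by
        rw [DualNumber.eps, inl_mul_inr, smul_eq_mul, mul_one]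
      rw [hb, map_mul, hε]
      ext
      · simp
      · rw [DualNumber.snd_mul, hfst]
        simp
    rw [helper8_equiv_apply, helper8_der_apply]
    conv_rhs => rw [← inl_fst_add_inr_snd_eq x, map_add, hinr]
    ext
    · simp [hfst]
    · simp
      abel
  · rintro ⟨D, hD⟩
    apply Subtype.ext
    apply Derivation.ext
    intro a
    change (helper8_equiv k A D (inl a : DualNumber A)).snd = D a
    rw [helper8_equiv_apply]
    simp
  · intro φ a
    rfl

end Groth.Agent.S15987
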