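import Groth.Statements.S16001
import Mathlib
-- import your own Groth.Agent.* helpers here

set_option autoImplicit false
universe u
open FrobAlg

namespace Groth.Agent.S16001

/-- Let A be a commutative ring of prime characteristic p and B a commutative A-algebra of
characteristic p such that the relative Frobenius B ⊗_{A,Frob} A → B, b ⊗ a ↦ b^p a, is bijective
(that is, Spec B → Spec A is relatively perfect; no finiteness condition is imposed). Then B is
formally étale over A. (The source proves that every perfect algebraic stack over an algebraic space
of characteristic p is formally étale over it; this is the case of an affine scheme over an affine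
base.) -/
theorem result (p : ℕ) [Fact p.Prime] (A : Type u) [CommRing A] [CharP A p]
    (B : Type u) [CommRing B] [Algebra A B] [CharP B p]
    (h : Function.Bijective (FrobAlg.relFrob p A B)) : Algebra.FormallyEtale A B := by
  have hpP : p.Prime := Fact.out
  rw [Algebra.FormallyEtale.iff_comp_bijective]
  intro C _ _ I hI
  rcases subsingleton_or_nontrivial C with hC | hC
  · have hq : ∀ q q' : C ⧸ I, q = q' := by
      intro q q'
      obtain ⟨c, rfl⟩ := Ideal.Quotient.mk_surjective q
      obtain ⟨c', rfl⟩ := Ideal.Quotient.mk_surjective q'
      rw [Subsingleton.elim c c']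
    constructor
    · intro f f' _
      apply AlgHom.ext
      intro b
      exact Subsingleton.elim _ _
    · intro g
      refine ⟨{ toFun := fun _ => 0
                map_one' := Subsingleton.elim _ _
                map_mul' := fun _ _ => Subsingleton.elim _ _
                map_zero' := rfl
                map_add' := fun _ _ => Subsingleton.elim _ _
                commutes' := fun _ => Subsingleton.elim _ _ }, ?_⟩
      apply AlgHom.ext
      intro b
      exact hq _ _
  · have hpC : (p : C) = 0 := by
      rw [← map_natCast (algebraMap A C) p, CharP.cast_eq_zero A p, map_zero]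
    haveI : CharP C p := (CharP.charP_iff_prime_eq_zero hpP).mpr hpC
    have hI2 : ∀ i ∈ I, i ^ p = 0 := by
      intro i hi
      have h2 : i ^ 2 = 0 := by
        have : i ^ 2 ∈ I ^ 2 := Ideal.pow_mem_pow hi 2
        rw [hI] at this
        exact this
      have : p = 2 + (p - 2) := by have := hpP.two_le; omega
      rw [this, pow_add, h2, zero_mul]
    obtain ⟨Fbar, hFbar⟩ : ∃ Fbar : C ⧸ I →+* C, ∀ c : C, Fbar (Ideal.Quotient.mk I c) = c ^ p :=
      ⟨Ideal.Quotient.lift I (frobenius C p) (fun i hi => by rw [frobenius_def]; exact hI2 i hi),
        fun c => by rw [Ideal.Quotient.lift_mk, frobenius_def]⟩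
    have hmkF : ∀ q : C ⧸ I, Ideal.Quotient.mk I (Fbar q) = q ^ p := by
      intro q
      obtain ⟨c, rfl⟩ := Ideal.Quotient.mk_surjective q
      rw [hFbar, map_pow]
    have hrel : ∀ (b : B) (t : FrobAlg.Twist p A), FrobAlg.relFrob p A B (b ⊗ₜ[A] t) =
        b ^ p * algebraMap A B ((FrobAlg.toTwist p A).symm t) := by
      intro b t
      simp [FrobAlg.relFrob, FrobAlg.frobHom, FrobAlg.inclHom, Algebra.TensorProduct.lift_tmul]
      rfl
    constructor
    · -- injectivity
      intro f f' hff
      have hmk : ∀ b : B, Ideal.Quotient.mk I (f b) = Ideal.Quotient.mk I (f' b) := by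
        intro b
        exact DFunLike.congr_fun hff b
      have hpow : ∀ b : B, f b ^ p = f' b ^ p := by
        intro b
        rw [← hFbar, ← hFbar, hmk]
      have key : ∀ z : FrobAlg.BaseChange p A B, f (FrobAlg.relFrob p A B z) = f' (FrobAlg.relFrob p A B z) := by
        intro z
        induction z using TensorProduct.induction_on with
        | zero => simp
        | tmul b t => rw [hrel, map_mul, map_mul, map_pow, map_pow, hpow, AlgHom.commutes, AlgHom.commutes]
        | add z w hz hw => rw [map_add, map_add, map_add, hz, hw]
      apply AlgHom.ext
      intro b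
      obtain ⟨z, rfl⟩ := h.2 b
      exact key z
    · -- surjectivity
      intro g
      let ψ₁ : B →ₐ[A] FrobAlg.Target p A C :=
        { toRingHom := (FrobAlg.toTarget p A C : C →+* FrobAlg.Target p A C).comp (Fbar.comp g.toRingHom)
          commutes' := by
            intro a
            show FrobAlg.toTarget p A C (Fbar (g (algebraMap A B a))) = _
            rw [AlgHom.commutes, FrobAlg.algebraMap_target]
            have : algebraMap A (C ⧸ I) a = Ideal.Quotient.mk I (algebraMap A C a) := rfl
            rw [this, hFbar] }
      let Ψ : FrobAlg.BaseChange p A B →+* C :=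
        ((FrobAlg.toTarget p A C).symm : FrobAlg.Target p A C →+* C).comp
          (Algebra.TensorProduct.lift ψ₁ (FrobAlg.inclHom p A C) (fun _ _ => Commute.all _ _)).toRingHom
      have hΨ : ∀ (b : B) (t : FrobAlg.Twist p A), Ψ (b ⊗ₜ[A] t) =
          Fbar (g b) * algebraMap A C ((FrobAlg.toTwist p A).symm t) := by
        intro b t
        simp [Ψ, ψ₁, FrobAlg.inclHom, Algebra.TensorProduct.lift_tmul] <;> rfl
      have hlift : ∀ z : FrobAlg.BaseChange p A B,
          Ideal.Quotient.mk I (Ψ z) = g (FrobAlg.relFrob p A B z) := by
        intro z
        induction z using TensorProduct.induction_on with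
        | zero => simp
        | tmul b t =>
          rw [hΨ, hrel, map_mul, map_mul, hmkF, map_pow, AlgHom.commutes]
          rfl
        | add z w hz hw => rw [map_add, map_add, map_add, map_add, hz, hw]
      let e : FrobAlg.BaseChange p A B ≃+* B := RingEquiv.ofBijective (FrobAlg.relFrob p A B) h
      have he : ∀ z, e z = FrobAlg.relFrob p A B z := fun z => rfl
      refine ⟨{ toRingHom := Ψ.comp (e.symm : B →+* FrobAlg.BaseChange p A B)
                commutes' := by
                  intro a
                  show Ψ (e.symm (algebraMap A B a)) = algebraMap A C a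
                  have h1 : e.symm (algebraMap A B a) = (1 : B) ⊗ₜ[A] FrobAlg.toTwist p A a := by
                    rw [RingEquiv.symm_apply_eq, he, hrel, one_pow, one_mul, RingEquiv.symm_apply_apply]
                  rw [h1, hΨ, map_one, map_one, one_mul, RingEquiv.symm_apply_apply] }, ?_⟩
      apply AlgHom.ext
      intro b
      show Ideal.Quotient.mk I (Ψ (e.symm b)) = g b
      rw [hlift, ← he, RingEquiv.apply_symm_apply]

end Groth.Agent.S16001
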