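import Groth.Statements.S16014
import Mathlib
-- import your own Groth.Agent.* helpers here

set_option autoImplicit false
universe u
open W4c3ghconstell

namespace Groth.Agent.S16014

/-- Let B = ⊕_{n ∈ ℤ} ⊕_τ B^n_τ be a bigraded finite-dimensional vector space, τ running over a finite
index set, with B^n = 0 for n < −N and for n > M (N, M integers); put d(n, τ) = dim B^n_τ. For
rational numbers φ_τ write φ(C) = Σ_τ φ_τ dim C_τ for a τ-graded piece C, and let B^{≥n} = ⊕_{m ≥ n}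
B^m, so that dim B^{≥n}_τ = Σ_{n ≤ m ≤ M} d(m, τ). Then Σ_{−N ≤ n ≤ M} n · φ(B^n) = Σ_{−N+1 ≤ n ≤ M}
φ(B^{≥n}) − N · φ(B). (Stated directly on the dimension function d.) -/
theorem result {τ : Type u} [Fintype τ] (d : ℤ → τ → ℕ) (φ : τ → ℚ) (N M : ℤ)
    (hN : ∀ n, n < -N → d n = 0) (hM : ∀ n, M < n → d n = 0) :
    ∑ n ∈ Finset.Icc (-N) M, (n : ℚ) * (∑ t, φ t * (d n t : ℚ)) =
      ∑ n ∈ Finset.Icc (-N + 1) M, (∑ t, φ t * (∑ m ∈ Finset.Icc n M, (d m t : ℚ))) -
        (N : ℚ) * (∑ t, φ t * (∑ m ∈ Finset.Icc (-N) M, (d m t : ℚ))) := by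
  have key : ∀ c : ℤ → ℚ, ∑ n ∈ Finset.Icc (-N + 1) M, ∑ m ∈ Finset.Icc n M, c m =
      ∑ m ∈ Finset.Icc (-N) M, ((m : ℚ) + N) * c m := by
    intro c
    rw [Finset.sum_comm' (s' := fun m => Finset.Icc (-N + 1) m) (t' := Finset.Icc (-N) M)]
    · apply Finset.sum_congr rfl
      intro m hm
      rw [Finset.sum_const, Int.card_Icc, nsmul_eq_mul]
      have h1 : -N ≤ m := (Finset.mem_Icc.mp hm).1
      have h : (0 : ℤ) ≤ m + 1 - (-N + 1) := by omega
      have h2 : ((m + 1 - (-N + 1)).toNat : ℚ) = (m : ℚ) + N := by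
        rw [← Int.cast_natCast, Int.toNat_of_nonneg h]; push_cast; ring
      rw [h2]
    · intro n m
      simp only [Finset.mem_Icc]
      constructor <;> intro h <;> omega
  have e1 : ∀ n : ℤ, (∑ t, φ t * (∑ m ∈ Finset.Icc n M, (d m t : ℚ))) =
      ∑ m ∈ Finset.Icc n M, (∑ t, φ t * (d m t : ℚ)) := by
    intro n
    rw [Finset.sum_comm]
    apply Finset.sum_congr rfl
    intro t _
    rw [Finset.mul_sum]
  simp only [e1]
  rw [key (fun m => ∑ t, φ t * (d m t : ℚ)), Finset.mul_sum, ← Finset.sum_sub_distrib]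
  apply Finset.sum_congr rfl
  intro n _
  ring

end Groth.Agent.S16014
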