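import Groth.Statements.S16015
import Mathlib
-- import your own Groth.Agent.* helpers here

set_option autoImplicit false
universe u v w
open W4c3ghconstell

namespace Groth.Agent.S16015

/-- Let B be a commutative ring, E a B-module, F a finitely generated projective B-module and β : E → F
a B-linear map. Then there is a unique ideal I of B such that for every commutative B-algebra C the
base change β_C : C ⊗ E → C ⊗ F is zero if and only if the structure map B → C kills I. (The
published statement is for a homomorphism of modules on a scheme T into a locally free module and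
produces a closed subscheme T₀ through which a morphism factors exactly when the pulled-back
homomorphism vanishes; this row is the case of an affine T with affine test schemes and F of finite
rank, to which it reduces.) -/
theorem result {B : Type u} [CommRing B]
    {E : Type v} [AddCommGroup E] [Module B E]
    {F : Type w} [AddCommGroup F] [Module B F] [Module.Finite B F] [Module.Projective B F]
    (β : E →ₗ[B] F) :
    ∃! I : Ideal B, ∀ (C : Type u) [CommRing C] [Algebra B C],
      LinearMap.baseChange C β = 0 ↔ I ≤ RingHom.ker (algebraMap B C) := by
  classical
  obtain ⟨n, f, g, -, -, hfg⟩ := Module.Finite.exists_comp_eq_id_of_projective B F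
  have hfg' : ∀ y : F, f (g y) = y := fun y => congrArg (fun l : F →ₗ[B] F => l y) hfg
  set I : Ideal B := Ideal.span {b | ∃ (φ : F →ₗ[B] B) (e : E), b = φ (β e)} with hI
  have hprop : ∀ (C : Type u) [CommRing C] [Algebra B C],
      LinearMap.baseChange C β = 0 ↔ I ≤ RingHom.ker (algebraMap B C) := by
    intro C _ _
    constructor
    · intro h0
      rw [hI, Ideal.span_le]
      rintro b ⟨φ, e, rfl⟩
      rw [SetLike.mem_coe, RingHom.mem_ker]
      have h1 : (φ.baseChange C) ((β.baseChange C) ((1 : C) ⊗ₜ[B] e)) = 0 := by
        rw [h0, LinearMap.zero_apply, map_zero]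
      rw [LinearMap.baseChange_tmul, LinearMap.baseChange_tmul] at h1
      have h2 := congrArg (TensorProduct.rid B C) h1
      rw [TensorProduct.rid_tmul, map_zero] at h2
      rw [Algebra.algebraMap_eq_smul_one]
      exact h2
    · intro hle
      apply LinearMap.ext
      intro t
      induction t using TensorProduct.induction_on with
      | zero => simp
      | tmul c e =>
        rw [LinearMap.baseChange_tmul, LinearMap.zero_apply]
        have h1 : β e = ∑ i, (g (β e)) i • f (fun j => if i = j then 1 else 0) := by
          conv_lhs => rw [← hfg' (β e)]
          exact LinearMap.pi_apply_eq_sum_univ f (g (β e))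
        rw [h1, TensorProduct.tmul_sum]
        apply Finset.sum_eq_zero
        intro i _
        have hb : (g (β e)) i ∈ I := by
          apply Ideal.subset_span
          exact ⟨(LinearMap.proj i).comp g, e, rfl⟩
        have hb0 : algebraMap B C ((g (β e)) i) = 0 := hle hb
        rw [← TensorProduct.smul_tmul, Algebra.smul_def, hb0, zero_mul, TensorProduct.zero_tmul]
      | add x y hx hy => rw [map_add, hx, hy]; simp
  refine ⟨I, hprop, ?_⟩
  intro I' hI'
  have hker : ∀ J : Ideal B, RingHom.ker (algebraMap B (B ⧸ J)) = J := fun J => Ideal.mk_ker
  apply le_antisymm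
  · have h1 : LinearMap.baseChange (B ⧸ I) β = 0 := (hprop (B ⧸ I)).mpr (by rw [hker])
    have h2 := (hI' (B ⧸ I)).mp h1
    rwa [hker] at h2
  · have h1 : LinearMap.baseChange (B ⧸ I') β = 0 := (hI' (B ⧸ I')).mpr (by rw [hker])
    have h2 := (hprop (B ⧸ I')).mp h1
    rwa [hker] at h2

end Groth.Agent.S16015
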