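import Groth.Statements.S16016
import Mathlib
-- import your own Groth.Agent.* helpers here

set_option autoImplicit false
universe u
open W4c3ghconstell

namespace Groth.Agent.S16016

/-- Let k be a field with 2 ≠ 0, index k⁶ by two copies of {0,1,2} (basis vectors p₁, p₂, p₃ in the
first copy and p₄, p₅, p₆ in the second), let Q be the symmetric matrix with blocks ((0, 1), (1,
0)), so that the form it defines pairs pᵢ with pᵢ₊₃, and let W₀ be the span of p₁ and p₂. Then a 6 ×
6 matrix A satisfies AᵀQ + QA = 0 (A lies in the orthogonal Lie algebra of Q) and has the image of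
Aᵀ contained in W₀ if and only if A = a · (E₄₂ − E₅₁) for some scalar a, where Eᵢⱼ is the matrix
unit. (The lemma in the source concludes that the set of such A inside a certain nilpotent orbit
closure of this Lie algebra is one-dimensional; this row is the computation its proof performs,
which determines all such A in the Lie algebra. Characteristic 2 is excluded: there E₁₄ᵀ also
qualifies.) -/
theorem result (k : Type u) [Field k] (h2 : (2 : k) ≠ 0)
    (A : Matrix (Fin 3 ⊕ Fin 3) (Fin 3 ⊕ Fin 3) k) :
    (A.transpose * Matrix.fromBlocks (0 : Matrix (Fin 3) (Fin 3) k) 1 1 0 +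
        Matrix.fromBlocks (0 : Matrix (Fin 3) (Fin 3) k) 1 1 0 * A = 0 ∧
      LinearMap.range (Matrix.mulVecLin A.transpose) ≤
        Submodule.span k {Pi.single (Sum.inl 0 : Fin 3 ⊕ Fin 3) (1 : k), Pi.single (Sum.inl 1 : Fin 3 ⊕ Fin 3) (1 : k)}) ↔
    ∃ a : k, A = a • (Matrix.single (Sum.inr 0) (Sum.inl 1) (1 : k) - Matrix.single (Sum.inr 1) (Sum.inl 0) (1 : k)) := by
  classical
  obtain ⟨Q, hQdef⟩ : ∃ Q : Matrix (Fin 3 ⊕ Fin 3) (Fin 3 ⊕ Fin 3) k,
      Q = Matrix.fromBlocks (0 : Matrix (Fin 3) (Fin 3) k) 1 1 0 := ⟨_, rfl⟩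
  rw [← hQdef]
  have hQ : ∀ l j : Fin 3 ⊕ Fin 3, Q l j = if l = j.swap then 1 else 0 := by
    intro l j
    rw [hQdef]
    rcases l with l | l <;> rcases j with j | j <;> simp [Matrix.one_apply]
  have hQ' : ∀ i l : Fin 3 ⊕ Fin 3, Q i l = if l = i.swap then 1 else 0 := fun i l => by
    rw [hQ]
    exact if_congr ⟨fun h => by rw [h, Sum.swap_swap], fun h => by rw [h, Sum.swap_swap]⟩ rfl rfl
  have hentry : ∀ (B : Matrix (Fin 3 ⊕ Fin 3) (Fin 3 ⊕ Fin 3) k) (i j : Fin 3 ⊕ Fin 3),
      (B.transpose * Q + Q * B) i j = B j.swap i + B i.swap j := by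
    intro B i j
    have s1 : ∑ l, B.transpose i l * Q l j = B j.swap i := by
      simp only [hQ, Matrix.transpose_apply, mul_ite, mul_one, mul_zero, Finset.sum_ite_eq',
        Finset.mem_univ, if_true]
    have s2 : ∑ l, Q i l * B l j = B i.swap j := by
      simp only [hQ', ite_mul, one_mul, zero_mul, Finset.sum_ite_eq', Finset.mem_univ, if_true]
    rw [Matrix.add_apply, Matrix.mul_apply, Matrix.mul_apply, s1, s2]
  constructor
  · rintro ⟨hA1, hA2⟩
    have h1 : ∀ i j, A j.swap i + A i.swap j = 0 := fun i j => by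
      rw [← hentry A i j, hA1]; rfl
    have key : ∀ i j, A i j = -A j.swap i.swap := fun i j => by
      have := h1 i.swap j
      rw [Sum.swap_swap] at this
      linear_combination this
    have Z1 : ∀ i j, j ≠ Sum.inl 0 → j ≠ Sum.inl 1 → A i j = 0 := by
      intro i j hj0 hj1
      have hmem := hA2 (LinearMap.mem_range_self _ (Pi.single i 1))
      rw [Matrix.mulVecLin_apply, Submodule.mem_span_pair] at hmem
      obtain ⟨c, d, hcd⟩ := hmem
      have := congrFun hcd j
      simp [Matrix.mulVec_single_one, Pi.single_apply, hj0, hj1] at this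
      first | exact this | exact this.symm
    have Z2 : ∀ i j, i ≠ Sum.inr 0 → i ≠ Sum.inr 1 → A i j = 0 := by
      intro i j hi0 hi1
      rw [key i j, Z1 _ _ ?_ ?_, neg_zero]
      · intro h
        apply hi0
        have := congrArg Sum.swap h
        rw [Sum.swap_swap] at this
        exact this
      · intro h
        apply hi1
        have := congrArg Sum.swap h
        rw [Sum.swap_swap] at this
        exact this
    have d0 : A (Sum.inr 0) (Sum.inl 0) = 0 := by
      have e : A (Sum.inr 0) (Sum.inl 0) = -A (Sum.inr 0) (Sum.inl 0) := key (Sum.inr 0) (Sum.inl 0)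
      have h2' : (2 : k) * A (Sum.inr 0) (Sum.inl 0) = 0 := by linear_combination e
      exact (mul_eq_zero.mp h2').resolve_left h2
    have d1 : A (Sum.inr 1) (Sum.inl 1) = 0 := by
      have e : A (Sum.inr 1) (Sum.inl 1) = -A (Sum.inr 1) (Sum.inl 1) := key (Sum.inr 1) (Sum.inl 1)
      have h2' : (2 : k) * A (Sum.inr 1) (Sum.inl 1) = 0 := by linear_combination e
      exact (mul_eq_zero.mp h2').resolve_left h2
    have off : A (Sum.inr 1) (Sum.inl 0) = -A (Sum.inr 0) (Sum.inl 1) := key (Sum.inr 1) (Sum.inl 0)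
    refine ⟨A (Sum.inr 0) (Sum.inl 1), ?_⟩
    ext i j
    by_cases hi : i = Sum.inr 0 ∨ i = Sum.inr 1
    · by_cases hj : j = Sum.inl 0 ∨ j = Sum.inl 1
      · rcases hi with rfl | rfl <;> rcases hj with rfl | rfl
        · rw [d0]; simp [Matrix.single_apply]
        · simp [Matrix.single_apply]
        · rw [off]; simp [Matrix.single_apply]
        · rw [d1]; simp [Matrix.single_apply]
      · push_neg at hj
        rw [Z1 i j hj.1 hj.2]
        simp [Matrix.single_apply, Ne.symm hj.1, Ne.symm hj.2]
    · push_neg at hi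
      rw [Z2 i j hi.1 hi.2]
      simp [Matrix.single_apply, Ne.symm hi.1, Ne.symm hi.2]
  · rintro ⟨a, rfl⟩
    constructor
    · ext i j
      rw [hentry]
      rcases i with i | i <;> rcases j with j | j <;> fin_cases i <;> fin_cases j <;>
        simp [Matrix.single_apply]
    · rintro _ ⟨v, rfl⟩
      rw [Submodule.mem_span_pair]
      refine ⟨-a * v (Sum.inr 1), a * v (Sum.inr 0), ?_⟩
      funext j
      rw [Matrix.mulVecLin_apply]
      rcases j with j | j <;> fin_cases j <;>
        simp [Matrix.mulVec, dotProduct, Fintype.sum_sum_type, Fin.sum_univ_three,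
          Matrix.single_apply, Pi.single_apply]

end Groth.Agent.S16016
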