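import Groth.Statements.S16017
import Mathlib
-- import your own Groth.Agent.* helpers here

set_option autoImplicit false
universe u
open W4c3ghconstell

namespace Groth.Agent.S16017

theorem aux {ι : Type u} [DecidableEq ι] (f g r : ι → ℝ) (hsum : Summable f) (hg : Summable g)
    (hr0 : ∀ i, 0 ≤ r i) (hr1 : ∀ i, r i ≤ 1) (T : Finset ι) :
    Filter.Tendsto (fun D : Finset ι =>
        (∑ i ∈ D, g i) +
          ((∑' i, if i ∈ D then (0 : ℝ) else f i) / ((D \ T).card : ℝ)) * ∑ i ∈ D \ T, r i)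
      Filter.atTop (nhds (∑' i, g i)) := by
  have hS : ∀ D : Finset ι,
      (∑' i, if i ∈ D then (0 : ℝ) else f i) = ∑' i, f i - ∑ i ∈ D, f i := by
    intro D
    have e : ∑ i ∈ D, (if i ∈ D then f i else 0) = ∑ i ∈ D, f i :=
      Finset.sum_congr rfl (fun i hi => if_pos hi)
    have h2 : HasSum (fun i => if i ∈ D then f i else 0) (∑ i ∈ D, f i) := by
      have : HasSum (fun i => if i ∈ D then f i else 0)
          (∑ i ∈ D, (if i ∈ D then f i else 0)) :=
        hasSum_sum_of_ne_finset_zero (fun i hi => if_neg hi)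
      rwa [e] at this
    have h3 := hsum.hasSum.sub h2
    have h4 : (fun i => f i - if i ∈ D then f i else 0)
        = fun i => if i ∈ D then (0 : ℝ) else f i := by
      funext i; split_ifs <;> simp
    rw [h4] at h3
    exact h3.tsum_eq
  have hS0 : Filter.Tendsto (fun D : Finset ι => ∑' i, if i ∈ D then (0 : ℝ) else f i)
      Filter.atTop (nhds 0) := by
    have hf : Filter.Tendsto (fun s : Finset ι => ∑ b ∈ s, f b) Filter.atTop
        (nhds (∑' i, f i)) := hsum.hasSum
    have : Filter.Tendsto (fun D : Finset ι => ∑' i, f i - ∑ i ∈ D, f i) Filter.atTop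
        (nhds (∑' i, f i - ∑' i, f i)) := tendsto_const_nhds.sub hf
    rw [sub_self] at this
    exact this.congr (fun D => (hS D).symm)
  have hE : ∀ D : Finset ι,
      ‖(∑' i, if i ∈ D then (0 : ℝ) else f i) / ((D \ T).card : ℝ) * ∑ i ∈ D \ T, r i‖
        ≤ |∑' i, if i ∈ D then (0 : ℝ) else f i| := by
    intro D
    rw [Real.norm_eq_abs]
    generalize (∑' i, if i ∈ D then (0 : ℝ) else f i) = s
    have hR0 : 0 ≤ ∑ i ∈ D \ T, r i := Finset.sum_nonneg (fun i _ => hr0 i)
    have hR1 : ∑ i ∈ D \ T, r i ≤ ((D \ T).card : ℝ) := by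
      calc ∑ i ∈ D \ T, r i ≤ ∑ i ∈ D \ T, (1 : ℝ) := Finset.sum_le_sum (fun i _ => hr1 i)
        _ = ((D \ T).card : ℝ) := by simp
    rcases Nat.eq_zero_or_pos (D \ T).card with h0 | hpos
    · rw [h0]; simp
    · have hd : (0 : ℝ) < ((D \ T).card : ℝ) := by exact_mod_cast hpos
      rw [abs_mul, abs_div, abs_of_pos hd, abs_of_nonneg hR0, div_mul_eq_mul_div, div_le_iff₀ hd]
      exact mul_le_mul_of_nonneg_left hR1 (abs_nonneg _)
  have hE0 := squeeze_zero_norm hE (by simpa using hS0.abs)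
  have hg' : Filter.Tendsto (fun s : Finset ι => ∑ b ∈ s, g b) Filter.atTop
      (nhds (∑' i, g i)) := hg.hasSum
  have := hg'.add hE0
  rw [add_zero] at this
  exact this


/-- Let ι index the irreducible representations, θ : ι → ℚ a weight negative at only finitely many
indices (the finite set D₋), h h' : ι → ℕ with h' ≤ h pointwise (the isotypic dimensions of an
object and of a sub-object) and Σ_i θ_i h_i summable. For a finite set D of indices put S_D = Σ_{i ∉
D} θ_i h_i, d = #(D ∖ D₋), and θ̃_D = Σ_{i ∈ D} θ_i h'_i + (S_D / d) · Σ_{i ∈ D ∖ D₋} h'_i / h_i,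
the modified weight attached to the parameters chosen for D (for D ⊇ D₋ the first sum is the
negative part plus the part over D ∖ D₋). Then θ̃_D tends to Σ_i θ_i h'_i as D grows through the
finite subsets of ι. (Here D runs over all finite sets of indices and a quotient by zero is zero;
the source lets D run over the finite subsets of the locus θ ≠ 0 containing D₋, and the same tail
estimate gives both.) -/
theorem result {ι : Type u} [DecidableEq ι] (θ : ι → ℚ) (h h' : ι → ℕ)
    (hle : ∀ i, h' i ≤ h i) (hfin : {i | θ i < 0}.Finite)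
    (hsum : Summable (fun i => (θ i : ℝ) * (h i : ℝ))) :
    Filter.Tendsto
      (fun D : Finset ι =>
        (∑ i ∈ D, (θ i : ℝ) * (h' i : ℝ)) +
          ((∑' i, if i ∈ D then (0 : ℝ) else (θ i : ℝ) * (h i : ℝ)) / ((D \ hfin.toFinset).card : ℝ)) *
            ∑ i ∈ D \ hfin.toFinset, ((h' i : ℝ) / (h i : ℝ)))
      Filter.atTop (nhds (∑' i, (θ i : ℝ) * (h' i : ℝ))) := by
  have hgf : ∀ i, ‖(θ i : ℝ) * (h' i : ℝ)‖ ≤ |(θ i : ℝ) * (h i : ℝ)| := by
    intro i
    rw [Real.norm_eq_abs, abs_mul, abs_mul]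
    apply mul_le_mul_of_nonneg_left _ (abs_nonneg _)
    rw [abs_of_nonneg (Nat.cast_nonneg _), abs_of_nonneg (Nat.cast_nonneg _)]
    exact_mod_cast hle i
  have hgs : Summable (fun i => (θ i : ℝ) * (h' i : ℝ)) :=
    Summable.of_norm_bounded (g := fun i => |(θ i : ℝ) * (h i : ℝ)|) hsum.abs hgf
  exact aux (fun i => (θ i : ℝ) * (h i : ℝ)) (fun i => (θ i : ℝ) * (h' i : ℝ))
    (fun i => (h' i : ℝ) / (h i : ℝ)) hsum hgs
    (fun i => div_nonneg (Nat.cast_nonneg _) (Nat.cast_nonneg _))
    (fun i => div_le_one_of_le₀ (by exact_mod_cast hle i) (Nat.cast_nonneg _)) hfin.toFinset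

end Groth.Agent.S16017
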