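import Groth.Statements.S16018
import Mathlib
import Groth.Agent.Lib.helper8.ConstellLib
-- import your own Groth.Agent.* helpers here

set_option autoImplicit false
universe u v w x
open W4c3ghconstell

namespace Groth.Agent.S16018

/-- Let k be an algebraically closed field of characteristic zero, A a commutative Hopf algebra over k
which is a finitely generated domain and linearly reductive (the coordinate ring of a connected
reductive group G; irreducible representations of G are indexed by the simple subcoalgebras D of A),
R a Noetherian commutative k-algebra with a multiplicative A-coaction (an affine G-scheme X = Spec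
R), and M an R-module with a compatible A-coaction (a G-equivariant quasi-coherent module on X)
which is finite over R, is the sum of its isotypic components M_D, and has dim_k M_D = h(D) < ∞ for
every simple subcoalgebra D. Fix a weight θ from simple subcoalgebras to ℚ, negative at only
finitely many D, with Σ_D θ(D) h(D) = 0 (a convergent real series) and with θ(D) ≠ 0, h(D) ≠ 0 for
some D; the weight of a k-subspace N of M is the real series Σ_D θ(D) · dim_k (N ∩ M_D). Assume
moreover that θ(D) ≠ 0 for every simple subcoalgebra D. If M is θ-semistable, i.e. M has weight 0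
and every R-submodule of M stable under the coaction has weight ≥ 0, then M is generated as an
R-module by its isotypic components M_D with θ(D) < 0 (the generation property of θ-stable objects
thus extends to θ-semistable ones when θ vanishes nowhere). (Multiplicities are recorded as
dimensions of isotypic components, a rescaling of θ.) -/
theorem result (k : Type u) [Field k] [IsAlgClosed k] [CharZero k]
    (A : Type v) [CommRing A] [IsDomain A] [HopfAlgebra k A] [Algebra.FiniteType k A]
    (hred : HopfRep.IsLinearlyReductive k A)
    (R : Type w) [CommRing R] [Algebra k R] [IsNoetherianRing R] [HopfRep.Comod k A R] [GLin.IsCoactAlg k A R]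
    (M : Type x) [AddCommGroup M] [Module k M] [Module R M] [IsScalarTower k R M]
    [HopfRep.Comod k A M] [TameAct.IsHopfMod k A R M]
    (h : W4c3ghconstell.SimpSub k A → ℕ) (θ : W4c3ghconstell.SimpSub k A → ℚ)
    (hfin : {D | θ D < 0}.Finite) (hsum : HasSum (fun D => (θ D : ℝ) * (h D : ℝ)) 0)
    (hne : ∃ D, θ D ≠ 0 ∧ h D ≠ 0)
    (hM : W4c3ghconstell.IsConstellation k A R M h)
    (hθ : ∀ D, θ D ≠ 0)
    (hss : W4c3ghconstell.IsThetaSemistable k A R M θ) :
    W4c3ghconstell.genIn k A R M {D | θ D < 0} ⊤ = ⊤ := by
  classical
  obtain ⟨hMfin, hMsup, hMD⟩ := hM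
  obtain ⟨h0, hss2⟩ := hss
  have hsub := H8Const.genIn_isSubcomod {D | θ D < 0} (⊤ : Submodule R M)
    H8Const.isSubcomod_top'
  have hge := hss2 _ hsub
  have hsumG := H8Const.summable_T h θ hsum.summable hMD
    ((genIn k A R M {D | θ D < 0} ⊤).restrictScalars k)
  have hsumT := H8Const.summable_T h θ hsum.summable hMD (⊤ : Submodule k M)
  have hterm : ∀ D, (θ D : ℝ) *
      (hilbAt M ((genIn k A R M {D | θ D < 0} ⊤).restrictScalars k) D : ℝ) ≤
      (θ D : ℝ) * (hilbAt M (⊤ : Submodule k M) D : ℝ) := by
    intro D
    have h1 := H8Const.term_genIn_le θ (⊤ : Submodule R M) D (hMD D).1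
    rwa [Submodule.restrictScalars_top] at h1
  have heq : ∀ D, (θ D : ℝ) *
      (hilbAt M ((genIn k A R M {D | θ D < 0} ⊤).restrictScalars k) D : ℝ) =
      (θ D : ℝ) * (hilbAt M (⊤ : Submodule k M) D : ℝ) := by
    intro D
    by_contra hne'
    have hlt := lt_of_le_of_ne (hterm D) hne'
    have key : theta M θ ((genIn k A R M {D | θ D < 0} ⊤).restrictScalars k) <
        theta M θ (⊤ : Submodule k M) :=
      hasSum_lt (fun D => hterm D) hlt hsumG.hasSum hsumT.hasSum
    linarith
  have hfr : ∀ D : SimpSub k A,
      isoComp M D.1 ≤ (genIn k A R M {D | θ D < 0} ⊤).restrictScalars k := by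
    intro D
    have h1 := heq D
    have hθ' : (θ D : ℝ) ≠ 0 := by exact_mod_cast hθ D
    have h2 : (hilbAt M ((genIn k A R M {D | θ D < 0} ⊤).restrictScalars k) D : ℝ) =
        (hilbAt M (⊤ : Submodule k M) D : ℝ) := mul_left_cancel₀ hθ' h1
    have h3 : hilbAt M ((genIn k A R M {D | θ D < 0} ⊤).restrictScalars k) D =
        hilbAt M (⊤ : Submodule k M) D := by exact_mod_cast h2
    rw [H8Const.hilbAt_top] at h3
    haveI : FiniteDimensional k ↥(isoComp M D.1) := (hMD D).1
    have h4 : (genIn k A R M {D | θ D < 0} ⊤).restrictScalars k ⊓ isoComp M D.1 =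
        isoComp M D.1 := Submodule.eq_of_le_of_finrank_eq inf_le_right h3
    exact h4.symm.le.trans inf_le_left
  have htop : (⊤ : Submodule k M) ≤ (genIn k A R M {D | θ D < 0} ⊤).restrictScalars k := by
    rw [← hMsup]; exact iSup_le hfr
  exact eq_top_iff.2 (fun m _ => htop (Submodule.mem_top : m ∈ (⊤ : Submodule k M)))

end Groth.Agent.S16018
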