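import Groth.Statements.S16030
import Mathlib

set_option autoImplicit false
universe u
open CAlg

namespace Groth.Agent.S16030

/-- For a finite set F of points of the spectrum of a commutative ring A and an open subset U containing
F, some basic open D(a) contains F and is contained in U. -/
theorem result
    (A : Type u) [CommRing A] (F : Set (PrimeSpectrum A)) (hF : F.Finite)
    (U : TopologicalSpace.Opens (PrimeSpectrum A)) (hFU : F ⊆ (U : Set (PrimeSpectrum A))) :
    ∃ a : A, F ⊆ (PrimeSpectrum.basicOpen a : Set (PrimeSpectrum A)) ∧ PrimeSpectrum.basicOpen a ≤ U := by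
  classical
  rcases F.eq_empty_or_nonempty with hFe | ⟨p₀, hp₀⟩
  · subst hFe
    refine ⟨0, Set.empty_subset _, ?_⟩
    rw [PrimeSpectrum.basicOpen_zero]; exact bot_le
  obtain ⟨I, hI⟩ := (PrimeSpectrum.isClosed_iff_zeroLocus_ideal _).1 U.isOpen.isClosed_compl
  have hnot : ¬ ((I : Set A) ⊆ ⋃ p ∈ (↑hF.toFinset : Set (PrimeSpectrum A)), (p.asIdeal : Set A)) := by
    intro h
    have h' := (Ideal.subset_union_prime (s := hF.toFinset) (f := fun p : PrimeSpectrum A => p.asIdeal)
      p₀ p₀ (fun p _ _ _ => p.isPrime)).1 h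
    obtain ⟨p, hp, hIp⟩ := h'
    have hpF : p ∈ F := by simpa using hp
    have : p ∈ PrimeSpectrum.zeroLocus (I : Set A) := by
      rw [PrimeSpectrum.mem_zeroLocus]; exact hIp
    rw [← hI] at this
    exact this (hFU hpF)
  rw [Set.not_subset] at hnot
  obtain ⟨a, haI, ha⟩ := hnot
  refine ⟨a, ?_, ?_⟩
  · intro p hp
    rw [SetLike.mem_coe, PrimeSpectrum.mem_basicOpen]
    intro hap
    apply ha
    simp only [Set.mem_iUnion]
    exact ⟨p, by simpa using hp, hap⟩
  · intro q hq
    rw [PrimeSpectrum.mem_basicOpen] at hq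
    by_contra hqU
    have : q ∈ ((U : Set (PrimeSpectrum A)))ᶜ := hqU
    rw [hI, PrimeSpectrum.mem_zeroLocus] at this
    exact hq (this haI)

end Groth.Agent.S16030
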