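import Groth.Statements.S16071
import Groth.Agent.Lib.helper8.AlphaPDualLib

set_option autoImplicit false
universe u
open CartDual

namespace Groth.Agent.S16071

open H8AlphaP in
/-- evaluation of a linear form at a point, as a linear map -/
noncomputable def evalAt (p : ℕ) (R : Type u) [CommRing R] (a : AlphaP.A p R) :
    CartDual.D R (AlphaP.A p R) →ₗ[R] R :=
  LinearMap.applyₗ a ∘ₗ (CartDual.toDual R (AlphaP.A p R)).toLinearMap

theorem evalAt_apply (p : ℕ) (R : Type u) [CommRing R] (a : AlphaP.A p R)
    (φ : CartDual.D R (AlphaP.A p R)) : evalAt p R a φ = φ a := rfl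

section
variable (p : ℕ) [hp : Fact p.Prime] (R : Type u) [CommRing R] [CharP R p] [Nontrivial R]

noncomputable def f0 : AlphaP.A p R →ₐ[R] CartDual.D R (AlphaP.A p R) :=
  AlphaP.lift p R (H8AlphaP.delta p R) (H8AlphaP.delta_pow_p p R)

theorem f0_x : f0 p R (AlphaP.x p R) = H8AlphaP.delta p R := AlphaP.lift_x _ _

theorem f0_apply_x_pow (a : AlphaP.A p R) (j : Fin p) :
    (f0 p R a) (AlphaP.x p R ^ (j : ℕ)) =
      (AlphaP.basis p R).repr a j * (((j : ℕ).factorial : ℕ) : R) := by
  rw [← evalAt_apply]
  conv_lhs => rw [← (AlphaP.basis p R).sum_repr a]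
  simp only [map_sum, map_smul, AlphaP.basis_apply, map_pow, f0_x, evalAt_apply, smul_eq_mul]
  rw [Finset.sum_eq_single j]
  · rw [H8AlphaP.delta_pow_apply p R _ _ j.2, if_pos rfl]
  · intro m _ hm
    rw [H8AlphaP.delta_pow_apply p R _ _ j.2, if_neg (by intro h; apply hm; ext; exact h.symm), mul_zero]
  · intro h; exact absurd (Finset.mem_univ _) h

theorem f0_bijective : Function.Bijective (f0 p R) := by
  constructor
  · rw [injective_iff_map_eq_zero]
    intro a ha
    apply (AlphaP.basis p R).repr.injective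
    rw [map_zero]
    ext j
    have h := f0_apply_x_pow p R a j
    rw [ha] at h
    have h0 : ((0 : CartDual.D R (AlphaP.A p R))) (AlphaP.x p R ^ (j : ℕ)) = 0 := rfl
    rw [h0] at h
    rw [Finsupp.zero_apply]
    exact ((H8AlphaP.isUnit_factorial p R j j.2).mul_left_eq_zero).mp h.symm
  · intro φ
    refine ⟨∑ j : Fin p, (φ (AlphaP.x p R ^ (j : ℕ)) *
      ((H8AlphaP.isUnit_factorial p R j j.2).unit⁻¹ : Rˣ)) • AlphaP.basis p R j, ?_⟩
    apply WithConv.ext
    apply (AlphaP.basis p R).ext
    intro i
    rw [AlphaP.basis_apply]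
    have h := f0_apply_x_pow p R (∑ j : Fin p, (φ (AlphaP.x p R ^ (j : ℕ)) *
      ((H8AlphaP.isUnit_factorial p R j j.2).unit⁻¹ : Rˣ)) • AlphaP.basis p R j) i
    rw [(AlphaP.basis p R).repr_sum_self] at h
    refine h.trans ?_
    rw [mul_assoc]
    have hu : (((H8AlphaP.isUnit_factorial p R i i.2).unit⁻¹ : Rˣ) : R) *
        (((i : ℕ).factorial : ℕ) : R) = 1 := by
      have := (H8AlphaP.isUnit_factorial p R i i.2).unit.inv_mul
      simpa using this
    rw [hu, mul_one]

noncomputable def f : AlphaP.A p R →ₐc[R] CartDual.D R (AlphaP.A p R) :=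
  BialgHom.ofAlgHom (f0 p R)
    (by
      apply AlphaP.algHom_ext
      rw [AlgHom.comp_apply, f0_x, Bialgebra.counitAlgHom_apply, Bialgebra.counitAlgHom_apply,
        AlphaP.counit_x, CartDual.counit_def, CartDual.counit_apply]
      have := H8AlphaP.delta_x_pow p R 0 hp.out.pos
      rw [pow_zero] at this
      rw [this, if_neg (by omega)])
    (by
      apply AlphaP.algHom_ext
      rw [AlgHom.comp_apply, AlgHom.comp_apply, f0_x, Bialgebra.comulAlgHom_apply,
        Bialgebra.comulAlgHom_apply, AlphaP.comul_x, H8AlphaP.comul_delta, map_add,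
        Algebra.TensorProduct.map_tmul, Algebra.TensorProduct.map_tmul, f0_x, map_one])

theorem f_apply (a : AlphaP.A p R) : f p R a = f0 p R a := rfl

end

/-- Let p be a prime, R a commutative ring of characteristic p and A = R[X]/(X^p) the Hopf algebra of
α_p over Spec R, with X primitive. Then the Cartier dual of α_p is again α_p: there is a bialgebra
isomorphism e from the dual Hopf algebra Hom_R(A, R), with the transposed structure maps, to A,
whose inverse sends X to the linear form dual to X with respect to the basis 1, X, …, X^{p-1} of A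
(so e⁻¹(X) takes the value 1 on X and 0 on the other powers X^i, i < p). (Any commutative base ring
of characteristic p is allowed.) -/
theorem result (p : ℕ) [Fact p.Prime] (R : Type u) [CommRing R] [CharP R p] :
    ∃ e : CartDual.D R (AlphaP.A p R) ≃ₐc[R] AlphaP.A p R,
      ∀ i : ℕ, i < p → (e.symm (AlphaP.x p R)) (AlphaP.x p R ^ i) = if i = 1 then 1 else 0 := by
  haveI := H8AlphaP.nontriv p R
  have hbij : Function.Bijective (f p R) := f0_bijective p R
  refine ⟨(BialgEquiv.ofBijective (R := R) (A := AlphaP.A p R) (B := CartDual.D R (AlphaP.A p R))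
    (f p R) hbij).symm, ?_⟩
  intro i hi
  have h1 : ((BialgEquiv.ofBijective (R := R) (A := AlphaP.A p R) (B := CartDual.D R (AlphaP.A p R))
    (f p R) hbij).symm.symm (AlphaP.x p R)) = H8AlphaP.delta p R := f0_x p R
  rw [h1]
  exact H8AlphaP.delta_x_pow p R i hi

end Groth.Agent.S16071
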