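import Groth.Statements.S16074
import Groth.Agent.Lib.helper8.HopfNonIsoLib

set_option autoImplicit false
universe u
open Hopf

namespace Groth.Agent.S16074

/-- Let p be a prime and R a commutative ring of characteristic p (p = 0 in R, R nonzero). Then μ_p and
α_p over Spec R are not isomorphic: there is no R-bialgebra isomorphism between the group algebra
R[ℤ/p] of the cyclic group of order p (group elements group-like) and the Hopf algebra R[X]/(X^p) of
α_p (X primitive), although the underlying R-algebras R[ℤ/p] = R[Y]/(Y^p) and R[X]/(X^p) are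
isomorphic. (Any nonzero commutative base ring of characteristic p is allowed. The published
statement allows any ring R with p·R = 0; over the zero ring both Hopf algebras are the zero ring
and hence isomorphic, so R is assumed nonzero here.) -/
theorem result (p : ℕ) [Fact p.Prime] (R : Type u) [CommRing R] [CharP R p] :
    IsEmpty (MonoidAlgebra R (Multiplicative (ZMod p)) ≃ₐc[R] AlphaP.A p R) := by
  classical
  refine ⟨fun e => ?_⟩
  haveI : Nontrivial R :=
    CharP.nontrivial_of_char_ne_one (R := R) (v := p) (Fact.out : p.Prime).ne_one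
  have hp1 : 1 < p := (Fact.out : p.Prime).one_lt
  obtain ⟨y, hy⟩ : ∃ y, y = e.symm (AlphaP.x p R) := ⟨_, rfl⟩
  have hprim : Coalgebra.comul (R := R) y = y ⊗ₜ[R] 1 + 1 ⊗ₜ[R] y := by
    have h1 := CoalgHomClass.map_comp_comul_apply e.symm (AlphaP.x p R)
    rw [AlphaP.comul_x, map_add, TensorProduct.map_tmul, TensorProduct.map_tmul] at h1
    rw [hy, ← h1]
    simp
  obtain ⟨c, hcdef⟩ : ∃ c : Multiplicative (ZMod p) →
      (MonoidAlgebra R (Multiplicative (ZMod p)) →ₗ[R] R),
      c = fun g => Finsupp.lapply g ∘ₗ (MonoidAlgebra.coeffLinearEquiv R).toLinearMap := ⟨_, rfl⟩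
  have hc_coeff : ∀ g z, c g z = z.coeff g := by
    intro g z
    rw [hcdef]
    rfl
  have hc_single : ∀ g a (r : R), c g (MonoidAlgebra.single a r) = if a = g then r else 0 := by
    intro g a r
    rw [hc_coeff, MonoidAlgebra.coeff_single]
    exact Finsupp.single_apply
  have hL : ∀ g (z : MonoidAlgebra R (Multiplicative (ZMod p))),
      TensorProduct.lid R R (TensorProduct.map (c g) (c g) (Coalgebra.comul (R := R) z)) =
        c g z := by
    intro g z
    induction z using MonoidAlgebra.induction_linear with
    | zero => simp
    | add x y hx hy => simp only [map_add, hx, hy]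
    | single a r =>
      rw [MonoidAlgebra.comul_single, CommSemiring.comul_apply, TensorProduct.map_tmul,
        TensorProduct.map_tmul, TensorProduct.lid_tmul, MonoidAlgebra.lsingle_apply,
        MonoidAlgebra.lsingle_apply, hc_single, hc_single]
      split_ifs <;> simp
  have hg : ∀ g, c g y = c g y * c g 1 + c g 1 * c g y := by
    intro g
    have h1 := congrArg (fun t => TensorProduct.lid R R (TensorProduct.map (c g) (c g) t)) hprim
    simp only [hL, map_add, TensorProduct.map_tmul, TensorProduct.lid_tmul, smul_eq_mul] at h1
    exact h1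
  have hy0 : y = 0 := by
    apply MonoidAlgebra.coeff_injective
    ext g
    rw [← hc_coeff, MonoidAlgebra.coeff_zero, Finsupp.zero_apply]
    have h1 := hg g
    rw [MonoidAlgebra.one_def, hc_single] at h1
    by_cases h : (1 : Multiplicative (ZMod p)) = g
    · simp only [if_pos h, mul_one, one_mul] at h1
      linear_combination (-1 : R) * h1
    · simp only [if_neg h, mul_zero, zero_mul, add_zero] at h1
      exact h1
  have hx0 : AlphaP.x p R = 0 := by
    rw [← e.apply_symm_apply (AlphaP.x p R), ← hy, hy0, map_zero]
  have hx := (AlphaP.basis p R).ne_zero ⟨1, hp1⟩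
  rw [AlphaP.basis_apply] at hx
  simp only [pow_one] at hx
  exact hx hx0

end Groth.Agent.S16074
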