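import Groth.Statements.S16075
import Groth.Agent.Lib.helper8.AlphaPLib

set_option autoImplicit false
universe u
open Hopf

namespace Groth.Agent.S16075

/-- Let p be a prime, T a commutative ring of characteristic p (p = 0 in T, T nonzero) and A =
T[X]/(X^p) the Hopf algebra of α_p over Spec T, with X primitive. Then the endomorphisms of the
T-group α_{p,T} are exactly the scalings: every T-bialgebra endomorphism f of A has f(X) = λ·X for a
unique λ ∈ T, and for every λ ∈ T there is a T-bialgebra endomorphism f of A with f(X) = λ·X. So the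
endomorphisms of α_{p,T} correspond bijectively to the elements of T. (Only this bijection is
stated; that it turns addition and composition of endomorphisms into addition and multiplication in
T, and its naturality in T, are not stated here. The zero ring, allowed as T in the published
statement, is excluded by the characteristic hypothesis here.) -/
theorem result (p : ℕ) [Fact p.Prime] (T : Type u) [CommRing T] [CharP T p] :
    (∀ f : AlphaP.A p T →ₐc[T] AlphaP.A p T, ∃! c : T, f (AlphaP.x p T) = c • AlphaP.x p T) ∧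
      (∀ c : T, ∃ f : AlphaP.A p T →ₐc[T] AlphaP.A p T, f (AlphaP.x p T) = c • AlphaP.x p T) := by
  haveI := H8AlphaP.nontriv p T
  have hp2 : 2 ≤ p := (Fact.out : p.Prime).two_le
  constructor
  · intro f
    obtain ⟨y, hy⟩ : ∃ y, y = f (AlphaP.x p T) := ⟨_, rfl⟩
    have hprim : Coalgebra.comul (R := T) y = y ⊗ₜ[T] 1 + 1 ⊗ₜ[T] y := by
      rw [hy, ← CoalgHomClass.map_comp_comul_apply, AlphaP.comul_x, map_add, TensorProduct.map_tmul,
        TensorProduct.map_tmul]
      simp
    have hcounit : Coalgebra.counit (R := T) y = 0 := by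
      rw [hy, CoalgHomClass.counit_comp_apply, AlphaP.counit_x]
    have hsum : y = ∑ j : Fin p, ((AlphaP.basis p T).repr y j) • AlphaP.x p T ^ (j : ℕ) := by
      conv_lhs => rw [← (AlphaP.basis p T).sum_repr y]
      simp [AlphaP.basis_apply]
    have h0 : (AlphaP.basis p T).repr y ⟨0, by omega⟩ = 0 := by
      have := hcounit
      rw [hsum, map_sum] at this
      simp only [map_smul, H8AlphaP.counit_x_pow, smul_eq_mul] at this
      rw [Finset.sum_eq_single ⟨0, by omega⟩] at this
      · simpa using this
      · intro j _ hj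
        rw [if_neg (by intro h; apply hj; ext; exact h), mul_zero]
      · intro h; exact absurd (Finset.mem_univ _) h
    have hi : ∀ i : Fin p, 2 ≤ (i : ℕ) → (AlphaP.basis p T).repr y i = 0 := by
      intro i h2
      have hm : (1 : ℕ) < p := by omega
      have hn : (i : ℕ) - 1 < p := by omega
      have key := congrArg (H8AlphaP.E p T ⟨1, hm⟩ ⟨(i:ℕ) - 1, hn⟩) hprim
      have hL : H8AlphaP.E p T ⟨1, hm⟩ ⟨(i:ℕ) - 1, hn⟩ (Coalgebra.comul (R := T) y) =
          ((i : ℕ) : T) * (AlphaP.basis p T).repr y i := by
        conv_lhs => rw [hsum]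
        rw [map_sum, map_sum]
        simp only [map_smul, H8AlphaP.E_comul_x_pow p T _ _ _ (Fin.is_lt _), smul_eq_mul]
        rw [Finset.sum_eq_single i]
        · rw [if_pos (by show 1 + ((i:ℕ) - 1) = (i:ℕ); omega), Nat.choose_one_right, mul_comm]
        · intro j _ hj
          rw [if_neg, mul_zero]
          intro h; apply hj; ext; have h' : 1 + ((i:ℕ) - 1) = (j:ℕ) := h; omega
        · intro h; exact absurd (Finset.mem_univ _) h
      have hR : H8AlphaP.E p T ⟨1, hm⟩ ⟨(i:ℕ) - 1, hn⟩ (y ⊗ₜ[T] 1 + 1 ⊗ₜ[T] y) = 0 := by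
        rw [map_add, H8AlphaP.E_tmul, H8AlphaP.E_tmul]
        have h1 : (1 : AlphaP.A p T) = AlphaP.x p T ^ 0 := (pow_zero _).symm
        rw [h1, H8AlphaP.repr_x_pow p T 0 (by omega), H8AlphaP.repr_x_pow p T 0 (by omega)]
        rw [if_neg (by simp; omega), if_neg (by simp), mul_zero, zero_mul, add_zero]
      rw [hL, hR] at key
      have hu : IsUnit ((i : ℕ) : T) := (CharP.isUnit_natCast_iff (R := T) (p := p) Fact.out).mpr (by
        intro hdvd
        have := Nat.le_of_dvd (by omega) hdvd
        omega)
      exact (hu.mul_right_eq_zero).mp key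
    have hy1 : y = ((AlphaP.basis p T).repr y ⟨1, by omega⟩) • AlphaP.x p T := by
      conv_lhs => rw [hsum]
      rw [Finset.sum_eq_single ⟨1, by omega⟩]
      · simp
      · intro j _ hj
        by_cases hj0 : (j : ℕ) = 0
        · have : j = ⟨0, by omega⟩ := by ext; exact hj0
          rw [this, h0, zero_smul]
        · have : 2 ≤ (j : ℕ) := by
            have : (j : ℕ) ≠ 1 := by intro h; apply hj; ext; exact h
            omega
          rw [hi j this, zero_smul]
      · intro h; exact absurd (Finset.mem_univ _) h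
    refine ⟨(AlphaP.basis p T).repr y ⟨1, by omega⟩, ?_, ?_⟩
    · simp only; rw [← hy]; exact hy1
    · intro c hc
      rw [← hy] at hc
      rw [hc, map_smul]
      have hx1 : AlphaP.x p T = AlphaP.x p T ^ 1 := (pow_one _).symm
      rw [Finsupp.smul_apply, hx1, H8AlphaP.repr_x_pow p T 1 (by omega), if_pos rfl, smul_eq_mul,
        mul_one]
  · intro c
    have hc : (c • AlphaP.x p T) ^ p = 0 := by rw [smul_pow, AlphaP.x_pow, smul_zero]
    refine ⟨BialgHom.ofAlgHom (AlphaP.lift p T (c • AlphaP.x p T) hc) ?_ ?_, ?_⟩
    · apply AlphaP.algHom_ext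
      simp [AlphaP.counitAlgHom_eq]
    · apply AlphaP.algHom_ext
      simp [AlphaP.comulAlgHom_eq, TensorProduct.smul_tmul', TensorProduct.tmul_smul, smul_add]
    · simp

end Groth.Agent.S16075
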