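import Groth.Statements.S16077
import Mathlib

set_option autoImplicit false
universe u
open CAlg

namespace Groth.Agent.S16077

section Aux
open MvPolynomial
variable {k : Type*} [Field k]

noncomputable def II {r : ℕ} (d : Fin r → ℕ) : Ideal (MvPolynomial (Fin r) k) :=
  Ideal.span (Set.range fun i : Fin r => (X i : MvPolynomial (Fin r) k) ^ d i)

lemma mem_II {r : ℕ} (d : Fin r → ℕ) (g : MvPolynomial (Fin r) k) :
    g ∈ II (k := k) d ↔ ∀ m ∈ g.support, ∃ i, d i ≤ m i := by
  have h : (Set.range fun i : Fin r => (X i : MvPolynomial (Fin r) k) ^ d i) =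
      (fun s => MvPolynomial.monomial s (1 : k)) ''
        (Set.range fun i : Fin r => Finsupp.single i (d i)) := by
    rw [← Set.range_comp]
    congr 1
    funext i
    simp [MvPolynomial.X_pow_eq_monomial]
  unfold II
  rw [h, MvPolynomial.mem_ideal_span_monomial_image]
  constructor
  · intro H m hm
    obtain ⟨si, ⟨i, rfl⟩, hle⟩ := H m hm
    exact ⟨i, Finsupp.single_le_iff.mp hle⟩
  · intro H m hm
    obtain ⟨i, hi⟩ := H m hm
    exact ⟨_, ⟨i, rfl⟩, Finsupp.single_le_iff.mpr hi⟩

abbrev Box {r : ℕ} (d : Fin r → ℕ) := (i : Fin r) → Fin (d i)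

noncomputable def toM {r : ℕ} (d : Fin r → ℕ) (β : Box d) : Fin r →₀ ℕ :=
  Finsupp.equivFunOnFinite.symm (fun i => (β i : ℕ))

lemma toM_apply {r : ℕ} (d : Fin r → ℕ) (β : Box d) (i : Fin r) : toM d β i = (β i : ℕ) := rfl

lemma toM_inj {r : ℕ} (d : Fin r → ℕ) : Function.Injective (toM d) := by
  intro β β' h
  funext i
  apply Fin.ext
  have := DFunLike.congr_fun h i
  rwa [toM_apply, toM_apply] at this

noncomputable def SSum {r : ℕ} (d : Fin r → ℕ) : (Box d → k) →ₗ[k] MvPolynomial (Fin r) k :=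
  ∑ β : Box d, (MvPolynomial.monomial (toM d β)).comp (LinearMap.proj β)

lemma SSum_apply {r : ℕ} (d : Fin r → ℕ) (g : Box d → k) :
    SSum d g = ∑ β : Box d, MvPolynomial.monomial (toM d β) (g β) := by
  simp [SSum, LinearMap.sum_apply]

lemma coeff_SSum {r : ℕ} (d : Fin r → ℕ) (g : Box d → k) (β : Box d) :
    MvPolynomial.coeff (toM d β) (SSum d g) = g β := by
  classical
  rw [SSum_apply, MvPolynomial.coeff_sum]
  rw [Finset.sum_eq_single β]
  · rw [MvPolynomial.coeff_monomial, if_pos rfl]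
  · intro β' _ hne
    rw [MvPolynomial.coeff_monomial, if_neg]
    intro h; exact hne (toM_inj d h)
  · intro h; exact absurd (Finset.mem_univ β) h

lemma supp_SSum {r : ℕ} (d : Fin r → ℕ) (g : Box d → k) (m : Fin r →₀ ℕ)
    (hm : m ∈ (SSum d g).support) : ∃ β, toM d β = m := by
  classical
  by_contra hcon
  push Not at hcon
  rw [MvPolynomial.mem_support_iff, SSum_apply, MvPolynomial.coeff_sum] at hm
  apply hm
  apply Finset.sum_eq_zero
  intro β _
  rw [MvPolynomial.coeff_monomial, if_neg (hcon β)]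

lemma finrank_quot {r : ℕ} (d : Fin r → ℕ) :
    Module.finrank k (MvPolynomial (Fin r) k ⧸ II (k := k) d) = ∏ i, d i := by
  classical
  let L : (Box d → k) →ₗ[k] (MvPolynomial (Fin r) k ⧸ II (k := k) d) :=
    (Ideal.Quotient.mkₐ k (II d)).toLinearMap.comp (SSum d)
  have L_apply : ∀ g, L g = Ideal.Quotient.mk (II d) (SSum d g) := fun g => rfl
  have hinj : Function.Injective L := by
    rw [← LinearMap.ker_eq_bot, LinearMap.ker_eq_bot']
    intro g hg
    rw [L_apply, Ideal.Quotient.eq_zero_iff_mem, mem_II] at hg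
    have hS0 : SSum d g = 0 := by
      rw [← MvPolynomial.support_eq_empty]
      apply Finset.eq_empty_of_forall_notMem
      intro m hm
      obtain ⟨i, hi⟩ := hg m hm
      obtain ⟨β, rfl⟩ := supp_SSum d g m hm
      rw [toM_apply] at hi
      exact absurd (β i).2 (by omega)
    funext β
    have := coeff_SSum d g β
    rw [hS0, MvPolynomial.coeff_zero] at this
    exact this.symm
  have hsurj : Function.Surjective L := by
    intro x
    obtain ⟨f, rfl⟩ := Ideal.Quotient.mk_surjective x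
    refine ⟨fun β => MvPolynomial.coeff (toM d β) f, ?_⟩
    rw [L_apply, Ideal.Quotient.eq, mem_II]
    intro m hm
    by_contra hcon
    push Not at hcon
    have hβ : toM d (fun i => ⟨m i, hcon i⟩) = m := by
      ext i; rfl
    rw [MvPolynomial.mem_support_iff, MvPolynomial.coeff_sub, ← hβ, coeff_SSum] at hm
    exact hm (sub_self _)
  have := (LinearEquiv.ofBijective L ⟨hinj, hsurj⟩).finrank_eq
  rw [← this, Module.finrank_fintype_fun_eq_card, Fintype.card_pi]
  simp

noncomputable def JJ (p n : ℕ) (Q : Type*) [CommRing Q] : Ideal Q :=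
  Ideal.span {x | ∃ y : Q, IsNilpotent y ∧ x = y ^ p ^ n}

lemma JJ_map {Q₁ Q₂ : Type*} [CommRing Q₁] [CommRing Q₂] [Algebra k Q₁] [Algebra k Q₂]
    (p n : ℕ) (φ : Q₁ ≃ₐ[k] Q₂) :
    JJ p n Q₂ = (JJ p n Q₁).map (φ : Q₁ →+* Q₂) := by
  unfold JJ
  rw [Ideal.map_span]
  congr 1
  ext x
  constructor
  · rintro ⟨y, hy, rfl⟩
    refine ⟨(φ.symm y) ^ p ^ n, ⟨φ.symm y, hy.map φ.symm, rfl⟩, ?_⟩
    simp
  · rintro ⟨x', ⟨y, hy, rfl⟩, rfl⟩
    exact ⟨φ y, hy.map φ, by simp⟩

lemma finrank_JJ_eq {Q₁ Q₂ : Type*} [CommRing Q₁] [CommRing Q₂] [Algebra k Q₁] [Algebra k Q₂]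
    (φ : Q₁ ≃ₐ[k] Q₂) (p n : ℕ) :
    Module.finrank k (Q₁ ⧸ JJ p n Q₁) = Module.finrank k (Q₂ ⧸ JJ p n Q₂) :=
  (Ideal.quotientEquivAlg (JJ p n Q₁) (JJ p n Q₂) φ (JJ_map p n φ)).toLinearEquiv.finrank_eq

lemma powmem (p : ℕ) [Fact p.Prime] [CharP k p] {r : ℕ} (g : MvPolynomial (Fin r) k)
    (hg : MvPolynomial.coeff 0 g = 0) (M : ℕ) :
    g ^ p ^ M ∈ II (k := k) (fun _ : Fin r => p ^ M) := by
  have hmem : g ∈ Ideal.span (X '' (Set.univ : Set (Fin r)) :
      Set (MvPolynomial (Fin r) k)) := by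
    rw [MvPolynomial.mem_ideal_span_X_image]
    intro m hm
    by_contra hcon
    push Not at hcon
    have hm0 : m = 0 := by
      ext i; exact hcon i (Set.mem_univ i)
    rw [hm0, MvPolynomial.mem_support_iff] at hm
    exact hm hg
  refine Submodule.span_induction
    (p := fun x _ => x ^ p ^ M ∈ II (k := k) (fun _ : Fin r => p ^ M)) ?_ ?_ ?_ ?_ hmem
  · rintro _ ⟨i, _, rfl⟩
    exact Ideal.subset_span ⟨i, rfl⟩
  · rw [zero_pow (pow_ne_zero M (Fact.out : p.Prime).ne_zero)]; exact Ideal.zero_mem _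
  · intro x y _ _ hx hy
    rw [add_pow_char_pow]; exact Ideal.add_mem _ hx hy
  · intro c x _ hx
    rw [smul_eq_mul, mul_pow]; exact Ideal.mul_mem_left _ _ hx

lemma II_le_of_le {r : ℕ} (p : ℕ) (hp : 0 < p) (e : Fin r → ℕ) (M : ℕ) (hM : ∀ i, e i ≤ M) :
    II (k := k) (fun _ : Fin r => p ^ M) ≤ II (k := k) (fun i => p ^ e i) := by
  refine Ideal.span_le.mpr ?_
  rintro _ ⟨i, rfl⟩
  show (X i : MvPolynomial (Fin r) k) ^ p ^ M ∈ _
  have : (X i : MvPolynomial (Fin r) k) ^ p ^ M = X i ^ p ^ e i * X i ^ (p ^ M - p ^ e i) := by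
    rw [← pow_add, Nat.add_sub_cancel' (Nat.pow_le_pow_right hp (hM i))]
  rw [this]
  exact Ideal.mul_mem_right _ _ (Ideal.subset_span ⟨i, rfl⟩)

lemma coeff_zero_of_nilp (p : ℕ) [Fact p.Prime] [CharP k p] {r : ℕ} (e : Fin r → ℕ)
    (g : MvPolynomial (Fin r) k)
    (hnil : IsNilpotent (Ideal.Quotient.mk (II (k := k) (fun i => p ^ e i)) g)) :
    MvPolynomial.coeff 0 g = 0 := by
  obtain ⟨c, hc⟩ : ∃ c : k, c = MvPolynomial.coeff 0 g := ⟨_, rfl⟩
  rw [← hc]
  have h0 : MvPolynomial.coeff 0 (g - C c) = 0 := by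
    rw [MvPolynomial.coeff_sub, MvPolynomial.coeff_C, if_pos rfl, hc, sub_self]
  obtain ⟨M, hM⟩ : ∃ M, ∀ i, e i ≤ M :=
    ⟨Finset.univ.sup e, fun i => Finset.le_sup (Finset.mem_univ i)⟩
  have h1 := powmem (k := k) p (g - C c) h0 M
  have h2 : (g - C c) ^ p ^ M ∈ II (k := k) (fun i => p ^ e i) :=
    II_le_of_le p (Fact.out : p.Prime).pos e M hM h1
  have h3 : IsNilpotent (Ideal.Quotient.mk (II (k := k) (fun i => p ^ e i)) (g - C c)) :=
    ⟨p ^ M, by rw [← map_pow]; exact Ideal.Quotient.eq_zero_iff_mem.mpr h2⟩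
  have h4 : IsNilpotent (Ideal.Quotient.mk (II (k := k) (fun i => p ^ e i)) (C c)) := by
    have : Ideal.Quotient.mk (II (k := k) (fun i => p ^ e i)) (C c) =
        Ideal.Quotient.mk (II (k := k) (fun i => p ^ e i)) g -
          Ideal.Quotient.mk (II (k := k) (fun i => p ^ e i)) (g - C c) := by
      rw [← map_sub]; congr 1; ring
    rw [this]
    exact (Commute.all _ _).isNilpotent_sub hnil h3
  obtain ⟨T, hT⟩ := h4
  rw [← map_pow, ← C_pow, Ideal.Quotient.eq_zero_iff_mem, mem_II] at hT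
  by_contra hne
  have hcT : c ^ T ≠ 0 := pow_ne_zero T hne
  have hsupp : (0 : Fin r →₀ ℕ) ∈ (C (c ^ T) : MvPolynomial (Fin r) k).support := by
    rw [MvPolynomial.mem_support_iff, MvPolynomial.coeff_C, if_pos rfl]; exact hcT
  obtain ⟨i, hi⟩ := hT 0 hsupp
  have h5 : 1 ≤ p ^ e i := Nat.one_le_pow _ _ (Fact.out : p.Prime).pos
  have hi' : p ^ e i ≤ 0 := hi
  omega

lemma JJ_eq (p : ℕ) [Fact p.Prime] [CharP k p] {r : ℕ} (e : Fin r → ℕ) (n : ℕ) :
    JJ p n (MvPolynomial (Fin r) k ⧸ II (k := k) (fun i => p ^ e i)) =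
      (II (k := k) (fun _ : Fin r => p ^ n)).map
        (Ideal.Quotient.mkₐ k (II (k := k) (fun i => p ^ e i))) := by
  unfold JJ
  apply le_antisymm
  · rw [Ideal.span_le]
    rintro _ ⟨y, hy, rfl⟩
    obtain ⟨g, rfl⟩ := Ideal.Quotient.mk_surjective y
    have h0 := coeff_zero_of_nilp (k := k) p e g hy
    have h1 := powmem (k := k) p g h0 n
    have := Ideal.mem_map_of_mem (Ideal.Quotient.mkₐ k (II (k := k) (fun i => p ^ e i))) h1
    rw [map_pow] at this
    exact this
  · rw [Ideal.map_le_iff_le_comap]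
    refine Ideal.span_le.mpr ?_
    rintro _ ⟨i, rfl⟩
    show (X i : MvPolynomial (Fin r) k) ^ p ^ n ∈ Ideal.comap _ _
    rw [Ideal.mem_comap, map_pow]
    apply Ideal.subset_span
    refine ⟨Ideal.Quotient.mkₐ k _ (X i), ⟨p ^ e i, ?_⟩, rfl⟩
    rw [← map_pow]
    exact Ideal.Quotient.eq_zero_iff_mem.mpr (Ideal.subset_span ⟨i, rfl⟩)

lemma II_sup {r : ℕ} (p : ℕ) (hp : 0 < p) (e : Fin r → ℕ) (n : ℕ) :
    II (k := k) (fun i => p ^ e i) ⊔ II (k := k) (fun _ : Fin r => p ^ n) =
      II (k := k) (fun i => p ^ min (e i) n) := by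
  apply le_antisymm
  · apply sup_le
    · refine Ideal.span_le.mpr ?_
      rintro _ ⟨i, rfl⟩
      show (X i : MvPolynomial (Fin r) k) ^ p ^ e i ∈ _
      have : (X i : MvPolynomial (Fin r) k) ^ p ^ e i =
          X i ^ p ^ min (e i) n * X i ^ (p ^ e i - p ^ min (e i) n) := by
        rw [← pow_add, Nat.add_sub_cancel' (Nat.pow_le_pow_right hp (min_le_left _ _))]
      rw [this]
      exact Ideal.mul_mem_right _ _ (Ideal.subset_span ⟨i, rfl⟩)
    · refine Ideal.span_le.mpr ?_
      rintro _ ⟨i, rfl⟩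
      show (X i : MvPolynomial (Fin r) k) ^ p ^ n ∈ _
      have : (X i : MvPolynomial (Fin r) k) ^ p ^ n =
          X i ^ p ^ min (e i) n * X i ^ (p ^ n - p ^ min (e i) n) := by
        rw [← pow_add, Nat.add_sub_cancel' (Nat.pow_le_pow_right hp (min_le_right _ _))]
      rw [this]
      exact Ideal.mul_mem_right _ _ (Ideal.subset_span ⟨i, rfl⟩)
  · refine Ideal.span_le.mpr ?_
    rintro _ ⟨i, rfl⟩
    show (X i : MvPolynomial (Fin r) k) ^ p ^ min (e i) n ∈ _
    rcases le_total (e i) n with h | h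
    · rw [min_eq_left h]; exact Ideal.mem_sup_left (Ideal.subset_span ⟨i, rfl⟩)
    · rw [min_eq_right h]; exact Ideal.mem_sup_right (Ideal.subset_span ⟨i, rfl⟩)

lemma hdim (p : ℕ) [Fact p.Prime] [CharP k p] (r : ℕ) (e : Fin r → ℕ) (n : ℕ) :
    Module.finrank k ((MvPolynomial (Fin r) k ⧸ II (k := k) (fun i => p ^ e i)) ⧸
      JJ p n (MvPolynomial (Fin r) k ⧸ II (k := k) (fun i => p ^ e i))) =
      ∏ i, p ^ min (e i) n := by
  rw [JJ_eq (k := k) p e n]
  rw [(DoubleQuot.quotQuotEquivQuotSupₐ k (II (k := k) (fun i => p ^ e i))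
    (II (k := k) (fun _ : Fin r => p ^ n))).toLinearEquiv.finrank_eq]
  rw [II_sup p (Fact.out : p.Prime).pos e n, finrank_quot]

end Aux

/-- Let k be a perfect field of characteristic p > 0 and let e_1, …, e_r ≥ 1 and f_1, …, f_s ≥ 1 be
natural numbers. If the k-algebras k[X_1, …, X_r]/(X_i^{p^{e_i}} : 1 ≤ i ≤ r) and k[X_1, …,
X_s]/(X_j^{p^{f_j}} : 1 ≤ j ≤ s) are isomorphic, then r = s and (f_j) is a permutation of (e_i):
there is a bijection σ between the index sets with f_{σ(i)} = e_i. Such truncated polynomial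
algebras are the coordinate rings of the connected finite k-group schemes, and the row says that the
number of variables and the exponents are invariants of the group, indeed of its algebra. (Only this
invariance is stated here; the existence of such a presentation for every connected finite k-group
is a separate statement.) -/
theorem result (p : ℕ) [Fact p.Prime] (k : Type u) [Field k]
    [CharP k p] [PerfectField k] (r s : ℕ) (e : Fin r → ℕ) (f : Fin s → ℕ) (he : ∀ i, 1 ≤ e i) (hf : ∀ j, 1 ≤ f j)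
    (φ : (MvPolynomial (Fin r) k ⧸ Ideal.span (Set.range fun i : Fin r => (MvPolynomial.X i : MvPolynomial (Fin r) k) ^ p ^ e i)) ≃ₐ[k]
      (MvPolynomial (Fin s) k ⧸ Ideal.span (Set.range fun j : Fin s => (MvPolynomial.X j : MvPolynomial (Fin s) k) ^ p ^ f j))) :
    ∃ σ : Fin r ≃ Fin s, ∀ i : Fin r, f (σ i) = e i := by
  have hp : p.Prime := Fact.out
  have φ' : (MvPolynomial (Fin r) k ⧸ II (k := k) (fun i => p ^ e i)) ≃ₐ[k]
      (MvPolynomial (Fin s) k ⧸ II (k := k) (fun j => p ^ f j)) := φ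
  have hkey : ∀ n, ∑ i, min (e i) n = ∑ j, min (f j) n := by
    intro n
    have h1 := finrank_JJ_eq (k := k) φ' p n
    rw [hdim (k := k) p r e n, hdim (k := k) p s f n] at h1
    rw [Finset.prod_pow_eq_pow_sum, Finset.prod_pow_eq_pow_sum] at h1
    exact Nat.pow_right_injective hp.two_le h1
  have hG : ∀ n, (Finset.univ.filter (fun i => n < e i)).card =
      (Finset.univ.filter (fun j => n < f j)).card := by
    intro n
    have h1 := hkey (n + 1)
    have h2 := hkey n
    have hE : ∑ i, min (e i) (n + 1) =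
        ∑ i, min (e i) n + (Finset.univ.filter (fun i => n < e i)).card := by
      rw [Finset.card_filter, ← Finset.sum_add_distrib]
      apply Finset.sum_congr rfl
      intro i _
      split_ifs with h <;> omega
    have hF : ∑ j, min (f j) (n + 1) =
        ∑ j, min (f j) n + (Finset.univ.filter (fun j => n < f j)).card := by
      rw [Finset.card_filter, ← Finset.sum_add_distrib]
      apply Finset.sum_congr rfl
      intro i _
      split_ifs with h <;> omega
    omega
  have hcnt : ∀ c, (Finset.univ.filter (fun i => e i = c)).card =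
      (Finset.univ.filter (fun j => f j = c)).card := by
    intro c
    rcases Nat.eq_zero_or_pos c with rfl | hc
    · have h1 : (Finset.univ.filter (fun i => e i = 0)) = ∅ := by
        apply Finset.filter_eq_empty_iff.mpr
        intro i _ h
        have := he i
        omega
      have h2 : (Finset.univ.filter (fun j => f j = 0)) = ∅ := by
        apply Finset.filter_eq_empty_iff.mpr
        intro i _ h
        have := hf i
        omega
      rw [h1, h2, Finset.card_empty, Finset.card_empty]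
    · have hE : (Finset.univ.filter (fun i => e i = c)).card +
          (Finset.univ.filter (fun i => c < e i)).card =
          (Finset.univ.filter (fun i => c - 1 < e i)).card := by
        rw [Finset.card_filter, Finset.card_filter, Finset.card_filter,
          ← Finset.sum_add_distrib]
        apply Finset.sum_congr rfl
        intro i _
        split_ifs <;> omega
      have hF : (Finset.univ.filter (fun j => f j = c)).card +
          (Finset.univ.filter (fun j => c < f j)).card =
          (Finset.univ.filter (fun j => c - 1 < f j)).card := by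
        rw [Finset.card_filter, Finset.card_filter, Finset.card_filter,
          ← Finset.sum_add_distrib]
        apply Finset.sum_congr rfl
        intro i _
        split_ifs <;> omega
      have h3 := hG c
      have h4 := hG (c - 1)
      omega
  have hequiv : ∀ c, {i // e i = c} ≃ {j // f j = c} := by
    intro c
    apply Fintype.equivOfCardEq
    rw [Fintype.card_subtype, Fintype.card_subtype]
    exact hcnt c
  exact ⟨Equiv.ofFiberEquiv hequiv, fun i => Equiv.ofFiberEquiv_map hequiv i⟩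

end Groth.Agent.S16077
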