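import Groth.Statements.S16104
import Mathlib

set_option autoImplicit false
universe u v
open LunaSt IsLocalRing

namespace Groth.Agent.S16104

/-- Case of local rings. Let φ : A → B be a local homomorphism of Noetherian local rings whose composite
A → B/m_B² is surjective (the first infinitesimal neighbourhoods give a closed immersion), and
assume that A/m_A^(n+1) and B/m_B^(n+1) have the same length for every n (the associated graded
modules of the two maximal ideals have pieces of the same dimension over the common residue field).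
Then for every n the composite A → B/m_B^(n+1) is surjective with kernel m_A^(n+1): φ identifies all
infinitesimal neighbourhoods. (The published statement is for a pointed morphism of Noetherian local
algebraic stacks; its proof reduces to this case of local rings.) -/
theorem result
    (A : Type u) (B : Type v) [CommRing A] [CommRing B] [IsLocalRing A] [IsLocalRing B]
    [IsNoetherianRing A] [IsNoetherianRing B] (φ : A →+* B) [IsLocalHom φ]
    (h1 : Function.Surjective ((Ideal.Quotient.mk (IsLocalRing.maximalIdeal B ^ 2)).comp φ))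
    (hlen : ∀ n : ℕ, Module.length A (A ⧸ IsLocalRing.maximalIdeal A ^ (n + 1)) =
      Module.length B (B ⧸ IsLocalRing.maximalIdeal B ^ (n + 1))) (n : ℕ) :
    Function.Surjective ((Ideal.Quotient.mk (IsLocalRing.maximalIdeal B ^ (n + 1))).comp φ) ∧
      RingHom.ker ((Ideal.Quotient.mk (IsLocalRing.maximalIdeal B ^ (n + 1))).comp φ) =
        IsLocalRing.maximalIdeal A ^ (n + 1) := by
  have hφm : ∀ a ∈ maximalIdeal A, φ a ∈ maximalIdeal B := by
    intro a ha
    rw [IsLocalRing.mem_maximalIdeal, mem_nonunits_iff] at ha ⊢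
    exact fun h => ha (isUnit_of_map_unit φ a h)
  have hmap_le : Ideal.map φ (maximalIdeal A) ≤ maximalIdeal B :=
    Ideal.map_le_iff_le_comap.mpr fun a ha => hφm a ha
  have hdec : ∀ x : B, ∃ a : A, x - φ a ∈ maximalIdeal B ^ 2 := by
    intro x
    obtain ⟨a, ha⟩ := h1 (Ideal.Quotient.mk _ x)
    refine ⟨a, ?_⟩
    rw [← Ideal.Quotient.eq]; exact ha.symm
  have hsq_le : maximalIdeal B ^ 2 ≤ maximalIdeal B := Ideal.pow_le_self two_ne_zero
  have hdec1 : ∀ x : B, ∃ a : A, x - φ a ∈ maximalIdeal B := fun x =>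
    let ⟨a, ha⟩ := hdec x; ⟨a, hsq_le ha⟩
  have hmB : maximalIdeal B = Ideal.map φ (maximalIdeal A) := by
    apply le_antisymm _ hmap_le
    apply Submodule.le_of_le_smul_of_le_jacobson_bot (I := maximalIdeal B)
    · exact IsNoetherian.noetherian (maximalIdeal B)
    · rw [IsLocalRing.jacobson_eq_maximalIdeal ⊥ bot_ne_top]
    · intro x hx
      obtain ⟨a, ha⟩ := hdec x
      have hφa : φ a ∈ maximalIdeal B := by
        have h3 : φ a = x - (x - φ a) := by ring
        rw [h3]; exact (maximalIdeal B).sub_mem hx (hsq_le ha)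
      have haA : a ∈ maximalIdeal A := by
        rw [IsLocalRing.mem_maximalIdeal, mem_nonunits_iff]
        intro hu
        exact (IsLocalRing.mem_maximalIdeal _).mp hφa (hu.map φ)
      have h4 : x = φ a + (x - φ a) := by ring
      rw [h4]
      refine Submodule.add_mem_sup (Ideal.mem_map_of_mem φ haA) ?_
      rw [smul_eq_mul, ← pow_two]; exact ha
  have hpow : ∀ n : ℕ, maximalIdeal B ^ n = Ideal.map φ (maximalIdeal A ^ n) := fun n => by
    rw [Ideal.map_pow, ← hmB]
  have key : ∀ n : ℕ, ∀ y ∈ maximalIdeal B ^ n, ∃ a : A, y - φ a ∈ maximalIdeal B ^ (n + 1) := by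
    intro n y hy
    rw [hpow n] at hy
    have h5 : y ∈ maximalIdeal B ^ n ∧ ∃ a : A, y - φ a ∈ maximalIdeal B ^ (n + 1) := by
      refine Submodule.span_induction
        (p := fun y _ => y ∈ maximalIdeal B ^ n ∧ ∃ a : A, y - φ a ∈ maximalIdeal B ^ (n + 1))
        ?_ ?_ ?_ ?_ hy
      · rintro _ ⟨a, ha, rfl⟩
        refine ⟨?_, a, by rw [sub_self]; exact Ideal.zero_mem _⟩
        rw [hpow n]; exact Ideal.mem_map_of_mem φ ha
      · exact ⟨Ideal.zero_mem _, 0, by simp⟩
      · rintro y z _ _ ⟨hy1, a, ha⟩ ⟨hz1, b, hb⟩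
        refine ⟨Ideal.add_mem _ hy1 hz1, a + b, ?_⟩
        have h6 : y + z - φ (a + b) = (y - φ a) + (z - φ b) := by rw [map_add]; ring
        rw [h6]; exact Ideal.add_mem _ ha hb
      · rintro b y _ ⟨hy1, a, ha⟩
        obtain ⟨c, hc⟩ := hdec1 b
        refine ⟨Ideal.mul_mem_left _ _ hy1, c * a, ?_⟩
        have h6 : b • y - φ (c * a) = φ c * (y - φ a) + (b - φ c) * y := by
          rw [map_mul, smul_eq_mul]; ring
        rw [h6]
        refine Ideal.add_mem _ (Ideal.mul_mem_left _ _ ha) ?_
        rw [pow_succ']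
        exact Ideal.mul_mem_mul hc hy1
    exact h5.2
  have hsurjAll : ∀ n : ℕ, ∀ x : B, ∃ a : A, x - φ a ∈ maximalIdeal B ^ n := by
    intro n
    induction n with
    | zero =>
      intro x
      exact ⟨0, by rw [pow_zero, Ideal.one_eq_top]; exact Submodule.mem_top⟩
    | succ n ih =>
      intro x
      obtain ⟨a, ha⟩ := ih x
      obtain ⟨b, hb⟩ := key n _ ha
      refine ⟨a + b, ?_⟩
      have h6 : x - φ (a + b) = (x - φ a) - φ b := by rw [map_add]; ring
      rw [h6]; exact hb
  have hsurj : Function.Surjective ((Ideal.Quotient.mk (maximalIdeal B ^ (n + 1))).comp φ) := by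
    intro z
    obtain ⟨x, rfl⟩ := Ideal.Quotient.mk_surjective z
    obtain ⟨a, ha⟩ := hsurjAll (n + 1) x
    refine ⟨a, ?_⟩
    rw [RingHom.comp_apply]
    exact (Ideal.Quotient.eq.mpr ha).symm
  refine ⟨hsurj, ?_⟩
  have hle : maximalIdeal A ^ (n + 1) ≤
      RingHom.ker ((Ideal.Quotient.mk (maximalIdeal B ^ (n + 1))).comp φ) := by
    intro a ha
    rw [RingHom.mem_ker, RingHom.comp_apply, Ideal.Quotient.eq_zero_iff_mem, hpow (n + 1)]
    exact Ideal.mem_map_of_mem φ ha
  apply le_antisymm _ hle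
  letI : Algebra A (B ⧸ maximalIdeal B ^ (n + 1)) :=
    ((Ideal.Quotient.mk (maximalIdeal B ^ (n + 1))).comp φ).toAlgebra
  have hL1 : Module.length A (B ⧸ maximalIdeal B ^ (n + 1)) =
      Module.length (B ⧸ maximalIdeal B ^ (n + 1)) (B ⧸ maximalIdeal B ^ (n + 1)) :=
    Module.length_eq_of_surjective hsurj
  have hL2 : Module.length B (B ⧸ maximalIdeal B ^ (n + 1)) =
      Module.length (B ⧸ maximalIdeal B ^ (n + 1)) (B ⧸ maximalIdeal B ^ (n + 1)) :=
    Module.length_eq_of_surjective (fun z => by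
      obtain ⟨x, rfl⟩ := Ideal.Quotient.mk_surjective z
      exact ⟨x, rfl⟩)
  have hL : Module.length A (A ⧸ maximalIdeal A ^ (n + 1)) =
      Module.length A (B ⧸ maximalIdeal B ^ (n + 1)) := by
    rw [hL1, ← hL2]; exact hlen n
  let g0 : A →ₗ[A] (B ⧸ maximalIdeal B ^ (n + 1)) :=
    Algebra.linearMap A (B ⧸ maximalIdeal B ^ (n + 1))
  have hg0 : ∀ a, g0 a = (Ideal.Quotient.mk (maximalIdeal B ^ (n + 1))).comp φ a := fun a => rfl
  have hker0 : (maximalIdeal A ^ (n + 1) : Submodule A A) ≤ LinearMap.ker g0 := by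
    intro a ha
    rw [LinearMap.mem_ker, hg0]
    exact hle ha
  let g : (A ⧸ maximalIdeal A ^ (n + 1)) →ₗ[A] (B ⧸ maximalIdeal B ^ (n + 1)) :=
    Submodule.liftQ (maximalIdeal A ^ (n + 1)) g0 hker0
  have hg : ∀ a : A, g (Ideal.Quotient.mk _ a) =
      (Ideal.Quotient.mk (maximalIdeal B ^ (n + 1))).comp φ a := fun a => rfl
  have hgsurj : Function.Surjective g := by
    intro z
    obtain ⟨a, ha⟩ := hsurj z
    exact ⟨Ideal.Quotient.mk _ a, by rw [hg, ha]⟩
  have hadd := Module.length_eq_add_of_exact (LinearMap.ker g).subtype g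
    (Submodule.subtype_injective _) hgsurj (LinearMap.exact_subtype_ker_map g)
  have hfin : Module.length A (A ⧸ maximalIdeal A ^ (n + 1)) ≠ ⊤ := by
    have hne : maximalIdeal A ^ (n + 1) ≠ ⊤ := by
      intro h
      have h7 : maximalIdeal A = ⊤ := by
        apply top_le_iff.mp
        rw [← h]
        exact Ideal.pow_le_self (Nat.succ_ne_zero n)
      exact (IsLocalRing.maximalIdeal.isMaximal A).ne_top h7
    haveI : Nontrivial (A ⧸ maximalIdeal A ^ (n + 1)) := Ideal.Quotient.nontrivial_iff.mpr hne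
    haveI : IsLocalRing (A ⧸ maximalIdeal A ^ (n + 1)) :=
      IsLocalRing.of_surjective' (Ideal.Quotient.mk _) Ideal.Quotient.mk_surjective
    haveI : IsArtinianRing (A ⧸ maximalIdeal A ^ (n + 1)) := by
      rw [isArtinianRing_iff_isNilpotent_maximalIdeal]
      refine ⟨n + 1, ?_⟩
      rw [Ideal.zero_eq_bot, eq_bot_iff]
      have hmax : maximalIdeal (A ⧸ maximalIdeal A ^ (n + 1)) ≤
          Ideal.map (Ideal.Quotient.mk (maximalIdeal A ^ (n + 1))) (maximalIdeal A) := by
        intro x hx
        obtain ⟨a, rfl⟩ := Ideal.Quotient.mk_surjective x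
        apply Ideal.mem_map_of_mem
        rw [IsLocalRing.mem_maximalIdeal, mem_nonunits_iff] at hx ⊢
        exact fun hu => hx (hu.map _)
      calc maximalIdeal (A ⧸ maximalIdeal A ^ (n + 1)) ^ (n + 1)
          ≤ (Ideal.map (Ideal.Quotient.mk (maximalIdeal A ^ (n + 1))) (maximalIdeal A)) ^ (n + 1) :=
            Ideal.pow_right_mono hmax _
        _ = Ideal.map (Ideal.Quotient.mk (maximalIdeal A ^ (n + 1))) (maximalIdeal A ^ (n + 1)) :=
            (Ideal.map_pow _ _ _).symm
        _ = ⊥ := Ideal.map_quotient_self _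
    haveI : IsArtinian A (A ⧸ maximalIdeal A ^ (n + 1)) :=
      isArtinian_of_surjective_algebraMap (R := A ⧸ maximalIdeal A ^ (n + 1)) (fun z => by
        obtain ⟨a, rfl⟩ := Ideal.Quotient.mk_surjective z
        exact ⟨a, rfl⟩)
    exact Module.length_ne_top
  have hker : Module.length A (LinearMap.ker g) = 0 := by
    have h2 : Module.length A (LinearMap.ker g) + Module.length A (B ⧸ maximalIdeal B ^ (n + 1)) =
        0 + Module.length A (B ⧸ maximalIdeal B ^ (n + 1)) := by
      rw [zero_add, ← hadd, hL]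
    exact ENat.add_left_injective_of_ne_top (hL ▸ hfin) h2
  have hsub : Subsingleton (LinearMap.ker g) := Module.length_eq_zero_iff.mp hker
  intro a ha
  have h8 : (⟨Ideal.Quotient.mk _ a, by
      rw [LinearMap.mem_ker, hg]; exact RingHom.mem_ker.mp ha⟩ : LinearMap.ker g) = 0 :=
    Subsingleton.elim _ _
  have h9 : Ideal.Quotient.mk (maximalIdeal A ^ (n + 1)) a = 0 := congrArg Subtype.val h8
  exact Ideal.Quotient.eq_zero_iff_mem.mp h9

end Groth.Agent.S16104
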