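import Groth.Statements.S16152
import Mathlib
import Groth.Agent.Lib.helper8.WGauss

set_option autoImplicit false
universe u
open WGauss

namespace Groth.Agent.S16152

open MvPolynomial in
/-- Over a field k of characteristic zero, for e, a, b positive integers with a < b, the weighted
Gaussian map of the line bundle O(e) on projective n-space is surjective. Concretely, identifying
global sections of O(m) with homogeneous polynomials of degree m in X_0, ..., X_n and global
sections of the twisted cotangent sheaf Omega^1(t) with the (n+1)-tuples of homogeneous polynomials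
of degree t - 1 killed by the Euler map (f_i) to sum_i X_i f_i, every such tuple with t = (a+b)e is
a k-linear combination of the tuples (b tau (d sigma / d X_i) - a sigma (d tau / d X_i))_i with
sigma homogeneous of degree ae and tau homogeneous of degree be. (The source works over the complex
numbers; the statement is one of linear algebra and is given here over any field of characteristic
zero.) -/
theorem result
    (k : Type u) [Field k] [CharZero k] (n e a b : ℕ) (he : 0 < e) (ha : 0 < a) (hab : a < b)
    (f : Fin (n + 1) → MvPolynomial (Fin (n + 1)) k)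
    (hf : ∀ i, (f i).IsHomogeneous ((a + b) * e - 1))
    (hEuler : ∑ i, X i * f i = 0) :
    f ∈ Submodule.span k
      {g : Fin (n + 1) → MvPolynomial (Fin (n + 1)) k |
        ∃ σ τ : MvPolynomial (Fin (n + 1)) k, σ.IsHomogeneous (a * e) ∧ τ.IsHomogeneous (b * e) ∧
          g = fun i => (b : k) • (τ * pderiv i σ) - (a : k) • (σ * pderiv i τ)} := by
  obtain ⟨A, hA⟩ : ∃ A, a * e = A + 1 := Nat.exists_eq_succ_of_ne_zero (Nat.mul_pos ha he).ne'
  obtain ⟨B, hB⟩ : ∃ B, b * e = B + 1 :=
    Nat.exists_eq_succ_of_ne_zero (Nat.mul_pos (ha.trans hab) he).ne'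
  have ht : (a + b) * e - 1 = A + B + 1 := by rw [add_mul, hA, hB]; omega
  have hf' : ∀ i, (f i).IsHomogeneous (A + B + 1) := fun i => ht ▸ hf i
  have hdec := H8WG.euler_decomp (A + B + 1) f hf' hEuler
  have hne : (((A + B + 1 + 1 : ℕ)) : k) ≠ 0 := by exact_mod_cast Nat.succ_ne_zero (A + B + 1)
  have hfe : f = (((A + B + 1 + 1 : ℕ)) : k)⁻¹ •
      ∑ j, ∑ l, H8WG.PK l j (pderiv j (f l)) := by
    rw [← hdec, smul_smul, inv_mul_cancel₀ hne, one_smul]
  rw [hfe]
  refine Submodule.smul_mem _ _ (Submodule.sum_mem _ fun j _ =>
    Submodule.sum_mem _ fun l _ => ?_)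
  refine H8WG.PK_mem_hom a b e A B ha hA hB _ ?_ l j
  have h := (hf' l).pderiv (i := j)
  simpa using h

end Groth.Agent.S16152
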