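import Groth.Statements.S16156
import Mathlib
-- import your own Groth.Agent.* helpers here

set_option autoImplicit false
universe u
open MukaiVec

namespace Groth.Agent.S16156

/-- Let N be an abelian group with a symmetric integer-valued bilinear form and H an element with H·H =
2n for some n > 0 such that every x with x·H = 0 satisfies x·x ≤ 0 (the Hodge index inequality). Fix
integers r ≥ 2, d > 0 and χ < 0 (a Mukai vector v = (r, dH, χ)) and an isotropic Mukai vector u =
(p, η, q), p ≥ 0, η ∈ N, η·η = 2pq, whose pairing ⟨v, u⟩ = d(H·η) − rq − χp has absolute value 1 or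
2. Exclude the case d = 1, χ = −1, H·η = 1, η·η = 0, and when r = 2 also the case p = 0, H·η = 0.
Then the pairings of u∨ = (p, −η, q) with w₀ = (0, rH, −2nd) and with w₁ = (2nd, −χH, 0) are both
non-negative or both negative: 2ndp − r(H·η) ≥ 0 holds if and only if χ(H·η) − 2ndq ≥ 0 holds. -/
theorem result
    (N : Type u) [AddCommGroup N] (B : LinearMap.BilinForm ℤ N) (hB : ∀ x y : N, B x y = B y x)
    (H : N) (n : ℤ) (hn : 0 < n) (hH : B H H = 2 * n) (hodge : ∀ x : N, B x H = 0 → B x x ≤ 0)
    (r d χ p q : ℤ) (η : N) (hr : 2 ≤ r) (hd : 0 < d) (hχ : χ < 0) (hp : 0 ≤ p)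
    (hiso : B η η = 2 * p * q)
    (hvu : 1 ≤ |d * B H η - r * q - χ * p| ∧ |d * B H η - r * q - χ * p| ≤ 2)
    (hexc : ¬ (d = 1 ∧ χ = -1 ∧ B H η = 1 ∧ B η η = 0))
    (hr2 : r = 2 → ¬ (p = 0 ∧ B H η = 0)) :
    (0 ≤ 2 * n * d * p - r * B H η ↔ 0 ≤ χ * B H η - 2 * n * d * q) := by
  -- Hodge index consequence: 4 n p q ≤ h^2
  set h : ℤ := B H η with hh
  have hsymm : B η H = h := hB η H
  have hx0 : B ((2 * n) • η - h • H) H = 0 := by
    simp only [map_sub, map_smul, LinearMap.sub_apply, LinearMap.smul_apply, smul_eq_mul]
    rw [hsymm, hH]; ring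
  have hx1 := hodge _ hx0
  have hx2 : B ((2 * n) • η - h • H) ((2 * n) • η - h • H) =
      (2 * n) * (2 * n) * B η η - 2 * (2 * n) * h * h + h * h * (2 * n) := by
    simp only [map_sub, map_smul, LinearMap.sub_apply, LinearMap.smul_apply, smul_eq_mul]
    rw [hsymm, hH, ← hh]
    ring
  rw [hx2, hiso] at hx1
  have hodge' : 4 * n * p * q ≤ h * h := by
    by_contra hcon
    push Not at hcon
    nlinarith
  obtain ⟨hs1, hs2⟩ := hvu
  have hsle : d * h - r * q - χ * p ≤ 2 := (abs_le.mp hs2).2
  have hsge : -2 ≤ d * h - r * q - χ * p := (abs_le.mp hs2).1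
  have hnd : 0 < n * d := mul_pos hn hd
  constructor
  · intro hX
    by_contra hY
    push Not at hY
    rcases lt_trichotomy h 0 with hneg | hzero | hpos
    · -- h < 0
      have hχh : 0 < χ * h := mul_pos_of_neg_of_neg hχ hneg
      have hq : 0 < q := by
        by_contra hq
        push Not at hq
        have : 2 * n * d * q ≤ 0 := by nlinarith
        linarith
      rcases hp.lt_or_eq with hp0 | hp0
      · -- p > 0
        have h1 : 2 * p * (-χ) + 1 ≤ (-h) * d := by
          by_contra hcon
          push Not at hcon
          have h2 : (-h) * d ≤ 2 * p * (-χ) := by linarith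
          -- 4 n p q χ' ≤ h'^2 χ' < h' 2 n d q
          have h3 : 4 * n * p * q * (-χ) ≤ h * h * (-χ) :=
            mul_le_mul_of_nonneg_right hodge' (by linarith)
          have h4 : (-h) * (χ * h) < (-h) * (2 * n * d * q) :=
            mul_lt_mul_of_pos_left (by linarith) (by linarith)
          have h5 : (2 * n * q) * ((-h) * d) ≤ (2 * n * q) * (2 * p * (-χ)) :=
            mul_le_mul_of_nonneg_left h2 (by positivity)
          nlinarith
        have h6 : r * q ≥ 2 := by nlinarith
        have h7 : (-χ) * p ≥ 1 := by nlinarith
        nlinarith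
      · -- p = 0
        subst hp0
        have h6 : r * q ≥ 2 := by nlinarith
        have h7 : d * h ≤ -1 := by nlinarith
        nlinarith
    · -- h = 0
      rw [hzero] at hY hsle hsge hodge' hX
      simp only [mul_zero, zero_sub, sub_zero] at hY hsle hsge hodge' hX
      have hq : 0 < q := by
        by_contra hq
        push Not at hq
        have : 2 * n * d * q ≤ 0 := by nlinarith
        linarith
      have hp0 : p = 0 := by
        by_contra hne
        have : 1 ≤ p := by omega
        nlinarith
      subst hp0
      simp only [mul_zero, sub_zero] at hsge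
      have hr2' : r = 2 := by nlinarith
      exact hr2 hr2' ⟨rfl, hzero⟩
    · -- h > 0
      have hp0 : 0 < p := by
        by_contra hcon
        have : p = 0 := by omega
        subst this
        nlinarith
      have hχp : χ * p ≤ -1 := by nlinarith
      have hdh : 1 ≤ d * h := by nlinarith
      rcases le_or_gt q 0 with hq | hq
      · have hrq : r * q ≤ 0 := by nlinarith
        have hdh1 : d * h = 1 := by linarith
        have hrq0 : r * q = 0 := by linarith
        have hχp1 : χ * p = -1 := by linarith
        have hd1 : d = 1 := by nlinarith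
        have hh1 : h = 1 := by nlinarith
        have hχ1 : χ = -1 := by nlinarith
        have hq0 : q = 0 := by
          rcases mul_eq_zero.mp hrq0 with h0 | h0
          · omega
          · exact h0
        apply hexc
        refine ⟨hd1, hχ1, hh1, ?_⟩
        rw [hiso, hq0, mul_zero]
      · have h1 : 2 * q * r ≤ h * d := by
          by_contra hcon
          push Not at hcon
          have h2 : h * d + 1 ≤ 2 * q * r := by linarith
          have h3 : h * (r * h) ≤ h * (2 * n * d * p) :=
            mul_le_mul_of_nonneg_left (by linarith) hpos.le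
          have h4 : r * (4 * n * p * q) ≤ r * (h * h) :=
            mul_le_mul_of_nonneg_left hodge' (by linarith)
          have h5 : (2 * n * p) * (h * d + 1) ≤ (2 * n * p) * (2 * q * r) :=
            mul_le_mul_of_nonneg_left h2 (by positivity)
          nlinarith
        have h6 : r * q ≥ 2 := by nlinarith
        nlinarith
  · intro hY
    by_contra hX
    push Not at hX
    have hpos : 0 < h := by
      by_contra hcon
      push Not at hcon
      have : r * h ≤ 0 := by nlinarith
      have : 0 ≤ 2 * n * d * p := by positivity
      linarith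
    have hχh : χ * h < 0 := mul_neg_of_neg_of_pos hχ hpos
    have hq : q ≤ -1 := by
      by_contra hq
      push Not at hq
      have : 0 ≤ q := by omega
      have : 0 ≤ 2 * n * d * q := by positivity
      linarith
    have h1 : 1 ≤ d * h := by nlinarith
    have h2 : 2 ≤ -(r * q) := by nlinarith
    have h3 : 0 ≤ -(χ * p) := by nlinarith
    linarith

end Groth.Agent.S16156
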