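import Groth.Statements.S16158
import Mathlib

set_option autoImplicit false
universe u v w
open MadRed

namespace Groth.Agent.S16158

section Aux
open scoped Classical

variable (R : Type u) [CommRing R]

/-- elementwise independence -/
def Indep {M : Type*} [AddCommGroup M] [Module R M] {k : ℕ} (x : Fin k → M) : Prop :=
  ∀ r : Fin k → R, ∑ i, r i • x i = 0 → ∀ i, r i • x i = 0

/-- bounded uniform dimension -/
def PB (M : Type*) [AddCommGroup M] [Module R M] (n : ℕ) : Prop :=
  ∀ (k : ℕ) (x : Fin k → M), Indep R x → (Finset.univ.filter (fun i => x i ≠ 0)).card ≤ n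

theorem PB_of_injective {M N : Type*} [AddCommGroup M] [Module R M] [AddCommGroup N] [Module R N]
    (φ : M →ₗ[R] N) (hφ : Function.Injective φ) {n : ℕ} (h : PB R N n) : PB R M n := by
  intro k x hx
  have hind : Indep R (fun i => φ (x i)) := by
    intro r hr i
    have h0 : φ (∑ i, r i • x i) = 0 := by
      rw [map_sum]; simpa using hr
    have h1 := hx r (hφ (by rw [h0, map_zero])) i
    show r i • φ (x i) = 0
    rw [← map_smul, h1, map_zero]
  refine le_trans (Finset.card_le_card ?_) (h k (fun i => φ (x i)) hind)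
  intro i hi
  simp only [Finset.mem_filter, Finset.mem_univ, true_and] at hi ⊢
  exact fun h0 => hi (hφ (by rw [h0, map_zero]))

theorem PB_subsingleton (M : Type*) [AddCommGroup M] [Module R M] [Subsingleton M] :
    PB R M 0 := by
  intro k x _
  rw [Nat.le_zero, Finset.card_eq_zero, Finset.filter_eq_empty_iff]
  intro i _
  simp [Subsingleton.elim (x i) 0]

theorem PB_quot (p : Ideal R) [p.IsPrime] : PB R (R ⧸ p) 1 := by
  intro k x hx
  rw [Finset.card_le_one]
  intro i hi j hj
  simp only [Finset.mem_filter, Finset.mem_univ, true_and] at hi hj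
  by_contra hij
  obtain ⟨a, ha⟩ := Ideal.Quotient.mk_surjective (x i)
  obtain ⟨b, hb⟩ := Ideal.Quotient.mk_surjective (x j)
  have e : ∀ (r : R) (y : R ⧸ p), r • y = Ideal.Quotient.mk p r * y := fun r y => by
    rw [Algebra.smul_def]; rfl
  have hsum : ∑ l, (fun l => if l = i then b else if l = j then -a else 0) l • x l = 0 := by
    rw [Finset.sum_eq_add i j hij]
    · simp only [if_true, if_neg (Ne.symm hij)]
      rw [e, e, ← ha, ← hb, map_neg]
      ring
    · intro c _ hc
      simp only [if_neg hc.1, if_neg hc.2, zero_smul]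
    · intro h; exact absurd (Finset.mem_univ i) h
    · intro h; exact absurd (Finset.mem_univ j) h
  have := hx _ hsum i
  simp only [if_true] at this
  rw [e, hb] at this
  rcases mul_eq_zero.1 this with h | h
  · exact hj h
  · exact hi h

/-- no relation modulo the kernel -/
def QQ {N₂ N₃ : Type*} [AddCommGroup N₂] [Module R N₂] [AddCommGroup N₃] [Module R N₃]
    (g : N₂ →ₗ[R] N₃) {k : ℕ} (x : Fin k → N₂) (T : Finset (Fin k)) : Prop :=
  ∀ r : Fin k → R, g (∑ i ∈ T, r i • x i) = 0 → ∑ i ∈ T, r i • x i = 0

theorem PB_ext {N₁ N₂ N₃ : Type*} [AddCommGroup N₁] [Module R N₁] [AddCommGroup N₂] [Module R N₂]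
    [AddCommGroup N₃] [Module R N₃] (f : N₁ →ₗ[R] N₂) (g : N₂ →ₗ[R] N₃)
    (hf : Function.Injective f) (hfg : Function.Exact f g) {a b : ℕ}
    (h1 : PB R N₁ a) (h3 : PB R N₃ b) : PB R N₂ (a + b) := by
  intro k x hx
  have hQ0 : QQ R g x ∅ := fun r _ => by simp
  obtain ⟨T, hT, hTmax⟩ := Finset.exists_max_image
    ((Finset.univ : Finset (Finset (Fin k))).filter (QQ R g x)) Finset.card
    ⟨∅, by simp [hQ0]⟩
  have hQT : QQ R g x T := (Finset.mem_filter.1 hT).2
  have hmax : ∀ j, j ∉ T → ¬ QQ R g x (insert j T) := by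
    intro j hj hQ
    have := hTmax (insert j T) (Finset.mem_filter.2 ⟨Finset.mem_univ _, hQ⟩)
    rw [Finset.card_insert_of_notMem hj] at this
    omega
  have hsingle : ∀ i ∈ T, ∑ l ∈ T, (if l = i then (1:R) else 0) • x l = x i := by
    intro i hi
    simp [ite_smul, hi]
  -- part (i)
  have hI : (Finset.univ.filter (fun i => i ∈ T ∧ x i ≠ 0)).card ≤ b := by
    have hind : Indep R (fun i => if i ∈ T then g (x i) else 0) := by
      intro r hr i
      have e1 : ∑ i, r i • (if i ∈ T then g (x i) else 0) = g (∑ i ∈ T, r i • x i) := by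
        simp only [smul_ite, smul_zero, Finset.sum_ite_mem, Finset.univ_inter, map_sum, map_smul]
      rw [e1] at hr
      have h0 := hQT r hr
      have e2 : ∑ i, (if i ∈ T then r i else 0) • x i = ∑ i ∈ T, r i • x i := by
        simp only [ite_smul, zero_smul, Finset.sum_ite_mem, Finset.univ_inter]
      have h2 := hx (fun i => if i ∈ T then r i else 0) (by rw [e2, h0]) i
      show r i • (if i ∈ T then g (x i) else 0) = 0
      by_cases hi : i ∈ T
      · simp only [if_pos hi] at h2 ⊢
        rw [← map_smul, h2, map_zero]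
      · simp only [if_neg hi, smul_zero]
    refine le_trans (Finset.card_le_card ?_) (h3 k _ hind)
    intro i hi
    simp only [Finset.mem_filter, Finset.mem_univ, true_and] at hi ⊢
    rw [if_pos hi.1]
    intro hg0
    apply hi.2
    have := hQT (fun l => if l = i then 1 else 0) (by rw [hsingle i hi.1]; exact hg0)
    rwa [hsingle i hi.1] at this
  -- part (ii)
  have hex : ∀ j, ∃ r : Fin k → R, j ∉ T →
      (g (∑ i ∈ insert j T, r i • x i) = 0 ∧ ∑ i ∈ insert j T, r i • x i ≠ 0) := by
    intro j
    by_cases hj : j ∈ T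
    · exact ⟨0, fun h => absurd hj h⟩
    · have := hmax j hj
      unfold QQ at this
      push Not at this
      obtain ⟨r, h1, h2⟩ := this
      exact ⟨r, fun _ => ⟨h1, h2⟩⟩
  choose ρ hρ using hex
  obtain ⟨y, hy⟩ : ∃ y : Fin k → N₂, ∀ j, y j =
      if j ∈ T then 0 else ∑ i ∈ insert j T, ρ j i • x i := ⟨_, fun _ => rfl⟩
  have hyT : ∀ j, j ∈ T → y j = 0 := fun j hj => by rw [hy, if_pos hj]
  have hyN : ∀ j, j ∉ T → y j = ρ j j • x j + ∑ i ∈ T, ρ j i • x i := fun j hj => by
    rw [hy, if_neg hj, Finset.sum_insert hj]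
  have hyg : ∀ j, g (y j) = 0 := by
    intro j
    by_cases hj : j ∈ T
    · rw [hyT j hj, map_zero]
    · rw [hy, if_neg hj]; exact (hρ j hj).1
  have hy0 : ∀ j, j ∉ T → y j ≠ 0 := by
    intro j hj
    rw [hy, if_neg hj]; exact (hρ j hj).2
  have hkey : ∀ j, j ∉ T → ∀ c : R, (c * ρ j j) • x j = 0 → c • y j = 0 := by
    intro j hj c hc
    have e1 : c • y j = ∑ i ∈ T, (c * ρ j i) • x i := by
      rw [hyN j hj, smul_add, smul_smul, hc, zero_add, Finset.smul_sum]
      exact Finset.sum_congr rfl fun i _ => smul_smul _ _ _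
    have h0 : g (∑ i ∈ T, (c * ρ j i) • x i) = 0 := by
      rw [← e1, map_smul, hyg j, smul_zero]
    rw [e1]
    exact hQT (fun i => c * ρ j i) h0
  obtain ⟨Rm, hRm⟩ : ∃ Rm : Fin k → Fin k → R, ∀ j i, Rm j i =
      if j ∈ T then 0 else if i ∈ insert j T then ρ j i else 0 := ⟨_, fun _ _ => rfl⟩
  have hyR : ∀ j, y j = ∑ i, Rm j i • x i := by
    intro j
    by_cases hj : j ∈ T
    · rw [hyT j hj]
      symm
      apply Finset.sum_eq_zero
      intro i _
      rw [hRm, if_pos hj, zero_smul]
    · rw [hy, if_neg hj]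
      have : ∀ i, Rm j i • x i = if i ∈ insert j T then ρ j i • x i else 0 := by
        intro i
        rw [hRm, if_neg hj, ite_smul, zero_smul]
      simp only [this, Finset.sum_ite_mem, Finset.univ_inter]
  have hYind : ∀ c : Fin k → R, ∑ j, c j • y j = 0 → ∀ j, c j • y j = 0 := by
    intro c hc j0
    by_cases hj0 : j0 ∈ T
    · rw [hyT j0 hj0, smul_zero]
    · have e1 : ∑ j, c j • y j = ∑ i, (∑ j, c j * Rm j i) • x i := by
        simp only [hyR, Finset.smul_sum, smul_smul, Finset.sum_smul]
        exact Finset.sum_comm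
      rw [e1] at hc
      have h2 := hx (fun i => ∑ j, c j * Rm j i) hc j0
      have e2 : ∑ j, c j * Rm j j0 = c j0 * ρ j0 j0 := by
        rw [Finset.sum_eq_single j0]
        · rw [hRm, if_neg hj0, if_pos (Finset.mem_insert_self _ _)]
        · intro j _ hjne
          rw [hRm]
          by_cases hj : j ∈ T
          · rw [if_pos hj, mul_zero]
          · rw [if_neg hj, if_neg, mul_zero]
            intro hmem
            rcases Finset.mem_insert.1 hmem with h | h
            · exact hjne h.symm
            · exact hj0 h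
        · intro h; exact absurd (Finset.mem_univ j0) h
      simp only [e2] at h2
      exact hkey j0 hj0 (c j0) h2
  have hw : ∀ j, ∃ w : N₁, f w = y j := fun j => (hfg (y j)).1 (hyg j)
  choose w hw using hw
  have hII : (Finset.univ.filter (fun j : Fin k => j ∉ T)).card ≤ a := by
    have hind : Indep R w := by
      intro c hc j
      have h0 : ∑ j, c j • y j = 0 := by
        have := congrArg f hc
        rw [map_sum, map_zero] at this
        simpa [hw] using this
      have h1 := hYind c h0 j
      apply hf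
      rw [map_smul, hw, h1, map_zero]
    refine le_trans (Finset.card_le_card ?_) (h1 k w hind)
    intro j hj
    simp only [Finset.mem_filter, Finset.mem_univ, true_and] at hj ⊢
    intro hw0
    apply hy0 j hj
    rw [← hw j, hw0, map_zero]
  have hsub : Finset.univ.filter (fun i => x i ≠ 0) ⊆
      Finset.univ.filter (fun i => i ∈ T ∧ x i ≠ 0) ∪ Finset.univ.filter (fun j : Fin k => j ∉ T) := by
    intro i hi
    simp only [Finset.mem_filter, Finset.mem_univ, true_and, Finset.mem_union] at hi ⊢
    by_cases h : i ∈ T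
    · exact Or.inl ⟨h, hi⟩
    · exact Or.inr h
  have := (Finset.card_le_card hsub).trans (Finset.card_union_le _ _)
  omega

end Aux

/-- Let R be a commutative Noetherian ring and M a finitely generated R-module. Then there is a natural
number n such that in every decomposition of M as an internal direct sum of a family of submodules,
at most n of the summands are nonzero (the nonzero summands are indexed by a finite set of size at
most n). -/
theorem result (R : Type u) [CommRing R] [IsNoetherianRing R]
    (M : Type v) [AddCommGroup M] [Module R M] [Module.Finite R M] :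
    ∃ n : ℕ, ∀ (ι : Type w) [DecidableEq ι] (N : ι → Submodule R M), DirectSum.IsInternal N →
      ∃ s : Finset ι, s.card ≤ n ∧ ∀ i, N i ≠ ⊥ → i ∈ s := by
  classical
  obtain ⟨n, hn⟩ : ∃ n, PB R M n := by
    induction ‹Module.Finite R M› using
      IsNoetherianRing.induction_on_isQuotientEquivQuotientPrime R with
    | subsingleton N => exact ⟨0, PB_subsingleton R N⟩
    | quotient N p f =>
      haveI := p.2
      exact ⟨1, PB_of_injective R f.toLinearMap f.injective (PB_quot R p.1)⟩
    | exact N₁ N₂ N₃ f g hf _ hfg h₁ h₃ =>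
      obtain ⟨a, ha⟩ := h₁
      obtain ⟨b, hb⟩ := h₃
      exact ⟨a + b, PB_ext R f g hf hfg ha hb⟩
  refine ⟨n, ?_⟩
  intro ι _ N hN
  by_contra hcon
  push Not at hcon
  have step : ∀ m, m ≤ n + 1 → ∃ t : Finset ι, t.card = m ∧ ∀ i ∈ t, N i ≠ ⊥ := by
    intro m
    induction m with
    | zero => intro _; exact ⟨∅, rfl, by simp⟩
    | succ m ih =>
      intro hm
      obtain ⟨t, ht, htN⟩ := ih (by omega)
      obtain ⟨i, hi, hit⟩ := hcon t (by omega)
      refine ⟨insert i t, by rw [Finset.card_insert_of_notMem hit, ht], ?_⟩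
      intro j hj
      rcases Finset.mem_insert.1 hj with rfl | hj
      · exact hi
      · exact htN j hj
  obtain ⟨t, ht, htN⟩ := step (n + 1) le_rfl
  obtain ⟨ι', hι'⟩ : ∃ ι' : Fin (n + 1) → ι, ∀ j, ι' j = ((t.equivFinOfCardEq ht).symm j).1 :=
    ⟨_, fun _ => rfl⟩
  have hinj : Function.Injective ι' := by
    intro j1 j2 h
    rw [hι', hι'] at h
    exact (t.equivFinOfCardEq ht).symm.injective (Subtype.ext h)
  have hne : ∀ j, N (ι' j) ≠ ⊥ := by
    intro j
    rw [hι']
    exact htN _ ((t.equivFinOfCardEq ht).symm j).2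
  choose x hxmem hx0 using fun j => Submodule.exists_mem_ne_zero_of_ne_bot (hne j)
  have hind := hN.submodule_iSupIndep
  have hIndep : Indep R x := by
    intro r hr j0
    have h1 : r j0 • x j0 ∈ N (ι' j0) := Submodule.smul_mem _ _ (hxmem j0)
    have h2 : r j0 • x j0 ∈ ⨆ (i) (_ : i ≠ ι' j0), N i := by
      have e := Finset.add_sum_erase Finset.univ (fun j => r j • x j) (Finset.mem_univ j0)
      rw [hr] at e
      rw [eq_neg_of_add_eq_zero_left e]
      refine Submodule.neg_mem _ (Submodule.sum_mem _ ?_)
      intro j hj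
      have hjne : ι' j ≠ ι' j0 := fun h => (Finset.ne_of_mem_erase hj) (hinj h)
      exact Submodule.mem_iSup_of_mem (ι' j) (Submodule.mem_iSup_of_mem hjne
        (Submodule.smul_mem _ _ (hxmem j)))
    exact Submodule.disjoint_def.1 (hind (ι' j0)) _ h1 h2
  have hcount := hn (n + 1) x hIndep
  rw [Finset.filter_true_of_mem (fun j _ => hx0 j), Finset.card_univ, Fintype.card_fin] at hcount
  omega

end Groth.Agent.S16158
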