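import Groth.Statements.S16159
import Mathlib

set_option autoImplicit false
universe u v w x
open MadRed

namespace Groth.Agent.S16159

section Aux

variable (k : Type u) [Field k] {R : Type v} [CommRing R] [Algebra k R]
  {V : Type w} [AddCommGroup V] [Module R V] [Module k V] [IsScalarTower k R V]
  {ι : Type x} (f : ι → Module.End R V)

/-- `u` is a joint eigenvector of the family modulo the submodule `K`. -/
def KJE (K : Submodule R V) (u : V) : Prop := ∃ χ : ι → k, ∀ i, f i u - χ i • u ∈ K

/-- The additive submonoid generated by joint eigenvectors modulo `K`. -/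
def GG (K : Submodule R V) : AddSubmonoid V := AddSubmonoid.closure {u | KJE k f K u}

theorem gsmul (g : Module.End R V) (c : k) (v : V) : g (c • v) = c • g v :=
  LinearMap.map_smul_of_tower g c v

theorem GG_smul (K : Submodule R V) (c : k) {u : V} (hu : u ∈ GG k f K) :
    c • u ∈ GG k f K := by
  unfold GG at hu ⊢
  induction hu using AddSubmonoid.closure_induction with
  | mem x hx =>
    obtain ⟨χ, hχ⟩ := hx
    refine AddSubmonoid.subset_closure ⟨χ, fun i => ?_⟩
    have h1 : f i (c • x) - χ i • (c • x) = c • (f i x - χ i • x) := by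
      rw [gsmul, smul_sub, smul_comm (χ i) c x]
    rw [h1]
    exact K.smul_of_tower_mem c (hχ i)
  | zero => rw [smul_zero]; exact zero_mem _
  | add x y _ _ hx hy => rw [smul_add]; exact add_mem hx hy

theorem lemL (g : Module.End R V) (U : Submodule R V) (hU : ∀ v ∈ U, g v ∈ U) (F : Finset k) :
    ∀ c : k → V, (∀ μ, g (c μ) = μ • c μ) → ∑ μ ∈ F, c μ ∈ U → ∀ μ ∈ F, c μ ∈ U := by
  classical
  induction F using Finset.induction_on with
  | empty => intro c _ _ μ hμ; exact absurd hμ (Finset.notMem_empty μ)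
  | insert ν F hν ih =>
    intro c hc hsum μ hμ
    have h1 : ∑ μ ∈ F, (μ - ν) • c μ ∈ U := by
      have h2 : g (∑ μ ∈ insert ν F, c μ) - ν • ∑ μ ∈ insert ν F, c μ ∈ U :=
        sub_mem (hU _ hsum) (U.smul_of_tower_mem ν hsum)
      have h3 : g (∑ μ ∈ insert ν F, c μ) - ν • ∑ μ ∈ insert ν F, c μ
          = ∑ μ ∈ F, (μ - ν) • c μ := by
        rw [map_sum, Finset.smul_sum, ← Finset.sum_sub_distrib, Finset.sum_insert hν]
        rw [hc ν, sub_self, zero_add]
        refine Finset.sum_congr rfl fun μ _ => ?_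
        rw [hc μ, sub_smul]
      rw [← h3]; exact h2
    have h4 : ∀ μ ∈ F, c μ ∈ U := by
      intro μ hμF
      have h5 := ih (fun μ => (μ - ν) • c μ) (fun μ => by
        show g ((μ - ν) • c μ) = μ • (μ - ν) • c μ
        rw [gsmul, hc μ, smul_comm]) h1 μ hμF
      have hne : μ - ν ≠ 0 := by
        intro h0
        rw [sub_eq_zero] at h0
        rw [h0] at hμF
        exact hν hμF
      have h6 : c μ = (μ - ν)⁻¹ • ((μ - ν) • c μ) := by
        rw [smul_smul, inv_mul_cancel₀ hne, one_smul]
      rw [h6]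
      exact U.smul_of_tower_mem _ h5
    rcases Finset.mem_insert.1 hμ with h | hμ'
    · rw [h]
      have h7 : c ν = ∑ μ ∈ insert ν F, c μ - ∑ μ ∈ F, c μ := by
        rw [Finset.sum_insert hν, add_sub_cancel_right]
      rw [h7]
      exact sub_mem hsum (U.sum_mem h4)
    · exact h4 μ hμ'

theorem main_noeth [IsNoetherian R V] (hcomm : ∀ i j, Commute (f i) (f j))
    (hdiag : ∀ i v, ∃ (F : Finset k) (c : k → V), (∀ μ, f i (c μ) = μ • c μ) ∧ ∑ μ ∈ F, c μ = v)
    (K : Submodule R V) (hK : ∀ i, ∀ v ∈ K, f i v ∈ K) : ∀ w, w ∈ GG k f K := by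
  haveI : WellFoundedGT (Submodule R V) := isNoetherian_iff'.1 inferInstance
  have hcommv : ∀ i j v, f i (f j v) = f j (f i v) := fun i j v =>
    LinearMap.congr_fun (hcomm i j).eq v
  refine WellFoundedGT.induction
    (motive := fun K => (∀ i, ∀ v ∈ K, f i v ∈ K) → ∀ w, w ∈ GG k f K) K ?_ hK
  intro K ih hK w
  obtain ⟨T, hT⟩ : ∃ T : ι → k → Submodule R V, ∀ i μ v, v ∈ T i μ ↔ f i v - μ • v ∈ K := by
    refine ⟨fun i μ => Submodule.comap (f i - algebraMap k R μ • (1 : Module.End R V)) K, ?_⟩
    intro i μ v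
    simp only [Submodule.mem_comap, LinearMap.sub_apply, LinearMap.smul_apply,
      Module.End.one_apply, algebraMap_smul]
  have hKT : ∀ i μ, K ≤ T i μ := by
    intro i μ v hv
    rw [hT]
    exact sub_mem (hK i v hv) (K.smul_of_tower_mem μ hv)
  have hTst : ∀ i μ, ∀ j, ∀ v ∈ T i μ, f j v ∈ T i μ := by
    intro i μ j v hv
    rw [hT] at hv ⊢
    have h1 : f i (f j v) - μ • f j v = f j (f i v - μ • v) := by
      rw [map_sub, gsmul, hcommv i j v]
    rw [h1]
    exact hK j _ hv
  have hT3 : ∀ i μ, K < T i μ → ∀ w, f i w - μ • w ∈ GG k f K := by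
    intro i μ hlt w
    have hw := ih (T i μ) hlt (hTst i μ) w
    unfold GG at hw
    induction hw using AddSubmonoid.closure_induction with
    | mem u hu =>
      obtain ⟨χ, hχ⟩ := hu
      refine AddSubmonoid.subset_closure ⟨χ, fun j => ?_⟩
      have h1 := hχ j
      rw [hT] at h1
      have e1 : f j (f i u - μ • u) = f i (f j u) - μ • f j u := by
        rw [map_sub, gsmul, hcommv j i u]
      have e2 : f i (f j u - χ j • u) = f i (f j u) - χ j • f i u := by
        rw [map_sub, gsmul]
      have e3 : f j (f i u - μ • u) - χ j • (f i u - μ • u)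
          = f i (f j u - χ j • u) - μ • (f j u - χ j • u) := by
        rw [e1, e2, smul_sub, smul_sub, smul_comm (χ j) μ u]
        abel
      rw [e3]
      exact h1
    | zero =>
      rw [map_zero, smul_zero, sub_zero]; exact zero_mem _
    | add x y _ _ hx hy =>
      have e : f i (x + y) - μ • (x + y) = (f i x - μ • x) + (f i y - μ • y) := by
        rw [map_add, smul_add]; abel
      rw [e]; exact add_mem hx hy
  by_cases hB : ∃ i μ1 μ2, μ1 ≠ μ2 ∧ K < T i μ1 ∧ K < T i μ2
  · obtain ⟨i, μ1, μ2, hne, h1, h2⟩ := hB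
    have a1 := hT3 i μ1 h1 w
    have a2 := hT3 i μ2 h2 w
    have a3 : (μ2 - μ1) • w ∈ GG k f K := by
      have e : (μ2 - μ1) • w = (f i w - μ1 • w) + (-1 : k) • (f i w - μ2 • w) := by
        rw [sub_smul, neg_smul, one_smul]; abel
      rw [e]
      exact add_mem a1 (GG_smul k f K (-1) a2)
    have hne' : μ2 - μ1 ≠ 0 := sub_ne_zero.2 (Ne.symm hne)
    have e : w = (μ2 - μ1)⁻¹ • ((μ2 - μ1) • w) := by
      rw [smul_smul, inv_mul_cancel₀ hne', one_smul]
    rw [e]
    exact GG_smul k f K _ a3
  · have hscal : ∀ i, ∃ μs : k, ∀ v, f i v - μs • v ∈ K := by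
      intro i
      obtain ⟨μs, hμs⟩ : ∃ μs : k, ∀ μ, μ ≠ μs → T i μ ≤ K := by
        by_cases hex : ∃ μs, K < T i μs
        · obtain ⟨μs, hlt⟩ := hex
          refine ⟨μs, fun μ hμ => ?_⟩
          by_contra hnle
          exact hB ⟨i, μs, μ, Ne.symm hμ, hlt,
            lt_of_le_of_ne (hKT i μ) (fun heq => hnle heq.ge)⟩
        · refine ⟨0, fun μ _ => ?_⟩
          by_contra hnle
          exact hex ⟨μ, lt_of_le_of_ne (hKT i μ) (fun heq => hnle heq.ge)⟩
      refine ⟨μs, fun v => ?_⟩
      obtain ⟨F, c, hc, hsum⟩ := hdiag i v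
      have e : f i v - μs • v = ∑ μ ∈ F, (μ - μs) • c μ := by
        rw [← hsum, map_sum, Finset.smul_sum, ← Finset.sum_sub_distrib]
        refine Finset.sum_congr rfl fun μ _ => ?_
        rw [hc μ, sub_smul]
      rw [e]
      refine K.sum_mem fun μ _ => ?_
      by_cases hμ : μ = μs
      · rw [hμ, sub_self, zero_smul]; exact zero_mem _
      · refine K.smul_of_tower_mem _ (hμs μ hμ ?_)
        rw [hT, hc μ, sub_self]
        exact zero_mem _
    choose χ hχ using hscal
    have hw : KJE k f K w := ⟨χ, fun i => hχ i w⟩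
    exact AddSubmonoid.subset_closure hw

end Aux

/-- Let k be a field, R a commutative Noetherian k-algebra and V an R-module, viewed also as a k-vector
space through k → R. Let (f_i) be a family of pairwise commuting R-linear endomorphisms of V such
that each f_i, as a k-linear map, is diagonalizable over k (its eigenspaces span V), and such that
every vector of V lies in a finitely generated R-submodule stable under every f_i. Then the family
is simultaneously diagonalizable over k: the common eigenspaces ⨅_i Eig(f_i, χ(i)), over all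
assignments χ of eigenvalues in k, span V. The source states this for the endomorphisms given by an
abelian group acting R-linearly; the row takes any commuting family, which is what the argument
uses, and neither k algebraically closed nor of characteristic zero is needed. -/
theorem result
    (k : Type u) [Field k] (R : Type v) [CommRing R] [Algebra k R] [IsNoetherianRing R]
    (V : Type w) [AddCommGroup V] [Module R V] [Module k V] [IsScalarTower k R V]
    (ι : Type x) (f : ι → Module.End R V)
    (hcomm : ∀ i j, Commute (f i) (f j))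
    (hdiag : ∀ i, ⨆ μ : k, Module.End.eigenspace ((f i).restrictScalars k) μ = ⊤)
    (hfin : ∀ v : V, ∃ W : Submodule R V, v ∈ W ∧ W.FG ∧ ∀ i, ∀ w ∈ W, f i w ∈ W) :
    ⨆ χ : ι → k, ⨅ i, Module.End.eigenspace ((f i).restrictScalars k) (χ i) = ⊤ := by
  classical
  rw [eq_top_iff]
  rintro v -
  obtain ⟨W, hvW, hWfg, hWst⟩ := hfin v
  haveI : IsNoetherian R W := isNoetherian_of_fg_of_noetherian W hWfg
  obtain ⟨f', hf'⟩ : ∃ f' : ι → Module.End R W,
      ∀ i (w : W), ((f' i w : W) : V) = f i (w : V) :=
    ⟨fun i => (f i).restrict (hWst i), fun i w => rfl⟩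
  have hcomm' : ∀ i j, Commute (f' i) (f' j) := by
    intro i j
    show f' i * f' j = f' j * f' i
    apply LinearMap.ext
    intro w
    apply Subtype.ext
    simp only [Module.End.mul_apply, hf']
    exact LinearMap.congr_fun (hcomm i j).eq (w : V)
  have hdiag' : ∀ i (w : W), ∃ (F : Finset k) (c : k → W),
      (∀ μ, f' i (c μ) = μ • c μ) ∧ ∑ μ ∈ F, c μ = w := by
    intro i w
    have hw : (w : V) ∈ ⨆ μ : k, Module.End.eigenspace ((f i).restrictScalars k) μ := by
      rw [hdiag i]; exact Submodule.mem_top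
    obtain ⟨F, hF⟩ := Submodule.mem_iSup_iff_exists_finset.1 hw
    obtain ⟨c0, hsum⟩ := (Submodule.mem_iSup_finset_iff_exists_sum _ _).1 hF
    have hc0 : ∀ μ, f i (c0 μ : V) = μ • (c0 μ : V) := fun μ =>
      Module.End.mem_eigenspace_iff.1 (c0 μ).2
    have hmem : ∀ μ ∈ F, (c0 μ : V) ∈ W :=
      lemL k (f i) W (hWst i) F (fun μ => (c0 μ : V)) hc0 (by
        have h := w.2
        rw [← hsum] at h
        exact h)
    refine ⟨F, fun μ => if h : μ ∈ F then ⟨(c0 μ : V), hmem μ h⟩ else 0, ?_, ?_⟩
    · intro μ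
      apply Subtype.ext
      rw [hf']
      by_cases h : μ ∈ F
      · simp only [dif_pos h]
        exact hc0 μ
      · simp [dif_neg h]
    · apply Subtype.ext
      rw [Submodule.coe_sum, ← hsum]
      refine Finset.sum_congr rfl fun μ hμ => ?_
      simp only [dif_pos hμ]
  have key := main_noeth k f' hcomm' hdiag' ⊥ (fun i v hv => by
    rw [Submodule.mem_bot] at hv ⊢; rw [hv, map_zero]) ⟨v, hvW⟩
  have tr : ∀ w : W, w ∈ GG k f' ⊥ →
      (w : V) ∈ ⨆ χ : ι → k, ⨅ i, Module.End.eigenspace ((f i).restrictScalars k) (χ i) := by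
    intro w hw
    unfold GG at hw
    induction hw using AddSubmonoid.closure_induction with
    | mem u hu =>
      obtain ⟨χ, hχ⟩ := hu
      refine Submodule.mem_iSup_of_mem χ ((Submodule.mem_iInf _).2 fun i => ?_)
      rw [Module.End.mem_eigenspace_iff]
      have h1 := hχ i
      rw [Submodule.mem_bot, sub_eq_zero] at h1
      have h2 := congrArg Subtype.val h1
      rw [hf'] at h2
      exact h2
    | zero =>
      show ((0 : W) : V) ∈ _
      rw [Submodule.coe_zero]; exact zero_mem _
    | add x y _ _ hx hy => rw [Submodule.coe_add]; exact add_mem hx hy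
  exact tr ⟨v, hvW⟩ key

end Groth.Agent.S16159
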