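import Groth.Statements.S16160
import Mathlib
import Groth.Agent.S16159
import Groth.Agent.Lib.helper4.Comod

set_option autoImplicit false
universe u v w
open scoped TensorProduct
open MadRed

namespace Groth.Agent.S16160

section Aux

variable (k : Type u) [Field k] (A : Type v) [CommRing A] [Bialgebra k A]
  (R : Type w) [CommRing R] [Algebra k R]

theorem translAux_apply (g : A →ₐ[k] R) (a : A) :
    MadRed.translAux k A R g a =
      Algebra.TensorProduct.map g (AlgHom.id k A)
        (Algebra.TensorProduct.comm k A A (CoalgebraStruct.comul (R := k) a)) := by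
  unfold MadRed.translAux
  rfl

theorem translAux_eq (g : A →ₐ[k] R) (a : A) {ι : Type*} (repr : Coalgebra.Repr k a ι) :
    MadRed.translAux k A R g a = ∑ i ∈ repr.index, g (repr.right i) ⊗ₜ[k] repr.left i := by
  rw [translAux_apply, ← repr.eq, map_sum, map_sum]
  refine Finset.sum_congr rfl fun i _ => ?_
  simp only [Algebra.TensorProduct.comm_tmul, Algebra.TensorProduct.map_tmul, AlgHom.coe_id, id_eq]

theorem ptAct_tmul (g : A →ₐ[k] R) (r : R) (a : A) :
    MadRed.ptAct k A R g (r ⊗ₜ[k] a) = r • MadRed.translAux k A R g a := by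
  unfold MadRed.ptAct
  rw [Algebra.TensorProduct.lift_tmul, Algebra.TensorProduct.includeLeft_apply, Algebra.smul_def,
    Algebra.TensorProduct.algebraMap_apply]
  rfl

theorem ptAct_translAux (g h : A →ₐ[k] R) (a : A) :
    MadRed.ptAct k A R g (MadRed.translAux k A R h a) =
      MadRed.translAux k A R (WithConv.ofConv (WithConv.toConv g * WithConv.toConv h)) a := by
  classical
  obtain ⟨ρ, -⟩ : ∃ ρ : Coalgebra.Repr k a (A × A), ρ = ρ := ⟨Coalgebra.Repr.arbitrary k a, rfl⟩
  obtain ⟨ρ1, -⟩ : ∃ ρ1 : ∀ i, Coalgebra.Repr k (ρ.left i) (A × A), ρ1 = ρ1 :=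
    ⟨fun i => Coalgebra.Repr.arbitrary k (ρ.left i), rfl⟩
  obtain ⟨ρ2, -⟩ : ∃ ρ2 : ∀ i, Coalgebra.Repr k (ρ.right i) (A × A), ρ2 = ρ2 :=
    ⟨fun i => Coalgebra.Repr.arbitrary k (ρ.right i), rfl⟩
  obtain ⟨Φ, hΦ⟩ : ∃ Φ : A ⊗[k] (A ⊗[k] A) →ₗ[k] R ⊗[k] A,
      ∀ x y z : A, Φ (x ⊗ₜ[k] (y ⊗ₜ[k] z)) = (g y * h z) ⊗ₜ[k] x := by
    refine ⟨(TensorProduct.comm k A R).toLinearMap ∘ₗ
      TensorProduct.map LinearMap.id
        (LinearMap.mul' k R ∘ₗ TensorProduct.map g.toLinearMap h.toLinearMap), ?_⟩
    intro x y z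
    simp
  have hco := Coalgebra.sum_tmul_tmul_eq ρ ρ1 ρ2
  have hco' := congrArg Φ hco
  simp only [map_sum, hΦ] at hco'
  rw [translAux_eq k A R h a ρ, map_sum, translAux_eq k A R _ a ρ]
  have hL : ∀ i, MadRed.ptAct k A R g (h (ρ.right i) ⊗ₜ[k] ρ.left i) =
      ∑ j ∈ (ρ1 i).index, (g ((ρ1 i).right j) * h (ρ.right i)) ⊗ₜ[k] (ρ1 i).left j := by
    intro i
    rw [ptAct_tmul, translAux_eq k A R g _ (ρ1 i), Finset.smul_sum]
    refine Finset.sum_congr rfl fun j _ => ?_
    rw [TensorProduct.smul_tmul', smul_eq_mul, mul_comm]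
  have hR : ∀ i, (WithConv.ofConv (WithConv.toConv g * WithConv.toConv h)) (ρ.right i)
        ⊗ₜ[k] ρ.left i =
      ∑ j ∈ (ρ2 i).index, (g ((ρ2 i).left j) * h ((ρ2 i).right j)) ⊗ₜ[k] ρ.left i := by
    intro i
    have e : (WithConv.ofConv (WithConv.toConv g * WithConv.toConv h)) (ρ.right i) =
        ∑ j ∈ (ρ2 i).index, g ((ρ2 i).left j) * h ((ρ2 i).right j) := by
      show (Algebra.TensorProduct.lmul' k) ((Algebra.TensorProduct.map g h)
        (Bialgebra.comulAlgHom k A (ρ.right i))) = _
      rw [Bialgebra.comulAlgHom_apply, ← (ρ2 i).eq, map_sum, map_sum]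
      refine Finset.sum_congr rfl fun j _ => ?_
      rw [Algebra.TensorProduct.map_tmul, Algebra.TensorProduct.lmul'_apply_tmul]
    rw [e, TensorProduct.sum_tmul]
  simp only [hL, hR]
  exact hco'

theorem ptAct_comp (g h : A →ₐ[k] R) (x : R ⊗[k] A) :
    MadRed.ptAct k A R g (MadRed.ptAct k A R h x) =
      MadRed.ptAct k A R (WithConv.ofConv (WithConv.toConv g * WithConv.toConv h)) x := by
  induction x using TensorProduct.induction_on with
  | zero => simp only [map_zero]
  | tmul r a =>
    rw [ptAct_tmul, ptAct_tmul, map_smul, ptAct_translAux]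
  | add x y hx hy => simp only [map_add, hx, hy]

theorem ptAct_commute (g h : A →ₐ[k] R)
    (hgh : WithConv.toConv g * WithConv.toConv h = WithConv.toConv h * WithConv.toConv g) :
    Commute (MadRed.ptAct k A R g).toLinearMap (MadRed.ptAct k A R h).toLinearMap := by
  show _ * _ = _ * _
  apply LinearMap.ext
  intro x
  show MadRed.ptAct k A R g (MadRed.ptAct k A R h x) =
    MadRed.ptAct k A R h (MadRed.ptAct k A R g x)
  rw [ptAct_comp, ptAct_comp, hgh]

/-- the `R`-span of `1 ⊗ s` -/
def RS (s : Finset A) : Submodule R (R ⊗[k] A) :=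
  Submodule.span R ((fun w : A => (1 : R) ⊗ₜ[k] w) '' (s : Set A))

theorem one_tmul_mem (s : Finset A) {w : A} (hw : w ∈ Submodule.span k (s : Set A)) :
    (1 : R) ⊗ₜ[k] w ∈ RS k A R s := by
  induction hw using Submodule.span_induction with
  | mem x hx => exact Submodule.subset_span ⟨x, hx, rfl⟩
  | zero => rw [TensorProduct.tmul_zero]; exact zero_mem _
  | add x y _ _ hx hy => rw [TensorProduct.tmul_add]; exact add_mem hx hy
  | smul c x _ hx =>
    rw [TensorProduct.tmul_smul]
    exact (RS k A R s).smul_of_tower_mem c hx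

theorem stab_aux (g : A →ₐ[k] R) (s : Finset A) (z : (Submodule.span k (s : Set A)) ⊗[k] A) :
    Algebra.TensorProduct.map g (AlgHom.id k A)
        (Algebra.TensorProduct.comm k A A
          ((Submodule.span k (s : Set A)).subtype.rTensor A z)) ∈ RS k A R s := by
  induction z using TensorProduct.induction_on with
  | zero => simp only [map_zero]; exact zero_mem _
  | tmul w y =>
    simp only [LinearMap.rTensor_tmul, Submodule.subtype_apply, Algebra.TensorProduct.comm_tmul,
      Algebra.TensorProduct.map_tmul, AlgHom.coe_id, id_eq]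
    have e : g y ⊗ₜ[k] (w : A) = g y • ((1 : R) ⊗ₜ[k] (w : A)) := by
      rw [TensorProduct.smul_tmul', smul_eq_mul, mul_one]
    rw [e]
    exact Submodule.smul_mem _ _ (one_tmul_mem k A R s w.2)
  | add x y hx hy => simp only [map_add]; exact add_mem hx hy

theorem loc_fin (v : R ⊗[k] A) :
    ∃ W : Submodule R (R ⊗[k] A), v ∈ W ∧ W.FG ∧
      ∀ g : A →ₐ[k] R, ∀ w ∈ W, MadRed.ptAct k A R g w ∈ W := by
  induction v using TensorProduct.induction_on with
  | zero =>
    exact ⟨⊥, zero_mem _, Submodule.fg_bot, fun g w hw => by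
      rw [Submodule.mem_bot] at hw; rw [hw, map_zero]; exact zero_mem _⟩
  | tmul r a =>
    obtain ⟨W, hWfin, haW, hWsub⟩ :=
      Groth.Agent.Lib.helper4.h4_exists_finite_subcomod (k := k) (C := A) (V := A) a
    obtain ⟨s, rfl⟩ := Module.Finite.iff_fg.1 hWfin
    refine ⟨RS k A R s, ?_, ?_, ?_⟩
    · have e : r ⊗ₜ[k] a = r • ((1 : R) ⊗ₜ[k] a) := by
        rw [TensorProduct.smul_tmul', smul_eq_mul, mul_one]
      rw [e]
      exact Submodule.smul_mem _ _ (one_tmul_mem k A R s haW)
    · exact Submodule.fg_span ((s.finite_toSet).image _)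
    · intro g w hw
      unfold RS at hw
      induction hw using Submodule.span_induction with
      | mem x hx =>
        obtain ⟨y, hy, rfl⟩ := hx
        show MadRed.ptAct k A R g ((1 : R) ⊗ₜ[k] y) ∈ RS k A R s
        rw [ptAct_tmul, one_smul, translAux_apply]
        have hyW : y ∈ Submodule.span k (s : Set A) := Submodule.subset_span hy
        obtain ⟨z, hz⟩ := LinearMap.mem_range.1 (hWsub y hyW)
        have h1 := stab_aux k A R g s z
        rw [hz] at h1
        exact h1
      | zero => rw [map_zero]; exact zero_mem _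
      | add x y _ _ hx hy => rw [map_add]; exact add_mem hx hy
      | smul c x _ hx => rw [map_smul]; exact Submodule.smul_mem _ _ hx
  | add x y hx hy =>
    obtain ⟨W1, h1, hfg1, hst1⟩ := hx
    obtain ⟨W2, h2, hfg2, hst2⟩ := hy
    refine ⟨W1 ⊔ W2, add_mem (Submodule.mem_sup_left h1) (Submodule.mem_sup_right h2),
      hfg1.sup hfg2, ?_⟩
    intro g w hw
    obtain ⟨a, ha, b, hb, rfl⟩ := Submodule.mem_sup.1 hw
    rw [map_add]
    exact add_mem (Submodule.mem_sup_left (hst1 g a ha)) (Submodule.mem_sup_right (hst2 g b hb))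

end Aux

/-- Let k be a field, G = Spec A an affine k-group with A a commutative Hopf algebra over k, and R a
commutative Noetherian k-algebra, so that R ⊗ A is the coordinate ring of the base change G_R and
the k-algebra maps A → R are its R-valued points. Let H be a set of R-valued points which pairwise
commute for the convolution product of G(R) (the case of an abelian subgroup of G(R)). If every g in
H is diagonalizable over k on R ⊗ A, meaning that the eigenspaces of right translation by g, for
eigenvalues in k, span R ⊗ A, then H is simultaneously diagonalizable over k on R ⊗ A: the common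
eigenspaces of the right translations by all g in H span R ⊗ A. The standing assumptions of the
source at this point (k algebraically closed of characteristic zero, G reductive) are not used. -/
theorem result (k : Type u) [Field k]
    (A : Type v) [CommRing A] [HopfAlgebra k A] (R : Type w) [CommRing R] [Algebra k R]
    [IsNoetherianRing R] (H : Set (A →ₐ[k] R))
    (hcomm : ∀ g ∈ H, ∀ h ∈ H,
      WithConv.toConv g * WithConv.toConv h = WithConv.toConv h * WithConv.toConv g)
    (hdiag : ∀ g ∈ H, ⨆ μ : k,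
      Module.End.eigenspace (((MadRed.ptAct k A R g).toLinearMap).restrictScalars k) μ = ⊤) :
    ⨆ χ : H → k, ⨅ g : H,
      Module.End.eigenspace (((MadRed.ptAct k A R g.1).toLinearMap).restrictScalars k) (χ g) = ⊤ := by
  have key := Groth.Agent.S16159.result k R (R ⊗[k] A) (↥H)
    (fun g : ↥H => (MadRed.ptAct k A R g.1).toLinearMap)
    (fun g h => ptAct_commute k A R g.1 h.1 (hcomm g.1 g.2 h.1 h.2))
    (fun g => hdiag g.1 g.2)
    (fun v => by
      obtain ⟨W, hv, hfg, hst⟩ := loc_fin k A R v
      exact ⟨W, hv, hfg, fun g w hw => hst g.1 w hw⟩)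
  exact key

end Groth.Agent.S16160
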