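import Groth.Statements.S16162
import Mathlib

set_option autoImplicit false
open CategoryTheory MonoidalCategory CartesianMonoidalCategory MonObj GrpObj AlgebraicGeometry
universe u
open MadRed

namespace Groth.Agent.S16162

section Aux

theorem comp_pt {S : Scheme.{u}} {A B C : Over S} (ψ : A ⟶ B) (χ : B ⟶ C) (w : A.left) :
    (ψ ≫ χ).left.base w = χ.left.base (ψ.left.base w) := rfl

theorem id_pt {S : Scheme.{u}} {A : Over S} (w : A.left) : (𝟙 A : A ⟶ A).left.base w = w := rfl

end Aux

/-- Let S be a scheme, G a group scheme over S, and X an S-scheme with an action of G making X → S a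
principal G-bundle (a torsor in the representable fppf sense: X → S surjective, flat and locally of
finite presentation, and G ×_S X → X ×_S X, (g, x) ↦ (g·x, x), an isomorphism). Let P be a closed
subset of X stable under the action: the action map sends into P every point of G ×_S X whose second
projection lies in P. Then the image of P in S is closed, and P is the full preimage of its image.
(The source works with varieties over the complex numbers and an affine algebraic group; the
assertion holds over any base. Its second assertion, that P → image is again a principal bundle for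
the induced reduced structures, then comes from base change and is not part of this row.) -/
theorem result {S : Scheme.{u}}
    {G X : Over S} [GrpObj G] (a : AlgGrp.Action G X) (ha : RedSub.IsTorsor a)
    (P : Set X.left) (hP : IsClosed P)
    (hstab : ∀ w : (G ⊗ X).left, (snd G X).left.base w ∈ P → a.act.left.base w ∈ P) :
    IsClosed (X.hom.base '' P) ∧ X.hom.base ⁻¹' (X.hom.base '' P) = P := by
  obtain ⟨hsurj, hflat, hlfp, hiso⟩ := ha
  haveI := hflat
  haveI := hlfp
  have hopen : IsOpenMap X.hom.base := X.hom.isOpenMap
  have hcont : Continuous X.hom.base := X.hom.continuous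
  have hsurj' : Function.Surjective X.hom.base := hsurj.surj
  have hquot : Topology.IsQuotientMap X.hom.base := hopen.isQuotientMap hcont hsurj'
  have hpre : X.hom.base ⁻¹' (X.hom.base '' P) = P := by
    apply Set.Subset.antisymm
    · rintro x ⟨p, hp, hpx⟩
      obtain ⟨z, hz1, hz2⟩ : ∃ z : (X ⊗ X).left,
          (fst X X).left.base z = x ∧ (snd X X).left.base z = p :=
        Scheme.Pullback.exists_preimage_pullback x p hpx.symm
      obtain ⟨φ, hφ⟩ : ∃ φ : G ⊗ X ⟶ X ⊗ X, φ = lift a.act (snd G X) := ⟨_, rfl⟩
      haveI : IsIso φ := by rw [hφ]; exact hiso
      have hφ1 : φ ≫ fst X X = a.act := by rw [hφ]; exact lift_fst _ _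
      have hφ2 : φ ≫ snd X X = snd G X := by rw [hφ]; exact lift_snd _ _
      have h1 : inv φ ≫ φ = 𝟙 _ := IsIso.inv_hom_id φ
      obtain ⟨w, hw0⟩ : ∃ w : (G ⊗ X).left, w = (inv φ).left.base z := ⟨_, rfl⟩
      have hw : φ.left.base w = z := by
        have e1 := comp_pt (inv φ) φ z
        rw [h1] at e1
        rw [hw0]
        exact e1.symm.trans (id_pt z)
      have hfst : a.act.left.base w = x := by
        have e2 := comp_pt φ (fst X X) w
        rw [hφ1, hw] at e2
        exact e2.trans hz1
      have hsnd : (snd G X).left.base w = p := by
        have e3 := comp_pt φ (snd X X) w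
        rw [hφ2, hw] at e3
        exact e3.trans hz2
      have h5 := hstab w (by rw [hsnd]; exact hp)
      rw [hfst] at h5
      exact h5
    · exact Set.subset_preimage_image _ _
  exact ⟨hquot.isClosed_preimage.1 (by rw [hpre]; exact hP), hpre⟩

end Groth.Agent.S16162
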