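import Groth.Statements.S16170
import Mathlib
-- import your own Groth.Agent.* helpers here

set_option autoImplicit false
open Neron

namespace Groth.Agent.S16170

/-- Let M and N be symmetric positive-semidefinite integer matrices on the same finite index set whose
sum M + N is positive definite, and let χ₁, χ₂ be integer matrices with χ₁ + χ₂ = 1 and M χ₂ = N χ₁.
Then χ₁ and χ₂ are idempotent. (In the intended application M = Pᵀ Ψ₁ P and N = Qᵀ Ψ₂ Q for
surjective integer matrices P, Q and positive-definite Ψ₁, Ψ₂.) -/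
theorem result
    {ι : Type} [Fintype ι] [DecidableEq ι]
    (M N χ₁ χ₂ : Matrix ι ι ℤ) (hM : M.IsSymm) (hN : N.IsSymm)
    (hMpos : ∀ v : ι → ℤ, 0 ≤ v ⬝ᵥ M.mulVec v) (hNpos : ∀ v : ι → ℤ, 0 ≤ v ⬝ᵥ N.mulVec v)
    (hpos : ∀ v : ι → ℤ, v ≠ 0 → 0 < v ⬝ᵥ (M + N).mulVec v)
    (hsum : χ₁ + χ₂ = 1) (hrel : M * χ₂ = N * χ₁) :
    χ₁ * χ₁ = χ₁ ∧ χ₂ * χ₂ = χ₂ := by
  have hχ₂ : χ₂ = 1 - χ₁ := by rw [← hsum, add_sub_cancel_left]
  subst hχ₂
  obtain ⟨S, hS⟩ : ∃ S, S = M + N := ⟨_, rfl⟩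
  have hSsymm : S.transpose = S := by rw [hS, Matrix.transpose_add, hM.eq, hN.eq]
  have h1 : S * χ₁ = M := by
    rw [hS, Matrix.add_mul, ← hrel, ← Matrix.mul_add]; simp
  have h2 : S * (1 - χ₁) = N := by
    rw [hS, Matrix.add_mul, hrel, ← Matrix.mul_add]; simp
  have h3 : χ₁.transpose * S = S * χ₁ := by
    have : (S * χ₁).transpose = S * χ₁ := by rw [h1, hM.eq]
    rw [Matrix.transpose_mul, hSsymm] at this
    exact this
  have h4 : (1 - χ₁).transpose * S = S * (1 - χ₁) := by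
    have : (S * (1 - χ₁)).transpose = S * (1 - χ₁) := by rw [h2, hN.eq]
    rw [Matrix.transpose_mul, hSsymm] at this
    exact this
  obtain ⟨E, hE⟩ : ∃ E, E = χ₁ * (1 - χ₁) := ⟨_, rfl⟩
  have hE' : E = (1 - χ₁) * χ₁ := by rw [hE]; noncomm_ring
  have hES : E.transpose * S = S * E := by
    calc E.transpose * S = (1 - χ₁).transpose * (χ₁.transpose * S) := by
          rw [hE, Matrix.transpose_mul, Matrix.mul_assoc]
      _ = (1 - χ₁).transpose * S * χ₁ := by rw [h3, Matrix.mul_assoc]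
      _ = S * ((1 - χ₁) * χ₁) := by rw [h4, Matrix.mul_assoc]
      _ = S * E := by rw [← hE']
  have L1 : ∀ (C A D : Matrix ι ι ℤ) (v w : ι → ℤ),
      (C.mulVec v) ⬝ᵥ A.mulVec (D.mulVec w) = v ⬝ᵥ (C.transpose * A * D).mulVec w := by
    intro C A D v w
    rw [← Matrix.mulVec_mulVec, ← Matrix.mulVec_mulVec, Matrix.dotProduct_mulVec v,
      Matrix.vecMul_transpose]
  have hQnn : ∀ v : ι → ℤ, 0 ≤ v ⬝ᵥ S.mulVec v := by
    intro v
    rw [hS, Matrix.add_mulVec, dotProduct_add]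
    exact add_nonneg (hMpos v) (hNpos v)
  have hQdef : ∀ v : ι → ℤ, v ⬝ᵥ S.mulVec v ≤ 0 → v = 0 := by
    intro v h
    by_contra hv
    have := hpos v hv
    rw [← hS] at this
    linarith
  have e1 : χ₁.transpose * N = S * (χ₁ * (1 - χ₁)) := by
    rw [← h2, ← Matrix.mul_assoc χ₁.transpose S (1 - χ₁), h3, Matrix.mul_assoc S χ₁ (1 - χ₁)]
  have e2 : (1 - χ₁).transpose * M = S * ((1 - χ₁) * χ₁) := by
    rw [← h1, ← Matrix.mul_assoc (1 - χ₁).transpose S χ₁, h4, Matrix.mul_assoc S (1 - χ₁) χ₁]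
  have hid : S = χ₁.transpose * S * χ₁ + (1 - χ₁).transpose * S * (1 - χ₁) +
      (χ₁.transpose * N * χ₁ + (1 - χ₁).transpose * M * (1 - χ₁)) +
      (χ₁.transpose * N * χ₁ + (1 - χ₁).transpose * M * (1 - χ₁)) := by
    rw [h3, h4, e1, e2]
    noncomm_ring
  have hstar : ∀ v : ι → ℤ, (χ₁.mulVec v) ⬝ᵥ S.mulVec (χ₁.mulVec v) +
      ((1 - χ₁).mulVec v) ⬝ᵥ S.mulVec ((1 - χ₁).mulVec v) ≤ v ⬝ᵥ S.mulVec v := by
    intro v
    have h := congrArg (fun A : Matrix ι ι ℤ => v ⬝ᵥ A.mulVec v) hid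
    simp only [Matrix.add_mulVec, dotProduct_add, ← L1] at h
    have hn1 := hNpos (χ₁.mulVec v)
    have hn2 := hMpos ((1 - χ₁).mulVec v)
    linarith
  have hhalf : ∀ v : ι → ℤ,
      2 * ((E.mulVec v) ⬝ᵥ S.mulVec (E.mulVec v)) ≤ v ⬝ᵥ S.mulVec v := by
    intro v
    have a1 := hstar v
    have a2 := hstar (χ₁.mulVec v)
    have a3 := hstar ((1 - χ₁).mulVec v)
    have hv1 : (1 - χ₁).mulVec (χ₁.mulVec v) = E.mulVec v := by
      rw [Matrix.mulVec_mulVec, ← hE']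
    have hv2 : χ₁.mulVec ((1 - χ₁).mulVec v) = E.mulVec v := by
      rw [Matrix.mulVec_mulVec, ← hE]
    rw [hv1] at a2
    rw [hv2] at a3
    have b1 := hQnn (χ₁.mulVec (χ₁.mulVec v))
    have b2 := hQnn ((1 - χ₁).mulVec ((1 - χ₁).mulVec v))
    linarith
  have hpow : ∀ (j : ℕ) (v : ι → ℤ),
      2 ^ j * (((E ^ j).mulVec v) ⬝ᵥ S.mulVec ((E ^ j).mulVec v)) ≤ v ⬝ᵥ S.mulVec v := by
    intro j
    induction j with
    | zero => intro v; simp
    | succ j ih =>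
      intro v
      have h1' := ih (E.mulVec v)
      rw [Matrix.mulVec_mulVec, ← pow_succ] at h1'
      have h2' := hhalf v
      rw [pow_succ (2 : ℤ) j]
      linarith
  have hnil : ∀ v : ι → ℤ, ∃ j : ℕ, (E ^ j).mulVec v = 0 := by
    intro v
    obtain ⟨n, hn⟩ : ∃ n : ℕ, v ⬝ᵥ S.mulVec v = n :=
      ⟨_, (Int.toNat_of_nonneg (hQnn v)).symm⟩
    refine ⟨n, ?_⟩
    apply hQdef
    have h := hpow n v
    rw [hn] at h
    have hlt : (n : ℤ) < 2 ^ n := by exact_mod_cast Nat.lt_two_pow_self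
    by_contra hX
    push_neg at hX
    have h5 : (2 : ℤ) ^ n ≤ 2 ^ n * (((E ^ n).mulVec v) ⬝ᵥ S.mulVec ((E ^ n).mulVec v)) :=
      le_mul_of_one_le_right (by positivity) (by omega)
    linarith
  have hdesc : ∀ w : ι → ℤ, (E ^ 2).mulVec w = 0 → E.mulVec w = 0 := by
    intro w hw
    apply hQdef
    have : (E.mulVec w) ⬝ᵥ S.mulVec (E.mulVec w) = 0 := by
      rw [L1, hES, Matrix.mul_assoc, ← pow_two, ← Matrix.mulVec_mulVec, hw, Matrix.mulVec_zero,
        dotProduct_zero]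
    exact this.le
  have hE0 : ∀ v : ι → ℤ, E.mulVec v = 0 := by
    intro v
    obtain ⟨j, hj⟩ := hnil v
    have hdown : ∀ J : ℕ, (E ^ (J + 1)).mulVec v = 0 → E.mulVec v = 0 := by
      intro J
      induction J with
      | zero => intro h; simpa using h
      | succ J ih =>
        intro h
        apply ih
        have h' : (E ^ 2).mulVec ((E ^ J).mulVec v) = 0 := by
          rw [Matrix.mulVec_mulVec, ← pow_add, show 2 + J = J + 1 + 1 by omega]
          exact h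
        have h'' := hdesc _ h'
        rwa [Matrix.mulVec_mulVec, ← pow_succ'] at h''
    apply hdown j
    rw [pow_succ', ← Matrix.mulVec_mulVec, hj, Matrix.mulVec_zero]
  have hEzero : E = 0 := by
    apply Matrix.toLin'.injective
    apply LinearMap.ext
    intro v
    rw [Matrix.toLin'_apply, hE0, map_zero, LinearMap.zero_apply]
  have hidem : χ₁ * χ₁ = χ₁ := by
    have h := hE
    rw [hEzero, Matrix.mul_sub, Matrix.mul_one] at h
    exact (sub_eq_zero.mp h.symm).symm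
  refine ⟨hidem, ?_⟩
  have h5 : (1 - χ₁) * (1 - χ₁) = 1 - χ₁ - (χ₁ - χ₁ * χ₁) := by noncomm_ring
  rw [h5, hidem, sub_self, sub_zero]

end Groth.Agent.S16170
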