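import Groth.Statements.S16174
import Mathlib
-- import your own Groth.Agent.* helpers here

set_option autoImplicit false
universe u
open Hensel

namespace Groth.Agent.S16174

theorem helper8_henselian_quotient (V : Type u) [CommRing V] [HenselianLocalRing V] (p : Ideal V)
    (hp : p ≠ ⊤) : HenselianLocalRing (V ⧸ p) := by
  haveI : Nontrivial (V ⧸ p) := Ideal.Quotient.nontrivial_iff.mpr hp
  haveI : IsLocalRing (V ⧸ p) :=
    IsLocalRing.of_surjective' (Ideal.Quotient.mk p) Ideal.Quotient.mk_surjective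
  have hpm : p ≤ IsLocalRing.maximalIdeal V := IsLocalRing.le_maximalIdeal hp
  have hunit : ∀ x : V, IsUnit (Ideal.Quotient.mk p x) → IsUnit x := by
    intro x hx
    by_contra hnx
    have hxm : x ∈ IsLocalRing.maximalIdeal V := (IsLocalRing.mem_maximalIdeal x).mpr hnx
    obtain ⟨y', hy'⟩ := hx.exists_right_inv
    obtain ⟨y, rfl⟩ := Ideal.Quotient.mk_surjective y'
    rw [← map_mul, ← map_one (Ideal.Quotient.mk p), Ideal.Quotient.eq] at hy'
    have h1 : x * y - 1 ∈ IsLocalRing.maximalIdeal V := hpm hy'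
    have h2 : (1 : V) ∈ IsLocalRing.maximalIdeal V := by
      have := Ideal.sub_mem _ (Ideal.mul_mem_right y _ hxm) h1
      rwa [sub_sub_cancel] at this
    exact (Ideal.ne_top_iff_one _).mp (IsLocalRing.maximalIdeal.isMaximal V).ne_top h2
  have hnonunit : ∀ x : V, x ∈ IsLocalRing.maximalIdeal V →
      Ideal.Quotient.mk p x ∈ IsLocalRing.maximalIdeal (V ⧸ p) := by
    intro x hx
    rw [IsLocalRing.mem_maximalIdeal, mem_nonunits_iff]
    intro hu
    exact (mem_nonunits_iff.mp ((IsLocalRing.mem_maximalIdeal x).mp hx)) (hunit x hu)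
  refine { is_henselian := ?_ }
  intro f hf a₀ h₁ h₂
  obtain ⟨A₀, rfl⟩ := Ideal.Quotient.mk_surjective a₀
  obtain ⟨F, hFmap, -, hFmonic⟩ := Polynomial.lifts_and_natDegree_eq_and_monic
    ((Polynomial.mem_lifts _).mpr
      (Polynomial.map_surjective _ Ideal.Quotient.mk_surjective f)) hf
  subst hFmap
  rw [Polynomial.eval_map, Polynomial.eval₂_at_apply] at h₁
  rw [Polynomial.derivative_map, Polynomial.eval_map, Polynomial.eval₂_at_apply] at h₂
  have hF1 : Polynomial.eval A₀ F ∈ IsLocalRing.maximalIdeal V := by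
    rw [IsLocalRing.mem_maximalIdeal, mem_nonunits_iff]
    intro hu
    exact (mem_nonunits_iff.mp ((IsLocalRing.mem_maximalIdeal _).mp h₁))
      (hu.map (Ideal.Quotient.mk p))
  have hF2 := hunit _ h₂
  obtain ⟨a, ha, haa⟩ := HenselianLocalRing.is_henselian F hFmonic A₀ hF1 hF2
  refine ⟨Ideal.Quotient.mk p a, ?_, ?_⟩
  · rw [Polynomial.IsRoot.def, Polynomial.eval_map, Polynomial.eval₂_at_apply, ha.eq_zero, map_zero]
  · rw [← map_sub]
    exact hnonunit _ haa

theorem helper8_henselian_localization (V : Type u) [CommRing V] [IsDomain V] [ValuationRing V]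
    [HenselianLocalRing V] (p : Ideal V) [p.IsPrime] :
    HenselianLocalRing (Localization.AtPrime p) := by
  classical
  have hH2 := ((HenselianLocalRing.TFAE V).out 0 1).mp ‹HenselianLocalRing V›
  have hpm : p ≤ IsLocalRing.maximalIdeal V :=
    IsLocalRing.le_maximalIdeal (Ideal.IsPrime.ne_top ‹p.IsPrime›)
  have KL : ∀ x ∈ IsLocalRing.maximalIdeal (Localization.AtPrime p),
      ∃ v ∈ p, algebraMap V (Localization.AtPrime p) v = x := by
    intro x hx
    obtain ⟨a, s, rfl⟩ := IsLocalization.exists_mk'_eq p.primeCompl x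
    have ha : a ∈ p := (IsLocalization.AtPrime.mk'_mem_maximal_iff (Localization.AtPrime p) p a s).mp hx
    obtain ⟨c, hc | hc⟩ := ValuationRing.cond a (s : V)
    · exfalso
      exact s.2 (by rw [← hc]; exact Ideal.mul_mem_right _ _ ha)
    · refine ⟨c, ?_, ?_⟩
      · have h1 : (s : V) * c ∈ p := by rw [hc]; exact ha
        exact (Ideal.IsPrime.mem_or_mem ‹p.IsPrime› h1).resolve_left s.2
      · rw [eq_comm, IsLocalization.mk'_eq_iff_eq_mul, ← map_mul, mul_comm, hc]
  refine { is_henselian := ?_ }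
  intro f _ a₀ h₁ h₂
  set g := Polynomial.taylor a₀ f with hg
  have hc0 : g.coeff 0 ∈ IsLocalRing.maximalIdeal (Localization.AtPrime p) := by
    rw [hg, Polynomial.taylor_coeff_zero]; exact h₁
  have hc1 : IsUnit (g.coeff 1) := by
    rw [hg, Polynomial.taylor_coeff_one]; exact h₂
  obtain ⟨w, hw⟩ := hc1.exists_right_inv
  have hn1 : 1 ≤ g.natDegree := Polynomial.le_natDegree_of_ne_zero hc1.ne_zero
  obtain ⟨N, hN⟩ : ∃ N, g.natDegree = N + 1 := ⟨g.natDegree - 1, by omega⟩
  set u := g.coeff 0 * w with hu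
  have hum : u ∈ IsLocalRing.maximalIdeal (Localization.AtPrime p) := Ideal.mul_mem_right _ _ hc0
  have hc0u : g.coeff 0 = g.coeff 1 * u := by
    rw [hu]
    calc g.coeff 0 = g.coeff 0 * (g.coeff 1 * w) := by rw [hw, mul_one]
      _ = g.coeff 1 * (g.coeff 0 * w) := by ring
  have hd : ∀ i : ℕ, g.coeff (i + 2) * u ^ (i + 1) * w ∈
      IsLocalRing.maximalIdeal (Localization.AtPrime p) := by
    intro i
    have : g.coeff (i + 2) * u ^ (i + 1) * w = u * (g.coeff (i + 2) * u ^ i * w) := by ring
    rw [this]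
    exact Ideal.mul_mem_right _ _ hum
  choose δ hδp hδ using fun i => KL _ (hd i)
  let Q : Polynomial V := ∑ i ∈ Finset.range N, Polynomial.C (δ i) * Polynomial.X ^ (N - 1 - i)
  let Hs : Polynomial V := Polynomial.X ^ (N + 1) + (Polynomial.X ^ N + Q)
  have hQdeg : (Polynomial.X ^ N + Q).degree < ((N + 1 : ℕ) : WithBot ℕ) := by
    rw [← Polynomial.mem_degreeLT]
    apply Submodule.add_mem
    · rw [Polynomial.mem_degreeLT]
      exact lt_of_le_of_lt (Polynomial.degree_X_pow_le N) (by exact_mod_cast Nat.lt_succ_self N)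
    · apply Submodule.sum_mem
      intro i hi
      rw [Polynomial.mem_degreeLT]
      refine lt_of_le_of_lt (Polynomial.degree_C_mul_X_pow_le _ _) ?_
      exact_mod_cast (by omega : N - 1 - i < N + 1)
  have hHmonic : Hs.Monic := Polynomial.monic_X_pow_add hQdeg
  have hres : Polynomial.map (IsLocalRing.residue V) Hs =
      Polynomial.X ^ (N + 1) + Polynomial.X ^ N := by
    have hQ0 : Polynomial.map (IsLocalRing.residue V) Q = 0 := by
      rw [Polynomial.map_sum]
      apply Finset.sum_eq_zero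
      intro i _
      rw [Polynomial.map_mul, Polynomial.map_C,
        (IsLocalRing.residue_eq_zero_iff _).mpr (hpm (hδp i)), Polynomial.C_0, zero_mul]
    simp only [Hs, Polynomial.map_add, Polynomial.map_pow, Polynomial.map_X, hQ0, add_zero]
  have hroot : Polynomial.aeval (-1 : IsLocalRing.ResidueField V) Hs = 0 := by
    rw [Polynomial.aeval_def, Polynomial.eval₂_eq_eval_map, IsLocalRing.ResidueField.algebraMap_eq,
      hres, Polynomial.eval_add, Polynomial.eval_pow, Polynomial.eval_pow, Polynomial.eval_X,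
      pow_succ]
    ring
  have hder : Polynomial.aeval (-1 : IsLocalRing.ResidueField V) (Polynomial.derivative Hs) ≠ 0 := by
    rw [Polynomial.aeval_def, Polynomial.eval₂_eq_eval_map, IsLocalRing.ResidueField.algebraMap_eq,
      ← Polynomial.derivative_map, hres]
    have hval : Polynomial.eval (-1 : IsLocalRing.ResidueField V)
        (Polynomial.derivative (Polynomial.X ^ (N + 1) + Polynomial.X ^ N)) = (-1) ^ N := by
      rw [Polynomial.derivative_add, Polynomial.derivative_X_pow, Polynomial.derivative_X_pow]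
      simp only [Polynomial.eval_add, Polynomial.eval_mul, Polynomial.eval_C, Polynomial.eval_pow,
        Polynomial.eval_X, Nat.add_sub_cancel]
      cases N with
      | zero => simp
      | succ M =>
        simp only [Nat.add_sub_cancel]
        push_cast
        ring
    rw [hval]
    exact pow_ne_zero N (neg_ne_zero.mpr one_ne_zero)
  obtain ⟨z, hzroot, hzres⟩ := hH2 Hs hHmonic (-1) hroot hder
  have hz : IsUnit z := by
    by_contra h
    have h1 := (IsLocalRing.residue_eq_zero_iff z).mpr ((IsLocalRing.mem_maximalIdeal z).mpr h)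
    rw [hzres] at h1
    exact (neg_ne_zero.mpr one_ne_zero) h1
  have hζ : IsUnit (algebraMap V (Localization.AtPrime p) z) := hz.map _
  obtain ⟨y, hy⟩ := hζ.exists_right_inv
  set ζ := algebraMap V (Localization.AtPrime p) z with hζdef
  have hterm : ∀ i, i ≤ N + 1 → (u * y) ^ i * ζ ^ (N + 1) = u ^ i * ζ ^ (N + 1 - i) := by
    intro i hi
    have h1 : ζ ^ (N + 1) = ζ ^ i * ζ ^ (N + 1 - i) := by
      rw [← pow_add]
      congr 1
      omega
    rw [h1, mul_pow]
    calc u ^ i * y ^ i * (ζ ^ i * ζ ^ (N + 1 - i)) = u ^ i * (ζ * y) ^ i * ζ ^ (N + 1 - i) := by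
          rw [mul_pow]; ring
      _ = u ^ i * ζ ^ (N + 1 - i) := by rw [hy, one_pow, mul_one]
  have hevalH : Polynomial.eval ζ (Polynomial.map (algebraMap V (Localization.AtPrime p)) Hs) =
      ζ ^ (N + 1) + (ζ ^ N + ∑ i ∈ Finset.range N,
        (g.coeff (i + 2) * u ^ (i + 1) * w) * ζ ^ (N - 1 - i)) := by
    simp only [Hs, Q, Polynomial.eval_map, Polynomial.eval₂_add, Polynomial.eval₂_pow,
      Polynomial.eval₂_X, Polynomial.eval₂_finsetSum, Polynomial.eval₂_mul, Polynomial.eval₂_C, hδ]
  have hkey : Polynomial.eval (u * y) g * ζ ^ (N + 1) =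
      g.coeff 0 * Polynomial.eval ζ (Polynomial.map (algebraMap V (Localization.AtPrime p)) Hs) := by
    rw [hevalH, Polynomial.eval_eq_sum_range, hN, Finset.sum_mul, Finset.sum_range_succ',
      Finset.sum_range_succ']
    have h2 : ∀ i ∈ Finset.range N, g.coeff (i + 1 + 1) * (u * y) ^ (i + 1 + 1) * ζ ^ (N + 1) =
        g.coeff 0 * ((g.coeff (i + 2) * u ^ (i + 1) * w) * ζ ^ (N - 1 - i)) := by
      intro i hi
      rw [Finset.mem_range] at hi
      rw [mul_assoc, hterm (i + 1 + 1) (by omega)]
      have h3 : N + 1 - (i + 1 + 1) = N - 1 - i := by omega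
      rw [h3]
      have h4 : g.coeff 0 * (g.coeff (i + 2) * u ^ (i + 1) * w * ζ ^ (N - 1 - i)) =
          g.coeff (i + 2) * u ^ (i + 1) * (g.coeff 0) * w * ζ ^ (N - 1 - i) := by ring
      rw [h4, hc0u]
      have h5 : g.coeff (i + 2) * u ^ (i + 1) * (g.coeff 1 * u) * w * ζ ^ (N - 1 - i) =
          g.coeff (i + 2) * u ^ (i + 1 + 1) * (g.coeff 1 * w) * ζ ^ (N - 1 - i) := by ring
      rw [h5, hw, mul_one, show i + 1 + 1 = i + 2 from rfl]
      ring
    rw [Finset.sum_congr rfl h2, ← Finset.mul_sum, mul_assoc (g.coeff (0 + 1)),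
      hterm (0 + 1) (by omega), mul_assoc (g.coeff 0), hterm 0 (by omega)]
    have h6 : N + 1 - (0 + 1) = N := by omega
    rw [h6, Nat.sub_zero, pow_zero, one_mul, zero_add, pow_one]
    conv_lhs => rw [← mul_assoc (g.coeff 1) u, ← hc0u]
    ring
  have hgx : Polynomial.eval (u * y) g = 0 := by
    have h1 : Polynomial.eval ζ (Polynomial.map (algebraMap V (Localization.AtPrime p)) Hs) = 0 := by
      rw [Polynomial.eval_map, Polynomial.eval₂_at_apply, hzroot.eq_zero, map_zero]
    rw [h1, mul_zero] at hkey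
    exact ((hζ.pow (N + 1)).mul_left_eq_zero).mp hkey
  refine ⟨u * y + a₀, ?_, ?_⟩
  · rw [Polynomial.IsRoot.def, ← Polynomial.taylor_eval]
    exact hgx
  · rw [add_sub_cancel_right]
    exact Ideal.mul_mem_right _ _ hum


/-- Let V be a Henselian valuation ring and p a prime ideal of V. Then the local rings V_p (localisation
at p) and V/p are Henselian. (Both are again valuation rings, which is elementary and not restated.) -/
theorem result (V : Type u) [CommRing V]
    [IsDomain V] [ValuationRing V] [HenselianLocalRing V] (p : Ideal V) [p.IsPrime] :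
    HenselianLocalRing (Localization.AtPrime p) ∧ HenselianLocalRing (V ⧸ p) := by
  exact ⟨helper8_henselian_localization V p,
    helper8_henselian_quotient V p (Ideal.IsPrime.ne_top ‹p.IsPrime›)⟩

end Groth.Agent.S16174
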