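import Groth.Statements.S16188
import Mathlib

set_option autoImplicit false
universe u
open CategoryTheory AlgebraicGeometry TopologicalSpace
open SchMor

namespace Groth.Agent.S16188

theorem irred_of_inducing {T Y : Type*} [TopologicalSpace T] [TopologicalSpace Y] (ι : T → Y)
    (hι : Topology.IsInducing ι) (hZ : IsIrreducible (Set.range ι)) : IrreducibleSpace T := by
  have hne : Nonempty T := by
    obtain ⟨z, t, rfl⟩ := hZ.nonempty
    exact ⟨t⟩
  haveI : PreirreducibleSpace T := ⟨by
    intro u v hu hv ⟨x, _, hx⟩ ⟨y, _, hy⟩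
    obtain ⟨u', hu', rfl⟩ := hι.isOpen_iff.mp hu
    obtain ⟨v', hv', rfl⟩ := hι.isOpen_iff.mp hv
    obtain ⟨z, ⟨t, rfl⟩, hz1, hz2⟩ := hZ.isPreirreducible u' v' hu' hv'
      ⟨ι x, ⟨x, rfl⟩, hx⟩ ⟨ι y, ⟨y, rfl⟩, hy⟩
    exact ⟨t, Set.mem_univ _, hz1, hz2⟩⟩
  exact ⟨hne⟩

theorem reduced_vanishing {Y : Scheme.{u}} (Z : Closeds Y) :
    IsReduced (Scheme.IdealSheafData.vanishingIdeal Z).subscheme := by
  have : ∀ i, IsReduced ((Scheme.IdealSheafData.vanishingIdeal Z).subschemeCover.openCover.X i) := by
    intro U
    have h : _root_.IsReduced (Γ(Y, U.1) ⧸ (Scheme.IdealSheafData.vanishingIdeal Z).ideal U) := by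
      rw [← Ideal.isRadical_iff_quotient_reduced, Scheme.IdealSheafData.vanishingIdeal_ideal]
      exact PrimeSpectrum.isRadical_vanishingIdeal _
    show IsReduced (Spec (.of (Γ(Y, U.1) ⧸ (Scheme.IdealSheafData.vanishingIdeal Z).ideal U)))
    infer_instance
  exact IsReduced.of_openCover _ (Scheme.IdealSheafData.vanishingIdeal Z).subschemeCover.openCover

/-- Let f : X → Y be a morphism of schemes with X reduced and irreducible. Then f factors through an
irreducible component of Y carrying its reduced closed-subscheme structure: there are an irreducible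
component Z of Y and a morphism g from X to the closed subscheme of Y cut out by the vanishing ideal
sheaf of Z with g followed by the inclusion equal to f; that closed subscheme is integral. -/
theorem result
    {X Y : Scheme.{u}} (f : X ⟶ Y) [IsReduced X] [IrreducibleSpace X] :
    ∃ (Z : Closeds Y) (_ : (Z : Set Y) ∈ irreducibleComponents Y)
      (_ : IsIntegral (Scheme.IdealSheafData.vanishingIdeal Z).subscheme)
      (g : X ⟶ (Scheme.IdealSheafData.vanishingIdeal Z).subscheme),
      g ≫ (Scheme.IdealSheafData.vanishingIdeal Z).subschemeι = f := by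
  have hirr : IsIrreducible (Set.range f) := by
    have := (IrreducibleSpace.isIrreducible_univ X).image f f.continuous.continuousOn
    rwa [Set.image_univ] at this
  obtain ⟨Z0, hZ0, hsub⟩ := exists_mem_irreducibleComponents_subset_of_isIrreducible _ hirr
  have hcl : IsClosed Z0 := isClosed_of_mem_irreducibleComponents _ hZ0
  let Z : Closeds Y := ⟨Z0, hcl⟩
  have hker : (Scheme.IdealSheafData.vanishingIdeal Z).subschemeι.ker ≤ f.ker := by
    rw [Scheme.IdealSheafData.ker_subschemeι]
    have h1 : f.ker = Scheme.IdealSheafData.vanishingIdeal (.closure (f '' (⊤ : Closeds X))) := by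
      rw [← Scheme.IdealSheafData.map_vanishingIdeal, Scheme.IdealSheafData.vanishingIdeal_top,
        Scheme.nilradical_eq_bot, Scheme.IdealSheafData.map_bot]
    rw [h1]
    apply Scheme.IdealSheafData.vanishingIdeal_antimono
    rw [Closeds.closure_le]
    rintro _ ⟨x, _, rfl⟩
    exact hsub ⟨x, rfl⟩
  haveI : IsReduced (Scheme.IdealSheafData.vanishingIdeal Z).subscheme := reduced_vanishing Z
  haveI : IrreducibleSpace (Scheme.IdealSheafData.vanishingIdeal Z).subscheme := by
    apply irred_of_inducing _
      (Scheme.IdealSheafData.vanishingIdeal Z).subschemeι.isClosedEmbedding.isEmbedding.isInducing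
    rw [Scheme.IdealSheafData.range_subschemeι, Scheme.IdealSheafData.coe_support_vanishingIdeal]
    exact hZ0.1
  exact ⟨Z, hZ0, isIntegral_of_irreducibleSpace_of_isReduced _, IsClosedImmersion.lift _ f hker,
    IsClosedImmersion.lift_fac _ _ _⟩

end Groth.Agent.S16188
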