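import Groth.Statements.S16194
import Mathlib

set_option autoImplicit false
universe u
open DivAlg

namespace Groth.Agent.S16194

/-- In an associative unital ring R, not necessarily commutative, every element r of the Jacobson
radical (the set of elements lying in every maximal left ideal) is quasiregular, i.e. 1 - r is a
two-sided unit. -/
theorem result {R : Type u} [Ring R] (r : R)
    (hr : r ∈ Ring.jacobson R) : IsUnit (1 - r) := by
  have key : ∀ x ∈ Ring.jacobson R, ∃ s, s * (1 - x) = 1 := by
    intro x hx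
    have h : (-x) ∈ Ideal.jacobson (⊥ : Ideal R) := by
      rw [Ideal.jacobson_bot]; exact (Ring.jacobson R).neg_mem hx
    obtain ⟨s, hs⟩ := Ideal.exists_mul_add_sub_mem_of_mem_jacobson (-x) h
    refine ⟨s, ?_⟩
    have h0 := (Submodule.mem_bot R).1 hs
    have : s * (1 - x) = s * (-x + 1) := by rw [neg_add_eq_sub]
    rw [this]
    exact sub_eq_zero.1 h0
  obtain ⟨u, hu⟩ := key r hr
  have hu' : u = 1 - (-(u * r)) := by
    have : u * (1 - r) = u - u * r := by rw [mul_sub, mul_one]
    rw [this] at hu
    rw [sub_neg_eq_add, ← hu]; abel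
  have hur : -(u*r) ∈ Ring.jacobson R := neg_mem (Ideal.mul_mem_left _ u hr)
  obtain ⟨v, hv⟩ := key _ hur
  rw [← hu'] at hv
  have hv1 : v = 1 - r := by
    calc v = v * (u * (1 - r)) := by rw [hu, mul_one]
      _ = (v * u) * (1 - r) := by rw [mul_assoc]
      _ = 1 - r := by rw [hv, one_mul]
  exact ⟨⟨1 - r, u, by rw [← hv1]; exact hv, hu⟩, rfl⟩

end Groth.Agent.S16194
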