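import Groth.Statements.S16196
import Mathlib
-- import your own Groth.Agent.* helpers here

set_option autoImplicit false
universe u v
open DivAlg

namespace Groth.Agent.S16196

/-- Let R be a ring (associative, unital, not necessarily commutative) and M a left R-module which is a
generator, in the form: for some n there is an R-linear surjection from M^n onto R. Then the natural
ring homomorphism from R to the double endomorphism ring BiEnd_R(M) = End_{End_R(M)}(M)
(endomorphisms of M commuting with every R-linear endomorphism), r ↦ multiplication by r, is
bijective. (The printed form takes R an algebra over a commutative ring k, embeds R in E = End_k(M)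
and asserts R = C_E(C_E(R)); the double centralizer there is BiEnd_R(M).) -/
theorem result {R : Type u} [Ring R] (M : Type v)
    [AddCommGroup M] [Module R M]
    (hgen : ∃ (n : ℕ) (f : (Fin n → M) →ₗ[R] R), Function.Surjective f) :
    Function.Bijective (Module.toModuleEnd (Module.End R M) (S := R) M) := by
  classical
  obtain ⟨n, f, hf⟩ := hgen
  obtain ⟨x, hx⟩ := hf 1
  -- components of f
  let fi : Fin n → (M →ₗ[R] R) := fun i => f ∘ₗ LinearMap.single R (fun _ : Fin n => M) i
  have hfsum : ∀ y : Fin n → M, f y = ∑ i, fi i (y i) := by
    intro y
    conv_lhs => rw [← Finset.univ_sum_single y]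
    rw [map_sum]
    rfl
  have hone : ∑ i, fi i (x i) = 1 := by rw [← hfsum, hx]
  constructor
  · -- injective
    rw [injective_iff_map_eq_zero]
    intro r hr
    have hrm : ∀ m : M, r • m = 0 := fun m => by
      have := congrArg (fun T : Module.End (Module.End R M) M => T m) hr
      simpa using this
    have : r * 1 = 0 := by
      rw [← hx, ← smul_eq_mul, ← map_smul]
      have : r • x = 0 := by
        funext i
        simp [hrm]
      rw [this, map_zero]
    simpa using this
  · -- surjective
    intro T
    refine ⟨∑ i, fi i (T (x i)), ?_⟩
    apply LinearMap.ext
    intro m
    have hsm : ∀ (e : Module.End R M) (y : M), T (e y) = e (T y) := by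
      intro e y
      have := T.map_smul e y
      simpa using this
    have key : ∀ i, T (fi i (x i) • m) = fi i (T (x i)) • m := by
      intro i
      have := hsm ((fi i).smulRight m) (x i)
      simpa using this
    show (∑ i, fi i (T (x i))) • m = T m
    have : T m = T ((∑ i, fi i (x i)) • m) := by rw [hone, one_smul]
    rw [this, Finset.sum_smul, Finset.sum_smul, map_sum]
    exact Finset.sum_congr rfl fun i _ => (key i).symm

end Groth.Agent.S16196
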