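import Groth.Statements.S16197
import Mathlib
-- import your own Groth.Agent.* helpers here

set_option autoImplicit false
universe u v w
open DivAlg

namespace Groth.Agent.S16197

/-- Let R be a ring (associative, unital, not necessarily commutative) and M a left R-module which is a
generator, used here only through the existence of an R-linear surjection from a direct sum of
copies of M, indexed by an arbitrary type, onto R. Then some finite power M^n decomposes as R × Q
for a submodule Q of M^n. (The published statement is an equivalence; this row states only the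
implication from the existence of such a surjection to the splitting.) -/
theorem result {R : Type u} [Ring R] (M : Type v)
    [AddCommGroup M] [Module R M]
    (hgen : ∃ (ι : Type w) (f : (ι →₀ M) →ₗ[R] R), Function.Surjective f) :
    ∃ (n : ℕ) (Q : Submodule R (Fin n → M)), Nonempty ((Fin n → M) ≃ₗ[R] (R × Q)) := by
  classical
  obtain ⟨ι, f, hf⟩ := hgen
  obtain ⟨x, hx⟩ := hf 1
  set s := x.support with hs
  let n := s.card
  let j : Fin n ≃ s := s.equivFin.symm
  let h : (Fin n → M) →ₗ[R] (ι →₀ M) :=
    ∑ k : Fin n, (Finsupp.lsingle ((j k : s) : ι)) ∘ₗ (LinearMap.proj k)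
  let x' : Fin n → M := fun k => x ((j k : s) : ι)
  have hx' : h x' = x := by
    simp only [h, LinearMap.sum_apply, LinearMap.coe_comp, Function.comp_apply, LinearMap.coe_proj,
      Function.eval, Finsupp.lsingle_apply, x']
    rw [Equiv.sum_comp j (fun i : s => Finsupp.single (i : ι) (x (i : ι)))]
    rw [Finset.sum_coe_sort s (fun i => Finsupp.single i (x i))]
    exact Finsupp.sum_single x
  let g : (Fin n → M) →ₗ[R] R := f ∘ₗ h
  have hg : g x' = 1 := by simp only [g, LinearMap.coe_comp, Function.comp_apply, hx', hx]
  let σ : R →ₗ[R] (Fin n → M) := LinearMap.toSpanSingleton R _ x'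
  have hgσ : ∀ r, g (σ r) = r := by
    intro r
    simp only [σ, LinearMap.toSpanSingleton_apply, map_smul, hg, smul_eq_mul, mul_one]
  refine ⟨n, LinearMap.ker g, ⟨?_⟩⟩
  let p : (Fin n → M) →ₗ[R] LinearMap.ker g :=
    LinearMap.codRestrict (LinearMap.ker g) (LinearMap.id - σ ∘ₗ g) (by
      intro y
      simp only [LinearMap.mem_ker, LinearMap.sub_apply, LinearMap.id_coe, id_eq,
        LinearMap.coe_comp, Function.comp_apply, map_sub, hgσ, sub_self])
  refine LinearEquiv.ofLinear (LinearMap.prod g p) (σ.coprod (LinearMap.ker g).subtype) ?_ ?_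
  · apply LinearMap.ext
    rintro ⟨r, q⟩
    have hq : g (q : Fin n → M) = 0 := q.2
    apply Prod.ext
    · simp [hgσ, hq]
    · apply Subtype.ext
      simp [p, hgσ, hq]
  · apply LinearMap.ext
    intro y
    simp [p]

end Groth.Agent.S16197
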