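import Groth.Statements.S16206
import Mathlib

set_option autoImplicit false
open RatCurv

namespace Groth.Agent.S16206

section Aux
open SimpleGraph W4c3cyccovratcurv

lemma rtg_symm {α : Type*} {r : α → α → Prop} (hr : ∀ a b, r a b → r b a) {a b : α}
    (h : Relation.ReflTransGen r a b) : Relation.ReflTransGen r b a := by
  induction h with
  | refl => exact Relation.ReflTransGen.refl
  | tail _ hbc ih => exact Relation.ReflTransGen.head (hr _ _ hbc) ih

lemma conicAdj_symm {k : ℕ} (T₁ T₂ : MarkedTree k) (h : ConicAdj T₁ T₂) : ConicAdj T₂ T₁ := by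
  obtain ⟨u₁, w₁, u₂, w₂, h₁, h₂, φ, hφ, hm⟩ := h
  unfold ConicAdj
  refine ⟨u₂, w₂, u₁, w₁, h₂, h₁, φ.symm, ?_, ?_⟩
  · have := φ.symm_apply_apply ⟨u₁, h₁.ne⟩
    rw [hφ] at this
    exact this
  · intro i
    have := φ.symm_apply_apply (contractMark T₁.mark u₁ w₁ h₁.ne i)
    rw [hm i] at this
    exact this

lemma conicAdj_of_eq {k n : ℕ} (G G' : SimpleGraph (Fin n)) (hG : G.IsTree) (hG' : G'.IsTree)
    (m m' : Fin k → Fin n) (u w : Fin n) (h : G.Adj u w) (h' : G'.Adj u w)
    (hc : contract G u w = contract G' u w)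
    (hm : ∀ i, contractMark m u w h.ne i = contractMark m' u w h.ne i) :
    ConicAdj (⟨n, G, hG, m⟩ : MarkedTree k) ⟨n, G', hG', m'⟩ := by
  unfold ConicAdj
  refine ⟨u, w, u, w, h, h', ⟨Equiv.refl _, ?_⟩, rfl, hm⟩
  intro a b
  have : (contract G' u w).Adj a b ↔ (contract G u w).Adj a b := by rw [hc]
  exact this

lemma no_triangle {V : Type*} {G : SimpleGraph V} (hG : G.IsAcyclic) {a b c : V}
    (hab : G.Adj a b) (hac : G.Adj a c) (hcb : G.Adj c b) : False := by
  have h := hG.path_unique ⟨Walk.cons hab Walk.nil, by simp [hab.ne]⟩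
    ⟨Walk.cons hac (Walk.cons hcb Walk.nil), by simp [hac.ne, hcb.ne, hab.ne]⟩
  have h2 := congrArg (fun p : G.Path a b => p.1.length) h
  simp at h2

lemma slide_adj_c {V : Type*} {G : SimpleGraph V} {c w x : V} (hcw : G.Adj c w) (hxc : x ≠ c)
    {v : V} (h : G.Adj c v) : (G.deleteEdges {s(w, x)} ⊔ edge c x).Adj c v := by
  refine (sup_adj _ _ _ _).mpr (Or.inl ?_)
  rw [deleteEdges_adj]
  refine ⟨h, ?_⟩
  intro he
  rw [Set.mem_singleton_iff, Sym2.eq_iff] at he
  rcases he with ⟨h1, _⟩ | ⟨h1, _⟩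
  · exact hcw.ne h1
  · exact hxc h1.symm

lemma slide_adj_cx {V : Type*} {G : SimpleGraph V} {c w x : V} (hxc : x ≠ c) :
    (G.deleteEdges {s(w, x)} ⊔ edge c x).Adj c x :=
  (sup_adj _ _ _ _).mpr (Or.inr ((edge_adj _ _ _ _).mpr ⟨Or.inl ⟨rfl, rfl⟩, hxc.symm⟩))

lemma slide_isTree {V : Type*} {G : SimpleGraph V} (hG : G.IsTree) {c w x : V}
    (hcw : G.Adj c w) (hwx : G.Adj w x) (hxc : x ≠ c) :
    (G.deleteEdges {s(w, x)} ⊔ edge c x).IsTree := by
  have hcw' : (G.deleteEdges {s(w, x)}).Adj c w := by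
    rw [deleteEdges_adj]
    refine ⟨hcw, ?_⟩
    intro he
    rw [Set.mem_singleton_iff, Sym2.eq_iff] at he
    rcases he with ⟨h1, _⟩ | ⟨h1, _⟩
    · exact hcw.ne h1
    · exact hxc h1.symm
  have hnr : ¬ (G.deleteEdges {s(w, x)}).Reachable c x := by
    intro hr
    have hb : G.IsBridge s(w, x) := isAcyclic_iff_forall_adj_isBridge.mp hG.isAcyclic hwx
    rw [isBridge_iff] at hb
    exact hb (hcw'.symm.reachable.trans hr)
  have hac : (G.deleteEdges {s(w, x)} ⊔ edge c x).IsAcyclic :=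
    (hG.isAcyclic.anti (deleteEdges_le _)).sup_edge_of_not_reachable hnr
  have hwc2 : (G.deleteEdges {s(w, x)} ⊔ edge c x).Adj w c :=
    (slide_adj_c hcw hxc hcw).symm
  have hcx2 : (G.deleteEdges {s(w, x)} ⊔ edge c x).Adj c x := slide_adj_cx hxc
  have hwx2 : (G.deleteEdges {s(w, x)} ⊔ edge c x).Reachable w x :=
    hwc2.reachable.trans hcx2.reachable
  have hadj : ∀ a b, G.Adj a b → (G.deleteEdges {s(w, x)} ⊔ edge c x).Reachable a b := by
    intro a b hab
    by_cases he : s(a, b) = s(w, x)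
    · rw [Sym2.eq_iff] at he
      rcases he with ⟨h1, h2⟩ | ⟨h1, h2⟩
      · rw [h1, h2]; exact hwx2
      · rw [h1, h2]; exact hwx2.symm
    · refine ((sup_adj _ _ _ _).mpr (Or.inl ?_)).reachable
      rw [deleteEdges_adj]
      exact ⟨hab, by rwa [Set.mem_singleton_iff]⟩
  have hreach : ∀ a b, G.Reachable a b →
      (G.deleteEdges {s(w, x)} ⊔ edge c x).Reachable a b := by
    intro a b h
    rw [reachable_iff_reflTransGen] at h
    induction h with
    | refl => exact Reachable.refl _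
    | tail _ hbc ih => exact ih.trans (hadj _ _ hbc)
  have : Nonempty V := hG.connected.nonempty
  exact ⟨⟨fun a b => hreach a b (hG.connected.preconnected a b)⟩, hac⟩

lemma contract_slide {n : ℕ} {G : SimpleGraph (Fin n)} {c w x : Fin n}
    (hcw : G.Adj c w) (hwx : G.Adj w x) (hxc : x ≠ c) :
    contract G c w = contract (G.deleteEdges {s(w, x)} ⊔ edge c x) c w := by
  have hA : ∀ p q : Fin n, p ≠ w → q ≠ w →
      ((G.deleteEdges {s(w, x)} ⊔ edge c x).Adj p q ↔
        G.Adj p q ∨ (p = c ∧ q = x) ∨ (p = x ∧ q = c)) := by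
    intro p q hp hq
    rw [sup_adj, deleteEdges_adj, edge_adj, Set.mem_singleton_iff, Sym2.eq_iff]
    constructor
    · rintro (⟨h, _⟩ | ⟨h, _⟩)
      · exact Or.inl h
      · exact Or.inr h
    · rintro (h | h)
      · refine Or.inl ⟨h, ?_⟩
        rintro (⟨h1, _⟩ | ⟨_, h1⟩)
        · exact hp h1
        · exact hq h1
      · refine Or.inr ⟨h, ?_⟩
        rcases h with ⟨h1, h2⟩ | ⟨h1, h2⟩
        · rw [h1, h2]; exact hxc.symm
        · rw [h1, h2]; exact hxc
  have hB : ∀ q : Fin n,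
      ((G.deleteEdges {s(w, x)} ⊔ edge c x).Adj w q ↔ G.Adj w q ∧ q ≠ x) := by
    intro q
    rw [sup_adj, deleteEdges_adj, edge_adj, Set.mem_singleton_iff, Sym2.eq_iff]
    constructor
    · rintro (⟨h, h2⟩ | ⟨h, _⟩)
      · exact ⟨h, fun hq => h2 (Or.inl ⟨rfl, hq⟩)⟩
      · rcases h with ⟨h1, _⟩ | ⟨h1, _⟩
        · exact absurd h1.symm hcw.ne
        · exact absurd h1 hwx.ne
    · rintro ⟨h, hq⟩
      refine Or.inl ⟨h, ?_⟩
      rintro (⟨_, h1⟩ | ⟨h1, _⟩)
      · exact hq h1
      · exact hwx.ne h1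
  ext a b
  obtain ⟨p, hp⟩ := a
  obtain ⟨q, hq⟩ := b
  simp only [contract, fromRel_adj]
  refine and_congr_right (fun _ => ?_)
  rw [hA p q hp hq, hA q p hq hp, hB p, hB q]
  have h1 : q = x → G.Adj w q := fun h => by rw [h]; exact hwx
  have h2 : p = x → G.Adj w p := fun h => by rw [h]; exact hwx
  constructor
  · rintro ((h | ⟨hpc, h⟩) | (h | ⟨hqc, h⟩))
    · exact Or.inl (Or.inl (Or.inl h))
    · by_cases hqx : q = x
      · exact Or.inl (Or.inl (Or.inr (Or.inl ⟨hpc, hqx⟩)))
      · exact Or.inl (Or.inr ⟨hpc, h, hqx⟩)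
    · exact Or.inr (Or.inl (Or.inl h))
    · by_cases hpx : p = x
      · exact Or.inr (Or.inl (Or.inr (Or.inl ⟨hqc, hpx⟩)))
      · exact Or.inr (Or.inr ⟨hqc, h, hpx⟩)
  · rintro (((h | ⟨hpc, hqx⟩ | ⟨hpx, hqc⟩) | ⟨hpc, h, _⟩) |
      ((h | ⟨hqc, hpx⟩ | ⟨hqx, hpc⟩) | ⟨hqc, h, _⟩))
    · exact Or.inl (Or.inl h)
    · exact Or.inl (Or.inr ⟨hpc, h1 hqx⟩)
    · exact Or.inr (Or.inr ⟨hqc, h2 hpx⟩)
    · exact Or.inl (Or.inr ⟨hpc, h⟩)
    · exact Or.inr (Or.inl h)
    · exact Or.inr (Or.inr ⟨hqc, h2 hpx⟩)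
    · exact Or.inl (Or.inr ⟨hpc, h1 hqx⟩)
    · exact Or.inr (Or.inr ⟨hqc, h⟩)

lemma marks_move {k n : ℕ} {G : SimpleGraph (Fin n)} {c w : Fin n} (hcw : G.Adj c w)
    (m : Fin k → Fin n) (i : Fin k) :
    contractMark m c w hcw.ne i =
      contractMark (fun j => if m j = w then c else m j) c w hcw.ne i := by
  unfold contractMark
  by_cases h : m i = w
  · have h' : ¬ ((if m i = w then c else m i) = w) := by rw [if_pos h]; exact hcw.ne
    rw [dif_pos h, dif_neg h']
    apply Subtype.ext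
    simp [h]
  · have h' : ¬ ((if m i = w then c else m i) = w) := by rw [if_neg h]; exact h
    rw [dif_neg h, dif_neg h']
    apply Subtype.ext
    simp [h]

lemma exists_slide {V : Type*} {G : SimpleGraph V} (hG : G.Connected) (c : V)
    (h : ¬ ∀ v, v ≠ c → G.Adj c v) :
    ∃ w x, G.Adj c w ∧ G.Adj w x ∧ x ≠ c ∧ ¬ G.Adj c x := by
  by_contra hcon
  push Not at hcon
  apply h
  have key : ∀ v, G.Reachable c v → v = c ∨ G.Adj c v := by
    intro v hv
    rw [reachable_iff_reflTransGen] at hv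
    induction hv with
    | refl => exact Or.inl rfl
    | @tail b v' _ hbv ih =>
      by_cases hvc : v' = c
      · exact Or.inl hvc
      · right
        rcases ih with hbc | hcb
        · rw [hbc] at hbv; exact hbv
        · exact hcon _ _ hcb hbv hvc
  intro v hv
  rcases key v (hG.preconnected c v) with h1 | h1
  · exact absurd h1 hv
  · exact h1

lemma to_star {k n : ℕ} (c : Fin n) : ∀ (d : ℕ) (G : SimpleGraph (Fin n)) (hG : G.IsTree)
    (m : Fin k → Fin n), {v | ¬ G.Adj c v}.ncard ≤ d →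
    ∃ (G' : SimpleGraph (Fin n)) (hG' : G'.IsTree), (∀ v, v ≠ c → G'.Adj c v) ∧
      Relation.ReflTransGen ConicAdj (⟨n, G, hG, m⟩ : MarkedTree k) ⟨n, G', hG', m⟩ := by
  intro d
  induction d with
  | zero =>
    intro G hG m hd
    exfalso
    have hc : c ∈ {v | ¬ G.Adj c v} := G.irrefl
    have := Set.ncard_ne_zero_of_mem hc
    omega
  | succ d ih =>
    intro G hG m hd
    by_cases hstar : ∀ v, v ≠ c → G.Adj c v
    · exact ⟨G, hG, hstar, Relation.ReflTransGen.refl⟩
    · obtain ⟨w, x, hcw, hwx, hxc, hncx⟩ := exists_slide hG.connected c hstar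
      have hT' := slide_isTree hG hcw hwx hxc
      have hstep : ConicAdj (⟨n, G, hG, m⟩ : MarkedTree k) ⟨n, _, hT', m⟩ :=
        conicAdj_of_eq G _ hG hT' m m c w hcw (slide_adj_c hcw hxc hcw)
          (contract_slide hcw hwx hxc) (fun i => rfl)
      have hlt : {v | ¬ (G.deleteEdges {s(w, x)} ⊔ edge c x).Adj c v}.ncard <
          {v | ¬ G.Adj c v}.ncard := by
        apply Set.ncard_lt_ncard _ (Set.toFinite _)
        rw [Set.ssubset_iff_exists]
        refine ⟨?_, x, hncx, ?_⟩
        · intro v hv hadj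
          exact hv (slide_adj_c hcw hxc hadj)
        · intro hx
          exact hx (slide_adj_cx hxc)
      obtain ⟨G'', hG'', hs, hr⟩ := ih _ hT' m (by omega)
      exact ⟨G'', hG'', hs, Relation.ReflTransGen.head hstep hr⟩

lemma marks_to_center {k n : ℕ} (c : Fin n) (G : SimpleGraph (Fin n)) (hG : G.IsTree)
    (hstar : ∀ v, v ≠ c → G.Adj c v) :
    ∀ (d : ℕ) (m : Fin k → Fin n), {i | m i ≠ c}.ncard ≤ d →
      Relation.ReflTransGen ConicAdj (⟨n, G, hG, m⟩ : MarkedTree k) ⟨n, G, hG, fun _ => c⟩ := by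
  intro d
  induction d with
  | zero =>
    intro m hd
    have h0 : {i | m i ≠ c} = ∅ := by
      rw [← Set.ncard_eq_zero (Set.toFinite _)]; omega
    have hm : m = fun _ => c := by
      funext i
      by_contra hi
      have hmem : i ∈ {i | m i ≠ c} := hi
      rw [h0] at hmem
      exact hmem
    subst hm
    exact Relation.ReflTransGen.refl
  | succ d ih =>
    intro m hd
    by_cases hall : ∀ i, m i = c
    · have hm : m = fun _ => c := funext hall
      subst hm
      exact Relation.ReflTransGen.refl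
    · push Not at hall
      obtain ⟨i, hi⟩ := hall
      have hcw : G.Adj c (m i) := hstar _ hi
      have hstep : ConicAdj (⟨n, G, hG, m⟩ : MarkedTree k)
          ⟨n, G, hG, fun j => if m j = m i then c else m j⟩ :=
        conicAdj_of_eq G G hG hG m _ c (m i) hcw hcw rfl (marks_move hcw m)
      have hlt : {j | (if m j = m i then c else m j) ≠ c}.ncard < {j | m j ≠ c}.ncard := by
        apply Set.ncard_lt_ncard _ (Set.toFinite _)
        rw [Set.ssubset_iff_exists]
        refine ⟨?_, i, hi, ?_⟩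
        · intro j hj
          have hj' : (if m j = m i then c else m j) ≠ c := hj
          by_cases h : m j = m i
          · exact absurd (if_pos h) hj'
          · rw [if_neg h] at hj'
            exact hj'
        · intro hh
          exact hh (if_pos rfl)
      exact Relation.ReflTransGen.head hstep (ih _ (by omega))

lemma star_unique {n : ℕ} {G G' : SimpleGraph (Fin n)} {c : Fin n} (hG : G.IsTree)
    (hG' : G'.IsTree) (hs : ∀ v, v ≠ c → G.Adj c v) (hs' : ∀ v, v ≠ c → G'.Adj c v) :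
    G = G' := by
  have key : ∀ (H : SimpleGraph (Fin n)), H.IsTree → (∀ v, v ≠ c → H.Adj c v) →
      ∀ a b, H.Adj a b ↔ (a = c ∧ b ≠ c) ∨ (b = c ∧ a ≠ c) := by
    intro H hH hsH a b
    constructor
    · intro hab
      by_cases ha : a = c
      · left; exact ⟨ha, fun hb => hab.ne (ha.trans hb.symm)⟩
      · by_cases hb : b = c
        · right; exact ⟨hb, ha⟩
        · exfalso
          exact no_triangle hH.isAcyclic hab (hsH a ha).symm (hsH b hb)
    · rintro (⟨ha, hb⟩ | ⟨hb, ha⟩)
      · rw [ha]; exact hsH b hb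
      · rw [hb]; exact (hsH a ha).symm
  ext a b
  rw [key G hG hs, key G' hG' hs']

end Aux

/-- Let G₁ and G₂ be dual graphs of linear trees of the same total degree e and with k marked points
each, that is finite trees with e vertices, every vertex of degree one, together with a list of k
marked vertices (repetitions allowed). Then a finite chain of conic deformations leads from G₁ to
G₂. Here a conic deformation of such a graph is the marked graph obtained by contracting one edge
(the contracted vertex being the unique vertex of degree two), two marked trees are one step apart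
when they have isomorphic conic deformations, the isomorphism matching the contracted vertices and
the i-th marked vertices, and the conclusion is that G₁ and G₂ are related by the
reflexive-transitive closure of this one-step relation. -/
theorem result (k : ℕ) (T₁ T₂ : W4c3cyccovratcurv.MarkedTree k)
    (h : T₁.n = T₂.n) :
    Relation.ReflTransGen W4c3cyccovratcurv.ConicAdj T₁ T₂ := by
  obtain ⟨n, G₁, hG₁, m₁⟩ := T₁
  obtain ⟨n₂, G₂, hG₂, m₂⟩ := T₂
  have h' : n = n₂ := h
  subst h'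
  have hne : Nonempty (Fin n) := hG₁.connected.nonempty
  obtain ⟨c⟩ := hne
  obtain ⟨G₁', hG₁', hs₁, hr₁⟩ := to_star c _ G₁ hG₁ m₁ le_rfl
  obtain ⟨G₂', hG₂', hs₂, hr₂⟩ := to_star c _ G₂ hG₂ m₂ le_rfl
  have hr₁' := marks_to_center c G₁' hG₁' hs₁ _ m₁ le_rfl
  have hr₂' := marks_to_center c G₂' hG₂' hs₂ _ m₂ le_rfl
  have hGeq : G₁' = G₂' := star_unique hG₁' hG₂' hs₁ hs₂
  subst hGeq
  exact (hr₁.trans hr₁').trans (rtg_symm conicAdj_symm (hr₂.trans hr₂'))

end Groth.Agent.S16206
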