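import Groth.Statements.S16211
import Mathlib

set_option autoImplicit false
universe u v
open InvTh

namespace Groth.Agent.S16211

theorem avg_mul {B : Type*} [CommRing B] {ι : Type*} [Fintype ι] (c : B)
    (hc : c * (Fintype.card ι : B) = 1) (a b : B) (a' b' : ι → B)
    (h : ∀ g h, (a' g - a) * (b' h - b) = 0) :
    c * ∑ g, a' g * b' g = (c * ∑ g, a' g) * (c * ∑ g, b' g) := by
  obtain ⟨A, hA⟩ : ∃ A, A = ∑ g, (a' g - a) := ⟨_, rfl⟩
  obtain ⟨Bs, hBs⟩ : ∃ Bs, Bs = ∑ g, (b' g - b) := ⟨_, rfl⟩
  have hAB : A * Bs = 0 := by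
    rw [hA, hBs, Finset.sum_mul_sum]
    exact Finset.sum_eq_zero fun g _ => Finset.sum_eq_zero fun k _ => h g k
  have hsa : ∑ g, a' g = (Fintype.card ι : B) * a + A := by
    rw [hA, Finset.sum_sub_distrib, Finset.sum_const, Finset.card_univ, nsmul_eq_mul]; ring
  have hsb : ∑ g, b' g = (Fintype.card ι : B) * b + Bs := by
    rw [hBs, Finset.sum_sub_distrib, Finset.sum_const, Finset.card_univ, nsmul_eq_mul]; ring
  have hsab : ∑ g, a' g * b' g = (Fintype.card ι : B) * (a * b) + a * Bs + A * b := by
    have : ∀ g, a' g * b' g = a * b + a * (b' g - b) + (a' g - a) * b := by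
      intro g
      have := h g g
      linear_combination this
    rw [Finset.sum_congr rfl (fun g _ => this g), Finset.sum_add_distrib, Finset.sum_add_distrib,
      Finset.sum_const, Finset.card_univ, nsmul_eq_mul, ← Finset.mul_sum, ← Finset.sum_mul,
      ← hA, ← hBs]
  rw [hsa, hsb, hsab]
  linear_combination (-(a * b * c * (Fintype.card ι : B)) - c * (a * Bs + A * b)) * hc - c ^ 2 * hAB

/-- Let R be a commutative ring, O a formally smooth R-algebra and G a finite group whose order is
invertible in R, acting on O by R-algebra automorphisms. Then the largest quotient algebra of O on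
which G acts trivially, namely the quotient of O by the ideal generated by all g • f - f (the
coordinate ring of the subscheme of G-fixed points of Spec O), is again formally smooth over R:
invariant homomorphisms lift along square-zero extensions. The published statement is about a scheme
X smooth and of finite presentation over the base and concludes that its fixed-point scheme is
smooth; this row, the affine step of its proof, assumes only that O is formally smooth over R and
concludes only formal smoothness. -/
theorem result (R : Type u) [CommRing R]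
    (O : Type u) [CommRing O] [Algebra R O] [Algebra.FormallySmooth R O]
    (G : Type v) [Group G] [Finite G] [MulSemiringAction G O] [SMulCommClass G R O]
    (hG : IsUnit (Nat.card G : R)) :
    Algebra.FormallySmooth R (O ⧸ Ideal.span {x : O | ∃ (g : G) (f : O), x = g • f - f}) := by
  classical
  haveI : Fintype G := Fintype.ofFinite G
  obtain ⟨u, hu⟩ := hG
  obtain ⟨J, hJ⟩ : ∃ J : Ideal O, J = Ideal.span {x : O | ∃ (g : G) (f : O), x = g • f - f} :=
    ⟨_, rfl⟩
  rw [← hJ]
  refine Algebra.FormallySmooth.of_comp_surjective ?_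
  intro B _ _ I hI fbar
  obtain ⟨φ, hφ⟩ := Algebra.FormallySmooth.comp_surjective R O I hI
    (fbar.comp (Ideal.Quotient.mkₐ R J))
  have hφ' : ∀ x, Ideal.Quotient.mk I (φ x) = fbar (Ideal.Quotient.mk J x) :=
    fun x => AlgHom.congr_fun hφ x
  have hmkJ : ∀ (g : G) (x : O), Ideal.Quotient.mk J (g • x) = Ideal.Quotient.mk J x := by
    intro g x
    rw [Ideal.Quotient.eq, hJ]
    exact Ideal.subset_span ⟨g, x, rfl⟩
  have hinv : ∀ (g : G) (x : O), φ (g • x) - φ x ∈ I := by
    intro g x
    rw [← Ideal.Quotient.eq, hφ', hφ', hmkJ]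
  have hI2 : ∀ s ∈ I, ∀ t ∈ I, s * t = 0 := by
    intro s hs t ht
    have : s * t ∈ I ^ 2 := by rw [pow_two]; exact Ideal.mul_mem_mul hs ht
    rwa [hI] at this
  obtain ⟨c, hc⟩ : ∃ c : B, c = algebraMap R B (↑u⁻¹ : R) := ⟨_, rfl⟩
  have hcn : c * (Fintype.card G : B) = 1 := by
    rw [hc, ← map_natCast (algebraMap R B), ← map_mul, ← Nat.card_eq_fintype_card, ← hu,
      Units.inv_mul, map_one]
  let ψ : O →ₐ[R] B :=
    { toFun := fun x => c * ∑ g : G, φ (g • x)
      map_one' := by
        simp only [smul_one, map_one, Finset.sum_const, Finset.card_univ, nsmul_eq_mul, mul_one]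
        exact hcn
      map_mul' := fun x y => by
        simp only [smul_mul', map_mul]
        exact avg_mul c hcn (φ x) (φ y) (fun g => φ (g • x)) (fun g => φ (g • y))
          (fun g h => hI2 _ (hinv g x) _ (hinv h y))
      map_zero' := by simp
      map_add' := fun x y => by
        simp only [smul_add, map_add, Finset.sum_add_distrib, mul_add]
      commutes' := fun r => by
        simp only [smul_algebraMap, AlgHom.commutes, Finset.sum_const, Finset.card_univ,
          nsmul_eq_mul]
        rw [← mul_assoc, hcn, one_mul] }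
  have hψ : ∀ x, ψ x = c * ∑ g : G, φ (g • x) := fun x => rfl
  have hψinv : ∀ (h : G) (x : O), ψ (h • x) = ψ x := by
    intro h x
    rw [hψ, hψ]
    congr 1
    simp_rw [← mul_smul]
    exact Equiv.sum_comp (Equiv.mulRight h) (fun g => φ (g • x))
  have hψJ : ∀ a ∈ J, ψ a = 0 := by
    intro a ha
    rw [hJ] at ha
    induction ha using Submodule.span_induction with
    | mem a ha => obtain ⟨g, f, rfl⟩ := ha; rw [map_sub, hψinv, sub_self]
    | zero => exact map_zero ψ
    | add a b _ _ ha hb => rw [map_add, ha, hb, add_zero]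
    | smul r a _ ha => rw [smul_eq_mul, map_mul, ha, mul_zero]
  refine ⟨Ideal.Quotient.liftₐ J ψ hψJ, ?_⟩
  apply Ideal.Quotient.algHom_ext
  ext x
  simp only [AlgHom.comp_apply, Ideal.Quotient.mkₐ_eq_mk, Ideal.Quotient.liftₐ_apply,
    Ideal.Quotient.lift_mk]
  show Ideal.Quotient.mk I (ψ x) = fbar (Ideal.Quotient.mk J x)
  rw [hψ, map_mul, map_sum]
  have : ∀ g : G, Ideal.Quotient.mk I (φ (g • x)) = fbar (Ideal.Quotient.mk J x) := by
    intro g
    rw [hφ', hmkJ]
  simp_rw [this]
  rw [Finset.sum_const, Finset.card_univ, nsmul_eq_mul, ← mul_assoc,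
    ← map_natCast (Ideal.Quotient.mk I), ← map_mul, hcn, map_one, one_mul]

end Groth.Agent.S16211
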