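import Groth.Statements.S16220
import Mathlib

set_option autoImplicit false
universe u v
open Disp

namespace Groth.Agent.S16220

theorem witt_tf (p : ℕ) [Fact p.Prime] (k : Type*) [CommRing k] [CharP k p] [PerfectRing k p]
    (x : WittVector p k) (h : (p : WittVector p k) * x = 0) : x = 0 := by
  have h1 : WittVector.verschiebung (WittVector.frobenius x) = 0 := by
    rw [WittVector.verschiebung_frobenius, mul_comm]; exact h
  have h2 : WittVector.frobenius x = 0 := by
    apply WittVector.verschiebung_injective p k
    rw [h1, map_zero]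
  apply (WittVector.frobenius_bijective p k).1
  rw [h2, map_zero]

theorem quot_tors (p : ℕ) [Fact p.Prime] (k : Type*) [CommRing k] [CharP k p] [PerfectRing k p]
    (n : ℕ) (hn : 2 ≤ n) (c : WittVector p k ⧸ Ideal.span {(p : WittVector p k) ^ n})
    (h : Ideal.Quotient.mk (Ideal.span {(p : WittVector p k) ^ n}) (p : WittVector p k) * c = 0) :
    ∃ c', c = Ideal.Quotient.mk (Ideal.span {(p : WittVector p k) ^ n}) (p : WittVector p k) * c' := by
  obtain ⟨c0, rfl⟩ := Ideal.Quotient.mk_surjective c
  rw [← map_mul, Ideal.Quotient.eq_zero_iff_mem, Ideal.mem_span_singleton] at h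
  obtain ⟨t, ht⟩ := h
  obtain ⟨j, rfl⟩ : ∃ j, n = j + 2 := ⟨n - 2, by omega⟩
  have h1 : (p : WittVector p k) * (c0 - (p : WittVector p k) ^ (j+1) * t) = 0 := by
    rw [mul_sub, ht]; ring
  have h2 := witt_tf p k _ h1
  refine ⟨Ideal.Quotient.mk _ ((p : WittVector p k) ^ j * t), ?_⟩
  rw [← map_mul]
  congr 1
  rw [sub_eq_zero] at h2
  rw [h2]; ring

theorem key (p : ℕ) [Fact p.Prime] (k : Type*) [CommRing k]
    [CharP k p] [PerfectRing k p] (n : ℕ) (hn : 2 ≤ n)
    (M : Type*) [AddCommGroup M] [Module (WittVector p k) M]
    [Module (WittVector p k ⧸ Ideal.span {(p : WittVector p k) ^ n}) M] [IsScalarTower (WittVector p k) (WittVector p k ⧸ Ideal.span {(p : WittVector p k) ^ n}) M]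
    [Module.Projective (WittVector p k ⧸ Ideal.span {(p : WittVector p k) ^ n}) M]
    (z : M) (hz : (p : WittVector p k) • z = 0) : ∃ w : M, z = (p : WittVector p k) • w := by
  obtain ⟨s, hs⟩ := (Module.projective_def' (R := WittVector p k ⧸ Ideal.span {(p : WittVector p k) ^ n}) (P := M)).mp inferInstance
  have hsm : ∀ (r : WittVector p k) (y : M), Ideal.Quotient.mk (Ideal.span {(p : WittVector p k) ^ n}) r • y = r • y := by
    intro r y
    have := algebraMap_smul (WittVector p k ⧸ Ideal.span {(p : WittVector p k) ^ n}) r y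
    exact this
  have hz' : Ideal.Quotient.mk (Ideal.span {(p : WittVector p k) ^ n}) (p : WittVector p k) • z = 0 := by rw [hsm]; exact hz
  have h1 : ∀ i : M, Ideal.Quotient.mk (Ideal.span {(p : WittVector p k) ^ n}) (p : WittVector p k) * (s z i) = 0 := by
    intro i
    have : s (Ideal.Quotient.mk (Ideal.span {(p : WittVector p k) ^ n}) (p : WittVector p k) • z) i = 0 := by rw [hz', map_zero]; rfl
    rw [map_smul] at this
    exact this
  choose c' hc' using fun i => quot_tors p k n hn (s z i) (h1 i)
  have h2 : z = Finsupp.linearCombination _ id (s z) := by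
    have := LinearMap.congr_fun hs z
    exact this.symm
  refine ⟨∑ i ∈ (s z).support, c' i • i, ?_⟩
  rw [← hsm, Finset.smul_sum]
  conv_lhs => rw [h2]
  rw [Finsupp.linearCombination_apply, Finsupp.sum]
  apply Finset.sum_congr rfl
  intro i _
  rw [smul_smul, ← hc' i]; rfl

/-- Let p be a prime and k a perfect ring of characteristic p, so that the Frobenius σ of W = W(k) is
bijective, W has no p-torsion and W/p^n W = W_n(k) (the ideal p^n W is the kernel of the truncation
to length n). Let n ≥ 2 and let M be a truncated Dieudonné module of level n over k: a W-module on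
which W acts through W/p^n W, finitely generated and projective over W/p^n W, with a σ-semilinear F
: M → M and a σ⁻¹-semilinear V : M → M such that FV = VF = p. Then on M/pM the kernel of F is the
image of V and the kernel of V is the image of F; stated inside M: the preimage of pM under F is VM
+ pM, and the preimage of pM under V is FM + pM. -/
theorem result (p : ℕ) [Fact p.Prime] (k : Type u) [CommRing k]
    [CharP k p] [PerfectRing k p] (n : ℕ) (hn : 2 ≤ n)
    (M : Type v) [AddCommGroup M] [Module (WittVector p k) M]
    [Module (WittVector p k ⧸ Ideal.span {(p : WittVector p k) ^ n}) M] [IsScalarTower (WittVector p k) (WittVector p k ⧸ Ideal.span {(p : WittVector p k) ^ n}) M]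
    [Module.Finite (WittVector p k ⧸ Ideal.span {(p : WittVector p k) ^ n}) M] [Module.Projective (WittVector p k ⧸ Ideal.span {(p : WittVector p k) ^ n}) M]
    (F : M →ₛₗ[(WittVector.frobenius : WittVector p k →+* WittVector p k)] M)
    (V : M →ₛₗ[((WittVector.frobeniusEquiv p k).symm : WittVector p k →+* WittVector p k)] M)
    (hFV : ∀ m : M, F (V m) = (p : WittVector p k) • m) (hVF : ∀ m : M, V (F m) = (p : WittVector p k) • m) :
    (Ideal.span {(p : WittVector p k)} • (⊤ : Submodule (WittVector p k) M)).comap F =
        Submodule.span (WittVector p k) (Set.range V) ⊔ Ideal.span {(p : WittVector p k)} • (⊤ : Submodule (WittVector p k) M) ∧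
      (Ideal.span {(p : WittVector p k)} • (⊤ : Submodule (WittVector p k) M)).comap V =
        Submodule.span (WittVector p k) (Set.range F) ⊔ Ideal.span {(p : WittVector p k)} • (⊤ : Submodule (WittVector p k) M) := by
  have hkey := key p k n hn M
  have hpmem : ∀ x : M, x ∈ Ideal.span {(p : WittVector p k)} • (⊤ : Submodule (WittVector p k) M) ↔ ∃ y : M, x = (p : WittVector p k) • y := by
    intro x
    rw [Submodule.ideal_span_singleton_smul, Submodule.mem_smul_pointwise_iff_exists]
    constructor
    · rintro ⟨y, _, h⟩; exact ⟨y, h.symm⟩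
    · rintro ⟨y, h⟩; exact ⟨y, Submodule.mem_top, h.symm⟩
  have hFp : ∀ y : M, F ((p : WittVector p k) • y) = (p : WittVector p k) • F y := by
    intro y; rw [map_smulₛₗ, map_natCast]
  have hVp : ∀ y : M, V ((p : WittVector p k) • y) = (p : WittVector p k) • V y := by
    intro y; rw [map_smulₛₗ, map_natCast]
  constructor
  · apply le_antisymm
    · intro x hx
      rw [Submodule.mem_comap, hpmem] at hx
      obtain ⟨m', hm'⟩ := hx
      have hz : F (x - V m') = 0 := by rw [map_sub, hFV, hm', sub_self]
      have hpz : (p : WittVector p k) • (x - V m') = 0 := by rw [← hVF, hz, map_zero]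
      obtain ⟨w, hw⟩ := hkey _ hpz
      have : x = V m' + (p : WittVector p k) • w := by rw [← hw]; abel
      rw [this]
      exact Submodule.add_mem_sup (Submodule.subset_span ⟨m', rfl⟩) ((hpmem _).mpr ⟨w, rfl⟩)
    · apply sup_le
      · apply Submodule.span_le.mpr
        rintro _ ⟨m', rfl⟩
        rw [SetLike.mem_coe, Submodule.mem_comap]
        rw [hFV]; exact (hpmem _).mpr ⟨m', rfl⟩
      · intro x hx
        obtain ⟨y, rfl⟩ := (hpmem x).mp hx
        rw [Submodule.mem_comap]
        rw [hFp]; exact (hpmem _).mpr ⟨_, rfl⟩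
  · apply le_antisymm
    · intro x hx
      rw [Submodule.mem_comap, hpmem] at hx
      obtain ⟨m', hm'⟩ := hx
      have hz : V (x - F m') = 0 := by rw [map_sub, hVF, hm', sub_self]
      have hpz : (p : WittVector p k) • (x - F m') = 0 := by rw [← hFV, hz, map_zero]
      obtain ⟨w, hw⟩ := hkey _ hpz
      have : x = F m' + (p : WittVector p k) • w := by rw [← hw]; abel
      rw [this]
      exact Submodule.add_mem_sup (Submodule.subset_span ⟨m', rfl⟩) ((hpmem _).mpr ⟨w, rfl⟩)
    · apply sup_le
      · apply Submodule.span_le.mpr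
        rintro _ ⟨m', rfl⟩
        rw [SetLike.mem_coe, Submodule.mem_comap]
        rw [hVF]; exact (hpmem _).mpr ⟨m', rfl⟩
      · intro x hx
        obtain ⟨y, rfl⟩ := (hpmem x).mp hx
        rw [Submodule.mem_comap]
        rw [hVp]; exact (hpmem _).mpr ⟨_, rfl⟩

end Groth.Agent.S16220
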