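import Groth.Statements.S16234
import Mathlib

set_option autoImplicit false
universe u v
open CAlg

namespace Groth.Agent.S16234

theorem helper8_support_quot {A : Type u} [CommRing A] (I : Ideal A) (p : PrimeSpectrum A) :
    p ∈ Module.support A (A ⧸ I) ↔ I ≤ p.asIdeal := by
  rw [Module.mem_support_iff_of_finite, Ideal.annihilator_quotient]

theorem helper8_forward (A : Type u) [CommRing A] [IsNoetherianRing A]
    (M : Type v) [AddCommGroup M] [Module A M] [hM : Module.Finite A M] :
    (∀ p ∈ Module.support A M, p.asIdeal.IsMaximal) → IsFiniteLength A M := by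
  induction hM using IsNoetherianRing.induction_on_isQuotientEquivQuotientPrime A with
  | subsingleton N => intro _; exact IsFiniteLength.of_subsingleton
  | quotient N p e =>
    intro h
    have hp : p ∈ Module.support A N := by
      rw [e.support_eq, helper8_support_quot]
    have hmax := h p hp
    have : IsSimpleModule A N := isSimpleModule_iff_quot_maximal.2 ⟨p.asIdeal, hmax, ⟨e⟩⟩
    rw [isFiniteLength_iff_isNoetherian_isArtinian]
    exact ⟨inferInstance, inferInstance⟩
  | exact N₁ N₂ N₃ f g hf hg hex h1 h3 =>
    intro h
    have hs := Module.support_of_exact hex hf hg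
    have i1 := h1 (fun p hp => h p (by rw [hs]; exact Or.inl hp))
    have i3 := h3 (fun p hp => h p (by rw [hs]; exact Or.inr hp))
    rw [isFiniteLength_iff_isNoetherian_isArtinian] at i1 i3 ⊢
    obtain ⟨_, _⟩ := i1
    obtain ⟨_, _⟩ := i3
    exact ⟨inferInstance, isArtinian_of_range_eq_ker f g hex.linearMap_ker_eq.symm⟩

theorem helper8_backward (A : Type u) [CommRing A]
    (M : Type v) [AddCommGroup M] [Module A M] (h : IsFiniteLength A M) :
    (∀ p ∈ Module.support A M, p.asIdeal.IsMaximal) := by
  induction h with
  | of_subsingleton =>
    intro p hp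
    rw [Module.support_eq_empty] at hp
    exact hp.elim
  | @of_simple_quotient M _ _ N hs _ ih =>
    intro p hp
    rw [Module.support_of_exact (LinearMap.exact_subtype_mkQ N) (Submodule.injective_subtype N)
      (Submodule.mkQ_surjective N)] at hp
    rcases hp with hp | hp
    · exact ih p hp
    · obtain ⟨m, hm, ⟨e⟩⟩ := isSimpleModule_iff_quot_maximal.1 hs
      rw [e.support_eq, helper8_support_quot] at hp
      have := hm.eq_of_le p.isPrime.ne_top hp
      rw [← this]; exact hm

/-- For a finitely generated module M over a Noetherian commutative ring A, every prime ideal in the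
support of M is a maximal ideal if and only if M has finite length. -/
theorem result (A : Type u) [CommRing A] [IsNoetherianRing A]
    (M : Type v) [AddCommGroup M] [Module A M] [Module.Finite A M] :
    (∀ p ∈ Module.support A M, p.asIdeal.IsMaximal) ↔ IsFiniteLength A M :=
  ⟨helper8_forward A M, helper8_backward A M⟩

end Groth.Agent.S16234
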