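import Groth.Statements.S16235
import Mathlib
-- import your own Groth.Agent.* helpers here

set_option autoImplicit false
universe u
open CAlg

namespace Groth.Agent.S16235

theorem helper8_length_le_height (A : Type u) [CommRing A] (rs : List A)
    (hrs : RingTheory.Sequence.IsWeaklyRegular A rs) (p : Ideal A) [hp : p.IsPrime]
    (hle : Ideal.ofList rs ≤ p) :
    (rs.length : ℕ∞) ≤ p.height := by
  induction rs using List.reverseRecOn generalizing p with
  | nil => simp
  | append_singleton rs' x ih =>
    rw [RingTheory.Sequence.isWeaklyRegular_append_iff,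
      RingTheory.Sequence.isWeaklyRegular_singleton_iff] at hrs
    obtain ⟨hrs', hx⟩ := hrs
    rw [Ideal.ofList_append, Ideal.ofList_singleton, sup_le_iff] at hle
    obtain ⟨hJ, hxp⟩ := hle
    have hxp' : x ∈ p := hxp (Ideal.mem_span_singleton_self x)
    obtain ⟨q, hq, hqp⟩ := Ideal.exists_minimalPrimes_le hJ
    haveI := hq.isPrime
    have ih' := ih hrs' q hq.1.2
    have hmem : ∀ z : A, (Submodule.Quotient.mk z :
        A ⧸ (Ideal.ofList rs' • ⊤ : Submodule A A)) = 0 ↔ z ∈ Ideal.ofList rs' := by
      intro z
      rw [Submodule.Quotient.mk_eq_zero, smul_eq_mul, Ideal.mul_top]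
    have hxq : x ∉ q := by
      intro hxq
      obtain ⟨y, hy, hxy⟩ := Ideal.exists_mul_mem_of_mem_minimalPrimes hq hxq
      apply hy
      have h0 : x • (Submodule.Quotient.mk y : A ⧸ (Ideal.ofList rs' • ⊤ : Submodule A A))
          = x • 0 := by
        rw [smul_zero, ← Submodule.Quotient.mk_smul, hmem, smul_eq_mul]
        exact hxy
      exact (hmem y).mp (hx h0)
    have hlt : q < p := lt_of_le_of_ne hqp (fun h => hxq (h ▸ hxp'))
    have h1 := Ideal.height_add_one_le_of_lt_of_isPrime hlt
    rw [List.length_append, List.length_singleton, Nat.cast_add, Nat.cast_one]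
    calc (rs'.length : ℕ∞) + 1 ≤ q.height + 1 := by gcongr
      _ ≤ p.height := h1

/-- Let A be a Noetherian commutative ring and x_1, …, x_r a regular sequence on A (each x_i a
non-zero-divisor on A/(x_1, …, x_{i-1})) generating an ideal I ≠ A. Then the height of I, the
infimum of the heights of the minimal primes over I, equals r. -/
theorem result (A : Type u) [CommRing A] [IsNoetherianRing A]
    (r : ℕ) (x : Fin r → A) (hx : RingTheory.Sequence.IsWeaklyRegular A (List.ofFn x))
    (hI : Ideal.span (Set.range x) ≠ ⊤) :
    (Ideal.span (Set.range x)).height = r := by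
  classical
  have hI' : Ideal.span (Set.range x) = Ideal.ofList (List.ofFn x) := by
    congr 1
    ext a
    simp [List.mem_ofFn]
  apply le_antisymm
  · obtain ⟨⟨p, hp⟩⟩ := Ideal.nonempty_minimalPrimes hI
    rw [Ideal.height_eq_inf_minimalPrimes]
    refine (iInf₂_le p hp).trans ?_
    have hs : Ideal.span ((Finset.univ.image x : Finset A) : Set A) = Ideal.span (Set.range x) := by
      rw [Finset.coe_image, Finset.coe_univ, Set.image_univ]
    have h1 := Ideal.height_le_card_of_mem_minimalPrimes_span_finset (s := Finset.univ.image x)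
      (p := p) (by rw [hs]; exact hp)
    refine h1.trans ?_
    have h2 : (Finset.univ.image x).card ≤ r := by
      simpa using Finset.card_image_le (s := Finset.univ) (f := x)
    exact_mod_cast h2
  · rw [Ideal.height_eq_inf_minimalPrimes]
    refine le_iInf₂ (fun p hp => ?_)
    haveI := hp.isPrime
    have := helper8_length_le_height A (List.ofFn x) hx p (by rw [← hI']; exact hp.1.2)
    simpa using this

end Groth.Agent.S16235
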