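import Groth.Statements.S16244
import Mathlib

set_option autoImplicit false
universe u
open Curves

namespace Groth.Agent.S16244

theorem stab_iff {k : Type*} [Field k] (h2 : (2 : k) ≠ 0) (h3 : (3 : k) ≠ 0)
    (W : WeierstrassCurve k) [W.IsShortNF] (C : WeierstrassCurve.VariableChange k) :
    C • W = W ↔ C.r = 0 ∧ C.s = 0 ∧ C.t = 0 ∧
      ((C.u⁻¹ : kˣ) : k) ^ 4 * W.a₄ = W.a₄ ∧ ((C.u⁻¹ : kˣ) : k) ^ 6 * W.a₆ = W.a₆ := by
  have ha1 : W.a₁ = 0 := WeierstrassCurve.IsShortNF.a₁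
  have ha2 : W.a₂ = 0 := WeierstrassCurve.IsShortNF.a₂
  have ha3 : W.a₃ = 0 := WeierstrassCurve.IsShortNF.a₃
  have hu : ((C.u⁻¹ : kˣ) : k) ≠ 0 := Units.ne_zero _
  constructor
  · intro h
    have e1 : ((C.u⁻¹ : kˣ) : k) * (W.a₁ + 2 * C.s) = W.a₁ :=
      congrArg WeierstrassCurve.a₁ h
    have e2 : ((C.u⁻¹ : kˣ) : k) ^ 2 * (W.a₂ - C.s * W.a₁ + 3 * C.r - C.s ^ 2) = W.a₂ :=
      congrArg WeierstrassCurve.a₂ h
    have e3 : ((C.u⁻¹ : kˣ) : k) ^ 3 * (W.a₃ + C.r * W.a₁ + 2 * C.t) = W.a₃ :=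
      congrArg WeierstrassCurve.a₃ h
    have e4 : ((C.u⁻¹ : kˣ) : k) ^ 4 * (W.a₄ - C.s * W.a₃ + 2 * C.r * W.a₂
        - (C.t + C.r * C.s) * W.a₁ + 3 * C.r ^ 2 - 2 * C.s * C.t) = W.a₄ :=
      congrArg WeierstrassCurve.a₄ h
    have e6 : ((C.u⁻¹ : kˣ) : k) ^ 6 * (W.a₆ + C.r * W.a₄ + C.r ^ 2 * W.a₂ + C.r ^ 3
        - C.t * W.a₃ - C.t ^ 2 - C.r * C.t * W.a₁) = W.a₆ :=
      congrArg WeierstrassCurve.a₆ h
    have hs : C.s = 0 := by
      rw [ha1, zero_add] at e1
      rcases mul_eq_zero.mp e1 with h' | h'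
      · exact absurd h' hu
      · rcases mul_eq_zero.mp h' with h'' | h''
        · exact absurd h'' h2
        · exact h''
    have hr : C.r = 0 := by
      rw [ha2, ha1, hs] at e2
      have h3r : (3 : k) * C.r = 0 := by
        rcases mul_eq_zero.mp e2 with h' | h'
        · exact absurd h' (pow_ne_zero _ hu)
        · linear_combination h'
      rcases mul_eq_zero.mp h3r with h' | h'
      · exact absurd h' h3
      · exact h'
    have ht : C.t = 0 := by
      rw [ha3, ha1, hr] at e3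
      have h2t : (2 : k) * C.t = 0 := by
        rcases mul_eq_zero.mp e3 with h' | h'
        · exact absurd h' (pow_ne_zero _ hu)
        · linear_combination h'
      rcases mul_eq_zero.mp h2t with h' | h'
      · exact absurd h' h2
      · exact h'
    refine ⟨hr, hs, ht, ?_, ?_⟩
    · simp only [hs, hr, ht, ha1, ha2, ha3] at e4
      linear_combination e4
    · simp only [hr, ht, ha1, ha2, ha3] at e6
      linear_combination e6
  · rintro ⟨hr, hs, ht, e4', e6'⟩
    apply WeierstrassCurve.ext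
    · show ((C.u⁻¹ : kˣ) : k) * (W.a₁ + 2 * C.s) = W.a₁
      rw [hs, ha1]
      ring
    · show ((C.u⁻¹ : kˣ) : k) ^ 2 * (W.a₂ - C.s * W.a₁ + 3 * C.r - C.s ^ 2) = W.a₂
      rw [hs, hr, ha1, ha2]
      ring
    · show ((C.u⁻¹ : kˣ) : k) ^ 3 * (W.a₃ + C.r * W.a₁ + 2 * C.t) = W.a₃
      rw [hr, ht, ha1, ha3]
      ring
    · show ((C.u⁻¹ : kˣ) : k) ^ 4 * (W.a₄ - C.s * W.a₃ + 2 * C.r * W.a₂
        - (C.t + C.r * C.s) * W.a₁ + 3 * C.r ^ 2 - 2 * C.s * C.t) = W.a₄
      rw [hs, hr, ht, ha1, ha2, ha3]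
      linear_combination e4'
    · show ((C.u⁻¹ : kˣ) : k) ^ 6 * (W.a₆ + C.r * W.a₄ + C.r ^ 2 * W.a₂ + C.r ^ 3
        - C.t * W.a₃ - C.t ^ 2 - C.r * C.t * W.a₁) = W.a₆
      rw [hr, ht, ha1, ha2, ha3]
      linear_combination e6'

theorem stabL {k : Type*} [Field k] [IsAlgClosed k] (h2 : (2 : k) ≠ 0) (h3 : (3 : k) ≠ 0)
    (W : WeierstrassCurve k) [W.IsShortNF] (n : ℕ) [NeZero (n : k)]
    (hmem : ∀ u : kˣ, ((((u⁻¹ : kˣ) : k) ^ 4 * W.a₄ = W.a₄ ∧
      ((u⁻¹ : kˣ) : k) ^ 6 * W.a₆ = W.a₆) ↔ u ^ n = 1)) :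
    IsCyclic ↥(MulAction.stabilizer (WeierstrassCurve.VariableChange k) W) ∧
      Nat.card ↥(MulAction.stabilizer (WeierstrassCurve.VariableChange k) W) = n := by
  have hn : NeZero n := NeZero.of_neZero_natCast k
  have hstab : ∀ C : ↥(MulAction.stabilizer (WeierstrassCurve.VariableChange k) W),
      (C : WeierstrassCurve.VariableChange k) • W = W :=
    fun C => MulAction.mem_stabilizer_iff.mp C.2
  obtain ⟨f, hf⟩ : ∃ f : ↥(MulAction.stabilizer (WeierstrassCurve.VariableChange k) W) →*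
      ↥(rootsOfUnity n k), ∀ C, ((f C : kˣ)) = (C : WeierstrassCurve.VariableChange k).u := by
    refine ⟨MonoidHom.codRestrict
      ((({ toFun := fun C => C.u, map_one' := rfl, map_mul' := fun _ _ => rfl } :
        WeierstrassCurve.VariableChange k →* kˣ)).comp (Subgroup.subtype _))
      (rootsOfUnity n k) (fun C => ?_), fun C => rfl⟩
    rw [mem_rootsOfUnity]
    have h := (stab_iff h2 h3 W (C : WeierstrassCurve.VariableChange k)).mp (hstab C)
    exact (hmem _).mp ⟨h.2.2.2.1, h.2.2.2.2⟩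
  have hinj : Function.Injective f := by
    intro C C' hCC'
    have hu : (C : WeierstrassCurve.VariableChange k).u
        = (C' : WeierstrassCurve.VariableChange k).u := by
      rw [← hf C, ← hf C', hCC']
    have h := (stab_iff h2 h3 W (C : WeierstrassCurve.VariableChange k)).mp (hstab C)
    have h' := (stab_iff h2 h3 W (C' : WeierstrassCurve.VariableChange k)).mp (hstab C')
    apply Subtype.ext
    apply WeierstrassCurve.VariableChange.ext hu
    · rw [h.1, h'.1]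
    · rw [h.2.1, h'.2.1]
    · rw [h.2.2.1, h'.2.2.1]
  have hsurj : Function.Surjective f := by
    intro ζ
    have hζ : (ζ : kˣ) ^ n = 1 := (mem_rootsOfUnity n _).mp ζ.2
    have hmem' := (hmem (ζ : kˣ)).mpr hζ
    have hC : (⟨(ζ : kˣ), 0, 0, 0⟩ : WeierstrassCurve.VariableChange k) ∈
        MulAction.stabilizer (WeierstrassCurve.VariableChange k) W := by
      rw [MulAction.mem_stabilizer_iff]
      exact (stab_iff h2 h3 W _).mpr ⟨rfl, rfl, rfl, hmem'.1, hmem'.2⟩
    refine ⟨⟨_, hC⟩, ?_⟩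
    apply Subtype.ext
    rw [hf]
  have e : ↥(MulAction.stabilizer (WeierstrassCurve.VariableChange k) W) ≃*
      ↥(rootsOfUnity n k) := MulEquiv.ofBijective f ⟨hinj, hsurj⟩
  constructor
  · exact isCyclic_of_surjective e.symm e.symm.surjective
  · rw [Nat.card_congr e.toEquiv]
    exact HasEnoughRootsOfUnity.natCard_rootsOfUnity k n

/-- Let k be an algebraically closed field in which 2 and 3 are nonzero, and W a short Weierstrass
equation y² = x³ + a₄x + a₆ over k with nonzero discriminant. The admissible changes of variables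
(u, r, s, t) that fix W form a cyclic group, of order 6 when a₄ = 0, of order 4 when a₆ = 0, and of
order 2 when a₄ and a₆ are both nonzero. (The published statement says the automorphism group of the
elliptic curve is cyclic of order 2, 4 or 6; the automorphisms are rendered here as the changes of
variables preserving the equation, and the case distinction is the one the computation gives.) -/
theorem result
    (k : Type u) [Field k] [IsAlgClosed k] (h2 : (2 : k) ≠ 0) (h3 : (3 : k) ≠ 0)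
    (W : WeierstrassCurve k) [W.IsShortNF] (hΔ : W.Δ ≠ 0) :
    IsCyclic ↥(MulAction.stabilizer (WeierstrassCurve.VariableChange k) W) ∧
      (W.a₄ = 0 → Nat.card ↥(MulAction.stabilizer (WeierstrassCurve.VariableChange k) W) = 6) ∧
      (W.a₆ = 0 → Nat.card ↥(MulAction.stabilizer (WeierstrassCurve.VariableChange k) W) = 4) ∧
      (W.a₄ ≠ 0 → W.a₆ ≠ 0 → Nat.card ↥(MulAction.stabilizer (WeierstrassCurve.VariableChange k) W) = 2) := by
  have hΔ' : W.a₄ ≠ 0 ∨ W.a₆ ≠ 0 := by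
    by_contra hcon
    push Not at hcon
    apply hΔ
    rw [WeierstrassCurve.Δ_of_isShortNF, hcon.1, hcon.2]
    ring
  have h6 : ((6 : ℕ) : k) ≠ 0 := by
    have h : ((6 : ℕ) : k) = 2 * 3 := by norm_num
    rw [h]
    exact mul_ne_zero h2 h3
  have h4 : ((4 : ℕ) : k) ≠ 0 := by
    have h : ((4 : ℕ) : k) = 2 * 2 := by norm_num
    rw [h]
    exact mul_ne_zero h2 h2
  have h2' : ((2 : ℕ) : k) ≠ 0 := by
    have h : ((2 : ℕ) : k) = 2 := by norm_num
    rw [h]
    exact h2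
  have inst6 : NeZero ((6 : ℕ) : k) := ⟨h6⟩
  have inst4 : NeZero ((4 : ℕ) : k) := ⟨h4⟩
  have inst2 : NeZero ((2 : ℕ) : k) := ⟨h2'⟩
  have hpow : ∀ (u : kˣ) (m : ℕ), ((u⁻¹ : kˣ) : k) ^ m = 1 ↔ u ^ m = 1 := by
    intro u m
    rw [← Units.val_pow_eq_pow_val, Units.val_eq_one, inv_pow, inv_eq_one]
  have cancel : ∀ (x a : k), a ≠ 0 → (x * a = a ↔ x = 1) := fun x a ha =>
    ⟨fun h => mul_right_cancel₀ ha (h.trans (one_mul a).symm), fun h => by rw [h, one_mul]⟩
  have hA : W.a₄ = 0 →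
      (IsCyclic ↥(MulAction.stabilizer (WeierstrassCurve.VariableChange k) W) ∧
      Nat.card ↥(MulAction.stabilizer (WeierstrassCurve.VariableChange k) W) = 6) := by
    intro ha4
    have ha6 : W.a₆ ≠ 0 := by
      rcases hΔ' with h | h
      · exact absurd ha4 h
      · exact h
    refine stabL h2 h3 W 6 (fun u => ?_)
    rw [ha4, mul_zero, cancel _ _ ha6, hpow]
    exact ⟨fun h => h.2, fun h => ⟨rfl, h⟩⟩
  have hB : W.a₆ = 0 →
      (IsCyclic ↥(MulAction.stabilizer (WeierstrassCurve.VariableChange k) W) ∧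
      Nat.card ↥(MulAction.stabilizer (WeierstrassCurve.VariableChange k) W) = 4) := by
    intro ha6
    have ha4 : W.a₄ ≠ 0 := by
      rcases hΔ' with h | h
      · exact h
      · exact absurd ha6 h
    refine stabL h2 h3 W 4 (fun u => ?_)
    rw [ha6, mul_zero, cancel _ _ ha4, hpow]
    exact ⟨fun h => h.1, fun h => ⟨h, rfl⟩⟩
  have hC : W.a₄ ≠ 0 → W.a₆ ≠ 0 →
      (IsCyclic ↥(MulAction.stabilizer (WeierstrassCurve.VariableChange k) W) ∧
      Nat.card ↥(MulAction.stabilizer (WeierstrassCurve.VariableChange k) W) = 2) := by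
    intro ha4 ha6
    refine stabL h2 h3 W 2 (fun u => ?_)
    rw [cancel _ _ ha4, cancel _ _ ha6, ← hpow u 2]
    constructor
    · rintro ⟨hx4, hx6⟩
      have h : ((u⁻¹ : kˣ) : k) ^ 6 = ((u⁻¹ : kˣ) : k) ^ 4 * ((u⁻¹ : kˣ) : k) ^ 2 := by ring
      rw [h, hx4, one_mul] at hx6
      exact hx6
    · intro hx2
      constructor
      · have h : ((u⁻¹ : kˣ) : k) ^ 4 = (((u⁻¹ : kˣ) : k) ^ 2) ^ 2 := by ring
        rw [h, hx2, one_pow]
      · have h : ((u⁻¹ : kˣ) : k) ^ 6 = (((u⁻¹ : kˣ) : k) ^ 2) ^ 3 := by ring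
        rw [h, hx2, one_pow]
  refine ⟨?_, fun h => (hA h).2, fun h => (hB h).2, fun h h' => (hC h h').2⟩
  by_cases h4z : W.a₄ = 0
  · exact (hA h4z).1
  · by_cases h6z : W.a₆ = 0
    · exact (hB h6z).1
    · exact (hC h4z h6z).1

end Groth.Agent.S16244
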