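import Groth.Statements.S16259
import Mathlib

set_option autoImplicit false
open W4c3wronskmg

namespace Groth.Agent.S16259

section Aux
open Polynomial

theorem ode_mult {k : Type*} [Field k] [CharZero k] (h P2 Q1 Q0 : k[X]) (c : k)
    (hP2 : P2.eval c ≠ 0)
    (hode : P2 * derivative (derivative h) = Q1 * derivative h + Q0 * h) :
    rootMultiplicity c h ≤ 1 := by
  by_contra hlt
  push Not at hlt
  have hne : h ≠ 0 := by
    intro h0
    rw [h0, rootMultiplicity_zero] at hlt
    omega
  have hroot : IsRoot h c := (rootMultiplicity_pos hne).mp (by omega)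
  have hμ1 : rootMultiplicity c (derivative h) = rootMultiplicity c h - 1 :=
    derivative_rootMultiplicity_of_root hroot
  have hne1 : derivative h ≠ 0 := by
    intro h0
    rw [h0, rootMultiplicity_zero] at hμ1
    omega
  have hroot1 : IsRoot (derivative h) c := (rootMultiplicity_pos hne1).mp (by omega)
  have hμ2 : rootMultiplicity c (derivative (derivative h))
      = rootMultiplicity c (derivative h) - 1 :=
    derivative_rootMultiplicity_of_root hroot1
  have hne2 : derivative (derivative h) ≠ 0 := by
    intro h0
    have hC := eq_C_of_derivative_eq_zero h0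
    have hev : eval c (derivative h) = 0 := hroot1
    rw [hC, eval_C] at hev
    rw [hev, C_0] at hC
    exact hne1 hC
  have hP2ne : P2 ≠ 0 := by
    intro h0
    rw [h0, eval_zero] at hP2
    exact hP2 rfl
  have hprod : P2 * derivative (derivative h) ≠ 0 := mul_ne_zero hP2ne hne2
  have hd0 : (X - C c) ^ (rootMultiplicity c h - 1) ∣ h :=
    dvd_trans (pow_dvd_pow _ (Nat.sub_le _ _)) (pow_rootMultiplicity_dvd h c)
  have hd1 : (X - C c) ^ (rootMultiplicity c h - 1) ∣ derivative h := by
    have hd := pow_rootMultiplicity_dvd (derivative h) c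
    rw [hμ1] at hd
    exact hd
  have hd2 : (X - C c) ^ (rootMultiplicity c h - 1) ∣ P2 * derivative (derivative h) := by
    rw [hode]
    exact dvd_add (Dvd.dvd.mul_left hd1 Q1) (Dvd.dvd.mul_left hd0 Q0)
  have hle := (le_rootMultiplicity_iff hprod).mpr hd2
  rw [rootMultiplicity_mul hprod, rootMultiplicity_eq_zero (show ¬ IsRoot P2 c from hP2), hμ2,
    hμ1] at hle
  omega

theorem coeff_theta {k : Type*} [Field k] (p : k[X]) (s : k) (m : ℕ) :
    coeff (X * derivative p + C s * p) m = ((m : k) + s) * coeff p m := by
  rw [coeff_add, coeff_C_mul]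
  cases m with
  | zero =>
    rw [coeff_X_mul_zero, Nat.cast_zero]
    ring
  | succ m =>
    rw [coeff_X_mul, coeff_derivative]
    push_cast
    ring

theorem choose_cast {k : Type*} [Field k] (N K : ℕ) :
    ((N.choose (K + 1) : ℕ) : k) * ((K : k) + 1)
      = ((N.choose K : ℕ) : k) * ((N : k) - (K : k)) := by
  rcases Nat.lt_or_ge N K with hlt | hge
  · rw [Nat.choose_eq_zero_of_lt hlt, Nat.choose_eq_zero_of_lt (Nat.lt_succ_of_lt hlt)]
    simp
  · have h := Nat.choose_succ_right_eq N K
    have h' := congrArg (Nat.cast : ℕ → k) h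
    rw [Nat.cast_mul, Nat.cast_mul, Nat.cast_sub hge] at h'
    push_cast at h'
    linear_combination h'

end Aux

open Polynomial in
/-- Over a field of characteristic zero, for positive integers `i, j` and a natural number `n`, the
polynomial `h(W) = ∑_{l=0}^{n} (i choose l) (j choose (n-l)) W^(n-l)`, the coefficient of
`X^(i+j-n)` in `(X+1)^i (X+W)^j`, has no multiple root other than possibly `0` and `1`: every `c ≠
0, 1` has root multiplicity at most one. -/
theorem result
    (k : Type*) [Field k] [CharZero k] (i j n : ℕ) (hi : 0 < i) (hj : 0 < j) (c : k) (hc0 : c ≠ 0) (hc1 : c ≠ 1) :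
    Polynomial.rootMultiplicity c
      (∑ l ∈ Finset.range (n + 1),
        Polynomial.C (((i.choose l) * (j.choose (n - l)) : ℕ) : k) * Polynomial.X ^ (n - l)) ≤ 1 := by
  obtain ⟨h, hh⟩ : ∃ h : k[X], h = ∑ l ∈ Finset.range (n + 1),
      C (((i.choose l) * (j.choose (n - l)) : ℕ) : k) * X ^ (n - l) := ⟨_, rfl⟩
  rw [← hh]
  have hcoeff : ∀ m : ℕ, coeff h m =
      if m ≤ n then ((i.choose (n - m) : ℕ) : k) * ((j.choose m : ℕ) : k) else 0 := by
    intro m
    rw [hh, finset_sum_coeff]
    simp only [coeff_C_mul_X_pow]
    by_cases hm : m ≤ n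
    · rw [if_pos hm, Finset.sum_eq_single (n - m)]
      · rw [if_pos (by omega)]
        have e : n - (n - m) = m := by omega
        rw [e, Nat.cast_mul]
      · intro l hl hne
        have hl' := Finset.mem_range.mp hl
        rw [if_neg (by omega)]
      · intro hnot
        exact absurd (Finset.mem_range.mpr (by omega)) hnot
    · rw [if_neg hm]
      apply Finset.sum_eq_zero
      intro l hl
      rw [if_neg (by omega)]
  have hrec : ∀ m : ℕ,
      ((m : k) + 1 + ((i : k) - (n : k))) * coeff h (m + 1) * ((m : k) + 1)
        = ((m : k) + (-(n : k))) * (((m : k) + (-(j : k))) * coeff h m) := by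
    intro m
    rw [hcoeff (m + 1), hcoeff m]
    rcases Nat.lt_or_ge m n with hlt | hge
    · rw [if_pos (by omega), if_pos (by omega)]
      obtain ⟨K, hK⟩ : ∃ K, n - m = K + 1 := ⟨n - m - 1, by omega⟩
      have hK' : n - (m + 1) = K := by omega
      rw [hK, hK']
      have I1 := choose_cast (k := k) j m
      have I2 := choose_cast (k := k) i K
      have hKk : (K : k) = (n : k) - (m : k) - 1 := by
        have h1 : K + 1 + m = n := by omega
        have h' := congrArg (Nat.cast : ℕ → k) h1
        push_cast at h'
        linear_combination h'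
      rw [hKk] at I2
      linear_combination (((i.choose K : ℕ) : k) * ((i : k) - (n : k) + (m : k) + 1)) * I1
        - (((j.choose m : ℕ) : k) * ((j : k) - (m : k))) * I2
    · rw [if_neg (by omega)]
      rcases Nat.eq_or_lt_of_le hge with heq | hgt
      · have h0 : ((m : k) + (-(n : k))) = 0 := by
          rw [heq]
          ring
        rw [h0]
        ring
      · rw [if_neg (by omega)]
        ring
  have hode0 : X * derivative (X * derivative h + C ((i : k) - (n : k)) * h)
      = X * (X * derivative (X * derivative h + C (-(j : k)) * h)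
          + C (-(n : k)) * (X * derivative h + C (-(j : k)) * h)) := by
    ext m
    cases m with
    | zero => rw [coeff_X_mul_zero, coeff_X_mul_zero]
    | succ m =>
      rw [coeff_X_mul, coeff_X_mul, coeff_derivative, coeff_theta, coeff_theta, coeff_theta]
      have hr := hrec m
      push_cast
      linear_combination hr
  have d1 : derivative (X * derivative h + C ((i : k) - (n : k)) * h)
      = derivative h + X * derivative (derivative h)
        + C ((i : k) - (n : k)) * derivative h := by
    rw [derivative_add, derivative_C_mul, derivative_mul, derivative_X, one_mul]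
  have d2 : derivative (X * derivative h + C (-(j : k)) * h)
      = derivative h + X * derivative (derivative h) + C (-(j : k)) * derivative h := by
    rw [derivative_add, derivative_C_mul, derivative_mul, derivative_X, one_mul]
  rw [d1, d2] at hode0
  have hode : (X ^ 2 - X ^ 3) * derivative (derivative h)
      = (X ^ 2 + C (-(j : k)) * X ^ 2 + C (-(n : k)) * X ^ 2 - X
          - C ((i : k) - (n : k)) * X) * derivative h
        + (C (-(n : k)) * C (-(j : k)) * X) * h := by
    linear_combination hode0
  refine ode_mult h _ _ _ c ?_ hode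
  rw [eval_sub, eval_pow, eval_pow, eval_X]
  have e : c ^ 2 - c ^ 3 = c ^ 2 * (1 - c) := by ring
  rw [e]
  exact mul_ne_zero (pow_ne_zero 2 hc0) (sub_ne_zero.mpr (Ne.symm hc1))

end Groth.Agent.S16259
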