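import Groth.Statements.S16260
import Mathlib
import Groth.Agent.Lib.helper8.WronskLib

set_option autoImplicit false
open W4c3wronskmg

namespace Groth.Agent.S16260

open Groth.Agent.Lib.helper8.WronskLib

open Polynomial in
/-- Let `k` be a field of characteristic zero, `a, b, i` positive integers with `i ≤ a + b`, and `j = a
+ b + 2 - i`. On the projective line with three marked points `A = 0`, `B = 1`, `C = ∞`, the
`(a+b+1)`-dimensional linear system `V = H⁰(ω((1+a)A)) ⊕ H⁰(ω((1+b)B)) ⊕ H⁰(ω(2C)) ⊆ H⁰(ω((1+a)A +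
(1+b)B + 2C)) ≅ H⁰(O(a+b+2))` becomes, in the affine coordinate, the span of the multiples of
`X^(a+1)` of degree at most `a+b`, the multiples of `(X-1)^(b+1)` of degree at most `a+b`, and
`X^(a+1) (X-1)^(b+1)`; and `V(-iP-jQ)` is the subspace of members divisible by `(X-p)^i (X-q)^j`.
Then there are no points `P = p`, `Q = q` other than `A, B, C` (that is, `p, q ∉ {0, 1}`; `p = q`
allowed) with both `dim V(-iP-jQ) ≥ 1` and `dim V(-(i-1)P-(j-1)Q) ≥ 2`. (The published statement is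
over the complex numbers.) -/
theorem result
    (k : Type*) [Field k] [CharZero k] (a b i j : ℕ) (ha : 0 < a) (hb : 0 < b) (hi : 0 < i) (hiab : i ≤ a + b)
    (hj : i + j = a + b + 2)
    (V : Submodule k (Polynomial k))
    (hV : V = ((Ideal.span {(X : Polynomial k) ^ (a + 1)}).restrictScalars k ⊓ Polynomial.degreeLE k ↑(a + b)) ⊔
      ((Ideal.span {((X : Polynomial k) - 1) ^ (b + 1)}).restrictScalars k ⊓ Polynomial.degreeLE k ↑(a + b)) ⊔
      Submodule.span k {(X : Polynomial k) ^ (a + 1) * (X - 1) ^ (b + 1)})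
    (p q : k) (hp0 : p ≠ 0) (hp1 : p ≠ 1) (hq0 : q ≠ 0) (hq1 : q ≠ 1) :
    ¬ (1 ≤ Module.finrank k ↥(V ⊓ (Ideal.span {(X - C p) ^ i * (X - C q) ^ j}).restrictScalars k) ∧
       2 ≤ Module.finrank k ↥(V ⊓ (Ideal.span {(X - C p) ^ (i - 1) * (X - C q) ^ (j - 1)}).restrictScalars k)) := by
  rintro ⟨-, h2⟩
  obtain ⟨a', rfl⟩ : ∃ a', a = a' + 1 := ⟨a - 1, by omega⟩
  obtain ⟨b', rfl⟩ : ∃ b', b = b' + 1 := ⟨b - 1, by omega⟩
  obtain ⟨U, hU⟩ : ∃ U : Submodule k k[X], U = V ⊓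
      (Ideal.span {(X - C p) ^ (i - 1) * (X - C q) ^ (j - 1)}).restrictScalars k := ⟨_, rfl⟩
  rw [← hU] at h2
  have hmem : ∀ u ∈ U, u ∈ V ∧ (X - C p) ^ (i - 1) * (X - C q) ^ (j - 1) ∣ u := by
    intro u hu
    rw [hU] at hu
    obtain ⟨h1, h2⟩ := Submodule.mem_inf.1 hu
    exact ⟨h1, Ideal.mem_span_singleton.1 ((Submodule.restrictScalars_mem _ _ _).1 h2)⟩
  haveI : Nontrivial ↥U := Module.nontrivial_of_finrank_pos (R := k) (by omega)
  obtain ⟨x, hx⟩ := exists_ne (0 : ↥U)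
  obtain ⟨y, hxy⟩ := exists_linearIndependent_pair_of_one_lt_finrank (R := k) (by omega) hx
  rw [LinearIndependent.pair_iff] at hxy
  obtain ⟨hx1, hx2⟩ := hmem x x.2
  obtain ⟨hy1, hy2⟩ := hmem y y.2
  obtain ⟨P1, hP1d, hP1⟩ := repr_V a' b' V hV x hx1
  obtain ⟨P2, hP2d, hP2⟩ := repr_V a' b' V hV y hy1
  obtain ⟨K, hK⟩ : ∃ K : k[X], K = X ^ (a' + 1) * (X - 1) ^ (b' + 1) := ⟨_, rfl⟩
  have hKT : TT (a' + 1) (b' + 1) K = 0 := by rw [hK]; exact TT_K a' b'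
  have hKp : K.eval p ≠ 0 := by
    rw [hK, eval_mul, eval_pow, eval_pow, eval_X, eval_sub, eval_X, eval_one]
    exact mul_ne_zero (pow_ne_zero _ hp0) (pow_ne_zero _ (sub_ne_zero.2 hp1))
  have hKd : K.natDegree ≤ a' + b' + 3 := by
    rw [hK]
    refine natDegree_mul_le.trans ?_
    have h1 := natDegree_X_pow_le (R := k) (a' + 1)
    have h2 := (natDeg_Xm1_pow (k := k) (b' + 1)).le
    omega
  have norm : ∀ P : k[X], P.natDegree ≤ a' + b' + 3 → ∃ P' : k[X],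
      P'.natDegree ≤ a' + b' + 3 ∧ P'.eval p = 0 ∧
        TT (a' + 1) (b' + 1) P' = TT (a' + 1) (b' + 1) P := by
    intro P hPd
    refine ⟨P - C (P.eval p / K.eval p) * K, ?_, ?_, ?_⟩
    · exact (natDegree_sub_le _ _).trans (max_le hPd ((natDegree_C_mul_le _ _).trans hKd))
    · rw [eval_sub, eval_mul, eval_C, div_mul_cancel₀ _ hKp, sub_self]
    · rw [TT_sub, TT_C_mul, hKT, mul_zero, sub_zero]
  obtain ⟨Q1, hQ1d, hQ1p, hQ1T⟩ := norm P1 hP1d
  obtain ⟨Q2, hQ2d, hQ2p, hQ2T⟩ := norm P2 hP2d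
  rw [hP1] at hQ1T
  rw [hP2] at hQ2T
  have fin : ∃ α β : k, (α ≠ 0 ∨ β ≠ 0) ∧ C α * Q1 + C β * Q2 = 0 := by
    by_cases hpq : p = q
    · subst hpq
      rw [← pow_add] at hx2 hy2
      have d1 : (X - C p) ^ (i - 1 + (j - 1) + 1) ∣ Q1 :=
        pow_dvd_of (a' + 1) (b' + 1) p hp0 hp1 Q1 _ hQ1p (by rw [hQ1T]; exact hx2)
      have d2 : (X - C p) ^ (i - 1 + (j - 1) + 1) ∣ Q2 :=
        pow_dvd_of (a' + 1) (b' + 1) p hp0 hp1 Q2 _ hQ2p (by rw [hQ2T]; exact hy2)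
      refine final p (p + 1) (by simp) (a' + b' + 3) (i - 1 + (j - 1) + 1) 1 (by omega)
        Q1 Q2 hQ1d hQ2d d1 d2 ?_
      intro α β hev
      rw [pow_one, dvd_iff_isRoot]
      exact hev
    · have d1 : (X - C p) ^ (i - 1 + 1) ∣ Q1 :=
        pow_dvd_of (a' + 1) (b' + 1) p hp0 hp1 Q1 _ hQ1p
          (by rw [hQ1T]; exact (dvd_mul_right _ _).trans hx2)
      have d2 : (X - C p) ^ (i - 1 + 1) ∣ Q2 :=
        pow_dvd_of (a' + 1) (b' + 1) p hp0 hp1 Q2 _ hQ2p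
          (by rw [hQ2T]; exact (dvd_mul_right _ _).trans hy2)
      refine final p q hpq (a' + b' + 3) (i - 1 + 1) (j - 1 + 1) (by omega)
        Q1 Q2 hQ1d hQ2d d1 d2 ?_
      intro α β hev
      refine pow_dvd_of (a' + 1) (b' + 1) q hq0 hq1 _ _ hev ?_
      rw [TT_add, TT_C_mul, TT_C_mul, hQ1T, hQ2T]
      exact dvd_add (dvd_mul_of_dvd_right ((dvd_mul_left _ _).trans hx2) _)
        (dvd_mul_of_dvd_right ((dvd_mul_left _ _).trans hy2) _)
  obtain ⟨α, β, hαβ, h0⟩ := fin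
  have h3 : C α * (x : k[X]) + C β * (y : k[X]) = 0 := by
    have h := congrArg (TT (a' + 1) (b' + 1)) h0
    rw [TT_add, TT_C_mul, TT_C_mul, hQ1T, hQ2T, TT_zero] at h
    exact h
  have h4 : α • x + β • y = 0 := by
    apply Subtype.ext
    rw [Submodule.coe_add, Submodule.coe_smul, Submodule.coe_smul, smul_eq_C_mul, smul_eq_C_mul,
      Submodule.coe_zero]
    exact h3
  obtain ⟨hα, hβ⟩ := hxy α β h4
  rcases hαβ with h | h
  · exact h hα
  · exact h hβ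

end Groth.Agent.S16260
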