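import Groth.Statements.S16261
import Mathlib
import Groth.Agent.Lib.helper8.WronskLib

set_option autoImplicit false
open W4c3wronskmg

namespace Groth.Agent.S16261

section Aux

open Polynomial Groth.Agent.Lib.helper8.WronskLib

variable {k : Type*} [Field k] [CharZero k]

theorem coeff_Xm1_pow_succ (s : ℕ) : ((X - 1 : k[X]) ^ (s + 1)).coeff s = -((s : k) + 1) := by
  have h : (X - 1 : k[X]) = X + C (-1) := by rw [C_neg, C_1, sub_eq_add_neg]
  rw [h, coeff_X_add_C_pow, Nat.add_sub_cancel_left, pow_one, Nat.choose_succ_self_right]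
  push_cast
  ring

theorem X_mul_deriv_X_pow (m : ℕ) : (X : k[X]) * derivative (X ^ m) = C (m : k) * X ^ m := by
  rcases m with _ | m
  · simp
  · rw [derivative_X_pow, Nat.add_sub_cancel, pow_succ]; ring

theorem zero_step (a b : ℕ) (m : ℕ) (hm : m < a) (R : k[X])
    (h : X ^ (m + 1) ∣ TT a b (X ^ m * R)) : X ∣ R := by
  have hne : (X : k[X]) ^ m ≠ 0 := pow_ne_zero _ X_ne_zero
  have e : TT a b (X ^ m * R) = X ^ m * (C (m : k) * (X - 1) * R + X * (X - 1) * derivative R -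
      (C ((a : k) + (b : k)) * X - C (a : k)) * R) := by
    unfold TT
    rw [derivative_mul]
    have h1 : X * (X - 1) * (derivative (X ^ m) * R + X ^ m * derivative R) =
        (X - 1) * (X * derivative (X ^ m)) * R + X ^ m * (X * (X - 1) * derivative R) := by ring
    rw [h1, X_mul_deriv_X_pow]
    ring
  rw [e, pow_succ, mul_dvd_mul_iff_left hne] at h
  rw [X_dvd_iff, coeff_zero_eq_eval_zero] at h ⊢
  simp only [eval_sub, eval_add, eval_mul, eval_C, eval_X, eval_one] at h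
  have h2 : ((a : k) - (m : k)) * R.eval 0 = 0 := by linear_combination h
  rcases mul_eq_zero.1 h2 with h3 | h3
  · exfalso
    rw [sub_eq_zero] at h3
    have := Nat.cast_injective h3
    omega
  · exact h3

theorem X_pow_dvd_of (a b : ℕ) (P : k[X]) (n : ℕ) (hn : n ≤ a) (hdiv : X ^ n ∣ TT a b P) :
    X ^ n ∣ P := by
  have key : ∀ m, m ≤ n → X ^ m ∣ P := by
    intro m
    induction m with
    | zero => intro _; rw [pow_zero]; exact one_dvd _
    | succ m ih =>
      intro hm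
      obtain ⟨R, hR⟩ := ih (by omega)
      have h1 : X ^ (m + 1) ∣ TT a b (X ^ m * R) := by
        rw [← hR]; exact (pow_dvd_pow _ hm).trans hdiv
      obtain ⟨R', hR'⟩ := zero_step a b m (by omega) R h1
      refine ⟨R', ?_⟩
      rw [hR, hR']; ring
  exact key n le_rfl

theorem decomp_V (a b : ℕ) (V : Submodule k k[X])
    (hV : V = ((Ideal.span {(X : k[X]) ^ (a + 1 + 1)}).restrictScalars k ⊓
        Polynomial.degreeLE k ↑(a + 1 + (b + 1))) ⊔
      ((Ideal.span {((X : k[X]) - 1) ^ (b + 1 + 1)}).restrictScalars k ⊓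
        Polynomial.degreeLE k ↑(a + 1 + (b + 1))) ⊔
      Submodule.span k {(X : k[X]) ^ (a + 1 + 1) * (X - 1) ^ (b + 1 + 1)})
    (f : k[X]) (hf : f ∈ V) :
    ∃ (g h : k[X]) (γ : k), g.natDegree ≤ b ∧ h.natDegree ≤ a ∧
      f = X ^ (a + 1 + 1) * g + (X - 1) ^ (b + 1 + 1) * h +
        C γ * (X ^ (a + 1 + 1) * (X - 1) ^ (b + 1 + 1)) := by
  rw [hV] at hf
  obtain ⟨f12, hf12, f3, hf3, rfl⟩ := Submodule.mem_sup.1 hf
  obtain ⟨f1, hf1, f2, hf2, rfl⟩ := Submodule.mem_sup.1 hf12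
  obtain ⟨hf1a, hf1b⟩ := Submodule.mem_inf.1 hf1
  obtain ⟨g, rfl⟩ := Ideal.mem_span_singleton.1 ((Submodule.restrictScalars_mem _ _ _).1 hf1a)
  have hgdeg : g.natDegree ≤ b := by
    by_cases hg0 : g = 0
    · rw [hg0, natDegree_zero]; exact Nat.zero_le _
    · have h1 := natDegree_le_of_degree_le (mem_degreeLE.1 hf1b)
      rw [natDegree_mul (pow_ne_zero _ X_ne_zero) hg0, natDegree_X_pow] at h1
      omega
  obtain ⟨hf2a, hf2b⟩ := Submodule.mem_inf.1 hf2
  obtain ⟨h, rfl⟩ := Ideal.mem_span_singleton.1 ((Submodule.restrictScalars_mem _ _ _).1 hf2a)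
  have hhdeg : h.natDegree ≤ a := by
    by_cases hh0 : h = 0
    · rw [hh0, natDegree_zero]; exact Nat.zero_le _
    · have h1 := natDegree_le_of_degree_le (mem_degreeLE.1 hf2b)
      rw [natDegree_mul (Xm1_pow_ne_zero _) hh0, natDeg_Xm1_pow] at h1
      omega
  obtain ⟨γ, rfl⟩ := Submodule.mem_span_singleton.1 hf3
  exact ⟨g, h, γ, hgdeg, hhdeg, by rw [smul_eq_C_mul]⟩

end Aux

open Groth.Agent.Lib.helper8.WronskLib in
open Polynomial in
/-- With `k` of characteristic zero, `a, b, i` positive, `i ≤ a + b`, `j = a + b + 2 - i` and `V ⊆ k[X]`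
the linear system of the first assertion (marked points `A = 0`, `B = 1`, `C = ∞`; `V` spanned by
the multiples of `X^(a+1)` of degree at most `a+b`, the multiples of `(X-1)^(b+1)` of degree at most
`a+b`, and `X^(a+1) (X-1)^(b+1)`): if the point `P` is put at `A` and `Q = q` is any point other
than `C`, and both `dim V(-iA-jQ) ≥ 1` and `dim V(-(i-1)A-(j-1)Q) ≥ 2` hold, then `i ≥ a + 1`. (The
published statement is over the complex numbers.) -/
theorem result
    (k : Type*) [Field k] [CharZero k] (a b i j : ℕ) (ha : 0 < a) (hb : 0 < b) (hi : 0 < i) (hiab : i ≤ a + b)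
    (hj : i + j = a + b + 2)
    (V : Submodule k (Polynomial k))
    (hV : V = ((Ideal.span {(X : Polynomial k) ^ (a + 1)}).restrictScalars k ⊓ Polynomial.degreeLE k ↑(a + b)) ⊔
      ((Ideal.span {((X : Polynomial k) - 1) ^ (b + 1)}).restrictScalars k ⊓ Polynomial.degreeLE k ↑(a + b)) ⊔
      Submodule.span k {(X : Polynomial k) ^ (a + 1) * (X - 1) ^ (b + 1)})
    (q : k)
    (h1 : 1 ≤ Module.finrank k ↥(V ⊓ (Ideal.span {(X : Polynomial k) ^ i * (X - C q) ^ j}).restrictScalars k))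
    (h2 : 2 ≤ Module.finrank k ↥(V ⊓ (Ideal.span {(X : Polynomial k) ^ (i - 1) * (X - C q) ^ (j - 1)}).restrictScalars k)) :
    a + 1 ≤ i := by
  by_contra hcon
  have hia : i ≤ a := by omega
  obtain ⟨a', rfl⟩ : ∃ a', a = a' + 1 := ⟨a - 1, by omega⟩
  obtain ⟨b', rfl⟩ : ∃ b', b = b' + 1 := ⟨b - 1, by omega⟩
  obtain ⟨U, hU⟩ : ∃ U : Submodule k k[X], U = V ⊓
      (Ideal.span {(X : k[X]) ^ i * (X - C q) ^ j}).restrictScalars k := ⟨_, rfl⟩
  rw [← hU] at h1
  haveI : Nontrivial ↥U := Module.nontrivial_of_finrank_pos (R := k) (by omega)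
  obtain ⟨x, hx⟩ := exists_ne (0 : ↥U)
  have hmem : ∀ u ∈ U, u ∈ V ∧ X ^ i * (X - C q) ^ j ∣ u := by
    intro u hu
    rw [hU] at hu
    obtain ⟨h1', h2'⟩ := Submodule.mem_inf.1 hu
    exact ⟨h1', Ideal.mem_span_singleton.1 ((Submodule.restrictScalars_mem _ _ _).1 h2')⟩
  obtain ⟨hxV, hxdvd⟩ := hmem x x.2
  have hx0 : (x : k[X]) ≠ 0 := fun h => hx (Subtype.ext h)
  rcases eq_or_ne q 0 with rfl | hq0
  · -- q = 0
    rw [C_0, sub_zero, ← pow_add] at hxdvd
    obtain ⟨g₁, g₂, γ, hg₁, hg₂, hxe⟩ := decomp_V a' b' V hV x hxV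
    have hc := (X_pow_dvd_iff.1 hxdvd) (a' + b' + 3) (by omega)
    rw [hxe, coeff_add, coeff_add] at hc
    have c1 : (X ^ (a' + 1 + 1) * g₁ : k[X]).coeff (a' + b' + 3) = 0 := by
      have e : a' + b' + 3 = (b' + 1) + (a' + 1 + 1) := by omega
      rw [e, coeff_X_pow_mul]
      exact coeff_eq_zero_of_natDegree_lt (by omega)
    have d2 : ((X - 1) ^ (b' + 1 + 1) * g₂ : k[X]).natDegree ≤ b' + 1 + 1 + a' := by
      have := natDegree_mul_le (p := (X - 1 : k[X]) ^ (b' + 1 + 1)) (q := g₂)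
      rw [natDeg_Xm1_pow] at this
      omega
    have c2 : ((X - 1) ^ (b' + 1 + 1) * g₂ : k[X]).coeff (a' + b' + 3) = 0 :=
      coeff_eq_zero_of_natDegree_lt (by omega)
    have c3 : (C γ * (X ^ (a' + 1 + 1) * (X - 1) ^ (b' + 1 + 1)) : k[X]).coeff (a' + b' + 3) =
        γ * (-(((b' + 1 : ℕ) : k) + 1)) := by
      have e : a' + b' + 3 = (b' + 1) + (a' + 1 + 1) := by omega
      rw [coeff_C_mul, e, coeff_X_pow_mul, coeff_Xm1_pow_succ]
    rw [c1, c2, c3, zero_add, zero_add] at hc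
    have hγ : γ = 0 := by
      rcases mul_eq_zero.1 hc with h3 | h3
      · exact h3
      · exfalso
        rw [neg_eq_zero] at h3
        exact Nat.cast_add_one_ne_zero (b' + 1) h3
    have d1 : (X ^ (a' + 1 + 1) * g₁ : k[X]).natDegree ≤ a' + 1 + 1 + b' := by
      have h3 := natDegree_mul_le (p := (X : k[X]) ^ (a' + 1 + 1)) (q := g₁)
      have h4 := natDegree_X_pow_le (R := k) (a' + 1 + 1)
      omega
    have hxdeg : (x : k[X]).natDegree < a' + b' + 4 := by
      rw [hxe, hγ, C_0, zero_mul, add_zero]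
      exact (natDegree_add_le _ _).trans_lt (max_lt (by omega) (by omega))
    exact hx0 (eq_zero_of_dvd_of_natDegree_lt hxdvd (by rw [natDegree_X_pow]; omega))
  · rcases eq_or_ne q 1 with rfl | hq1
    · -- q = 1
      rw [C_1] at hxdvd
      obtain ⟨g₁, g₂, γ, hg₁, hg₂, hxe⟩ := decomp_V a' b' V hV x hxV
      have hj2 : b' + 1 + 1 ≤ j := by omega
      have hd : (X - 1 : k[X]) ^ (b' + 1 + 1) ∣ (x : k[X]) :=
        ((pow_dvd_pow _ hj2).trans (dvd_mul_left _ _)).trans hxdvd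
      have hd1 : (X - 1 : k[X]) ^ (b' + 1 + 1) ∣ X ^ (a' + 1 + 1) * g₁ := by
        have e : X ^ (a' + 1 + 1) * g₁ = (x : k[X]) - ((X - 1) ^ (b' + 1 + 1) * g₂ +
            C γ * (X ^ (a' + 1 + 1) * (X - 1) ^ (b' + 1 + 1))) := by rw [hxe]; ring
        rw [e]
        exact dvd_sub hd (dvd_add (dvd_mul_right _ _)
          (dvd_mul_of_dvd_right (dvd_mul_left _ _) _))
      have hcop01 : IsCoprime (X - 1 : k[X]) X := by
        have h3 := isCoprime_X_sub_C_of_isUnit_sub (R := k) (a := 1) (b := 0)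
          (isUnit_iff_ne_zero.2 (by rw [sub_zero]; exact one_ne_zero))
        rw [C_1, C_0, sub_zero] at h3
        exact h3
      have hg₁0 : g₁ = 0 := by
        have h3 : (X - 1 : k[X]) ^ (b' + 1 + 1) ∣ g₁ :=
          (hcop01.pow (m := b' + 1 + 1) (n := a' + 1 + 1)).dvd_of_dvd_mul_left hd1
        apply eq_zero_of_dvd_of_natDegree_lt h3
        rw [natDeg_Xm1_pow]; omega
      obtain ⟨y, hy⟩ : ∃ y, y = g₂ + C γ * X ^ (a' + 1 + 1) := ⟨_, rfl⟩
      have hx' : (x : k[X]) = (X - 1) ^ (b' + 1 + 1) * y := by rw [hxe, hg₁0, hy]; ring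
      obtain ⟨s, hs⟩ : ∃ s, j = (b' + 1 + 1) + s := ⟨j - (b' + 1 + 1), by omega⟩
      have hsi : i + s = a' + 1 + 1 := by omega
      have hs1 : 1 ≤ s := by omega
      have hdy : X ^ i * (X - 1) ^ s ∣ y := by
        rw [hs, pow_add, hx'] at hxdvd
        have e : X ^ i * ((X - 1 : k[X]) ^ (b' + 1 + 1) * (X - 1) ^ s) =
            (X - 1) ^ (b' + 1 + 1) * (X ^ i * (X - 1) ^ s) := by ring
        rw [e, mul_dvd_mul_iff_left (Xm1_pow_ne_zero _)] at hxdvd
        exact hxdvd
      have hy0 : y ≠ 0 := by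
        intro h0; rw [h0, mul_zero] at hx'; exact hx0 hx'
      obtain ⟨u, hu⟩ := hdy
      have hu0 : u ≠ 0 := by intro h0; rw [h0, mul_zero] at hu; exact hy0 hu
      have hydeg : y.natDegree ≤ a' + 1 + 1 := by
        rw [hy]
        exact (natDegree_add_le _ _).trans (max_le (by omega) (natDegree_C_mul_X_pow_le _ _))
      have hudeg : u.natDegree = 0 := by
        have h3 : y.natDegree = i + s + u.natDegree := by
          rw [hu, natDegree_mul (mul_ne_zero (pow_ne_zero _ X_ne_zero) (Xm1_pow_ne_zero _)) hu0,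
            natDegree_mul (pow_ne_zero _ X_ne_zero) (Xm1_pow_ne_zero _), natDegree_X_pow,
            natDeg_Xm1_pow]
        omega
      obtain ⟨c0, hc0⟩ : ∃ c0, u = C c0 := ⟨_, eq_C_of_natDegree_eq_zero hudeg⟩
      obtain ⟨s', rfl⟩ : ∃ s', s = s' + 1 := ⟨s - 1, by omega⟩
      have k1 : y.coeff (a' + 1) = 0 := by
        rw [hy, coeff_add, coeff_C_mul, coeff_X_pow, if_neg (by omega), mul_zero, add_zero]
        exact coeff_eq_zero_of_natDegree_lt (by omega)
      have k2 : y.coeff (a' + 1) = -((s' : k) + 1) * c0 := by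
        have e : a' + 1 = s' + i := by omega
        rw [hu, hc0, mul_assoc, e, coeff_X_pow_mul, coeff_mul_C, coeff_Xm1_pow_succ]
      rw [k1] at k2
      have hc00 : c0 = 0 := by
        rcases mul_eq_zero.1 k2.symm with h3 | h3
        · exfalso
          rw [neg_eq_zero] at h3
          exact Nat.cast_add_one_ne_zero s' h3
        · exact h3
      rw [hc00, C_0] at hc0
      exact hu0 hc0
    · -- generic q
      obtain ⟨P, hPd, hP⟩ := repr_V a' b' V hV x hxV
      obtain ⟨K, hK⟩ : ∃ K : k[X], K = X ^ (a' + 1) * (X - 1) ^ (b' + 1) := ⟨_, rfl⟩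
      have hKT : TT (a' + 1) (b' + 1) K = 0 := by rw [hK]; exact TT_K a' b'
      have hKq : K.eval q ≠ 0 := by
        rw [hK, eval_mul, eval_pow, eval_pow, eval_X, eval_sub, eval_X, eval_one]
        exact mul_ne_zero (pow_ne_zero _ hq0) (pow_ne_zero _ (sub_ne_zero.2 hq1))
      have hKd : K.natDegree ≤ a' + b' + 3 := by
        rw [hK]
        refine natDegree_mul_le.trans ?_
        have h3 := natDegree_X_pow_le (R := k) (a' + 1)
        have h4 := (natDeg_Xm1_pow (k := k) (b' + 1)).le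
        omega
      obtain ⟨Q, hQ⟩ : ∃ Q, Q = P - C (P.eval q / K.eval q) * K := ⟨_, rfl⟩
      have hQd : Q.natDegree ≤ a' + b' + 3 := by
        rw [hQ]
        exact (natDegree_sub_le _ _).trans (max_le hPd ((natDegree_C_mul_le _ _).trans hKd))
      have hQq : Q.eval q = 0 := by
        rw [hQ, eval_sub, eval_mul, eval_C, div_mul_cancel₀ _ hKq, sub_self]
      have hQT : TT (a' + 1) (b' + 1) Q = (x : k[X]) := by
        rw [hQ, TT_sub, TT_C_mul, hKT, mul_zero, sub_zero, hP]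
      have d1 : (X - C q) ^ (j + 1) ∣ Q :=
        pow_dvd_of (a' + 1) (b' + 1) q hq0 hq1 Q j hQq
          (by rw [hQT]; exact (dvd_mul_left _ _).trans hxdvd)
      have d0 : X ^ i ∣ Q :=
        X_pow_dvd_of (a' + 1) (b' + 1) Q i hia
          (by rw [hQT]; exact (dvd_mul_right _ _).trans hxdvd)
      have hcop : IsCoprime ((X : k[X]) ^ i) ((X - C q) ^ (j + 1)) := by
        apply IsCoprime.pow
        have h3 := isCoprime_X_sub_C_of_isUnit_sub (R := k) (a := 0) (b := q)
          (isUnit_iff_ne_zero.2 (by rw [zero_sub]; exact neg_ne_zero.2 hq0))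
        rw [C_0, sub_zero] at h3
        exact h3
      have d3 := hcop.mul_dvd d0 d1
      have hQ0 : Q = 0 := by
        apply eq_zero_of_dvd_of_natDegree_lt d3
        rw [natDegree_mul (pow_ne_zero _ X_ne_zero) (pow_ne_zero _ (X_sub_C_ne_zero q)),
          natDegree_X_pow, natDegree_pow, natDegree_X_sub_C, mul_one]
        omega
      rw [hQ0, TT_zero] at hQT
      exact hx0 hQT.symm

end Groth.Agent.S16261
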