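import Groth.Statements.S16262
import Mathlib

set_option autoImplicit false
open W4c3wronskmg

namespace Groth.Agent.S16262

section Aux
open Polynomial

theorem coeff_X_deriv {k : Type*} [Field k] (p : k[X]) (m : ℕ) :
    coeff (X * derivative p) m = (m : k) * coeff p m := by
  cases m with
  | zero => rw [coeff_X_mul_zero, Nat.cast_zero, zero_mul]
  | succ m => rw [coeff_X_mul, coeff_derivative]; push_cast; ring

theorem ode {k : Type*} [Field k] (i N : ℕ) (hi : 0 < i) (q : k) :
    (X + 1) * (X - C q) * derivative ((X + 1) ^ i * (X - C q) ^ N : k[X]) =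
      (C (i:k) * (X - C q) + C (N:k) * (X + 1)) * ((X + 1) ^ i * (X - C q) ^ N) := by
  have h1 : derivative ((X + 1 : k[X]) ^ i) = C (i:k) * (X + 1) ^ (i - 1) := by
    rw [derivative_pow, derivative_add, derivative_X, derivative_one, add_zero, mul_one]
  have h2 : (X + 1 : k[X]) ^ (i - 1) * (X + 1) = (X + 1) ^ i := pow_sub_one_mul (by omega) _
  have h3 : C (N:k) * (X - C q) ^ (N - 1) * (X - C q) = C (N:k) * (X - C q) ^ N := by
    rcases Nat.eq_zero_or_pos N with h | h
    · subst h; simp
    · rw [mul_assoc, pow_sub_one_mul (by omega)]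
  rw [derivative_mul, h1, derivative_X_sub_C_pow]
  linear_combination (C (i:k) * (X - C q) * (X - C q)^N) * h2 + ((X+1)^i * (X + 1)) * h3

theorem rec_coeff {k : Type*} [Field k] (F : k[X]) (c1 c2 c3 c4 : k)
    (h : X * (X * derivative F) + C c1 * (X * derivative F) - C c2 * derivative F =
      C c3 * (X * F) + C c4 * F) (m : ℕ) :
    (m:k) * coeff F m + c1 * (((m:k) + 1) * coeff F (m+1)) -
      c2 * (coeff F (m+2) * ((m:k) + 2)) = c3 * coeff F m + c4 * coeff F (m+1) := by
  have h' := congrArg (fun p => coeff p (m+1)) h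
  simp only [coeff_add, coeff_sub, coeff_C_mul, coeff_X_mul, coeff_X_deriv, coeff_derivative]
    at h'
  push_cast at h'
  linear_combination h'

end Aux

open Polynomial in
/-- Let `k` be a field of characteristic zero and `a, b, i` positive integers with `i < a + b`. On the
projective line with `A = 0`, `B = ∞`, `P = -1`, the system `V_{a,b} = H⁰(ω((1+a)A)) ⊕ H⁰(ω((1+b)B))
⊆ H⁰(O(a+b))` is the space of polynomials of degree at most `a+b` with vanishing coefficient of
`X^a`, and `V = V_{a,b}(-iP)` (divided by `(X+1)^i`) is the space of `G` of degree at most `a+b-i`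
such that the coefficient of `X^a` in `(X+1)^i G` vanishes; it is a linear system of dimension and
degree `a+b-i`. Then no point of the projective line other than `A` and `B` is a special
ramification point of `V` (a point of weight at least two); for such a system a point `q` of the
affine line is special exactly when two independent members are divisible by `(X-q)^(a+b-i-1)`, so
the statement is that this fails for every `q ≠ 0`. (The published statement does not except `A` and
`B`, but `A` has weight `max(b-i, 0)` in `V`, which is `2` for `a = 1, b = 3, i = 1`: there `X^3`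
and `X^2` both lie in `V`. It is stated over the complex numbers.) -/
theorem result
    (k : Type*) [Field k] [CharZero k] (a b i : ℕ) (ha : 0 < a) (hb : 0 < b) (hi : 0 < i) (hiab : i < a + b)
    (V : Submodule k (Polynomial k))
    (hV : V = Polynomial.degreeLE k ↑(a + b - i) ⊓
      LinearMap.ker ((Polynomial.lcoeff k a).comp (LinearMap.mulLeft k (((X : Polynomial k) + 1) ^ i))))
    (q : k) (hq : q ≠ 0) :
    Module.finrank k ↥(V ⊓ (Ideal.span {(X - C q) ^ (a + b - i - 1)}).restrictScalars k) ≤ 1 := by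
  obtain ⟨N, hN⟩ : ∃ N, N = a + b - i - 1 := ⟨_, rfl⟩
  obtain ⟨a', ha'⟩ : ∃ a', a = a' + 1 := ⟨a - 1, by omega⟩
  obtain ⟨F, hF⟩ : ∃ F : k[X], F = (X + 1) ^ i * (X - C q) ^ N := ⟨_, rfl⟩
  have hn : a + b - i = N + 1 := by omega
  have h1m : (X + 1 : k[X]).Monic := by
    have := monic_X_add_C (1:k); rwa [C_1] at this
  have hnz : ¬ (coeff F a' = 0 ∧ coeff F (a'+1) = 0) := by
    rintro ⟨h0, h1⟩
    have hB : X * (X * derivative F) + C (1 - q) * (X * derivative F) - C q * derivative F =
        C ((i:k) + N) * (X * F) + C ((N:k) - i * q) * F := by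
      have hA := ode i N hi q
      rw [← hF] at hA
      rw [C_sub, C_1, C_add, C_sub, C_mul]
      linear_combination hA
    have hrec := rec_coeff F _ _ _ _ hB
    have hall : ∀ t, coeff F (a' + t) = 0 ∧ coeff F (a' + t + 1) = 0 := by
      intro t
      induction t with
      | zero => exact ⟨h0, h1⟩
      | succ t ih =>
        refine ⟨ih.2, ?_⟩
        have := hrec (a' + t)
        rw [ih.1, ih.2] at this
        have hne : ((a' + t : ℕ) : k) + 2 ≠ 0 := by
          exact_mod_cast (by omega : a' + t + 2 ≠ 0)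
        have h2 : q * (coeff F (a' + t + 2) * (((a' + t : ℕ):k) + 2)) = 0 := by
          linear_combination -this
        rcases mul_eq_zero.1 h2 with h | h
        · exact absurd h hq
        · rcases mul_eq_zero.1 h with h | h
          · exact h
          · exact absurd h hne
    have hmonic : F.Monic := by
      rw [hF]
      exact (h1m.pow i).mul ((monic_X_sub_C q).pow N)
    have hdeg : F.natDegree = i + N := by
      rw [hF, Monic.natDegree_mul (h1m.pow i) ((monic_X_sub_C q).pow N),
        Monic.natDegree_pow h1m, Monic.natDegree_pow (monic_X_sub_C q), natDegree_X_sub_C]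
      have : (X + 1 : k[X]).natDegree = 1 := by
        have := natDegree_X_add_C (1:k); rwa [C_1] at this
      rw [this]; ring
    have hlead : coeff F (i + N) = 1 := by rw [← hdeg]; exact hmonic.coeff_natDegree
    have hidx : i + N = a' + (b - 1) + 1 := by omega
    rw [hidx, (hall (b-1)).2] at hlead
    exact zero_ne_one hlead
  subst hV
  obtain ⟨f0, hf0⟩ : ∃ f0, f0 = coeff F a' := ⟨_, rfl⟩
  obtain ⟨f1, hf1⟩ : ∃ f1, f1 = coeff F (a'+1) := ⟨_, rfl⟩
  rw [← hf0, ← hf1] at hnz
  have hcoef : ∀ α β : k,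
      coeff ((X+1)^i * ((X - C q)^N * (C α * X + C β))) a = α * f0 + β * f1 := by
    intro α β
    have : (X+1)^i * ((X - C q)^N * (C α * X + C β)) = (F * C α) * X + F * C β := by
      rw [hF]; ring
    rw [this, ha', coeff_add, coeff_mul_X, coeff_mul_C, coeff_mul_C, hf0, hf1]; ring
  have hmemiff : ∀ G : k[X], G ∈ (degreeLE k ↑(a + b - i) ⊓
      LinearMap.ker ((lcoeff k a).comp (LinearMap.mulLeft k (((X : k[X]) + 1) ^ i)))) ⊓
      (Ideal.span {(X - C q) ^ (a + b - i - 1)}).restrictScalars k ↔
      (G.degree ≤ ((N + 1 : ℕ) : WithBot ℕ) ∧ coeff ((X+1)^i * G) a = 0) ∧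
        (X - C q)^N ∣ G := by
    intro G
    rw [Submodule.mem_inf, Submodule.mem_inf, mem_degreeLE, LinearMap.mem_ker,
      Submodule.restrictScalars_mem, Ideal.mem_span_singleton, ← hN, hn]
    rfl
  have hlin : ∀ α β : k, ((X - C q)^N * (C α * X + C β)).degree ≤ ((N + 1 : ℕ) : WithBot ℕ) := by
    intro α β
    apply degree_le_of_natDegree_le
    refine natDegree_mul_le.trans (add_le_add ?_ natDegree_linear_le)
    exact natDegree_pow_le.trans (by rw [natDegree_X_sub_C, mul_one])
  have hv₀mem : (X - C q)^N * (C f1 * X + C (-f0)) ∈ (degreeLE k ↑(a + b - i) ⊓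
      LinearMap.ker ((lcoeff k a).comp (LinearMap.mulLeft k (((X : k[X]) + 1) ^ i)))) ⊓
      (Ideal.span {(X - C q) ^ (a + b - i - 1)}).restrictScalars k := by
    rw [hmemiff]
    refine ⟨⟨hlin _ _, ?_⟩, dvd_mul_right _ _⟩
    rw [hcoef]; ring
  refine finrank_le_one (⟨_, hv₀mem⟩ : ↥((degreeLE k ↑(a + b - i) ⊓
      LinearMap.ker ((lcoeff k a).comp (LinearMap.mulLeft k (((X : k[X]) + 1) ^ i)))) ⊓
      (Ideal.span {(X - C q) ^ (a + b - i - 1)}).restrictScalars k)) ?_
  rintro ⟨G, hG⟩
  obtain ⟨⟨hGdeg, hGker⟩, L, hL⟩ := (hmemiff G).1 hG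
  suffices h : ∃ c : k, c • ((X - C q)^N * (C f1 * X + C (-f0))) = G by
    obtain ⟨c, hc⟩ := h
    exact ⟨c, Subtype.ext hc⟩
  by_cases hL0 : L = 0
  · refine ⟨0, ?_⟩
    rw [hL, hL0, mul_zero, zero_smul]
  have hLdeg : L.natDegree ≤ 1 := by
    have h1 : G.natDegree ≤ N + 1 := natDegree_le_of_degree_le hGdeg
    have hp : (X - C q)^N ≠ 0 := pow_ne_zero _ (X_sub_C_ne_zero q)
    rw [hL, natDegree_mul hp hL0, natDegree_pow, natDegree_X_sub_C, mul_one] at h1
    omega
  obtain ⟨α, hα⟩ : ∃ α, α = L.coeff 1 := ⟨_, rfl⟩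
  obtain ⟨β, hβ⟩ : ∃ β, β = L.coeff 0 := ⟨_, rfl⟩
  have hLeq : L = C α * X + C β := by
    rw [hα, hβ]; exact eq_X_add_C_of_natDegree_le_one hLdeg
  rw [hL, hLeq, hcoef] at hGker
  have hfin : ∀ c : k, c * f1 = α → c * (-f0) = β →
      c • ((X - C q)^N * (C f1 * X + C (-f0))) = G := by
    intro c e1 e2
    rw [hL, hLeq, smul_eq_C_mul, ← e1, ← e2, C_mul, C_mul]
    ring
  by_cases hf1z : f1 = 0
  · have hf0z : f0 ≠ 0 := fun h => hnz ⟨h, hf1z⟩
    rw [hf1z, mul_zero, add_zero] at hGker
    have hαz : α = 0 := by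
      rcases mul_eq_zero.1 hGker with h | h
      · exact h
      · exact absurd h hf0z
    refine ⟨-β / f0, hfin _ ?_ ?_⟩
    · rw [hf1z, mul_zero, hαz]
    · rw [div_mul_eq_mul_div, div_eq_iff hf0z]; ring
  · refine ⟨α / f1, hfin _ (div_mul_cancel₀ α hf1z) ?_⟩
    rw [div_mul_eq_mul_div, div_eq_iff hf1z]
    linear_combination (-1:k) * hGker

end Groth.Agent.S16262
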