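import Groth.Statements.S16263
import Mathlib

set_option autoImplicit false
open W4c3wronskmg

namespace Groth.Agent.S16263

open Polynomial in
/-- Let `k` be a field of characteristic zero and `a` a positive integer. On the projective line with `A
= 0`, `B = -1`, `C = ∞`, the `(a+1)`-dimensional system `V = H⁰(ω((1+a)C)) ⊕ H⁰(ω(A+B)) ⊆
H⁰(ω((1+a)C + A + B)) ≅ H⁰(O(a+1))` is, in the affine coordinate, the space of polynomials `c + X
(X+1) F` with `c` a constant and `deg F ≤ a - 1`. Then `V` has no special ramification point (no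
point of weight at least two): since the members have degree at most `a + 1`, this says that for
every point `p` of the affine line at most a one-dimensional subspace of `V` is divisible by
`(X-p)^a`, and at `C` that at most a one-dimensional subspace has degree at most one (degree less
than two). (The published statement carries two further positive integers `i, j` with `i + j = a -
1`, used only in its second assertion, and is over the complex numbers.) -/
theorem result
    (k : Type*) [Field k] [CharZero k] (a : ℕ) (ha : 0 < a)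
    (V : Submodule k (Polynomial k))
    (hV : V = Submodule.span k {(1 : Polynomial k)} ⊔
      ((Ideal.span {(X : Polynomial k) * (X + 1)}).restrictScalars k ⊓ Polynomial.degreeLE k ↑(a + 1))) :
    (∀ p : k, Module.finrank k ↥(V ⊓ (Ideal.span {(X - C p) ^ a}).restrictScalars k) ≤ 1) ∧
      Module.finrank k ↥(V ⊓ Polynomial.degreeLT k 2) ≤ 1 := by
  classical
  let φ : Polynomial k →ₗ[k] k := Polynomial.leval 0 - Polynomial.leval (-1)
  have hφ : ∀ f : Polynomial k, φ f = f.eval 0 - f.eval (-1) := fun f => rfl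
  have h1mem : (1 : Polynomial k) ∈ Polynomial.degreeLE k ↑(a + 1) := by
    rw [Polynomial.mem_degreeLE]
    exact Polynomial.degree_one_le.trans (by exact_mod_cast Nat.zero_le (a + 1))
  have hVdeg : V ≤ Polynomial.degreeLE k ↑(a + 1) := by
    rw [hV]
    exact sup_le (Submodule.span_le.mpr (Set.singleton_subset_iff.mpr h1mem)) inf_le_right
  have hVφ : V ≤ LinearMap.ker φ := by
    rw [hV]
    refine sup_le (Submodule.span_le.mpr (Set.singleton_subset_iff.mpr ?_)) ?_
    · rw [SetLike.mem_coe, LinearMap.mem_ker, hφ]; simp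
    · rintro z ⟨hz, -⟩
      obtain ⟨h, rfl⟩ := Ideal.mem_span_singleton'.mp ((Submodule.restrictScalars_mem _ _ _).mp hz)
      rw [LinearMap.mem_ker, hφ]; simp
  have hwb : ∀ f : Polynomial k, f.degree < ((2:ℕ) : WithBot ℕ) → f.natDegree ≤ 1 := by
    intro f hf
    by_cases hf0 : f = 0
    · rw [hf0, Polynomial.natDegree_zero]; exact Nat.zero_le 1
    · have h2 : f.natDegree < 2 := (Polynomial.natDegree_lt_iff_degree_lt hf0).mpr hf
      omega
  have gen : ∀ x A B : k, (C x * (C B - C A * X) : Polynomial k) = C (-(x * A)) * X + C (x * B) := by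
    intro x A B
    simp only [map_neg, map_mul]
    ring
  refine ⟨fun p => ?_, ?_⟩
  · obtain ⟨D, hD⟩ : ∃ D : Polynomial k, D = (X - C p) ^ a := ⟨_, rfl⟩
    rw [← hD]
    have hDmonic : D.Monic := by rw [hD]; exact (Polynomial.monic_X_sub_C p).pow a
    have hDdeg : D.natDegree = a := by
      rw [hD, Polynomial.natDegree_pow, Polynomial.natDegree_X_sub_C, mul_one]
    have hD0 : D.eval 0 = (-p) ^ a := by simp [hD]
    have hD1 : D.eval (-1) = (-1 - p) ^ a := by simp [hD]
    obtain ⟨P0, hP0⟩ : ∃ P0 : k, P0 = (-p) ^ a := ⟨_, rfl⟩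
    obtain ⟨P1, hP1⟩ : ∃ P1 : k, P1 = (-1 - p) ^ a := ⟨_, rfl⟩
    rw [← hP0] at hD0
    rw [← hP1] at hD1
    have hP : ¬ (P0 = 0 ∧ P1 = 0) := by
      rintro ⟨h0, h1⟩
      rw [hP0] at h0
      rw [hP1] at h1
      have h0' : -p = 0 := (pow_eq_zero_iff ha.ne').mp h0
      have h1' : -1 - p = 0 := (pow_eq_zero_iff ha.ne').mp h1
      have h2 : (1 : k) = 0 := by linear_combination h0' - h1'
      exact one_ne_zero h2
    have hle : V ⊓ (Ideal.span {D}).restrictScalars k ≤
        Submodule.span k {(C P1 - C (P0 - P1) * X) * D} := by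
      rintro w ⟨hwV, hwD⟩
      obtain ⟨g, rfl⟩ :=
        Ideal.mem_span_singleton'.mp ((Submodule.restrictScalars_mem _ _ _).mp hwD)
      have hgdeg : g.natDegree ≤ 1 := by
        by_cases hg : g = 0
        · rw [hg, Polynomial.natDegree_zero]; exact Nat.zero_le 1
        · have h1 : (g * D).degree ≤ ↑(a + 1) := Polynomial.mem_degreeLE.mp (hVdeg hwV)
          have h2 : (g * D).natDegree = g.natDegree + a := by
            rw [Polynomial.natDegree_mul hg hDmonic.ne_zero, hDdeg]
          have h3 : (g * D).natDegree ≤ a + 1 := Polynomial.natDegree_le_of_degree_le h1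
          omega
      have hg := Polynomial.eq_X_add_C_of_natDegree_le_one hgdeg
      obtain ⟨c1, hc1⟩ : ∃ c, c = g.coeff 1 := ⟨_, rfl⟩
      obtain ⟨c0, hc0⟩ : ∃ c, c = g.coeff 0 := ⟨_, rfl⟩
      rw [← hc1, ← hc0] at hg
      have hφw : φ (g * D) = 0 := hVφ hwV
      rw [hφ, Polynomial.eval_mul, Polynomial.eval_mul, hD0, hD1, hg] at hφw
      have e0 : (C c1 * X + C c0 : Polynomial k).eval 0 = c0 := by simp
      have e1 : (C c1 * X + C c0 : Polynomial k).eval (-1) = -c1 + c0 := by simp
      rw [e0, e1] at hφw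
      rw [Submodule.mem_span_singleton]
      have hx : ∃ x : k, c0 = x * P1 ∧ c1 = -(x * (P0 - P1)) := by
        by_cases hB : P1 = 0
        · have hA : P0 ≠ 0 := fun h => hP ⟨h, hB⟩
          have hc00 : c0 = 0 := by
            rw [hB] at hφw
            have h5 : c0 * P0 = 0 := by linear_combination hφw
            exact (mul_eq_zero.mp h5).resolve_right hA
          refine ⟨-c1 / P0, ?_, ?_⟩
          · rw [hB, mul_zero, hc00]
          · rw [hB, sub_zero]; field_simp
        · refine ⟨c0 / P1, ?_, ?_⟩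
          · rw [div_mul_cancel₀ _ hB]
          · have h5 : c1 * P1 = -(c0 * (P0 - P1)) := by linear_combination hφw
            have h6 : c1 = (-(c0 * (P0 - P1))) / P1 := by rw [eq_div_iff hB]; exact h5
            rw [h6]; ring
      obtain ⟨x, hx0, hx1⟩ := hx
      refine ⟨x, ?_⟩
      rw [hg, hx0, hx1, Polynomial.smul_eq_C_mul, ← mul_assoc, gen]
    calc Module.finrank k ↥(V ⊓ (Ideal.span {D}).restrictScalars k)
        ≤ Module.finrank k ↥(Submodule.span k {(C P1 - C (P0 - P1) * X) * D}) :=
          Submodule.finrank_mono hle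
      _ ≤ 1 := by
        by_cases hv : (C P1 - C (P0 - P1) * X) * D = 0
        · rw [hv, Submodule.span_zero_singleton, finrank_bot]; exact zero_le_one
        · rw [finrank_span_singleton hv]
  · have hone : (1 : Polynomial k) ∈ V ⊓ Polynomial.degreeLT k 2 := by
      refine ⟨?_, ?_⟩
      · rw [hV]; exact Submodule.mem_sup_left (Submodule.subset_span rfl)
      · exact Polynomial.mem_degreeLT.mpr
          (lt_of_le_of_lt Polynomial.degree_one_le (by exact_mod_cast (by norm_num : (0:ℕ) < 2)))
    refine finrank_le_one (⟨1, hone⟩ : ↥(V ⊓ Polynomial.degreeLT k 2)) ?_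
    rintro ⟨w, hwV, hw2⟩
    have hw := Polynomial.eq_X_add_C_of_natDegree_le_one (hwb _ (Polynomial.mem_degreeLT.mp hw2))
    obtain ⟨c1, hc1⟩ : ∃ c, c = w.coeff 1 := ⟨_, rfl⟩
    obtain ⟨c0, hc0⟩ : ∃ c, c = w.coeff 0 := ⟨_, rfl⟩
    rw [← hc1, ← hc0] at hw
    have hφw : φ w = 0 := hVφ hwV
    rw [hφ, hw] at hφw
    have e0 : (C c1 * X + C c0 : Polynomial k).eval 0 = c0 := by simp
    have e1 : (C c1 * X + C c0 : Polynomial k).eval (-1) = -c1 + c0 := by simp
    rw [e0, e1] at hφw
    have hc10 : c1 = 0 := by linear_combination hφw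
    refine ⟨c0, Subtype.ext ?_⟩
    change c0 • (1 : Polynomial k) = w
    rw [hw, hc10, Polynomial.smul_eq_C_mul, mul_one, map_zero, zero_mul, zero_add]

end Groth.Agent.S16263
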