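import Groth.Statements.S16264
import Mathlib

set_option autoImplicit false
open W4c3wronskmg

namespace Groth.Agent.S16264

open Polynomial in
/-- Let `k` be a field of characteristic zero and `a, i, j` positive integers with `i + j = a - 1`. With
`A = 0`, `B = -1`, `C = ∞` on the projective line and `V` the `(a+1)`-dimensional system of
polynomials `c + X (X+1) F`, `deg F ≤ a - 1` (that is, `H⁰(ω((1+a)C)) ⊕ H⁰(ω(A+B)) ⊆ H⁰(O(a+1))`),
the pairs of points `(P, Q) = (p, q)` of the affine line with `dim V(-iP-jQ) ≥ 3`, i.e. with at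
least a three-dimensional subspace of `V` divisible by `(X-p)^i (X-q)^j`, are exactly `(A, B)` and
`(B, A)`. (Here `P, Q` range over the points other than `C`; when one of them is `C` the dimension
is at most two for degree reasons. The published statement is over the complex numbers.) -/
theorem result
    (k : Type*) [Field k] [CharZero k] (a i j : ℕ) (hi : 0 < i) (hj : 0 < j) (hij : i + j + 1 = a)
    (V : Submodule k (Polynomial k))
    (hV : V = Submodule.span k {(1 : Polynomial k)} ⊔
      ((Ideal.span {(X : Polynomial k) * (X + 1)}).restrictScalars k ⊓ Polynomial.degreeLE k ↑(a + 1)))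
    (p q : k) :
    3 ≤ Module.finrank k ↥(V ⊓ (Ideal.span {(X - C p) ^ i * (X - C q) ^ j}).restrictScalars k) ↔
      (p = 0 ∧ q = -1) ∨ (p = -1 ∧ q = 0) := by
  classical
  let φ : Polynomial k →ₗ[k] k := Polynomial.leval 0 - Polynomial.leval (-1)
  have hφ : ∀ f : Polynomial k, φ f = f.eval 0 - f.eval (-1) := fun f => rfl
  have h1mem : (1 : Polynomial k) ∈ Polynomial.degreeLE k ↑(a + 1) := by
    rw [Polynomial.mem_degreeLE]
    exact Polynomial.degree_one_le.trans (by exact_mod_cast Nat.zero_le (a + 1))
  have hVdeg : V ≤ Polynomial.degreeLE k ↑(a + 1) := by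
    rw [hV]
    exact sup_le (Submodule.span_le.mpr (Set.singleton_subset_iff.mpr h1mem)) inf_le_right
  have hVφ : V ≤ LinearMap.ker φ := by
    rw [hV]
    refine sup_le (Submodule.span_le.mpr (Set.singleton_subset_iff.mpr ?_)) ?_
    · rw [SetLike.mem_coe, LinearMap.mem_ker, hφ]; simp
    · rintro z ⟨hz, -⟩
      obtain ⟨h, rfl⟩ := Ideal.mem_span_singleton'.mp ((Submodule.restrictScalars_mem _ _ _).mp hz)
      rw [LinearMap.mem_ker, hφ]; simp
  have hdeg3 : ∀ f : Polynomial k, f.degree < ((3:ℕ) : WithBot ℕ) → f.natDegree ≤ 2 := by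
    intro f hf
    by_cases hf0 : f = 0
    · rw [hf0, Polynomial.natDegree_zero]; exact Nat.zero_le 2
    · have h2 : f.natDegree < 3 := (Polynomial.natDegree_lt_iff_degree_lt hf0).mpr hf
      omega
  obtain ⟨D, hD⟩ : ∃ D : Polynomial k, D = (X - C p) ^ i * (X - C q) ^ j := ⟨_, rfl⟩
  rw [← hD]
  have hDmonic : D.Monic := by
    rw [hD]; exact ((Polynomial.monic_X_sub_C p).pow i).mul ((Polynomial.monic_X_sub_C q).pow j)
  have hDdeg : D.natDegree = i + j := by
    rw [hD, Polynomial.natDegree_mul (pow_ne_zero _ (Polynomial.X_sub_C_ne_zero p))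
      (pow_ne_zero _ (Polynomial.X_sub_C_ne_zero q)), Polynomial.natDegree_pow,
      Polynomial.natDegree_pow, Polynomial.natDegree_X_sub_C, Polynomial.natDegree_X_sub_C,
      mul_one, mul_one]
  have hD0 : D.eval 0 = (-p) ^ i * (-q) ^ j := by simp [hD]
  have hD1 : D.eval (-1) = (-1 - p) ^ i * (-1 - q) ^ j := by simp [hD]
  have hWle : V ⊓ (Ideal.span {D}).restrictScalars k ≤
      Submodule.map (LinearMap.mulRight k D) (Polynomial.degreeLT k 3) := by
    rintro w ⟨hwV, hwD⟩
    obtain ⟨g, rfl⟩ :=
      Ideal.mem_span_singleton'.mp ((Submodule.restrictScalars_mem _ _ _).mp hwD)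
    refine ⟨g, ?_, rfl⟩
    rw [SetLike.mem_coe, Polynomial.mem_degreeLT]
    by_cases hg : g = 0
    · rw [hg, Polynomial.degree_zero]; exact WithBot.bot_lt_coe _
    · have h1 : (g * D).degree ≤ ↑(a + 1) := Polynomial.mem_degreeLE.mp (hVdeg hwV)
      have h2 : (g * D).natDegree = g.natDegree + (i + j) := by
        rw [Polynomial.natDegree_mul hg hDmonic.ne_zero, hDdeg]
      have h3 : (g * D).natDegree ≤ a + 1 := Polynomial.natDegree_le_of_degree_le h1
      have h4 : g.natDegree < 3 := by omega
      exact (Polynomial.natDegree_lt_iff_degree_lt hg).mp h4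
  have hfin3 : Module.finrank k (Polynomial.degreeLT k 3) = 3 := by
    rw [(Polynomial.degreeLTEquiv k 3).finrank_eq, Module.finrank_fin_fun]
  haveI : Module.Finite k (Polynomial.degreeLT k 3) :=
    Module.Finite.equiv (Polynomial.degreeLTEquiv k 3).symm
  have hinj : Function.Injective (LinearMap.mulRight k D) := by
    intro x y hxy
    exact mul_right_cancel₀ hDmonic.ne_zero hxy
  have hfinW' : Module.finrank k
      (Submodule.map (LinearMap.mulRight k D) (Polynomial.degreeLT k 3)) = 3 := by
    exact ((Submodule.equivMapOfInjective (LinearMap.mulRight k D) hinj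
      (Polynomial.degreeLT k 3)).finrank_eq.symm).trans hfin3
  constructor
  · intro h3
    have key : D.eval 0 = 0 ∧ D.eval (-1) = 0 := by
      by_contra hc
      have hex : ∃ w' ∈ Submodule.map (LinearMap.mulRight k D) (Polynomial.degreeLT k 3),
          φ w' ≠ 0 := by
        by_cases h0 : D.eval 0 = 0
        · have h1 : D.eval (-1) ≠ 0 := fun h => hc ⟨h0, h⟩
          refine ⟨X * D, ⟨X, ?_, rfl⟩, ?_⟩
          · rw [SetLike.mem_coe, Polynomial.mem_degreeLT, Polynomial.degree_X]
            exact_mod_cast (by norm_num : (1:ℕ) < 3)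
          · have e : φ (X * D) = D.eval (-1) := by rw [hφ]; simp
            rw [e]; exact h1
        · refine ⟨(X + C 1) * D, ⟨X + C 1, ?_, rfl⟩, ?_⟩
          · rw [SetLike.mem_coe, Polynomial.mem_degreeLT, Polynomial.degree_X_add_C]
            exact_mod_cast (by norm_num : (1:ℕ) < 3)
          · have e : φ ((X + C 1) * D) = D.eval 0 := by rw [hφ]; simp
            rw [e]; exact h0
      obtain ⟨w', hw'mem, hw'φ⟩ := hex
      have hlt : V ⊓ (Ideal.span {D}).restrictScalars k <
          Submodule.map (LinearMap.mulRight k D) (Polynomial.degreeLT k 3) := by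
        refine lt_of_le_of_ne hWle ?_
        intro heq
        rw [← heq] at hw'mem
        exact hw'φ (LinearMap.mem_ker.mp (hVφ hw'mem.1))
      have h5 := Submodule.finrank_lt_finrank_of_lt hlt
      rw [hfinW'] at h5
      omega
    obtain ⟨k0, k1⟩ := key
    rw [hD0, mul_eq_zero, pow_eq_zero_iff hi.ne', pow_eq_zero_iff hj.ne', neg_eq_zero,
      neg_eq_zero] at k0
    rw [hD1, mul_eq_zero, pow_eq_zero_iff hi.ne', pow_eq_zero_iff hj.ne', sub_eq_zero,
      sub_eq_zero] at k1
    rcases k0 with h0 | h0
    · rcases k1 with h | h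
      · exfalso
        rw [h0] at h
        exact one_ne_zero (neg_eq_zero.mp h)
      · left; exact ⟨h0, h.symm⟩
    · rcases k1 with h | h
      · right; exact ⟨h.symm, h0⟩
      · exfalso
        rw [h0] at h
        exact one_ne_zero (neg_eq_zero.mp h)
  · intro hpq
    have hdvd : ∃ E : Polynomial k, D = E * (X * (X + 1)) := by
      obtain ⟨i', hi'⟩ := Nat.exists_eq_add_of_le hi
      obtain ⟨j', hj'⟩ := Nat.exists_eq_add_of_le hj
      rcases hpq with ⟨hp, hq⟩ | ⟨hp, hq⟩
      · refine ⟨X ^ i' * (X + 1) ^ j', ?_⟩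
        rw [hD, hp, hq, hi', hj']
        simp only [map_zero, sub_zero, map_neg, map_one, sub_neg_eq_add]
        ring
      · refine ⟨(X + 1) ^ i' * X ^ j', ?_⟩
        rw [hD, hp, hq, hi', hj']
        simp only [map_zero, sub_zero, map_neg, map_one, sub_neg_eq_add]
        ring
    obtain ⟨E, hE⟩ := hdvd
    have hW'le : Submodule.map (LinearMap.mulRight k D) (Polynomial.degreeLT k 3) ≤
        V ⊓ (Ideal.span {D}).restrictScalars k := by
      rintro _ ⟨g, hg, rfl⟩
      have hg2 : g.natDegree ≤ 2 := hdeg3 g (Polynomial.mem_degreeLT.mp hg)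
      rw [LinearMap.mulRight_apply]
      refine ⟨?_, ?_⟩
      · rw [hV]
        apply Submodule.mem_sup_right
        refine ⟨?_, ?_⟩
        · apply (Submodule.restrictScalars_mem _ _ _).mpr
          exact Ideal.mem_span_singleton'.mpr ⟨g * E, by rw [hE]; ring⟩
        · apply Polynomial.mem_degreeLE.mpr
          apply Polynomial.degree_le_of_natDegree_le
          have h6 := Polynomial.natDegree_mul_le (p := g) (q := D)
          omega
      · apply (Submodule.restrictScalars_mem _ _ _).mpr
        exact Ideal.mem_span_singleton'.mpr ⟨g, rfl⟩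
    have heq : V ⊓ (Ideal.span {D}).restrictScalars k =
        Submodule.map (LinearMap.mulRight k D) (Polynomial.degreeLT k 3) :=
      le_antisymm hWle hW'le
    rw [heq, hfinW']

end Groth.Agent.S16264
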