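import Groth.Statements.S16266
import Mathlib
import Groth.Agent.Lib.lead.FF13
-- import your own Groth.Agent.* helpers here

set_option autoImplicit false
open FunFld

namespace Groth.Agent.S16266
open FunFld Groth.Agent.Lib.lead.FF Groth.Agent.Lib.lead.FF4 Groth.Agent.Lib.lead.FF5 Groth.Agent.Lib.lead.FF6 Groth.Agent.Lib.lead.FF7 Groth.Agent.Lib.lead.FF8 Groth.Agent.Lib.lead.FF9 Groth.Agent.Lib.lead.FF10 Groth.Agent.Lib.lead.FF11 Groth.Agent.Lib.lead.FF12 Groth.Agent.Lib.lead.FF13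


/-- Let `K/k` be a function field of one variable over an algebraically closed field `k` of
characteristic zero, `D` a divisor, `V ⊆ L(D)` a linear system of dimension `r + 1` with `r ≥ 1`,
and `P` a place with `V' = V(-P) = V ∩ L(D - P) ≠ V`, an `r`-dimensional system in `L(D - P)`.
Assume that neither `V` nor `V'` has a special ramification point (a place of weight at least two):
for every place `R`, `dim V ∩ L(D - rR) ≤ 1`, `V ∩ L(D - (r+2)R) = 0`, `dim V' ∩ L(D - P - (r-1)R) ≤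
1` and `V' ∩ L(D - P - (r+1)R) = 0`. Then no place `Q ≠ P` is a ramification point of both `V` and
`V'`: for no such `Q` are both `V ∩ L(D - (r+1)Q)` and `V' ∩ L(D - P - rQ)` nonzero. (The published
statement is for a smooth curve over the complex numbers.) -/
theorem result
    (k K : Type*) [Field k] [IsAlgClosed k] [CharZero k] [Field K] [Algebra k K]
    (hK : FunFld.IsFunctionField k K) (D : FunFld.Divisor k K)
    (V : Submodule k K) (hVD : V ≤ FunFld.L D) (r : ℕ) (hr : Module.finrank k ↥V = r + 1) (hr1 : 1 ≤ r)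
    (P : FunFld.Place k K) (hP : V ⊓ FunFld.L (D - Finsupp.single P 1) ≠ V)
    (hns : ∀ R : FunFld.Place k K,
      Module.finrank k ↥(V ⊓ FunFld.L (D - Finsupp.single R (r : ℤ))) ≤ 1 ∧
        V ⊓ FunFld.L (D - Finsupp.single R ((r : ℤ) + 2)) = ⊥)
    (hns' : ∀ R : FunFld.Place k K,
      Module.finrank k ↥(V ⊓ FunFld.L (D - Finsupp.single P 1 - Finsupp.single R ((r : ℤ) - 1))) ≤ 1 ∧
        V ⊓ FunFld.L (D - Finsupp.single P 1 - Finsupp.single R ((r : ℤ) + 1)) = ⊥)
    (Q : FunFld.Place k K) (hQP : Q ≠ P) :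
    ¬ (V ⊓ FunFld.L (D - Finsupp.single Q ((r : ℤ) + 1)) ≠ ⊥ ∧
       V ⊓ FunFld.L (D - Finsupp.single P 1 - Finsupp.single Q (r : ℤ)) ≠ ⊥) := by
  classical
  rintro ⟨h1, h2⟩
  obtain ⟨s, hs, hs0⟩ := (Submodule.ne_bot_iff _).1 h1
  obtain ⟨t, ht, ht0⟩ := (Submodule.ne_bot_iff _).1 h2
  haveI : Module.Finite k ↥V := Module.finite_of_finrank_pos (by rw [hr]; omega)
  haveI : Module.Finite k ↥(V ⊓ FunFld.L (D - Finsupp.single Q (r : ℤ))) :=
    Submodule.finiteDimensional_of_le inf_le_left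
  have hle1 : D - Finsupp.single Q ((r : ℤ) + 1) ≤ D - Finsupp.single Q (r : ℤ) := by
    intro R
    simp only [Finsupp.sub_apply, Finsupp.single_apply]
    split_ifs <;> omega
  have hle2 : D - Finsupp.single P 1 - Finsupp.single Q (r : ℤ) ≤ D - Finsupp.single Q (r : ℤ) := by
    intro R
    simp only [Finsupp.sub_apply, Finsupp.single_apply]
    split_ifs <;> omega
  have hsU : s ∈ V ⊓ FunFld.L (D - Finsupp.single Q (r : ℤ)) := ⟨hs.1, L_mono hle1 hs.2⟩
  have htU : t ∈ V ⊓ FunFld.L (D - Finsupp.single Q (r : ℤ)) := ⟨ht.1, L_mono hle2 ht.2⟩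
  obtain ⟨c, hc⟩ := dependent_of_finrank_le_one (hns Q).1 hsU htU ht0
  have hsL' : s ∈ FunFld.L (D - Finsupp.single P 1 - Finsupp.single Q (r : ℤ)) := by
    rw [hc]
    exact Submodule.smul_mem _ c ht.2
  have hsL : s ∈ FunFld.L (D - Finsupp.single P 1 - Finsupp.single Q ((r : ℤ) + 1)) := by
    refine (mem_L_iff _ _).2 fun R => ?_
    by_cases hR : R = Q
    · refine ((mem_L_iff _ _).1 hs.2 R).trans (WithZero.exp_le_exp.2 ?_)
      rw [hR]
      have h0 : (Finsupp.single P 1 : FunFld.Divisor k K) Q = 0 := by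
        rw [Finsupp.single_apply, if_neg (Ne.symm hQP)]
      simp only [Finsupp.sub_apply, Finsupp.single_eq_same, h0]
      omega
    · refine ((mem_L_iff _ _).1 hsL' R).trans (WithZero.exp_le_exp.2 ?_)
      have h1 : ∀ x : ℤ, (Finsupp.single Q x : FunFld.Divisor k K) R = 0 := fun x => by
        rw [Finsupp.single_apply, if_neg (Ne.symm hR)]
      simp only [Finsupp.sub_apply, h1]
      omega
  have hbot := (hns' Q).2
  have hmem : s ∈ V ⊓ FunFld.L (D - Finsupp.single P 1 - Finsupp.single Q ((r : ℤ) + 1)) :=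
    ⟨hs.1, hsL⟩
  rw [hbot, Submodule.mem_bot] at hmem
  exact hs0 hmem

end Groth.Agent.S16266
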