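import Groth.Statements.S16312
import Mathlib
-- import your own Groth.Agent.* helpers here

set_option autoImplicit false
universe u
open W4c3irrattreebun

namespace Groth.Agent.S16312

/-- Let N be a closed cone in real n-space, f a function continuous on N, positive at the nonzero points
of N and homogeneous of degree one under scaling by nonnegative reals, and Λ a discrete additive
subgroup. Then for every real c the set of points H of Λ lying in N with f(H) ≤ c is finite. (The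
published statement takes Λ to be a lattice; this row allows any discrete additive subgroup.) -/
theorem result (n : ℕ)
    (N : Set (EuclideanSpace ℝ (Fin n))) (hN : IsClosed N)
    (hcone : ∀ x ∈ N, ∀ r : ℝ, 0 ≤ r → r • x ∈ N)
    (f : EuclideanSpace ℝ (Fin n) → ℝ) (hf : ContinuousOn f N)
    (hpos : ∀ x ∈ N, x ≠ 0 → 0 < f x)
    (hhom : ∀ x ∈ N, ∀ r : ℝ, 0 ≤ r → f (r • x) = r * f x)
    (Λ : Submodule ℤ (EuclideanSpace ℝ (Fin n))) [DiscreteTopology Λ] (c : ℝ) :
    ({x : EuclideanSpace ℝ (Fin n) | x ∈ N ∧ f x ≤ c} ∩ (Λ : Set (EuclideanSpace ℝ (Fin n)))).Finite := by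
  classical
  have hΛclosed : IsClosed (Λ : Set (EuclideanSpace ℝ (Fin n))) := by
    have : DiscreteTopology Λ.toAddSubgroup := inferInstanceAs (DiscreteTopology Λ)
    rw [← Submodule.coe_toAddSubgroup]
    exact AddSubgroup.isClosed_of_discrete
  have hfin : ∀ r : ℝ, (Metric.closedBall (0 : EuclideanSpace ℝ (Fin n)) r ∩
      (Λ : Set (EuclideanSpace ℝ (Fin n)))).Finite := fun r =>
    Metric.finite_isBounded_inter_isClosed DiscreteTopology.isDiscrete
      Metric.isBounded_closedBall hΛclosed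
  have hnorm : ∀ x ∈ N, x ≠ 0 → (‖x‖⁻¹ • x ∈ N ∩ Metric.sphere (0 : EuclideanSpace ℝ (Fin n)) 1) ∧
      f x = ‖x‖ * f (‖x‖⁻¹ • x) := by
    intro x hxN hx0
    have hnx : 0 < ‖x‖ := norm_pos_iff.mpr hx0
    have huN : ‖x‖⁻¹ • x ∈ N := hcone x hxN _ (inv_nonneg.mpr hnx.le)
    have hu1 : ‖(‖x‖⁻¹ • x)‖ = 1 := by
      rw [norm_smul, norm_inv, norm_norm, inv_mul_cancel₀ hnx.ne']
    refine ⟨⟨huN, by rw [mem_sphere_zero_iff_norm]; exact hu1⟩, ?_⟩
    have hux : ‖x‖ • (‖x‖⁻¹ • x) = x := by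
      rw [smul_smul, mul_inv_cancel₀ hnx.ne', one_smul]
    have := hhom _ huN ‖x‖ hnx.le
    rw [hux] at this
    exact this
  by_cases hK : (N ∩ Metric.sphere (0 : EuclideanSpace ℝ (Fin n)) 1).Nonempty
  · obtain ⟨u₀, hu₀, hmin⟩ := ((isCompact_sphere (0 : EuclideanSpace ℝ (Fin n)) 1).inter_left
      hN).exists_isMinOn hK (hf.mono Set.inter_subset_left)
    have hu₀0 : u₀ ≠ 0 := by
      intro h
      have := hu₀.2
      rw [h, mem_sphere_zero_iff_norm, norm_zero] at this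
      exact zero_ne_one this
    have hδ : 0 < f u₀ := hpos u₀ hu₀.1 hu₀0
    refine (hfin (|c| / f u₀)).subset ?_
    rintro x ⟨⟨hxN, hxc⟩, hxΛ⟩
    refine ⟨?_, hxΛ⟩
    rw [mem_closedBall_zero_iff]
    by_cases hx0 : x = 0
    · rw [hx0, norm_zero]
      exact div_nonneg (abs_nonneg _) hδ.le
    · obtain ⟨huK, hfx⟩ := hnorm x hxN hx0
      have h1 : f u₀ ≤ f (‖x‖⁻¹ • x) := isMinOn_iff.mp hmin _ huK
      rw [le_div_iff₀ hδ]
      calc ‖x‖ * f u₀ ≤ ‖x‖ * f (‖x‖⁻¹ • x) := mul_le_mul_of_nonneg_left h1 (norm_nonneg _)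
        _ = f x := hfx.symm
        _ ≤ c := hxc
        _ ≤ |c| := le_abs_self c
  · refine (Set.finite_singleton (0 : EuclideanSpace ℝ (Fin n))).subset ?_
    rintro x ⟨⟨hxN, -⟩, -⟩
    by_contra hx0
    exact hK ⟨_, (hnorm x hxN hx0).1⟩

end Groth.Agent.S16312
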