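import Groth.Statements.S16325
import Mathlib
import Groth.Agent.Lib.helper8.HomElem

set_option autoImplicit false
universe u v
open CategoryTheory
open W4c3biextchow

namespace Groth.Agent.S16325

/-- Let f : C ⟶ D be a chain map of ℕ-indexed chain complexes of modules over a ring R, and consider the
functor it induces between the groupoids attached to C and D (objects: degree-0 elements; morphisms
a ⟶ b: degree-1 elements with boundary b - a, modulo boundaries of degree-2 elements). This functor
is faithful if and only if f is injective on homology in degree 1. (The published statement is for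
complexes of abelian groups; this row allows modules over any ring R.) -/
theorem result
    (R : Type u) [Ring R] (C D : ChainComplex (ModuleCat.{v} R) ℕ) (f : C ⟶ D) :
    (W4c3biextchow.cxFunctor f).Faithful ↔ Mono (HomologicalComplex.homologyMap f 1) := by
  rw [H8HE.mono_homologyMap_iff f 2 1 0 (ChainComplex.prev ℕ 1) (ChainComplex.next_nat_succ 0)]
  constructor
  · intro hF x hx hy
    obtain ⟨y, hy⟩ := hy
    have hd : delta C (Submodule.Quotient.mk x) = (⟨0⟩ : Obj C).pt - (⟨0⟩ : Obj C).pt := by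
      rw [delta_mk, hx, sub_self]
    obtain ⟨φ, hφ⟩ : ∃ φ : (⟨0⟩ : Obj C) ⟶ (⟨0⟩ : Obj C),
        (φ : Hom C _ _).cl = Submodule.Quotient.mk x :=
      ⟨(⟨Submodule.Quotient.mk x, hd⟩ : Hom C ⟨0⟩ ⟨0⟩), rfl⟩
    have hmap : (cxFunctor f).map φ = (cxFunctor f).map (𝟙 _) := by
      apply W4c3biextchow.Hom.ext
      show q1Map f (φ : Hom C _ _).cl = q1Map f (0 : Q1 C)
      rw [hφ, q1Map_mk, map_zero, Submodule.Quotient.mk_eq_zero]
      exact ⟨y, hy⟩
    have h := hF.map_injective hmap
    have h2 : (φ : Hom C _ _).cl = 0 := by rw [h]; rfl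
    rw [hφ, Submodule.Quotient.mk_eq_zero] at h2
    exact h2
  · intro hcond
    constructor
    intro a b φ ψ hφψ
    apply W4c3biextchow.Hom.ext
    have h1 : q1Map f (φ : Hom C a b).cl = q1Map f (ψ : Hom C a b).cl :=
      congrArg (fun t : Hom D _ _ => t.cl) hφψ
    obtain ⟨x₁, hx₁⟩ := Submodule.Quotient.mk_surjective _ (φ : Hom C a b).cl
    obtain ⟨x₂, hx₂⟩ := Submodule.Quotient.mk_surjective _ (ψ : Hom C a b).cl
    have hd1 : (C.d 1 0).hom x₁ = b.pt - a.pt := by
      rw [← delta_mk, hx₁]; exact (φ : Hom C a b).delta_cl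
    have hd2 : (C.d 1 0).hom x₂ = b.pt - a.pt := by
      rw [← delta_mk, hx₂]; exact (ψ : Hom C a b).delta_cl
    have hx : (C.d 1 0).hom (x₁ - x₂) = 0 := by rw [map_sub, hd1, hd2, sub_self]
    have hy : ∃ y : D.X 2, (D.d 2 1).hom y = (f.f 1).hom (x₁ - x₂) := by
      rw [← hx₁, ← hx₂, q1Map_mk, q1Map_mk, Submodule.Quotient.eq] at h1
      rw [map_sub]; exact h1
    obtain ⟨y', hy'⟩ := hcond _ hx hy
    rw [← hx₁, ← hx₂, Submodule.Quotient.eq]
    exact ⟨y', hy'⟩

end Groth.Agent.S16325
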