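import Groth.Statements.S16326
import Mathlib
import Groth.Agent.Lib.helper8.HomElem

set_option autoImplicit false
universe u v
open CategoryTheory
open W4c3biextchow

namespace Groth.Agent.S16326

/-- Let f : C ⟶ D be a chain map of ℕ-indexed chain complexes of modules over a ring R, and consider the
functor it induces between the groupoids attached to C and D (objects: degree-0 elements; morphisms
a ⟶ b: degree-1 elements with boundary b - a, modulo boundaries of degree-2 elements). This functor
is full if and only if f is surjective on homology in degree 1 and injective on homology in degree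
0. (The published statement is for complexes of abelian groups; this row allows modules over any
ring R.) -/
theorem result
    (R : Type u) [Ring R] (C D : ChainComplex (ModuleCat.{v} R) ℕ) (f : C ⟶ D) :
    (W4c3biextchow.cxFunctor f).Full ↔
      Epi (HomologicalComplex.homologyMap f 1) ∧ Mono (HomologicalComplex.homologyMap f 0) := by
  rw [H8HE.epi_homologyMap_iff f 2 1 0 (ChainComplex.prev ℕ 1) (ChainComplex.next_nat_succ 0),
    H8HE.mono_homologyMap_iff f 1 0 0 (ChainComplex.prev ℕ 0) ChainComplex.next_nat_zero]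
  constructor
  · intro hF
    constructor
    · intro y hy
      have hd : delta D (Submodule.Quotient.mk y) =
          ((cxFunctor f).obj ⟨0⟩).pt - ((cxFunctor f).obj ⟨0⟩).pt := by
        rw [delta_mk, hy, sub_self]
      obtain ⟨φ, hφ⟩ := hF.map_surjective (X := (⟨0⟩ : Obj C)) (Y := (⟨0⟩ : Obj C))
        (⟨Submodule.Quotient.mk y, hd⟩ : Hom D ((cxFunctor f).obj ⟨0⟩) ((cxFunctor f).obj ⟨0⟩))
      obtain ⟨x, hx⟩ := Submodule.Quotient.mk_surjective _ (φ : Hom C _ _).cl
      have hdx := (φ : Hom C _ _).delta_cl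
      rw [← hx, delta_mk] at hdx
      have hcl : q1Map f (φ : Hom C _ _).cl = Submodule.Quotient.mk y :=
        congrArg (fun t : Hom D _ _ => t.cl) hφ
      rw [← hx, q1Map_mk, Submodule.Quotient.eq] at hcl
      obtain ⟨w, hw⟩ := hcl
      refine ⟨x, by rw [hdx]; exact sub_self _, -w, ?_⟩
      rw [map_neg, hw]; abel
    · intro x _ hy
      obtain ⟨y, hy⟩ := hy
      have hd : delta D (Submodule.Quotient.mk y) =
          ((cxFunctor f).obj ⟨x⟩).pt - ((cxFunctor f).obj ⟨0⟩).pt := by
        rw [delta_mk, hy, cxFunctor_obj_pt, cxFunctor_obj_pt, map_zero, sub_zero]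
      obtain ⟨φ, _⟩ := hF.map_surjective (X := (⟨0⟩ : Obj C)) (Y := (⟨x⟩ : Obj C))
        (⟨Submodule.Quotient.mk y, hd⟩ : Hom D ((cxFunctor f).obj ⟨0⟩) ((cxFunctor f).obj ⟨x⟩))
      obtain ⟨y', hy'⟩ := Submodule.Quotient.mk_surjective _ (φ : Hom C _ _).cl
      have hdx := (φ : Hom C _ _).delta_cl
      rw [← hy', delta_mk] at hdx
      exact ⟨y', by rw [hdx]; exact sub_zero _⟩
  · rintro ⟨hs, hi⟩
    constructor
    intro a b g
    obtain ⟨y, hy⟩ := Submodule.Quotient.mk_surjective _ (g : Hom D _ _).cl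
    have hdg := (g : Hom D _ _).delta_cl
    rw [← hy, delta_mk, cxFunctor_obj_pt, cxFunctor_obj_pt, ← map_sub] at hdg
    obtain ⟨y', hy'⟩ := hi (b.pt - a.pt)
      (by rw [C.shape 0 0 (by simp), ModuleCat.hom_zero, LinearMap.zero_apply]) ⟨y, hdg⟩
    have hcomm : (D.d 1 0).hom ((f.f 1).hom y') = (f.f 0).hom ((C.d 1 0).hom y') := by
      have h := congrArg (fun φ => φ.hom y') (f.comm 1 0)
      simpa only [ModuleCat.hom_comp, LinearMap.comp_apply] using h
    have hcyc : (D.d 1 0).hom (y - (f.f 1).hom y') = 0 := by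
      rw [map_sub, hdg, hcomm, hy', sub_self]
    obtain ⟨x, hx, w, hw⟩ := hs _ hcyc
    have hd : delta C (Submodule.Quotient.mk (y' + x)) = b.pt - a.pt := by
      rw [delta_mk, map_add, hy', hx, add_zero]
    refine ⟨(⟨Submodule.Quotient.mk (y' + x), hd⟩ : Hom C a b), ?_⟩
    apply W4c3biextchow.Hom.ext
    show q1Map f (Submodule.Quotient.mk (y' + x)) = (g : Hom D _ _).cl
    rw [q1Map_mk, ← hy, Submodule.Quotient.eq]
    refine ⟨-w, ?_⟩
    rw [map_neg, map_add]
    have h3 : y = (f.f 1).hom y' + ((f.f 1).hom x + (D.d 2 1).hom w) := by rw [← hw]; abel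
    rw [h3]; abel

end Groth.Agent.S16326
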