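import Groth.Statements.S16327
import Mathlib
import Groth.Agent.Lib.helper8.HomElem

set_option autoImplicit false
universe u v
open CategoryTheory
open W4c3biextchow

namespace Groth.Agent.S16327

/-- Let f : C ⟶ D be a chain map of ℕ-indexed chain complexes of modules over a ring R, and consider the
functor it induces between the groupoids attached to C and D (objects: degree-0 elements; morphisms
a ⟶ b: degree-1 elements with boundary b - a, modulo boundaries of degree-2 elements). This functor
is essentially surjective if and only if f is surjective on homology in degree 0. (The published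
statement is for complexes of abelian groups; this row allows modules over any ring R.) -/
theorem result
    (R : Type u) [Ring R] (C D : ChainComplex (ModuleCat.{v} R) ℕ) (f : C ⟶ D) :
    (W4c3biextchow.cxFunctor f).EssSurj ↔ Epi (HomologicalComplex.homologyMap f 0) := by
  rw [H8HE.epi_homologyMap_iff f 1 0 0 (ChainComplex.prev ℕ 0) ChainComplex.next_nat_zero]
  constructor
  · intro hE y _
    haveI := hE
    obtain ⟨X, ⟨e⟩⟩ : ∃ X : Obj C, Nonempty ((cxFunctor f).obj X ≅ (⟨y⟩ : Obj D)) :=
      ⟨_, ⟨(cxFunctor f).objObjPreimageIso (⟨y⟩ : Obj D)⟩⟩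
    obtain ⟨w, hw⟩ := Submodule.Quotient.mk_surjective _ (e.hom : Hom D _ _).cl
    have hd := (e.hom : Hom D _ _).delta_cl
    rw [← hw, delta_mk] at hd
    refine ⟨X.pt, ?_, w, ?_⟩
    · rw [C.shape 0 0 (by simp), ModuleCat.hom_zero, LinearMap.zero_apply]
    · rw [hd]
      show y = (f.f 0).hom X.pt + (y - (f.f 0).hom X.pt)
      abel
  · intro hcond
    constructor
    intro Y
    obtain ⟨x, _, w, hw⟩ := hcond Y.pt
      (by rw [D.shape 0 0 (by simp), ModuleCat.hom_zero, LinearMap.zero_apply])
    have hd : delta D (Submodule.Quotient.mk w) = Y.pt - ((cxFunctor f).obj ⟨x⟩).pt := by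
      rw [delta_mk, cxFunctor_obj_pt, hw]; abel
    have hd' : delta D (-(Submodule.Quotient.mk w)) = ((cxFunctor f).obj ⟨x⟩).pt - Y.pt := by
      rw [map_neg, hd]; abel
    refine ⟨⟨x⟩, ⟨⟨(⟨Submodule.Quotient.mk w, hd⟩ : Hom D _ _),
      (⟨-(Submodule.Quotient.mk w), hd'⟩ : Hom D _ _), ?_, ?_⟩⟩⟩
    · apply W4c3biextchow.Hom.ext
      show Submodule.Quotient.mk w + -(Submodule.Quotient.mk w) = (0 : Q1 D)
      rw [add_neg_cancel]
    · apply W4c3biextchow.Hom.ext
      show -(Submodule.Quotient.mk w) + Submodule.Quotient.mk w = (0 : Q1 D)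
      rw [neg_add_cancel]

end Groth.Agent.S16327
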