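import Groth.Statements.S16329
import Mathlib
import Groth.Agent.Lib.helper8.Retract

set_option autoImplicit false
universe v
open CategoryTheory
open W4c3biextchow

namespace Groth.Agent.S16329

/-- Let f : A' ⟶ A be a chain map of ℕ-indexed chain complexes of free abelian groups which is injective
in every degree, whose degreewise quotients A_q / f(A'_q) are free abelian groups, and which is a
quasi-isomorphism. Then there is a chain map g : A ⟶ A' with f ≫ g the identity of A' (a chain-level
inverse of f that restricts to the identity on the subcomplex A'). (The source allows complexes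
indexed by all integers; stated here for complexes in non-negative degrees.) -/
theorem result
    (A' A : ChainComplex (ModuleCat.{v} ℤ) ℕ) (f : A' ⟶ A)
    [∀ q, Module.Free ℤ (A'.X q)] [∀ q, Module.Free ℤ (A.X q)]
    (hf : ∀ q, Function.Injective (f.f q).hom)
    (hq : ∀ q, Module.Free ℤ ((A.X q) ⧸ LinearMap.range (f.f q).hom)) [QuasiIso f] :
    ∃ g : A ⟶ A', f ≫ g = 𝟙 A' := by
  obtain ⟨S, hv, h0, hs⟩ := H8Ret.exists_seq f hf hq
  have hE := H8Ret.Emap_mem f S h0 hs
  have hEf := H8Ret.Emap_f f S hv
  have hdE := H8Ret.d_Emap (A := A) S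
  choose g0 hg0 using hE
  obtain ⟨g, hg⟩ : ∃ g : (q : ℕ) → (A.X q →ₗ[ℤ] A'.X q),
      ∀ q x, (f.f q).hom (g q x) = H8Ret.Emap S q x := by
    refine ⟨fun q => ⟨⟨g0 q, ?_⟩, ?_⟩, fun q x => hg0 q x⟩
    · intro x y
      apply hf q
      rw [map_add, hg0, hg0, hg0, map_add]
    · intro c x
      apply hf q
      simp only [RingHom.id_apply]
      rw [hg0, LinearMap.map_smul, LinearMap.map_smul, hg0]
  refine ⟨HomologicalComplex.Hom.mk (fun q => ModuleCat.ofHom (g q)) ?_, ?_⟩
  · intro i j hij
    obtain rfl : j + 1 = i := hij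
    apply ModuleCat.hom_ext
    apply LinearMap.ext
    intro x
    show (A'.d (j+1) j).hom (g (j+1) x) = g j ((A.d (j+1) j).hom x)
    apply hf j
    rw [← H8Ret.comm_apply, hg, hg, hdE]
  · apply HomologicalComplex.hom_ext
    intro q
    apply ModuleCat.hom_ext
    apply LinearMap.ext
    intro a'
    show g q ((f.f q).hom a') = a'
    apply hf q
    rw [hg, hEf]

end Groth.Agent.S16329
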