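import Groth.Statements.S16328
import Mathlib
import Groth.Agent.Lib.helper8.Retract
import Groth.Agent.S16329

set_option autoImplicit false
universe v
open CategoryTheory
open W4c3biextchow

namespace Groth.Agent.S16328

/-- Let f : A' ⟶ A and p : A ⟶ A'' be chain maps of ℕ-indexed chain complexes of free abelian groups
forming a short exact sequence in every degree (f injective, p surjective, image of f equal to the
kernel of p), and assume f is a quasi-isomorphism. Then there is a chain map h : A'' ⟶ A such that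
in every degree q the map (a'', a') ↦ h(a'') + f(a') is a bijection from A''_q × A'_q onto A_q, so
that A is the direct sum of the subcomplexes f(A') and h(A''). (The source allows complexes indexed
by all integers; stated here for complexes in non-negative degrees.) -/
theorem result
    (A' A A'' : ChainComplex (ModuleCat.{v} ℤ) ℕ) (f : A' ⟶ A) (p : A ⟶ A'')
    [∀ q, Module.Free ℤ (A'.X q)] [∀ q, Module.Free ℤ (A.X q)] [∀ q, Module.Free ℤ (A''.X q)]
    (hf : ∀ q, Function.Injective (f.f q).hom) (hp : ∀ q, Function.Surjective (p.f q).hom)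
    (hfp : ∀ q, Function.Exact (f.f q).hom (p.f q).hom) [QuasiIso f] :
    ∃ h : A'' ⟶ A, ∀ q : ℕ,
      Function.Bijective (fun x : A''.X q × A'.X q => (h.f q).hom x.1 + (f.f q).hom x.2) := by
  have hq : ∀ q, Module.Free ℤ ((A.X q) ⧸ LinearMap.range (f.f q).hom) := by
    intro q
    have hrk : LinearMap.range (f.f q).hom = LinearMap.ker (p.f q).hom :=
      (LinearMap.exact_iff.mp (hfp q)).symm
    have hfree := @Module.Free.of_equiv ℤ ℤ (A''.X q) (A.X q ⧸ LinearMap.ker (p.f q).hom) _ _ _ _ _
      (Submodule.Quotient.module _) _ _ _ _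
      ((p.f q).hom.quotKerEquivOfSurjective (hp q)).symm _
    rw [hrk]
    convert hfree
    all_goals first | rfl | exact Subsingleton.elim _ _
  obtain ⟨g, hgf⟩ := Groth.Agent.S16329.result A' A f hf hq
  have hg : ∀ q (a' : A'.X q), (g.f q).hom ((f.f q).hom a') = a' := by
    intro q a'
    have h := congrArg (fun φ => (φ.f q).hom a') hgf
    exact h
  have hpf : ∀ q (a' : A'.X q), (p.f q).hom ((f.f q).hom a') = 0 :=
    fun q a' => (hfp q _).mpr ⟨a', rfl⟩
  obtain ⟨K, hK⟩ : ∃ K : (q : ℕ) → (A.X q →ₗ[ℤ] A.X q),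
      ∀ q x, K q x = x - (f.f q).hom ((g.f q).hom x) :=
    ⟨fun q => LinearMap.id - (f.f q).hom ∘ₗ (g.f q).hom, fun q x => rfl⟩
  have hK0 : ∀ q (a' : A'.X q), K q ((f.f q).hom a') = 0 := by
    intro q a'; rw [hK, hg, sub_self]
  have hKeq : ∀ q (a b : A.X q), (p.f q).hom a = (p.f q).hom b → K q a = K q b := by
    intro q a b hab
    have h1 : (p.f q).hom (a - b) = 0 := by rw [map_sub, hab, sub_self]
    obtain ⟨c, hc⟩ := (hfp q _).mp h1
    have h2 : K q (a - b) = 0 := by rw [← hc, hK0]
    rw [map_sub, sub_eq_zero] at h2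
    exact h2
  have hσ : ∀ q (x : A''.X q), (p.f q).hom (Function.surjInv (hp q) x) = x :=
    fun q x => Function.surjInv_eq (hp q) x
  obtain ⟨h, hh⟩ : ∃ h : (q : ℕ) → (A''.X q →ₗ[ℤ] A.X q),
      ∀ q (a : A.X q), h q ((p.f q).hom a) = K q a := by
    refine ⟨fun q => ⟨⟨fun x => K q (Function.surjInv (hp q) x), ?_⟩, ?_⟩, ?_⟩
    · intro x y
      rw [← map_add]
      apply hKeq
      rw [hσ, map_add, hσ, hσ]
    · intro c x
      simp only [RingHom.id_apply]
      rw [← LinearMap.map_smul]
      apply hKeq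
      rw [hσ, LinearMap.map_smul, hσ]
    · intro q a
      show K q (Function.surjInv (hp q) ((p.f q).hom a)) = K q a
      apply hKeq
      rw [hσ]
  have hph : ∀ q (x : A''.X q), (p.f q).hom (h q x) = x := by
    intro q x
    obtain ⟨a, rfl⟩ := hp q x
    rw [hh, hK, map_sub, hpf, sub_zero]
  refine ⟨HomologicalComplex.Hom.mk (fun q => ModuleCat.ofHom (h q)) ?_, ?_⟩
  · intro i j hij
    obtain rfl : j + 1 = i := hij
    apply ModuleCat.hom_ext
    apply LinearMap.ext
    intro x
    show (A.d (j+1) j).hom (h (j+1) x) = h j ((A''.d (j+1) j).hom x)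
    obtain ⟨a, rfl⟩ := hp (j+1) x
    rw [hh, H8Ret.comm_apply p, hh, hK, hK, map_sub, H8Ret.comm_apply f, H8Ret.comm_apply g]
  · intro q
    constructor
    · rintro ⟨x, a⟩ ⟨y, b⟩ hxy
      have hxy' : h q x + (f.f q).hom a = h q y + (f.f q).hom b := hxy
      have h1 := congrArg (fun t => (p.f q).hom t) hxy'
      simp only [map_add, hph, hpf, add_zero] at h1
      subst h1
      have h2 := hf q (add_left_cancel hxy')
      subst h2
      rfl
    · intro a
      refine ⟨((p.f q).hom a, (g.f q).hom a), ?_⟩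
      show h q ((p.f q).hom a) + (f.f q).hom ((g.f q).hom a) = a
      rw [hh, hK, sub_add_cancel]

end Groth.Agent.S16328
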