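import Groth.Statements.S16330
import Mathlib
import Groth.Agent.Lib.helper8.Retract

set_option autoImplicit false
universe v
open CategoryTheory
open W4c3biextchow

namespace Groth.Agent.S16330

/-- Let f : A' ⟶ A be a chain map of ℕ-indexed chain complexes of free abelian groups which is injective
in every degree, whose degreewise quotients A_q / f(A'_q) are free abelian groups, and which is a
quasi-isomorphism. Then any two chain maps g₁, g₂ : A ⟶ A' with f ≫ g₁ = f ≫ g₂ = 𝟙 differ by a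
null-homotopic map: there is a chain homotopy between g₁ and g₂ all of whose components vanish on
the image of f (so g₁ - g₂ factors through the quotient complex A / A', and the homotopy does too).
(The source allows complexes indexed by all integers; stated here for complexes in non-negative
degrees.) -/
theorem result
    (A' A : ChainComplex (ModuleCat.{v} ℤ) ℕ) (f : A' ⟶ A)
    [∀ q, Module.Free ℤ (A'.X q)] [∀ q, Module.Free ℤ (A.X q)]
    (hf : ∀ q, Function.Injective (f.f q).hom)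
    (hq : ∀ q, Module.Free ℤ ((A.X q) ⧸ LinearMap.range (f.f q).hom)) [QuasiIso f]
    (g₁ g₂ : A ⟶ A') (h₁ : f ≫ g₁ = 𝟙 A') (h₂ : f ≫ g₂ = 𝟙 A') :
    ∃ H : Homotopy g₁ g₂, ∀ i j : ℕ, f.f i ≫ H.hom i j = 0 := by
  obtain ⟨S, hv, h0, hs⟩ := H8Ret.exists_seq f hf hq
  have hE := H8Ret.Emap_mem f S h0 hs
  have hg₁ : ∀ q (a' : A'.X q), (g₁.f q).hom ((f.f q).hom a') = a' := by
    intro q a'
    have h := congrArg (fun φ => (φ.f q).hom a') h₁
    exact h
  have hg₂ : ∀ q (a' : A'.X q), (g₂.f q).hom ((f.f q).hom a') = a' := by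
    intro q a'
    have h := congrArg (fun φ => (φ.f q).hom a') h₂
    exact h
  obtain ⟨Δ, hΔ⟩ : ∃ Δ : (q : ℕ) → (A.X q →ₗ[ℤ] A'.X q),
      ∀ q x, Δ q x = (g₁.f q).hom x - (g₂.f q).hom x :=
    ⟨fun q => (g₁.f q).hom - (g₂.f q).hom, fun q x => rfl⟩
  have hΔf : ∀ q a', Δ q ((f.f q).hom a') = 0 := by
    intro q a'; rw [hΔ, hg₁, hg₂, sub_self]
  have hΔd : ∀ q (y : A.X (q+1)),
      Δ q ((A.d (q+1) q).hom y) = (A'.d (q+1) q).hom (Δ (q+1) y) := by
    intro q y
    rw [hΔ, hΔ, map_sub, H8Ret.comm_apply g₁, H8Ret.comm_apply g₂]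
  have hΔE : ∀ q x, Δ q (H8Ret.Emap S q x) = 0 := by
    intro q x
    obtain ⟨a', ha'⟩ := hE q x
    rw [← ha', hΔf]
  obtain ⟨Hq, hHq⟩ : ∃ Hq : (q : ℕ) → (A.X q →ₗ[ℤ] A'.X (q+1)),
      ∀ q x, Hq q x = Δ (q+1) (S q x) :=
    ⟨fun q => Δ (q+1) ∘ₗ S q, fun q x => rfl⟩
  have hid0 : ∀ x : A.X 0,
      (g₁.f 0).hom x = (A'.d 1 0).hom (Hq 0 x) + (g₂.f 0).hom x := by
    intro x
    have h := hΔE 0 x
    have e1 : Δ 0 ((A.d 1 0).hom (S 0 x)) = (A'.d 1 0).hom (Hq 0 x) := by
      rw [hHq]; exact hΔd 0 (S 0 x)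
    rw [H8Ret.Emap_zero, map_sub, e1, hΔ, sub_eq_zero, sub_eq_iff_eq_add] at h
    exact h
  have hids : ∀ q (x : A.X (q+1)), (g₁.f (q+1)).hom x =
      Hq q ((A.d (q+1) q).hom x) + (A'.d (q+1+1) (q+1)).hom (Hq (q+1) x) +
        (g₂.f (q+1)).hom x := by
    intro q x
    have h := hΔE (q+1) x
    have e1 : Δ (q+1) (S q ((A.d (q+1) q).hom x)) = Hq q ((A.d (q+1) q).hom x) :=
      (hHq q _).symm
    have e2 : Δ (q+1) ((A.d (q+1+1) (q+1)).hom (S (q+1) x)) =
        (A'.d (q+1+1) (q+1)).hom (Hq (q+1) x) := by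
      rw [hHq]; exact hΔd (q+1) (S (q+1) x)
    rw [H8Ret.Emap_succ, map_sub, map_sub, e1, e2, hΔ, sub_eq_zero, sub_eq_iff_eq_add,
      sub_eq_iff_eq_add] at h
    rw [h]; abel
  obtain ⟨hom, hhom, hhom0⟩ : ∃ hom : ∀ i j, A.X i ⟶ A'.X j,
      (∀ i, hom i (i+1) = ModuleCat.ofHom (Hq i)) ∧ (∀ i j, ¬ i + 1 = j → hom i j = 0) := by
    refine ⟨fun i j => if h : i + 1 = j then
      ModuleCat.ofHom (Hq i) ≫ eqToHom (congrArg A'.X h) else 0, ?_, ?_⟩
    · intro i
      simp
    · intro i j h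
      simp [h]
  refine ⟨⟨hom, ?_, ?_⟩, ?_⟩
  · intro i j hij
    exact hhom0 i j hij
  · intro i
    cases i with
    | zero =>
      rw [Homotopy.dNext_zero_chainComplex, zero_add, Homotopy.prevD_chainComplex, hhom 0]
      apply ModuleCat.hom_ext
      apply LinearMap.ext
      intro x
      exact hid0 x
    | succ q =>
      rw [Homotopy.dNext_succ_chainComplex, Homotopy.prevD_chainComplex, hhom q, hhom (q+1)]
      apply ModuleCat.hom_ext
      apply LinearMap.ext
      intro x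
      exact hids q x
  · intro i j
    by_cases h : i + 1 = j
    · subst h
      show f.f i ≫ hom i (i+1) = 0
      rw [hhom i]
      apply ModuleCat.hom_ext
      apply LinearMap.ext
      intro a'
      show Hq i ((f.f i).hom a') = 0
      rw [hHq, hv, map_zero]
    · show f.f i ≫ hom i j = 0
      rw [hhom0 i j h, Limits.comp_zero]

end Groth.Agent.S16330
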