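import Groth.Statements.S16331
import Mathlib
import Groth.Agent.Lib.helper8.Retract
import Groth.Agent.S16330

set_option autoImplicit false
universe v
open CategoryTheory
open W4c3biextchow

namespace Groth.Agent.S16331

/-- Let f : A' ⟶ A be a chain map of ℕ-indexed chain complexes of free abelian groups which is injective
in every degree, with free degreewise quotients A_q / f(A'_q), and a quasi-isomorphism; let h' : A'
⟶ B be a chain map to another complex of free abelian groups and g₁, g₂ : A ⟶ A' two chain maps with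
f ≫ g₁ = f ≫ g₂ = 𝟙. Consider the functors induced by g₁ ≫ h' and g₂ ≫ h' between the groupoids
attached to A and B (objects: degree-0 elements; morphisms a ⟶ b: degree-1 elements with boundary b
- a, modulo boundaries of degree-2 elements). Then there is a natural isomorphism between these two
functors whose component at every object of the form f(a'), a' a degree-0 element of A', is the zero
class, i.e. the identity morphism of h'(a'). -/
theorem result
    (A' A B : ChainComplex (ModuleCat.{v} ℤ) ℕ) (f : A' ⟶ A) (h' : A' ⟶ B)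
    [∀ q, Module.Free ℤ (A'.X q)] [∀ q, Module.Free ℤ (A.X q)] [∀ q, Module.Free ℤ (B.X q)]
    (hf : ∀ q, Function.Injective (f.f q).hom)
    (hq : ∀ q, Module.Free ℤ ((A.X q) ⧸ LinearMap.range (f.f q).hom)) [QuasiIso f]
    (g₁ g₂ : A ⟶ A') (h₁ : f ≫ g₁ = 𝟙 A') (h₂ : f ≫ g₂ = 𝟙 A') :
    ∃ N : W4c3biextchow.cxFunctor (g₁ ≫ h') ≅ W4c3biextchow.cxFunctor (g₂ ≫ h'),
      ∀ a : W4c3biextchow.Obj A',
        (N.hom.app ((W4c3biextchow.cxFunctor f).obj a) : W4c3biextchow.Hom B _ _).cl = 0 := by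
  obtain ⟨H, hH⟩ := Groth.Agent.S16330.result A' A f hf hq g₁ g₂ h₁ h₂
  have hc0 : ∀ x : A.X 0,
      (g₁.f 0).hom x = (A'.d 1 0).hom ((H.hom 0 1).hom x) + (g₂.f 0).hom x := by
    intro x
    have h := H.comm 0
    rw [Homotopy.dNext_zero_chainComplex, zero_add, Homotopy.prevD_chainComplex] at h
    have h' := congrArg (fun φ => φ.hom x) h
    exact h'
  have hc1 : ∀ x : A.X 1, (g₁.f 1).hom x =
      (H.hom 0 1).hom ((A.d 1 0).hom x) + (A'.d 2 1).hom ((H.hom 1 2).hom x) +
        (g₂.f 1).hom x := by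
    intro x
    have h := H.comm (0+1)
    rw [Homotopy.dNext_succ_chainComplex, Homotopy.prevD_chainComplex] at h
    have h' := congrArg (fun φ => φ.hom x) h
    exact h'
  have hHf : ∀ a' : A'.X 0, (H.hom 0 1).hom ((f.f 0).hom a') = 0 := by
    intro a'
    have h := congrArg (fun φ => φ.hom a') (hH 0 1)
    exact h
  obtain ⟨w, hw⟩ : ∃ w : W4c3biextchow.Obj A → B.X 1,
      ∀ a, w a = (h'.f 1).hom ((H.hom 0 1).hom a.pt) := ⟨_, fun a => rfl⟩
  have hdw : ∀ a : W4c3biextchow.Obj A, (B.d 1 0).hom (w a) =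
      (h'.f 0).hom ((g₁.f 0).hom a.pt) - (h'.f 0).hom ((g₂.f 0).hom a.pt) := by
    intro a
    rw [hw, H8Ret.comm_apply h', ← map_sub]
    congr 1
    rw [hc0 a.pt]; abel
  have hd1 : ∀ a : W4c3biextchow.Obj A,
      W4c3biextchow.delta B (Submodule.Quotient.mk (-(w a))) =
        ((W4c3biextchow.cxFunctor (g₂ ≫ h')).obj a).pt -
          ((W4c3biextchow.cxFunctor (g₁ ≫ h')).obj a).pt := by
    intro a
    rw [W4c3biextchow.delta_mk, map_neg, hdw]
    show -((h'.f 0).hom ((g₁.f 0).hom a.pt) - (h'.f 0).hom ((g₂.f 0).hom a.pt)) =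
      (h'.f 0).hom ((g₂.f 0).hom a.pt) - (h'.f 0).hom ((g₁.f 0).hom a.pt)
    abel
  have hd2 : ∀ a : W4c3biextchow.Obj A,
      W4c3biextchow.delta B (Submodule.Quotient.mk (w a)) =
        ((W4c3biextchow.cxFunctor (g₁ ≫ h')).obj a).pt -
          ((W4c3biextchow.cxFunctor (g₂ ≫ h')).obj a).pt := by
    intro a
    rw [W4c3biextchow.delta_mk, hdw]
    rfl
  obtain ⟨app, happ⟩ : ∃ app : ∀ a : W4c3biextchow.Obj A,
      ((W4c3biextchow.cxFunctor (g₁ ≫ h')).obj a ≅ (W4c3biextchow.cxFunctor (g₂ ≫ h')).obj a),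
      ∀ a, ((app a).hom : W4c3biextchow.Hom B _ _).cl = Submodule.Quotient.mk (-(w a)) := by
    refine ⟨fun a => ⟨(⟨Submodule.Quotient.mk (-(w a)), hd1 a⟩ : W4c3biextchow.Hom B _ _),
      (⟨Submodule.Quotient.mk (w a), hd2 a⟩ : W4c3biextchow.Hom B _ _), ?_, ?_⟩, fun a => rfl⟩
    · apply W4c3biextchow.Hom.ext
      show (Submodule.Quotient.mk (-(w a)) : W4c3biextchow.Q1 B) + Submodule.Quotient.mk (w a) = 0
      rw [← Submodule.Quotient.mk_add, neg_add_cancel, Submodule.Quotient.mk_zero]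
    · apply W4c3biextchow.Hom.ext
      show (Submodule.Quotient.mk (w a) : W4c3biextchow.Q1 B) + Submodule.Quotient.mk (-(w a)) = 0
      rw [← Submodule.Quotient.mk_add, add_neg_cancel, Submodule.Quotient.mk_zero]
  refine ⟨NatIso.ofComponents app ?_, ?_⟩
  · intro a b φ
    apply W4c3biextchow.Hom.ext
    show W4c3biextchow.q1Map (g₁ ≫ h') (φ : W4c3biextchow.Hom A a b).cl +
        ((app b).hom : W4c3biextchow.Hom B _ _).cl =
      ((app a).hom : W4c3biextchow.Hom B _ _).cl +
        W4c3biextchow.q1Map (g₂ ≫ h') (φ : W4c3biextchow.Hom A a b).cl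
    rw [happ, happ]
    obtain ⟨x, hx⟩ := Submodule.Quotient.mk_surjective _ (φ : W4c3biextchow.Hom A a b).cl
    have hdx : (A.d 1 0).hom x = b.pt - a.pt := by
      rw [← W4c3biextchow.delta_mk, hx]; exact (φ : W4c3biextchow.Hom A a b).delta_cl
    rw [← hx, W4c3biextchow.q1Map_mk, W4c3biextchow.q1Map_mk, ← Submodule.Quotient.mk_add,
      ← Submodule.Quotient.mk_add, Submodule.Quotient.eq]
    refine ⟨(h'.f 2).hom ((H.hom 1 2).hom x), ?_⟩
    have key : (A'.d 2 1).hom ((H.hom 1 2).hom x) =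
        (g₁.f 1).hom x - (H.hom 0 1).hom b.pt + (H.hom 0 1).hom a.pt - (g₂.f 1).hom x := by
      rw [hc1 x, hdx, map_sub]; abel
    show (B.d 2 1).hom ((h'.f 2).hom ((H.hom 1 2).hom x)) =
      (h'.f 1).hom ((g₁.f 1).hom x) + -(w b) - (-(w a) + (h'.f 1).hom ((g₂.f 1).hom x))
    rw [H8Ret.comm_apply h', key, hw, hw, map_sub, map_add, map_sub]
    abel
  · intro a'
    show ((app ((W4c3biextchow.cxFunctor f).obj a')).hom : W4c3biextchow.Hom B _ _).cl = 0
    rw [happ, hw, W4c3biextchow.cxFunctor_obj_pt, hHf, map_zero, neg_zero,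
      Submodule.Quotient.mk_zero]

end Groth.Agent.S16331
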