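import Groth.Statements.S16335
import Mathlib
-- import your own Groth.Agent.* helpers here

set_option autoImplicit false
universe u v w w'
open TensorProduct
open InvTh

namespace Groth.Agent.S16335

/-- Let `R` be a commutative ring with an action of a finite group `Γ` by ring automorphisms such that
the order of `Γ` is invertible in `R`, and let `A → R` be injective with image exactly the
invariants `R^Γ`, the action being `A`-linear. Then for every commutative `A`-algebra `S`, with `Γ`
acting on `S ⊗_A R` through the factor `R`, the map `S → S ⊗_A R`, `s ↦ s ⊗ 1`, is injective and its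
image is exactly the set of `Γ`-fixed elements: `S ≅ (S ⊗_A R)^Γ`. No flatness of `S` over `A` is
assumed; the invertibility of the order of `Γ` replaces it. This is the affine statement that for a
tame quotient the coarse space commutes with arbitrary base change. (The published lemma is the
statement that the coarse moduli space of a tame Deligne–Mumford stack commutes with arbitrary base
change, whose proof reduces to this ring statement. The published lemma also asserts the analogous
statement for the reduced fibre product when the base-change scheme is reduced; that clause is not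
part of this row.) -/
theorem result
    (A : Type u) [CommRing A] (R : Type v) [CommRing R] [Algebra A R]
    (Γ : Type w) [Group Γ] [Finite Γ] [MulSemiringAction Γ R] [SMulCommClass Γ A R]
    [Algebra.IsInvariant A R Γ] (hinj : Function.Injective (algebraMap A R))
    (hΓ : IsUnit (Nat.card Γ : R))
    (S : Type w') [CommRing S] [Algebra A S] :
    Function.Injective (fun s : S => s ⊗ₜ[A] (1 : R)) ∧
      ∀ x : S ⊗[A] R,
        (∀ γ : Γ, Algebra.TensorProduct.map (AlgHom.id A S) (MulSemiringAction.toAlgHom A R γ) x = x) →
          x ∈ Set.range (fun s : S => s ⊗ₜ[A] (1 : R)) := by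
  classical
  haveI : Fintype Γ := Fintype.ofFinite Γ
  obtain ⟨u, hu⟩ := hΓ.exists_left_inv
  rw [Nat.card_eq_fintype_card] at hu
  let g : Γ → (R →ₗ[A] R) := fun γ => (MulSemiringAction.toAlgHom A R γ).toLinearMap
  have hg : ∀ γ r, g γ r = γ • r := fun γ r => rfl
  let N : R →ₗ[A] R := ∑ γ, g γ
  have hN : ∀ r, N r = ∑ γ : Γ, γ • r := by
    intro r
    simp only [N, LinearMap.sum_apply, hg]
  let ε : R →ₗ[A] R := LinearMap.mulLeft A u ∘ₗ N
  have hε : ∀ r, ε r = u * ∑ γ : Γ, γ • r := by
    intro r
    simp only [ε, LinearMap.comp_apply, LinearMap.mulLeft_apply, hN]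
  have hnat : ∀ γ : Γ, γ • ((Fintype.card Γ : ℕ) : R) = ((Fintype.card Γ : ℕ) : R) := by
    intro γ
    exact map_natCast (MulSemiringAction.toRingHom Γ R γ) _
  have hγu : ∀ γ : Γ, γ • u = u := by
    intro γ
    have h1 : γ • u * ((Fintype.card Γ : ℕ) : R) = 1 := by
      rw [← hnat γ, ← smul_mul', hu, smul_one]
    calc γ • u = γ • u * (u * ((Fintype.card Γ : ℕ) : R)) := by rw [hu, mul_one]
      _ = (γ • u * ((Fintype.card Γ : ℕ) : R)) * u := by ring
      _ = u := by rw [h1, one_mul]
  have hinv : ∀ r (γ' : Γ), γ' • ε r = ε r := by
    intro r γ'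
    rw [hε, smul_mul', hγu, Finset.smul_sum]
    congr 1
    simp only [smul_smul]
    exact Equiv.sum_comp (Equiv.mulLeft γ') (fun γ => γ • r)
  choose ρ₀ hρ₀ using fun r => Algebra.IsInvariant.isInvariant (A := A) (G := Γ) (ε r) (hinv r)
  let ρ : R →ₗ[A] A :=
    { toFun := ρ₀
      map_add' := fun x y => hinj (by rw [map_add, hρ₀, hρ₀, hρ₀, map_add])
      map_smul' := fun a x => hinj (by
        rw [hρ₀, map_smul, RingHom.id_apply, smul_eq_mul, map_mul, hρ₀, Algebra.smul_def]) }
  have hρ : ∀ r, algebraMap A R (ρ r) = ε r := hρ₀
  have hε1 : ε 1 = 1 := by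
    rw [hε]
    simp only [smul_one, Finset.sum_const, Finset.card_univ, nsmul_eq_mul, mul_one]
    exact hu
  have hρ1 : ρ 1 = 1 := hinj (by rw [hρ, hε1, map_one])
  have hιρ : (Algebra.linearMap A R) ∘ₗ ρ = ε := LinearMap.ext fun r => hρ r
  constructor
  · intro s s' h
    have h' := congrArg (fun t => TensorProduct.rid A S (LinearMap.lTensor S ρ t)) h
    simpa [hρ1] using h'
  · intro x hx
    have hmap : ∀ (γ : Γ) (y : S ⊗[A] R),
        Algebra.TensorProduct.map (AlgHom.id A S) (MulSemiringAction.toAlgHom A R γ) y =
          LinearMap.lTensor S (g γ) y := by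
      intro γ y
      induction y using TensorProduct.induction_on with
      | zero => simp
      | tmul s r => rw [Algebra.TensorProduct.map_tmul, LinearMap.lTensor_tmul]; rfl
      | add y z hy hz => rw [map_add, map_add, hy, hz]
    have hx' : ∀ γ, LinearMap.lTensor S (g γ) x = x := fun γ => by rw [← hmap]; exact hx γ
    have hNx : LinearMap.lTensor S N x = (Fintype.card Γ) • x := by
      have : LinearMap.lTensor S N = ∑ γ, LinearMap.lTensor S (g γ) := by
        rw [← LinearMap.coe_lTensorHom, map_sum]
      rw [this, LinearMap.sum_apply]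
      simp only [hx', Finset.sum_const, Finset.card_univ]
    have hU : ∀ y : S ⊗[A] R,
        (Fintype.card Γ) • LinearMap.lTensor S (LinearMap.mulLeft A u) y = y := by
      intro y
      induction y using TensorProduct.induction_on with
      | zero => simp
      | tmul s r =>
        rw [LinearMap.lTensor_tmul, LinearMap.mulLeft_apply, ← Nat.cast_smul_eq_nsmul A,
          ← TensorProduct.tmul_smul, Algebra.smul_def, map_natCast]
        congr 1
        rw [← mul_assoc, mul_comm _ u, hu, one_mul]
      | add y z hy hz => rw [map_add, smul_add, hy, hz]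
    have hxε : LinearMap.lTensor S ε x = x := by
      rw [LinearMap.lTensor_comp_apply, hNx, map_nsmul, hU]
    have hy : LinearMap.lTensor S ρ x =
        (TensorProduct.rid A S (LinearMap.lTensor S ρ x)) ⊗ₜ[A] (1 : A) := by
      rw [← TensorProduct.rid_symm_apply, LinearEquiv.symm_apply_apply]
    have hxx : x = LinearMap.lTensor S (Algebra.linearMap A R) (LinearMap.lTensor S ρ x) := by
      rw [← LinearMap.lTensor_comp_apply, hιρ]
      exact hxε.symm
    refine ⟨TensorProduct.rid A S (LinearMap.lTensor S ρ x), ?_⟩
    change (TensorProduct.rid A S (LinearMap.lTensor S ρ x)) ⊗ₜ[A] (1 : R) = x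
    conv_rhs => rw [hxx, hy, LinearMap.lTensor_tmul, Algebra.linearMap_apply, map_one]

end Groth.Agent.S16335
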