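import Groth.Statements.S16343
import Mathlib

set_option autoImplicit false
open KatoHom

namespace Groth.Agent.S16343

section Aux

variable {A T : Type*} [AddCommGroup A] [AddCommGroup T]

theorem bezout_smul {G : Type*} [AddCommGroup G] (m n : ℕ) (h : Nat.Coprime m n) (x : G) :
    ∃ u v : ℤ, x = u • (m • x) + v • (n • x) := by
  refine ⟨Nat.gcdA m n, Nat.gcdB m n, ?_⟩
  have hb := Nat.gcd_eq_gcd_ab m n
  rw [Nat.Coprime.gcd_eq_one h, Nat.cast_one] at hb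
  calc x = (1 : ℤ) • x := (one_smul ℤ x).symm
    _ = ((m : ℤ) * Nat.gcdA m n + (n : ℤ) * Nat.gcdB m n) • x := by rw [← hb]
    _ = Nat.gcdA m n • (m • x) + Nat.gcdB m n • (n • x) := by
      rw [add_smul, mul_comm (m : ℤ), mul_comm (n : ℤ), mul_smul, mul_smul, natCast_zsmul,
        natCast_zsmul]

theorem ker_div (P : Set ℕ) (π : A →+ T)
    (hD : ∀ ℓ ∈ P, ∀ x ∈ π.ker, ∃ y ∈ π.ker, ℓ • y = x) :
    ∀ n : ℕ, (0 < n ∧ ∀ p : ℕ, p.Prime → p ∣ n → p ∈ P) →
      ∀ x ∈ π.ker, ∃ y ∈ π.ker, n • y = x := by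
  intro n
  induction n using induction_on_primes with
  | zero => intro h; exact absurd h.1 (lt_irrefl 0)
  | one => intro _ x hx; exact ⟨x, hx, one_smul ℕ x⟩
  | prime_mul p a hp iha =>
    intro h x hx
    have hpP : p ∈ P := h.2 p hp (dvd_mul_right p a)
    have ha : 0 < a ∧ ∀ q : ℕ, q.Prime → q ∣ a → q ∈ P := by
      refine ⟨Nat.pos_of_ne_zero fun h0 => ?_, fun q hq hqd => h.2 q hq (dvd_mul_of_dvd_right hqd p)⟩
      rw [h0, mul_zero] at h
      exact lt_irrefl 0 h.1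
    obtain ⟨y₁, hy₁, hyx⟩ := hD p hpP x hx
    obtain ⟨y₂, hy₂, hy₁₂⟩ := iha ha y₁ hy₁
    exact ⟨y₂, hy₂, by rw [mul_smul, hy₁₂, hyx]⟩

theorem decomp (P : Set ℕ) (TP T' : AddSubgroup T)
    (hTP : ∀ t, (∃ n : ℕ, 0 < n ∧ (∀ p : ℕ, p.Prime → p ∣ n → p ∈ P) ∧ n • t = 0) → t ∈ TP)
    (hT' : ∀ t, (∃ n : ℕ, 0 < n ∧ (∀ p : ℕ, p.Prime → p ∣ n → p ∉ P) ∧ n • t = 0) → t ∈ T') :
    ∀ n : ℕ, 0 < n → ∀ t : T, n • t = 0 → t ∈ TP ⊔ T' := by
  intro n
  induction n using Nat.recOnPrimeCoprime with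
  | zero => intro h; exact absurd h (lt_irrefl 0)
  | prime_pow p k hp =>
    intro _ t ht
    have hq : ∀ q : ℕ, q.Prime → q ∣ p ^ k → q = p := fun q hq hqd =>
      (Nat.prime_dvd_prime_iff_eq hq hp).mp (hq.dvd_of_dvd_pow hqd)
    by_cases hpP : p ∈ P
    · apply AddSubgroup.mem_sup_left
      exact hTP t ⟨p ^ k, pow_pos hp.pos k, fun q hq' hqd => by rw [hq q hq' hqd]; exact hpP, ht⟩
    · apply AddSubgroup.mem_sup_right
      exact hT' t ⟨p ^ k, pow_pos hp.pos k, fun q hq' hqd => by rw [hq q hq' hqd]; exact hpP, ht⟩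
  | coprime a b ha hb hab iha ihb =>
    intro _ t ht
    obtain ⟨u, v, huv⟩ := bezout_smul a b hab t
    have h1 : a • t ∈ TP ⊔ T' := by
      apply ihb (by omega)
      rw [← mul_smul, mul_comm]; exact ht
    have h2 : b • t ∈ TP ⊔ T' := by
      apply iha (by omega)
      rw [← mul_smul]; exact ht
    rw [huv]
    exact (TP ⊔ T').add_mem ((TP ⊔ T').zsmul_mem h1 u) ((TP ⊔ T').zsmul_mem h2 v)

end Aux

/-- Let P be a set of primes and π : A → T a surjection of abelian groups whose kernel is ℓ-divisible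
for every ℓ ∈ P, with T a torsion group; let T(P) be the subgroup of elements of T killed by a
positive integer all of whose prime factors lie in P, and T' the subgroup of elements killed by a
positive integer none of whose prime factors lies in P. Then the preimage π⁻¹(T') is ℓ-divisible for
every ℓ ∈ P, and π has a section s over T(P) for which (d, t) ↦ d + s(t) is a bijection from π⁻¹(T')
× T(P) onto A, so that A is the direct sum of π⁻¹(T') and a copy of T(P). (The decomposition is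
expressed through a section of π over T(P).) -/
theorem result
    {A T : Type*} [AddCommGroup A] [AddCommGroup T] (P : Set ℕ) (hP : ∀ p ∈ P, p.Prime)
    (π : A →+ T) (hπ : Function.Surjective π) (hT : ∀ t : T, ∃ n : ℕ, 0 < n ∧ n • t = 0)
    (hD : ∀ ℓ ∈ P, ∀ x ∈ π.ker, ∃ y ∈ π.ker, ℓ • y = x)
    (TP T' : AddSubgroup T)
    (hTP : ∀ t, t ∈ TP ↔ ∃ n : ℕ, 0 < n ∧ (∀ p : ℕ, p.Prime → p ∣ n → p ∈ P) ∧ n • t = 0)
    (hT' : ∀ t, t ∈ T' ↔ ∃ n : ℕ, 0 < n ∧ (∀ p : ℕ, p.Prime → p ∣ n → p ∉ P) ∧ n • t = 0) :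
    (∀ ℓ ∈ P, ∀ x ∈ T'.comap π, ∃ y ∈ T'.comap π, ℓ • y = x) ∧
    ∃ s : TP →+ A, (∀ t : TP, π (s t) = (t : T)) ∧
      Function.Bijective (fun q : (T'.comap π) × TP => (q.1 : A) + s q.2) := by
  classical
  have hcop : ∀ n n' : ℕ, (∀ p : ℕ, p.Prime → p ∣ n → p ∈ P) →
      (∀ p : ℕ, p.Prime → p ∣ n' → p ∉ P) → Nat.Coprime n n' :=
    fun n n' h h' => Nat.coprime_of_dvd fun k hk hkn hkn' => h' k hk hkn' (h k hk hkn)
  have hinter : ∀ t : T, t ∈ TP → t ∈ T' → t = 0 := by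
    intro t h1 h2
    obtain ⟨n, hn, hnP, hnt⟩ := (hTP t).mp h1
    obtain ⟨n', hn', hnP', hnt'⟩ := (hT' t).mp h2
    obtain ⟨u, v, huv⟩ := bezout_smul n n' (hcop n n' hnP hnP') t
    rw [huv, hnt, hnt', smul_zero, smul_zero, add_zero]
  have hdec : ∀ t : T, ∃ a ∈ TP, ∃ b ∈ T', a + b = t := by
    intro t
    obtain ⟨n, hn, hnt⟩ := hT t
    exact AddSubgroup.mem_sup.mp (decomp P TP T' (fun t h => (hTP t).mpr h)
      (fun t h => (hT' t).mpr h) n hn t hnt)
  constructor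
  · intro ℓ hℓ x hx
    have hx' : π x ∈ T' := hx
    obtain ⟨n, hn, hnP, hnt⟩ := (hT' _).mp hx'
    have hℓp := hP ℓ hℓ
    have hc : Nat.Coprime ℓ n :=
      (Nat.Prime.coprime_iff_not_dvd hℓp).mpr fun h => hnP ℓ hℓp h hℓ
    obtain ⟨u, v, huv⟩ := bezout_smul ℓ n hc x
    have hz : v • (n • x) ∈ π.ker := by
      rw [AddMonoidHom.mem_ker, map_zsmul, map_nsmul, hnt, smul_zero]
    obtain ⟨y₀, hy₀, hy₀z⟩ := hD ℓ hℓ _ hz
    refine ⟨u • x + y₀, ?_, ?_⟩
    · show π (u • x + y₀) ∈ T'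
      rw [map_add, map_zsmul, AddMonoidHom.mem_ker.mp hy₀, add_zero]
      exact T'.zsmul_mem hx' u
    · rw [smul_add, hy₀z, smul_comm ℓ u x]
      exact huv.symm
  · -- the P-torsion subgroup of A
    obtain ⟨E, hE⟩ : ∃ E : AddSubgroup A, ∀ x, x ∈ E ↔
        ∃ n : ℕ, 0 < n ∧ (∀ p : ℕ, p.Prime → p ∣ n → p ∈ P) ∧ n • x = 0 := by
      refine ⟨⟨⟨⟨{x | ∃ n : ℕ, 0 < n ∧ (∀ p : ℕ, p.Prime → p ∣ n → p ∈ P) ∧ n • x = 0},
        ?_⟩, ?_⟩, ?_⟩, fun x => Iff.rfl⟩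
      · rintro x y ⟨n, hn, hnP, hnx⟩ ⟨m, hm, hmP, hmy⟩
        refine ⟨n * m, Nat.mul_pos hn hm, fun p hp hpd => ?_, ?_⟩
        · rcases (Nat.Prime.dvd_mul hp).mp hpd with h | h
          · exact hnP p hp h
          · exact hmP p hp h
        · rw [smul_add, mul_smul n m y, hmy, smul_zero, mul_comm, mul_smul m n x, hnx, smul_zero,
            add_zero]
      · exact ⟨1, Nat.one_pos, fun p hp hpd => absurd (Nat.dvd_one.mp hpd) hp.ne_one, smul_zero 1⟩
      · rintro x ⟨n, hn, hnP, hnx⟩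
        exact ⟨n, hn, hnP, by rw [smul_neg, hnx, neg_zero]⟩
    obtain ⟨EK, hEKdef⟩ : ∃ EK : AddSubgroup A, EK = E ⊓ π.ker := ⟨_, rfl⟩
    have hEK : ∀ x, x ∈ EK ↔ x ∈ E ∧ π x = 0 := by
      intro x; rw [hEKdef, AddSubgroup.mem_inf, AddMonoidHom.mem_ker]
    have hEKE : EK ≤ E := by rw [hEKdef]; exact inf_le_left
    -- divisibility of EK by primes
    have hprime : ∀ q : ℕ, q.Prime → ∀ x ∈ EK, ∃ y ∈ EK, q • y = x := by
      intro q hq x hx
      obtain ⟨hxE, hxπ⟩ := (hEK x).mp hx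
      obtain ⟨n, hn, hnP, hnx⟩ := (hE x).mp hxE
      by_cases hqP : q ∈ P
      · obtain ⟨y, hy, hyx⟩ := hD q hqP x (AddMonoidHom.mem_ker.mpr hxπ)
        refine ⟨y, (hEK y).mpr ⟨(hE y).mpr ⟨n * q, Nat.mul_pos hn hq.pos, fun p hp hpd => ?_, ?_⟩,
          AddMonoidHom.mem_ker.mp hy⟩, hyx⟩
        · rcases (Nat.Prime.dvd_mul hp).mp hpd with h | h
          · exact hnP p hp h
          · rw [(Nat.prime_dvd_prime_iff_eq hp hq).mp h]; exact hqP
        · rw [mul_smul, hyx, hnx]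
      · have hc : Nat.Coprime q n :=
          (Nat.Prime.coprime_iff_not_dvd hq).mpr fun h => hqP (hnP q hq h)
        obtain ⟨u, v, huv⟩ := bezout_smul q n hc x
        refine ⟨u • x, EK.zsmul_mem hx u, ?_⟩
        rw [smul_comm q u x]
        rw [hnx, smul_zero, add_zero] at huv
        exact huv.symm
    have hdivN : ∀ m : ℕ, 0 < m → ∀ x ∈ EK, ∃ y ∈ EK, m • y = x := by
      intro m
      induction m using induction_on_primes with
      | zero => intro h; exact absurd h (lt_irrefl 0)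
      | one => intro _ x hx; exact ⟨x, hx, one_smul ℕ x⟩
      | prime_mul p a hp iha =>
        intro h x hx
        have ha : 0 < a := Nat.pos_of_ne_zero fun h0 => by
          rw [h0, mul_zero] at h; exact lt_irrefl 0 h
        obtain ⟨y₁, hy₁, hyx⟩ := hprime p hp x hx
        obtain ⟨y₂, hy₂, hy₁₂⟩ := iha ha y₁ hy₁
        exact ⟨y₂, hy₂, by rw [mul_smul, hy₁₂, hyx]⟩
    have hdivZ : ∀ (m : ℤ), m ≠ 0 → ∀ a : ↥EK, ∃ y : ↥EK, m • y = a := by
      intro m hm a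
      obtain ⟨y, hy, hya⟩ := hdivN m.natAbs (Int.natAbs_pos.mpr hm) a a.2
      rcases Int.natAbs_eq m with h | h
      · refine ⟨⟨y, hy⟩, Subtype.ext ?_⟩
        rw [AddSubgroup.coe_zsmul, h, natCast_zsmul]
        exact hya
      · refine ⟨-⟨y, hy⟩, Subtype.ext ?_⟩
        rw [AddSubgroup.coe_zsmul, h, neg_smul, AddSubgroup.coe_neg, smul_neg, neg_neg,
          natCast_zsmul]
        exact hya
    haveI : DivisibleBy ↥EK ℤ :=
      ⟨fun a m => if hm : m = 0 then 0 else (hdivZ m hm a).choose, fun a => dif_pos rfl,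
        fun {m} a hm => by rw [dif_neg hm]; exact (hdivZ m hm a).choose_spec⟩
    have hBaer : Module.Baer ℤ ↥EK := Module.Baer.of_divisible ↥EK
    obtain ⟨r, hr⟩ := hBaer.extension_property_addMonoidHom (AddSubgroup.inclusion hEKE)
      (AddSubgroup.inclusion_injective hEKE) (AddMonoidHom.id ↥EK)
    have hrk : ∀ (x : ↥E) (hx : (x : A) ∈ EK), ((r x : ↥EK) : A) = (x : A) := by
      intro x hx
      have h1 := DFunLike.congr_fun hr ⟨(x : A), hx⟩
      rw [AddMonoidHom.comp_apply, AddMonoidHom.id_apply] at h1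
      have h2 : AddSubgroup.inclusion hEKE ⟨(x : A), hx⟩ = x := Subtype.ext rfl
      rw [h2] at h1
      rw [h1]
    have hrπ : ∀ x : ↥E, π ((r x : ↥EK) : A) = 0 := fun x => ((hEK _).mp (r x).2).2
    obtain ⟨φ, hφ⟩ : ∃ φ : ↥E → A, ∀ x, φ x = (x : A) - ((r x : ↥EK) : A) := ⟨_, fun x => rfl⟩
    have hφπ : ∀ x, π (φ x) = π (x : A) := by
      intro x; rw [hφ, map_sub, hrπ, sub_zero]
    have hφadd : ∀ x y, φ (x + y) = φ x + φ y := by
      intro x y
      rw [hφ, hφ, hφ, map_add, AddSubgroup.coe_add, AddSubgroup.coe_add]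
      abel
    have hφker : ∀ x : ↥E, π (x : A) = 0 → φ x = 0 := by
      intro x hx
      rw [hφ, hrk x ((hEK _).mpr ⟨x.2, hx⟩), sub_self]
    have hφeq : ∀ x y : ↥E, π (x : A) = π (y : A) → φ x = φ y := by
      intro x y hxy
      have h1 : φ (x - y) = 0 := by
        apply hφker
        rw [AddSubgroup.coe_sub, map_sub, hxy, sub_self]
      have h2 : x = (x - y) + y := by abel
      rw [h2, hφadd, h1, zero_add]
    have hlift : ∀ t : ↥TP, ∃ x : ↥E, π (x : A) = (t : T) := by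
      intro t
      obtain ⟨n, hn, hnP, hnt⟩ := (hTP t).mp t.2
      obtain ⟨x₀, hx₀⟩ := hπ (t : T)
      have hk : n • x₀ ∈ π.ker := by
        rw [AddMonoidHom.mem_ker, map_nsmul, hx₀, hnt]
      obtain ⟨k, hk1, hk2⟩ := ker_div P π hD n ⟨hn, hnP⟩ _ hk
      refine ⟨⟨x₀ - k, (hE _).mpr ⟨n, hn, hnP, by rw [smul_sub, hk2, sub_self]⟩⟩, ?_⟩
      show π (x₀ - k) = (t : T)
      rw [map_sub, AddMonoidHom.mem_ker.mp hk1, sub_zero, hx₀]
    choose lift hliftspec using hlift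
    obtain ⟨s, hs⟩ : ∃ s : ↥TP →+ A, ∀ t, s t = φ (lift t) := by
      refine ⟨AddMonoidHom.mk' (fun t => φ (lift t)) ?_, fun t => rfl⟩
      intro t₁ t₂
      show φ (lift (t₁ + t₂)) = φ (lift t₁) + φ (lift t₂)
      rw [← hφadd]
      apply hφeq
      have hc : ((lift t₁ + lift t₂ : ↥E) : A) = (lift t₁ : A) + (lift t₂ : A) := rfl
      rw [hliftspec, hc, map_add, hliftspec, hliftspec]
      rfl
    have hsπ : ∀ t : ↥TP, π (s t) = (t : T) := by
      intro t; rw [hs, hφπ, hliftspec]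
    refine ⟨s, hsπ, ?_, ?_⟩
    · rintro ⟨d, t⟩ ⟨d', t'⟩ h
      have h' : (d : A) + s t = (d' : A) + s t' := h
      have h1 := congrArg π h'
      rw [map_add, map_add, hsπ, hsπ] at h1
      have hd : π (d : A) ∈ T' := d.2
      have hd' : π (d' : A) ∈ T' := d'.2
      have h2 : (t : T) - (t' : T) = π (d' : A) - π (d : A) := by
        have h6 : (t : T) = π (d' : A) + (t' : T) - π (d : A) := by
          rw [← h1]; abel
        rw [h6]; abel
      have h3 : (t : T) - (t' : T) = 0 :=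
        hinter _ (TP.sub_mem t.2 t'.2) (h2 ▸ T'.sub_mem hd' hd)
      have h4 : t = t' := Subtype.ext (sub_eq_zero.mp h3)
      rw [h4] at h'
      have h5 : d = d' := Subtype.ext (add_right_cancel h')
      rw [h4, h5]
    · intro a
      obtain ⟨tp, htp, t', ht', hsum⟩ := hdec (π a)
      have hd : a - s ⟨tp, htp⟩ ∈ T'.comap π := by
        show π (a - s ⟨tp, htp⟩) ∈ T'
        rw [map_sub, hsπ, ← hsum]
        show tp + t' - tp ∈ T'
        rw [add_sub_cancel_left]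
        exact ht'
      refine ⟨(⟨a - s ⟨tp, htp⟩, hd⟩, ⟨tp, htp⟩), ?_⟩
      show a - s ⟨tp, htp⟩ + s ⟨tp, htp⟩ = a
      rw [sub_add_cancel]

end Groth.Agent.S16343
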