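import Groth.Statements.S16344
import Mathlib

set_option autoImplicit false
universe u v
open IdeleMod

namespace Groth.Agent.S16344

theorem exists_compatible {ι : Type u} [Preorder ι] [IsDirected ι (· ≤ ·)]
    (G : ι → Type v) [∀ i, AddCommGroup (G i)] [∀ i, TopologicalSpace (G i)]
    [∀ i, CompactSpace (G i)] [∀ i, T2Space (G i)]
    (f : ∀ ⦃i j : ι⦄, i ≤ j → (G j →+ G i)) (hf : ∀ i j (h : i ≤ j), Continuous (f h))
    (hcomp : ∀ i j k (hij : i ≤ j) (hjk : j ≤ k) (x : G k), f hij (f hjk x) = f (hij.trans hjk) x)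
    (S : ∀ i, Set (G i)) (hSc : ∀ i, IsClosed (S i)) (hSn : ∀ i, (S i).Nonempty)
    (hS : ∀ i j (h : i ≤ j), ∀ w ∈ S j, f h w ∈ S i) :
    ∃ z : ∀ i, G i, (∀ i j (h : i ≤ j), f h (z j) = z i) ∧ ∀ i, z i ∈ S i := by
  classical
  rcases isEmpty_or_nonempty ι with hι | hι
  · exact ⟨fun i => isEmptyElim i, fun i => isEmptyElim i, fun i => isEmptyElim i⟩
  obtain ⟨t, ht⟩ : ∃ t : {p : ι × ι // p.1 ≤ p.2} → Set (∀ i, G i),
      t = fun p => {z | f p.2 (z p.1.2) = z p.1.1} ∩ {z | z p.1.1 ∈ S p.1.1} := ⟨_, rfl⟩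
  have htc : ∀ p, IsClosed (t p) := by
    intro p
    rw [ht]
    apply IsClosed.inter
    · exact isClosed_eq ((hf _ _ p.2).comp (continuous_apply _)) (continuous_apply _)
    · exact (hSc _).preimage (continuous_apply _)
  have hfip : ∀ u : Finset {p : ι × ι // p.1 ≤ p.2}, (Set.univ ∩ ⋂ p ∈ u, t p).Nonempty := by
    intro u
    obtain ⟨k, hk⟩ := Finset.exists_le (u.image fun p => p.1.2)
    obtain ⟨s, hs⟩ := hSn k
    refine ⟨fun i => if h : i ≤ k then f h s else (hSn i).some, Set.mem_univ _, ?_⟩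
    rw [Set.mem_iInter₂]
    intro p hp
    have hjk : p.1.2 ≤ k := hk _ (Finset.mem_image_of_mem _ hp)
    have hik : p.1.1 ≤ k := p.2.trans hjk
    rw [ht]
    refine ⟨?_, ?_⟩
    · show f p.2 (if h : p.1.2 ≤ k then f h s else (hSn p.1.2).some) =
        (if h : p.1.1 ≤ k then f h s else (hSn p.1.1).some)
      rw [dif_pos hjk, dif_pos hik]
      exact hcomp _ _ _ p.2 hjk s
    · show (if h : p.1.1 ≤ k then f h s else (hSn p.1.1).some) ∈ S p.1.1
      rw [dif_pos hik]
      exact hS _ _ hik s hs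
  obtain ⟨z, _, hz⟩ := isCompact_univ.inter_iInter_nonempty t htc hfip
  rw [Set.mem_iInter] at hz
  refine ⟨z, fun i j h => ?_, fun i => ?_⟩
  · have := hz ⟨(i, j), h⟩
    rw [ht] at this
    exact this.1
  · have := hz ⟨(i, i), le_refl i⟩
    rw [ht] at this
    exact this.2

/-- Let (G_i) be an inverse system, indexed by a directed preorder, of compact Hausdorff topological
abelian groups with continuous surjective transition maps, let G be its limit (the group of
compatible families) and let m be a natural number. Then the canonical map G/mG → lim G_i/mG_i is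
bijective: a compatible family that lies in mG_i at every index is m times a compatible family
(injectivity), and every family that is compatible modulo m agrees modulo m, index by index, with a
compatible family (surjectivity). -/
theorem result
    {ι : Type u} [Preorder ι] [IsDirected ι (· ≤ ·)]
    (G : ι → Type v) [∀ i, AddCommGroup (G i)] [∀ i, TopologicalSpace (G i)]
    [∀ i, IsTopologicalAddGroup (G i)] [∀ i, CompactSpace (G i)] [∀ i, T2Space (G i)]
    (f : ∀ ⦃i j : ι⦄, i ≤ j → (G j →+ G i)) (hf : ∀ i j (h : i ≤ j), Continuous (f h))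
    (hid : ∀ i (x : G i), f (le_refl i) x = x)
    (hcomp : ∀ i j k (hij : i ≤ j) (hjk : j ≤ k) (x : G k), f hij (f hjk x) = f (hij.trans hjk) x)
    (hsurj : ∀ i j (h : i ≤ j), Function.Surjective (f h)) (m : ℕ) :
    (∀ x : ∀ i, G i, (∀ i j (h : i ≤ j), f h (x j) = x i) → (∀ i, ∃ y : G i, m • y = x i) →
        ∃ z : ∀ i, G i, (∀ i j (h : i ≤ j), f h (z j) = z i) ∧ ∀ i, m • z i = x i) ∧
    (∀ y : ∀ i, G i, (∀ i j (h : i ≤ j), ∃ w : G i, f h (y j) - y i = m • w) →
        ∃ x : ∀ i, G i, (∀ i j (h : i ≤ j), f h (x j) = x i) ∧ ∀ i, ∃ w : G i, x i - y i = m • w) := by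
  constructor
  · intro x hx hdiv
    obtain ⟨z, hz1, hz2⟩ := exists_compatible G f hf hcomp (fun i => {y | m • y = x i})
      (fun i => isClosed_eq (continuous_nsmul m) continuous_const) hdiv
      (fun i j h w hw => by
        show m • f h w = x i
        rw [← map_nsmul, show m • w = x j from hw, hx i j h])
    exact ⟨z, hz1, hz2⟩
  · intro y hy
    obtain ⟨z, hz1, hz2⟩ := exists_compatible G f hf hcomp
      (fun i => (fun w => w - y i) ⁻¹' (Set.range fun u : G i => m • u))
      (fun i => ((isCompact_range (continuous_nsmul m)).isClosed).preimage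
        (continuous_id.sub continuous_const))
      (fun i => ⟨y i, ⟨0, by simp⟩⟩)
      (fun i j h w hw => by
        obtain ⟨u, hu⟩ := hw
        obtain ⟨w', hw'⟩ := hy i j h
        refine ⟨f h u + w', ?_⟩
        show m • (f h u + w') = f h w - y i
        have hu' : m • u = w - y j := hu
        rw [smul_add, ← map_nsmul, hu', ← hw', map_sub]
        abel)
    refine ⟨z, hz1, fun i => ?_⟩
    obtain ⟨u, hu⟩ := hz2 i
    exact ⟨u, hu.symm⟩

end Groth.Agent.S16344
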