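import Groth.Statements.S16346
import Mathlib
-- import your own Groth.Agent.* helpers here

set_option autoImplicit false
universe u v
open KatoHom

namespace Groth.Agent.S16346

/-- Let P be a set of primes and I_P the set of positive integers all of whose prime factors lie in P.
Let A be an abelian group, (B_n)_{n ∈ I_P} an inverse system of abelian groups with transition maps
B_n → B_m for m ∣ n, and φ_n : A → B_n homomorphisms vanishing on nA and compatible with the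
transition maps, so that they induce φ̂ : Â → B̂ on the limits Â = lim A/nA and B̂ = lim B_n (limits
taken as compatible families). Suppose some N ∈ I_P kills the torsion subgroup of B̂ and kills the
kernel of φ̂ (the latter meaning: a compatible family of residues (a_n) with φ_n(a_n) = 0 for all n
has N a_n ∈ nA for all n). Then the subgroup ⋂_{n ∈ I_P} nA is ℓ-divisible for every ℓ ∈ P, and it
contains every subgroup of A that is ℓ-divisible for all ℓ ∈ P; that is, it is the largest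
P-divisible subgroup of A. -/
theorem result
    {A : Type u} [AddCommGroup A] (P : Set ℕ) (hP : ∀ p ∈ P, p.Prime)
    (IP : Set ℕ) (hIP : ∀ n, n ∈ IP ↔ 0 < n ∧ ∀ p : ℕ, p.Prime → p ∣ n → p ∈ P)
    (B : IP → Type v) [∀ n, AddCommGroup (B n)]
    (g : ∀ ⦃m n : IP⦄, (m : ℕ) ∣ (n : ℕ) → (B n →+ B m))
    (hgid : ∀ (n : IP) (b : B n), g (dvd_refl (n : ℕ)) b = b)
    (hgcomp : ∀ (k m n : IP) (hkm : (k : ℕ) ∣ (m : ℕ)) (hmn : (m : ℕ) ∣ (n : ℕ)) (b : B n),
      g hkm (g hmn b) = g (hkm.trans hmn) b)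
    (φ : ∀ n : IP, A →+ B n) (hφ : ∀ (n : IP) (a : A), φ n ((n : ℕ) • a) = 0)
    (hφg : ∀ (m n : IP) (h : (m : ℕ) ∣ (n : ℕ)) (a : A), g h (φ n a) = φ m a)
    (N : ℕ) (hN : N ∈ IP)
    (htor : ∀ b : ∀ n : IP, B n, (∀ (m n : IP) (h : (m : ℕ) ∣ (n : ℕ)), g h (b n) = b m) →
      (∃ k : ℕ, 0 < k ∧ ∀ n, k • b n = 0) → ∀ n, N • b n = 0)
    (hker : ∀ a : IP → A, (∀ m n : IP, (m : ℕ) ∣ (n : ℕ) → ∃ c : A, a n - a m = (m : ℕ) • c) →
      (∀ n, φ n (a n) = 0) → ∀ n : IP, ∃ c : A, N • a n = (n : ℕ) • c) :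
    (∀ ℓ ∈ P, ∀ x : A, (∀ n ∈ IP, ∃ y : A, x = n • y) →
        ∃ y : A, (∀ n ∈ IP, ∃ z : A, y = n • z) ∧ ℓ • y = x) ∧
    (∀ H : AddSubgroup A, (∀ ℓ ∈ P, ∀ x ∈ H, ∃ y ∈ H, ℓ • y = x) →
        ∀ x ∈ H, ∀ n ∈ IP, ∃ y : A, x = n • y) := by
  have hIPmul : ∀ a b : ℕ, a ∈ IP → b ∈ IP → a * b ∈ IP := by
    intro a b ha hb
    rw [hIP] at ha hb ⊢
    refine ⟨Nat.mul_pos ha.1 hb.1, fun p hp hpd => ?_⟩
    rcases (Nat.Prime.dvd_mul hp).mp hpd with h | h
    · exact ha.2 p hp h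
    · exact hb.2 p hp h
  have hℓIP : ∀ ℓ ∈ P, ℓ ∈ IP := by
    intro ℓ hℓ
    rw [hIP]
    refine ⟨(hP ℓ hℓ).pos, fun p hp hpd => ?_⟩
    rw [(Nat.prime_dvd_prime_iff_eq hp (hP ℓ hℓ)).mp hpd]
    exact hℓ
  constructor
  · intro ℓ hℓ x hx
    have hk : ℓ * N * N ∈ IP := hIPmul _ _ (hIPmul _ _ (hℓIP ℓ hℓ) hN) hN
    obtain ⟨w, hw⟩ := hx _ hk
    have hkpos : 0 < ℓ * N * N := ((hIP _).mp hk).1
    have h1 : ∀ n : IP, N • φ n w = 0 := by
      apply htor (fun n => φ n w)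
      · intro m n h; exact hφg m n h w
      · refine ⟨ℓ * N * N, hkpos, fun n => ?_⟩
        obtain ⟨y, hy⟩ := hx n n.2
        rw [← map_nsmul, ← hw, hy]
        exact hφ n y
    have h2 := hker (fun _ => N • w) (fun m n _ => ⟨0, by simp⟩)
      (fun n => by rw [map_nsmul]; exact h1 n)
    refine ⟨N • (N • w), fun n hn => ?_, ?_⟩
    · exact h2 ⟨n, hn⟩
    · rw [hw, mul_smul, mul_smul]
  · intro H hH
    have key : ∀ n : ℕ, n ∈ IP → ∀ x ∈ H, ∃ y ∈ H, x = n • y := by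
      intro n
      induction n using induction_on_primes with
      | zero => intro h; exact absurd ((hIP 0).mp h).1 (lt_irrefl 0)
      | one => intro _ x hx; exact ⟨x, hx, (one_smul ℕ x).symm⟩
      | prime_mul p a hp iha =>
        intro h x hx
        have hpa := (hIP (p * a)).mp h
        have hpP : p ∈ P := hpa.2 p hp (dvd_mul_right p a)
        have haIP : a ∈ IP := by
          rw [hIP]
          refine ⟨Nat.pos_of_ne_zero fun h0 => ?_, fun q hq hqd => hpa.2 q hq (dvd_mul_of_dvd_right hqd p)⟩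
          rw [h0, mul_zero] at hpa
          exact lt_irrefl 0 hpa.1
        obtain ⟨y₁, hy₁, hyx⟩ := hH p hpP x hx
        obtain ⟨y₂, hy₂, hy₁₂⟩ := iha haIP y₁ hy₁
        exact ⟨y₂, hy₂, by rw [mul_smul, ← hy₁₂, hyx]⟩
    intro x hx n hn
    obtain ⟨y, _, hy⟩ := key n hn x hx
    exact ⟨y, hy⟩

end Groth.Agent.S16346
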