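import Groth.Statements.S16351
import Mathlib

set_option autoImplicit false
universe u
open Cubic

namespace Groth.Agent.S16351

theorem three {K V : Type*} [Field K] [AddCommGroup V] [Module K V] {u v w : V}
    (h : LinearIndependent K ![u, v, w]) {x y z : K} (hxyz : x • u + y • v + z • w = 0) :
    x = 0 ∧ y = 0 ∧ z = 0 := by
  have h1 := Fintype.linearIndependent_iff.mp h ![x, y, z]
    (by simpa [Fin.sum_univ_three] using hxyz)
  exact ⟨by simpa using h1 0, by simpa using h1 1, by simpa using h1 2⟩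

theorem core {K : Type*} [Field K] (b : Fin 5 → (Fin 3 → K))
    (h3 : ∀ i j l : Fin 5, i ≠ j → j ≠ l → i ≠ l → LinearIndependent K ![b i, b j, b l])
    (s : K) (hs0 : s ≠ 0)
    (hs23 : ¬ ∃ α β : K, b 4 - s • b 0 = α • b 2 + β • b 3)
    (hs13 : ¬ ∃ α β : K, b 4 - s • b 0 = α • b 1 + β • b 3)
    (hs12 : ¬ ∃ α β : K, b 4 - s • b 0 = α • b 1 + β • b 2)
    (d : Fin 5 → K)
    (R1 : d 0 • b 0 + d 1 • b 1 + d 2 • b 2 + d 3 • b 3 + d 4 • b 4 = 0)
    (R2 : d 0 + d 4 * s = 0)
    (R3 : d 0 = 0 ∨ d 1 = 0 ∨ d 2 = 0 ∨ d 3 = 0 ∨ d 4 = 0) : ∀ l, d l = 0 := by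
  have hall : ∀ l : Fin 5, l = 0 ∨ l = 1 ∨ l = 2 ∨ l = 3 ∨ l = 4 := by decide
  have A : d 4 = 0 → ∀ l, d l = 0 := by
    intro h4
    have h0 : d 0 = 0 := by rw [h4, zero_mul, add_zero] at R2; exact R2
    have R1' : d 1 • b 1 + d 2 • b 2 + d 3 • b 3 = 0 := by
      rw [h4, h0, zero_smul, zero_smul, zero_add, add_zero] at R1
      exact R1
    obtain ⟨h1, h2, h3'⟩ := three (h3 1 2 3 (by decide) (by decide) (by decide)) R1'
    intro l
    rcases hall l with rfl | rfl | rfl | rfl | rfl
    · exact h0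
    · exact h1
    · exact h2
    · exact h3'
    · exact h4
  have B : ∀ x y : Fin 5, (¬ ∃ α β : K, b 4 - s • b 0 = α • b x + β • b y) →
      d 0 • b 0 + d x • b x + d y • b y + d 4 • b 4 = 0 → d 4 = 0 := by
    intro x y hxy R1'
    by_contra h4
    apply hxy
    have h0 : d 0 = -(d 4 * s) := eq_neg_of_add_eq_zero_left R2
    have hrel : d 4 • (b 4 - s • b 0) = (-d x) • b x + (-d y) • b y := by
      have e1 : d 4 • (b 4 - s • b 0) - ((-d x) • b x + (-d y) • b y)
          = d 0 • b 0 + d x • b x + d y • b y + d 4 • b 4 := by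
        rw [h0]; module
      exact sub_eq_zero.mp (e1.trans R1')
    refine ⟨(d 4)⁻¹ * (-d x), (d 4)⁻¹ * (-d y), ?_⟩
    rw [← inv_smul_smul₀ h4 (b 4 - s • b 0), hrel, smul_add, smul_smul, smul_smul]
  rcases R3 with h | h | h | h | h
  · apply A
    have : d 4 * s = 0 := by rw [h, zero_add] at R2; exact R2
    rcases mul_eq_zero.mp this with h' | h'
    · exact h'
    · exact absurd h' hs0
  · apply A
    apply B 2 3 hs23
    rw [h, zero_smul, add_zero] at R1
    exact R1
  · apply A
    apply B 1 3 hs13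
    rw [h, zero_smul, add_zero] at R1
    exact R1
  · apply A
    apply B 1 2 hs12
    rw [h, zero_smul, add_zero] at R1
    exact R1
  · exact A h

/-- Let K be a field of characteristic zero and S = V(F) ⊂ P^3_K a cone over a plane cubic curve C,
normalised so that the vertex is [1 : 0 : 0 : 0], i.e. F is a homogeneous cubic in K[x_0, …, x_3]
not involving x_0 and C = V(F) in the plane P^2 of the coordinates x_1, x_2, x_3. If C has five
K-rational points no three of which are collinear, then S has five K-rational points in general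
position (no four coplanar: any four representing vectors linearly independent). -/
theorem result (K : Type u) [Field K] [CharZero K]
    (G : MvPolynomial (Fin 3) K) (hG : G.IsHomogeneous 3) (F : MvPolynomial (Fin 4) K)
    (hF : F = MvPolynomial.rename Fin.succ G)
    (b : Fin 5 → (Fin 3 → K)) (hb : ∀ j : Fin 5, MvPolynomial.eval (b j) G = 0)
    (h3 : ∀ i j l : Fin 5, i ≠ j → j ≠ l → i ≠ l → LinearIndependent K ![b i, b j, b l]) :
    ∃ p : Fin 5 → (Fin 4 → K), (∀ j : Fin 5, MvPolynomial.eval (p j) F = 0) ∧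
      ∀ j : Fin 5, LinearIndependent K (fun i : Fin 4 => p (j.succAbove i)) := by
  classical
  have hsub : ∀ x y : Fin 5, (0 : Fin 5) ≠ x → x ≠ y → (0 : Fin 5) ≠ y →
      Set.Subsingleton {s : K | ∃ α β : K, b 4 - s • b 0 = α • b x + β • b y} := by
    intro x y h0x hxy h0y s hs s' hs'
    obtain ⟨α, β, h⟩ := hs
    obtain ⟨α', β', h'⟩ := hs'
    have e : (s' - s) • b 0 + (α' - α) • b x + (β' - β) • b y = 0 := by
      have e1 := sub_eq_zero.mpr h
      have e2 := sub_eq_zero.mpr h'
      calc (s' - s) • b 0 + (α' - α) • b x + (β' - β) • b y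
          = (b 4 - s • b 0 - (α • b x + β • b y)) -
            (b 4 - s' • b 0 - (α' • b x + β' • b y)) := by module
        _ = 0 := by rw [e1, e2, sub_zero]
    obtain ⟨hs1, -, -⟩ := three (h3 0 x y h0x hxy h0y) e
    exact (sub_eq_zero.mp hs1).symm
  have hfin : ({0} ∪ {s : K | ∃ α β : K, b 4 - s • b 0 = α • b 2 + β • b 3} ∪
      {s : K | ∃ α β : K, b 4 - s • b 0 = α • b 1 + β • b 3} ∪
      {s : K | ∃ α β : K, b 4 - s • b 0 = α • b 1 + β • b 2} : Set K).Finite :=
    (((Set.finite_singleton 0).union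
      (hsub 2 3 (by decide) (by decide) (by decide)).finite).union
      (hsub 1 3 (by decide) (by decide) (by decide)).finite).union
      (hsub 1 2 (by decide) (by decide) (by decide)).finite
  obtain ⟨s, hs⟩ := hfin.exists_notMem
  simp only [Set.mem_union, Set.mem_singleton_iff, Set.mem_setOf_eq, not_or] at hs
  obtain ⟨⟨⟨hs0, hs23⟩, hs13⟩, hs12⟩ := hs
  refine ⟨fun l => Fin.cons (![1, 0, 0, 0, s] l) (b l), ?_, ?_⟩
  · intro l
    rw [hF, MvPolynomial.eval_rename]
    have : (Fin.cons (![1, 0, 0, 0, s] l) (b l) : Fin 4 → K) ∘ Fin.succ = b l := by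
      funext i
      simp
    rw [this]
    exact hb l
  · intro j
    rw [Fintype.linearIndependent_iff]
    intro c hc
    obtain ⟨d, hdj, hdσ⟩ : ∃ d : Fin 5 → K, d j = 0 ∧ ∀ i, d (j.succAbove i) = c i :=
      ⟨Fin.insertNth j 0 c, Fin.insertNth_apply_same _ _ _,
        fun i => Fin.insertNth_apply_succAbove _ _ _ i⟩
    have hsum : ∑ l, d l • (Fin.cons (![1, 0, 0, 0, s] l) (b l) : Fin 4 → K) = 0 := by
      rw [Fin.sum_univ_succAbove _ j, hdj, zero_smul, zero_add]
      simp only [hdσ]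
      exact hc
    have R2 : d 0 + d 4 * s = 0 := by
      have h := congrFun hsum 0
      simpa [Fin.sum_univ_five, Finset.sum_apply] using h
    have R1 : d 0 • b 0 + d 1 • b 1 + d 2 • b 2 + d 3 • b 3 + d 4 • b 4 = 0 := by
      funext k
      have h := congrFun hsum k.succ
      simpa [Fin.sum_univ_five, Finset.sum_apply] using h
    have hall : ∀ l : Fin 5, l = 0 ∨ l = 1 ∨ l = 2 ∨ l = 3 ∨ l = 4 := by decide
    have R3 : d 0 = 0 ∨ d 1 = 0 ∨ d 2 = 0 ∨ d 3 = 0 ∨ d 4 = 0 := by
      rcases hall j with rfl | rfl | rfl | rfl | rfl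
      · exact Or.inl hdj
      · exact Or.inr (Or.inl hdj)
      · exact Or.inr (Or.inr (Or.inl hdj))
      · exact Or.inr (Or.inr (Or.inr (Or.inl hdj)))
      · exact Or.inr (Or.inr (Or.inr (Or.inr hdj)))
    have hd := core b h3 s hs0 hs23 hs13 hs12 d R1 R2 R3
    intro i
    rw [← hdσ i]
    exact hd _

end Groth.Agent.S16351
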