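import Groth.Statements.S16353
import Mathlib

set_option autoImplicit false
universe u
open DegLoci MvPolynomial

namespace Groth.Agent.S16353

noncomputable def cc {m : ℕ} (α β : Fin m →₀ ℕ) : ℕ := ∏ i, Nat.descFactorial (β i) (α i)

theorem coeff_contract {k : Type*} [Field k] {m : ℕ} (D G : MvPolynomial (Fin m) k)
    (γ : Fin m →₀ ℕ) :
    coeff γ (W4c3degenlocivb.contract D G)
      = ∑ α ∈ D.support, coeff α D * coeff (γ + α) G * ((cc α (γ + α) : ℕ) : k) := by
  classical
  unfold W4c3degenlocivb.contract
  rw [coeff_sum]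
  refine Finset.sum_congr rfl (fun α hα => ?_)
  rw [coeff_sum]
  have hprod : ((γ + α).support.prod fun i => Nat.descFactorial ((γ + α) i) (α i))
      = cc α (γ + α) := by
    unfold cc
    apply Finset.prod_subset (Finset.subset_univ _)
    intro i _ hi
    have h0 : (γ + α) i = 0 := Finsupp.notMem_support_iff.mp hi
    have h1 : γ i + α i = 0 := by
      rw [← Finsupp.add_apply]
      exact h0
    have h2 : α i = 0 := by omega
    rw [h0, h2]
    rfl
  rw [Finset.sum_eq_single (γ + α)]
  · rw [if_pos (self_le_add_left α γ), add_tsub_cancel_right, coeff_monomial, if_pos rfl, hprod]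
  · intro β _ hβ
    by_cases hle : α ≤ β
    · rw [if_pos hle, coeff_monomial, if_neg]
      intro h
      apply hβ
      rw [← h, tsub_add_cancel_of_le hle]
    · rw [if_neg hle, coeff_zero]
  · intro hnot
    rw [if_pos (self_le_add_left α γ), add_tsub_cancel_right, coeff_monomial, if_pos rfl,
      MvPolynomial.notMem_support_iff.mp hnot, mul_zero, zero_mul]

theorem coeff_contract_monomial {k : Type*} [Field k] {m : ℕ} (α : Fin m →₀ ℕ)
    (G : MvPolynomial (Fin m) k) (γ : Fin m →₀ ℕ) :
    coeff γ (W4c3degenlocivb.contract (monomial α (1:k)) G)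
      = coeff (γ + α) G * ((cc α (γ + α) : ℕ) : k) := by
  classical
  rw [coeff_contract, support_monomial, if_neg one_ne_zero, Finset.sum_singleton, coeff_monomial,
    if_pos rfl, one_mul]

theorem cc_arith {m : ℕ} (α δ : Fin m →₀ ℕ) :
    cc α (δ + α) * cc δ δ = cc δ (α + δ) * cc α α := by
  unfold cc
  rw [← Finset.prod_mul_distrib, ← Finset.prod_mul_distrib]
  refine Finset.prod_congr rfl (fun i _ => ?_)
  rw [Finsupp.add_apply, Finsupp.add_apply, Nat.descFactorial_self, Nat.descFactorial_self]
  have h1 := Nat.factorial_mul_descFactorial (Nat.le_add_left (α i) (δ i))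
  have h2 := Nat.factorial_mul_descFactorial (Nat.le_add_left (δ i) (α i))
  rw [Nat.add_sub_cancel] at h1 h2
  rw [mul_comm ((δ i + α i).descFactorial (α i)), h1,
    mul_comm ((α i + δ i).descFactorial (δ i)), h2, add_comm]

theorem cc_self_ne_zero {k : Type*} [Field k] [CharZero k] {m : ℕ} (α : Fin m →₀ ℕ) :
    ((cc α α : ℕ) : k) ≠ 0 := by
  apply Nat.cast_ne_zero.mpr
  unfold cc
  apply Finset.prod_ne_zero_iff.mpr
  intro i _
  rw [Nat.descFactorial_self]
  exact (Nat.factorial_pos _).ne'

/-- Let k be a field of characteristic zero, R = k[y_0, …, y_{m−1}] acting on S = k[∂_0, …, ∂_{m−1}] by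
apolarity (y_i acts as the derivative with respect to ∂_i), F ∈ S homogeneous of degree e and d ≤ e.
Then the degree-d part of the apolar ideal of F is the orthogonal complement of the partial
derivatives of F of order e − d: a homogeneous D ∈ R_d satisfies D(F) = 0 if and only if D(y^α(F)) =
0 for every multi-index α with |α| = e − d (each D(y^α(F)) being a constant, the value of the
apolarity pairing of D with y^α(F)). -/
theorem result (k : Type u) [Field k] [CharZero k] (m : ℕ)
    (F : MvPolynomial (Fin m) k) (e : ℕ) (hF : F.IsHomogeneous e) (d : ℕ) (hd : d ≤ e)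
    (D : MvPolynomial (Fin m) k) (hD : D.IsHomogeneous d) :
    W4c3degenlocivb.contract D F = 0 ↔
      ∀ α : Fin m →₀ ℕ, α.degree = e - d → W4c3degenlocivb.contract D (W4c3degenlocivb.contract (MvPolynomial.monomial α 1) F) = 0 := by
  classical
  have hDdeg : ∀ δ ∈ D.support, δ.degree = d := by
    intro δ hδ
    by_contra h
    exact (mem_support_iff.mp hδ) (hD.coeff_eq_zero h)
  have h1 : ∀ γ : Fin m →₀ ℕ, γ.degree ≠ e - d →
      coeff γ (W4c3degenlocivb.contract D F) = 0 := by
    intro γ hγ
    rw [coeff_contract]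
    refine Finset.sum_eq_zero (fun δ hδ => ?_)
    have hd := hDdeg δ hδ
    have hF0 : coeff (γ + δ) F = 0 := by
      apply hF.coeff_eq_zero
      rw [map_add, hd]
      omega
    rw [hF0, mul_zero, zero_mul]
  have h2a : ∀ α : Fin m →₀ ℕ, α.degree = e - d → ∀ γ : Fin m →₀ ℕ, γ ≠ 0 →
      coeff γ (W4c3degenlocivb.contract D
        (W4c3degenlocivb.contract (monomial α 1) F)) = 0 := by
    intro α hα γ hγ
    rw [coeff_contract]
    refine Finset.sum_eq_zero (fun δ hδ => ?_)
    have hd := hDdeg δ hδ
    have hγ0 : γ.degree ≠ 0 := fun h => hγ ((Finsupp.degree_eq_zero_iff γ).mp h)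
    have hF0 : coeff (γ + δ + α) F = 0 := by
      apply hF.coeff_eq_zero
      rw [map_add, map_add, hd, hα]
      omega
    rw [coeff_contract_monomial, hF0, zero_mul, mul_zero, zero_mul]
  have h2b : ∀ α : Fin m →₀ ℕ,
      coeff 0 (W4c3degenlocivb.contract D (W4c3degenlocivb.contract (monomial α 1) F))
        = ((cc α α : ℕ) : k) * coeff α (W4c3degenlocivb.contract D F) := by
    intro α
    rw [coeff_contract, coeff_contract, Finset.mul_sum]
    refine Finset.sum_congr rfl (fun δ _ => ?_)
    rw [coeff_contract_monomial, zero_add]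
    have hB : ((cc α (α + δ) : ℕ) : k) * ((cc δ δ : ℕ) : k)
        = ((cc δ (α + δ) : ℕ) : k) * ((cc α α : ℕ) : k) := by
      have h := cc_arith α δ
      rw [add_comm δ α] at h
      rw [← Nat.cast_mul, ← Nat.cast_mul, h]
    rw [add_comm δ α]
    linear_combination (coeff δ D * coeff (α + δ) F) * hB
  constructor
  · intro h0 α hα
    ext γ
    rw [coeff_zero]
    by_cases hγ : γ = 0
    · rw [hγ, h2b α, h0, coeff_zero, mul_zero]
    · exact h2a α hα γ hγ
  · intro hall
    ext γ
    rw [coeff_zero]
    by_cases hγ : γ.degree = e - d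
    · have h := h2b γ
      rw [hall γ hγ, coeff_zero] at h
      rcases mul_eq_zero.mp h.symm with h' | h'
      · exact absurd h' (cc_self_ne_zero γ)
      · exact h'
    · exact h1 γ hγ

end Groth.Agent.S16353
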