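import Groth.Statements.S16356
import Mathlib
-- import your own Groth.Agent.* helpers here

set_option autoImplicit false
universe u
open OrdAV

namespace Groth.Agent.S16356

/-- For an odd prime p and a perfect field k of characteristic p, a root of unity in the ring of Witt
vectors W(k) whose residue in k is 1 is itself 1: if x ^ n = 1 with n ≥ 1 and the zeroth Witt
component of x is 1, then x = 1. (For p = 2 this fails: -1 in W(F_2).) -/
theorem result (p : ℕ) [Fact p.Prime] (hp : p ≠ 2)
    (k : Type u) [Field k] [CharP k p] [PerfectRing k p]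
    (x : WittVector p k) (n : ℕ) (hn : 0 < n) (hx : x ^ n = 1) (h0 : x.coeff 0 = 1) : x = 1 := by
  by_contra hne
  have hsub : x - 1 ≠ 0 := sub_ne_zero.mpr hne
  have hpirr : Irreducible (p : WittVector p k) := WittVector.irreducible p
  have hpp : Prime (p : WittVector p k) := hpirr.prime
  have hc0 : ∀ y : WittVector p k, ((p : WittVector p k) * y).coeff 0 = 0 := by
    intro y
    have h := map_mul (WittVector.constantCoeff (p := p) (R := k)) (p : WittVector p k) y
    simp only [WittVector.constantCoeff_apply, WittVector.coeff_p_zero, zero_mul] at h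
    exact h
  have hdvd : (p : WittVector p k) ∣ x - 1 := by
    obtain ⟨m, b, hb, hxb⟩ := WittVector.exists_eq_pow_p_mul (x - 1) hsub
    rcases Nat.eq_zero_or_pos m with rfl | hm
    · exfalso
      rw [pow_zero, one_mul] at hxb
      apply hb
      rw [← hxb]
      have h := map_sub (WittVector.constantCoeff (p := p) (R := k)) x 1
      simp only [WittVector.constantCoeff_apply, WittVector.one_coeff_zero] at h
      rw [h, h0, sub_self]
    · rw [hxb]
      exact Dvd.dvd.mul_right (dvd_pow_self _ hm.ne') _
  have hndvd : ¬ (p : WittVector p k) ∣ x := by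
    rintro ⟨y, rfl⟩
    rw [hc0] at h0
    exact zero_ne_one h0
  have hp1 : Odd p := (Fact.out : p.Prime).odd_of_ne_two hp
  obtain ⟨a, m, hm, hnm⟩ := Nat.exists_eq_pow_mul_and_not_dvd hn.ne' p (Fact.out : p.Prime).ne_one
  have hmW : ¬ (p : WittVector p k) ∣ (m : WittVector p k) := by
    rintro ⟨y, hy⟩
    apply hm
    rw [← CharP.cast_eq_zero_iff k p m]
    have h := congrArg (fun z : WittVector p k => z.coeff 0) hy
    simp only [hc0] at h
    have h2 := map_natCast (WittVector.constantCoeff (p := p) (R := k)) m
    rw [WittVector.constantCoeff_apply] at h2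
    rw [← h2, h]
  have hX : (p : WittVector p k) ∣ x ^ p ^ a - 1 ^ p ^ a :=
    dvd_trans hdvd (sub_dvd_pow_sub_pow x 1 (p ^ a))
  have hXn : ¬ (p : WittVector p k) ∣ x ^ p ^ a := fun h => hndvd (hpp.dvd_of_dvd_pow h)
  have e1 := emultiplicity_pow_sub_pow_of_prime hpp hX hXn hmW
  have e2 := emultiplicity_pow_prime_pow_sub_pow_prime_pow hpp hp1 hdvd hndvd a
  rw [← pow_mul, ← pow_mul, ← hnm, hx, one_pow, sub_self, emultiplicity_zero, e2] at e1
  have hfin : FiniteMultiplicity (p : WittVector p k) (x - 1) :=
    FiniteMultiplicity.of_not_isUnit hpirr.not_isUnit hsub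
  rw [← emultiplicity_lt_top] at hfin
  have h3 := e1.symm
  rw [ENat.add_eq_top] at h3
  rcases h3 with h3 | h3
  · exact absurd h3 hfin.ne
  · exact absurd h3 (ENat.coe_ne_top a)

end Groth.Agent.S16356
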