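import Groth.Statements.S16357
import Mathlib
-- import your own Groth.Agent.* helpers here

set_option autoImplicit false
universe u
open OrdAV

namespace Groth.Agent.S16357

/-- Over a field L of characteristic zero, a monic polynomial h whose square has rational coefficients
has rational coefficients itself. -/
theorem result (L : Type u) [Field L] [CharZero L]
    (h : Polynomial L) (hm : h.Monic) (f : Polynomial ℚ)
    (hf : h ^ 2 = Polynomial.map (algebraMap ℚ L) f) :
    ∃ g : Polynomial ℚ, Polynomial.map (algebraMap ℚ L) g = h := by
  classical
  set φ := algebraMap ℚ L with hφ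
  set S : Subring L := φ.range with hS
  set d := h.natDegree with hd
  have hcoeff : ∀ m, (h ^ 2).coeff m ∈ S := by
    intro m; rw [hf, Polynomial.coeff_map]; exact ⟨_, rfl⟩
  have h2ne : (2 : L) ≠ 0 := two_ne_zero
  have hhalf : ∀ a : L, 2 * a ∈ S → a ∈ S := by
    intro a ha
    have : a = φ (1 / 2) * (2 * a) := by
      rw [map_div₀, map_one, map_ofNat]; field_simp
    rw [this]; exact S.mul_mem ⟨_, rfl⟩ ha
  have key : ∀ k, k ≤ d → h.coeff (d - k) ∈ S := by
    intro k
    induction k using Nat.strong_induction_on with
    | _ k ih =>
      intro hk
      rcases Nat.eq_zero_or_pos k with rfl | hkpos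
      · rw [Nat.sub_zero, hd, hm.coeff_natDegree]; exact S.one_mem
      · apply hhalf
        have hc := hcoeff (2 * d - k)
        rw [sq, Polynomial.coeff_mul] at hc
        have hsum : ∑ p ∈ Finset.HasAntidiagonal.antidiagonal (2 * d - k),
            (h.coeff p.1 * h.coeff p.2 - (if p = (d, d - k) then h.coeff (d - k) else 0) -
              (if p = (d - k, d) then h.coeff (d - k) else 0)) ∈ S := by
          apply S.sum_mem
          rintro ⟨i, j⟩ hij
          rw [Finset.HasAntidiagonal.mem_antidiagonal] at hij
          simp only at hij
          by_cases h1 : (i, j) = (d, d - k)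
          · have h2 : (i, j) ≠ (d - k, d) := by
              rw [h1]; intro heq; simp only [Prod.mk.injEq] at heq; omega
            rw [if_pos h1, if_neg h2]
            simp only [Prod.mk.injEq] at h1
            rw [h1.1, h1.2, hd, hm.coeff_natDegree]; simp
          · by_cases h2 : (i, j) = (d - k, d)
            · rw [if_neg h1, if_pos h2]
              simp only [Prod.mk.injEq] at h2
              rw [h2.1, h2.2, hd, hm.coeff_natDegree]; simp
            · rw [if_neg h1, if_neg h2, sub_zero, sub_zero]
              by_cases hi : d < i
              · rw [Polynomial.coeff_eq_zero_of_natDegree_lt hi, zero_mul]; exact S.zero_mem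
              by_cases hj : d < j
              · rw [Polynomial.coeff_eq_zero_of_natDegree_lt hj, mul_zero]; exact S.zero_mem
              push Not at hi hj
              have hi' : i = d - (d - i) := by omega
              have hj' : j = d - (d - j) := by omega
              have hne1 : d - i ≠ 0 := by
                intro h0; apply h1; simp only [Prod.mk.injEq]; omega
              have hne2 : d - j ≠ 0 := by
                intro h0; apply h2; simp only [Prod.mk.injEq]; omega
              rw [hi', hj']
              exact S.mul_mem (ih (d - i) (by omega) (by omega)) (ih (d - j) (by omega) (by omega))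
        rw [Finset.sum_sub_distrib, Finset.sum_sub_distrib, Finset.sum_ite_eq',
          Finset.sum_ite_eq'] at hsum
        rw [if_pos (by rw [Finset.HasAntidiagonal.mem_antidiagonal]; omega),
          if_pos (by rw [Finset.HasAntidiagonal.mem_antidiagonal]; omega)] at hsum
        have e : 2 * h.coeff (d - k) =
            (∑ x ∈ Finset.HasAntidiagonal.antidiagonal (2 * d - k), h.coeff x.1 * h.coeff x.2) -
            ((∑ x ∈ Finset.HasAntidiagonal.antidiagonal (2 * d - k), h.coeff x.1 * h.coeff x.2) -
              h.coeff (d - k) - h.coeff (d - k)) := by ring
        rw [e]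
        exact S.sub_mem hc hsum
  have hall : ∀ m, h.coeff m ∈ Set.range φ := by
    intro m
    by_cases hmd : d < m
    · rw [Polynomial.coeff_eq_zero_of_natDegree_lt hmd]; exact ⟨0, map_zero _⟩
    · push Not at hmd
      have : m = d - (d - m) := by omega
      rw [this]
      exact key (d - m) (by omega)
  have hl : h ∈ Polynomial.lifts φ := (Polynomial.lifts_iff_coeff_lifts h).mpr hall
  obtain ⟨g, hg⟩ := (Polynomial.mem_lifts h).mp hl
  exact ⟨g, hg⟩

end Groth.Agent.S16357
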