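import Groth.Statements.S16358
import Mathlib
-- import your own Groth.Agent.* helpers here

set_option autoImplicit false
universe u v w
open OrdAV

namespace Groth.Agent.S16358

/-- Let k be a perfect field of characteristic p > 0 and W = W(k); let M be a finitely generated free
W-module on which a finite group G acts W-linearly, with invariant submodule M^G. Then the map
(W/pW) ⊗ M^G → (W/pW) ⊗ M induced by the inclusion is injective. Since M^G is free, this implies
rank_W M^G ≤ dim_k (M/pM)^G; the published statement is that inequality, and this row states the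
stronger injectivity. -/
theorem result (p : ℕ) [Fact p.Prime]
    (k : Type u) [Field k] [CharP k p] [PerfectRing k p]
    (M : Type v) [AddCommGroup M] [Module (WittVector p k) M]
    [Module.Free (WittVector p k) M] [Module.Finite (WittVector p k) M]
    (G : Type w) [Group G] [Finite G] (ρ : Representation (WittVector p k) G M) :
    Function.Injective
      (LinearMap.lTensor (WittVector p k ⧸ Ideal.span {(p : WittVector p k)}) ρ.invariants.subtype) := by
  classical
  obtain ⟨I, hI⟩ : ∃ I : Ideal (WittVector p k), I = Ideal.span {(p : WittVector p k)} := ⟨_, rfl⟩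
  rw [← hI]
  rw [injective_iff_map_eq_zero]
  intro t ht
  obtain ⟨x, hx⟩ := Submodule.Quotient.mk_surjective _
    (TensorProduct.quotTensorEquivQuotSMul ρ.invariants I t)
  have ht' : t = 1 ⊗ₜ[WittVector p k] x := by
    rw [← TensorProduct.quotTensorEquivQuotSMul_symm_mk, hx, LinearEquiv.symm_apply_apply]
  rw [ht', LinearMap.lTensor_tmul, Submodule.subtype_apply] at ht
  have h1 := congrArg (TensorProduct.quotTensorEquivQuotSMul M I) ht
  rw [TensorProduct.quotTensorEquivQuotSMul_mk_one_tmul, map_zero,
    Submodule.Quotient.mk_eq_zero] at h1
  rw [hI, Submodule.ideal_span_singleton_smul, Submodule.mem_smul_pointwise_iff_exists] at h1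
  obtain ⟨m, -, hm⟩ := h1
  have hp0 : (p : WittVector p k) ≠ 0 := WittVector.p_nonzero p k
  have hmG : m ∈ ρ.invariants := by
    rw [Representation.mem_invariants]
    intro g
    have hxg : ρ g (x : M) = x := x.2 g
    have : (p : WittVector p k) • (ρ g m - m) = 0 := by
      rw [smul_sub, ← map_smul, hm]; exact sub_eq_zero.mpr hxg
    rcases smul_eq_zero.mp this with h | h
    · exact absurd h hp0
    · exact sub_eq_zero.mp h
  have hx' : x = (p : WittVector p k) • (⟨m, hmG⟩ : ρ.invariants) := Subtype.ext hm.symm
  rw [ht', hx', TensorProduct.tmul_smul, TensorProduct.smul_tmul']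
  have : (p : WittVector p k) • (1 : WittVector p k ⧸ I) = 0 := by
    rw [Algebra.smul_def, mul_one, hI]
    exact Ideal.Quotient.eq_zero_iff_mem.mpr (Ideal.subset_span rfl)
  rw [this, TensorProduct.zero_tmul]

end Groth.Agent.S16358
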