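import Groth.Statements.S16361
import Mathlib
import Groth.Agent.S12803
import Groth.Agent.S11724
import Groth.Agent.Lib.helper3.FibComp
import Groth.Agent.Lib.helper3.FibGrpd


set_option autoImplicit false
universe v u
open CategoryTheory CategoryTheory.Limits
open FibCat

namespace Groth.Agent.S16361

universe v₁ u₁ v₂ u₂ v₃ u₃

lemma comp_fibgrpd {𝒜 : Type u₁} [Category.{v₁} 𝒜] {ℬ : Type u₂} [Category.{v₂} ℬ]
    {𝒞 : Type u₃} [Category.{v₃} 𝒞] (F : 𝒜 ⥤ ℬ) (G : ℬ ⥤ 𝒞) (hF : FibCat.IsFibGrpd F)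
    (hG : FibCat.IsFibGrpd G) : FibCat.IsFibGrpd (F ⋙ G) := by
  refine ⟨?_, ?_⟩
  · intro x V f
    obtain ⟨ξ, γ, hγ⟩ := hG.exists_lift (x := F.obj x) f
    obtain ⟨y, ψ, hψ⟩ := hF.exists_lift γ
    exact ⟨y, ψ, Groth.Agent.S11724.comp_lift G F f γ ψ hψ hγ⟩
  · intro y x φ
    haveI := hF.isStronglyCartesian φ
    haveI := hG.isStronglyCartesian (F.map φ)
    exact Groth.Agent.Helper3.isStronglyCartesian_comp_functor_map F G φ


/-- Let S be a category, π_X : X ⥤ S and π_Y : Y ⥤ S be fibred in groupoids, and F : Y ⥤ X a functor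
with F ⋙ π_X = π_Y. Consider the category of triples (y, x, φ) with φ : F y ≅ x an arbitrary
isomorphism of X and morphisms the compatible pairs of morphisms (the categorical pullback of F and
the identity of X; the isomorphism φ is not required to lie over an identity of S). Its projection
to X is fibred in groupoids over X, and the composite of that projection with π_X is fibred in
groupoids over S. (The published statement also asserts that y ↦ (y, F y, id) and (y, x, φ) ↦ y form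
an equivalence over S; that is not asserted here.) -/
theorem result {S : Type u} [Category.{v} S] {X : Type u} [Category.{v} X]
    {Y : Type u} [Category.{v} Y] (πX : X ⥤ S) (πY : Y ⥤ S) (hX : FibCat.IsFibGrpd πX) (hY : FibCat.IsFibGrpd πY)
    (F : Y ⥤ X) (hF : F ⋙ πX = πY) :
    FibCat.IsFibGrpd (CategoricalPullback.π₂ F (𝟭 X)) ∧
      FibCat.IsFibGrpd (CategoricalPullback.π₂ F (𝟭 X) ⋙ πX) := by
  subst hF
  have part1 : FibCat.IsFibGrpd (CategoricalPullback.π₂ F (𝟭 X)) := by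
    refine ⟨?_, ?_⟩
    · intro a V f
      change V ⟶ a.snd at f
      obtain ⟨y', m, hm⟩ := hY.exists_lift (x := a.fst) (πX.map (f ≫ a.iso.inv))
      have hdom : πX.obj (F.obj y') = πX.obj V :=
        IsHomLift.domain_eq (F ⋙ πX) (πX.map (f ≫ a.iso.inv)) m
      have hmap : eqToHom hdom ≫ πX.map (f ≫ a.iso.inv) = πX.map (F.map m) := by
        have := IsHomLift.fac' (F ⋙ πX) (πX.map (f ≫ a.iso.inv)) m
        rw [show πX.map (F.map m) = (F ⋙ πX).map m from rfl, this]; simp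
      obtain ⟨χ, hχc, hχ⟩ := Groth.Agent.S12803.full_core πX hX (F.map m) (f ≫ a.iso.inv)
        (eqToHom hdom) hmap
      haveI : πX.IsHomLift (eqToHom hdom) χ := by rw [← hχ]; infer_instance
      haveI : IsIso χ :=
        Groth.Agent.Helper3.IsFibGrpd.isIso_of_isHomLift_isIso (hp := hX) πX (eqToHom hdom) χ
      have hw : F.map m ≫ a.iso.hom = (asIso χ).hom ≫ (𝟭 X).map f := by
        show F.map m ≫ a.iso.hom = χ ≫ f
        rw [← hχc]; simp
      refine ⟨⟨y', V, asIso χ⟩, ⟨m, f, hw⟩, ?_⟩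
      exact IsHomLift.map (CategoricalPullback.π₂ F (𝟭 X))
        (⟨m, f, hw⟩ : (⟨y', V, asIso χ⟩ : CategoricalPullback F (𝟭 X)) ⟶ a)
    · intro b a Φ
      refine { toIsHomLift := inferInstance, universal_property' := ?_ }
      intro c g Ψ hΨ
      change c.snd ⟶ b.snd at g
      have hsnd : g ≫ Φ.snd = Ψ.snd :=
        @IsHomLift.eq_of_isHomLift _ _ _ _ (CategoricalPullback.π₂ F (𝟭 X)) c a (g ≫ Φ.snd) Ψ hΨ
      have hΦ : F.map Φ.fst = b.iso.hom ≫ Φ.snd ≫ a.iso.inv := by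
        rw [← cancel_mono a.iso.hom]; simp
      have hΨ' : F.map Ψ.fst = c.iso.hom ≫ Ψ.snd ≫ a.iso.inv := by
        rw [← cancel_mono a.iso.hom]; simp
      have hk : (c.iso.hom ≫ g ≫ b.iso.inv) ≫ F.map Φ.fst = F.map Ψ.fst := by
        rw [hΦ, hΨ', ← hsnd]; simp
      have hw : πX.map (c.iso.hom ≫ g ≫ b.iso.inv) ≫ (F ⋙ πX).map Φ.fst =
          (F ⋙ πX).map Ψ.fst := by
        show πX.map _ ≫ πX.map (F.map Φ.fst) = πX.map (F.map Ψ.fst)
        rw [← πX.map_comp, hk]
      obtain ⟨μ, hμc, hμ⟩ := Groth.Agent.S12803.full_core (F ⋙ πX) hY Ψ.fst Φ.fst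
        (πX.map (c.iso.hom ≫ g ≫ b.iso.inv)) hw
      have hFμ : F.map μ = c.iso.hom ≫ g ≫ b.iso.inv :=
        Groth.Agent.S12803.faith_core πX hX (F.map Ψ.fst) (F.map Φ.fst) (F.map μ) _
          (by rw [← F.map_comp, hμc]) hk hμ
      have hwχ : F.map μ ≫ b.iso.hom = c.iso.hom ≫ (𝟭 X).map g := by
        show F.map μ ≫ b.iso.hom = c.iso.hom ≫ g
        rw [hFμ]; simp
      refine ⟨⟨μ, g, hwχ⟩, ⟨?_, ?_⟩, ?_⟩
      · exact IsHomLift.map (CategoricalPullback.π₂ F (𝟭 X)) (⟨μ, g, hwχ⟩ : c ⟶ b)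
      · exact CategoricalPullback.hom_ext hμc hsnd
      · rintro χ' ⟨hχ'l, hχ'c⟩
        have h1 : g = χ'.snd :=
          @IsHomLift.eq_of_isHomLift _ _ _ _ (CategoricalPullback.π₂ F (𝟭 X)) c b g χ' hχ'l
        have h2 : χ'.fst ≫ Φ.fst = Ψ.fst := congrArg CategoricalPullback.Hom.fst hχ'c
        have h3 : F.map χ'.fst = c.iso.hom ≫ g ≫ b.iso.inv := by
          rw [← cancel_mono b.iso.hom, h1]; simp
        have h4 : χ'.fst = μ :=
          Groth.Agent.S12803.faith_core (F ⋙ πX) hY Ψ.fst Φ.fst χ'.fst μ h2 hμc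
            (by show πX.map (F.map χ'.fst) = πX.map (F.map μ); rw [h3, hFμ])
        exact CategoricalPullback.hom_ext h4 h1.symm
  exact ⟨part1, comp_fibgrpd _ _ part1 hX⟩

end Groth.Agent.S16361
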