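import Groth.Statements.S16362
import Mathlib
-- import your own Groth.Agent.* helpers here

set_option autoImplicit false
universe u
open MovLem

namespace Groth.Agent.S16362

/-- Let A be a commutative ring, p a prime ideal of A, and ζ, u elements of A with u not in p. Then the
quotient of the classes of ζ and u in the fraction field of the domain A ⧸ p is integral over A ⧸ p
if and only if there exist a natural number N and elements a_1, …, a_N of A such that ζ^N + a_1
ζ^(N-1) u + ⋯ + a_N u^N lies in p; equivalently, some binary form of degree N with coefficients in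
A, monic in the first variable, evaluated at (ζ, u), lies in p. -/
theorem result
    {A : Type u} [CommRing A] (p : Ideal A) [p.IsPrime] (ζ u : A) (hu : u ∉ p) :
    IsIntegral (A ⧸ p)
        (algebraMap (A ⧸ p) (FractionRing (A ⧸ p)) (Ideal.Quotient.mk p ζ) /
          algebraMap (A ⧸ p) (FractionRing (A ⧸ p)) (Ideal.Quotient.mk p u)) ↔
      ∃ (N : ℕ) (a : ℕ → A),
        ζ ^ N + ∑ i ∈ Finset.Icc 1 N, a i * ζ ^ (N - i) * u ^ i ∈ p := by
  classical
  let ιq : A →+* FractionRing (A ⧸ p) :=
    (algebraMap (A ⧸ p) (FractionRing (A ⧸ p))).comp (Ideal.Quotient.mk p)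
  have hιq : ∀ x : A, x ∈ p ↔ ιq x = 0 := by
    intro x
    change x ∈ p ↔ algebraMap (A ⧸ p) (FractionRing (A ⧸ p)) (Ideal.Quotient.mk p x) = 0
    rw [map_eq_zero_iff _ (IsFractionRing.injective (A ⧸ p) (FractionRing (A ⧸ p))),
      Ideal.Quotient.eq_zero_iff_mem]
  have hU0 : ιq u ≠ 0 := fun h => hu ((hιq u).mpr h)
  have hterm : ∀ (N k : ℕ), k ≤ N → (ιq ζ / ιq u) ^ k * ιq u ^ N = ιq ζ ^ k * ιq u ^ (N - k) := by
    intro N k hk
    have : ιq u ^ N = ιq u ^ k * ιq u ^ (N - k) := by rw [← pow_add]; congr 1; omega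
    rw [this, div_pow]
    field_simp
  change IsIntegral (A ⧸ p) (ιq ζ / ιq u) ↔ _
  constructor
  · rintro ⟨P, hPm, hP⟩
    obtain ⟨N, hN⟩ : ∃ N, P.natDegree = N := ⟨_, rfl⟩
    choose lift hlift using fun c : A ⧸ p => Ideal.Quotient.mk_surjective c
    have hιlift : ∀ c : A ⧸ p, ιq (lift c) = algebraMap (A ⧸ p) (FractionRing (A ⧸ p)) c := by
      intro c
      change algebraMap (A ⧸ p) (FractionRing (A ⧸ p)) (Ideal.Quotient.mk p (lift c)) = _
      rw [hlift]
    refine ⟨N, fun i => lift (P.coeff (N - i)), ?_⟩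
    rw [hιq]
    rw [Polynomial.eval₂_eq_sum_range, hN, Finset.sum_range_succ, ← hN, hPm.coeff_natDegree,
      map_one, one_mul, hN] at hP
    have h2 : (∑ k ∈ Finset.range N,
        algebraMap (A ⧸ p) (FractionRing (A ⧸ p)) (P.coeff k) * (ιq ζ / ιq u) ^ k) * ιq u ^ N
        + (ιq ζ / ιq u) ^ N * ιq u ^ N = 0 := by
      rw [← add_mul, hP, zero_mul]
    rw [hterm N N le_rfl, Nat.sub_self, pow_zero, mul_one, Finset.sum_mul] at h2
    rw [map_add, map_pow, map_sum, add_comm, ← h2]
    congr 1
    symm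
    apply Finset.sum_nbij' (fun k => N - k) (fun i => N - i)
    · intro k hk; rw [Finset.mem_range] at hk; rw [Finset.mem_Icc]; omega
    · intro i hi; rw [Finset.mem_Icc] at hi; rw [Finset.mem_range]; omega
    · intro k hk; rw [Finset.mem_range] at hk; omega
    · intro i hi; rw [Finset.mem_Icc] at hi; omega
    · intro k hk
      rw [Finset.mem_range] at hk
      have hk' : N - (N - k) = k := by omega
      rw [map_mul, map_mul, map_pow, map_pow, hιlift, hk', mul_assoc, hterm N k hk.le, mul_assoc]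
  · rintro ⟨N, a, hrel⟩
    rw [hιq, map_add, map_pow, map_sum] at hrel
    have hN0 : N ≠ 0 := by
      rintro rfl
      simp at hrel
    let Q : Polynomial (A ⧸ p) := ∑ i ∈ Finset.Icc 1 N,
      Polynomial.C (Ideal.Quotient.mk p (a i)) * Polynomial.X ^ (N - i)
    have hQdeg : Q.degree < (N : WithBot ℕ) := by
      rw [← Polynomial.mem_degreeLT]
      apply Submodule.sum_mem
      intro i hi
      rw [Finset.mem_Icc] at hi
      rw [Polynomial.mem_degreeLT]
      refine lt_of_le_of_lt (Polynomial.degree_C_mul_X_pow_le _ _) ?_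
      exact_mod_cast (by omega : N - i < N)
    refine ⟨Polynomial.X ^ N + Q, Polynomial.monic_X_pow_add hQdeg, ?_⟩
    rw [Polynomial.eval₂_add, Polynomial.eval₂_pow, Polynomial.eval₂_X, Polynomial.eval₂_finsetSum]
    have hmul : ((ιq ζ / ιq u) ^ N + ∑ i ∈ Finset.Icc 1 N,
        Polynomial.eval₂ (algebraMap (A ⧸ p) (FractionRing (A ⧸ p))) (ιq ζ / ιq u)
          (Polynomial.C (Ideal.Quotient.mk p (a i)) * Polynomial.X ^ (N - i))) * ιq u ^ N = 0 := by
      rw [add_mul, hterm N N le_rfl, Nat.sub_self, pow_zero, mul_one, Finset.sum_mul, ← hrel]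
      congr 1
      apply Finset.sum_congr rfl
      intro i hi
      rw [Finset.mem_Icc] at hi
      have hi' : N - (N - i) = i := by omega
      rw [Polynomial.eval₂_mul, Polynomial.eval₂_C, Polynomial.eval₂_pow, Polynomial.eval₂_X,
        mul_assoc, hterm N (N - i) (Nat.sub_le N i), hi', map_mul, map_mul, map_pow, map_pow,
        mul_assoc]
      rfl
    exact (mul_eq_zero.mp hmul).resolve_right (pow_ne_zero N hU0)

end Groth.Agent.S16362
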