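import Groth.Statements.S16373
import Mathlib

set_option autoImplicit false
universe u
open FrobAlg

namespace Groth.Agent.S16373

section Aux

variable (p : ℕ) [Fact p.Prime] (m : ℕ) (R : Type u) [CommRing R]

theorem aux_coeff_V_zero (x : TruncatedWittVector p m R) :
    (WittGrp.shift p (Nat.le_succ m) x).coeff 0 = 0 := by
  rw [WittGrp.coeff_shift]
  refine dif_neg ?_
  rw [Fin.val_zero]
  omega

theorem aux_coeff_V_succ (x : TruncatedWittVector p m R) (j : Fin m) :
    (WittGrp.shift p (Nat.le_succ m) x).coeff j.succ = x.coeff j := by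
  rw [WittGrp.coeff_shift]
  have h : m.succ - m ≤ ((j.succ : Fin m.succ) : ℕ) := by
    rw [Fin.val_succ]; omega
  rw [dif_pos h]
  congr 1
  apply Fin.ext
  simp only [Fin.val_succ]
  omega

theorem aux_V_injective :
    Function.Injective (WittGrp.shift p (Nat.le_succ m) :
      TruncatedWittVector p m R → TruncatedWittVector p (m + 1) R) := by
  intro x y hxy
  refine TruncatedWittVector.ext fun j => ?_
  rw [← aux_coeff_V_succ p m R x j, ← aux_coeff_V_succ p m R y j, hxy]

theorem aux_exists_V (w : TruncatedWittVector p (m + 1) R) (h0 : w.coeff 0 = 0) :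
    ∃ u : TruncatedWittVector p m R, w = WittGrp.shift p (Nat.le_succ m) u := by
  refine ⟨TruncatedWittVector.mk p (fun i : Fin m => w.coeff i.succ), ?_⟩
  refine TruncatedWittVector.ext fun i => ?_
  refine Fin.cases ?_ (fun j => ?_) i
  · rw [aux_coeff_V_zero, h0]
  · rw [aux_coeff_V_succ, TruncatedWittVector.coeff_mk]

variable [CharP R p] (hp : (p : R) = 0)

theorem aux_mul_V (y : TruncatedWittVector p (m + 1) R) (x : TruncatedWittVector p m R) :
    y * WittGrp.shift p (Nat.le_succ m) x =
      WittGrp.shift p (Nat.le_succ m)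
        (WittGrp.frob p m hp (TruncatedWittVector.truncate (Nat.le_succ m) y) * x) := by
  obtain ⟨Y, rfl⟩ := WittVector.truncate_surjective p (m + 1) R y
  obtain ⟨X, rfl⟩ := WittVector.truncate_surjective p m R x
  rw [TruncatedWittVector.truncate_wittVector_truncate]
  rw [WittGrp.shift_truncate, WittGrp.frob_truncate, ← map_mul, ← map_mul, WittGrp.shift_truncate]
  congr 1
  have e1 : m.succ - m = 1 := by omega
  have e2 : m + 1 - m = 1 := by omega
  simp only [e1, e2, Function.iterate_one]
  rw [mul_comm (WittVector.frobenius Y), WittVector.verschiebung_mul_frobenius, mul_comm]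

theorem aux_p_mul (w : TruncatedWittVector p (m + 1) R) :
    (p : TruncatedWittVector p (m + 1) R) * w =
      WittGrp.shift p (Nat.le_succ m)
        (WittGrp.frob p m hp (TruncatedWittVector.truncate (Nat.le_succ m) w)) := by
  have h := aux_mul_V p m R hp w (1 : TruncatedWittVector p m R)
  obtain ⟨Y, rfl⟩ := WittVector.truncate_surjective p (m + 1) R w
  rw [TruncatedWittVector.truncate_wittVector_truncate]
  rw [WittGrp.frob_truncate, WittGrp.shift_truncate]
  have e1 : m.succ - m = 1 := by omega
  have e2 : m + 1 - m = 1 := by omega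
  simp only [e1, e2, Function.iterate_one]
  rw [WittVector.verschiebung_frobenius, map_mul, map_natCast, mul_comm]

theorem aux_p_mul_coeff_zero (hm : 0 < m) (s : TruncatedWittVector p m R) :
    ((p : TruncatedWittVector p m R) * s).coeff ⟨0, hm⟩ = 0 := by
  obtain ⟨S, rfl⟩ := WittVector.truncate_surjective p m R s
  rw [← map_natCast (WittVector.truncate (p := p) (R := R) m) p, ← map_mul, mul_comm,
    ← WittVector.verschiebung_frobenius, WittVector.coeff_truncate]
  exact WittVector.verschiebung_coeff_zero _

end Aux

/-- Let p be a prime, m ≥ 1, R a commutative ring with p = 0 in R and σ : W_m(R) → R a quasi-F-splitting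
of level m (additive, σ(1) = 1, σ(F(x)·y) = x₀·σ(y) with F the componentwise p-th power). Let I ⊆
W_{m+1}(R) be the ideal generated by the shifts V(x) of the x with σ(x) = 0, and Q = W_{m+1}(R)/I.
Then Q is a flat lifting of R modulo p²: an element of Q lies in pQ exactly when the first Witt
component of a representative vanishes (so Q/pQ is R through the first component), and an element of
Q is killed by p exactly when it lies in pQ. (Stated for a ring; the source has a scheme over the
prime field. For m = 1 this is the lifting attached to a Frobenius splitting.) -/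
theorem result
    (p : ℕ) [Fact p.Prime] (m : ℕ) (hm : 0 < m) (R : Type u) [CommRing R] (hp : (p : R) = 0)
    (σ : TruncatedWittVector p m R →+ R) (h1 : σ 1 = 1)
    (hF : ∀ x y : TruncatedWittVector p m R, σ (WittGrp.frob p m hp x * y) = x.coeff ⟨0, hm⟩ * σ y)
    (I : Ideal (TruncatedWittVector p (m + 1) R))
    (hI : I = Ideal.span (WittGrp.shift p (Nat.le_succ m) '' {x : TruncatedWittVector p m R | σ x = 0})) :
    (∀ w : TruncatedWittVector p (m + 1) R,
        Ideal.Quotient.mk I w ∈ Ideal.span ({(p : TruncatedWittVector p (m + 1) R ⧸ I)} : Set _) ↔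
          w.coeff 0 = 0) ∧
    (∀ q : TruncatedWittVector p (m + 1) R ⧸ I,
        (p : TruncatedWittVector p (m + 1) R ⧸ I) * q = 0 ↔
          q ∈ Ideal.span ({(p : TruncatedWittVector p (m + 1) R ⧸ I)} : Set _)) := by
  have hprime : p.Prime := Fact.out
  rcases subsingleton_or_nontrivial R with hR | hR
  · haveI : Subsingleton (TruncatedWittVector p (m + 1) R) :=
      ⟨fun a b => TruncatedWittVector.ext fun i => Subsingleton.elim _ _⟩
    haveI : Subsingleton (TruncatedWittVector p (m + 1) R ⧸ I) := by
      refine ⟨fun a b => ?_⟩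
      obtain ⟨a, rfl⟩ := Ideal.Quotient.mk_surjective a
      obtain ⟨b, rfl⟩ := Ideal.Quotient.mk_surjective b
      rw [Subsingleton.elim a b]
    refine ⟨fun w => ⟨fun _ => Subsingleton.elim _ _, fun _ => ?_⟩,
      fun q => ⟨fun _ => ?_, fun _ => Subsingleton.elim _ _⟩⟩
    · rw [Subsingleton.elim (Ideal.Quotient.mk I w) 0]; exact Ideal.zero_mem _
    · rw [Subsingleton.elim q 0]; exact Ideal.zero_mem _
  · haveI : CharP R p := (CharP.charP_iff_prime_eq_zero hprime).mpr hp
    -- L6
    have L6 : ∀ t : TruncatedWittVector p m R, σ (WittGrp.frob p m hp t) = t.coeff ⟨0, hm⟩ := by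
      intro t
      have h := hF t 1
      rwa [mul_one, h1, mul_one] at h
    -- L10
    have L10 : ∀ a : TruncatedWittVector p (m + 1) R, a ∈ I ↔
        ∃ x : TruncatedWittVector p m R, σ x = 0 ∧ a = WittGrp.shift p (Nat.le_succ m) x := by
      intro a
      constructor
      · intro ha
        rw [hI] at ha
        induction ha using Submodule.span_induction with
        | mem a ha =>
          obtain ⟨x, hx, rfl⟩ := ha
          exact ⟨x, hx, rfl⟩
        | zero => exact ⟨0, map_zero σ, (map_zero _).symm⟩
        | add a b _ _ iha ihb =>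
          obtain ⟨x, hx, rfl⟩ := iha
          obtain ⟨y, hy, rfl⟩ := ihb
          exact ⟨x + y, by rw [map_add, hx, hy, add_zero], (map_add _ _ _).symm⟩
        | smul r a _ iha =>
          obtain ⟨x, hx, rfl⟩ := iha
          refine ⟨WittGrp.frob p m hp (TruncatedWittVector.truncate (Nat.le_succ m) r) * x, ?_, ?_⟩
          · rw [hF, hx, mul_zero]
          · rw [smul_eq_mul]; exact aux_mul_V p m R hp r x
      · rintro ⟨x, hx, rfl⟩
        rw [hI]
        exact Ideal.subset_span ⟨x, hx, rfl⟩
    -- Claim 1
    have C1 : ∀ w : TruncatedWittVector p (m + 1) R,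
        Ideal.Quotient.mk I w ∈ Ideal.span ({(p : TruncatedWittVector p (m + 1) R ⧸ I)} : Set _) ↔
          w.coeff 0 = 0 := by
      intro w
      constructor
      · intro hw
        rw [Ideal.mem_span_singleton'] at hw
        obtain ⟨a, ha⟩ := hw
        obtain ⟨a', rfl⟩ := Ideal.Quotient.mk_surjective a
        have h2 : Ideal.Quotient.mk I w = Ideal.Quotient.mk I ((p : TruncatedWittVector p (m + 1) R) * a') := by
          rw [← ha, map_mul, map_natCast, mul_comm]
        rw [Ideal.Quotient.eq, L10] at h2
        obtain ⟨x, hx, hwx⟩ := h2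
        have hw' : w = WittGrp.shift p (Nat.le_succ m)
            (x + WittGrp.frob p m hp (TruncatedWittVector.truncate (Nat.le_succ m) a')) := by
          rw [map_add, ← aux_p_mul p m R hp a', ← hwx]; ring
        rw [hw']
        exact aux_coeff_V_zero p m R _
      · intro h0
        obtain ⟨u, rfl⟩ := aux_exists_V p m R w h0
        obtain ⟨T, hT⟩ : ∃ T : WittVector p R, T = WittVector.teichmuller p (σ u) := ⟨_, rfl⟩
        have hT0 : (WittVector.truncate m T).coeff ⟨0, hm⟩ = σ u := by
          rw [WittVector.coeff_truncate, hT]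
          exact WittVector.teichmuller_coeff_zero p _
        have hmem : WittGrp.shift p (Nat.le_succ m) u -
            (p : TruncatedWittVector p (m + 1) R) * WittVector.truncate (m + 1) T ∈ I := by
          rw [L10]
          refine ⟨u - WittGrp.frob p m hp (WittVector.truncate m T), ?_, ?_⟩
          · rw [map_sub, L6, hT0, sub_self]
          · rw [map_sub, aux_p_mul p m R hp, TruncatedWittVector.truncate_wittVector_truncate]
        rw [← Ideal.Quotient.eq] at hmem
        rw [hmem, map_mul, map_natCast]
        exact Ideal.mul_mem_right _ _ (Ideal.subset_span rfl)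
    refine ⟨C1, ?_⟩
    intro q
    obtain ⟨w, rfl⟩ := Ideal.Quotient.mk_surjective q
    constructor
    · intro hq
      rw [C1]
      have h2 : (p : TruncatedWittVector p (m + 1) R) * w ∈ I := by
        rw [← Ideal.Quotient.eq_zero_iff_mem, map_mul, map_natCast]; exact hq
      rw [L10] at h2
      obtain ⟨x, hx, hwx⟩ := h2
      rw [aux_p_mul p m R hp] at hwx
      have hx' := aux_V_injective p m R hwx
      rw [← hx', L6, TruncatedWittVector.coeff_truncate] at hx
      exact hx
    · intro hq
      rw [Ideal.mem_span_singleton'] at hq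
      obtain ⟨a, ha⟩ := hq
      obtain ⟨a', rfl⟩ := Ideal.Quotient.mk_surjective a
      rw [← ha]
      have hmem : (p : TruncatedWittVector p (m + 1) R) * ((p : TruncatedWittVector p (m + 1) R) * a') ∈ I := by
        rw [L10]
        refine ⟨_, ?_, aux_p_mul p m R hp _⟩
        rw [L6, map_mul, map_natCast]
        exact aux_p_mul_coeff_zero p m R hm _
      rw [← Ideal.Quotient.eq_zero_iff_mem, map_mul, map_mul, map_natCast] at hmem
      rw [← hmem]; ring

end Groth.Agent.S16373
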