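import Groth.Statements.S16374
import Mathlib
-- import your own Groth.Agent.* helpers here

set_option autoImplicit false
universe u v w
open FrobAlg

namespace Groth.Agent.S16374

/-- Let p be a prime, A a commutative ring, B and C commutative A-algebras with p² = 0 in B, and g : C →
B an A-algebra map such that every g(c) is congruent modulo p to an element of the A-subalgebra of B
generated by the p-th powers (g lifts a relative Frobenius). Then d(g(x)) = 0 in the module of
Kähler differentials of B over A for every x ∈ C that is congruent modulo p to an element of the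
A-subalgebra of C generated by the p-th powers. (The source works with a lifting of the relative
Frobenius of a smooth scheme over a ℤ/p²-thickening and the subsheaf of functions whose reduction
comes from the Frobenius twist; smoothness is not needed for this vanishing.) -/
theorem result
    (p : ℕ) [Fact p.Prime] (A : Type u) [CommRing A] (B : Type v) [CommRing B] [Algebra A B]
    (C : Type w) [CommRing C] [Algebra A C] (hp : (p : B) ^ 2 = 0)
    (g : C →ₐ[A] B)
    (hg : ∀ c : C, ∃ u ∈ Algebra.adjoin A (Set.range fun b : B => b ^ p),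
      g c - u ∈ Ideal.span ({(p : B)} : Set B))
    (x y : C) (hy : y ∈ Algebra.adjoin A (Set.range fun c : C => c ^ p))
    (hxy : x - y ∈ Ideal.span ({(p : C)} : Set C)) :
    KaehlerDifferential.D A B (g x) = 0 := by
  classical
  set D := KaehlerDifferential.D A B with hD
  have hpp : ∀ ω : Ω[B⁄A], (p : B) • ((p : B) • ω) = 0 := by
    intro ω
    rw [smul_smul, ← sq, hp, zero_smul]
  have hDp : D (p : B) = 0 := D.map_natCast p
  -- subalgebra of B where D takes values in p Ω
  let T : Subalgebra A B :=
    { carrier := {u | ∃ ω : Ω[B⁄A], D u = (p : B) • ω}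
      mul_mem' := by
        rintro u v ⟨ω, hω⟩ ⟨ω', hω'⟩
        refine ⟨u • ω' + v • ω, ?_⟩
        rw [D.leibniz, hω, hω', smul_add, smul_comm u, smul_comm v]
      add_mem' := by
        rintro u v ⟨ω, hω⟩ ⟨ω', hω'⟩
        exact ⟨ω + ω', by rw [map_add, hω, hω', smul_add]⟩
      algebraMap_mem' := by
        intro a
        exact ⟨0, by rw [D.map_algebraMap, smul_zero]⟩ }
  have hT : Algebra.adjoin A (Set.range fun b : B => b ^ p) ≤ T := by
    apply Algebra.adjoin_le
    rintro _ ⟨b, rfl⟩
    refine ⟨b ^ (p - 1) • D b, ?_⟩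
    rw [D.leibniz_pow, ← Nat.cast_smul_eq_nsmul B]
  -- D (u^p) = 0 for u in T
  have hup : ∀ u ∈ T, D (u ^ p) = 0 := by
    rintro u ⟨ω, hω⟩
    rw [D.leibniz_pow, hω, ← Nat.cast_smul_eq_nsmul B, smul_comm (u ^ (p - 1)), hpp]
  -- subalgebra of C where D ∘ g vanishes
  let U : Subalgebra A C :=
    { carrier := {z | D (g z) = 0}
      mul_mem' := by
        intro z w hz hw
        show D (g (z * w)) = 0
        rw [map_mul, D.leibniz, (hz : D (g z) = 0), (hw : D (g w) = 0), smul_zero, smul_zero,
          add_zero]
      add_mem' := by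
        intro z w hz hw
        show D (g (z + w)) = 0
        rw [map_add, map_add, (hz : D (g z) = 0), (hw : D (g w) = 0), add_zero]
      algebraMap_mem' := by
        intro a
        show D (g (algebraMap A C a)) = 0
        rw [AlgHom.commutes, D.map_algebraMap] }
  have hU : Algebra.adjoin A (Set.range fun c : C => c ^ p) ≤ U := by
    apply Algebra.adjoin_le
    rintro _ ⟨c, rfl⟩
    show D (g (c ^ p)) = 0
    obtain ⟨u, hu, hgu⟩ := hg c
    have h1 : (p : B) ∣ g c - u := Ideal.mem_span_singleton.mp hgu
    have h2 := dvd_sub_pow_of_dvd_sub h1 1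
    rw [pow_one, hp] at h2
    have h3 : (g c) ^ p = u ^ p := sub_eq_zero.mp (zero_dvd_iff.mp h2)
    rw [map_pow, h3]
    exact hup u (hT hu)
  have hy' : D (g y) = 0 := hU hy
  obtain ⟨c, hc⟩ := Ideal.mem_span_singleton'.mp hxy
  have hx : x = y + c * (p : C) := by rw [hc]; ring
  obtain ⟨u, hu, hgu⟩ := hg c
  obtain ⟨b, hb⟩ := Ideal.mem_span_singleton'.mp hgu
  obtain ⟨ω, hω⟩ := hT hu
  have hgc : g c = u + b * (p : B) := by rw [hb]; ring
  rw [hx, map_add, map_add, hy', zero_add, map_mul, map_natCast, D.leibniz, hDp, smul_zero,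
    zero_add, hgc, map_add, D.leibniz, hDp, smul_zero, zero_add, hω, smul_add, hpp, hpp, add_zero]

end Groth.Agent.S16374
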