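import Groth.Statements.S1638
import Mathlib

set_option autoImplicit false
universe u
open Brauer

namespace Groth.Agent.S1638

/-- Let A and A' be algebras over a field k with subalgebras B ⊆ A and B' ⊆ A' having centralizers C and
C'. Then the centralizer of the image of B ⊗ B' in A ⊗_k A' is the image of C ⊗_k C'. -/
theorem result (k : Type u) [Field k] (A A' : Type u) [Ring A] [Ring A'] [Algebra k A] [Algebra k A']
    (B : Subalgebra k A) (B' : Subalgebra k A') :
    Subalgebra.centralizer k ((Algebra.TensorProduct.map B.val B'.val).range : Set (TensorProduct k A A')) =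
      (Algebra.TensorProduct.map (Subalgebra.centralizer k (B : Set A)).val (Subalgebra.centralizer k (B' : Set A')).val).range := by
  apply le_antisymm
  · intro w hw
    rw [Subalgebra.mem_centralizer_iff] at hw
    have h1 : w ∈ Subalgebra.centralizer k
        (Algebra.TensorProduct.includeLeft (R := k) (S := k) (A := A) (B := A') '' (B : Set A)) := by
      rw [Subalgebra.mem_centralizer_iff]
      rintro _ ⟨x, hx, rfl⟩
      apply hw
      exact ⟨(⟨x, hx⟩ : B) ⊗ₜ[k] (1 : B'), by simp⟩
    rw [Subalgebra.centralizer_coe_image_includeLeft_eq_center_tensorProduct k A A' (B : Set A)] at h1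
    obtain ⟨w₁, rfl⟩ := h1
    have hφinj : Function.Injective (Algebra.TensorProduct.map
        (Subalgebra.centralizer k (B : Set A)).val (AlgHom.id k A')) := by
      have : Function.Injective (TensorProduct.map
          (Subalgebra.centralizer k (B : Set A)).val.toLinearMap (LinearMap.id : A' →ₗ[k] A')) :=
        TensorProduct.map_injective_of_flat_flat _ _ Subtype.val_injective Function.injective_id
      exact this
    have h2 : w₁ ∈ Subalgebra.centralizer k
        (Algebra.TensorProduct.includeRight (R := k) (A := Subalgebra.centralizer k (B : Set A))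
          (B := A') '' (B' : Set A')) := by
      rw [Subalgebra.mem_centralizer_iff]
      rintro _ ⟨y, hy, rfl⟩
      apply hφinj
      rw [map_mul, map_mul]
      have e : (Algebra.TensorProduct.map (Subalgebra.centralizer k (B : Set A)).val
          (AlgHom.id k A')) (Algebra.TensorProduct.includeRight y) = (1 : A) ⊗ₜ[k] y := by simp
      rw [e]
      apply hw
      exact ⟨(1 : B) ⊗ₜ[k] (⟨y, hy⟩ : B'), by simp⟩
    rw [Subalgebra.centralizer_coe_image_includeRight_eq_center_tensorProduct k
      (Subalgebra.centralizer k (B : Set A)) A' (B' : Set A')] at h2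
    obtain ⟨w₂, rfl⟩ := h2
    refine ⟨w₂, ?_⟩
    clear hw
    induction w₂ using TensorProduct.induction_on with
    | zero => simp
    | tmul c c' => simp
    | add x y hx hy => simp only [map_add, hx, hy]
  · rintro _ ⟨v, rfl⟩
    rw [Subalgebra.mem_centralizer_iff]
    rintro _ ⟨u, rfl⟩
    induction v using TensorProduct.induction_on with
    | zero => simp
    | tmul c c' =>
      induction u using TensorProduct.induction_on with
      | zero => simp
      | tmul b b' =>
        have e1 : (b : A) * (c : A) = (c : A) * (b : A) :=
          (Subalgebra.mem_centralizer_iff k).mp c.2 b b.2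
        have e2 : (b' : A') * (c' : A') = (c' : A') * (b' : A') :=
          (Subalgebra.mem_centralizer_iff k).mp c'.2 b' b'.2
        simp [Algebra.TensorProduct.tmul_mul_tmul, e1, e2]
      | add x y hx hy => simp only [map_add, add_mul, mul_add, hx, hy]
    | add x y hx hy => simp only [map_add, add_mul, mul_add, hx, hy]

end Groth.Agent.S1638
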