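import Groth.Statements.S16390
import Mathlib

set_option autoImplicit false
open AbVar

namespace Groth.Agent.S16390

theorem pos_aux (p r : ℕ) (hp : 2 ≤ p) (hr : 2 < r) (x : ℝ) :
    0 < x ^ 2 - (p : ℝ) * x + (p : ℝ) ^ r := by
  have hp' : (2 : ℝ) ≤ p := by exact_mod_cast hp
  have h3 : (p : ℝ) ^ 3 ≤ (p : ℝ) ^ r := pow_le_pow_right₀ (by linarith) (by omega)
  have hp2 : (4 : ℝ) ≤ (p : ℝ) ^ 2 := by nlinarith
  have h3' : 2 * (p : ℝ) ^ 2 ≤ (p : ℝ) ^ 3 := by
    have := mul_nonneg (sq_nonneg (p : ℝ)) (sub_nonneg.mpr hp')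
    nlinarith
  nlinarith [sq_nonneg (x - p / 2), h3, h3', hp2]

/-- Let p be a prime number, r > 2 and q = p^r. The polynomial x² − p x + q is irreducible over ℚ, each
of its complex roots has absolute value √q (so its roots are Weil q-numbers), and it has two
distinct roots in ℚ_p, of p-adic valuations 1 and r − 1. The published lemma also computes the index
of the endomorphism algebra of the simple abelian variety attached to a root; this row does not
state that part. -/
theorem result (p r : ℕ) [Fact p.Prime] (hr : 2 < r) :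
    Irreducible (Polynomial.X ^ 2 - Polynomial.C (p : ℚ) * Polynomial.X + Polynomial.C ((p : ℚ) ^ r)) ∧
      (∀ π : ℂ, π ^ 2 - (p : ℂ) * π + (p : ℂ) ^ r = 0 → ‖π‖ = Real.sqrt ((p : ℝ) ^ r)) ∧
      ∃ a b : ℚ_[p], a ≠ b ∧ a ^ 2 - (p : ℚ_[p]) * a + (p : ℚ_[p]) ^ r = 0 ∧
        b ^ 2 - (p : ℚ_[p]) * b + (p : ℚ_[p]) ^ r = 0 ∧ a.valuation = 1 ∧ b.valuation = (r : ℤ) - 1 := by
  have hp2 : 2 ≤ p := (Fact.out : p.Prime).two_le
  refine ⟨?_, ?_, ?_⟩
  · have hf : (Polynomial.X ^ 2 - Polynomial.C (p : ℚ) * Polynomial.X +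
        Polynomial.C ((p : ℚ) ^ r) : Polynomial ℚ) =
        Polynomial.X ^ 2 + (Polynomial.C (-(p : ℚ)) * Polynomial.X +
          Polynomial.C ((p : ℚ) ^ r)) := by
      rw [Polynomial.C_neg]; ring
    have hdeg : Polynomial.degree (Polynomial.C (-(p : ℚ)) * Polynomial.X +
        Polynomial.C ((p : ℚ) ^ r)) < ((2 : ℕ) : WithBot ℕ) :=
      lt_of_le_of_lt Polynomial.degree_linear_le (by exact_mod_cast Nat.one_lt_two)
    have hmonic : Polynomial.Monic (Polynomial.X ^ 2 - Polynomial.C (p : ℚ) * Polynomial.X +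
        Polynomial.C ((p : ℚ) ^ r) : Polynomial ℚ) := by
      rw [hf]; exact Polynomial.monic_X_pow_add hdeg
    have hnat : Polynomial.natDegree (Polynomial.X ^ 2 - Polynomial.C (p : ℚ) * Polynomial.X +
        Polynomial.C ((p : ℚ) ^ r) : Polynomial ℚ) = 2 := by
      rw [hf, Polynomial.natDegree_add_eq_left_of_degree_lt
        (by rw [Polynomial.degree_X_pow]; exact hdeg), Polynomial.natDegree_X_pow]
    rw [Polynomial.Monic.irreducible_iff_roots_eq_zero_of_degree_le_three hmonic
      (by rw [hnat]) (by rw [hnat]; norm_num)]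
    apply Multiset.eq_zero_of_forall_notMem
    intro x hx
    rw [Polynomial.mem_roots hmonic.ne_zero, Polynomial.IsRoot.def] at hx
    simp only [Polynomial.eval_add, Polynomial.eval_sub, Polynomial.eval_pow, Polynomial.eval_X,
      Polynomial.eval_mul, Polynomial.eval_C] at hx
    have hpos := pos_aux p r hp2 hr (x : ℝ)
    have h2 : ((x ^ 2 - (p : ℚ) * x + (p : ℚ) ^ r : ℚ) : ℝ) = 0 := by rw [hx]; simp
    push_cast at h2
    linarith
  · intro π hπ
    have hre := congrArg Complex.re hπ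
    have him := congrArg Complex.im hπ
    have hq : ((p : ℂ) ^ r) = ((p ^ r : ℕ) : ℂ) := by push_cast; rfl
    rw [hq] at hre him
    simp only [Complex.add_re, Complex.sub_re, Complex.mul_re, Complex.add_im, Complex.sub_im,
      Complex.mul_im, pow_two, Complex.natCast_re, Complex.natCast_im, Complex.zero_re,
      Complex.zero_im] at hre him
    obtain ⟨x, hx⟩ : ∃ x, x = π.re := ⟨_, rfl⟩
    obtain ⟨y, hy⟩ : ∃ y, y = π.im := ⟨_, rfl⟩
    rw [← hx, ← hy] at hre him
    have hre' : x ^ 2 - y ^ 2 - (p : ℝ) * x + (p : ℝ) ^ r = 0 := by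
      push_cast at hre; linear_combination hre
    have him' : y * (2 * x - (p : ℝ)) = 0 := by
      push_cast at him; linear_combination him
    have hy0 : y ≠ 0 := by
      intro h0
      have hpos := pos_aux p r hp2 hr x
      rw [h0] at hre'
      nlinarith
    have h2x : 2 * x - (p : ℝ) = 0 := by
      rcases mul_eq_zero.mp him' with h | h
      · exact absurd h hy0
      · exact h
    have hns : Complex.normSq π = (p : ℝ) ^ r := by
      rw [Complex.normSq_apply, ← hx, ← hy]
      linear_combination (-1) * hre' + x * h2x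
    rw [← hns, Complex.normSq_eq_norm_sq, Real.sqrt_sq (norm_nonneg _)]
  · obtain ⟨F, hF⟩ : ∃ F : Polynomial ℤ_[p],
        F = Polynomial.X ^ 2 - Polynomial.X + Polynomial.C ((p : ℤ_[p]) ^ (r - 2)) := ⟨_, rfl⟩
    have hF1 : Polynomial.aeval (1 : ℤ_[p]) F = (p : ℤ_[p]) ^ (r - 2) := by
      rw [hF]; simp
    have hF'1 : Polynomial.aeval (1 : ℤ_[p]) (Polynomial.derivative F) = 1 := by
      rw [hF, Polynomial.derivative_add, Polynomial.derivative_sub, Polynomial.derivative_C,
        Polynomial.derivative_X, Polynomial.derivative_X_pow]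
      simp <;> norm_num
    have hnorm : ‖Polynomial.aeval (1 : ℤ_[p]) F‖ <
        ‖Polynomial.aeval (1 : ℤ_[p]) (Polynomial.derivative F)‖ ^ 2 := by
      rw [hF1, hF'1, norm_one, one_pow, PadicInt.norm_p_pow]
      apply zpow_lt_one_of_neg₀
      · exact_mod_cast (Fact.out : p.Prime).one_lt
      · have : 0 < r - 2 := by omega
        have h' : (0 : ℤ) < ((r - 2 : ℕ) : ℤ) := by exact_mod_cast this
        linarith
    obtain ⟨z, hz0, hz1, _, _⟩ := hensels_lemma hnorm
    rw [hF'1, norm_one] at hz1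
    have hzn : ‖z‖ = 1 := by
      apply le_antisymm (PadicInt.norm_le_one z)
      by_contra hlt
      rw [not_le] at hlt
      have h1 : ‖(1 : ℤ_[p])‖ ≤ max ‖z‖ ‖1 - z‖ := by
        have := PadicInt.nonarchimedean z (1 - z)
        rwa [add_sub_cancel] at this
      rw [norm_one, norm_sub_rev] at h1
      have := max_lt hlt hz1
      linarith
    rw [hF] at hz0
    simp only [map_add, map_sub, map_pow, Polynomial.aeval_X, Polynomial.aeval_C,
      Algebra.algebraMap_self, RingHom.id_apply] at hz0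
    have hz0' : (z : ℚ_[p]) ^ 2 - (z : ℚ_[p]) + (p : ℚ_[p]) ^ (r - 2) = 0 := by
      have := congrArg (fun w : ℤ_[p] => (w : ℚ_[p])) hz0
      simpa using this
    obtain ⟨a, ha⟩ : ∃ a : ℚ_[p], a = (p : ℚ_[p]) * z := ⟨_, rfl⟩
    have hr2 : (p : ℚ_[p]) ^ r = (p : ℚ_[p]) ^ 2 * (p : ℚ_[p]) ^ (r - 2) := by
      rw [← pow_add]; congr 1; omega
    have hroot_a : a ^ 2 - (p : ℚ_[p]) * a + (p : ℚ_[p]) ^ r = 0 := by
      rw [ha, hr2]; linear_combination ((p : ℚ_[p]) ^ 2) * hz0'
    have hroot_b : ((p : ℚ_[p]) - a) ^ 2 - (p : ℚ_[p]) * ((p : ℚ_[p]) - a) + (p : ℚ_[p]) ^ r = 0 := by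
      linear_combination hroot_a
    have hp0 : (p : ℚ_[p]) ≠ 0 := by exact_mod_cast (Fact.out : p.Prime).ne_zero
    have hzn' : ‖(z : ℚ_[p])‖ = 1 := hzn
    have hz_ne : (z : ℚ_[p]) ≠ 0 := by
      intro h
      rw [h, norm_zero] at hzn'
      exact zero_ne_one hzn'
    have hvz : (z : ℚ_[p]).valuation = 0 := by
      have h1 := Padic.norm_eq_zpow_neg_valuation hz_ne
      rw [hzn'] at h1
      have hp1 : (1 : ℝ) < p := by exact_mod_cast (Fact.out : p.Prime).one_lt
      have := (zpow_eq_one_iff_right₀ (by linarith) (by linarith)).mp h1.symm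
      linarith
    have hva : a.valuation = 1 := by
      rw [ha, Padic.valuation_mul hp0 hz_ne, Padic.valuation_p, hvz, add_zero]
    have hab : a * ((p : ℚ_[p]) - a) = (p : ℚ_[p]) ^ r := by linear_combination (-1) * hroot_a
    have ha0 : a ≠ 0 := by rw [ha]; exact mul_ne_zero hp0 hz_ne
    have hb0 : (p : ℚ_[p]) - a ≠ 0 := by
      intro h
      rw [h, mul_zero] at hab
      exact pow_ne_zero r hp0 hab.symm
    have hvb : ((p : ℚ_[p]) - a).valuation = (r : ℤ) - 1 := by
      have := congrArg Padic.valuation hab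
      rw [Padic.valuation_mul ha0 hb0, Padic.valuation_pow, Padic.valuation_p, hva] at this
      linarith
    refine ⟨a, (p : ℚ_[p]) - a, ?_, hroot_a, hroot_b, hva, hvb⟩
    intro h
    have := congrArg Padic.valuation h
    rw [hva, hvb] at this
    omega

end Groth.Agent.S16390
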