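import Groth.Statements.S16396
import Mathlib
-- import your own Groth.Agent.* helpers here

set_option autoImplicit false
universe u
open CAlg

namespace Groth.Agent.S16396

open Polynomial in
/-- For a commutative ℚ-algebra A, a ℚ-subalgebra B of the polynomial algebra A[X] that contains X and
is closed under d/dX consists exactly of the polynomials each of whose coefficients is the value at
0 of some element of B; in other words B = ev(B)[X], with ev the evaluation at 0. -/
theorem result
    (A : Type u) [CommRing A] [Algebra ℚ A] (B : Subalgebra ℚ A[X])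
    (hX : (X : A[X]) ∈ B) (hD : ∀ P ∈ B, Polynomial.derivative P ∈ B) (P : A[X]) :
    P ∈ B ↔ ∀ i : ℕ, ∃ Q ∈ B, Polynomial.eval 0 Q = P.coeff i := by
  have claim : ∀ n : ℕ, ∀ Q ∈ B, Q.natDegree ≤ n → ∀ i, C (Q.coeff i) ∈ B := by
    intro n
    induction n with
    | zero =>
      intro Q hQ hdeg i
      have hQC : Q = C (Q.coeff 0) := Polynomial.eq_C_of_natDegree_le_zero hdeg
      rcases Nat.eq_zero_or_pos i with rfl | hi
      · rw [← hQC]; exact hQ
      · have : Q.coeff i = 0 := Polynomial.coeff_eq_zero_of_natDegree_lt (by omega)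
        rw [this, C_0]
        exact B.zero_mem
    | succ n ih =>
      intro Q hQ hdeg i
      have hDQ := ih (derivative Q) (hD Q hQ) (by
        have := Polynomial.natDegree_derivative_le Q
        omega)
      have hsucc : ∀ j, C (Q.coeff (j + 1)) ∈ B := by
        intro j
        have h1 := hDQ j
        rw [Polynomial.coeff_derivative] at h1
        have hcast : ((j : A) + 1) = algebraMap ℚ A ((j : ℚ) + 1) := by
          rw [map_add, map_natCast, map_one]
        have hne : ((j : ℚ) + 1) ≠ 0 := by positivity
        have h2 : C (Q.coeff (j + 1)) =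
            (((j : ℚ) + 1)⁻¹) • C (Q.coeff (j + 1) * ((j : A) + 1)) := by
          rw [Polynomial.smul_C, hcast, Algebra.algebraMap_eq_smul_one, mul_smul_comm, mul_one,
            smul_smul, inv_mul_cancel₀ hne, one_smul]
        rw [h2]
        exact B.smul_mem h1 _
      rcases Nat.eq_zero_or_pos i with rfl | hi
      · have hsum := Polynomial.as_sum_range_C_mul_X_pow' Q (n := n + 2) (by omega)
        rw [Finset.sum_range_succ', pow_zero, mul_one] at hsum
        have h3 : C (Q.coeff 0) =
            Q - ∑ k ∈ Finset.range (n + 1), C (Q.coeff (k + 1)) * X ^ (k + 1) := by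
          rw [eq_sub_iff_add_eq']
          exact hsum.symm
        rw [h3]
        exact B.sub_mem hQ (B.sum_mem fun k _ => B.mul_mem (hsucc k) (B.pow_mem hX _))
      · obtain ⟨j, rfl⟩ : ∃ j, i = j + 1 := ⟨i - 1, by omega⟩
        exact hsucc j
  constructor
  · intro hP i
    exact ⟨C (P.coeff i), claim _ P hP le_rfl i, by rw [eval_C]⟩
  · intro h
    rw [P.as_sum_range_C_mul_X_pow]
    apply B.sum_mem
    intro i _
    obtain ⟨Q, hQ, hQe⟩ := h i
    rw [← hQe, ← Polynomial.coeff_zero_eq_eval_zero]
    exact B.mul_mem (claim _ Q hQ le_rfl 0) (B.pow_mem hX i)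

end Groth.Agent.S16396
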