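import Groth.Statements.S1665
import Mathlib
import Groth.Agent.S0556
import Groth.Agent.Lib.helper1.KrullAkizuki

set_option autoImplicit false
universe u
open Variety

namespace Groth.Agent.S1665

theorem artinian_quot (R : Type u) [CommRing R] [IsDomain R] [IsNoetherianRing R]
    [Ring.DimensionLEOne R] (x : R) (hx : x ≠ 0) :
    IsArtinianRing (R ⧸ Ideal.span ({x} : Set R)) := by
  rw [isArtinianRing_iff_krullDimLE_zero, Ring.krullDimLE_zero_iff]
  intro Q hQ
  have hsurj : Function.Surjective (Ideal.Quotient.mk (Ideal.span ({x} : Set R))) :=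
    Ideal.Quotient.mk_surjective
  have hP : (Q.comap (Ideal.Quotient.mk (Ideal.span ({x} : Set R)))).IsPrime :=
    Ideal.comap_isPrime _ _
  have hxP : x ∈ Q.comap (Ideal.Quotient.mk (Ideal.span ({x} : Set R))) := by
    rw [Ideal.mem_comap,
      Ideal.Quotient.eq_zero_iff_mem.mpr (Ideal.subset_span (Set.mem_singleton x))]
    exact Q.zero_mem
  have hne : Q.comap (Ideal.Quotient.mk (Ideal.span ({x} : Set R))) ≠ ⊥ := by
    intro h
    rw [h, Ideal.mem_bot] at hxP
    exact hx hxP
  have hmax : (Q.comap (Ideal.Quotient.mk (Ideal.span ({x} : Set R)))).IsMaximal :=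
    Ring.DimensionLEOne.maximalOfPrime hne hP
  have hmap := Ideal.map_comap_of_surjective _ hsurj Q
  rcases Ideal.map_eq_top_or_isMaximal_of_surjective _ hsurj hmax with h | h
  · rw [hmap] at h; exact absurd h hQ.ne_top
  · rw [hmap] at h; exact h

theorem mem_jacobson_of_integral (R S : Type u) [CommRing R] [CommRing S] [Algebra R S]
    [Algebra.IsIntegral R S] (hinj : Function.Injective (algebraMap R S)) (x : R)
    (hx : algebraMap R S x ∈ (⊥ : Ideal S).jacobson) : x ∈ (⊥ : Ideal R).jacobson := by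
  rw [Ideal.jacobson, Ideal.mem_sInf]
  rintro P ⟨-, hP⟩
  haveI := hP
  obtain ⟨Q, hQ, hQP⟩ := Ideal.exists_ideal_over_maximal_of_isIntegral (S := S) P (by
    rw [(RingHom.injective_iff_ker_eq_bot _).mp hinj]; exact bot_le)
  rw [← hQP, Ideal.mem_comap]
  rw [Ideal.jacobson, Ideal.mem_sInf] at hx
  exact hx ⟨bot_le, hQ⟩

section
variable (B : Type u) [CommRing B] [IsDomain B] [IsNoetherianRing B]
  (K : Type u) [Field K] [Algebra B K] [IsFractionRing B K]

local notation "B'" => (integralClosure B K)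

theorem main (hdim : ringKrullDim B = 1) (hsl : Finite (MaximalSpectrum B)) :
    IsDedekindDomain B' ∧ Finite (MaximalSpectrum B') ∧
      ∀ x : B', x ≠ 0 → x ∈ (⊥ : Ideal B').jacobson →
        ∀ y : B', ∃ n : ℕ, (x ^ n * y).1 ∈ (algebraMap B K).range := by
  classical
  have hnotfield : ¬ IsField B := by
    intro h
    have h0 := ringKrullDim_eq_zero_of_isField h
    rw [hdim] at h0
    simp at h0
  haveI : Ring.KrullDimLE 1 B := Ring.krullDimLE_iff.mpr (by simpa using le_of_eq hdim)
  haveI : Ring.DimensionLEOne B := ⟨fun {p} hp0 hp => hp.isMaximal_of_ne_bot hp0⟩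
  haveI : IsNoetherianRing B' :=
    Groth.Agent.S0556.result B hdim K K B' Subtype.val_injective
  haveI : IsFractionRing B' K := integralClosure.isFractionRing_of_finite_extension K K
  haveI hIC : IsIntegrallyClosed B' := integralClosure.isIntegrallyClosedOfFiniteExtension K
  haveI : Ring.DimensionLEOne B' := inferInstance
  haveI : IsDedekindRing B' :=
    { toIsNoetherian := inferInstance
      toDimensionLEOne := inferInstance
      toIsIntegralClosure := hIC }
  have hDed : IsDedekindDomain B' := inferInstance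
  have hinjBB' : Function.Injective (algebraMap B B') := by
    intro p q hpq
    have h1 : algebraMap B K p = algebraMap B K q := congrArg Subtype.val hpq
    exact IsFractionRing.injective B K h1
  -- nonzero element of the Jacobson radical of B
  have hJ : ∃ x₀ : B, x₀ ≠ 0 ∧ ∀ m : Ideal B, m.IsMaximal → x₀ ∈ m := by
    haveI := Fintype.ofFinite (MaximalSpectrum B)
    have hex : ∀ m : MaximalSpectrum B, ∃ a : B, a ∈ m.asIdeal ∧ a ≠ 0 := by
      intro m
      have hne : m.asIdeal ≠ ⊥ := Ring.ne_bot_of_isMaximal_of_not_isField m.isMaximal hnotfield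
      exact Submodule.exists_mem_ne_zero_of_ne_bot hne
    choose a ha ha0 using hex
    refine ⟨∏ m, a m, Finset.prod_ne_zero_iff.mpr (fun m _ => ha0 m), ?_⟩
    intro m hm
    obtain ⟨c, hc⟩ := Finset.dvd_prod_of_mem a (Finset.mem_univ (⟨m, hm⟩ : MaximalSpectrum B))
    rw [hc]
    exact Ideal.mul_mem_right _ _ (ha ⟨m, hm⟩)
  obtain ⟨x₀, hx₀, hx₀m⟩ := hJ
  have hx₁0 : algebraMap B B' x₀ ≠ 0 := fun h => hx₀ (hinjBB' (by rw [h, map_zero]))
  haveI hArt : IsArtinianRing (B' ⧸ Ideal.span ({algebraMap B B' x₀} : Set B')) :=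
    artinian_quot B' _ hx₁0
  have hfin2 : Finite (MaximalSpectrum B') := by
    have hπ : Function.Surjective (Ideal.Quotient.mk (Ideal.span ({algebraMap B B' x₀} : Set B'))) :=
      Ideal.Quotient.mk_surjective
    let φ : MaximalSpectrum (B' ⧸ Ideal.span ({algebraMap B B' x₀} : Set B')) →
        MaximalSpectrum B' :=
      fun Q => ⟨Q.asIdeal.comap (Ideal.Quotient.mk (Ideal.span ({algebraMap B B' x₀} : Set B'))),
        Ideal.comap_isMaximal_of_surjective _ hπ (K := Q.asIdeal) (H := Q.isMaximal)⟩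
    refine Finite.of_surjective φ ?_
    intro M
    haveI := M.isMaximal
    have hxM : algebraMap B B' x₀ ∈ M.asIdeal := by
      have h1 : x₀ ∈ M.asIdeal.comap (algebraMap B B') :=
        hx₀m _ (Ideal.isMaximal_comap_of_isIntegral_of_isMaximal (R := B) M.asIdeal)
      exact h1
    have hker : Ideal.comap (Ideal.Quotient.mk (Ideal.span ({algebraMap B B' x₀} : Set B'))) ⊥
        ≤ M.asIdeal := by
      intro z hz
      rw [Ideal.mem_comap, Ideal.mem_bot, Ideal.Quotient.eq_zero_iff_mem,
        Ideal.mem_span_singleton'] at hz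
      obtain ⟨w, rfl⟩ := hz
      exact Ideal.mul_mem_left _ _ hxM
    have hcm := Ideal.comap_map_of_surjective _ hπ M.asIdeal
    rw [sup_eq_left.mpr hker] at hcm
    rcases Ideal.map_eq_top_or_isMaximal_of_surjective _ hπ M.isMaximal with h | h
    · exfalso
      rw [h, Ideal.comap_top] at hcm
      exact M.isMaximal.ne_top hcm.symm
    · refine ⟨⟨M.asIdeal.map (Ideal.Quotient.mk _), h⟩, ?_⟩
      ext1
      exact hcm
  refine ⟨hDed, hfin2, ?_⟩
  intro x hx0 hxJ y
  have hxC : x ∈ Algebra.adjoin B ({x, y} : Set B') := Algebra.subset_adjoin (by simp)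
  have hyC : y ∈ Algebra.adjoin B ({x, y} : Set B') := Algebra.subset_adjoin (by simp)
  haveI hfinC : Module.Finite B (Algebra.adjoin B ({x, y} : Set B')) :=
    Algebra.finite_adjoin_of_finite_of_isIntegral (Set.toFinite _)
      (fun z _ => Algebra.IsIntegral.isIntegral z)
  haveI : IsNoetherianRing (Algebra.adjoin B ({x, y} : Set B')) :=
    isNoetherian_of_tower B (isNoetherian_of_isNoetherianRing_of_finite B _)
  haveI : Algebra.IsIntegral B (Algebra.adjoin B ({x, y} : Set B')) :=
    Algebra.IsIntegral.of_finite B _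
  haveI : Algebra.IsIntegral (Algebra.adjoin B ({x, y} : Set B')) B' :=
    Algebra.IsIntegral.tower_top (R := B)
  have hinjBC : Function.Injective (algebraMap B (Algebra.adjoin B ({x, y} : Set B'))) := by
    intro p q hpq
    apply hinjBB'
    exact congrArg Subtype.val hpq
  haveI : Ring.DimensionLEOne (Algebra.adjoin B ({x, y} : Set B')) :=
    Ring.DimensionLEOne.of_isIntegral B _
  have hxCJ : (⟨x, hxC⟩ : Algebra.adjoin B ({x, y} : Set B')) ∈
      (⊥ : Ideal (Algebra.adjoin B ({x, y} : Set B'))).jacobson :=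
    mem_jacobson_of_integral (Algebra.adjoin B ({x, y} : Set B')) B' Subtype.val_injective
      ⟨x, hxC⟩ hxJ
  obtain ⟨s, hs⟩ := (Module.Finite.fg_top :
    (⊤ : Submodule B (Algebra.adjoin B ({x, y} : Set B'))).FG)
  obtain ⟨d, hd⟩ := IsLocalization.exist_integer_multiples_of_finset (nonZeroDivisors B)
    (s.image (fun c : Algebra.adjoin B ({x, y} : Set B') => ((c : B') : K)))
  have hd0 : (d : B) ≠ 0 := nonZeroDivisors.ne_zero d.2
  let ψ : (Algebra.adjoin B ({x, y} : Set B')) →ₗ[B] K :=
    (IsScalarTower.toAlgHom B B' K).toLinearMap ∘ₗ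
      (Algebra.adjoin B ({x, y} : Set B')).val.toLinearMap
  have hψ : ∀ c : Algebra.adjoin B ({x, y} : Set B'), ψ c = ((c : B') : K) := fun c => rfl
  have hdC : ∀ c : Algebra.adjoin B ({x, y} : Set B'),
      (d : B) • ψ c ∈ LinearMap.range (Algebra.linearMap B K) := by
    have hle : Submodule.span B (s : Set (Algebra.adjoin B ({x, y} : Set B'))) ≤
        (LinearMap.range (Algebra.linearMap B K)).comap ((d : B) • ψ) := by
      rw [Submodule.span_le]
      intro c hc
      obtain ⟨z, hz⟩ := hd _ (Finset.mem_image_of_mem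
        (fun c : Algebra.adjoin B ({x, y} : Set B') => ((c : B') : K)) hc)
      show ((d : B) • ψ) c ∈ LinearMap.range (Algebra.linearMap B K)
      exact ⟨z, hz⟩
    intro c
    have hc : c ∈ Submodule.span B (s : Set (Algebra.adjoin B ({x, y} : Set B'))) := by
      rw [hs]; trivial
    exact hle hc
  have hdC0 : algebraMap B (Algebra.adjoin B ({x, y} : Set B')) (d : B) ≠ 0 :=
    fun h => hd0 (hinjBC (by rw [h, map_zero]))
  haveI hArtC := artinian_quot (Algebra.adjoin B ({x, y} : Set B')) _ hdC0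
  obtain ⟨n, hn⟩ := IsArtinianRing.isNilpotent_jacobson_bot
    (R := (Algebra.adjoin B ({x, y} : Set B')) ⧸
      Ideal.span ({algebraMap B (Algebra.adjoin B ({x, y} : Set B')) (d : B)} : Set _))
  have hπJ : Ideal.Quotient.mk (Ideal.span
      ({algebraMap B (Algebra.adjoin B ({x, y} : Set B')) (d : B)} : Set _))
        (⟨x, hxC⟩ : Algebra.adjoin B ({x, y} : Set B')) ∈
      (⊥ : Ideal ((Algebra.adjoin B ({x, y} : Set B')) ⧸ Ideal.span
      ({algebraMap B (Algebra.adjoin B ({x, y} : Set B')) (d : B)} : Set _))).jacobson := by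
    rw [Ideal.jacobson, Ideal.mem_sInf]
    rintro Q ⟨-, hQ⟩
    haveI := hQ
    have hQc : (Q.comap (Ideal.Quotient.mk (Ideal.span
      ({algebraMap B (Algebra.adjoin B ({x, y} : Set B')) (d : B)} : Set _)))).IsMaximal :=
      Ideal.comap_isMaximal_of_surjective _ Ideal.Quotient.mk_surjective
    rw [Ideal.jacobson, Ideal.mem_sInf] at hxCJ
    exact hxCJ ⟨bot_le, hQc⟩
  have hpow : Ideal.Quotient.mk (Ideal.span
      ({algebraMap B (Algebra.adjoin B ({x, y} : Set B')) (d : B)} : Set _))
        ((⟨x, hxC⟩ : Algebra.adjoin B ({x, y} : Set B')) ^ n) = 0 := by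
    rw [map_pow]
    have h1 := Ideal.pow_mem_pow hπJ n
    rw [hn] at h1
    exact h1
  rw [Ideal.Quotient.eq_zero_iff_mem, Ideal.mem_span_singleton'] at hpow
  obtain ⟨c, hc⟩ := hpow
  obtain ⟨z, hz⟩ := hdC (c * ⟨y, hyC⟩)
  refine ⟨n, z, ?_⟩
  have h3 : (d : B) • (c * (⟨y, hyC⟩ : Algebra.adjoin B ({x, y} : Set B'))) =
      (⟨x, hxC⟩ : Algebra.adjoin B ({x, y} : Set B')) ^ n * ⟨y, hyC⟩ := by
    rw [Algebra.smul_def, ← hc]; ring
  have h4 : (d : B) • ψ (c * ⟨y, hyC⟩) =
      ψ ((⟨x, hxC⟩ : Algebra.adjoin B ({x, y} : Set B')) ^ n * ⟨y, hyC⟩) := by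
    rw [← h3, map_smul]
  have h5 : algebraMap B K z = (d : B) • ψ (c * ⟨y, hyC⟩) := hz
  rw [h5, h4]
  rfl
end


/-- Let B be a Noetherian domain of dimension one with finitely many maximal ideals and B' its integral
closure in its fraction field. Then B' is a Dedekind domain with finitely many maximal ideals, and
for every nonzero x in the Jacobson radical of B' and every y ∈ B' some power x^n satisfies x^n y ∈
B. -/
theorem result (B : Type u) [CommRing B] [IsDomain B] [IsNoetherianRing B]
    (hdim : ringKrullDim B = 1) (hsl : Finite (MaximalSpectrum B)) :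
    IsDedekindDomain (integralClosure B (FractionRing B)) ∧ Finite (MaximalSpectrum (integralClosure B (FractionRing B))) ∧
      ∀ x : integralClosure B (FractionRing B), x ≠ 0 → x ∈ (⊥ : Ideal (integralClosure B (FractionRing B))).jacobson →
        ∀ y : integralClosure B (FractionRing B), ∃ n : ℕ, (x ^ n * y).1 ∈ (algebraMap B (FractionRing B)).range := by
  exact main B (FractionRing B) hdim hsl

end Groth.Agent.S1665
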