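import Groth.Statements.S1640
import Mathlib
import Groth.Agent.S1665

set_option autoImplicit false
universe u
open Variety

namespace Groth.Agent.S1640

theorem exists_large (K : Type u) [Field K] (A : Subring K) {ι : Type u} [Finite ι]
    (v : ι → Valuation K (WithZero (Multiplicative ℤ))) (h : ∀ j, ∃ y ∈ A, 1 < v j y) :
    ∃ x ∈ A, x ≠ 0 ∧ ∀ j, 1 < v j x := by
  classical
  haveI := Fintype.ofFinite ι
  suffices H : ∀ s : Finset ι, ∃ x ∈ A, x ≠ 0 ∧ ∀ j ∈ s, 1 < v j x by
    obtain ⟨x, hxA, hx0, hx⟩ := H Finset.univ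
    exact ⟨x, hxA, hx0, fun j => hx j (Finset.mem_univ j)⟩
  intro s
  induction s using Finset.induction_on with
  | empty => exact ⟨1, A.one_mem, one_ne_zero, fun j hj => absurd hj (Finset.notMem_empty j)⟩
  | insert j s hjs ih =>
    obtain ⟨x, hxA, hx0, hx⟩ := ih
    by_cases hj : 1 < v j x
    · refine ⟨x, hxA, hx0, fun i hi => ?_⟩
      rcases Finset.mem_insert.mp hi with rfl | hi
      · exact hj
      · exact hx i hi
    · rw [not_lt] at hj
      obtain ⟨y, hyA, hy⟩ := h j
      have hN : ∀ i ∈ s, ∃ n : ℕ, v i y ≤ (v i x) ^ n :=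
        fun i hi => MulArchimedean.arch (v i y) (hx i hi)
      choose! N hN using hN
      have hlt : ∀ i ∈ s, v i y < v i (x ^ (s.sup N + 1)) := by
        intro i hi
        rw [map_pow]
        have h1 : (1 : WithZero (Multiplicative ℤ)) < v i x := hx i hi
        have h2 : N i ≤ s.sup N := Finset.le_sup hi
        calc v i y ≤ (v i x) ^ (N i) := hN i hi
          _ ≤ (v i x) ^ (s.sup N) := pow_le_pow_right₀ h1.le h2
          _ < (v i x) ^ (s.sup N + 1) := pow_lt_pow_right₀ h1 (Nat.lt_succ_self _)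
      have hjlt : v j (x ^ (s.sup N + 1)) < v j y := by
        rw [map_pow]
        exact lt_of_le_of_lt (pow_le_one₀ zero_le' hj) hy
      refine ⟨x ^ (s.sup N + 1) + y, A.add_mem (A.pow_mem hxA _) hyA, ?_, fun i hi => ?_⟩
      · intro h0
        have h3 := Valuation.map_add_eq_of_lt_right (v j) hjlt
        rw [h0, map_zero] at h3
        rw [← h3] at hy
        exact absurd hy (by simp)
      · rcases Finset.mem_insert.mp hi with rfl | hi
        · rw [Valuation.map_add_eq_of_lt_right _ hjlt]; exact hy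
        · rw [Valuation.map_add_eq_of_lt_left _ (hlt i hi), map_pow]
          exact one_lt_pow₀ (hx i hi) (Nat.succ_ne_zero _)

theorem perRing (K : Type u) [Field K] (A B : Subring K) [IsNoetherianRing B]
    [IsFractionRing B K]
    (hdim : ringKrullDim B = 1) (hsl : Finite (MaximalSpectrum B)) (hgen : A ⊔ B = ⊤) :
    ∃ (ι : Type u) (_ : Finite ι) (v : ι → Valuation K (WithZero (Multiplicative ℤ))),
      (∀ j, ∃ y ∈ A, 1 < v j y) ∧
      ∀ x : K, x ≠ 0 → (∀ j, 1 < v j x) → ∃ n : ℕ, 0 < n ∧ ∀ m : ℕ, n ∣ m → 0 < m →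
        ∃ hx : (x⁻¹) ^ m ∈ B, (⟨(x⁻¹) ^ m, hx⟩ : B) ∈ (⊥ : Ideal B).jacobson := by
  classical
  obtain ⟨hDed, hfin, hcond⟩ := Groth.Agent.S1665.main B K hdim hsl
  haveI := hDed
  haveI : IsFractionRing (integralClosure B K) K :=
    integralClosure.isFractionRing_of_finite_extension K K
  have hnfB : ¬ IsField B := by
    intro h
    have h0 := ringKrullDim_eq_zero_of_isField h
    rw [hdim] at h0
    simp at h0
  have hinjBB' : Function.Injective (algebraMap B (integralClosure B K)) := by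
    intro p q hpq
    have h1 : algebraMap B K p = algebraMap B K q :=
      congrArg (fun w : integralClosure B K => (w : K)) hpq
    exact IsFractionRing.injective B K h1
  have hnfB' : ¬ IsField (integralClosure B K) := fun h =>
    hnfB (isField_of_isIntegral_of_isField hinjBB' h)
  haveI := hfin
  have hfinH : Finite (IsDedekindDomain.HeightOneSpectrum (integralClosure B K)) :=
    Finite.of_equiv _ (IsDedekindDomain.HeightOneSpectrum.equivMaximalSpectrum hnfB').symm
  refine ⟨IsDedekindDomain.HeightOneSpectrum (integralClosure B K), hfinH,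
    fun v => v.valuation K, ?_, ?_⟩
  · intro v
    by_contra hcon
    push Not at hcon
    have hA : A ≤ (v.valuation K).integer :=
      fun y hy => (Valuation.mem_integer_iff _ _).mpr (hcon y hy)
    have hB : B ≤ (v.valuation K).integer := by
      intro b hb
      rw [Valuation.mem_integer_iff]
      have hb' : (algebraMap (integralClosure B K) K)
          (algebraMap B (integralClosure B K) ⟨b, hb⟩) = b := rfl
      rw [← hb']
      exact v.valuation_le_one _
    have htop : (⊤ : Subring K) ≤ (v.valuation K).integer := by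
      rw [← hgen]; exact sup_le hA hB
    obtain ⟨π, hπ⟩ := v.valuation_exists_uniformizer K
    have hπ1 : v.valuation K π < 1 := by
      rw [hπ, ← WithZero.exp_zero, WithZero.exp_lt_exp]; norm_num
    have hπ0 : v.valuation K π ≠ 0 := by rw [hπ]; exact WithZero.exp_ne_zero
    have h1 : v.valuation K π⁻¹ ≤ 1 :=
      (Valuation.mem_integer_iff _ _).mp (htop (Subring.mem_top _))
    rw [map_inv₀] at h1
    have h2 : 1 < (v.valuation K π)⁻¹ := (one_lt_inv₀ (zero_lt_iff.mpr hπ0)).mpr hπ1
    exact absurd h1 (not_le.mpr h2)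
  · intro x hx0 hx
    have hz : ∀ v : IsDedekindDomain.HeightOneSpectrum (integralClosure B K),
        v.valuation K x⁻¹ < 1 := by
      intro v
      rw [map_inv₀]
      have h1 := hx v
      exact (inv_lt_one₀ (lt_trans zero_lt_one h1)).mpr h1
    obtain ⟨z', hz'⟩ := IsDedekindDomain.HeightOneSpectrum.mem_integers_of_valuation_le_one K x⁻¹
      (fun v => (hz v).le)
    have hz'' : (z' : K) = x⁻¹ := hz'
    have hz'0 : z' ≠ 0 := by
      rintro rfl
      rw [map_zero] at hz'
      exact inv_ne_zero hx0 hz'.symm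
    have hz'J : z' ∈ (⊥ : Ideal (integralClosure B K)).jacobson := by
      rw [Ideal.jacobson, Ideal.mem_sInf]
      rintro M ⟨-, hM⟩
      have hne : M ≠ ⊥ := Ring.ne_bot_of_isMaximal_of_not_isField hM hnfB'
      have h3 := hz ⟨M, hM.isPrime, hne⟩
      rw [← hz'] at h3
      exact ((⟨M, hM.isPrime, hne⟩ :
        IsDedekindDomain.HeightOneSpectrum (integralClosure B K)).valuation_lt_one_iff_mem z').mp h3
    obtain ⟨n₀, hn₀⟩ := hcond z' hz'0 hz'J z'
    have hval : ((z' ^ n₀ * z' : integralClosure B K) : K) = x⁻¹ ^ (n₀ + 1) := by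
      rw [pow_succ, ← hz'']
      push_cast
      rfl
    obtain ⟨b, hb⟩ := hn₀
    have hbmem : x⁻¹ ^ (n₀ + 1) ∈ B := by
      rw [← hval, ← hb]
      exact b.2
    refine ⟨n₀ + 1, Nat.succ_pos _, ?_⟩
    intro m hm hm0
    obtain ⟨k, rfl⟩ := hm
    have hmem : x⁻¹ ^ ((n₀ + 1) * k) ∈ B := by
      rw [pow_mul]; exact B.pow_mem hbmem k
    refine ⟨hmem, ?_⟩
    apply Groth.Agent.S1665.mem_jacobson_of_integral B (integralClosure B K) hinjBB'
    have heq : algebraMap B (integralClosure B K) ⟨x⁻¹ ^ ((n₀ + 1) * k), hmem⟩ =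
        z' ^ ((n₀ + 1) * k) := by
      apply Subtype.ext
      show x⁻¹ ^ ((n₀ + 1) * k) = ((z' ^ ((n₀ + 1) * k) : integralClosure B K) : K)
      rw [← hz'']
      push_cast
      rfl
    rw [heq]
    exact Ideal.pow_mem_of_mem _ hz'J _ hm0


/-- Let K be a field, A ⊆ K a subring with fraction field K, and B_1, …, B_r ⊆ K Noetherian
one-dimensional subrings with finitely many maximal ideals and fraction field K, such that for each
i the subring generated by A and B_i is all of K. Then some nonzero x ∈ A has x⁻¹ lying in B_i and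
in the Jacobson radical of B_i for every i. -/
theorem result (K : Type u) [Field K] (A : Subring K) [IsFractionRing A K]
    (r : ℕ) (B : Fin r → Subring K) [∀ i, IsNoetherianRing (B i)] [∀ i, IsFractionRing (B i) K]
    (hdim : ∀ i, ringKrullDim (B i) = 1) (hsl : ∀ i, Finite (MaximalSpectrum (B i)))
    (hgen : ∀ i, A ⊔ B i = ⊤) :
    ∃ x : K, x ∈ A ∧ x ≠ 0 ∧ ∀ i, ∃ hx : x⁻¹ ∈ B i, (⟨x⁻¹, hx⟩ : B i) ∈ (⊥ : Ideal (B i)).jacobson := by
  classical
  choose ι hι v hv hcond using fun i => perRing K A (B i) (hdim i) (hsl i) (hgen i)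
  haveI : ∀ i, Finite (ι i) := hι
  obtain ⟨x, hxA, hx0, hx⟩ := exists_large K A (ι := Σ i, ι i) (fun p => v p.1 p.2)
    (fun p => hv p.1 p.2)
  have hc : ∀ i, ∃ n : ℕ, 0 < n ∧ ∀ m : ℕ, n ∣ m → 0 < m →
      ∃ hx' : (x⁻¹) ^ m ∈ B i, (⟨(x⁻¹) ^ m, hx'⟩ : B i) ∈ (⊥ : Ideal (B i)).jacobson :=
    fun i => hcond i x hx0 (fun j => hx ⟨i, j⟩)
  choose n hn0 hn using hc
  have hN : 0 < ∏ i, n i := Finset.prod_pos (fun i _ => hn0 i)
  refine ⟨x ^ (∏ i, n i), A.pow_mem hxA _, pow_ne_zero _ hx0, fun i => ?_⟩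
  obtain ⟨h1, h2⟩ := hn i (∏ i, n i) (Finset.dvd_prod_of_mem n (Finset.mem_univ i)) hN
  rw [← inv_pow]
  exact ⟨h1, h2⟩

end Groth.Agent.S1640
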