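import Groth.Statements.S16400
import Mathlib

set_option autoImplicit false
universe u v
open CAlgX Matrix

namespace Groth.Agent.S16400

theorem basisSel {K : Type*} [Field K] {ι : Type*} [Fintype ι] {V : Type*} [AddCommGroup V]
    [Module K V] (v : ι → V) :
    ∃ T : Finset ι, (∀ c : ↥T → K, ∑ j, c j • v j = 0 → ∀ j, c j = 0) ∧
      (∀ w ∈ Submodule.span K (Set.range v), ∃ c : ↥T → K, ∑ j, c j • v j = w) := by
  classical
  obtain ⟨b, -, -, hspan, hli⟩ :=
    exists_linearIndepOn_extension (linearIndepOn_empty K v) (Set.empty_subset (Set.univ : Set ι))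
  refine ⟨Finset.univ.filter (fun j => j ∈ b), ?_, ?_⟩
  · have hli' : LinearIndependent K
        (fun j : ↥(Finset.univ.filter (fun j => j ∈ b)) => v j) := by
      have := hli.comp
        (fun j : ↥(Finset.univ.filter (fun j => j ∈ b)) =>
          (⟨j.1, (Finset.mem_filter.mp j.2).2⟩ : ↥b))
        (fun x y hxy => by have h2 := congrArg Subtype.val hxy; exact Subtype.ext h2)
      exact this
    exact fun c hc j => (Fintype.linearIndependent_iff.mp hli') c hc j
  · intro w hw
    have hle : Submodule.span K (Set.range v) ≤ Submodule.span K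
        (Set.range (fun j : ↥(Finset.univ.filter (fun j => j ∈ b)) => v j)) := by
      apply Submodule.span_le.mpr
      rintro _ ⟨i, rfl⟩
      have h1 : v i ∈ Submodule.span K (v '' b) := hspan ⟨i, Set.mem_univ i, rfl⟩
      refine Submodule.span_mono ?_ h1
      rintro _ ⟨j, hj, rfl⟩
      exact ⟨⟨j, Finset.mem_filter.mpr ⟨Finset.mem_univ j, hj⟩⟩, rfl⟩
    exact (Submodule.mem_span_range_iff_exists_fun K).mp (hle hw)

theorem mulVec_eq_sum' {K : Type*} [Field K] {m n : Type*} [Fintype n] (M : Matrix m n K)
    (x : n → K) : M *ᵥ x = ∑ j, x j • (fun i => M i j) := by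
  ext i
  rw [Finset.sum_apply]
  simp only [Matrix.mulVec, dotProduct, Pi.smul_apply, smul_eq_mul]
  exact Finset.sum_congr rfl (fun j _ => mul_comm _ _)

theorem colSel {K : Type*} [Field K] {m n : Type*} [Fintype n] (M : Matrix m n K)
    (hs : Function.Surjective M.mulVecLin) :
    ∃ T : Finset n, Function.Bijective (M.submatrix id (Subtype.val : ↥T → n)).mulVecLin := by
  obtain ⟨T, hind, hspan⟩ := basisSel (K := K) (fun j : n => (fun i : m => M i j))
  refine ⟨T, ?_, ?_⟩
  · refine (injective_iff_map_eq_zero (M.submatrix id (Subtype.val : ↥T → n)).mulVecLin).mpr ?_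
    intro c hc
    funext j
    refine hind c ?_ j
    rw [Matrix.mulVecLin_apply, mulVec_eq_sum'] at hc
    exact hc
  · intro y
    obtain ⟨x, hx⟩ := hs y
    rw [Matrix.mulVecLin_apply, mulVec_eq_sum'] at hx
    have hy : y ∈ Submodule.span K (Set.range (fun j : n => (fun i : m => M i j))) := by
      rw [← hx]
      exact Submodule.sum_mem _
        (fun j _ => Submodule.smul_mem _ _ (Submodule.subset_span ⟨j, rfl⟩))
    obtain ⟨c, hc⟩ := hspan y hy
    refine ⟨c, ?_⟩
    rw [Matrix.mulVecLin_apply, mulVec_eq_sum']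
    exact hc

theorem complSel {K : Type*} [Field K] {m : Type*} [Fintype m] [DecidableEq m]
    (R : Submodule K (m → K)) :
    ∃ U : Finset m, (∀ w ∈ R, (∀ i, i ∉ U → w i = 0) → w = 0) ∧
      (∀ y : m → K, ∃ r ∈ R, ∀ i, i ∉ U → r i = y i) := by
  classical
  have hP0 : ∀ w ∈ R, (∀ i, i ∉ (∅ : Finset m) → w i = 0) → w = 0 :=
    fun w _ hw => funext (fun i => hw i (Finset.notMem_empty i))
  obtain ⟨U, hU, hmax⟩ := Finset.exists_max_image
    (Finset.univ.filter (fun U : Finset m => ∀ w ∈ R, (∀ i, i ∉ U → w i = 0) → w = 0))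
    Finset.card ⟨∅, Finset.mem_filter.mpr ⟨Finset.mem_univ _, hP0⟩⟩
  have hPU : ∀ w ∈ R, (∀ i, i ∉ U → w i = 0) → w = 0 := (Finset.mem_filter.mp hU).2
  refine ⟨U, hPU, ?_⟩
  have claim : ∀ i : m, ∃ r ∈ R, ∀ k, k ∉ U → r k = (Pi.single i (1:K) : m → K) k := by
    intro i
    by_cases hi : i ∈ U
    · refine ⟨0, R.zero_mem, ?_⟩
      intro k hk
      have hki : k ≠ i := fun h => hk (h ▸ hi)
      rw [Pi.single_eq_of_ne hki]
      rfl
    · have hnP : ¬ (∀ w ∈ R, (∀ k, k ∉ insert i U → w k = 0) → w = 0) := by
        intro hPi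
        have h1 := hmax (insert i U) (Finset.mem_filter.mpr ⟨Finset.mem_univ _, hPi⟩)
        rw [Finset.card_insert_of_notMem hi] at h1
        omega
      have hnP' : ∃ w ∈ R, (∀ k, k ∉ insert i U → w k = 0) ∧ w ≠ 0 := by
        by_contra hcon
        apply hnP
        intro w hw hwk
        by_contra hw0
        exact hcon ⟨w, hw, hwk, hw0⟩
      obtain ⟨w, hwR, hwk, hw0⟩ := hnP'
      have hwi : w i ≠ 0 := by
        intro hwi0
        apply hw0
        apply hPU w hwR
        intro k hk
        by_cases hki : k = i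
        · rw [hki]; exact hwi0
        · apply hwk k
          intro hmem
          rcases Finset.mem_insert.mp hmem with h | h
          · exact hki h
          · exact hk h
      refine ⟨(w i)⁻¹ • w, R.smul_mem _ hwR, ?_⟩
      intro k hk
      by_cases hki : k = i
      · rw [hki, Pi.single_eq_same, Pi.smul_apply, smul_eq_mul, inv_mul_cancel₀ hwi]
      · rw [Pi.single_eq_of_ne hki, Pi.smul_apply, smul_eq_mul]
        have : w k = 0 := by
          apply hwk k
          intro hmem
          rcases Finset.mem_insert.mp hmem with h | h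
          · exact hki h
          · exact hk h
        rw [this, mul_zero]
  choose r hrR hr using claim
  intro y
  refine ⟨∑ i, y i • r i, R.sum_mem (fun i _ => R.smul_mem _ (hrR i)), ?_⟩
  intro k hk
  rw [Finset.sum_apply, Finset.sum_eq_single k]
  · rw [Pi.smul_apply, smul_eq_mul, hr k k hk, Pi.single_eq_same, mul_one]
  · intro i _ hik
    rw [Pi.smul_apply, smul_eq_mul, hr i k hk, Pi.single_eq_of_ne (Ne.symm hik), mul_zero]
  · intro h
    exact absurd (Finset.mem_univ k) h

theorem rowSel {K : Type*} [Field K] {m n : Type*} [Fintype n] [Fintype m] [DecidableEq m]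
    (M : Matrix m n K) (hinj : Function.Injective M.mulVecLin) :
    ∃ T : Finset m, Function.Bijective (M.submatrix (Subtype.val : ↥T → m) id).mulVecLin := by
  obtain ⟨U, hU1, hU2⟩ := complSel (LinearMap.range M.mulVecLin)
  refine ⟨Uᶜ, ?_, ?_⟩
  · refine (injective_iff_map_eq_zero (M.submatrix (Subtype.val : ↥(Uᶜ) → m) id).mulVecLin).mpr ?_
    intro x hx
    apply hinj
    rw [map_zero]
    apply hU1 _ (LinearMap.mem_range_self M.mulVecLin x)
    intro i hiU
    have := congrFun hx ⟨i, Finset.mem_compl.mpr hiU⟩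
    exact this
  · intro y
    obtain ⟨r, hrR, hr⟩ := hU2 (Function.extend (Subtype.val : ↥(Uᶜ) → m) y 0)
    obtain ⟨x, rfl⟩ := LinearMap.mem_range.mp hrR
    refine ⟨x, ?_⟩
    funext i
    have := hr i (Finset.mem_compl.mp i.2)
    rw [Subtype.val_injective.extend_apply] at this
    exact this

/-- Let K be a field, N a finite index set and A a square matrix over K indexed by N whose linear map on
column vectors has kernel equal to its range (so A composed with A is zero and the three-term
sequence it defines is exact in the middle). Then there are subsets N₁₂, N₂₁, N₃₁ of N such that the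
block of A with rows in N₃₁ and columns in N₂₁, and the block of A with rows outside N₂₁ and columns
in N₁₂, both act bijectively on column vectors. (In the original setting K is the prime field and
middle exactness is supplied by the Cartier isomorphism; here exactness is the hypothesis and K is
any field.) -/
theorem result
    {K : Type u} [Field K] {N : Type v} [Fintype N] [DecidableEq N]
    (A : Matrix N N K)
    (hA : LinearMap.ker A.mulVecLin = LinearMap.range A.mulVecLin) :
    ∃ N₁₂ N₂₁ N₃₁ : Finset N,
      Function.Bijective (A.submatrix (Subtype.val : ↥N₃₁ → N) (Subtype.val : ↥N₂₁ → N)).mulVecLin ∧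
      Function.Bijective
        (A.submatrix (Subtype.val : {x : N // x ∉ N₂₁} → N) (Subtype.val : ↥N₁₂ → N)).mulVecLin := by
  classical
  obtain ⟨S, hind, hspan⟩ := basisSel (K := K) (fun j : N => (fun i : N => A i j))
  have hinjS : Function.Injective (A.submatrix id (Subtype.val : ↥S → N)).mulVecLin := by
    refine (injective_iff_map_eq_zero (A.submatrix id (Subtype.val : ↥S → N)).mulVecLin).mpr ?_
    intro c hc
    funext j
    refine hind c ?_ j
    rw [Matrix.mulVecLin_apply, mulVec_eq_sum'] at hc
    exact hc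
  obtain ⟨T, hT⟩ := rowSel _ hinjS
  have hT2 : Function.Bijective
      (A.submatrix (Subtype.val : ↥T → N) (Subtype.val : ↥S → N)).mulVecLin := hT
  have hcol : ∀ j : N, A.mulVecLin (Pi.single j (1:K)) = fun i => A i j := by
    intro j
    rw [Matrix.mulVecLin_apply, Matrix.mulVec_single_one]
    rfl
  have hsurj : Function.Surjective
      (A.submatrix (Subtype.val : {x : N // x ∉ S} → N) id).mulVecLin := by
    intro y
    obtain ⟨w, hw⟩ : ∃ w : N → K, ∀ i : {x : N // x ∉ S}, w i = y i :=
      ⟨Function.extend Subtype.val y 0, fun i => Subtype.val_injective.extend_apply y 0 i⟩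
    have hAw : A *ᵥ w ∈ Submodule.span K (Set.range (fun j : N => (fun i : N => A i j))) := by
      rw [mulVec_eq_sum']
      exact Submodule.sum_mem _
        (fun j _ => Submodule.smul_mem _ _ (Submodule.subset_span ⟨j, rfl⟩))
    obtain ⟨c, hc⟩ := hspan _ hAw
    obtain ⟨e, heA, he0⟩ : ∃ e : N → K, A.mulVecLin e = A.mulVecLin w ∧
        ∀ i : N, i ∉ S → e i = 0 := by
      refine ⟨∑ j : ↥S, c j • (Pi.single (j : N) (1:K) : N → K), ?_, ?_⟩
      · rw [map_sum, Matrix.mulVecLin_apply A w, ← hc]
        refine Finset.sum_congr rfl (fun j _ => ?_)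
        rw [map_smul, hcol]
      · intro i hi
        rw [Finset.sum_apply]
        refine Finset.sum_eq_zero (fun j _ => ?_)
        have hne : i ≠ (j : N) := fun h => hi (by rw [h]; exact j.2)
        rw [Pi.smul_apply, Pi.single_eq_of_ne hne, smul_zero]
    have hker : w - e ∈ LinearMap.ker A.mulVecLin := by
      rw [LinearMap.mem_ker, map_sub, heA, sub_self]
    rw [hA] at hker
    obtain ⟨x, hx⟩ := LinearMap.mem_range.mp hker
    refine ⟨x, ?_⟩
    funext i
    have h1 : (A.mulVecLin x) (i : N) = y i := by
      rw [hx, Pi.sub_apply, he0 i i.2, sub_zero, hw i]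
    exact h1
  obtain ⟨T', hT'⟩ := colSel _ hsurj
  exact ⟨T', S, T, hT2, hT'⟩

end Groth.Agent.S16400
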