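import Groth.Statements.S16401
import Mathlib
-- import your own Groth.Agent.* helpers here

set_option autoImplicit false
universe u v
open CAlgX

namespace Groth.Agent.S16401

/-- Let R be a commutative ring and (E_a), a ∈ ι, a family of additive subgroups of R indexed by an
additive commutative group ι, with E_0 = R and E_a · E_b ⊆ E_{a+b}. Let β, γ : Fin r → ι be weight
vectors with Σ_j β_j = Σ_i γ_i, and let ϑ be an r × r matrix over R with ϑ_{ij} ∈ E_{γ_i − β_j} for
all i, j and with unit determinant. Then a column vector u satisfies u_j ∈ E_{β_j} for every j if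
and only if (ϑ u)_i ∈ E_{γ_i} for every i; since ϑ is invertible this says that ϑ maps the box Π_j
E_{β_j} bijectively onto the box Π_i E_{γ_i}. -/
theorem result
    {R : Type u} [CommRing R] {ι : Type v} [AddCommGroup ι]
    (E : ι → AddSubgroup R) (h0 : E 0 = ⊤)
    (hmul : ∀ a b : ι, ∀ x ∈ E a, ∀ y ∈ E b, x * y ∈ E (a + b))
    {r : ℕ} (wβ wγ : Fin r → ι) (hsum : ∑ j, wβ j = ∑ i, wγ i)
    (ϑ : Matrix (Fin r) (Fin r) R) (hϑ : ∀ i j, ϑ i j ∈ E (wγ i - wβ j))
    (hdet : IsUnit ϑ.det) (u : Fin r → R) :
    (∀ j, u j ∈ E (wβ j)) ↔ ∀ i, ϑ.mulVec u i ∈ E (wγ i) := by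
  classical
  have h1 : ∀ x : R, x ∈ E 0 := fun x => by rw [h0]; exact AddSubgroup.mem_top x
  have hprod : ∀ (s : Finset (Fin r)) (x : Fin r → R) (w : Fin r → ι),
      (∀ i ∈ s, x i ∈ E (w i)) → ∏ i ∈ s, x i ∈ E (∑ i ∈ s, w i) := by
    intro s x w
    induction s using Finset.induction_on with
    | empty => intro _; simp only [Finset.prod_empty, Finset.sum_empty]; exact h1 1
    | insert a s ha ih =>
      intro h
      rw [Finset.prod_insert ha, Finset.sum_insert ha]
      exact hmul _ _ _ (h a (Finset.mem_insert_self a s)) _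
        (ih (fun i hi => h i (Finset.mem_insert_of_mem hi)))
  have hW : ∀ (M : Matrix (Fin r) (Fin r) R) (a b : Fin r → ι),
      (∀ i j, M i j ∈ E (a i - b j)) → M.det ∈ E (∑ i, a i - ∑ j, b j) := by
    intro M a b hM
    rw [Matrix.det_apply]
    apply AddSubgroup.sum_mem
    intro σ _
    have hp : ∏ i, M (σ i) i ∈ E (∑ i, a i - ∑ j, b j) := by
      have := hprod Finset.univ (fun i => M (σ i) i) (fun i => a (σ i) - b i)
        (fun i _ => hM (σ i) i)
      rw [Finset.sum_sub_distrib, Equiv.sum_comp σ a] at this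
      exact this
    rcases Int.units_eq_one_or (Equiv.Perm.sign σ) with h | h
    · rw [h, one_smul]; exact hp
    · rw [h, Units.neg_smul, one_smul]; exact AddSubgroup.neg_mem _ hp
  constructor
  · intro hu i
    change ∑ j, ϑ i j * u j ∈ E (wγ i)
    apply AddSubgroup.sum_mem
    intro j _
    have := hmul _ _ _ (hϑ i j) _ (hu j)
    rwa [sub_add_cancel] at this
  · intro hv j
    have hadj : ∀ i, ϑ.adjugate j i ∈ E (wβ j - wγ i) := by
      intro i
      rw [Matrix.adjugate_apply]
      have := hW (ϑ.updateRow i (Pi.single j 1)) (Function.update wγ i (wβ j)) wβ (by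
        intro k l
        by_cases hk : k = i
        · subst hk
          rw [Matrix.updateRow_self, Function.update_self]
          by_cases hl : l = j
          · subst hl; rw [Pi.single_eq_same, sub_self]; exact h1 1
          · rw [Pi.single_eq_of_ne hl]; exact AddSubgroup.zero_mem _
        · rw [Matrix.updateRow_ne hk, Function.update_of_ne hk]; exact hϑ k l)
      have hs : ∑ k, Function.update wγ i (wβ j) k - ∑ l, wβ l = wβ j - wγ i := by
        rw [Finset.sum_update_of_mem (Finset.mem_univ i), Finset.sdiff_singleton_eq_erase,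
          Finset.sum_erase_eq_sub (Finset.mem_univ i), hsum]
        abel
      rwa [hs] at this
    have hdu : ϑ.det * u j ∈ E (wβ j) := by
      have e : ϑ.det * u j = (ϑ.adjugate.mulVec (ϑ.mulVec u)) j := by
        rw [Matrix.mulVec_mulVec, Matrix.adjugate_mul, Matrix.smul_mulVec, Matrix.one_mulVec,
          Pi.smul_apply, smul_eq_mul]
      rw [e]
      change ∑ i, ϑ.adjugate j i * (ϑ.mulVec u) i ∈ E (wβ j)
      apply AddSubgroup.sum_mem
      intro i _
      have := hmul _ _ _ (hadj i) _ (hv i)
      rwa [sub_add_cancel] at this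
    obtain ⟨d, hd⟩ := hdet.exists_left_inv
    have : u j = d * (ϑ.det * u j) := by rw [← mul_assoc, hd, one_mul]
    rw [this]
    have := hmul 0 (wβ j) d (h1 d) _ hdu
    rwa [zero_add] at this

end Groth.Agent.S16401
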