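import Groth.Statements.S16405
import Mathlib

set_option autoImplicit false
universe u v
open InvQ

namespace Groth.Agent.S16405

/-- In weight form. Let b : L → ℤ^r be an injective homomorphism of abelian groups (the case in view: L
the character group of a maximal torus T of a semisimple group over ℂ and b the map dual to the
surjection of the rank-r split torus T' onto T that sends the i-th coordinate cocharacter to the
primitive generator of the i-th ray of the Weyl chamber; only the injectivity of b is used, and ℂ is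
replaced by any commutative ring k). Grade the monoid algebra k[L × ℕ^r] (the coordinate ring of T ×
𝔸^r) by ℤ^r, the monomial (w, n) having weight b(w) + n (the weights of the T'-action u·(t, v) =
(b^∨(u) t, u v)), and grade k[ℕ^r] by ℤ^r/b(L), the monomial n having weight the class of n (the
weights of the action on 𝔸^r of the diagonalizable kernel Z of T' → T, a finite group in the case in
view). For a diagonalizable group acting on an affine scheme the ring of invariants is the
weight-zero part, so the two weight-zero parts are the coordinate rings of the quotients (T ×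
𝔸^r)//T' and 𝔸^r//Z. The statement: the algebra map k[L × ℕ^r] → k[ℕ^r] induced by the projection L
× ℕ^r → ℕ^r (restriction to the slice 1 × 𝔸^r) maps the weight-zero part of k[L × ℕ^r] bijectively
onto the weight-zero part of k[ℕ^r]; hence it induces an isomorphism of k-algebras between them. -/
theorem result
    (k : Type u) [CommRing k] (r : ℕ) (L : Type v) [AddCommGroup L]
    (b : L →+ (Fin r → ℤ)) (hb : Function.Injective b) :
    Set.BijOn
      (AddMonoidAlgebra.mapDomainAlgHom k k (AddMonoidHom.snd L (Fin r → ℕ)))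
      (AddMonoidAlgebra.gradeBy k
        (b.comp (AddMonoidHom.fst L (Fin r → ℕ)) +
          (AddMonoidHom.compLeft (Nat.castAddMonoidHom ℤ) (Fin r)).comp (AddMonoidHom.snd L (Fin r → ℕ))) 0 :
        Set (AddMonoidAlgebra k (L × (Fin r → ℕ))))
      (AddMonoidAlgebra.gradeBy k
        ((QuotientAddGroup.mk' b.range).comp (AddMonoidHom.compLeft (Nat.castAddMonoidHom ℤ) (Fin r))) 0 :
        Set (AddMonoidAlgebra k (Fin r → ℕ))) := by
  classical
  have F1 : ∀ mm : L × (Fin r → ℕ),
      (b.comp (AddMonoidHom.fst L (Fin r → ℕ)) +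
        (AddMonoidHom.compLeft (Nat.castAddMonoidHom ℤ) (Fin r)).comp
          (AddMonoidHom.snd L (Fin r → ℕ))) mm = 0 →
      ((QuotientAddGroup.mk' b.range).comp
        (AddMonoidHom.compLeft (Nat.castAddMonoidHom ℤ) (Fin r))) mm.2 = 0 := by
    rintro ⟨w, n⟩ h
    have h' : b w + (AddMonoidHom.compLeft (Nat.castAddMonoidHom ℤ) (Fin r)) n = 0 := h
    change (QuotientAddGroup.mk ((AddMonoidHom.compLeft (Nat.castAddMonoidHom ℤ) (Fin r)) n) :
      (Fin r → ℤ) ⧸ b.range) = 0
    rw [QuotientAddGroup.eq_zero_iff]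
    refine ⟨-w, ?_⟩
    rw [map_neg]
    exact (eq_neg_of_add_eq_zero_right h').symm
  have F2 : Set.InjOn (Prod.snd : L × (Fin r → ℕ) → (Fin r → ℕ))
      ((b.comp (AddMonoidHom.fst L (Fin r → ℕ)) +
        (AddMonoidHom.compLeft (Nat.castAddMonoidHom ℤ) (Fin r)).comp
          (AddMonoidHom.snd L (Fin r → ℕ))) ⁻¹' {0}) := by
    rintro ⟨w, n⟩ h ⟨w', n'⟩ h' hnn
    have e : n = n' := hnn
    subst e
    have h1 : b w + (AddMonoidHom.compLeft (Nat.castAddMonoidHom ℤ) (Fin r)) n = 0 := h
    have h2 : b w' + (AddMonoidHom.compLeft (Nat.castAddMonoidHom ℤ) (Fin r)) n = 0 := h'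
    have h3 : b w = b w' := add_right_cancel (h1.trans h2.symm)
    rw [hb h3]
  have F3 : ∀ n : Fin r → ℕ,
      ((QuotientAddGroup.mk' b.range).comp
        (AddMonoidHom.compLeft (Nat.castAddMonoidHom ℤ) (Fin r))) n = 0 →
      ∃ w : L, (b.comp (AddMonoidHom.fst L (Fin r → ℕ)) +
        (AddMonoidHom.compLeft (Nat.castAddMonoidHom ℤ) (Fin r)).comp
          (AddMonoidHom.snd L (Fin r → ℕ))) (w, n) = 0 := by
    intro n h
    have h' : (QuotientAddGroup.mk ((AddMonoidHom.compLeft (Nat.castAddMonoidHom ℤ) (Fin r)) n) :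
      (Fin r → ℤ) ⧸ b.range) = 0 := h
    rw [QuotientAddGroup.eq_zero_iff] at h'
    obtain ⟨w, hw⟩ := h'
    refine ⟨-w, ?_⟩
    change b (-w) + (AddMonoidHom.compLeft (Nat.castAddMonoidHom ℤ) (Fin r)) n = 0
    rw [map_neg, hw, neg_add_cancel]
  refine ⟨?_, ?_, ?_⟩
  · intro x hx
    have hx' := (AddMonoidAlgebra.mem_gradeBy_iff _ _ _ _).mp hx
    rw [SetLike.mem_coe, AddMonoidAlgebra.mem_gradeBy_iff]
    intro n hn
    have hn' : n ∈ (Finsupp.mapDomain Prod.snd x.coeff).support := hn
    obtain ⟨mm, hm, rfl⟩ := Finset.mem_image.mp (Finsupp.mapDomain_support hn')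
    exact F1 mm (hx' hm)
  · intro x hx y hy hxy
    have hx' := (AddMonoidAlgebra.mem_gradeBy_iff _ _ _ _).mp hx
    have hy' := (AddMonoidAlgebra.mem_gradeBy_iff _ _ _ _).mp hy
    apply AddMonoidAlgebra.coeff_injective
    apply Finsupp.mapDomain_injOn _ F2 hx' hy'
    exact congrArg AddMonoidAlgebra.coeff hxy
  · intro y hy
    have hy' := (AddMonoidAlgebra.mem_gradeBy_iff _ _ _ _).mp hy
    let σ : (Fin r → ℕ) → L × (Fin r → ℕ) := fun n =>
      if h : ((QuotientAddGroup.mk' b.range).comp
        (AddMonoidHom.compLeft (Nat.castAddMonoidHom ℤ) (Fin r))) n = 0 then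
        ((F3 n h).choose, n) else (0, n)
    have hσ2 : Prod.snd ∘ σ = id := by
      funext n
      simp only [Function.comp, σ]
      split_ifs <;> rfl
    have hσ1 : ∀ n, ((QuotientAddGroup.mk' b.range).comp
        (AddMonoidHom.compLeft (Nat.castAddMonoidHom ℤ) (Fin r))) n = 0 →
        (b.comp (AddMonoidHom.fst L (Fin r → ℕ)) +
        (AddMonoidHom.compLeft (Nat.castAddMonoidHom ℤ) (Fin r)).comp
          (AddMonoidHom.snd L (Fin r → ℕ))) (σ n) = 0 := by
      intro n h
      simp only [σ, dif_pos h]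
      exact (F3 n h).choose_spec
    refine ⟨AddMonoidAlgebra.ofCoeff (Finsupp.mapDomain σ y.coeff), ?_, ?_⟩
    · rw [SetLike.mem_coe, AddMonoidAlgebra.mem_gradeBy_iff]
      intro mm hm
      have hm' : mm ∈ (Finsupp.mapDomain σ y.coeff).support := hm
      obtain ⟨n, hn, rfl⟩ := Finset.mem_image.mp (Finsupp.mapDomain_support hm')
      exact hσ1 n (hy' hn)
    · apply AddMonoidAlgebra.coeff_injective
      change Finsupp.mapDomain Prod.snd (Finsupp.mapDomain σ y.coeff) = y.coeff
      rw [← Finsupp.mapDomain_comp, hσ2, Finsupp.mapDomain_id]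

end Groth.Agent.S16405
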