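import Groth.Statements.S16414
import Mathlib

set_option autoImplicit false
open Dieud

namespace Groth.Agent.S16414

/-- Let μ be a rational number with 0 < μ ≤ 1 and i an integer, and put f(i,j) = max(−i−j, −j, 0) for
integers j. Then min over all integers j of f(i,j) + jμ exists and equals max(−iμ, 0). -/
theorem result (μ : ℚ) (hμ0 : 0 < μ) (hμ1 : μ ≤ 1) (i : ℤ) :
    IsLeast (Set.range fun j : ℤ => ((max (max (-i - j) (-j)) 0 : ℤ) : ℚ) + (j : ℚ) * μ)
      (max (-(i : ℚ) * μ) 0) := by
  constructor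
  · refine ⟨max (-i) 0, ?_⟩
    simp only
    rcases le_total (-i) 0 with h | h
    · have h1 : max (-i) 0 = 0 := max_eq_right h
      have h2 : max (max (-i - 0) (-0)) (0:ℤ) = 0 := by omega
      have h3 : (-(i:ℚ)) ≤ 0 := by exact_mod_cast h
      rw [h1, h2]
      have : -(i:ℚ) * μ ≤ 0 := by nlinarith
      rw [max_eq_right this]; simp
    · have h1 : max (-i) 0 = -i := max_eq_left h
      have h2 : max (max (-i - -i) (- -i)) (0:ℤ) = 0 := by omega
      have h3 : 0 ≤ (-(i:ℚ)) := by exact_mod_cast h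
      rw [h1, h2]
      have : 0 ≤ -(i:ℚ) * μ := by nlinarith
      rw [max_eq_left this]; push_cast; ring
  · rintro _ ⟨j, rfl⟩
    simp only
    have hA : ((-i - j : ℤ) : ℚ) ≤ ((max (max (-i - j) (-j)) 0 : ℤ) : ℚ) := by
      exact_mod_cast le_trans (le_max_left _ _) (le_max_left _ _)
    have hB : ((-j : ℤ) : ℚ) ≤ ((max (max (-i - j) (-j)) 0 : ℤ) : ℚ) := by
      exact_mod_cast le_trans (le_max_right _ _) (le_max_left _ _)
    have hC : ((0 : ℤ) : ℚ) ≤ ((max (max (-i - j) (-j)) 0 : ℤ) : ℚ) := by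
      exact_mod_cast le_max_right _ _
    set M : ℚ := ((max (max (-i - j) (-j)) 0 : ℤ) : ℚ) with hM
    push_cast at hA hB hC
    apply max_le
    · rcases le_total 0 (-(i:ℚ) - j) with h | h
      · nlinarith
      · nlinarith
    · rcases le_total 0 (j:ℚ) with h | h
      · nlinarith
      · nlinarith

end Groth.Agent.S16414
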