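import Groth.Statements.S16418
import Mathlib
-- import your own Groth.Agent.* helpers here

set_option autoImplicit false
universe u v
open Dieud

namespace Groth.Agent.S16418

/-- Step of the proof: for a prime p and a perfect field k of characteristic p, write W = W(k) and σ for
its Frobenius; let M be a W-module with additive maps F (σ-semilinear) and V (with V(σ(a)m) = aV(m))
such that FV = VF = p, V is injective, ⋂_n V^n M = 0 and M/VM is finitely generated over W. Put M₁ =
{x ∈ M : for every n there is m with V^m x ∈ F^n M} and M₂ = {x ∈ M : F^n x = 0 for some n}. Then M₂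
is killed by a single power of F, and F is injective on M₁. (The published text makes these
assertions inside a proof, for the V-reduced Cartier module of a connected smooth formal group of
finite dimension over k; only the listed structure is used, and V-adic completeness is not needed.) -/
theorem result
    (p : ℕ) [Fact p.Prime] (k : Type u) [Field k] [CharP k p] [PerfectRing k p]
    (M : Type v) [AddCommGroup M] [Module (WittVector p k) M]
    (F V : M →+ M)
    (hF : ∀ (a : WittVector p k) (m : M), F (a • m) = WittVector.frobenius a • F m)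
    (hV : ∀ (a : WittVector p k) (m : M), V (WittVector.frobenius a • m) = a • V m)
    (hFV : ∀ m : M, F (V m) = (p : WittVector p k) • m)
    (hVF : ∀ m : M, V (F m) = (p : WittVector p k) • m)
    (hVinj : Function.Injective V)
    (hsep : ∀ x : M, (∀ n : ℕ, ∃ y : M, x = (⇑V)^[n] y) → x = 0)
    (hfin : Module.Finite (WittVector p k) (M ⧸ Submodule.span (WittVector p k) (Set.range V))) :
    (∃ c : ℕ, ∀ x : M, (∃ n : ℕ, (⇑F)^[n] x = 0) → (⇑F)^[c] x = 0) ∧
    (∀ x : M, (∀ n : ℕ, ∃ (m : ℕ) (y : M), (⇑V)^[m] x = (⇑F)^[n] y) → F x = 0 → x = 0) := by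
  have hFa : ∀ c (x y : M), (⇑F)^[c] (x + y) = (⇑F)^[c] x + (⇑F)^[c] y :=
    fun c x y => iterate_map_add F c x y
  have hF0 : ∀ c, (⇑F)^[c] (0 : M) = 0 := fun c => iterate_map_zero F c
  have hFs : ∀ c (a : WittVector p k) (m : M), ∃ b : WittVector p k,
      (⇑F)^[c] (a • m) = b • (⇑F)^[c] m := by
    intro c
    induction c with
    | zero => intro a m; exact ⟨a, rfl⟩
    | succ c ih =>
      intro a m
      obtain ⟨b, hb⟩ := ih a m
      exact ⟨WittVector.frobenius b, by
        rw [Function.iterate_succ_apply', Function.iterate_succ_apply', hb, hF]⟩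
  have hcomm : ∀ m, F (V m) = V (F m) := fun m => by rw [hFV, hVF]
  have hFcV : ∀ c m, (⇑F)^[c] (V m) = V ((⇑F)^[c] m) := by
    intro c
    induction c with
    | zero => intro m; rfl
    | succ c ih =>
      intro m
      rw [Function.iterate_succ_apply', Function.iterate_succ_apply', ih, hcomm]
  have hFVj : ∀ j m, F ((⇑V)^[j] m) = (⇑V)^[j] (F m) := by
    intro j
    induction j with
    | zero => intro m; rfl
    | succ j ih =>
      intro m
      rw [Function.iterate_succ_apply', Function.iterate_succ_apply', hcomm, ih]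
  have hspan : ∀ z ∈ Submodule.span (WittVector p k) (Set.range V), ∃ y, V y = z := by
    intro z hz
    induction hz using Submodule.span_induction with
    | mem z hz => exact hz
    | zero => exact ⟨0, map_zero V⟩
    | add z₁ z₂ _ _ h₁ h₂ =>
      obtain ⟨y₁, rfl⟩ := h₁
      obtain ⟨y₂, rfl⟩ := h₂
      exact ⟨y₁ + y₂, map_add V _ _⟩
    | smul a z _ h =>
      obtain ⟨y, rfl⟩ := h
      exact ⟨WittVector.frobenius a • y, hV a y⟩
  obtain ⟨K, hK⟩ : ∃ K : ℕ → Submodule (WittVector p k) M, ∀ c x, x ∈ K c ↔ (⇑F)^[c] x = 0 := by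
    refine ⟨fun c => ⟨⟨⟨{x | (⇑F)^[c] x = 0}, ?_⟩, ?_⟩, ?_⟩, fun c x => Iff.rfl⟩
    · intro x y hx hy
      show (⇑F)^[c] (x + y) = 0
      rw [hFa, show (⇑F)^[c] x = 0 from hx, show (⇑F)^[c] y = 0 from hy, add_zero]
    · exact hF0 c
    · intro a x hx
      obtain ⟨b, hb⟩ := hFs c a x
      show (⇑F)^[c] (a • x) = 0
      rw [hb, show (⇑F)^[c] x = 0 from hx, smul_zero]
  have hKmono : Monotone K := by
    apply monotone_nat_of_le_succ
    intro c x hx
    rw [hK] at hx ⊢
    rw [Function.iterate_succ_apply', hx, map_zero]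
  haveI : IsNoetherian (WittVector p k)
      (M ⧸ Submodule.span (WittVector p k) (Set.range V)) :=
    isNoetherian_of_isNoetherianRing_of_finite (WittVector p k) _
  obtain ⟨c₀, hc₀⟩ := (monotone_stabilizes_iff_noetherian
    (R := WittVector p k) (M := M ⧸ Submodule.span (WittVector p k) (Set.range V))).mpr
      inferInstance
    ⟨fun c => (K c).map (Submodule.span (WittVector p k) (Set.range V)).mkQ,
      fun a b hab => Submodule.map_mono (hKmono hab)⟩
  have hstep : ∀ n, c₀ ≤ n → ∀ x ∈ K n, ∃ x' ∈ K n, (⇑F)^[c₀] x = V ((⇑F)^[c₀] x') := by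
    intro n hn x hx
    have h1 : (Submodule.span (WittVector p k) (Set.range V)).mkQ x ∈
        (K n).map (Submodule.span (WittVector p k) (Set.range V)).mkQ :=
      Submodule.mem_map_of_mem hx
    have h2 := hc₀ n hn
    simp only [OrderHom.coe_mk] at h2
    rw [← h2] at h1
    obtain ⟨x₀, hx₀, hx₀x⟩ := h1
    have h3 : x - x₀ ∈ Submodule.span (WittVector p k) (Set.range V) := by
      rw [← Submodule.Quotient.mk_eq_zero, Submodule.Quotient.mk_sub]
      have : (Submodule.Quotient.mk x₀ : M ⧸ Submodule.span (WittVector p k) (Set.range V)) =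
          Submodule.Quotient.mk x := hx₀x
      rw [this, sub_self]
    obtain ⟨x', hx'⟩ := hspan _ h3
    have hxe : x = x₀ + V x' := by rw [hx']; abel
    have hx₀n : (⇑F)^[n] x₀ = 0 := (hK n x₀).mp (hKmono hn hx₀)
    have hx₀c : (⇑F)^[c₀] x₀ = 0 := (hK c₀ x₀).mp hx₀
    have hxn : (⇑F)^[n] x = 0 := (hK n x).mp hx
    refine ⟨x', ?_, ?_⟩
    · rw [hK]
      apply hVinj
      rw [map_zero, ← hFcV]
      rw [hxe, hFa, hx₀n, zero_add] at hxn
      exact hxn
    · rw [hxe, hFa, hx₀c, zero_add, hFcV]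
  have hall : ∀ j n, c₀ ≤ n → ∀ x ∈ K n, ∃ y, (⇑F)^[c₀] x = (⇑V)^[j] y := by
    intro j
    induction j with
    | zero => intro n _ x _; exact ⟨_, rfl⟩
    | succ j ih =>
      intro n hn x hx
      obtain ⟨x', hx', hxx'⟩ := hstep n hn x hx
      obtain ⟨y, hy⟩ := ih n hn x' hx'
      exact ⟨y, by rw [hxx', hy, Function.iterate_succ_apply']⟩
  have hA : ∀ x : M, (∃ n : ℕ, (⇑F)^[n] x = 0) → (⇑F)^[c₀] x = 0 := by
    rintro x ⟨n, hn⟩
    apply hsep
    intro j
    have hx : x ∈ K (max n c₀) := hKmono (le_max_left n c₀) ((hK n x).mpr hn)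
    exact hall j (max n c₀) (le_max_right n c₀) x hx
  refine ⟨⟨c₀, hA⟩, ?_⟩
  intro x hx hFx
  obtain ⟨m, y, hmy⟩ := hx c₀
  have h1 : F ((⇑V)^[m] x) = 0 := by rw [hFVj, hFx, iterate_map_zero]
  rw [hmy] at h1
  have h2 : (⇑F)^[c₀ + 1] y = 0 := by rw [Function.iterate_succ_apply']; exact h1
  have h3 := hA y ⟨c₀ + 1, h2⟩
  rw [h3] at hmy
  apply Function.Injective.iterate hVinj m
  rw [hmy, iterate_map_zero]

end Groth.Agent.S16418
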