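import Groth.Statements.S16453
import Mathlib
-- import your own Groth.Agent.* helpers here

set_option autoImplicit false
universe u
open AdicGr

namespace Groth.Agent.S16453

/-- Let A be a commutative ring, I an ideal and Â the I-adic completion, filtered by the kernels Âₙ of
the projections Â → A/Iⁿ. Then the homomorphism of associated graded rings ⊕ₙ Iⁿ/Iⁿ⁺¹ → ⊕ₙ Âₙ/Âₙ₊₁
induced by the canonical map A → Â is bijective. No hypothesis on A or I is needed. (The published
statement is for an arbitrary filtered ring and also asserts the analogous isomorphism for a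
compatibly filtered module; this row is the ring assertion for the filtration by the powers of one
ideal.) -/
theorem result (A : Type u) [CommRing A] (I : Ideal A) :
    Function.Bijective (AssocGr.map (AssocGr.isFiltHom_kerFilt I)) := by
  classical
  have hmem : ∀ (n : ℕ) (a : A),
      algebraMap A (AdicCompletion I A) a ∈ (AssocGr.kerFilt I).F n ↔ a ∈ I ^ n := by
    intro n a
    rw [AssocGr.mem_kerFilt_iff_val, AdicCompletion.algebraMap_apply, Algebra.algebraMap_self,
      RingHom.id_apply, AdicCompletion.of_apply, Submodule.mkQ_apply,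
      Submodule.Quotient.mk_eq_zero]
    change a ∈ (I ^ n • ⊤ : Ideal A) ↔ _
    rw [AssocGr.pow_smul_top]
  constructor
  · rw [injective_iff_map_eq_zero]
    intro x hx
    obtain ⟨f, rfl⟩ := AssocGr.mkG_surjective _ x
    rw [AssocGr.map_mkG, AssocGr.mkG_eq_zero_iff] at hx
    rw [AssocGr.mkG_eq_zero_iff]
    intro n
    have := hx n
    rw [AssocGr.coe_reesMap, Polynomial.coeff_map] at this
    exact (hmem (n + 1) _).mp this
  · intro y
    obtain ⟨g, rfl⟩ := AssocGr.mkG_surjective _ y
    have hlift : ∀ n : ℕ, ∃ a : A, a ∈ I ^ n ∧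
        algebraMap A (AdicCompletion I A) a - (g : Polynomial (AdicCompletion I A)).coeff n ∈
          (AssocGr.kerFilt I).F (n + 1) := by
      intro n
      have hx : ((g : Polynomial (AdicCompletion I A)).coeff n).val n = 0 :=
        (AssocGr.mem_kerFilt_iff_val I n _).mp (g.2 n)
      obtain ⟨a, ha⟩ := Ideal.Quotient.mk_surjective
        (((g : Polynomial (AdicCompletion I A)).coeff n).val (n + 1))
      refine ⟨a, ?_, ?_⟩
      · have h1 := AdicCompletion.transitionMap_comp_eval_apply I A (Nat.le_succ n)
          ((g : Polynomial (AdicCompletion I A)).coeff n)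
        rw [← ha, hx] at h1
        change Ideal.Quotient.mk (I ^ n • ⊤ : Ideal A) a = 0 at h1
        rwa [Ideal.Quotient.eq_zero_iff_mem, AssocGr.pow_smul_top] at h1
      · rw [AssocGr.mem_kerFilt_iff_val, AdicCompletion.val_sub_apply,
          AdicCompletion.algebraMap_apply, Algebra.algebraMap_self, RingHom.id_apply,
          AdicCompletion.of_apply, Submodule.mkQ_apply, ← ha, sub_eq_zero]
        rfl
    choose a haI ha using hlift
    obtain ⟨N, hN⟩ : ∃ N, N = (g : Polynomial (AdicCompletion I A)).natDegree := ⟨_, rfl⟩
    have hfmem : (∑ n ∈ Finset.range (N + 1), Polynomial.monomial n (a n)) ∈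
        (FiltBl.IdealFiltration.adic I).rees := by
      intro m
      rw [Polynomial.finset_sum_coeff]
      refine Ideal.sum_mem _ fun n _ => ?_
      rw [Polynomial.coeff_monomial]
      split_ifs with h
      · subst h; exact haI n
      · exact Ideal.zero_mem _
    refine ⟨AssocGr.mkG _ ⟨_, hfmem⟩, ?_⟩
    rw [AssocGr.map_mkG, ← sub_eq_zero, ← map_sub, AssocGr.mkG_eq_zero_iff]
    intro m
    show (((∑ n ∈ Finset.range (N + 1), Polynomial.monomial n (a n)).map
      (algebraMap A (AdicCompletion I A))) - (g : Polynomial (AdicCompletion I A))).coeff m ∈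
        (AssocGr.kerFilt I).F (m + 1)
    rw [Polynomial.coeff_sub, Polynomial.coeff_map, Polynomial.finset_sum_coeff]
    simp only [Polynomial.coeff_monomial, Finset.sum_ite_eq', Finset.mem_range]
    split_ifs with h
    · exact ha m
    · have : (g : Polynomial (AdicCompletion I A)).coeff m = 0 :=
        Polynomial.coeff_eq_zero_of_natDegree_lt (by rw [← hN]; omega)
      rw [map_zero, this, sub_zero]; exact Ideal.zero_mem _

end Groth.Agent.S16453
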