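import Groth.Statements.S16456
import Mathlib
import Groth.Agent.Lib.helper8.AdicLib
-- import your own Groth.Agent.* helpers here

set_option autoImplicit false
universe u
open AdicGr

namespace Groth.Agent.S16456

/-- Let φ : A → B be a ring homomorphism, I ⊆ A and J ⊆ B ideals with φ(I)B ⊆ J, so that φ is a
homomorphism of filtered rings for the I-adic and J-adic filtrations. Assume that A is I-adically
complete in the sense that every I-adically Cauchy sequence has a limit, that B is J-adically
separated, and that the induced homomorphism of associated graded rings ⊕ₙ Iⁿ/Iⁿ⁺¹ → ⊕ₙ Jⁿ/Jⁿ⁺¹ is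
surjective. Then φ is surjective, φ is strict (Jⁿ = φ(Iⁿ)B for all n, that is J = φ(I)B), and B is
J-adically separated and complete. (The published statement is for a homomorphism of filtered
modules over a filtered ring, with arbitrary compatible filtrations; this row is its case of a ring
homomorphism with adic filtrations.) -/
theorem result (A : Type u) [CommRing A] (B : Type u)
    [CommRing B] (φ : A →+* B) (I : Ideal A) (J : Ideal B) (hIJ : I.map φ ≤ J)
    [IsPrecomplete I A] [IsHausdorff J B]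
    (h : Function.Surjective (AssocGr.map (AssocGr.IsFiltHom.adic hIJ))) :
    Function.Surjective φ ∧ I.map φ = J ∧ IsAdicComplete J B := by
  classical
  have hfilt : AssocGr.IsFiltHom φ (FiltBl.IdealFiltration.adic I) (FiltBl.IdealFiltration.adic J) :=
    AssocGr.IsFiltHom.adic hIJ
  have hφpow : ∀ n (a : A), a ∈ I ^ n → φ a ∈ J ^ n := fun n a ha => hfilt n ha
  have key : ∀ (n : ℕ) (b : B), b ∈ J ^ n → ∃ a ∈ I ^ n, φ a - b ∈ J ^ (n + 1) := by
    intro n b hb
    obtain ⟨x, hx⟩ := h (AssocGr.inDeg (FiltBl.IdealFiltration.adic J) n ⟨b, hb⟩ :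
      AssocGr.GrRing (FiltBl.IdealFiltration.adic J))
    obtain ⟨f, rfl⟩ := AssocGr.mkG_surjective (FiltBl.IdealFiltration.adic I) x
    rw [AssocGr.map_mkG, AssocGr.coe_inDeg, ← sub_eq_zero, ← map_sub,
      AssocGr.mkG_eq_zero_iff] at hx
    have h2 := hx n
    refine ⟨(f : Polynomial A).coeff n, f.2 n, ?_⟩
    have h3 : φ ((f : Polynomial A).coeff n) - b ∈ (FiltBl.IdealFiltration.adic J).F (n + 1) := by
      simpa [AssocGr.coe_reesMap, Polynomial.coeff_map, AssocGr.coe_coe_monom,
        Polynomial.coeff_monomial] using h2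
    exact h3
  have lift : ∀ (m : ℕ) (b : B), b ∈ J ^ m → ∃ s ∈ I ^ m, φ s = b := by
    intro m b hb
    have step : ∀ k (t : A), t ∈ I ^ m → b - φ t ∈ J ^ (m + k) →
        ∃ t' : A, t' ∈ I ^ m ∧ b - φ t' ∈ J ^ (m + (k + 1)) ∧ t' - t ∈ I ^ (m + k) := by
      intro k t ht hbt
      obtain ⟨a, ha, hab⟩ := key (m + k) (b - φ t) hbt
      refine ⟨t + a, Ideal.add_mem _ ht (Ideal.pow_le_pow_right (Nat.le_add_right m k) ha), ?_,
        by rw [add_sub_cancel_left]; exact ha⟩
      have e : b - φ (t + a) = -(φ a - (b - φ t)) := by rw [map_add]; ring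
      rw [e]; exact (Ideal.neg_mem_iff _).mpr hab
    let T : (k : ℕ) → {t : A // t ∈ I ^ m ∧ b - φ t ∈ J ^ (m + k)} := fun k =>
      Nat.rec (motive := fun k => {t : A // t ∈ I ^ m ∧ b - φ t ∈ J ^ (m + k)})
        ⟨0, Ideal.zero_mem _, by rw [map_zero, sub_zero]; exact hb⟩
        (fun k t => ⟨Classical.choose (step k t.1 t.2.1 t.2.2),
          (Classical.choose_spec (step k t.1 t.2.1 t.2.2)).1,
          (Classical.choose_spec (step k t.1 t.2.1 t.2.2)).2.1⟩) k
    have hT : ∀ k, (T (k + 1)).1 - (T k).1 ∈ I ^ (m + k) := fun k =>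
      (Classical.choose_spec (step k (T k).1 (T k).2.1 (T k).2.2)).2.2
    obtain ⟨s, hs⟩ := H8Adic.prec_succ I (fun k => (T k).1)
      (fun k => Ideal.pow_le_pow_right (Nat.le_add_left k m) (hT k))
    refine ⟨s, ?_, ?_⟩
    · have := Ideal.add_mem _ (hs m) (T m).2.1
      rwa [sub_add_cancel] at this
    · have hz : ∀ k, b - φ s ∈ J ^ k := by
        intro k
        have e : b - φ s = (b - φ (T k).1) - φ (s - (T k).1) := by rw [map_sub]; ring
        rw [e]
        exact Ideal.sub_mem _ (Ideal.pow_le_pow_right (Nat.le_add_left k m) (T k).2.2)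
          (hφpow k _ (hs k))
      have := H8Adic.haus_of_forall_mem J (b - φ s) hz
      exact (sub_eq_zero.mp this).symm
  refine ⟨fun b => ?_, le_antisymm hIJ ?_, ?_⟩
  · obtain ⟨s, -, hs⟩ := lift 0 b (by rw [pow_zero, Ideal.one_eq_top]; exact Submodule.mem_top)
    exact ⟨s, hs⟩
  · intro b hb
    obtain ⟨s, hs, rfl⟩ := lift 1 b (by rw [pow_one]; exact hb)
    rw [pow_one] at hs
    exact Ideal.mem_map_of_mem φ hs
  · have : IsPrecomplete J B := ⟨by
      intro f hf
      have hf' : ∀ k, f (k + 1) - f k ∈ J ^ k := fun k => by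
        have := hf (Nat.le_succ k)
        rw [SModEq.sub_mem, smul_eq_mul, Ideal.mul_top] at this
        rw [← neg_sub]; exact (Ideal.neg_mem_iff _).mpr this
      choose d hd hdφ using fun k => lift k (f (k + 1) - f k) (hf' k)
      obtain ⟨c₀, -, hc₀⟩ := lift 0 (f 0) (by rw [pow_zero, Ideal.one_eq_top]; exact Submodule.mem_top)
      obtain ⟨L, hL⟩ := H8Adic.prec_succ I (fun k => c₀ + ∑ i ∈ Finset.range k, d i) (fun k => by
        have e : c₀ + ∑ i ∈ Finset.range (k + 1), d i - (c₀ + ∑ i ∈ Finset.range k, d i) = d k := by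
          rw [Finset.sum_range_succ]; ring
        rw [e]; exact hd k)
      have hφc : ∀ k, φ (c₀ + ∑ i ∈ Finset.range k, d i) = f k := by
        intro k
        induction k with
        | zero => rw [Finset.sum_range_zero, add_zero, hc₀]
        | succ k ih => rw [Finset.sum_range_succ, ← add_assoc, map_add, ih, hdφ]; ring
      refine ⟨φ L, fun k => ?_⟩
      rw [SModEq.sub_mem, smul_eq_mul, Ideal.mul_top, ← hφc k, ← map_sub, ← neg_sub, map_neg]
      exact (Ideal.neg_mem_iff _).mpr (hφpow k _ (hL k))⟩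
    exact { toIsHausdorff := inferInstance, toIsPrecomplete := this }

end Groth.Agent.S16456
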