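import Groth.Statements.S16458
import Mathlib
import Groth.Agent.Lib.helper8.AdicGrLib
-- import your own Groth.Agent.* helpers here

set_option autoImplicit false
universe u
open AdicGr

namespace Groth.Agent.S16458

/-- Let A be a commutative ring and I an ideal such that every I-adically Cauchy sequence in A has a
limit, and let M be an A-module with an I-filtration M = N₀ ⊇ N₁ ⊇ … (I·Nₙ ⊆ Nₙ₊₁) which is
separated, ⋂ₙ Nₙ = 0. If the associated graded module gr(M) = ⊕ₙ Nₙ/Nₙ₊₁ is finitely generated as a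
module over the associated graded ring ⊕ₙ Iⁿ/Iⁿ⁺¹, then M is a finitely generated A-module. (The
published statement allows any complete filtered ring and also concludes that M is complete for its
filtration; this row takes the I-adic filtration on A and states the finiteness.) -/
theorem result (A : Type u) [CommRing A] (I : Ideal A)
    [IsPrecomplete I A] (M : Type u) [AddCommGroup M] [Module A M] (F : I.Filtration M)
    (h0 : F.N 0 = ⊤) (hsep : ⨅ n, F.N n = ⊥)
    [Module.Finite (AssocGr.GrRing (FiltBl.IdealFiltration.adic I)) (AssocGr.GrMod F)] :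
    Module.Finite A M := by
  classical
  obtain ⟨s, hs⟩ := Module.finite_def.mp
    (inferInstance : Module.Finite (AssocGr.GrRing (FiltBl.IdealFiltration.adic I)) (AssocGr.GrMod F))
  choose yy hyy using fun ζ : AssocGr.GrMod F => AssocGr.mkGM_surjective F ζ
  have hT : ∀ ζ, ∃ T : Finset ℕ, ∑ n ∈ T, AssocGr.termM F (yy ζ) n = yy ζ :=
    fun ζ => ⟨_, AssocGr.sum_termM F (yy ζ)⟩
  choose T hTsum using hT
  obtain ⟨d, hd⟩ : ∃ d : ((ζ : ↥s) × ↥(T ζ.1)) → ℕ, ∀ p, d p = p.2.1 := ⟨_, fun _ => rfl⟩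
  obtain ⟨x, hx⟩ : ∃ x : (p : (ζ : ↥s) × ↥(T ζ.1)) → ↥(F.N (p.2.1)),
      ∀ p, (x p : M) = AssocGr.ReesM.coeff F (yy p.1.1) p.2.1 :=
    ⟨fun p => ⟨AssocGr.ReesM.coeff F (yy p.1.1) p.2.1, AssocGr.ReesM.coeff_mem F _ _⟩,
      fun _ => rfl⟩
  have hgen : Submodule.span (AssocGr.GrRing (FiltBl.IdealFiltration.adic I))
      (Set.range fun p : (ζ : ↥s) × ↥(T ζ.1) =>
        (AssocGr.inDegM F p.2.1 (x p) : AssocGr.GrMod F)) = ⊤ := by
    rw [eq_top_iff, ← hs, Submodule.span_le]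
    intro ζ hζ
    have e : ∑ n ∈ (T ζ).attach, (AssocGr.inDegM F n.1 (x ⟨⟨ζ, hζ⟩, n⟩) : AssocGr.GrMod F) = ζ := by
      have hterm : ∀ n : ↥(T ζ), (AssocGr.inDegM F n.1 (x ⟨⟨ζ, hζ⟩, n⟩) : AssocGr.GrMod F)
          = AssocGr.mkGM F (AssocGr.termM F (yy ζ) n.1) := by
        intro n
        have : x ⟨⟨ζ, hζ⟩, n⟩ = ⟨AssocGr.ReesM.coeff F (yy ζ) n.1,
            AssocGr.ReesM.coeff_mem F _ _⟩ := Subtype.ext (hx _)
        rw [this]; rfl
      rw [Finset.sum_congr rfl (fun n _ => hterm n),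
        Finset.sum_attach (T ζ) (fun n => AssocGr.mkGM F (AssocGr.termM F (yy ζ) n)),
        ← map_sum, hTsum ζ, hyy ζ]
    rw [← e]
    exact Submodule.sum_mem _ fun n _ => Submodule.subset_span ⟨⟨⟨ζ, hζ⟩, n⟩, rfl⟩
  have hspan : Submodule.span A (Set.range fun p : (ζ : ↥s) × ↥(T ζ.1) => (x p : M)) = ⊤ := by
    rw [eq_top_iff]
    intro y _
    obtain ⟨L, -, hL⟩ := H8Adic.le_span_of_symbols F hsep (fun p : (ζ : ↥s) × ↥(T ζ.1) => p.2.1) x ⊤ (fun _ => trivial)
      (fun n y hy _ => by rw [hgen]; trivial) 0 y (by rw [h0]; trivial) trivial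
    rw [hL]
    exact Submodule.sum_mem _ fun i _ => Submodule.smul_mem _ _ (Submodule.subset_span ⟨i, rfl⟩)
  exact Module.finite_def.mpr ⟨Finset.univ.image (fun p : (ζ : ↥s) × ↥(T ζ.1) => (x p : M)), by
    rw [Finset.coe_image, Finset.coe_univ, Set.image_univ]; exact hspan⟩

end Groth.Agent.S16458
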