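import Groth.Statements.S16459
import Mathlib
import Groth.Agent.Lib.helper8.AdicGrLib
-- import your own Groth.Agent.* helpers here

set_option autoImplicit false
universe u
open AdicGr

namespace Groth.Agent.S16459

/-- Let A be a commutative ring and I an ideal such that every I-adically Cauchy sequence in A has a
limit, and let M be an A-module with an I-filtration M = N₀ ⊇ N₁ ⊇ … (I·Nₙ ⊆ Nₙ₊₁) which is
separated, ⋂ₙ Nₙ = 0. If the associated graded module gr(M) = ⊕ₙ Nₙ/Nₙ₊₁ is a Noetherian module over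
the associated graded ring ⊕ₙ Iⁿ/Iⁿ⁺¹, then M is a Noetherian A-module and every submodule M' of M
is closed for the topology defined by the filtration, that is ⋂ₙ (M' + Nₙ) = M'. (The published
statement allows any complete filtered ring; this row takes the I-adic filtration on A.) -/
theorem result (A : Type u) [CommRing A]
    (I : Ideal A) [IsPrecomplete I A] (M : Type u) [AddCommGroup M] [Module A M] (F : I.Filtration M)
    (h0 : F.N 0 = ⊤) (hsep : ⨅ n, F.N n = ⊥)
    [IsNoetherian (AssocGr.GrRing (FiltBl.IdealFiltration.adic I)) (AssocGr.GrMod F)] :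
    IsNoetherian A M ∧ ∀ M' : Submodule A M, ⨅ n, M' ⊔ F.N n = M' := by
  classical
  have main : ∀ M' : Submodule A M, ∃ (ι : Type u) (_ : Fintype ι) (d : ι → ℕ)
      (x : (i : ι) → ↥(F.N (d i))), (∀ i, (x i : M) ∈ M') ∧
      ∀ (n : ℕ) (y : M) (hy : y ∈ F.N n), y ∈ M' →
        (AssocGr.inDegM F n ⟨y, hy⟩ : AssocGr.GrMod F) ∈
          Submodule.span (AssocGr.GrRing (FiltBl.IdealFiltration.adic I))
            (Set.range fun i => (AssocGr.inDegM F (d i) (x i) : AssocGr.GrMod F)) := by
    intro M'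
    obtain ⟨Sg, hSg⟩ : ∃ Sg : Set (AssocGr.GrMod F), ∀ ζ, ζ ∈ Sg ↔
        ∃ (n : ℕ) (y : M) (hy : y ∈ F.N n), y ∈ M' ∧
          ζ = (AssocGr.inDegM F n ⟨y, hy⟩ : AssocGr.GrMod F) :=
      ⟨{ζ | ∃ (n : ℕ) (y : M) (hy : y ∈ F.N n), y ∈ M' ∧
          ζ = (AssocGr.inDegM F n ⟨y, hy⟩ : AssocGr.GrMod F)}, fun _ => Iff.rfl⟩
    have hfg : (Submodule.span (AssocGr.GrRing (FiltBl.IdealFiltration.adic I)) Sg).FG :=
      IsNoetherian.noetherian _
    obtain ⟨s', hs'sub, hs'span⟩ := (Submodule.fg_span_iff_fg_span_finset_subset Sg).mp hfg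
    have hdata : ∀ ζ : ↥s', ∃ (n : ℕ) (y : M) (hy : y ∈ F.N n), y ∈ M' ∧
        (ζ : AssocGr.GrMod F) = (AssocGr.inDegM F n ⟨y, hy⟩ : AssocGr.GrMod F) :=
      fun ζ => (hSg _).mp (hs'sub ζ.2)
    choose dn yv hyN hyM' hζ using hdata
    refine ⟨↥s', inferInstance, dn, fun ζ => ⟨yv ζ, hyN ζ⟩, fun ζ => hyM' ζ, ?_⟩
    intro n y hy hyM
    have h1 : (AssocGr.inDegM F n ⟨y, hy⟩ : AssocGr.GrMod F) ∈
        Submodule.span (AssocGr.GrRing (FiltBl.IdealFiltration.adic I)) Sg :=
      Submodule.subset_span ((hSg _).mpr ⟨n, y, hy, hyM, rfl⟩)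
    rw [hs'span] at h1
    refine Submodule.span_mono ?_ h1
    intro ζ hζs
    exact ⟨⟨ζ, hζs⟩, (hζ ⟨ζ, hζs⟩).symm⟩
  refine ⟨isNoetherian_def.mpr fun M' => ?_, fun M' => ?_⟩
  · obtain ⟨ι, _, d, x, hxM', hsym⟩ := main M'
    have : M' = Submodule.span A (Set.range fun i => (x i : M)) := by
      apply le_antisymm
      · intro y hyM
        obtain ⟨L, -, hL⟩ := H8Adic.le_span_of_symbols F hsep d x M' hxM' hsym 0 y
          (by rw [h0]; trivial) hyM
        rw [hL]
        exact Submodule.sum_mem _ fun i _ =>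
          Submodule.smul_mem _ _ (Submodule.subset_span ⟨i, rfl⟩)
      · rw [Submodule.span_le]
        rintro _ ⟨i, rfl⟩
        exact hxM' i
    rw [this]
    exact Submodule.fg_span (Set.finite_range _)
  · obtain ⟨ι, _, d, x, hxM', hsym⟩ := main M'
    apply le_antisymm
    · intro y hy
      rw [Submodule.mem_iInf] at hy
      have hdec : ∀ n, ∃ m ∈ M', ∃ z ∈ F.N n, m + z = y := fun n => Submodule.mem_sup.mp (hy n)
      choose m hm z hz hmz using hdec
      have hw : ∀ n, m (n + 1) - m n ∈ F.N n := by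
        intro n
        have h1 : m (n + 1) + z (n + 1) = m n + z n := (hmz (n + 1)).trans (hmz n).symm
        have e : m (n + 1) - m n = z n - z (n + 1) := by
          rw [sub_eq_sub_iff_add_eq_add, h1, add_comm]
        rw [e]
        exact Submodule.sub_mem _ (hz n) (F.antitone (Nat.le_succ n) (hz (n + 1)))
      have hwM : ∀ n, m (n + 1) - m n ∈ M' := fun n => M'.sub_mem (hm _) (hm _)
      have hc : ∀ n, ∃ c : ι → A, (∀ i, c i ∈ I ^ (n - d i)) ∧
          m (n + 1) - m n = ∑ i, c i • (x i : M) := fun n =>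
        H8Adic.le_span_of_symbols F hsep d x M' hxM' hsym n _ (hw n) (hwM n)
      choose c hcI hcsum using hc
      have hC : ∀ i, ∃ C : A, ∀ n, C - ∑ k ∈ Finset.range n, c k i ∈ I ^ (n - d i) := fun i =>
        H8Adic.prec_succ_shift I (d i) (fun n => ∑ k ∈ Finset.range n, c k i) (fun n => by
          show ∑ k ∈ Finset.range (n + 1), c k i - ∑ k ∈ Finset.range n, c k i ∈ _
          rw [Finset.sum_range_succ, add_sub_cancel_left]; exact hcI n i)
      choose C hCn using hC
      have hmn : ∀ n, m n = m 0 + ∑ i, (∑ k ∈ Finset.range n, c k i) • (x i : M) := by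
        intro n
        induction n with
        | zero => simp
        | succ n ih =>
          have h1 : m (n + 1) = m n + ∑ i, c n i • (x i : M) := by rw [← hcsum n]; abel
          rw [h1, ih, add_assoc, ← Finset.sum_add_distrib]
          congr 1
          refine Finset.sum_congr rfl fun i _ => ?_
          rw [Finset.sum_range_succ, add_smul]
      have hmM : m 0 + ∑ i, C i • (x i : M) ∈ M' :=
        M'.add_mem (hm 0) (M'.sum_mem fun i _ => M'.smul_mem _ (hxM' i))
      have hz' : ∀ n, y - (m 0 + ∑ i, C i • (x i : M)) ∈ F.N n := by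
        intro n
        obtain ⟨n', hn'⟩ : ∃ n', n' = n + ∑ j, d j := ⟨_, rfl⟩
        have hnn' : n ≤ n' := by rw [hn']; exact Nat.le_add_right _ _
        have e : y - (m 0 + ∑ i, C i • (x i : M))
            = z n' - ∑ i, (C i - ∑ k ∈ Finset.range n', c k i) • (x i : M) := by
          rw [← hmz n', hmn n']
          simp only [sub_smul, Finset.sum_sub_distrib]
          abel
        rw [e]
        refine Submodule.sub_mem _ (F.antitone hnn' (hz n')) (Submodule.sum_mem _ fun i _ => ?_)
        have hdi : d i ≤ n' := by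
          rw [hn']
          exact le_trans (Finset.single_le_sum (fun j _ => Nat.zero_le (d j)) (Finset.mem_univ i))
            (Nat.le_add_left _ _)
        have h3 := F.pow_smul_le (n' - d i) (d i) (Submodule.smul_mem_smul (hCn i n') (x i).2)
        rw [Nat.sub_add_cancel hdi] at h3
        exact F.antitone hnn' h3
      have h4 : y - (m 0 + ∑ i, C i • (x i : M)) ∈ ⨅ n, F.N n := (Submodule.mem_iInf _).mpr hz'
      rw [hsep, Submodule.mem_bot, sub_eq_zero] at h4
      rw [h4]
      exact hmM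
    · exact le_iInf fun n => le_sup_left

end Groth.Agent.S16459
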