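import Groth.Statements.S16460
import Mathlib
-- import your own Groth.Agent.* helpers here

set_option autoImplicit false
universe u
open AdicGr

namespace Groth.Agent.S16460

/-- Let A be a commutative ring with a decreasing filtration by ideals A = F₀ ⊇ F₁ ⊇ F₂ ⊇ … satisfying
F_m·F_n ⊆ F_{m+n}, and assume the filtration is separated, ⋂ₙ Fₙ = 0. If the associated graded ring
⊕ₙ Fₙ/Fₙ₊₁ is an integral domain, then A is an integral domain. -/
theorem result (A : Type u) [CommRing A]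
    (𝓕 : FiltBl.IdealFiltration A) (hsep : ⨅ n, 𝓕.F n = ⊥) [IsDomain (AssocGr.GrRing 𝓕)] :
    IsDomain A := by
  classical
  have hord : ∀ a : A, a ≠ 0 → ∃ m : ℕ, a ∈ 𝓕.F m ∧ a ∉ 𝓕.F (m + 1) := by
    intro a ha
    have hex : ∃ n, a ∉ 𝓕.F n := by
      by_contra hcon
      push_neg at hcon
      have : a ∈ ⨅ n, 𝓕.F n := (Submodule.mem_iInf _).mpr hcon
      rw [hsep] at this
      exact ha ((Submodule.mem_bot A).mp this)
    have hn0 : Nat.find hex ≠ 0 := by
      intro h0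
      have := Nat.find_spec hex
      rw [h0, 𝓕.zero_eq] at this
      exact this trivial
    obtain ⟨m, hm⟩ : ∃ m, Nat.find hex = m + 1 := ⟨Nat.find hex - 1, by omega⟩
    refine ⟨m, ?_, ?_⟩
    · by_contra h
      have := Nat.find_min' hex h
      omega
    · rw [← hm]; exact Nat.find_spec hex
  have hnt : Nontrivial A := by
    by_contra h
    rw [not_nontrivial_iff_subsingleton] at h
    have : (1 : AssocGr.GrRing 𝓕) = 0 := by
      rw [← map_one (algebraMap A (AssocGr.GrRing 𝓕)), Subsingleton.elim (1 : A) 0, map_zero]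
    exact one_ne_zero this
  have hnzd : NoZeroDivisors A := by
    refine ⟨fun {a b} hab => ?_⟩
    by_contra hcon
    push_neg at hcon
    obtain ⟨ha, hb⟩ := hcon
    obtain ⟨m, ham, ham'⟩ := hord a ha
    obtain ⟨n, hbn, hbn'⟩ := hord b hb
    have h1 : AssocGr.inDeg 𝓕 m ⟨a, ham⟩ ≠ 0 := fun h =>
      ham' ((AssocGr.inDeg_eq_zero_iff 𝓕 m _).mp h)
    have h2 : AssocGr.inDeg 𝓕 n ⟨b, hbn⟩ ≠ 0 := fun h =>
      hbn' ((AssocGr.inDeg_eq_zero_iff 𝓕 n _).mp h)
    have h3 := AssocGr.coe_inDeg_mul 𝓕 m n ⟨a, ham⟩ ⟨b, hbn⟩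
    rw [(AssocGr.inDeg_eq_zero_iff 𝓕 (m + n) _).mpr ?_, Submodule.coe_zero] at h3
    · rcases mul_eq_zero.mp h3 with h | h
      · exact h1 (Submodule.coe_eq_zero.mp h)
      · exact h2 (Submodule.coe_eq_zero.mp h)
    · show a * b ∈ _
      rw [hab]
      exact Ideal.zero_mem _
  exact NoZeroDivisors.to_isDomain A

end Groth.Agent.S16460
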