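import Groth.Statements.S16500
import Mathlib
-- import your own Groth.Agent.* helpers here

set_option autoImplicit false
universe u
open Curves

namespace Groth.Agent.S16500

/-- Let k be a field of odd characteristic p, g ≤ p a natural number and f ∈ k[x] of degree at most 2g +
2. Let F be f with its coefficients reversed in degrees 0, …, 2g + 2, i.e. F(X) = X^(2g+2) f(1/X)
(Mathlib's reflect (2g+2) f), and write f^((p-1)/2) = Σ_l c_l x^l and F^((p-1)/2) = Σ_l C_l X^l.
Then C_{ip-j} = c_{(g+1-i)p-(g+1-j)} for all i, j = 1, …, g; that is, the g × g Cartier–Manin matrix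
of F is that of f with the order of both rows and columns reversed (below the indices run over Fin
g, the entry at (i, j) being the coefficient of degree (i+1)p-(j+1), and reversal is Fin.rev). In
particular the two matrices have the same determinant. (The source applies this to f with f(0) = 0,
separable of degree 2g + 2 over a perfect field, so that F has odd degree 2g + 1; the identity uses
none of that.) -/
theorem result (k : Type u) [Field k] (p : ℕ) [Fact p.Prime] (hp : p ≠ 2) [CharP k p]
    (g : ℕ) (hg : g ≤ p) (f : Polynomial k) (hf : f.natDegree ≤ 2 * g + 2) :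
    (Matrix.of fun i j : Fin g =>
        ((Polynomial.reflect (2 * g + 2) f) ^ ((p - 1) / 2)).coeff (((i : ℕ) + 1) * p - ((j : ℕ) + 1))) =
      Matrix.of fun i j : Fin g =>
        (f ^ ((p - 1) / 2)).coeff (((Fin.rev i : ℕ) + 1) * p - ((Fin.rev j : ℕ) + 1)) := by
  have hp2 : p % 2 = 1 := (Fact.out : p.Prime).eq_two_or_odd.resolve_left hp
  obtain ⟨m, hm⟩ : ∃ m, (p - 1) / 2 = m := ⟨_, rfl⟩
  have hpm : p = 2 * m + 1 := by omega
  have hpow : ∀ n : ℕ, (Polynomial.reflect (2 * g + 2) f) ^ n
      = Polynomial.reflect ((2 * g + 2) * n) (f ^ n) := by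
    intro n
    induction n with
    | zero => simp
    | succ n ih =>
      rw [pow_succ, ih, pow_succ, Nat.mul_succ]
      exact (Polynomial.reflect_mul _ _ (by
        calc (f ^ n).natDegree ≤ n * f.natDegree := Polynomial.natDegree_pow_le
          _ ≤ n * (2 * g + 2) := Nat.mul_le_mul_left _ hf
          _ = (2 * g + 2) * n := Nat.mul_comm _ _) hf).symm
  ext i j
  simp only [Matrix.of_apply]
  rw [hm, hpow, Polynomial.coeff_reflect]
  congr 1
  have hi := i.isLt
  have hj := j.isLt
  rw [Fin.val_rev, Fin.val_rev]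
  obtain ⟨e, he⟩ : ∃ e, g = e + (i : ℕ) + 1 := ⟨g - i - 1, by omega⟩
  have e1 : ((i : ℕ) + 1) * p = 2 * ((i : ℕ) * m) + i + 2 * m + 1 := by rw [hpm]; ring
  have e2 : (2 * g + 2) * m = 2 * (e * m) + 2 * ((i : ℕ) * m) + 4 * m := by
    calc (2 * g + 2) * m = (2 * (e + (i : ℕ) + 1) + 2) * m := by conv_lhs => rw [he]
      _ = 2 * (e * m) + 2 * ((i : ℕ) * m) + 4 * m := by ring
  have e3 : (g - ((i : ℕ) + 1) + 1) * p = 2 * (e * m) + e + 2 * m + 1 := by
    have : g - ((i : ℕ) + 1) + 1 = e + 1 := by omega
    rw [this, hpm]; ring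
  have hle : ((i : ℕ) + 1) * p - ((j : ℕ) + 1) ≤ (2 * g + 2) * m := by
    rw [e1, e2]; omega
  rw [Polynomial.revAt_le hle, e1, e2, e3]
  omega

end Groth.Agent.S16500
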