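import Groth.Statements.S16515
import Mathlib
import Groth.Agent.Lib.helper8.HomogBin

set_option autoImplicit false
universe u
open RatCurv

namespace Groth.Agent.S16515

/-- If C ⊂ P^n is a rational normal curve and P ⊂ P^n a linear r-plane with (r + 2) k ≥ (r + 1)(n + 1),
then P is contained in a k-secant (k − 1)-plane of C, i.e. in the span of some effective divisor of
degree k on C. Stated through the identification of the linear forms on P^n with the binary forms of
degree n on C ≅ P^1: the r-plane P is recorded by the space U of degree-n binary forms vanishing on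
it (of codimension r + 1), an effective divisor of degree k on C by a nonzero binary form g of
degree k, and P ⊂ span(div g) says that every degree-n form divisible by g lies in U. Here k ≤ n,
and the ground field is arbitrary (the source works over the complex numbers). -/
theorem result (K : Type u) [Field K] (n r k : ℕ)
    (hkn : k ≤ n) (hineq : (r + 1) * (n + 1) ≤ (r + 2) * k)
    (U : Submodule K (MvPolynomial (Fin 2) K))
    (hU : U ≤ MvPolynomial.homogeneousSubmodule (Fin 2) K n)
    (hcodim : Module.finrank K ↥U + (r + 1) = n + 1) :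
    ∃ g ∈ MvPolynomial.homogeneousSubmodule (Fin 2) K k, g ≠ 0 ∧
      ∀ h ∈ MvPolynomial.homogeneousSubmodule (Fin 2) K (n - k), g * h ∈ U := by
  have hkn' : k + (n - k) = n := Nat.add_sub_cancel' hkn
  obtain ⟨U', hU'def⟩ : ∃ U' : Submodule K (H8HB.H K n),
      U' = U.comap (H8HB.H K n).subtype := ⟨_, rfl⟩
  have hU'mem : ∀ x : H8HB.H K n, x ∈ U' ↔ x.1 ∈ U := by
    intro x; rw [hU'def]; rfl
  have hfinU' : Module.finrank K U' = Module.finrank K U := by
    rw [hU'def]; exact (Submodule.comapSubtypeEquivOfLe hU).finrank_eq
  have hQ : Module.finrank K (H8HB.H K n ⧸ U') = r + 1 := by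
    have := Submodule.finrank_quotient_add_finrank U'
    rw [H8HB.finrank_H, hfinU'] at this
    omega
  have hlt : Module.finrank K (H8HB.H K (n - k) →ₗ[K] (H8HB.H K n ⧸ U')) <
      Module.finrank K (H8HB.H K k) := by
    rw [Module.finrank_linearMap, H8HB.finrank_H, H8HB.finrank_H, hQ]
    exact H8HB.arith n r k hkn hineq
  have hker := LinearMap.ker_ne_bot_of_finrank_lt (f := H8HB.mulQ K k (n-k) n hkn' U') hlt
  obtain ⟨g, hg, hg0⟩ := (Submodule.ne_bot_iff _).mp hker
  refine ⟨g.1, g.2, fun h => hg0 (Subtype.ext h), ?_⟩
  intro h hh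
  have := LinearMap.congr_fun (LinearMap.mem_ker.mp hg) ⟨h, hh⟩
  rw [H8HB.mulQ_apply, LinearMap.zero_apply, Submodule.Quotient.mk_eq_zero, hU'mem] at this
  exact this

end Groth.Agent.S16515
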