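import Groth.Statements.S16516
import Mathlib
import Groth.Agent.Lib.helper8.HomogBin

set_option autoImplicit false
universe u
open RatCurv

namespace Groth.Agent.S16516

/-- A smooth nondegenerate rational quintic curve C ⊂ P^4 has exactly one 3-secant line. Stated for C
given as the image of P^1 under a 5-dimensional linear series V of binary quintic forms which
separates every length-2 subscheme of P^1 (for every nonzero quadratic form e the forms of V
together with the multiples of e span all quintic forms), so that P^1 → P(V^*) = P^4 is a closed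
embedding with nondegenerate image; the linear forms on P^4 are the elements of V, a line L ⊂ P^4 is
recorded by the 3-dimensional space of linear forms vanishing on it, and L ∩ C has length at least 3
exactly when that space consists of the multiples g · K[s,t]_2 of a cubic form g. The conclusion: a
nonzero cubic g with g · K[s,t]_2 ⊆ V exists and is unique up to a scalar. (That such a line meets C
in length exactly 3, i.e. is not 4-secant, is immediate in this description and is not restated; the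
ground field is algebraically closed of characteristic zero in place of the complex numbers.) -/
theorem result (K : Type u) [Field K] [IsAlgClosed K]
    [CharZero K] (V : Submodule K (MvPolynomial (Fin 2) K))
    (hV : V ≤ MvPolynomial.homogeneousSubmodule (Fin 2) K 5) (hdim : Module.finrank K ↥V = 5)
    (hsep : ∀ e ∈ MvPolynomial.homogeneousSubmodule (Fin 2) K 2, e ≠ 0 →
      ∀ F ∈ MvPolynomial.homogeneousSubmodule (Fin 2) K 5, ∃ v ∈ V,
        ∃ h ∈ MvPolynomial.homogeneousSubmodule (Fin 2) K 3, F = v + e * h) :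
    ∃ g ∈ MvPolynomial.homogeneousSubmodule (Fin 2) K 3, g ≠ 0 ∧
      (∀ h ∈ MvPolynomial.homogeneousSubmodule (Fin 2) K 2, g * h ∈ V) ∧
      ∀ g' ∈ MvPolynomial.homogeneousSubmodule (Fin 2) K 3,
        (∀ h ∈ MvPolynomial.homogeneousSubmodule (Fin 2) K 2, g' * h ∈ V) → ∃ c : K, g' = c • g := by
  obtain ⟨V', hV'def⟩ : ∃ V' : Submodule K (H8HB.H K 5),
      V' = V.comap (H8HB.H K 5).subtype := ⟨_, rfl⟩
  have hV'mem : ∀ x : H8HB.H K 5, x ∈ V' ↔ x.1 ∈ V := by
    intro x; rw [hV'def]; rfl
  have hfinV' : Module.finrank K V' = 5 := by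
    rw [hV'def, (Submodule.comapSubtypeEquivOfLe hV).finrank_eq, hdim]
  have hQ : Module.finrank K (H8HB.H K 5 ⧸ V') = 1 := by
    have := Submodule.finrank_quotient_add_finrank V'
    rw [H8HB.finrank_H, hfinV'] at this
    omega
  obtain ⟨B, hBdef⟩ : ∃ B : H8HB.H K 3 →ₗ[K] H8HB.H K 2 →ₗ[K] (H8HB.H K 5 ⧸ V'),
      B = H8HB.mulQ K 3 2 5 rfl V' := ⟨_, rfl⟩
  have hBz : ∀ (g : H8HB.H K 3) (h : H8HB.H K 2), B g h = 0 ↔ g.1 * h.1 ∈ V := by
    intro g h
    rw [hBdef, H8HB.mulQ_apply, Submodule.Quotient.mk_eq_zero, hV'mem]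
  have hker : ∀ g : H8HB.H K 3, g ∈ LinearMap.ker B ↔ ∀ h ∈ H8HB.H K 2, g.1 * h ∈ V := by
    intro g
    rw [LinearMap.mem_ker]
    constructor
    · intro hg h hh
      have := LinearMap.congr_fun hg ⟨h, hh⟩
      rw [LinearMap.zero_apply, hBz] at this
      exact this
    · intro hg
      apply LinearMap.ext
      intro h
      rw [LinearMap.zero_apply, hBz]
      exact hg h.1 h.2
  have hlt : Module.finrank K (H8HB.H K 2 →ₗ[K] (H8HB.H K 5 ⧸ V')) <
      Module.finrank K (H8HB.H K 3) := by
    rw [Module.finrank_linearMap, H8HB.finrank_H, H8HB.finrank_H, hQ]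
    norm_num
  have hne := LinearMap.ker_ne_bot_of_finrank_lt (f := B) hlt
  have hflip : ∀ e : H8HB.H K 2, (∀ g : H8HB.H K 3, B g e = 0) → e = 0 := by
    intro e he
    by_contra hne0
    have he1 : e.1 ≠ 0 := fun h => hne0 (Subtype.ext h)
    have hall : H8HB.H K 5 ≤ V := by
      intro F hF
      obtain ⟨v, hv, h, hh, rfl⟩ := hsep e.1 e.2 he1 F hF
      apply V.add_mem hv
      have := (hBz ⟨h, hh⟩ e).mp (he ⟨h, hh⟩)
      rw [mul_comm]; exact this
    have hEq : V = H8HB.H K 5 := le_antisymm hV hall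
    have : Module.finrank K V = 6 := by rw [hEq]; exact H8HB.finrank_H K 5
    omega
  obtain ⟨C, hC⟩ := Submodule.exists_isCompl (LinearMap.ker B)
  have hdimC : Module.finrank K (LinearMap.ker B) + Module.finrank K C = 4 := by
    rw [Submodule.finrank_add_eq_of_isCompl hC, H8HB.finrank_H]
  obtain ⟨Ψ, hΨ⟩ : ∃ Ψ : H8HB.H K 2 →ₗ[K] (C →ₗ[K] (H8HB.H K 5 ⧸ V')),
      ∀ e (c : C), Ψ e c = B c.1 e :=
    ⟨(LinearMap.lcomp K _ C.subtype) ∘ₗ B.flip, fun e c => rfl⟩
  have hΨinj : Function.Injective Ψ := by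
    rw [← LinearMap.ker_eq_bot, LinearMap.ker_eq_bot']
    intro e he
    apply hflip
    intro g
    have hg : g ∈ LinearMap.ker B ⊔ C := by rw [hC.sup_eq_top]; exact Submodule.mem_top
    obtain ⟨l, hl, c, hc, rfl⟩ := Submodule.mem_sup.mp hg
    rw [map_add, LinearMap.add_apply]
    have h1 : B l e = 0 := by rw [LinearMap.mem_ker.mp hl]; rfl
    have h2 : B c e = 0 := by
      have := LinearMap.congr_fun he ⟨c, hc⟩
      rw [hΨ] at this
      exact this
    rw [h1, h2, add_zero]
  have hle := LinearMap.finrank_le_finrank_of_injective hΨinj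
  haveI : Module.Free K C := Module.Free.of_divisionRing K C
  have hfr : Module.finrank K (C →ₗ[K] (H8HB.H K 5 ⧸ V')) =
      Module.finrank K C * Module.finrank K (H8HB.H K 5 ⧸ V') :=
    Module.finrank_linearMap K K C _
  rw [hfr, H8HB.finrank_H, hQ, mul_one] at hle
  have hL1 : Module.finrank K (LinearMap.ker B) = 1 := by
    have : 1 ≤ Module.finrank K (LinearMap.ker B) := Submodule.one_le_finrank_iff.mpr hne
    omega
  obtain ⟨g, hg, hg0⟩ := (Submodule.ne_bot_iff _).mp hne
  refine ⟨g.1, g.2, fun h => hg0 (Subtype.ext h), (hker g).mp hg, ?_⟩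
  intro g' hg' hprop
  have hg'ker : (⟨g', hg'⟩ : H8HB.H K 3) ∈ LinearMap.ker B := (hker _).mpr hprop
  have hnz : (⟨g, hg⟩ : LinearMap.ker B) ≠ 0 := fun h => hg0 (congrArg Subtype.val h)
  obtain ⟨c, hc⟩ := (finrank_eq_one_iff_of_nonzero' (⟨g, hg⟩ : LinearMap.ker B) hnz).mp hL1
    ⟨⟨g', hg'⟩, hg'ker⟩
  refine ⟨c, ?_⟩
  have := congrArg (fun x : LinearMap.ker B => (x.1.1 : MvPolynomial (Fin 2) K)) hc
  exact this.symm

end Groth.Agent.S16516
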