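import Groth.Statements.S16519
import Mathlib
-- import your own Groth.Agent.* helpers here

set_option autoImplicit false
open CubicSurf

namespace Groth.Agent.S16519

set_option maxRecDepth 100000 in
set_option maxHeartbeats 1000000 in
/-- On a smooth cubic surface there are exactly 72 divisor classes L with L² = 1 and L · K = −3. Stated
in the lattice ℤ^{1,6} with basis l, e_1, …, e_6 (l² = 1, e_i² = −1, K = −3l + Σ e_i): the integer
vectors (a, b) ∈ ℤ × ℤ^6, standing for a·l − Σ b_i e_i, with 3a − Σ b_i = 3 and a² − Σ b_i² = 1 form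
a set of exactly 72 elements. -/
theorem result :
    {p : ℤ × (Fin 6 → ℤ) | 3 * p.1 - (Finset.univ.sum fun i => p.2 i) = 3 ∧
        p.1 ^ 2 - (Finset.univ.sum fun i => p.2 i ^ 2) = 1}.ncard = 72 := by
  have key : ∀ a x : ℤ, 1 ≤ a → a ≤ 5 → (2 * x - (a - 1)) ^ 2 ≤ 2 * (a - 1) * (5 - a) →
      0 ≤ x ∧ x ≤ 2 := by
    intro a x h1 h5 h
    interval_cases a <;> constructor <;> nlinarith
  have hset : {p : ℤ × (Fin 6 → ℤ) | 3 * p.1 - (Finset.univ.sum fun i => p.2 i) = 3 ∧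
        p.1 ^ 2 - (Finset.univ.sum fun i => p.2 i ^ 2) = 1} =
      ↑((Finset.Icc (1:ℤ) 5 ×ˢ Fintype.piFinset (fun _ : Fin 6 => Finset.Icc (0:ℤ) 2)).filter
        (fun p => 3 * p.1 - (Finset.univ.sum fun i => p.2 i) = 3 ∧
          p.1 ^ 2 - (Finset.univ.sum fun i => p.2 i ^ 2) = 1)) := by
    ext p
    obtain ⟨a, b⟩ := p
    simp only [Set.mem_setOf_eq, Finset.coe_filter, Finset.mem_product, Finset.mem_Icc,
      Fintype.mem_piFinset]
    constructor
    · rintro ⟨h1, h2⟩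
      refine ⟨?_, h1, h2⟩
      rw [Fin.sum_univ_six] at h1 h2
      have hid : (2 * b 0 - (a - 1)) ^ 2 + (2 * b 1 - (a - 1)) ^ 2 + (2 * b 2 - (a - 1)) ^ 2 +
          (2 * b 3 - (a - 1)) ^ 2 + (2 * b 4 - (a - 1)) ^ 2 + (2 * b 5 - (a - 1)) ^ 2 =
          2 * (a - 1) * (5 - a) := by
        have e : (2 * b 0 - (a - 1)) ^ 2 + (2 * b 1 - (a - 1)) ^ 2 + (2 * b 2 - (a - 1)) ^ 2 +
          (2 * b 3 - (a - 1)) ^ 2 + (2 * b 4 - (a - 1)) ^ 2 + (2 * b 5 - (a - 1)) ^ 2 =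
          4 * (b 0 ^ 2 + b 1 ^ 2 + b 2 ^ 2 + b 3 ^ 2 + b 4 ^ 2 + b 5 ^ 2) -
            4 * (a - 1) * (b 0 + b 1 + b 2 + b 3 + b 4 + b 5) + 6 * (a - 1) ^ 2 := by ring
        have hS : b 0 + b 1 + b 2 + b 3 + b 4 + b 5 = 3 * a - 3 := by linarith
        have hT : b 0 ^ 2 + b 1 ^ 2 + b 2 ^ 2 + b 3 ^ 2 + b 4 ^ 2 + b 5 ^ 2 = a ^ 2 - 1 := by
          linarith
        rw [e, hS, hT]
        ring
      have hprod : (a - 1) * (a - 5) ≤ 0 := by
        nlinarith [sq_nonneg (2 * b 0 - (a - 1)), sq_nonneg (2 * b 1 - (a - 1)),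
          sq_nonneg (2 * b 2 - (a - 1)), sq_nonneg (2 * b 3 - (a - 1)),
          sq_nonneg (2 * b 4 - (a - 1)), sq_nonneg (2 * b 5 - (a - 1))]
      have ha1 : 1 ≤ a := by
        by_contra hlt
        push_neg at hlt
        have : 0 < (a - 1) * (a - 5) := mul_pos_of_neg_of_neg (by linarith) (by linarith)
        linarith
      have ha5 : a ≤ 5 := by
        by_contra hlt
        push_neg at hlt
        have : 0 < (a - 1) * (a - 5) := mul_pos (by linarith) (by linarith)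
        linarith
      refine ⟨⟨ha1, ha5⟩, ?_⟩
      intro i
      have hsum : ∑ j, (2 * b j - (a - 1)) ^ 2 = 2 * (a - 1) * (5 - a) := by
        rw [Fin.sum_univ_six]
        exact hid
      have hb : ∀ j : Fin 6, (2 * b j - (a - 1)) ^ 2 ≤ 2 * (a - 1) * (5 - a) := by
        intro j
        rw [← hsum]
        exact Finset.single_le_sum (f := fun j => (2 * b j - (a - 1)) ^ 2)
          (fun j _ => sq_nonneg _) (Finset.mem_univ j)
      exact key a (b i) ha1 ha5 (hb i)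
    · rintro ⟨_, h1, h2⟩
      exact ⟨h1, h2⟩
  rw [hset, Set.ncard_coe_finset]
  decide

end Groth.Agent.S16519
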