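import Groth.Statements.S16542
import Mathlib

set_option autoImplicit false
universe u v
open Disp

namespace Groth.Agent.S16542

open TensorProduct in
theorem tmul_one_injective {W S R : Type*} [CommRing W] [CommRing S] [CommRing R] [Algebra S R]
    [Module.FaithfullyFlat S R] (w0 : W →+* S) (hw0 : Function.Surjective w0)
    (g : W →+* R) (hg : ∀ w, g w = algebraMap S R (w0 w))
    (M : Type*) [AddCommGroup M] [Module W M] (hker : ∀ w : W, w0 w = 0 → ∀ m : M, w • m = 0)
    (m : M) (hm : Dieu.BC.tmul g 1 m = 0) : m = 0 := by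
  classical
  have hstar : ∀ (w w' : W), w0 w = w0 w' → ∀ m : M, w • m = w' • m := by
    intro w w' h m
    have : (w - w') • m = 0 := hker _ (by rw [map_sub, h, sub_self]) m
    rw [sub_smul, sub_eq_zero] at this
    exact this
  have hs : ∀ s : S, w0 (Function.surjInv hw0 s) = s := Function.surjInv_eq hw0
  letI instMod : Module S M :=
    { smul := fun s m => (Function.surjInv hw0 s) • m
      one_smul := fun m => by
        show Function.surjInv hw0 (1:S) • m = m
        rw [hstar _ 1 (by rw [hs, map_one]) m, one_smul]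
      mul_smul := fun s s' m => by
        show Function.surjInv hw0 (s * s') • m =
          Function.surjInv hw0 s • (Function.surjInv hw0 s' • m)
        rw [← mul_smul]
        exact hstar _ _ (by rw [hs, map_mul, hs, hs]) m
      smul_zero := fun s => smul_zero _
      smul_add := fun s a b => smul_add _ a b
      add_smul := fun s s' m => by
        show Function.surjInv hw0 (s + s') • m =
          Function.surjInv hw0 s • m + Function.surjInv hw0 s' • m
        rw [← add_smul]
        exact hstar _ _ (by rw [hs, map_add, hs, hs]) m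
      zero_smul := fun m => by
        show Function.surjInv hw0 (0:S) • m = 0
        rw [hstar _ 0 (by rw [hs, map_zero]) m, zero_smul] }
  have hcompat : ∀ (w : W) (m : M), (w0 w) • m = w • m := by
    intro w m
    show Function.surjInv hw0 (w0 w) • m = w • m
    exact hstar _ _ (hs _) m
  let ψ : M →ₛₗ[g] (R ⊗[S] M) :=
    { toFun := fun m => (1 : R) ⊗ₜ[S] m
      map_add' := fun a b => TensorProduct.tmul_add _ _ _
      map_smul' := fun w m => by
        show (1 : R) ⊗ₜ[S] (w • m) = g w • ((1 : R) ⊗ₜ[S] m)
        rw [TensorProduct.smul_tmul', smul_eq_mul, mul_one, hg w, Algebra.algebraMap_eq_smul_one,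
          TensorProduct.smul_tmul, hcompat] }
  have h1 : Dieu.BC.lift g ψ (Dieu.BC.tmul g 1 m) = (1 : R) ⊗ₜ[S] m := by
    rw [Dieu.BC.lift_tmul, one_smul]; rfl
  rw [hm, map_zero] at h1
  have h2 : TensorProduct.mk S R M 1 m = TensorProduct.mk S R M 1 0 := by
    rw [map_zero]; exact h1.symm
  exact Module.FaithfullyFlat.tensorProduct_mk_injective (A := S) (B := R) M h2

/-- Let p be a prime, S → R a faithfully flat homomorphism of commutative rings with p nilpotent in S,
(P, Q, F, V⁻¹) a display over S, and (P_R, Q_R, F_R, V_R⁻¹) a 3n-display structure on P_R = W(R)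
⊗_{W(S)} P which is its base change along S → R (Q_R the kernel of P_R → R ⊗_S (P/Q), F_R(w ⊗ x) =
σ(w) ⊗ F x, V_R⁻¹(w ⊗ y) = σ(w) ⊗ V⁻¹ y for y ∈ Q, V_R⁻¹(V(w) ⊗ x) = w ⊗ F x). Then for x ∈ P one
has x ∈ Q if and only if 1 ⊗ x ∈ Q_R: together with the exactness of 0 → P → P_R ⇉ P_{R ⊗ R} this is
the exactness of 0 → Q → Q_R ⇉ Q_{R ⊗ R} at Q. -/
theorem result (p : ℕ) [Fact p.Prime]
    (S R : Type u) [CommRing S] [CommRing R] [Algebra S R] [Module.FaithfullyFlat S R] (hp : IsNilpotent (p : S))
    (P : Type v) [AddCommGroup P] [Module (WittVector p S) P] (D : W4c1extbt610.Display3n p S P)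
    (hD : Dieu.IsDisplay D)
    (DR : W4c1extbt610.Display3n p R (Dieu.BC (WittVector.map (algebraMap S R) : WittVector p S →+* WittVector p R) P))
    (hDR : Dieu.IsDispBaseChange (algebraMap S R) D DR) (x : P) :
    x ∈ D.Q ↔ Dieu.BC.ι (WittVector.map (algebraMap S R) : WittVector p S →+* WittVector p R) P x ∈ DR.Q := by
  have hQ := hDR.Q_eq
  have hsurj : Function.Surjective (WittVector.constantCoeff : WittVector p S →+* S) :=
    fun s => ⟨WittVector.teichmuller p s, WittVector.teichmuller_coeff_zero p s⟩
  have hker : ∀ w : WittVector p S, WittVector.constantCoeff w = 0 →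
      ∀ m : P ⧸ D.Q, w • m = 0 := by
    intro w hw m
    obtain ⟨y, rfl⟩ := Submodule.Quotient.mk_surjective _ m
    rw [← Submodule.Quotient.mk_smul, Submodule.Quotient.mk_eq_zero]
    apply D.IV_smul_le
    apply Submodule.smul_mem_smul _ Submodule.mem_top
    have hwv : w = WittVector.verschiebung (w.shift 1) := by
      have := WittVector.eq_iterate_verschiebung (x := w) (n := 1)
        (by intro i hi; obtain rfl : i = 0 := by omega
            exact hw)
      simpa using this
    rw [hwv]; exact W4c1extbt610.verschiebung_mem_IV p S _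
  constructor
  · intro hx
    rw [hQ, LinearMap.mem_ker, Dieu.BC.ι_apply, Dieu.bcQuotMap_tmul]
    have : D.Q.mkQ x = 0 := (Submodule.Quotient.mk_eq_zero _).mpr hx
    rw [this, Dieu.BC.tmul_zero]
  · intro hx
    rw [hQ, LinearMap.mem_ker, Dieu.BC.ι_apply, Dieu.bcQuotMap_tmul, map_one] at hx
    have := tmul_one_injective (WittVector.constantCoeff : WittVector p S →+* S) hsurj _
      (fun w => rfl) (P ⧸ D.Q) hker (D.Q.mkQ x) hx
    exact (Submodule.Quotient.mk_eq_zero _).mp this

end Groth.Agent.S16542
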