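import Groth.Statements.S16572
import Mathlib

set_option autoImplicit false
universe u
open CAlg

namespace Groth.Agent.S16572

section Aux
open Polynomial

theorem lemG {A T : Type u} [CommRing A] [CommRing T] [Algebra A T]
    (H1 : ∀ P : A[X], P.Monic → 0 < P.natDegree → ∃ t : T, Polynomial.aeval t P = 0)
    (H2 : ∀ t : T, IsIntegral A t) (p : Ideal A) [p.IsPrime] (Q : Ideal T) [Q.IsPrime]
    (hp : p = Q.comap (algebraMap A T)) :
    IsAlgClosed Q.ResidueField ∧
      (Ideal.ResidueField.map p Q (algebraMap A T) hp).IsIntegral := by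
  set σ := Ideal.ResidueField.map p Q (algebraMap A T) hp with hσ
  letI : Algebra p.ResidueField Q.ResidueField := σ.toAlgebra
  have hσalg : algebraMap p.ResidueField Q.ResidueField = σ := rfl
  have hcomm : ∀ a : A, σ (algebraMap A p.ResidueField a) =
      algebraMap T Q.ResidueField (algebraMap A T a) :=
    fun a => Ideal.ResidueField.map_algebraMap p Q (algebraMap A T) hp a
  have hev : ∀ (P : A[X]) (t : T), Polynomial.eval₂ σ (algebraMap T Q.ResidueField t)
      (P.map (algebraMap A p.ResidueField)) =
        algebraMap T Q.ResidueField (Polynomial.aeval t P) := by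
    intro P t
    rw [Polynomial.eval₂_map, Polynomial.aeval_def, Polynomial.hom_eval₂]
    congr 1
    exact RingHom.ext hcomm
  have hintT : ∀ t : T, IsIntegral p.ResidueField (algebraMap T Q.ResidueField t) := by
    intro t
    obtain ⟨P, hP, hPt⟩ := H2 t
    refine ⟨P.map (algebraMap A p.ResidueField), hP.map _, ?_⟩
    rw [hσalg, hev, Polynomial.aeval_def, hPt, map_zero]
  have hint : ∀ x : Q.ResidueField, IsIntegral p.ResidueField x := by
    intro x
    obtain ⟨a, b, _, rfl⟩ := IsFractionRing.div_surjective (T ⧸ Q) x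
    obtain ⟨a, rfl⟩ := Ideal.Quotient.mk_surjective a
    obtain ⟨b, rfl⟩ := Ideal.Quotient.mk_surjective b
    rw [Ideal.algebraMap_quotient_residueField_mk, Ideal.algebraMap_quotient_residueField_mk,
      div_eq_mul_inv]
    exact (hintT a).mul (hintT b).inv
  haveI : Algebra.IsAlgebraic p.ResidueField Q.ResidueField :=
    ⟨fun x => (hint x).isAlgebraic⟩
  have hroot : ∀ f : (p.ResidueField)[X], f.Monic → Irreducible f →
      ∃ x : Q.ResidueField, Polynomial.aeval x f = 0 := by
    intro f hf hirr
    have hd : 0 < f.natDegree :=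
      Polynomial.natDegree_pos_iff_degree_pos.2 (Polynomial.degree_pos_of_irreducible hirr)
    obtain ⟨b, hb⟩ := IsLocalization.exist_integer_multiples_of_finset
      (nonZeroDivisors (A ⧸ p)) f.coeffs
    obtain ⟨b, hbmem⟩ := b
    obtain ⟨s, rfl⟩ := Ideal.Quotient.mk_surjective b
    obtain ⟨β, hβ⟩ : ∃ β : p.ResidueField, β = algebraMap A p.ResidueField s := ⟨_, rfl⟩
    have hβ0 : β ≠ 0 := by
      have := map_ne_zero_of_mem_nonZeroDivisors (algebraMap (A ⧸ p) p.ResidueField)
        (IsFractionRing.injective (A ⧸ p) p.ResidueField) hbmem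
      rwa [Ideal.algebraMap_quotient_residueField_mk, ← hβ] at this
    have hcoef : ∀ c ∈ f.coeffs, ∃ a : A, algebraMap A p.ResidueField a = β * c := by
      intro c hc
      obtain ⟨c', hc'⟩ := hb c hc
      obtain ⟨a, rfl⟩ := Ideal.Quotient.mk_surjective c'
      refine ⟨a, ?_⟩
      have hc'' : algebraMap (A ⧸ p) p.ResidueField (Ideal.Quotient.mk p a) =
          algebraMap (A ⧸ p) p.ResidueField (Ideal.Quotient.mk p s) * c := by
        rw [hc', Algebra.smul_def]
      rw [Ideal.algebraMap_quotient_residueField_mk, Ideal.algebraMap_quotient_residueField_mk,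
        ← hβ] at hc''
      exact hc''
    have hlift : (Polynomial.scaleRoots f β) ∈ Polynomial.lifts (algebraMap A p.ResidueField) := by
      rw [Polynomial.lifts_iff_coeff_lifts]
      intro i
      rw [Polynomial.coeff_scaleRoots]
      by_cases hi0 : f.coeff i = 0
      · exact ⟨0, by rw [hi0, zero_mul, map_zero]⟩
      · have hile : i ≤ f.natDegree := Polynomial.le_natDegree_of_ne_zero hi0
        rcases hile.eq_or_lt with hid | hilt
        · refine ⟨1, ?_⟩
          rw [hid, Polynomial.Monic.coeff_natDegree hf, Nat.sub_self, pow_zero, mul_one, map_one]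
        · obtain ⟨a, ha⟩ := hcoef (f.coeff i) (Polynomial.coeff_mem_coeffs hi0)
          obtain ⟨k, hk⟩ : ∃ k, f.natDegree - i = k + 1 := ⟨f.natDegree - i - 1, by omega⟩
          refine ⟨a * s ^ k, ?_⟩
          rw [hk, map_mul, map_pow, ha, ← hβ, pow_succ]
          ring
    obtain ⟨P, hPmap, hPdeg, hPmonic⟩ := Polynomial.lifts_and_natDegree_eq_and_monic hlift
      ((Polynomial.monic_scaleRoots_iff β).2 hf)
    rw [Polynomial.natDegree_scaleRoots] at hPdeg
    obtain ⟨t, ht⟩ := H1 P hPmonic (by rw [hPdeg]; exact hd)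
    have hy : Polynomial.eval₂ σ (algebraMap T Q.ResidueField t) (Polynomial.scaleRoots f β) = 0 := by
      rw [← hPmap, hev, ht, map_zero]
    refine ⟨algebraMap T Q.ResidueField t / σ β, ?_⟩
    have hσβ : σ β ≠ 0 := (map_ne_zero σ).2 hβ0
    have key := Polynomial.scaleRoots_eval₂_mul (p := f) σ (algebraMap T Q.ResidueField t / σ β) β
    have e : σ β * (algebraMap T Q.ResidueField t / σ β) = algebraMap T Q.ResidueField t := by
      rw [mul_comm, div_mul_cancel₀ _ hσβ]
    rw [e, hy] at key
    rw [Polynomial.aeval_def, hσalg]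
    exact (mul_eq_zero.1 key.symm).resolve_left (pow_ne_zero _ hσβ)
  have hcl : IsAlgClosure p.ResidueField Q.ResidueField := IsAlgClosure.of_exists_root hroot
  exact ⟨hcl.isAlgClosed, fun x => hint x⟩

/-- index type -/
abbrev Idx (A : Type u) [CommRing A] := {P : Polynomial A // P.Monic ∧ 0 < P.natDegree}

/-- the ring -/
abbrev TT (A : Type u) [CommRing A] := MvPolynomial (Idx A) A ⧸
  Ideal.span (Set.range fun P : Idx A => Polynomial.aeval (MvPolynomial.X (R := A) P) P.1)

theorem hrootX (A : Type u) [CommRing A] (i : Idx A) :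
    Polynomial.aeval (Ideal.Quotient.mk (Ideal.span (Set.range fun P : Idx A =>
      Polynomial.aeval (MvPolynomial.X (R := A) P) P.1)) (MvPolynomial.X i) : TT A) i.1 = 0 := by
  have h := Polynomial.aeval_algHom_apply (Ideal.Quotient.mkₐ A (Ideal.span (Set.range fun P : Idx A =>
      Polynomial.aeval (MvPolynomial.X (R := A) P) P.1))) (MvPolynomial.X i) i.1
  rw [Ideal.Quotient.mkₐ_eq_mk] at h
  rw [h]
  exact Ideal.Quotient.eq_zero_iff_mem.2 (Ideal.subset_span ⟨i, rfl⟩)

theorem hroot (A : Type u) [CommRing A] :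
    ∀ P : A[X], P.Monic → 0 < P.natDegree → ∃ t : TT A, Polynomial.aeval t P = 0 :=
  fun P hP hpos => ⟨_, hrootX A ⟨P, hP, hpos⟩⟩

theorem hintegral (A : Type u) [CommRing A] : ∀ t : TT A, IsIntegral A t := by
  intro t
  obtain ⟨r, rfl⟩ := Ideal.Quotient.mk_surjective t
  have hX : ∀ i : Idx A, IsIntegral A (Ideal.Quotient.mk (Ideal.span (Set.range fun P : Idx A =>
      Polynomial.aeval (MvPolynomial.X (R := A) P) P.1)) (MvPolynomial.X i) : TT A) :=
    fun i => ⟨i.1, i.2.1, by rw [← Polynomial.aeval_def]; exact hrootX A i⟩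
  induction r using MvPolynomial.induction_on with
  | C a => exact isIntegral_algebraMap
  | add p q hp hq => rw [map_add]; exact hp.add hq
  | mul_X p i hp => rw [map_mul]; exact hp.mul (hX i)

theorem surj (A : Type u) [CommRing A] :
    Function.Surjective (PrimeSpectrum.comap (algebraMap A (TT A))) := by
  intro ⟨p, hp⟩
  haveI := hp
  let φ : A →+* AlgebraicClosure p.ResidueField :=
    (algebraMap p.ResidueField (AlgebraicClosure p.ResidueField)).comp
      (algebraMap A p.ResidueField)
  have hroots : ∀ i : Idx A, ∃ ω : AlgebraicClosure p.ResidueField,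
      Polynomial.eval₂ φ ω i.1 = 0 := by
    intro i
    have hdeg : (i.1.map φ).degree ≠ 0 :=
      ne_of_gt (Polynomial.natDegree_pos_iff_degree_pos.1
        (by rw [i.2.1.natDegree_map]; exact i.2.2))
    obtain ⟨ω, hω⟩ := IsAlgClosed.exists_root (i.1.map φ) hdeg
    exact ⟨ω, by rwa [Polynomial.IsRoot.def, Polynomial.eval_map] at hω⟩
  choose g hg using hroots
  let ψ0 : MvPolynomial (Idx A) A →+* AlgebraicClosure p.ResidueField :=
    MvPolynomial.eval₂Hom φ g
  have hJ : ∀ r ∈ Ideal.span (Set.range fun P : Idx A =>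
      Polynomial.aeval (MvPolynomial.X (R := A) P) P.1), ψ0 r = 0 := by
    intro r hr
    have hle : Ideal.span (Set.range fun P : Idx A =>
        Polynomial.aeval (MvPolynomial.X (R := A) P) P.1) ≤ RingHom.ker ψ0 := by
      rw [Ideal.span_le]
      rintro _ ⟨i, rfl⟩
      rw [SetLike.mem_coe, RingHom.mem_ker]
      show ψ0 (Polynomial.aeval (MvPolynomial.X (R := A) i) i.1) = 0
      rw [Polynomial.aeval_def, Polynomial.hom_eval₂]
      have e1 : ψ0.comp (algebraMap A (MvPolynomial (Idx A) A)) = φ := by
        ext a; simp [ψ0, MvPolynomial.algebraMap_eq]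
      have e2 : ψ0 (MvPolynomial.X i) = g i := by simp [ψ0]
      rw [e1, e2]; exact hg i
    exact hle hr
  let ψ : TT A →+* AlgebraicClosure p.ResidueField := Ideal.Quotient.lift _ ψ0 hJ
  refine ⟨⟨RingHom.ker ψ, RingHom.ker_isPrime ψ⟩, ?_⟩
  apply PrimeSpectrum.ext
  show Ideal.comap (algebraMap A (TT A)) (RingHom.ker ψ) = p
  ext a
  rw [Ideal.mem_comap, RingHom.mem_ker]
  have e3 : ψ (algebraMap A (TT A) a) = φ a := by
    show ψ (Ideal.Quotient.mk _ (MvPolynomial.C a)) = φ a
    rw [Ideal.Quotient.lift_mk]; simp [ψ0]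
  rw [e3]
  show algebraMap p.ResidueField (AlgebraicClosure p.ResidueField)
    (algebraMap A p.ResidueField a) = 0 ↔ a ∈ p
  rw [map_eq_zero, Ideal.algebraMap_residueField_eq_zero]

end Aux

/-- Let A be a commutative ring and T the quotient of the polynomial ring over A in indeterminates X_P,
one for each monic polynomial P over A of positive degree, by the ideal generated by the elements
P(X_P). Then the map on prime spectra Spec T → Spec A is surjective, and for every prime ideal Q of
T, with p its contraction to A, the residue field of Q is algebraically closed and integral over the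
residue field of p under the induced map of residue fields (so it is an algebraic closure of it). -/
theorem result (A : Type u) [CommRing A] :
    Function.Surjective (PrimeSpectrum.comap (algebraMap A (MvPolynomial {P : Polynomial A // P.Monic ∧ 0 < P.natDegree} A ⧸
      Ideal.span (Set.range fun P : {P : Polynomial A // P.Monic ∧ 0 < P.natDegree} =>
        Polynomial.aeval (MvPolynomial.X (R := A) P) P.1)))) ∧
    ∀ (Q : Ideal (MvPolynomial {P : Polynomial A // P.Monic ∧ 0 < P.natDegree} A ⧸
      Ideal.span (Set.range fun P : {P : Polynomial A // P.Monic ∧ 0 < P.natDegree} =>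
        Polynomial.aeval (MvPolynomial.X (R := A) P) P.1))) [Q.IsPrime],
      IsAlgClosed Q.ResidueField ∧
      (Ideal.ResidueField.map (Q.comap (algebraMap A (MvPolynomial {P : Polynomial A // P.Monic ∧ 0 < P.natDegree} A ⧸
      Ideal.span (Set.range fun P : {P : Polynomial A // P.Monic ∧ 0 < P.natDegree} =>
        Polynomial.aeval (MvPolynomial.X (R := A) P) P.1)))) Q (algebraMap A (MvPolynomial {P : Polynomial A // P.Monic ∧ 0 < P.natDegree} A ⧸
      Ideal.span (Set.range fun P : {P : Polynomial A // P.Monic ∧ 0 < P.natDegree} =>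
        Polynomial.aeval (MvPolynomial.X (R := A) P) P.1))) rfl).IsIntegral := by
  exact ⟨surj A, fun Q _ => lemG (hroot A) (hintegral A) _ Q rfl⟩

end Groth.Agent.S16572
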