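import Groth.Statements.S16597
import Mathlib

set_option autoImplicit false
universe u v
open LGRing

namespace Groth.Agent.S16597

section Aux

theorem unimod_of_ann {R : Type u} [CommRing R] (hR : LGRing.IsLGRing R)
    (M : Type v) [AddCommGroup M] [Module R M] [Module.Finite R M] [Module.Projective R M]
    (hann : ∀ (𝔪 : Ideal R) [𝔪.IsMaximal], Module.annihilator R M ≤ 𝔪) :
    ∃ (m : M) (f : Module.Dual R M), f m = 1 := by
  obtain ⟨k, F, G, -, -, hFG⟩ := Module.Finite.exists_comp_eq_id_of_projective R M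
  obtain ⟨mm, φ, hx⟩ : ∃ (mm : Fin k → M) (φ : Fin k → Module.Dual R M),
      ∀ x : M, x = ∑ i, φ i x • mm i := by
    refine ⟨fun i => F (fun j => if i = j then 1 else 0),
      fun i => (LinearMap.proj i).comp G, fun x => ?_⟩
    have h1 : F (G x) = x := by
      have := congrArg (fun L : M →ₗ[R] M => L x) hFG
      simpa using this
    exact h1.symm.trans (LinearMap.pi_apply_eq_sum_univ F (G x))
  obtain ⟨P, hP⟩ : ∃ P : MvPolynomial (Fin (k + k)) R, P =
      ∑ i : Fin k, ∑ j : Fin k, MvPolynomial.C (φ j (mm i)) *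
        MvPolynomial.X (Fin.castAdd k i) * MvPolynomial.X (Fin.natAdd k j) := ⟨_, rfl⟩
  have heval : ∀ (S : Type u) [CommRing S] [Algebra R S] (s : Fin (k + k) → S),
      MvPolynomial.aeval s P = ∑ i : Fin k, ∑ j : Fin k,
        algebraMap R S (φ j (mm i)) * s (Fin.castAdd k i) * s (Fin.natAdd k j) := by
    intro S _ _ s
    simp only [hP, map_sum, map_mul, MvPolynomial.aeval_C, MvPolynomial.aeval_X]
  have hloc : ∀ (𝔪 : Ideal R) [𝔪.IsMaximal], ∃ i j, φ j (mm i) ∉ 𝔪 := by
    intro 𝔪 h𝔪
    by_contra hcon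
    push_neg at hcon
    have hφm : ∀ j x, φ j x ∈ 𝔪 := by
      intro j x
      have hsum : φ j x = ∑ i, φ i x * φ j (mm i) := by
        conv_lhs => rw [hx x, map_sum]
        refine Finset.sum_congr rfl fun i _ => ?_
        rw [map_smul, smul_eq_mul]
      rw [hsum]
      exact Ideal.sum_mem _ fun i _ => Ideal.mul_mem_left _ _ (hcon i j)
    have hle : (⊤ : Submodule R M) ≤ 𝔪 • (⊤ : Submodule R M) := by
      intro x _
      rw [hx x]
      exact Submodule.sum_mem _ fun i _ =>
        Submodule.smul_mem_smul (hφm i x) Submodule.mem_top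
    obtain ⟨r, hr1, hr0⟩ := Submodule.exists_sub_one_mem_and_smul_eq_zero_of_fg_of_le_smul
      𝔪 ⊤ Module.Finite.fg_top hle
    have hrann : r ∈ Module.annihilator R M :=
      Module.mem_annihilator.2 fun a => hr0 a Submodule.mem_top
    have hr𝔪 : r ∈ 𝔪 := hann 𝔪 hrann
    have h1 : (1 : R) ∈ 𝔪 := by
      have h2 := 𝔪.sub_mem hr𝔪 hr1
      rwa [sub_sub_cancel] at h2
    exact h𝔪.ne_top ((Ideal.eq_top_iff_one _).2 h1)
  have hrep : ∀ (𝔪 : Ideal R) [𝔪.IsMaximal], LGRing.RepresentsUnit P (R ⧸ 𝔪) := by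
    intro 𝔪 h𝔪
    obtain ⟨i₀, j₀, hij⟩ := hloc 𝔪
    refine ⟨Fin.append (Pi.single i₀ 1) (Pi.single j₀ 1), ?_⟩
    rw [heval]
    have hsum : (∑ i : Fin k, ∑ j : Fin k, algebraMap R (R ⧸ 𝔪) (φ j (mm i)) *
        (Fin.append (Pi.single i₀ (1 : R ⧸ 𝔪)) (Pi.single j₀ (1 : R ⧸ 𝔪)) :
          Fin (k + k) → R ⧸ 𝔪) (Fin.castAdd k i) *
        (Fin.append (Pi.single i₀ (1 : R ⧸ 𝔪)) (Pi.single j₀ (1 : R ⧸ 𝔪)) :
          Fin (k + k) → R ⧸ 𝔪) (Fin.natAdd k j))
        = algebraMap R (R ⧸ 𝔪) (φ j₀ (mm i₀)) := by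
      simp only [Fin.append_left, Fin.append_right]
      rw [Finset.sum_eq_single i₀, Finset.sum_eq_single j₀]
      · rw [Pi.single_eq_same, Pi.single_eq_same, mul_one, mul_one]
      · intro j _ hj
        rw [Pi.single_eq_of_ne hj, mul_zero]
      · intro h; exact absurd (Finset.mem_univ _) h
      · intro i _ hi
        refine Finset.sum_eq_zero fun j _ => ?_
        rw [Pi.single_eq_of_ne hi, mul_zero, zero_mul]
      · intro h; exact absurd (Finset.mem_univ _) h
    rw [hsum]
    letI := Ideal.Quotient.field 𝔪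
    refine isUnit_iff_ne_zero.2 fun h0 => hij ?_
    rw [Ideal.Quotient.algebraMap_eq] at h0
    exact Ideal.Quotient.eq_zero_iff_mem.1 h0
  obtain ⟨s, hs⟩ := hR (k + k) P hrep
  rw [heval R s] at hs
  obtain ⟨w, hw⟩ := hs
  refine ⟨∑ i, s (Fin.castAdd k i) • mm i,
    (↑w⁻¹ : R) • ∑ j, s (Fin.natAdd k j) • φ j, ?_⟩
  rw [LinearMap.smul_apply, LinearMap.sum_apply]
  simp only [LinearMap.smul_apply, map_sum, map_smul, smul_eq_mul]
  have hfin : (∑ j, ∑ i, s (Fin.castAdd k i) * (s (Fin.natAdd k j) * φ j (mm i))) = (w : R) := by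
    rw [hw, Finset.sum_comm]
    refine Finset.sum_congr rfl fun i _ => Finset.sum_congr rfl fun j _ => ?_
    rw [Algebra.algebraMap_self_apply]
    ring
  rw [hfin]
  exact Units.inv_mul w

theorem split_equiv {R : Type u} [CommRing R] {M : Type v} [AddCommGroup M] [Module R M]
    (m : M) (f : Module.Dual R M) (hfm : f m = 1) :
    Nonempty (M ≃ₗ[R] (↥(LinearMap.ker f) × R)) := by
  have hπ : ∀ x : M, x - f x • m ∈ LinearMap.ker f := by
    intro x
    rw [LinearMap.mem_ker, map_sub, map_smul, hfm, smul_eq_mul, mul_one, sub_self]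
  let π : M →ₗ[R] ↥(LinearMap.ker f) :=
    (LinearMap.id - (LinearMap.toSpanSingleton R M m).comp f).codRestrict (LinearMap.ker f)
      (fun x => by
        simpa [LinearMap.toSpanSingleton_apply] using hπ x)
  refine ⟨LinearEquiv.ofLinear (π.prod f)
    ((LinearMap.ker f).subtype.coprod (LinearMap.toSpanSingleton R M m)) ?_ ?_⟩
  · apply LinearMap.ext
    rintro ⟨k, c⟩
    have hk : f (k : M) = 0 := k.2
    apply Prod.ext
    · apply Subtype.ext
      simp [π, LinearMap.toSpanSingleton_apply, hk, hfm]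
    · simp [LinearMap.toSpanSingleton_apply, hk, hfm]
  · apply LinearMap.ext
    intro x
    simp [π, LinearMap.toSpanSingleton_apply]

theorem free_aux {R : Type u} [CommRing R] (hR : LGRing.IsLGRing R) (d : ℕ) :
    ∀ (M : Type v) [AddCommGroup M] [Module R M] [Module.Finite R M] [Module.Projective R M],
      (∀ p : PrimeSpectrum R, Module.rankAtStalk M p = d) → Module.Free R M := by
  induction d with
  | zero =>
    intro M _ _ _ _ hd
    have h0 : Module.rankAtStalk (R := R) M = 0 := funext fun p => hd p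
    haveI : Subsingleton M := Module.rankAtStalk_eq_zero_iff_subsingleton.1 h0
    exact Module.Free.of_subsingleton R M
  | succ d ih =>
    intro M _ _ _ _ hd
    rcases subsingleton_or_nontrivial R with hsub | hnt
    · exact Module.Free.of_subsingleton' R M
    · have hann : ∀ (𝔪 : Ideal R) [𝔪.IsMaximal], Module.annihilator R M ≤ 𝔪 := by
        intro 𝔪 h𝔪
        have hpos : 0 < Module.rankAtStalk M (⟨𝔪, h𝔪.isPrime⟩ : PrimeSpectrum R) := by
          rw [hd]; exact Nat.succ_pos d
        have hsupp := (Module.rankAtStalk_pos_iff_mem_support _).1 hpos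
        exact Module.mem_support_iff_of_finite.1 hsupp
      obtain ⟨m, f, hfm⟩ := unimod_of_ann hR M hann
      obtain ⟨e⟩ := split_equiv m f hfm
      haveI : Module.Projective R (↥(LinearMap.ker f) × R) := Module.Projective.of_equiv e
      haveI : Module.Finite R (↥(LinearMap.ker f) × R) := Module.Finite.equiv e
      haveI : Module.Finite R ↥(LinearMap.ker f) :=
        Module.Finite.of_surjective (LinearMap.fst R ↥(LinearMap.ker f) R)
          LinearMap.fst_surjective
      haveI : Module.Projective R ↥(LinearMap.ker f) :=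
        Module.Projective.of_split (LinearMap.inl R ↥(LinearMap.ker f) R)
          (LinearMap.fst R ↥(LinearMap.ker f) R) (by ext; simp)
      have hK : ∀ p : PrimeSpectrum R, Module.rankAtStalk ↥(LinearMap.ker f) p = d := by
        intro p
        have h1 := congrFun (Module.rankAtStalk_eq_of_equiv e) p
        rw [Module.rankAtStalk_prod, Pi.add_apply, Module.rankAtStalk_self, Pi.one_apply,
          hd p] at h1
        omega
      haveI : Module.Free R ↥(LinearMap.ker f) := ih _ hK
      exact Module.Free.of_equiv e.symm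

end Aux

/-- Let R be an LG-ring and M a finite locally free (finitely generated projective) R-module of constant
rank. Then M is free. In particular invertible R-modules are trivial: Pic(R) = 0. -/
theorem result {R : Type u} [CommRing R] (hR : LGRing.IsLGRing R)
    (M : Type v) [AddCommGroup M] [Module R M] [Module.Finite R M] [Module.Projective R M] (d : ℕ)
    (hd : ∀ p : PrimeSpectrum R, Module.rankAtStalk M p = d) : Module.Free R M := by
  exact free_aux hR d M hd

end Groth.Agent.S16597
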