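import Groth.Statements.S16598
import Mathlib

set_option autoImplicit false
universe u v
open LGRing

namespace Groth.Agent.S16598

/-- Let R be an LG-ring and M a faithfully projective R-module (finitely generated projective and
faithful). Then M contains a unimodular element: there are m ∈ M and a linear form f on M with f(m)
= 1 (so R·m is a free direct summand of M of rank one). -/
theorem result {R : Type u} [CommRing R] (hR : LGRing.IsLGRing R)
    (M : Type v) [AddCommGroup M] [Module R M] [Module.Finite R M] [Module.Projective R M] [FaithfulSMul R M] :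
    ∃ (m : M) (f : Module.Dual R M), f m = 1 := by
  obtain ⟨k, F, G, -, -, hFG⟩ := Module.Finite.exists_comp_eq_id_of_projective R M
  obtain ⟨mm, φ, hx⟩ : ∃ (mm : Fin k → M) (φ : Fin k → Module.Dual R M),
      ∀ x : M, x = ∑ i, φ i x • mm i := by
    refine ⟨fun i => F (fun j => if i = j then 1 else 0),
      fun i => (LinearMap.proj i).comp G, fun x => ?_⟩
    have h1 : F (G x) = x := by
      have := congrArg (fun L : M →ₗ[R] M => L x) hFG
      simpa using this
    exact h1.symm.trans (LinearMap.pi_apply_eq_sum_univ F (G x))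
  obtain ⟨P, hP⟩ : ∃ P : MvPolynomial (Fin (k + k)) R, P =
      ∑ i : Fin k, ∑ j : Fin k, MvPolynomial.C (φ j (mm i)) *
        MvPolynomial.X (Fin.castAdd k i) * MvPolynomial.X (Fin.natAdd k j) := ⟨_, rfl⟩
  have heval : ∀ (S : Type u) [CommRing S] [Algebra R S] (s : Fin (k + k) → S),
      MvPolynomial.aeval s P = ∑ i : Fin k, ∑ j : Fin k,
        algebraMap R S (φ j (mm i)) * s (Fin.castAdd k i) * s (Fin.natAdd k j) := by
    intro S _ _ s
    simp only [hP, map_sum, map_mul, MvPolynomial.aeval_C, MvPolynomial.aeval_X]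
  have hloc : ∀ (𝔪 : Ideal R) [𝔪.IsMaximal], ∃ i j, φ j (mm i) ∉ 𝔪 := by
    intro 𝔪 h𝔪
    by_contra hcon
    push_neg at hcon
    have hφm : ∀ j x, φ j x ∈ 𝔪 := by
      intro j x
      have hsum : φ j x = ∑ i, φ i x * φ j (mm i) := by
        conv_lhs => rw [hx x, map_sum]
        refine Finset.sum_congr rfl fun i _ => ?_
        rw [map_smul, smul_eq_mul]
      rw [hsum]
      exact Ideal.sum_mem _ fun i _ => Ideal.mul_mem_left _ _ (hcon i j)
    have hle : (⊤ : Submodule R M) ≤ 𝔪 • (⊤ : Submodule R M) := by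
      intro x _
      rw [hx x]
      exact Submodule.sum_mem _ fun i _ =>
        Submodule.smul_mem_smul (hφm i x) Submodule.mem_top
    obtain ⟨r, hr1, hr0⟩ := Submodule.exists_sub_one_mem_and_smul_eq_zero_of_fg_of_le_smul
      𝔪 ⊤ Module.Finite.fg_top hle
    have hr : r = 0 := by
      apply FaithfulSMul.eq_of_smul_eq_smul (α := M)
      intro a
      rw [hr0 a Submodule.mem_top, zero_smul]
    rw [hr, zero_sub] at hr1
    have h1 : (1 : R) ∈ 𝔪 := by simpa using 𝔪.neg_mem hr1
    exact h𝔪.ne_top ((Ideal.eq_top_iff_one _).2 h1)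
  have hrep : ∀ (𝔪 : Ideal R) [𝔪.IsMaximal], LGRing.RepresentsUnit P (R ⧸ 𝔪) := by
    intro 𝔪 h𝔪
    obtain ⟨i₀, j₀, hij⟩ := hloc 𝔪
    refine ⟨Fin.append (Pi.single i₀ 1) (Pi.single j₀ 1), ?_⟩
    rw [heval]
    have hsum : (∑ i : Fin k, ∑ j : Fin k, algebraMap R (R ⧸ 𝔪) (φ j (mm i)) *
        (Fin.append (Pi.single i₀ (1 : R ⧸ 𝔪)) (Pi.single j₀ (1 : R ⧸ 𝔪)) :
          Fin (k + k) → R ⧸ 𝔪) (Fin.castAdd k i) *
        (Fin.append (Pi.single i₀ (1 : R ⧸ 𝔪)) (Pi.single j₀ (1 : R ⧸ 𝔪)) :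
          Fin (k + k) → R ⧸ 𝔪) (Fin.natAdd k j))
        = algebraMap R (R ⧸ 𝔪) (φ j₀ (mm i₀)) := by
      simp only [Fin.append_left, Fin.append_right]
      rw [Finset.sum_eq_single i₀, Finset.sum_eq_single j₀]
      · rw [Pi.single_eq_same, Pi.single_eq_same, mul_one, mul_one]
      · intro j _ hj
        rw [Pi.single_eq_of_ne hj, mul_zero]
      · intro h; exact absurd (Finset.mem_univ _) h
      · intro i _ hi
        refine Finset.sum_eq_zero fun j _ => ?_
        rw [Pi.single_eq_of_ne hi, mul_zero, zero_mul]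
      · intro h; exact absurd (Finset.mem_univ _) h
    rw [hsum]
    letI := Ideal.Quotient.field 𝔪
    refine isUnit_iff_ne_zero.2 fun h0 => hij ?_
    rw [Ideal.Quotient.algebraMap_eq] at h0
    exact Ideal.Quotient.eq_zero_iff_mem.1 h0
  obtain ⟨s, hs⟩ := hR (k + k) P hrep
  rw [heval R s] at hs
  obtain ⟨w, hw⟩ := hs
  refine ⟨∑ i, s (Fin.castAdd k i) • mm i,
    (↑w⁻¹ : R) • ∑ j, s (Fin.natAdd k j) • φ j, ?_⟩
  rw [LinearMap.smul_apply, LinearMap.sum_apply]
  simp only [LinearMap.smul_apply, map_sum, map_smul, smul_eq_mul]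
  have hfin : (∑ j, ∑ i, s (Fin.castAdd k i) * (s (Fin.natAdd k j) * φ j (mm i))) = (w : R) := by
    rw [hw, Finset.sum_comm]
    refine Finset.sum_congr rfl fun i _ => Finset.sum_congr rfl fun j _ => ?_
    rw [Algebra.algebraMap_self_apply]
    ring
  rw [hfin]
  exact Units.inv_mul w

end Groth.Agent.S16598
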