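import Groth.Statements.S16644
import Mathlib
-- import your own Groth.Agent.* helpers here

set_option autoImplicit false
open QuadZ

namespace Groth.Agent.S16644

/-- For odd n, the discriminant of the universal quadratic form Σ_{i ≤ j} A_{ij} x_i x_j in n variables
(variables A_{ij} indexed by unordered pairs), i.e. the determinant of the symmetric matrix with
diagonal entries 2 A_{ii} and off-diagonal entries A_{ij}, is divisible by 2 in the integral
polynomial ring ℤ[A_{ij}] (so the half-discriminant is an integral polynomial). -/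
theorem result (n : ℕ) (hn : Odd n) :
    (2 : MvPolynomial (Sym2 (Fin n)) ℤ) ∣
      (Matrix.of fun i j : Fin n =>
        if i = j then 2 * MvPolynomial.X (R := ℤ) (σ := Sym2 (Fin n)) (Sym2.mk i j)
        else MvPolynomial.X (R := ℤ) (σ := Sym2 (Fin n)) (Sym2.mk i j)).det := by
  classical
  have h2 : (2 : MvPolynomial (Sym2 (Fin n)) ℤ) = MvPolynomial.C ((2 : ℕ) : ℤ) := by
    simp
  conv_lhs => rw [h2]
  rw [MvPolynomial.C_dvd_iff_zmod, RingHom.map_det]
  set R := MvPolynomial (Sym2 (Fin n)) (ZMod 2) with hR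
  have : CharP R 2 := inferInstance
  -- the mapped matrix
  set M' : Matrix (Fin n) (Fin n) R :=
    ((MvPolynomial.map (Int.castRingHom (ZMod 2))).mapMatrix
      (Matrix.of fun i j : Fin n =>
        if i = j then 2 * MvPolynomial.X (R := ℤ) (σ := Sym2 (Fin n)) (Sym2.mk i j)
        else MvPolynomial.X (R := ℤ) (σ := Sym2 (Fin n)) (Sym2.mk i j))) with hM'
  have hentry : ∀ i j, M' i j = if i = j then 0 else MvPolynomial.X (Sym2.mk i j) := by
    intro i j
    simp only [hM', RingHom.mapMatrix_apply, Matrix.map_apply, Matrix.of_apply]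
    split_ifs with h
    · rw [map_mul]
      have : (MvPolynomial.map (Int.castRingHom (ZMod 2))) (2 : MvPolynomial (Sym2 (Fin n)) ℤ) = 0 := by
        rw [map_ofNat]
        exact CharTwo.two_eq_zero
      rw [this, zero_mul]
    · simp
  have hsymm : ∀ i j, M' i j = M' j i := by
    intro i j
    rw [hentry, hentry]
    by_cases h : i = j
    · subst h; rfl
    · rw [if_neg h, if_neg (Ne.symm h), Sym2.eq_swap]
  have hdiag : ∀ i, M' i i = 0 := fun i => by rw [hentry, if_pos rfl]
  rw [Matrix.det_apply]
  apply Finset.sum_involution (fun σ _ => σ⁻¹)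
  · intro σ _
    have : (Equiv.Perm.sign σ⁻¹ • ∏ i, M' (σ⁻¹ i) i) = Equiv.Perm.sign σ • ∏ i, M' (σ i) i := by
      rw [Equiv.Perm.sign_inv]
      congr 1
      rw [← Equiv.prod_comp σ]
      apply Finset.prod_congr rfl
      intro i _
      rw [show σ⁻¹ (σ i) = i from by simp, hsymm]
    rw [this]
    exact CharTwo.add_self_eq_zero _
  · intro σ _ hne hinv
    apply hne
    have hσ2 : σ ^ 2 ^ 1 = 1 := by
      rw [pow_one, sq]
      nth_rewrite 1 [← hinv]
      exact inv_mul_cancel σ
    have : Fact (Nat.Prime 2) := ⟨Nat.prime_two⟩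
    obtain ⟨a, ha⟩ := Equiv.Perm.exists_fixed_point_of_prime (p := 2) (n := 1)
      (by rw [Fintype.card_fin]; exact fun h => (Nat.not_even_iff_odd.mpr hn) (even_iff_two_dvd.mpr h)) hσ2
    have : ∏ i, M' (σ i) i = 0 := by
      apply Finset.prod_eq_zero (Finset.mem_univ a)
      rw [ha, hdiag]
    rw [this, smul_zero]
  · intro σ _; exact inv_inv σ
  · intro σ _; exact Finset.mem_univ _

end Groth.Agent.S16644
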