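import Groth.Statements.S16663
import Mathlib
import Groth.Agent.Lib.helper8.ConnLib
-- import your own Groth.Agent.* helpers here

set_option autoImplicit false
universe v u
open TensorProduct
open Conn

namespace Groth.Agent.S16663

/-- Let B be an A-algebra with a receptacle of differentials (Ω, δ), Ω a finite free B-module (the local
form of a weakly smooth scheme), and let M be a finitely ℤ-graded B-module presented as a finite
family of finite free B-modules M_i with integer degrees deg i (the local form of a graded vector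
bundle), with total module Π_i M_i. Let ∇ be a connection on Π_i M_i preserving the grading, in the
sense that (pr_j ⊗ 1)(∇(ι_i m)) = 0 for m ∈ M_i whenever deg i ≠ deg j, and let ∇_E be the induced
connection on the B-linear endomorphisms, the one with (ev_m ⊗ 1)(∇_E φ) = ∇(φ m) − (φ ⊗ 1)(∇ m).
Give B the connection b ↦ 1 ⊗ δ b. Then the supertrace, φ ↦ tr(ε ∘ φ) with ε = Σ_i (−1)^{deg i} ι_i
∘ pr_i the grading involution, is a horizontal map End_B(Π_i M_i) → B. -/
theorem result {A : Type v} {B Ω ι : Type u}
    [CommRing A] [CommRing B] [Algebra A B]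
    [AddCommGroup Ω] [Module B Ω] [Module A Ω] [IsScalarTower A B Ω] [Module.Finite B Ω] [Module.Free B Ω]
    [Fintype ι] [DecidableEq ι] (deg : ι → ℤ) (M : ι → Type u)
    [∀ i, AddCommGroup (M i)] [∀ i, Module B (M i)] [∀ i, Module A (M i)] [∀ i, IsScalarTower A B (M i)]
    [∀ i, Module.Free B (M i)] [∀ i, Module.Finite B (M i)]
    (δ : Derivation A B Ω) (nabla : (Π k, M k) →ₗ[A] (Π k, M k) ⊗[B] Ω) (hc : Conn.IsConn δ nabla)
    (hgr : ∀ i j : ι, deg i ≠ deg j → ∀ m : M i,
      TensorProduct.map (LinearMap.proj j : (Π k, M k) →ₗ[B] M j) LinearMap.id (nabla (LinearMap.single B M i m)) = 0)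
    (nablaE : ((Π k, M k) →ₗ[B] (Π k, M k)) →ₗ[A] ((Π k, M k) →ₗ[B] (Π k, M k)) ⊗[B] Ω)
    (hE : Conn.IsHomConn nabla nabla nablaE) :
    Conn.IsHorizontal nablaE (Conn.triv δ)
      (LinearMap.trace B (Π k, M k) ∘ₗ LinearMap.llcomp B (Π k, M k) (Π k, M k) (Π k, M k)
        (∑ i : ι, (LinearMap.single B M i) ∘ₗ (((-1 : B) ^ (deg i).natAbs) • (LinearMap.proj i : (Π k, M k) →ₗ[B] M i)))) := by
  classical
  have hc' : ∀ (r : B) (x : (Π k, M k)), nabla (r • x) = r • nabla x + x ⊗ₜ[B] δ r := hc
  have hE' : ∀ (χ : (Π k, M k) →ₗ[B] (Π k, M k)) (x : (Π k, M k)),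
      TensorProduct.map (LinearMap.applyₗ x) LinearMap.id (nablaE χ) =
        nabla (χ x) - TensorProduct.map χ LinearMap.id (nabla x) := hE
  have hmc : ∀ {X Y Z : Type u} [AddCommGroup X] [Module B X] [AddCommGroup Y] [Module B Y]
      [AddCommGroup Z] [Module B Z] (f : Y →ₗ[B] Z) (g : X →ₗ[B] Y) (z : X ⊗[B] Ω),
      TensorProduct.map (f ∘ₗ g) LinearMap.id z =
        TensorProduct.map f LinearMap.id (TensorProduct.map g LinearMap.id z) := by
    intro X Y Z _ _ _ _ _ _ f g z
    induction z using TensorProduct.induction_on with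
    | zero => simp
    | add x y hx hy => simp only [map_add, hx, hy]
    | tmul x ω => simp
  obtain ⟨ε, hεdef⟩ : ∃ ε : (Π k, M k) →ₗ[B] (Π k, M k), ε = ∑ i : ι, (LinearMap.single B M i) ∘ₗ
      (((-1 : B) ^ (deg i).natAbs) • (LinearMap.proj i : (Π k, M k) →ₗ[B] M i)) := ⟨_, rfl⟩
  rw [← hεdef]
  have hδs : ∀ n : ℕ, δ ((-1 : B) ^ n) = 0 := by
    intro n
    have h1 : ((-1 : B)) ^ n = algebraMap A B ((-1) ^ n) := by simp
    rw [h1, Derivation.map_algebraMap]
  have hidsum : (∑ l : ι, (LinearMap.single B M l) ∘ₗ (LinearMap.proj l : (Π k, M k) →ₗ[B] M l)) =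
      LinearMap.id := by
    apply LinearMap.ext
    intro x
    rw [LinearMap.sum_apply]
    simp only [LinearMap.comp_apply, LinearMap.proj_apply, LinearMap.coe_single, LinearMap.id_apply]
    exact Finset.univ_sum_single x
  -- ε is horizontal on single vectors
  have hε1 : ∀ (i : ι) (m : M i), nabla (ε (LinearMap.single B M i m)) =
      TensorProduct.map ε LinearMap.id (nabla (LinearMap.single B M i m)) := by
    intro i m
    have h1 : ε (LinearMap.single B M i m) =
        ((-1 : B) ^ (deg i).natAbs) • LinearMap.single B M i m := by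
      rw [hεdef, LinearMap.sum_apply, Finset.sum_eq_single i]
      · rw [LinearMap.comp_apply, LinearMap.smul_apply, LinearMap.proj_apply, map_smul]
        congr 1
        rw [LinearMap.coe_single, Pi.single_eq_same]
      · intro l _ hl
        rw [LinearMap.comp_apply, LinearMap.smul_apply, LinearMap.proj_apply]
        simp only [LinearMap.coe_single]
        rw [Pi.single_eq_of_ne hl, smul_zero, Pi.single_zero]
      · intro h; exact absurd (Finset.mem_univ i) h
    rw [h1, hc', hδs, TensorProduct.tmul_zero, add_zero]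
    have hmap : ∀ (f : (Π k, M k) →ₗ[B] (Π k, M k)) (z : (Π k, M k) ⊗[B] Ω),
        TensorProduct.map f LinearMap.id z = LinearMap.rTensorHom Ω f z := fun f z => rfl
    have hterm : ∀ l : ι, LinearMap.rTensorHom Ω ((LinearMap.single B M l) ∘ₗ
          (((-1 : B) ^ (deg l).natAbs) • (LinearMap.proj l : (Π k, M k) →ₗ[B] M l)))
          (nabla (LinearMap.single B M i m)) =
        ((-1 : B) ^ (deg i).natAbs) • LinearMap.rTensorHom Ω ((LinearMap.single B M l) ∘ₗ
          (LinearMap.proj l : (Π k, M k) →ₗ[B] M l)) (nabla (LinearMap.single B M i m)) := by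
      intro l
      rw [LinearMap.comp_smul, map_smul, LinearMap.smul_apply]
      by_cases hdl : deg i = deg l
      · rw [hdl]
      · have h0 : LinearMap.rTensorHom Ω ((LinearMap.single B M l) ∘ₗ
            (LinearMap.proj l : (Π k, M k) →ₗ[B] M l)) (nabla (LinearMap.single B M i m)) = 0 := by
          show TensorProduct.map ((LinearMap.single B M l) ∘ₗ
            (LinearMap.proj l : (Π k, M k) →ₗ[B] M l)) LinearMap.id
              (nabla (LinearMap.single B M i m)) = 0
          rw [hmc, hgr i l hdl m, map_zero]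
        rw [h0, smul_zero, smul_zero]
    rw [hmap, hεdef, map_sum, LinearMap.sum_apply]
    simp only [hterm]
    rw [← Finset.smul_sum, ← LinearMap.sum_apply, ← map_sum, hidsum, LinearMap.coe_rTensorHom,
      LinearMap.rTensor_id, LinearMap.id_apply]
  have hε : ∀ x : (Π k, M k), nabla (ε x) = TensorProduct.map ε LinearMap.id (nabla x) := by
    intro x
    have key : nabla (ε (∑ i, LinearMap.single B M i (x i))) =
        TensorProduct.map ε LinearMap.id (nabla (∑ i, LinearMap.single B M i (x i))) := by
      rw [map_sum, map_sum, map_sum, map_sum]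
      exact Finset.sum_congr rfl (fun i _ => hε1 i (x i))
    have hx : ∑ i, LinearMap.single B M i (x i) = x := by
      simp only [LinearMap.coe_single]
      exact Finset.univ_sum_single x
    rwa [hx] at key
  intro χ
  have h1 := H8Conn.trace_horizontal δ nabla hc nablaE hE (ε ∘ₗ χ)
  have h2 : nablaE (ε ∘ₗ χ) = TensorProduct.map
      (LinearMap.llcomp B (Π k, M k) (Π k, M k) (Π k, M k) ε) LinearMap.id (nablaE χ) := by
    apply H8Conn.eq_of_eval
    intro x
    have h3 : ∀ y : ((Π k, M k) →ₗ[B] (Π k, M k)) ⊗[B] Ω,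
        TensorProduct.map (LinearMap.applyₗ x) LinearMap.id
          (TensorProduct.map (LinearMap.llcomp B (Π k, M k) (Π k, M k) (Π k, M k) ε)
            LinearMap.id y) =
        TensorProduct.map ε LinearMap.id (TensorProduct.map (LinearMap.applyₗ x) LinearMap.id y) := by
      intro y
      induction y using TensorProduct.induction_on with
      | zero => simp
      | add a b ha hb => simp only [map_add, ha, hb]
      | tmul ψ ω => simp
    rw [h3, hE', hE', map_sub, LinearMap.comp_apply, hε, hmc]
  have h4 : (LinearMap.trace B (Π k, M k) ∘ₗ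
      LinearMap.llcomp B (Π k, M k) (Π k, M k) (Π k, M k) ε) χ =
      LinearMap.trace B (Π k, M k) (ε ∘ₗ χ) := rfl
  rw [h4, h1, h2, hmc]

end Groth.Agent.S16663
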