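import Groth.Statements.S16675
import Mathlib

set_option autoImplicit false
universe u
open CategoryTheory CategoryTheory.Limits MonoidalCategory CartesianMonoidalCategory MonObj GrpObj AlgebraicGeometry
open AbVar

namespace Groth.Agent.S16675

/-- The equivalence of its second and third conditions. Let X and Y be abelian varieties over a field k
(proper, geometrically integral k-group schemes), f : X → Y a homomorphism which is finite, flat and
surjective (an isogeny), and i : N → X the kernel of f (the square formed by i, f, the unit section
of Y and the structure map of N is cartesian). Then f is étale if and only if the structure morphism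
N → Spec k is étale. (The published item also includes the equivalent condition that the function
field of X is separable over that of Y; that clause is not part of this statement.) -/
theorem result (k : Type u) [Field k]
    (X Y : Over (Spec (CommRingCat.of k)))
    [GrpObj X] [IsProper X.hom] [GeometricallyIntegral X.hom]
    [GrpObj Y] [IsProper Y.hom] [GeometricallyIntegral Y.hom]
    (f : X ⟶ Y) [IsMonHom f] [IsFinite f.left] [Flat f.left] [Surjective f.left]
    (N : Over (Spec (CommRingCat.of k))) (i : N ⟶ X) (hN : AlgGrp.IsKernel i f) :
    Etale f.left ↔ Etale N.hom := by
  have hif : i ≫ f = 1 := by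
    have h := hN.w
    rw [h, Hom.one_def]
  constructor
  · intro h
    have hpb := hN.map (Over.forget _)
    have : Etale (toUnit N).left := MorphismProperty.of_isPullback (P := @Etale) hpb h
    exact this
  · intro h
    let m : X ⊗ N ⟶ X := fst X N * (snd X N ≫ i)
    have hw : fst X N ≫ f = m ≫ f := by
      simp only [m]
      rw [MonObj.mul_comp, Category.assoc, hif, MonObj.comp_one, _root_.mul_one]
    have hcond : ∀ s : PullbackCone f f, (s.fst⁻¹ * s.snd) ≫ f = toUnit s.pt ≫ η[Y] := by
      intro s
      rw [MonObj.mul_comp, GrpObj.inv_comp, s.condition, inv_mul_cancel, Hom.one_def]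
    have hpb : IsPullback (fst X N) m f f := by
      refine IsPullback.of_isLimit (PullbackCone.IsLimit.mk hw
        (fun s => lift s.fst (hN.lift (s.fst⁻¹ * s.snd) (toUnit _) (hcond s))) ?_ ?_ ?_)
      · intro s; exact lift_fst _ _
      · intro s
        simp only [m]
        rw [MonObj.comp_mul, lift_fst, lift_snd_assoc, hN.lift_fst, mul_inv_cancel_left]
      · intro s m' h1 h2
        apply CartesianMonoidalCategory.hom_ext
        · rw [lift_fst]; exact h1
        · rw [lift_snd]
          apply hN.hom_ext
          · rw [hN.lift_fst]
            have h3 : (m' ≫ fst X N) * (m' ≫ snd X N ≫ i) = s.snd := by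
              rw [← MonObj.comp_mul]; exact h2
            rw [h1] at h3
            rw [Category.assoc, ← h3, inv_mul_cancel_left]
          · exact toUnit_unique _ _
    have hpb' := hpb.map (Over.forget _)
    have hQ : (@Surjective ⊓ @Flat ⊓ @QuasiCompact : MorphismProperty Scheme.{u}) f.left :=
      ⟨⟨inferInstance, inferInstance⟩, inferInstance⟩
    have hfst : Etale (fst X N).left := by
      rw [Over.fst_left]
      exact MorphismProperty.pullback_fst (P := @Etale) _ _ h
    exact MorphismProperty.of_isPullback_of_descendsAlong (P := @Etale)
      (Q := (@Surjective ⊓ @Flat ⊓ @QuasiCompact : MorphismProperty Scheme.{u})) hpb' hQ hfst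

end Groth.Agent.S16675
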