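import Groth.Statements.S16676
import Mathlib

set_option autoImplicit false
universe u
open CategoryTheory CategoryTheory.Limits MonoidalCategory CartesianMonoidalCategory MonObj GrpObj AlgebraicGeometry
open AbVar

namespace Groth.Agent.S16676

/-- The equivalence of its second and third conditions. Let X and Y be abelian varieties over a field k
(proper, geometrically integral k-group schemes), f : X → Y a homomorphism which is finite, flat and
surjective (an isogeny), and i : N → X the kernel of f (the square formed by i, f, the unit section
of Y and the structure map of N is cartesian). Then f is universally injective (a purely inseparable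
morphism) if and only if the scheme N is connected. (The published item also includes the equivalent
condition that the function field of X is purely inseparable over that of Y; that clause is not part
of this statement.) -/
theorem result (k : Type u) [Field k]
    (X Y : Over (Spec (CommRingCat.of k)))
    [GrpObj X] [IsProper X.hom] [GeometricallyIntegral X.hom]
    [GrpObj Y] [IsProper Y.hom] [GeometricallyIntegral Y.hom]
    (f : X ⟶ Y) [IsMonHom f] [IsFinite f.left] [Flat f.left] [Surjective f.left]
    (N : Over (Spec (CommRingCat.of k))) (i : N ⟶ X) (hN : AlgGrp.IsKernel i f) :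
    UniversallyInjective f.left ↔ ConnectedSpace ↥N.left := by
  have hif : i ≫ f = 1 := by
    have h := hN.w
    rw [h, Hom.one_def]
  have hpbN := hN.map (Over.forget _)
  have hone : η[X] ≫ f = toUnit (𝟙_ (Over (Spec (CommRingCat.of k)))) ≫ η[Y] := by
    rw [IsMonHom.one_hom, toUnit_unique (toUnit (𝟙_ (Over (Spec (CommRingCat.of k))))) (𝟙 _),
      Category.id_comp]
  let e : 𝟙_ (Over (Spec (CommRingCat.of k))) ⟶ N := hN.lift η[X] (toUnit _) hone
  let S : Scheme.{u} := Spec (CommRingCat.of k)
  let el : S ⟶ N.left := e.left
  have hel : el ≫ N.hom = 𝟙 S := Over.w e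
  have hne : Nonempty ↥N.left := ⟨el.base (default : PrimeSpectrum k)⟩
  constructor
  · intro h
    have h1 : UniversallyInjective (toUnit N).left :=
      MorphismProperty.of_isPullback (P := @UniversallyInjective) hpbN h
    have hinj := (toUnit N).left.injective
    haveI : Subsingleton ↥N.left := by
      refine ⟨fun a b => hinj ?_⟩
      exact Subsingleton.elim (α := PrimeSpectrum k) _ _
    exact { toPreconnectedSpace := ⟨Set.subsingleton_univ.isPreconnected⟩, toNonempty := hne }
  · intro hconn
    have h0 : IsFinite (toUnit N).left :=
      MorphismProperty.of_isPullback (P := @IsFinite) hpbN (inferInstance : IsFinite f.left)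
    have hfin : IsFinite N.hom := h0
    haveI : IsAffine N.left := isAffine_of_isAffineHom N.hom
    have hfin' := (HasAffineProperty.iff_of_isAffine (P := @IsFinite) (f := N.hom)).mp hfin
    haveI hart : IsArtinianRing Γ(N.left, ⊤) := by
      have h2 := hfin'.2
      letI : Algebra Γ(Spec (CommRingCat.of k), ⊤) Γ(N.left, ⊤) := N.hom.appTop.hom.toAlgebra
      haveI : Module.Finite Γ(Spec (CommRingCat.of k), ⊤) Γ(N.left, ⊤) := h2
      haveI : IsArtinianRing Γ(Spec (CommRingCat.of k), ⊤) :=
        (Scheme.ΓSpecIso (CommRingCat.of k)).symm.commRingCatIsoToRingEquiv.surjective.isArtinianRing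
      exact IsArtinianRing.of_finite Γ(Spec (CommRingCat.of k), ⊤) Γ(N.left, ⊤)
    haveI : DiscreteTopology (Spec Γ(N.left, ⊤)) :=
      inferInstanceAs (DiscreteTopology (PrimeSpectrum _))
    haveI : DiscreteTopology ↥N.left := N.left.isoSpec.hom.homeomorph.symm.discreteTopology
    haveI : PreconnectedSpace ↥N.left := hconn.toPreconnectedSpace
    haveI : Subsingleton ↥N.left := PreconnectedSpace.trivial_of_discrete
    have hesurj : Surjective el :=
      ⟨fun y => ⟨(default : PrimeSpectrum k), Subsingleton.elim _ _⟩⟩
    have hdiag : Surjective (pullback.diagonal N.hom) := by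
      have h1 := MorphismProperty.pullbackMap (P := @Surjective) (f := 𝟙 S) (g := 𝟙 S)
        (f' := N.hom) (g' := N.hom) (i₁ := el) (i₂ := el) hesurj hesurj hel.symm hel.symm
      have h2 : pullback.map (𝟙 S) (𝟙 S) N.hom N.hom el el (𝟙 _)
          ((Category.comp_id _).trans hel.symm) ((Category.comp_id _).trans hel.symm) =
          (pullback.fst (𝟙 S) (𝟙 S) ≫ el) ≫ pullback.diagonal N.hom := by
        have hfs : pullback.fst (𝟙 S) (𝟙 S) = pullback.snd (𝟙 S) (𝟙 S) := by
          simpa using pullback.condition (f := 𝟙 S) (g := 𝟙 S)
        apply pullback.hom_ext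
        · exact (pullback.lift_fst _ _ _).trans (by simp)
        · exact (pullback.lift_snd _ _ _).trans (by rw [← hfs]; simp)
      rw [h2] at h1
      haveI := h1
      exact Surjective.of_comp (pullback.fst (𝟙 S) (𝟙 S) ≫ el) (pullback.diagonal N.hom)
    have hNinj : UniversallyInjective N.hom := by
      rw [UniversallyInjective.iff_diagonal]; exact hdiag
    let m : X ⊗ N ⟶ X := fst X N * (snd X N ≫ i)
    have hw : fst X N ≫ f = m ≫ f := by
      simp only [m]
      rw [MonObj.mul_comp, Category.assoc, hif, MonObj.comp_one, _root_.mul_one]
    have hcond : ∀ s : PullbackCone f f, (s.fst⁻¹ * s.snd) ≫ f = toUnit s.pt ≫ η[Y] := by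
      intro s
      rw [MonObj.mul_comp, GrpObj.inv_comp, s.condition, inv_mul_cancel, Hom.one_def]
    have hpb : IsPullback (fst X N) m f f := by
      refine IsPullback.of_isLimit (PullbackCone.IsLimit.mk hw
        (fun s => lift s.fst (hN.lift (s.fst⁻¹ * s.snd) (toUnit _) (hcond s))) ?_ ?_ ?_)
      · intro s; exact lift_fst _ _
      · intro s
        simp only [m]
        rw [MonObj.comp_mul, lift_fst, lift_snd_assoc, hN.lift_fst, mul_inv_cancel_left]
      · intro s m' h1 h2
        apply CartesianMonoidalCategory.hom_ext
        · rw [lift_fst]; exact h1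
        · rw [lift_snd]
          apply hN.hom_ext
          · rw [hN.lift_fst]
            have h3 : (m' ≫ fst X N) * (m' ≫ snd X N ≫ i) = s.snd := by
              rw [← MonObj.comp_mul]; exact h2
            rw [h1] at h3
            rw [Category.assoc, ← h3, inv_mul_cancel_left]
          · exact toUnit_unique _ _
    have hpb' := hpb.map (Over.forget _)
    have hQ : (@Surjective ⊓ @Flat ⊓ @QuasiCompact : MorphismProperty Scheme.{u}) f.left :=
      ⟨⟨inferInstance, inferInstance⟩, inferInstance⟩
    have hfst : UniversallyInjective (fst X N).left := by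
      rw [Over.fst_left]
      exact MorphismProperty.pullback_fst (P := @UniversallyInjective) _ _ hNinj
    exact MorphismProperty.of_isPullback_of_descendsAlong (P := @UniversallyInjective)
      (Q := (@Surjective ⊓ @Flat ⊓ @QuasiCompact : MorphismProperty Scheme.{u})) hpb' hQ hfst

end Groth.Agent.S16676
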