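import Groth.Statements.S16707
import Mathlib
-- import your own Groth.Agent.* helpers here

set_option autoImplicit false
universe u v
open CAlg

namespace Groth.Agent.S16707

open TensorProduct in
/-- Let A be a commutative ring, I a nilpotent ideal of A and f : M → N a homomorphism of A-modules with
N flat over A (no finiteness assumption on M or N). If the base change of f to A/I, that is M/IM →
N/IN, is bijective, then f is bijective. -/
theorem result (A : Type u) [CommRing A] (I : Ideal A)
    (hI : IsNilpotent I) (M N : Type v) [AddCommGroup M] [Module A M] [AddCommGroup N] [Module A N]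
    [Module.Flat A N] (f : M →ₗ[A] N)
    (hf : Function.Bijective (f.baseChange (A ⧸ I))) :
    Function.Bijective f := by
  classical
  obtain ⟨n, hn⟩ := hI
  have hι0 : ∀ (X : Type v) [AddCommGroup X] [Module A X] (x : X),
      ((1 : A ⧸ I) ⊗ₜ[A] x = 0) ↔ x ∈ (I • ⊤ : Submodule A X) := by
    intro X _ _ x
    rw [← (TensorProduct.quotTensorEquivQuotSMul X I).map_eq_zero_iff,
      TensorProduct.quotTensorEquivQuotSMul_mk_one_tmul, Submodule.Quotient.mk_eq_zero]
  have hιsurj : ∀ (X : Type v) [AddCommGroup X] [Module A X] (t : (A ⧸ I) ⊗[A] X),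
      ∃ x : X, t = (1 : A ⧸ I) ⊗ₜ[A] x := by
    intro X _ _ t
    obtain ⟨x, hx⟩ := Submodule.Quotient.mk_surjective _
      (TensorProduct.quotTensorEquivQuotSMul X I t)
    refine ⟨x, (TensorProduct.quotTensorEquivQuotSMul X I).injective ?_⟩
    rw [TensorProduct.quotTensorEquivQuotSMul_mk_one_tmul, hx]
  have hbc : ∀ m : M, f.baseChange (A ⧸ I) ((1 : A ⧸ I) ⊗ₜ[A] m) = (1 : A ⧸ I) ⊗ₜ[A] f m :=
    fun m => LinearMap.baseChange_tmul _ _ _
  have hsurj : Function.Surjective f := by
    rw [← LinearMap.range_eq_top]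
    have H : (⊤ : Submodule A N) ≤ LinearMap.range f ⊔ I • ⊤ := by
      intro y _
      obtain ⟨t, ht⟩ := hf.2 ((1 : A ⧸ I) ⊗ₜ[A] y)
      obtain ⟨m, rfl⟩ := hιsurj M t
      rw [hbc] at ht
      have h0 : (1 : A ⧸ I) ⊗ₜ[A] (y - f m) = 0 := by
        rw [TensorProduct.tmul_sub, ht, sub_self]
      have hmem := (hι0 N _).mp h0
      have : y = f m + (y - f m) := by abel
      rw [this]
      exact Submodule.add_mem_sup ⟨m, rfl⟩ hmem
    have Hk : ∀ k : ℕ, (⊤ : Submodule A N) ≤ LinearMap.range f ⊔ I ^ k • ⊤ := by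
      intro k
      induction k with
      | zero => rw [pow_zero, Ideal.one_eq_top, Submodule.top_smul]; exact le_sup_right
      | succ k ih =>
        have h1 : (I ^ k • ⊤ : Submodule A N) ≤ LinearMap.range f ⊔ I ^ (k+1) • ⊤ := by
          calc (I ^ k • ⊤ : Submodule A N)
              ≤ I ^ k • (LinearMap.range f ⊔ I • ⊤) := Submodule.smul_mono le_rfl H
            _ = I ^ k • LinearMap.range f ⊔ I ^ k • (I • ⊤) := Submodule.smul_sup _ _ _
            _ ≤ LinearMap.range f ⊔ I ^ (k+1) • ⊤ := by
                apply sup_le_sup Submodule.smul_le_right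
                rw [← Submodule.mul_smul, ← pow_succ]
        exact ih.trans (sup_le le_sup_left h1)
    have := Hk n
    rw [hn, Ideal.zero_eq_bot, Submodule.bot_smul, sup_bot_eq] at this
    exact top_le_iff.mp this
  refine ⟨?_, hsurj⟩
  rw [← LinearMap.ker_eq_bot]
  have HK : LinearMap.ker f ≤ I • LinearMap.ker f := by
    intro x hx
    rw [LinearMap.mem_ker] at hx
    have h0 : (1 : A ⧸ I) ⊗ₜ[A] x = 0 := by
      apply hf.1
      rw [hbc, hx, TensorProduct.tmul_zero, map_zero]
    have hxI : x ∈ (I • ⊤ : Submodule A M) := (hι0 M x).mp h0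
    have hspan : (⊤ : Submodule A M) = Submodule.span A (Set.range (id : M → M)) := by simp
    rw [hspan, Submodule.mem_ideal_smul_span_iff_exists_sum] at hxI
    obtain ⟨a, ha, hax⟩ := hxI
    have hsum : ∑ i : a.support, a i.1 • f i.1 = 0 := by
      rw [Finset.sum_coe_sort a.support (fun m => a m • f m)]
      rw [← hx, ← hax, Finsupp.sum, map_sum]
      apply Finset.sum_congr rfl
      intro m _
      rw [map_smul]; rfl
    obtain ⟨k, b, y, hy0, hb0⟩ := Module.Flat.isTrivialRelation_of_sum_smul_eq_zero hsum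
    have hy : ∀ i : a.support, f i.1 = ∑ j, b i j • y j := hy0
    have hb : ∀ j, ∑ i : a.support, a i.1 * b i j = 0 := hb0
    choose e he using fun j => hsurj (y j)
    have hκ : ∀ i : a.support, i.1 - ∑ j, b i j • e j ∈ LinearMap.ker f := by
      intro i
      rw [LinearMap.mem_ker, map_sub, map_sum, hy i, sub_eq_zero]
      apply Finset.sum_congr rfl
      intro j _
      rw [map_smul, he]
    have hx' : x = ∑ i : a.support, a i.1 • (i.1 - ∑ j, b i j • e j) := by
      have h1 : ∑ i : a.support, a i.1 • ∑ j, b i j • e j = 0 := by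
        simp_rw [Finset.smul_sum, smul_smul]
        rw [Finset.sum_comm]
        apply Finset.sum_eq_zero
        intro j _
        rw [← Finset.sum_smul, hb j, zero_smul]
      simp_rw [smul_sub]
      rw [Finset.sum_sub_distrib, h1, sub_zero,
        Finset.sum_coe_sort a.support (fun m => a m • m)]
      rw [← hax]; rfl
    rw [hx']
    exact Submodule.sum_mem _ (fun i _ => Submodule.smul_mem_smul (ha i.1) (hκ i))
  have HKk : ∀ k : ℕ, LinearMap.ker f ≤ I ^ k • LinearMap.ker f := by
    intro k
    induction k with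
    | zero => rw [pow_zero, Ideal.one_eq_top, Submodule.top_smul]
    | succ k ih =>
      calc LinearMap.ker f ≤ I • LinearMap.ker f := HK
        _ ≤ I • (I ^ k • LinearMap.ker f) := Submodule.smul_mono le_rfl ih
        _ = I ^ (k+1) • LinearMap.ker f := by rw [← Submodule.mul_smul, ← pow_succ']
  have := HKk n
  rw [hn, Ideal.zero_eq_bot, Submodule.bot_smul] at this
  exact le_bot_iff.mp this

end Groth.Agent.S16707
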