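import Groth.Statements.S16708
import Groth.Agent.Lib.helper8.HomComodLib
import Groth.Agent.Lib.helper8.ReynoldsU

set_option autoImplicit false
universe u
open HopfRep

namespace Groth.Agent.S16708

/-- Let G be a finite group and k a field in which the order of G is a nonzero element. Then the
constant group scheme of G over k is linearly reductive: every finite-dimensional comodule over its
coordinate Hopf algebra (the algebra of functions G → k with the Hopf structure of the constant
group) is semisimple, i.e. every subcomodule admits a complementary subcomodule. -/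
theorem result (k : Type u) [Field k] (G : Type u) [Group G]
    [Fintype G] [DecidableEq G] (hG : ((Fintype.card G : ℕ) : k) ≠ 0) :
    HopfRep.IsLinearlyReductive k (ConstGrp.F k G) := by
  classical
  apply H8Hom.semisimple_of_exact k (ConstGrp.F k G)
  intro V W _ _ _ _ _ _ φ hφ hsurj w hw
  obtain ⟨c, hc⟩ : ∃ c : k, c = ((Fintype.card G : ℕ) : k)⁻¹ := ⟨_, rfl⟩
  obtain ⟨I, hI⟩ : ∃ I : ConstGrp.F k G →ₗ[k] k,
      I = c • ∑ g : G, (ConstGrp.ev k g).toLinearMap := ⟨_, rfl⟩
  have hIapp : ∀ f : ConstGrp.F k G, I f = c * ∑ g : G, f g := by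
    intro f
    rw [hI, LinearMap.smul_apply, LinearMap.sum_apply, smul_eq_mul]
    rfl
  have hI1 : I 1 = 1 := by
    rw [hIapp]
    simp only [ConstGrp.one_apply, Finset.sum_const, Finset.card_univ, nsmul_eq_mul, mul_one]
    rw [hc]
    exact inv_mul_cancel₀ hG
  have hIe : ∀ b : G, I (ConstGrp.e k b) = c := by
    intro b
    rw [hIapp]
    simp only [ConstGrp.e_apply, Finset.sum_ite_eq', Finset.mem_univ, if_true, mul_one]
  have hconv : ∀ ψ : ConstGrp.F k G →ₗ[k] k,
      Groth.Agent.Lib.helper4.h4conv ψ I = ψ 1 • I := by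
    intro ψ
    apply LinearMap.ext
    intro f
    rw [Groth.Agent.Lib.helper4.h4conv]
    simp only [LinearMap.comp_apply, LinearEquiv.coe_coe, LinearMap.smul_apply]
    rw [ConstGrp.comul_eq_sum]
    simp only [map_sum, map_smul, TensorProduct.map_tmul, TensorProduct.lid_tmul, hIe, smul_eq_mul]
    have hterm : ∀ a : G, ∑ b : G, f (a * b) * (ψ (ConstGrp.e k a) * c) =
        ψ (ConstGrp.e k a) * (c * ∑ g : G, f g) := by
      intro a
      rw [← Finset.sum_mul,
        Fintype.sum_equiv (Equiv.mulLeft a) (fun b => f (a * b)) (fun g => f g) (fun b => rfl)]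
      ring
    rw [Finset.sum_congr rfl (fun a _ => hterm a), hIapp, ← ConstGrp.sum_e (R := k) (G := G),
      map_sum, Finset.sum_mul]
  have hE_fixed : ∀ u : V, Groth.Agent.Lib.helper4.h4T I u ∈
      HopfRep.fixedPts k (ConstGrp.F k G) V := by
    intro u
    rw [H8Rey.inv_iff]
    intro ψ
    rw [Groth.Agent.Lib.helper4.h4T_comp, hconv, Groth.Agent.Lib.helper4.h4T_apply,
      Groth.Agent.Lib.helper4.h4T_apply, LinearMap.lTensor_smul, LinearMap.smul_apply, map_smul]
  obtain ⟨v0, rfl⟩ := hsurj w
  refine ⟨Groth.Agent.Lib.helper4.h4T I v0, hE_fixed v0, ?_⟩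
  have hφ' : Hoch.IsComodHom (ConstGrp.F k G) φ := hφ.symm
  rw [Groth.Agent.Lib.helper4.h4T_comodHom φ hφ' I v0, (H8Rey.inv_iff (φ v0)).1 hw I, hI1, one_smul]

end Groth.Agent.S16708
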