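import Groth.Statements.S16717
import Groth.Agent.Lib.helper8.HomComodLib
import Groth.Agent.Lib.helper8.ReynoldsU

set_option autoImplicit false
universe u v
open HopfRep

namespace Groth.Agent.S16717

open TensorProduct in
/-- Equivalence of the exactness of invariants with complete reducibility of finite-dimensional
representations. Let k be a field and A a finitely generated commutative Hopf algebra over k (the
coordinate ring of an affine algebraic group G). Then every finite-dimensional A-comodule is
semisimple if and only if taking fixed vectors is exact, i.e. for every surjective comodule map φ :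
V → W between A-comodules (of any dimension; φ k-linear with (φ ⊗ id) ∘ ρ_V = ρ_W ∘ φ) every fixed
vector of W is the image of a fixed vector of V. -/
theorem result (k : Type u) [Field k] (A : Type v)
    [CommRing A] [HopfAlgebra k A] (hA : Algebra.FiniteType k A) :
    HopfRep.IsLinearlyReductive k A ↔
      ∀ (V W : Type v) [AddCommGroup V] [Module k V] [HopfRep.Comod k A V]
        [AddCommGroup W] [Module k W] [HopfRep.Comod k A W] (φ : V →ₗ[k] W),
        LinearMap.rTensor A φ ∘ₗ HopfRep.Comod.coact (k := k) (A := A) (V := V) =
            HopfRep.Comod.coact (k := k) (A := A) (V := W) ∘ₗ φ →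
          Function.Surjective φ →
            ∀ w ∈ HopfRep.fixedPts k A W, ∃ v ∈ HopfRep.fixedPts k A V, φ v = w := by
  constructor
  · intro hG V W _ _ _ _ _ _ φ hφ hsurj w hw
    have hφ' : Hoch.IsComodHom A φ := hφ.symm
    obtain ⟨EV, hV1, hV2, hV3⟩ := H8Rey.exists_reynolds (V := V) hG
    obtain ⟨EW, hW1, hW2, hW3⟩ := H8Rey.exists_reynolds (V := W) hG
    have hcomm := H8Rey.reynolds_comm hG EV hV1 hV2 hV3 EW hW1 hW2 hW3 φ hφ'
    obtain ⟨v₀, hv₀⟩ := hsurj w
    refine ⟨EV v₀, ?_, ?_⟩
    · rw [← hV3]
      exact LinearMap.congr_fun hV2 v₀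
    · have h1 := LinearMap.congr_fun hcomm v₀
      simp only [LinearMap.comp_apply] at h1
      rw [← h1, hv₀]
      exact (hW3 w).2 hw
  · intro Hex
    exact H8Hom.semisimple_of_exact k A Hex

end Groth.Agent.S16717
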