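import Groth.Statements.S16718
import Mathlib
import Groth.Agent.Lib.helper4.Comod
-- import your own Groth.Agent.* helpers here

set_option autoImplicit false
universe u v w
open TensorProduct
open GLin

namespace Groth.Agent.S16718

/-- Let k be a field, A a finitely generated commutative Hopf algebra over k (an affine algebraic group
G), R a finitely generated commutative k-algebra carrying an A-comodule structure whose coaction is
an algebra homomorphism (an action of G on X = Spec R), and I an ideal of R which is a subcomodule
(a G-invariant closed subscheme Z of X). Then there is a finite-dimensional subcomodule W of R with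
W ⊆ I generating I as an ideal; equivalently there is a G-equivariant morphism f from X to the
affine space of a finite-dimensional G-representation with f⁻¹(0) = Z as closed subschemes. -/
theorem result (k : Type u) [Field k]
    (A : Type v) [CommRing A] [HopfAlgebra k A] (hA : Algebra.FiniteType k A)
    (R : Type w) [CommRing R] [Algebra k R] [HopfRep.Comod k A R] [GLin.IsCoactAlg k A R]
    (hR : Algebra.FiniteType k R) (I : Ideal R)
    (hI : HopfRep.IsSubcomod (k := k) (A := A) (I.restrictScalars k)) :
    ∃ W : Submodule k R, Module.Finite k W ∧ HopfRep.IsSubcomod (k := k) (A := A) W ∧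
      W ≤ I.restrictScalars k ∧ Ideal.span (W : Set R) = I := by
  classical
  haveI := hR
  haveI : IsNoetherianRing R := Algebra.FiniteType.isNoetherianRing k R
  obtain ⟨s, hs⟩ := (isNoetherianRing_iff_ideal_fg R).mp inferInstance I
  choose Wf hWfin hWmem hWsub using fun r : R =>
    Groth.Agent.Lib.helper4.h4_exists_finite_subcomod (k := k) (C := A) (V := R) r
  haveI : ∀ r, Module.Finite k ↥(Wf r ⊓ I.restrictScalars k) := fun r => by
    haveI := hWfin r
    exact Submodule.finiteDimensional_inf_left (Wf r) (I.restrictScalars k)
  have hsI : ∀ r ∈ s, r ∈ I := fun r hr => by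
    rw [← hs]; exact Ideal.subset_span hr
  refine ⟨s.sup (fun r => Wf r ⊓ I.restrictScalars k), Submodule.finite_finset_sup _ _, ?_,
    Finset.sup_le fun r _ => inf_le_right, ?_⟩
  · rw [Groth.Agent.Lib.helper4.h4_isSubcomod_iff]
    intro φ w hw
    have hle : s.sup (fun r => Wf r ⊓ I.restrictScalars k) ≤
        (s.sup (fun r => Wf r ⊓ I.restrictScalars k)).comap (Groth.Agent.Lib.helper4.h4T φ) := by
      refine Finset.sup_le fun r hr x hx => ?_
      rw [Submodule.mem_comap]
      refine (Finset.le_sup (f := fun r => Wf r ⊓ I.restrictScalars k) hr) ?_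
      exact ⟨(Groth.Agent.Lib.helper4.h4_isSubcomod_iff (Wf r)).mp (hWsub r) φ x hx.1,
        (Groth.Agent.Lib.helper4.h4_isSubcomod_iff (I.restrictScalars k)).mp hI φ x hx.2⟩
    exact hle hw
  · apply le_antisymm
    · rw [Ideal.span_le]
      intro x hx
      have : s.sup (fun r => Wf r ⊓ I.restrictScalars k) ≤ I.restrictScalars k :=
        Finset.sup_le fun r _ => inf_le_right
      exact this hx
    · have hsub : (s : Set R) ⊆ ((s.sup fun r => Wf r ⊓ I.restrictScalars k : Submodule k R) : Set R) :=
        fun r hr => (Finset.le_sup (f := fun r => Wf r ⊓ I.restrictScalars k) hr)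
          ⟨hWmem r, hsI r hr⟩
      calc I = Ideal.span (s : Set R) := hs.symm
        _ ≤ Ideal.span _ := Ideal.span_mono hsub

end Groth.Agent.S16718
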