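import Groth.Statements.S16737
import Mathlib
-- import your own Groth.Agent.* helpers here

set_option autoImplicit false
universe u v
open DeRham

namespace Groth.Agent.S16737

/-- The case of affine space over an affine base of characteristic p, in degree zero. Let p be a prime
and R a commutative ring with p = 0 in R. For a polynomial f over R in any set of variables t_i, the
Kähler differential df in Ω_{R[t]/R} vanishes if and only if f is a polynomial in the p-th powers of
the variables, f = g(t_i^p). Equivalently, the functions on affine space over R killed by the
differential of the de Rham complex are exactly the functions on its Frobenius twist. (The published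
computation is for finitely many variables over a noetherian base of characteristic p; the statement
here allows any commutative ring with p = 0 and any set of variables.) -/
theorem result (p : ℕ) [Fact p.Prime]
    (R : Type u) [CommRing R] [CharP R p] (σ : Type v) (f : MvPolynomial σ R) :
    KaehlerDifferential.D R (MvPolynomial σ R) f = 0 ↔
      ∃ g : MvPolynomial σ R, f = MvPolynomial.expand p g := by
  classical
  have hp : p.Prime := Fact.out
  have hD : KaehlerDifferential.D R (MvPolynomial σ R) f = 0 ↔
      ∀ i, MvPolynomial.pderiv i f = 0 := by
    constructor
    · intro h i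
      rw [← KaehlerDifferential.mvPolynomialBasis_repr_apply, h, map_zero]; rfl
    · intro h
      apply (KaehlerDifferential.mvPolynomialBasis R σ).repr.injective
      ext i
      rw [KaehlerDifferential.mvPolynomialBasis_repr_apply, h i, map_zero]; rfl
  rw [hD]
  constructor
  · intro h
    have hdiv : ∀ m ∈ f.support, ∀ i, p ∣ m i := by
      intro m hm i
      by_contra hnd
      have hmi : m i ≠ 0 := fun h0 => hnd (h0 ▸ dvd_zero p)
      have hm' : m = (m - Finsupp.single i 1) + Finsupp.single i 1 := by
        ext j
        by_cases hj : j = i
        · subst hj
          simp only [Finsupp.coe_add, Finsupp.coe_tsub, Pi.add_apply, Pi.sub_apply,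
            Finsupp.single_eq_same]
          omega
        · simp [Finsupp.single_eq_of_ne (Ne.symm hj), Finsupp.single_eq_of_ne hj]
      have hc := congrArg (MvPolynomial.coeff (m - Finsupp.single i 1)) (h i)
      rw [MvPolynomial.coeff_pderiv, ← hm', MvPolynomial.coeff_zero] at hc
      have hcast : ((((m - Finsupp.single i 1 : σ →₀ ℕ) i : ℕ) : R)) + 1 = ((m i : ℕ) : R) := by
        have h1 : (m - Finsupp.single i 1 : σ →₀ ℕ) i + 1 = m i := by
          simp only [Finsupp.coe_tsub, Pi.sub_apply, Finsupp.single_eq_same]
          omega
        rw [← h1]; push_cast; ring
      rw [hcast] at hc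
      have hunit : IsUnit ((m i : ℕ) : R) := by
        have hcop : IsCoprime ((m i : ℕ) : ℤ) (p : ℤ) := by
          rw [Nat.isCoprime_iff_coprime]
          exact (Nat.Coprime.symm ((Nat.Prime.coprime_iff_not_dvd hp).mpr hnd))
        obtain ⟨s, t, hst⟩ := hcop
        have hst' : (s : R) * ((m i : ℕ) : R) + (t : R) * (p : R) = 1 := by
          have := congrArg (Int.cast : ℤ → R) hst
          push_cast at this
          exact this
        rw [CharP.cast_eq_zero R p, mul_zero, add_zero] at hst'
        exact IsUnit.of_mul_eq_one _ (by rw [mul_comm]; exact hst')
      have h0 : MvPolynomial.coeff m f = 0 := hunit.mul_left_eq_zero.mp hc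
      exact (MvPolynomial.mem_support_iff.mp hm) h0
    refine ⟨∑ m ∈ f.support,
      MvPolynomial.monomial (m.mapRange (· / p) (by simp)) (f.coeff m), ?_⟩
    rw [map_sum]
    conv_lhs => rw [f.as_sum]
    apply Finset.sum_congr rfl
    intro m hm
    rw [MvPolynomial.expand_monomial]
    have hmm : p • (m.mapRange (· / p) (by simp)) = m := by
      ext i
      simp [Nat.mul_div_cancel' (hdiv m hm i)]
    rw [hmm]
  · rintro ⟨g, rfl⟩ i
    clear hD
    induction g using MvPolynomial.induction_on with
    | C a => simp
    | add f g hf hg => rw [map_add, map_add, hf, hg, add_zero]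
    | mul_X f j hf =>
      rw [map_mul, MvPolynomial.expand_X, MvPolynomial.pderiv_mul, hf, zero_mul, zero_add,
        MvPolynomial.pderiv_pow]
      have : ((p : ℕ) : MvPolynomial σ R) = 0 := CharP.cast_eq_zero _ p
      rw [this]
      ring

end Groth.Agent.S16737
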