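import Groth.Statements.S16762
import Mathlib
-- import your own Groth.Agent.* helpers here

set_option autoImplicit false
universe u
open CAlgX

namespace Groth.Agent.S16762

open TensorProduct in
theorem fwd {A A' : Type u} [CommRing A] [CommRing A'] [Algebra A A'] {M N : Type u}
    [AddCommGroup M] [Module A M] [AddCommGroup N] [Module A N] (u : M →ₗ[A] N)
    (Q' : Type u) [AddCommGroup Q'] [Module A' Q'] [Module A Q'] [IsScalarTower A A' Q']
    (h : Function.Injective (u.rTensor Q')) :
    Function.Injective ((u.baseChange A').rTensor Q') := by
  have key : ∀ t : (A' ⊗[A] M) ⊗[A'] Q',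
      TensorProduct.comm A Q' N (TensorProduct.AlgebraTensorModule.cancelBaseChange A A' A' Q' N
        (TensorProduct.comm A' (A' ⊗[A] N) Q' ((u.baseChange A').rTensor Q' t)))
      = (u.rTensor Q') (TensorProduct.comm A Q' M
        (TensorProduct.AlgebraTensorModule.cancelBaseChange A A' A' Q' M
          (TensorProduct.comm A' (A' ⊗[A] M) Q' t))) := by
    intro t
    induction t using TensorProduct.induction_on with
    | zero => simp only [map_zero]
    | add x y hx hy => simp only [map_add, hx, hy]
    | tmul z q =>
      induction z using TensorProduct.induction_on with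
      | zero => simp only [TensorProduct.zero_tmul, map_zero]
      | add x y hx hy => simp only [TensorProduct.add_tmul, map_add, hx, hy]
      | tmul a m =>
        simp only [LinearMap.rTensor_tmul, LinearMap.baseChange_tmul, TensorProduct.comm_tmul,
          TensorProduct.AlgebraTensorModule.cancelBaseChange_tmul]
  rw [injective_iff_map_eq_zero]
  intro t ht
  have h1 := key t
  rw [ht] at h1
  simp only [map_zero] at h1
  have h2 := (injective_iff_map_eq_zero (u.rTensor Q')).mp h _ h1.symm
  have h3 := (TensorProduct.comm A Q' M).map_eq_zero_iff.mp h2
  have h4 := (TensorProduct.AlgebraTensorModule.cancelBaseChange A A' A' Q' M).map_eq_zero_iff.mp h3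
  exact (TensorProduct.comm A' (A' ⊗[A] M) Q').map_eq_zero_iff.mp h4

open TensorProduct in
theorem bwd {A A' : Type u} [CommRing A] [CommRing A'] [Algebra A A']
    [Module.FaithfullyFlat A A'] {M N : Type u}
    [AddCommGroup M] [Module A M] [AddCommGroup N] [Module A N] (u : M →ₗ[A] N)
    (Q : Type u) [AddCommGroup Q] [Module A Q]
    (h : Function.Injective ((u.baseChange A').rTensor (A' ⊗[A] Q))) :
    Function.Injective (u.rTensor Q) := by
  rw [← Module.FaithfullyFlat.lTensor_injective_iff_injective A A' (u.rTensor Q)]
  have key : ∀ t : A' ⊗[A] (M ⊗[A] Q),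
      TensorProduct.AlgebraTensorModule.distribBaseChange A A' N Q ((u.rTensor Q).lTensor A' t)
      = ((u.baseChange A').rTensor (A' ⊗[A] Q))
        (TensorProduct.AlgebraTensorModule.distribBaseChange A A' M Q t) := by
    intro t
    induction t using TensorProduct.induction_on with
    | zero => simp only [map_zero]
    | add x y hx hy => simp only [map_add, hx, hy]
    | tmul a z =>
      induction z using TensorProduct.induction_on with
      | zero => simp only [TensorProduct.tmul_zero, map_zero]
      | add x y hx hy => simp only [TensorProduct.tmul_add, map_add, hx, hy]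
      | tmul m q =>
        simp only [LinearMap.lTensor_tmul, LinearMap.rTensor_tmul, LinearMap.baseChange_tmul,
          TensorProduct.AlgebraTensorModule.distribBaseChange_tmul]
  rw [injective_iff_map_eq_zero]
  intro t ht
  have h1 := key t
  rw [ht, map_zero] at h1
  have h2 := (injective_iff_map_eq_zero _).mp h _ h1.symm
  exact (TensorProduct.AlgebraTensorModule.distribBaseChange A A' M Q).map_eq_zero_iff.mp h2


/-- Let A → A' be faithfully flat and u : M → N a map of A-modules. Then u is universally injective (u ⊗
id_Q injective for every A-module Q) if and only if its base change A' ⊗_A M → A' ⊗_A N is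
universally injective as a map of A'-modules. -/
theorem result (A A' : Type u) [CommRing A] [CommRing A']
    [Algebra A A'] [Module.FaithfullyFlat A A'] {M N : Type u} [AddCommGroup M] [Module A M]
    [AddCommGroup N] [Module A N] (u : M →ₗ[A] N) :
    CAlgX.UniversallyInjective A u ↔ CAlgX.UniversallyInjective A' (u.baseChange A') := by
  constructor
  · intro hu Q' _ _
    letI : Module A Q' := Module.compHom Q' (algebraMap A A')
    haveI : IsScalarTower A A' Q' := IsScalarTower.of_algebraMap_smul fun _ _ => rfl
    exact fwd u Q' (hu Q')
  · intro hu Q _ _
    exact bwd u Q (hu (TensorProduct A A' Q))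

end Groth.Agent.S16762
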