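import Groth.Statements.S16792
import Mathlib

set_option autoImplicit false
universe v u
open LogConn

namespace Groth.Agent.S16792

section Aux

open TensorProduct

variable {A : Type v} {B L E : Type u} [CommRing A] [CommRing B]
    [Algebra A B] [AddCommGroup L] [Module B L] [Module A L] [IsScalarTower A B L]
    [AddCommGroup E] [Module B E] [Module A E] [IsScalarTower A B E]

theorem prod_sdiff_mul {n : ℕ} (t : Fin n → B) (I J J' : Finset (Fin n)) (hJ : J ⊆ I)
    (hJ' : J' ⊆ J) :
    (∏ i ∈ I \ J, t i) * (∏ i ∈ J \ J', t i) = ∏ i ∈ I \ J', t i := by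
  rw [← Finset.prod_union]
  · congr 1
    ext x
    simp only [Finset.mem_union, Finset.mem_sdiff]
    constructor
    · rintro (⟨h1, h2⟩ | ⟨h1, h2⟩)
      · exact ⟨h1, fun h => h2 (hJ' h)⟩
      · exact ⟨hJ h1, h2⟩
    · rintro ⟨h1, h2⟩
      by_cases h : x ∈ J
      · exact Or.inr ⟨h, h2⟩
      · exact Or.inl ⟨h1, h⟩
  · rw [Finset.disjoint_left]
    intro x hx1 hx2
    exact (Finset.mem_sdiff.1 hx1).2 (Finset.mem_sdiff.1 hx2).1

theorem sdiff_aux {n : ℕ} (a : Fin n) (J0 J' : Finset (Fin n)) (ha : a ∉ J0) :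
    insert a J0 \ insert a J' = J0 \ J' := by
  ext x
  simp only [Finset.mem_sdiff, Finset.mem_insert, not_or]
  constructor
  · rintro ⟨h1 | h1, h2, h3⟩
    · exact absurd h1 h2
    · exact ⟨h1, h3⟩
  · rintro ⟨h1, h2⟩
    exact ⟨Or.inr h1, fun h => ha (h ▸ h1), h2⟩

theorem sdiff_aux2 {n : ℕ} (a : Fin n) (J0 : Finset (Fin n)) (ha : a ∉ J0) :
    insert a J0 \ J0 = {a} := by
  ext x
  simp only [Finset.mem_sdiff, Finset.mem_insert, Finset.mem_singleton]
  constructor
  · rintro ⟨h1 | h1, h2⟩
    · exact h1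
    · exact absurd h1 h2
  · intro h
    exact ⟨Or.inl h, fun h' => ha (h ▸ h')⟩

theorem compProd_empty (nabla : E →ₗ[A] E ⊗[B] L) {n : ℕ} (ω : Module.Basis (Fin n) B L) :
    LogConn.compProd nabla ω ∅ = LinearMap.id := by
  unfold LogConn.compProd
  rw [Finset.sort_empty]
  rfl

theorem compProd_insert (nabla : E →ₗ[A] E ⊗[B] L) {n : ℕ} (ω : Module.Basis (Fin n) B L)
    (a : Fin n) (J : Finset (Fin n)) (h : ∀ x ∈ J, a < x) :
    LogConn.compProd nabla ω (insert a J) =
      LogConn.comp nabla ω a ∘ₗ LogConn.compProd nabla ω J := by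
  unfold LogConn.compProd
  rw [Finset.sort_insert (· ≤ ·) (fun b hb => (h b hb).le) (fun ha => lt_irrefl a (h a ha)),
    List.foldr_cons]

theorem gen_mem (nabla : E →ₗ[A] E ⊗[B] L) {n : ℕ} (ω : Module.Basis (Fin n) B L)
    (t : Fin n → B) (I J : Finset (Fin n)) (hJ : J ⊆ I) (e : E) :
    (∏ i ∈ I \ J, t i) • LogConn.compProd nabla ω J e ∈ LogConn.piece nabla ω t I := by
  unfold LogConn.piece
  refine Submodule.mem_iSup_of_mem J (Submodule.mem_iSup_of_mem (Finset.mem_powerset.2 hJ) ?_)
  exact LinearMap.mem_range.2 ⟨e, rfl⟩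

theorem piece_le (nabla : E →ₗ[A] E ⊗[B] L) {n : ℕ} (ω : Module.Basis (Fin n) B L)
    (t : Fin n → B) (I : Finset (Fin n)) (N : Submodule A E)
    (h : ∀ J, J ⊆ I → ∀ e, (∏ i ∈ I \ J, t i) • LogConn.compProd nabla ω J e ∈ N) :
    LogConn.piece nabla ω t I ≤ N := by
  unfold LogConn.piece
  refine iSup_le fun J => iSup_le fun hJ => ?_
  rintro _ ⟨e, rfl⟩
  exact h J (Finset.mem_powerset.1 hJ) e

theorem smul_piece_mem (nabla : E →ₗ[A] E ⊗[B] L) {n : ℕ} (ω : Module.Basis (Fin n) B L)
    (t : Fin n → B) (I J : Finset (Fin n)) (hJ : J ⊆ I) {x : E}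
    (hx : x ∈ LogConn.piece nabla ω t J) :
    (∏ i ∈ I \ J, t i) • x ∈ LogConn.piece nabla ω t I := by
  have hle : LogConn.piece nabla ω t J ≤
      Submodule.comap ((LinearMap.lsmul B E (∏ i ∈ I \ J, t i)).restrictScalars A)
        (LogConn.piece nabla ω t I) := by
    apply piece_le
    intro J' hJ' e
    rw [Submodule.mem_comap]
    show (∏ i ∈ I \ J, t i) • ((∏ i ∈ J \ J', t i) • LogConn.compProd nabla ω J' e) ∈ _
    rw [smul_smul, prod_sdiff_mul t I J J' hJ hJ']
    exact gen_mem nabla ω t I J' (hJ'.trans hJ) e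
  exact hle hx

theorem comp_smul (lam : B) {n : ℕ} (t : Fin n → B)
    (bΩ : Module.Basis (Fin n) B (KaehlerDifferential A B))
    (hbΩ : ∀ i, bΩ i = KaehlerDifferential.D A B (t i))
    (ω : Module.Basis (Fin n) B L) (ι : KaehlerDifferential A B →ₗ[B] L)
    (hι : ∀ i, ι (KaehlerDifferential.D A B (t i)) = t i • ω i)
    (nabla : E →ₗ[A] E ⊗[B] L)
    (hc : Conn.IsLamConn (ι.compDer (KaehlerDifferential.D A B)) lam nabla)
    (i : Fin n) (b : B) (e : E) :
    LogConn.comp nabla ω i (b • e) =
      b • LogConn.comp nabla ω i e +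
        (lam * (bΩ.repr (KaehlerDifferential.D A B b) i * t i)) • e := by
  have h1 : ι (KaehlerDifferential.D A B b) =
      ∑ j, (bΩ.repr (KaehlerDifferential.D A B b) j * t j) • ω j := by
    have h0 := congrArg ι (bΩ.sum_repr (KaehlerDifferential.D A B b)).symm
    rw [h0, map_sum]
    refine Finset.sum_congr rfl fun j _ => ?_
    rw [map_smul, hbΩ, hι, smul_smul]
  have key : ω.coord i (ι (KaehlerDifferential.D A B b)) =
      bΩ.repr (KaehlerDifferential.D A B b) i * t i := by
    rw [h1, map_sum, Finset.sum_eq_single i]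
    · rw [map_smul, Module.Basis.coord_apply, Module.Basis.repr_self, Finsupp.single_apply,
        if_pos rfl, smul_eq_mul, mul_one]
    · intro j _ hji
      rw [map_smul, Module.Basis.coord_apply, Module.Basis.repr_self, Finsupp.single_apply,
        if_neg hji, smul_eq_mul, mul_zero]
    · intro hi; exact absurd (Finset.mem_univ i) hi
  unfold LogConn.comp
  rw [Conn.along_apply, Conn.along_apply, hc b e]
  have h2 : (ι.compDer (KaehlerDifferential.D A B)) b = ι (KaehlerDifferential.D A B b) := rfl
  rw [h2, map_add, map_add, map_smul, map_smul, map_smul, map_smul, TensorProduct.map_tmul,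
    TensorProduct.rid_tmul, LinearMap.id_apply, key, smul_smul]

theorem repr_D_prod {n : ℕ} (t : Fin n → B)
    (bΩ : Module.Basis (Fin n) B (KaehlerDifferential A B))
    (hbΩ : ∀ i, bΩ i = KaehlerDifferential.D A B (t i))
    (a : Fin n) (S : Finset (Fin n)) (ha : a ∉ S) :
    bΩ.repr (KaehlerDifferential.D A B (∏ i ∈ S, t i)) a = 0 := by
  induction S using Finset.induction_on with
  | empty =>
    rw [Finset.prod_empty, Derivation.map_one_eq_zero, map_zero, Finsupp.zero_apply]
  | insert s S hs ih =>
    have has : a ≠ s := fun h => ha (h ▸ Finset.mem_insert_self s S)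
    have haS : a ∉ S := fun h => ha (Finset.mem_insert_of_mem h)
    rw [Finset.prod_insert hs, Derivation.leibniz, map_add, map_smul, map_smul, Finsupp.add_apply,
      Finsupp.smul_apply, Finsupp.smul_apply, ih haS, ← hbΩ s, Module.Basis.repr_self,
      Finsupp.single_apply, if_neg (Ne.symm has), smul_zero, smul_zero, add_zero]

theorem smul_compProd_mem (lam : B) {n : ℕ} (t : Fin n → B)
    (bΩ : Module.Basis (Fin n) B (KaehlerDifferential A B))
    (hbΩ : ∀ i, bΩ i = KaehlerDifferential.D A B (t i))
    (ω : Module.Basis (Fin n) B L) (ι : KaehlerDifferential A B →ₗ[B] L)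
    (hι : ∀ i, ι (KaehlerDifferential.D A B (t i)) = t i • ω i)
    (nabla : E →ₗ[A] E ⊗[B] L)
    (hc : Conn.IsLamConn (ι.compDer (KaehlerDifferential.D A B)) lam nabla)
    (J : Finset (Fin n)) :
    ∀ (b : B) (e : E), b • LogConn.compProd nabla ω J e ∈ LogConn.piece nabla ω t J := by
  induction J using Finset.induction_on_min with
  | empty =>
    intro b e
    have h := gen_mem nabla ω t ∅ ∅ (subset_refl _) (b • e)
    rw [Finset.sdiff_self, Finset.prod_empty, one_smul, compProd_empty, LinearMap.id_apply] at h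
    rw [compProd_empty, LinearMap.id_apply]
    exact h
  | insert a J0 ha ih =>
    intro b e
    have haJ0 : a ∉ J0 := fun h => lt_irrefl a (ha a h)
    rw [compProd_insert nabla ω a J0 ha, LinearMap.comp_apply]
    obtain ⟨y, hy⟩ : ∃ y, y = LogConn.compProd nabla ω J0 e := ⟨_, rfl⟩
    rw [← hy]
    have hL := comp_smul lam t bΩ hbΩ ω ι hι nabla hc a b y
    have e1 : b • LogConn.comp nabla ω a y = LogConn.comp nabla ω a (b • y) -
        (lam * (bΩ.repr (KaehlerDifferential.D A B b) a * t a)) • y := by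
      rw [hL, add_sub_cancel_right]
    rw [e1]
    refine sub_mem ?_ ?_
    · have hby : b • y ∈ LogConn.piece nabla ω t J0 := by rw [hy]; exact ih b e
      have hle : LogConn.piece nabla ω t J0 ≤
          Submodule.comap (LogConn.comp nabla ω a) (LogConn.piece nabla ω t (insert a J0)) := by
        apply piece_le
        intro J' hJ' e'
        rw [Submodule.mem_comap]
        have h0 : a ∉ J0 \ J' := fun h => haJ0 (Finset.mem_sdiff.1 h).1
        rw [comp_smul lam t bΩ hbΩ ω ι hι nabla hc a _ _, repr_D_prod t bΩ hbΩ a (J0 \ J') h0,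
          zero_mul, mul_zero, zero_smul, add_zero]
        have haJ' : ∀ x ∈ J', a < x := fun x hx => ha x (hJ' hx)
        have h3 := gen_mem nabla ω t (insert a J0) (insert a J')
          (Finset.insert_subset_insert a hJ') e'
        rw [compProd_insert nabla ω a J' haJ', LinearMap.comp_apply, sdiff_aux a J0 J' haJ0] at h3
        exact h3
      exact hle hby
    · have h1 : (lam * bΩ.repr (KaehlerDifferential.D A B b) a) • y ∈
          LogConn.piece nabla ω t J0 := by rw [hy]; exact ih _ e
      have h2 := smul_piece_mem nabla ω t (insert a J0) J0 (Finset.subset_insert a J0) h1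
      rw [sdiff_aux2 a J0 haJ0, Finset.prod_singleton, smul_smul] at h2
      have e2 : lam * (bΩ.repr (KaehlerDifferential.D A B b) a * t a) =
          t a * (lam * bΩ.repr (KaehlerDifferential.D A B b) a) := by ring
      rw [e2]
      exact h2

end Aux

open TensorProduct in
/-- Let B be a commutative algebra over a commutative ring A, let λ ∈ B, and let t₁, …, tₙ ∈ B be
elements whose differentials dt₁, …, dtₙ form a basis of the module Ω of Kähler differentials of B
over A. Let L be a B-module free on ω₁, …, ωₙ together with a B-linear map ι : Ω → L sending dtᵢ to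
tᵢ ωᵢ (L plays the role of the module of differentials with logarithmic poles along t₁ ⋯ tₙ, and ωᵢ
that of dlog tᵢ), and let E be a B-module with an A-linear map ∇ : E → E ⊗ L obeying the λ-twisted
Leibniz rule ∇(b e) = b ∇e + λ e ⊗ ι(db). Write ∇ᵢ for the components of ∇ in the basis ω and, for a
finite set J of indices, ∇_J for the composite of the ∇ⱼ, j ∈ J, taken in increasing order. Then for
every finite set I of indices the A-submodule E_I = Σ_{J ⊆ I} (∏_{i ∈ I∖J} tᵢ) · ∇_J(E) of E is
stable under multiplication by every element of B. (Flatness of ∇ and λ coming from the base ring,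
both part of the published setting, are not used.) -/
theorem result {A : Type v} {B L E : Type u} [CommRing A] [CommRing B]
    [Algebra A B] [AddCommGroup L] [Module B L] [Module A L] [IsScalarTower A B L]
    [AddCommGroup E] [Module B E] [Module A E] [IsScalarTower A B E]
    (lam : B) {n : ℕ} (t : Fin n → B) (bΩ : Module.Basis (Fin n) B (KaehlerDifferential A B))
    (hbΩ : ∀ i, bΩ i = KaehlerDifferential.D A B (t i))
    (ω : Module.Basis (Fin n) B L) (ι : KaehlerDifferential A B →ₗ[B] L)
    (hι : ∀ i, ι (KaehlerDifferential.D A B (t i)) = t i • ω i)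
    (nabla : E →ₗ[A] E ⊗[B] L)
    (hc : Conn.IsLamConn (ι.compDer (KaehlerDifferential.D A B)) lam nabla)
    (I : Finset (Fin n)) (b : B) (x : E) (hx : x ∈ LogConn.piece nabla ω t I) :
    b • x ∈ LogConn.piece nabla ω t I := by
  have hle : LogConn.piece nabla ω t I ≤
      Submodule.comap ((LinearMap.lsmul B E b).restrictScalars A)
        (LogConn.piece nabla ω t I) := by
    apply piece_le
    intro J hJ e
    rw [Submodule.mem_comap]
    show b • ((∏ i ∈ I \ J, t i) • LogConn.compProd nabla ω J e) ∈ _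
    rw [smul_comm]
    exact smul_piece_mem nabla ω t I J hJ
      (smul_compProd_mem lam t bΩ hbΩ ω ι hι nabla hc J b e)
  exact hle hx

end Groth.Agent.S16792
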