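import Groth.Statements.S16795
import Mathlib
import Groth.Agent.S16792

set_option autoImplicit false
universe v u
open LogConn

namespace Groth.Agent.S16795

section Aux

open TensorProduct

variable {A : Type v} {B L E : Type u} [CommRing A] [CommRing B]
    [Algebra A B] [AddCommGroup L] [Module B L] [Module A L] [IsScalarTower A B L]
    [AddCommGroup E] [Module B E] [Module A E] [IsScalarTower A B E]

theorem prod_insert_sdiff {n : ℕ} (t : Fin n → B) (a : Fin n) (J0 J' : Finset (Fin n))
    (ha : a ∉ J0) (hJ' : J' ⊆ J0) :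
    ∏ i ∈ insert a J0 \ J', t i = t a * ∏ i ∈ J0 \ J', t i := by
  have haJ' : a ∉ J' := fun h => ha (hJ' h)
  have h1 : insert a J0 \ J' = insert a (J0 \ J') := by
    ext x
    simp only [Finset.mem_sdiff, Finset.mem_insert]
    constructor
    · rintro ⟨h1 | h1, h2⟩
      · exact Or.inl h1
      · exact Or.inr ⟨h1, h2⟩
    · rintro (h1 | ⟨h1, h2⟩)
      · exact ⟨Or.inl h1, fun h => haJ' (h1 ▸ h)⟩
      · exact ⟨Or.inr h1, h2⟩
  rw [h1, Finset.prod_insert (fun h => ha (Finset.mem_sdiff.1 h).1)]

theorem exists_PB (nabla : E →ₗ[A] E ⊗[B] L) {n : ℕ} (ω : Module.Basis (Fin n) B L)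
    (t : Fin n → B) (I : Finset (Fin n))
    (stab : ∀ (b : B) (x : E), x ∈ LogConn.piece nabla ω t I →
      b • x ∈ LogConn.piece nabla ω t I) :
    ∃ PB : Submodule B E, ∀ x, x ∈ PB ↔ x ∈ LogConn.piece nabla ω t I :=
  ⟨{ carrier := (LogConn.piece nabla ω t I : Set E)
     add_mem' := fun ha hb => (LogConn.piece nabla ω t I).add_mem ha hb
     zero_mem' := (LogConn.piece nabla ω t I).zero_mem
     smul_mem' := fun c x hx => stab c x hx }, fun x => Iff.rfl⟩

/-- the `B`-span of the generators attached to `x` -/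
def NJ (nabla : E →ₗ[A] E ⊗[B] L) {n : ℕ} (ω : Module.Basis (Fin n) B L)
    (t : Fin n → B) (J : Finset (Fin n)) (x : E) : Submodule B E :=
  Submodule.span B ((fun J' => (∏ i ∈ J \ J', t i) • LogConn.compProd nabla ω J' x) ''
    (J.powerset : Set (Finset (Fin n))))

theorem NJ_gen (nabla : E →ₗ[A] E ⊗[B] L) {n : ℕ} (ω : Module.Basis (Fin n) B L)
    (t : Fin n → B) (J J' : Finset (Fin n)) (hJ' : J' ⊆ J) (x : E) :
    (∏ i ∈ J \ J', t i) • LogConn.compProd nabla ω J' x ∈ NJ nabla ω t J x :=
  Submodule.subset_span ⟨J', Finset.mem_coe.2 (Finset.mem_powerset.2 hJ'), rfl⟩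

theorem compProd_smul_mem (lam : B) {n : ℕ} (t : Fin n → B)
    (bΩ : Module.Basis (Fin n) B (KaehlerDifferential A B))
    (hbΩ : ∀ i, bΩ i = KaehlerDifferential.D A B (t i))
    (ω : Module.Basis (Fin n) B L) (ι : KaehlerDifferential A B →ₗ[B] L)
    (hι : ∀ i, ι (KaehlerDifferential.D A B (t i)) = t i • ω i)
    (nabla : E →ₗ[A] E ⊗[B] L)
    (hc : Conn.IsLamConn (ι.compDer (KaehlerDifferential.D A B)) lam nabla)
    (J : Finset (Fin n)) :
    ∀ (b : B) (x : E), LogConn.compProd nabla ω J (b • x) ∈ NJ nabla ω t J x := by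
  induction J using Finset.induction_on_min with
  | empty =>
    intro b x
    rw [S16792.compProd_empty, LinearMap.id_apply]
    have h := NJ_gen nabla ω t ∅ ∅ (subset_refl _) x
    rw [Finset.sdiff_self, Finset.prod_empty, one_smul, S16792.compProd_empty,
      LinearMap.id_apply] at h
    exact Submodule.smul_mem _ b h
  | insert a J0 ha ih =>
    intro b x
    have haJ0 : a ∉ J0 := fun h => lt_irrefl a (ha a h)
    rw [S16792.compProd_insert nabla ω a J0 ha, LinearMap.comp_apply]
    have key : ∀ y ∈ NJ nabla ω t J0 x, ∀ c : B,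
        LogConn.comp nabla ω a (c • y) ∈ NJ nabla ω t (insert a J0) x := by
      intro y hy
      unfold NJ at hy
      induction hy using Submodule.span_induction with
      | mem y hy =>
        obtain ⟨J', hJ'0, rfl⟩ := hy
        have hJ' : J' ⊆ J0 := Finset.mem_powerset.1 (Finset.mem_coe.1 hJ'0)
        intro c
        show LogConn.comp nabla ω a
          (c • ((∏ i ∈ J0 \ J', t i) • LogConn.compProd nabla ω J' x)) ∈ _
        have h0 : a ∉ J0 \ J' := fun h => haJ0 (Finset.mem_sdiff.1 h).1
        have haJ' : ∀ z ∈ J', a < z := fun z hz => ha z (hJ' hz)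
        rw [smul_smul, S16792.comp_smul lam t bΩ hbΩ ω ι hι nabla hc a _ _]
        refine add_mem ?_ ?_
        · have h3 := NJ_gen nabla ω t (insert a J0) (insert a J')
            (Finset.insert_subset_insert a hJ') x
          rw [S16792.compProd_insert nabla ω a J' haJ', LinearMap.comp_apply,
            S16792.sdiff_aux a J0 J' haJ0] at h3
          rw [← smul_smul]
          exact Submodule.smul_mem _ c h3
        · have hD : bΩ.repr (KaehlerDifferential.D A B (c * ∏ i ∈ J0 \ J', t i)) a =
              (∏ i ∈ J0 \ J', t i) * bΩ.repr (KaehlerDifferential.D A B c) a := by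
            rw [Derivation.leibniz, map_add, map_smul, map_smul, Finsupp.add_apply,
              Finsupp.smul_apply, Finsupp.smul_apply,
              S16792.repr_D_prod t bΩ hbΩ a (J0 \ J') h0, smul_zero, zero_add, smul_eq_mul]
          rw [hD]
          have h4 := NJ_gen nabla ω t (insert a J0) J'
            (hJ'.trans (Finset.subset_insert a J0)) x
          rw [prod_insert_sdiff t a J0 J' haJ0 hJ'] at h4
          have e2 : lam * ((∏ i ∈ J0 \ J', t i) * bΩ.repr (KaehlerDifferential.D A B c) a * t a) =
              (lam * bΩ.repr (KaehlerDifferential.D A B c) a) *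
                (t a * ∏ i ∈ J0 \ J', t i) := by ring
          rw [e2, ← smul_smul]
          exact Submodule.smul_mem _ _ h4
      | zero => intro c; rw [smul_zero, map_zero]; exact zero_mem _
      | add y z _ _ hy hz => intro c; rw [smul_add, map_add]; exact add_mem (hy c) (hz c)
      | smul c' y _ hy => intro c; rw [smul_smul]; exact hy (c * c')
    have h5 := key _ (ih b x) 1
    rw [one_smul] at h5
    exact h5

/-- the `B`-span of the generators attached to the family `e` -/
def NN (nabla : E →ₗ[A] E ⊗[B] L) {n : ℕ} (ω : Module.Basis (Fin n) B L)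
    (t : Fin n → B) {m : ℕ} (e : Fin m → E) (J : Finset (Fin n)) : Submodule B E :=
  Submodule.span B (⋃ J' ∈ J.powerset, Set.range (fun k : Fin m =>
    (∏ i ∈ J \ J', t i) • LogConn.compProd nabla ω J' (e k)))

theorem NJ_le_NN (nabla : E →ₗ[A] E ⊗[B] L) {n : ℕ} (ω : Module.Basis (Fin n) B L)
    (t : Fin n → B) {m : ℕ} (e : Fin m → E) (J : Finset (Fin n)) (k : Fin m) :
    NJ nabla ω t J (e k) ≤ NN nabla ω t e J := by
  unfold NJ NN
  apply Submodule.span_mono
  rintro _ ⟨J', hJ', rfl⟩
  exact Set.mem_iUnion₂.2 ⟨J', Finset.mem_coe.1 hJ', ⟨k, rfl⟩⟩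

theorem compProd_mem_NN (lam : B) {n : ℕ} (t : Fin n → B)
    (bΩ : Module.Basis (Fin n) B (KaehlerDifferential A B))
    (hbΩ : ∀ i, bΩ i = KaehlerDifferential.D A B (t i))
    (ω : Module.Basis (Fin n) B L) (ι : KaehlerDifferential A B →ₗ[B] L)
    (hι : ∀ i, ι (KaehlerDifferential.D A B (t i)) = t i • ω i)
    (nabla : E →ₗ[A] E ⊗[B] L)
    (hc : Conn.IsLamConn (ι.compDer (KaehlerDifferential.D A B)) lam nabla)
    {m : ℕ} (e : Fin m → E) (he : Submodule.span B (Set.range e) = ⊤)
    (J : Finset (Fin n)) (x : E) :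
    LogConn.compProd nabla ω J x ∈ NN nabla ω t e J := by
  have key : ∀ y ∈ Submodule.span B (Set.range e), ∀ c : B,
      LogConn.compProd nabla ω J (c • y) ∈ NN nabla ω t e J := by
    intro y hy
    induction hy using Submodule.span_induction with
    | mem y hy =>
      obtain ⟨k, rfl⟩ := hy
      intro c
      exact NJ_le_NN nabla ω t e J k
        (compProd_smul_mem lam t bΩ hbΩ ω ι hι nabla hc J c (e k))
    | zero => intro c; rw [smul_zero, map_zero]; exact zero_mem _
    | add y z _ _ hy hz => intro c; rw [smul_add, map_add]; exact add_mem (hy c) (hz c)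
    | smul c' y _ hy => intro c; rw [smul_smul]; exact hy (c * c')
  have h := key x (by rw [he]; exact Submodule.mem_top) 1
  rw [one_smul] at h
  exact h

end Aux

open TensorProduct in
/-- Let B be a commutative algebra over a commutative ring A, λ ∈ B, and t₁, …, tₙ ∈ B elements whose
differentials dt₁, …, dtₙ form a basis of the Kähler differentials Ω of B over A; let L be a
B-module free on ω₁, …, ωₙ with a B-linear ι : Ω → L sending dtᵢ to tᵢ ωᵢ (ωᵢ playing the role of
dlog tᵢ), and E a B-module with an A-linear ∇ : E → E ⊗ L obeying the λ-twisted Leibniz rule ∇(b e)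
= b ∇e + λ e ⊗ ι(db); write ∇ᵢ for the components of ∇ in the basis ω, ∇_J for their composite over
a finite index set J in increasing order, and E_I = Σ_{J ⊆ I} (∏_{i ∈ I∖J} tᵢ) · ∇_J(E) (an
A-submodule of E) for a finite index set I. Suppose E is generated over B by finitely many elements
e₁, …, e_m. Then for every finite index set I the piece E_I is the B-span of the finitely many
elements (∏_{i ∈ I∖J} tᵢ) · ∇_J(e_k), J ⊆ I, 1 ≤ k ≤ m; in particular E_I is a finitely generated
B-module. (The published statement is phrased for sheaves — E_w is quasi-coherent, resp. coherent,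
when E is — and its proof exhibits these generators; flatness of ∇ is not used.) -/
theorem result {A : Type v} {B L E : Type u} [CommRing A] [CommRing B]
    [Algebra A B] [AddCommGroup L] [Module B L] [Module A L] [IsScalarTower A B L]
    [AddCommGroup E] [Module B E] [Module A E] [IsScalarTower A B E]
    (lam : B) {n : ℕ} (t : Fin n → B) (bΩ : Module.Basis (Fin n) B (KaehlerDifferential A B))
    (hbΩ : ∀ i, bΩ i = KaehlerDifferential.D A B (t i))
    (ω : Module.Basis (Fin n) B L) (ι : KaehlerDifferential A B →ₗ[B] L)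
    (hι : ∀ i, ι (KaehlerDifferential.D A B (t i)) = t i • ω i)
    (nabla : E →ₗ[A] E ⊗[B] L)
    (hc : Conn.IsLamConn (ι.compDer (KaehlerDifferential.D A B)) lam nabla)
    {m : ℕ} (e : Fin m → E) (he : Submodule.span B (Set.range e) = ⊤) (I : Finset (Fin n)) :
    (Submodule.span B (⋃ J ∈ I.powerset, Set.range (fun k : Fin m =>
        (∏ i ∈ I \ J, t i) • LogConn.compProd nabla ω J (e k)))).restrictScalars A =
      LogConn.piece nabla ω t I := by
  apply le_antisymm
  · intro x hx
    obtain ⟨PB, hPB⟩ := exists_PB nabla ω t I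
      (fun b x hx => S16792.result lam t bΩ hbΩ ω ι hι nabla hc I b x hx)
    have hle : Submodule.span B (⋃ J ∈ I.powerset, Set.range (fun k : Fin m =>
        (∏ i ∈ I \ J, t i) • LogConn.compProd nabla ω J (e k))) ≤ PB := by
      rw [Submodule.span_le]
      intro y hy
      obtain ⟨J, hJ, k, rfl⟩ := Set.mem_iUnion₂.1 hy
      exact (hPB _).2 (S16792.gen_mem nabla ω t I J (Finset.mem_powerset.1 hJ) (e k))
    exact (hPB x).1 (hle hx)
  · apply S16792.piece_le
    intro J hJ x
    show (∏ i ∈ I \ J, t i) • LogConn.compProd nabla ω J x ∈ NN nabla ω t e I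
    have h1 := compProd_mem_NN lam t bΩ hbΩ ω ι hι nabla hc e he J x
    have hle : NN nabla ω t e J ≤
        Submodule.comap (LinearMap.lsmul B E (∏ i ∈ I \ J, t i)) (NN nabla ω t e I) := by
      unfold NN
      rw [Submodule.span_le]
      intro y hy
      obtain ⟨J', hJ', k, rfl⟩ := Set.mem_iUnion₂.1 hy
      have hJ'' : J' ⊆ J := Finset.mem_powerset.1 hJ'
      show (∏ i ∈ I \ J, t i) • ((∏ i ∈ J \ J', t i) • LogConn.compProd nabla ω J' (e k)) ∈
        NN nabla ω t e I
      rw [smul_smul, S16792.prod_sdiff_mul t I J J' hJ hJ'']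
      unfold NN
      exact Submodule.subset_span (Set.mem_iUnion₂.2
        ⟨J', Finset.mem_powerset.2 (hJ''.trans hJ), ⟨k, rfl⟩⟩)
    exact hle h1

end Groth.Agent.S16795
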