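import Groth.Statements.S16836
import Mathlib

set_option autoImplicit false
universe u v
open scoped Classical
open AbVar

namespace Groth.Agent.S16836

section Aux
open Polynomial UniqueFactorizationMonoid

theorem nf_map {K L : Type*} [Field K] [Field L] (φ : K →+* L) (f : K[X]) (hf : f ≠ 0) :
    normalizedFactors (f.map φ) =
      (normalizedFactors f).bind (fun P => normalizedFactors (P.map φ)) := by
  have h1 : Associated ((normalizedFactors f).prod) f := prod_normalizedFactors hf
  have h2 : Associated (((normalizedFactors f).prod).map φ) (f.map φ) := by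
    have h := h1.map (Polynomial.mapRingHom φ)
    rw [Polynomial.coe_mapRingHom] at h
    exact h
  rw [← h2.normalizedFactors_eq, Polynomial.map_multiset_prod, normalizedFactors_multiset_prod,
    Multiset.map_map]
  · rfl
  · intro h0
    obtain ⟨P, hP, hP0⟩ := Multiset.mem_map.mp h0
    have hP' : P = 0 := (Polynomial.map_eq_zero φ).mp hP0
    exact (irreducible_of_normalized_factor P hP).ne_zero hP'

theorem nf_map_nodup {K L : Type*} [Field K] [PerfectField K] [Field L] (φ : K →+* L)
    (P : K[X]) (hP : Irreducible P) : (normalizedFactors (P.map φ)).Nodup := by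
  have hsep : (P.map φ).Separable := (PerfectField.separable_of_irreducible hP).map
  have h0 : P.map φ ≠ 0 := fun h => hP.ne_zero ((Polynomial.map_eq_zero φ).mp h)
  exact (squarefree_iff_nodup_normalizedFactors h0).mp hsep.squarefree

theorem nf_map_deg {K L : Type*} [Field K] [Field L] (φ : K →+* L) (P : K[X]) (hP : P ≠ 0) :
    ((normalizedFactors (P.map φ)).map Polynomial.natDegree).sum = P.natDegree := by
  have h0 : P.map φ ≠ 0 := fun h => hP ((Polynomial.map_eq_zero φ).mp h)
  have h1 : Associated ((normalizedFactors (P.map φ)).prod) (P.map φ) :=
    prod_normalizedFactors h0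
  rw [← Polynomial.natDegree_multiset_prod,
    Polynomial.natDegree_eq_of_degree_eq (Polynomial.degree_eq_degree_of_associated h1),
    Polynomial.natDegree_map]
  intro h
  exact (irreducible_of_normalized_factor 0 h).ne_zero rfl

theorem nf_map_disjoint {K L : Type*} [Field K] [Field L] (φ : K →+* L) (P P' : K[X])
    (hP : Irreducible P) (hP' : Irreducible P')
    (hn : normalize P = P) (hn' : normalize P' = P') (hne : P ≠ P') (Q : L[X])
    (hQ : Q ∈ normalizedFactors (P.map φ)) : Q ∉ normalizedFactors (P'.map φ) := by
  intro hQ'
  have hndvd : ¬ P ∣ P' := fun hd =>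
    hne ((hP.associated_of_dvd hP' hd).eq_of_normalized hn hn')
  have hcop : IsCoprime P P' := hP.coprime_iff_not_dvd.mpr hndvd
  have hcop' : IsCoprime (P.map φ) (P'.map φ) := by
    have h := hcop.map (Polynomial.mapRingHom φ)
    rw [Polynomial.coe_mapRingHom] at h
    exact h
  exact (irreducible_of_normalized_factor Q hQ).not_isUnit
    (hcop'.isUnit_of_dvd' (dvd_of_mem_normalizedFactors hQ) (dvd_of_mem_normalizedFactors hQ'))

theorem count_bind_eq {K L : Type*} [Field K] [PerfectField K] [Field L] (φ : K →+* L)
    (P : K[X]) (hP : Irreducible P) (hn : normalize P = P)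
    (Q : L[X]) (hQ : Q ∈ normalizedFactors (P.map φ)) (s : Multiset K[X])
    (hs : ∀ P' ∈ s, Irreducible P' ∧ normalize P' = P') :
    Multiset.count Q (s.bind (fun P' => normalizedFactors (P'.map φ))) = Multiset.count P s := by
  induction s using Multiset.induction_on with
  | empty => simp
  | cons P' s ih =>
    rw [Multiset.cons_bind, Multiset.count_add,
      ih (fun P'' h => hs P'' (Multiset.mem_cons_of_mem h)), Multiset.count_cons]
    obtain ⟨hP', hn'⟩ := hs P' (Multiset.mem_cons_self P' s)
    by_cases h : P = P'
    · subst h
      rw [if_pos rfl, Multiset.count_eq_one_of_mem (nf_map_nodup φ P hP) hQ, add_comm]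
    · rw [if_neg h,
        Multiset.count_eq_zero_of_notMem (nf_map_disjoint φ P P' hP hP' hn hn' h Q hQ),
        zero_add, add_zero]

theorem main_sum {K L : Type*} [Field K] [PerfectField K] [Field L] (φ : K →+* L)
    (s s' : Multiset K[X])
    (hs : ∀ P ∈ s, Irreducible P ∧ normalize P = P)
    (hs' : ∀ P ∈ s', Irreducible P ∧ normalize P = P) :
    ((s.bind (fun P => normalizedFactors (P.map φ))).map
      (fun Q => Multiset.count Q (s'.bind (fun P => normalizedFactors (P.map φ)))
        * Q.natDegree)).sum
      = (s.map (fun P => Multiset.count P s' * P.natDegree)).sum := by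
  induction s using Multiset.induction_on with
  | empty => simp
  | cons P s ih =>
    obtain ⟨hP, hn⟩ := hs P (Multiset.mem_cons_self P s)
    rw [Multiset.cons_bind, Multiset.map_add, Multiset.sum_add, Multiset.map_cons,
      Multiset.sum_cons, ih (fun P'' h => hs P'' (Multiset.mem_cons_of_mem h))]
    congr 1
    have e : (normalizedFactors (P.map φ)).map
        (fun Q => Multiset.count Q (s'.bind (fun P => normalizedFactors (P.map φ)))
          * Q.natDegree)
        = (normalizedFactors (P.map φ)).map (fun Q => Multiset.count P s' * Q.natDegree) :=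
      Multiset.map_congr rfl (fun Q hQ => by rw [count_bind_eq φ P hP hn Q hQ s' hs'])
    rw [e, Multiset.sum_map_mul_left, nf_map_deg φ P hP.ne_zero]

end Aux

open Polynomial UniqueFactorizationMonoid in
/-- Let K ⊆ L be a field extension and f₁, f₂ non-zero polynomials in K[t]. For a field F and
polynomials g₁, g₂ over F put r_F(g₁, g₂) = Σ_P mult_P(g₁) · mult_P(g₂) · deg P, the sum running
over the monic irreducible polynomials P in F[t] (mult_P the multiplicity of P as an irreducible
factor). Assume K is perfect. Then r_K(f₁, f₂) = r_L(f₁, f₂): the number does not depend on the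
field over which the factorisations are taken. (Perfectness of K cannot be dropped: for K = F_p(s),
L = K(s^{1/p}) and f₁ = f₂ = t^p − s the number is p over K and p² over L, since the irreducible t^p
− s becomes a p-th power over L; the published statement has no restriction on K, and its proof
requires the relevant K[t]-modules to remain semisimple after base change, which holds when every
irreducible factor stays squarefree over L, in particular for K perfect.) -/
theorem result (K : Type u) (L : Type v) [Field K] [PerfectField K] [Field L] [Algebra K L]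
    (f₁ f₂ : K[X]) (h₁ : f₁ ≠ 0) (h₂ : f₂ ≠ 0) :
    ∑ P ∈ (normalizedFactors (f₁.map (algebraMap K L))).toFinset,
        (normalizedFactors (f₁.map (algebraMap K L))).count P *
          (normalizedFactors (f₂.map (algebraMap K L))).count P * P.natDegree =
      ∑ P ∈ (normalizedFactors f₁).toFinset,
        (normalizedFactors f₁).count P * (normalizedFactors f₂).count P * P.natDegree := by
  have e1 := nf_map (algebraMap K L) f₁ h₁
  have e2 := nf_map (algebraMap K L) f₂ h₂
  rw [e1, e2]
  have hs₁ : ∀ P ∈ normalizedFactors f₁, Irreducible P ∧ normalize P = P := fun P hP =>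
    ⟨irreducible_of_normalized_factor P hP, normalize_normalized_factor P hP⟩
  have hs₂ : ∀ P ∈ normalizedFactors f₂, Irreducible P ∧ normalize P = P := fun P hP =>
    ⟨irreducible_of_normalized_factor P hP, normalize_normalized_factor P hP⟩
  have key := main_sum (algebraMap K L) (normalizedFactors f₁) (normalizedFactors f₂) hs₁ hs₂
  rw [Finset.sum_multiset_map_count, Finset.sum_multiset_map_count] at key
  simp only [smul_eq_mul] at key
  simp only [mul_assoc]
  exact key

end Groth.Agent.S16836
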