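import Groth.Statements.S16853
import Mathlib
import Groth.Agent.Lib.helper8.WittLang
-- import your own Groth.Agent.* helpers here

set_option autoImplicit false
universe u v
open CAlg

namespace Groth.Agent.S16853

/-- Let k be an algebraically closed field of characteristic p > 0 and ν ≥ 1; let V be a
finite-dimensional k-vector space and φ : V → V a bijective additive map that is Frob^ν-semilinear,
φ(a·v) = a^(p^ν)·φ(v). Then V admits a k-basis consisting of φ-fixed vectors; in particular V is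
spanned by V₀ = {v | φ(v) = v}, an F_{p^ν}-subspace, and k ⊗ V₀ → V is surjective. (The copy allows
ν < 0 as well, reducing to φ⁻¹; stated here for ν ≥ 1. The injectivity of k ⊗_{F_{p^ν}} V₀ → V,
asserted in the copy, is not restated.) -/
theorem result (k : Type u) [Field k] [IsAlgClosed k]
    (p : ℕ) [Fact p.Prime] [CharP k p] (ν : ℕ) (hν : 1 ≤ ν)
    (V : Type v) [AddCommGroup V] [Module k V] [FiniteDimensional k V]
    (φ : V →+ V) (hφ : ∀ (a : k) (v : V), φ (a • v) = a ^ (p ^ ν) • φ v) (hbij : Function.Bijective φ) :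
    ∃ (ι : Type v) (b : Module.Basis ι k V), ∀ i, φ (b i) = b i := by
  classical
  obtain ⟨q, hqdef⟩ : ∃ q : ℕ, q = p ^ ν := ⟨_, rfl⟩
  have hq : 2 ≤ q := by
    rw [hqdef]
    calc 2 ≤ p := (Fact.out : p.Prime).two_le
      _ = p ^ 1 := (pow_one p).symm
      _ ≤ p ^ ν := Nat.pow_le_pow_right (Fact.out : p.Prime).pos hν
  obtain ⟨ρ, hρ⟩ : ∃ ρ : k →+* k, ∀ x, ρ x = x ^ q :=
    ⟨iterateFrobenius k p ν, fun x => by rw [iterateFrobenius_def, hqdef]⟩
  obtain ⟨φ', hφ'⟩ : ∃ φ' : V →ₛₗ[ρ] V, ∀ v, φ' v = φ v :=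
    ⟨{ toFun := φ, map_add' := map_add φ, map_smul' := fun a v => by
        show φ (a • v) = ρ a • φ v
        rw [hφ, hρ, hqdef] }, fun _ => rfl⟩
  have hinj : Function.Injective φ' := fun x y hxy => hbij.1 (by rw [← hφ', ← hφ', hxy])
  have hspan := H8Witt.span_fixed_eq_top hq hρ φ' hinj
  obtain ⟨B, hBS, hBspan, hBli⟩ := exists_linearIndependent k {v : V | φ' v = v}
  rw [hspan] at hBspan
  refine ⟨B, Module.Basis.mk hBli (le_of_eq (by rw [Subtype.range_coe, hBspan])), fun i => ?_⟩
  rw [Module.Basis.mk_apply, ← hφ']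
  exact hBS i.2

end Groth.Agent.S16853
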