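import Groth.Statements.S16885
import Mathlib
import Groth.Agent.S12793
import Groth.Agent.S11724


set_option autoImplicit false
open CategoryTheory
universe v u
open Gerb

namespace Groth.Agent.S16885

lemma gerbeOver_core {C : Type u} [Category.{v} C] (J : GrothendieckTopology C)
    {𝒮₂ : BasedCategory.{v, max u v} C} {X₁ : Type (max u v)} [cat : Category.{v} X₁]
    (F₀ : X₁ ⥤ 𝒮₂.obj) (hfull : F₀.Full)
    (hess : ∀ η : 𝒮₂.obj, ∃ (ξ : X₁) (e : F₀.obj ξ ≅ η),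
      𝒮₂.p.IsHomLift (𝟙 (𝒮₂.p.obj η)) e.hom)
    (h : Gerb.IsGerbeOver J (FibCat.toSelf 𝒮₂)) :
    Gerb.IsGerbeOver J (FibCat.toSelf
      ({ obj := X₁, category := cat, p := F₀ ⋙ 𝒮₂.p } : BasedCategory.{v, max u v} C)) := by
  obtain ⟨hobj, hhom⟩ := h
  refine ⟨?_, ?_⟩
  · intro y
    obtain ⟨R, hR, hRf⟩ := hobj y
    refine ⟨R, hR, ?_⟩
    intro V f hf
    obtain ⟨x₂, g, hg⟩ := hRf f hf
    obtain ⟨x₁, e, he⟩ := hess x₂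
    have hg' : (𝟭 C).IsHomLift f g := hg
    have hV : 𝒮₂.p.obj x₂ = V := @IsHomLift.domain_eq _ _ _ _ (𝟭 C) _ _ _ _ f g hg'
    haveI h1 : 𝒮₂.p.IsHomLift (𝟙 V) e.hom :=
      Groth.Agent.Helper3.isHomLift_id_of_eq 𝒮₂.p hV e.hom
    haveI h2 : (𝟭 C).IsHomLift (𝟙 V) (𝒮₂.p.map e.hom) :=
      Groth.Agent.S11724.lift_comp (𝟭 C) 𝒮₂.p (𝟙 V) e.hom h1
    refine ⟨x₁, 𝒮₂.p.map e.hom ≫ g, ?_⟩
    exact @IsHomLift.comp_lift_id_left _ _ _ _ (𝟭 C) _ _ _ _ _ f g hg' (𝒮₂.p.map e.hom) h2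
  · intro x x' b hb
    obtain ⟨R, hR, hRf⟩ := hhom (F₀.obj x) (F₀.obj x') b hb
    refine ⟨R, hR, ?_⟩
    intro V f hf
    obtain ⟨x₀₂, φ₂, ψ₂, hφ₂, hψ₂, hc⟩ := hRf f hf
    obtain ⟨x₀, e, he⟩ := hess x₀₂
    have hV : 𝒮₂.p.obj x₀₂ = V := IsHomLift.domain_eq 𝒮₂.p f φ₂
    haveI h1 : 𝒮₂.p.IsHomLift (𝟙 V) e.hom :=
      Groth.Agent.Helper3.isHomLift_id_of_eq 𝒮₂.p hV e.hom
    have hφl : 𝒮₂.p.IsHomLift f (e.hom ≫ φ₂) := inferInstance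
    have hψl : 𝒮₂.p.IsHomLift f (e.hom ≫ ψ₂) := inferInstance
    obtain ⟨φ, hφ⟩ := F₀.map_surjective (e.hom ≫ φ₂)
    obtain ⟨ψ, hψ⟩ := F₀.map_surjective (e.hom ≫ ψ₂)
    refine ⟨x₀, φ, ψ, ?_, ?_, ?_⟩
    · exact Groth.Agent.S11724.comp_lift 𝒮₂.p F₀ f (F₀.map φ) φ inferInstance
        (by rw [hφ]; exact hφl)
    · exact Groth.Agent.S11724.comp_lift 𝒮₂.p F₀ f (F₀.map ψ) ψ inferInstance
        (by rw [hψ]; exact hψl)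
    · show 𝒮₂.p.map (F₀.map φ) ≫ b = 𝒮₂.p.map (F₀.map ψ)
      rw [hφ, hψ, Functor.map_comp, Functor.map_comp, Category.assoc]
      exact congrArg (𝒮₂.p.map e.hom ≫ ·) hc

lemma gerbeOver_of_equiv {C : Type u} [Category.{v} C] (J : GrothendieckTopology C)
    {𝒮₁ 𝒮₂ : BasedCategory.{v, max u v} C} (F : 𝒮₁ ⥤ᵇ 𝒮₂) (hfull : F.toFunctor.Full)
    (hess : Groth.Agent.Helper3.EssOver F) (h : Gerb.IsGerbeOver J (FibCat.toSelf 𝒮₂)) :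
    Gerb.IsGerbeOver J (FibCat.toSelf 𝒮₁) := by
  obtain ⟨X₁, cat, p₁⟩ := 𝒮₁
  obtain ⟨F₀, w⟩ := F
  have key := gerbeOver_core J (X₁ := X₁) (cat := cat) F₀ hfull hess h
  change F₀ ⋙ 𝒮₂.p = p₁ at w
  rw [w] at key
  exact key


/-- Let `𝒮₁`, `𝒮₂` be categories over `C` and `F : 𝒮₁ ⟶ 𝒮₂` a functor over `C` which is an equivalence
in the 2-category of categories over `C`. Then, for a topology `J` on `C`, `𝒮₁` is a gerbe over the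
site `(C, J)` if and only if `𝒮₂` is. -/
theorem result {C : Type u} [Category.{v} C] (J : GrothendieckTopology C)
    {𝒮₁ 𝒮₂ : BasedCategory.{v, max u v} C} (F : 𝒮₁ ⥤ᵇ 𝒮₂) (hF : FibCat.IsEquivOver F) :
    Gerb.IsGerbe J 𝒮₁ ↔ Gerb.IsGerbe J 𝒮₂ := by
  have main : ∀ {𝒮₁ 𝒮₂ : BasedCategory.{v, max u v} C} (F : 𝒮₁ ⥤ᵇ 𝒮₂),
      FibCat.IsEquivOver F → Gerb.IsGerbe J 𝒮₂ → Gerb.IsGerbe J 𝒮₁ := by
    intro 𝒮₁ 𝒮₂ F hF h
    obtain ⟨h1, h2⟩ := h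
    haveI := Groth.Agent.Helper3.isEquivalence_of_isEquivOver F hF
    exact ⟨Groth.Agent.S12793.stack_of_equiv J F hF h1,
      gerbeOver_of_equiv J F inferInstance
        (Groth.Agent.Helper3.essOver_of_isEquivOver F hF) h2⟩
  constructor
  · intro h
    obtain ⟨G, hG⟩ := Groth.Agent.Helper3.isEquivOver_symm F hF
    exact main G hG h
  · exact main F hF

end Groth.Agent.S16885
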