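import Groth.Statements.S16962
import Mathlib

set_option autoImplicit false
universe u
open ConstAct

namespace Groth.Agent.S16962

section Aux

open TensorProduct

theorem msa_ext {Γ B : Type*} [Monoid Γ] [Semiring B] (a a' : MulSemiringAction Γ B)
    (h : ∀ (γ : Γ) (b : B), (letI := a; γ • b) = (letI := a'; γ • b)) : a = a' := by
  obtain @⟨@⟨ma, sz, sa⟩, so, sm⟩ := a
  obtain @⟨@⟨ma', sz', sa'⟩, so', sm'⟩ := a'
  have : ma = ma' := MulAction.ext (funext₂ h)
  subst this
  rfl

variable (R : Type u) [CommRing R] (B : Type u) [CommRing B] [Algebra R B]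
  (Γ : Type u) [Group Γ] [Fintype Γ] [DecidableEq Γ]

/-- apply `ev γ` to the second factor -/
noncomputable def evB (γ : Γ) : B ⊗[R] ConstGrp.F R Γ →ₐ[R] B :=
  (Algebra.TensorProduct.rid R R B).toAlgHom.comp
    (Algebra.TensorProduct.map (AlgHom.id R B) (ConstGrp.ev R γ))

theorem evB_tmul (γ : Γ) (b : B) (f : ConstGrp.F R Γ) :
    evB R B Γ γ (b ⊗ₜ[R] f) = f γ • b := by
  simp [evB]

theorem evB_sum (c : Γ → B) (γ : Γ) :
    evB R B Γ γ (∑ g : Γ, c g ⊗ₜ[R] ConstGrp.e R g) = c γ := by
  rw [map_sum]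
  simp only [evB_tmul, ConstGrp.e_apply, ite_smul, one_smul, zero_smul, Finset.sum_ite_eq,
    Finset.mem_univ, if_true]

theorem eq_sum_evB (t : B ⊗[R] ConstGrp.F R Γ) :
    t = ∑ γ : Γ, (evB R B Γ γ t) ⊗ₜ[R] ConstGrp.e R γ := by
  induction t using TensorProduct.induction_on with
  | zero => simp
  | tmul b f =>
    simp only [evB_tmul]
    conv_lhs => rw [ConstGrp.eq_sum_smul_e f, TensorProduct.tmul_sum]
    refine Finset.sum_congr rfl fun γ _ => ?_
    rw [TensorProduct.tmul_smul, TensorProduct.smul_tmul']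
  | add x y hx hy =>
    conv_lhs => rw [hx, hy]
    rw [← Finset.sum_add_distrib]
    refine Finset.sum_congr rfl fun γ _ => ?_
    rw [map_add, TensorProduct.add_tmul]

noncomputable def ev2 (γ δ : Γ) :
    B ⊗[R] (ConstGrp.F R Γ ⊗[R] ConstGrp.F R Γ) →ₗ[R] B :=
  (TensorProduct.rid R B).toLinearMap ∘ₗ
    LinearMap.lTensor B (LinearMap.mul' R R ∘ₗ
      TensorProduct.map (ConstGrp.ev R γ).toLinearMap (ConstGrp.ev R δ).toLinearMap)

theorem ev2_tmul (γ δ : Γ) (b : B) (f f' : ConstGrp.F R Γ) :
    ev2 R B Γ γ δ (b ⊗ₜ[R] (f ⊗ₜ[R] f')) = (f γ * f' δ) • b := by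
  simp [ev2]

variable [HopfRep.Comod R (ConstGrp.F R Γ) B] [GLin.IsCoactAlg R (ConstGrp.F R Γ) B]

noncomputable def actHom (γ : Γ) : B →ₐ[R] B :=
  (evB R B Γ γ).comp (GLin.coactAlgHom R (ConstGrp.F R Γ) B)

theorem actHom_apply (γ : Γ) (b : B) :
    actHom R B Γ γ b = evB R B Γ γ (HopfRep.Comod.coact (k := R) (A := ConstGrp.F R Γ) b) := rfl

theorem key (b : B) :
    HopfRep.Comod.coact (k := R) (A := ConstGrp.F R Γ) b =
      ∑ γ : Γ, (actHom R B Γ γ b) ⊗ₜ[R] ConstGrp.e R γ :=
  eq_sum_evB R B Γ _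

theorem act_one (b : B) : actHom R B Γ 1 b = b := by
  have h := LinearMap.congr_fun
    (HopfRep.Comod.counit_comp (k := R) (A := ConstGrp.F R Γ) (V := B)) b
  simp only [LinearMap.comp_apply] at h
  rw [key R B Γ b, map_sum] at h
  simp only [LinearMap.lTensor_tmul, ConstGrp.counit_e, TensorProduct.tmul_ite,
    TensorProduct.tmul_zero, Finset.sum_ite_eq, Finset.mem_univ, if_true,
    LinearMap.flip_apply, TensorProduct.mk_apply] at h
  have h2 := congrArg (TensorProduct.rid R B) h
  simpa using h2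

theorem act_mul (γ δ : Γ) (b : B) :
    actHom R B Γ (γ * δ) b = actHom R B Γ γ (actHom R B Γ δ b) := by
  have h := LinearMap.congr_fun
    (HopfRep.Comod.coassoc (k := R) (A := ConstGrp.F R Γ) (V := B)) b
  simp only [LinearMap.comp_apply, LinearEquiv.coe_coe] at h
  have hL : ev2 R B Γ γ δ ((TensorProduct.assoc R B (ConstGrp.F R Γ) (ConstGrp.F R Γ))
      ((LinearMap.rTensor (ConstGrp.F R Γ) (HopfRep.Comod.coact (k := R) (A := ConstGrp.F R Γ)))
        (HopfRep.Comod.coact (k := R) (A := ConstGrp.F R Γ) b))) =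
      actHom R B Γ γ (actHom R B Γ δ b) := by
    rw [key R B Γ b, map_sum]
    simp only [LinearMap.rTensor_tmul]
    have : ∀ g : Γ, (HopfRep.Comod.coact (k := R) (A := ConstGrp.F R Γ) (actHom R B Γ g b)) ⊗ₜ[R]
        ConstGrp.e R g = ∑ h : Γ, ((actHom R B Γ h (actHom R B Γ g b)) ⊗ₜ[R] ConstGrp.e R h) ⊗ₜ[R]
          ConstGrp.e R g := by
      intro g
      rw [key R B Γ (actHom R B Γ g b), TensorProduct.sum_tmul]
    simp only [this, map_sum, TensorProduct.assoc_tmul, ev2_tmul, ConstGrp.e_apply, ite_mul,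
      one_mul, zero_mul, ite_smul, one_smul, zero_smul, Finset.sum_ite_eq, Finset.mem_univ,
      if_true]
  have hR : ev2 R B Γ γ δ ((LinearMap.lTensor B (CoalgebraStruct.comul (R := R)
      (A := ConstGrp.F R Γ))) (HopfRep.Comod.coact (k := R) (A := ConstGrp.F R Γ) b)) =
      actHom R B Γ (γ * δ) b := by
    rw [key R B Γ b, map_sum]
    simp only [LinearMap.lTensor_tmul, ConstGrp.comul_e, TensorProduct.tmul_sum, map_sum,
      ev2_tmul, ConstGrp.e_apply, ite_mul, one_mul, zero_mul, ite_smul, one_smul, zero_smul,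
      Finset.sum_ite_eq, Finset.mem_univ, if_true, eq_inv_mul_iff_mul_eq]
  rw [← hL, ← hR, h]

noncomputable def act₀ : MulSemiringAction Γ B where
  smul γ b := actHom R B Γ γ b
  one_smul b := act_one R B Γ b
  mul_smul γ δ b := act_mul R B Γ γ δ b
  smul_zero γ := map_zero _
  smul_add γ := map_add _
  smul_one γ := map_one _
  smul_mul γ := map_mul _

theorem smulComm₀ : letI := act₀ R B Γ; SMulCommClass Γ R B := by
  letI := act₀ R B Γ
  exact ⟨fun γ r b => (map_smul (actHom R B Γ γ) r b)⟩

end Aux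

open TensorProduct in
/-- Let R be a commutative ring, Γ a finite group and B a commutative R-algebra equipped with a comodule
structure over the Hopf algebra of R-valued functions on Γ (the coordinate ring of the constant
group scheme of Γ over Spec R, with basis the indicator functions e_γ) whose coaction B → B ⊗ Fun(Γ,
R) is a homomorphism of algebras, i.e. an action of the constant group scheme on Spec B. Then there
is exactly one action of Γ on B by R-algebra automorphisms whose associated coaction b ↦ Σ_γ (γ · b)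
⊗ e_γ is the given coaction; and for that action the ring of invariants of the comodule algebra (the
b whose coaction is b ⊗ 1) equals the ring of elements fixed by Γ. (That the coaction associated
with an action is a comodule algebra structure is the other direction of the published equivalence
and is a construction here.) -/
theorem result (R : Type u) [CommRing R]
    (B : Type u) [CommRing B] [Algebra R B] (Γ : Type u) [Group Γ] [Fintype Γ] [DecidableEq Γ]
    [HopfRep.Comod R (ConstGrp.F R Γ) B] [GLin.IsCoactAlg R (ConstGrp.F R Γ) B] :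
    ∃! a : MulSemiringAction Γ B, ∃ _ : SMulCommClass Γ R B,
      ConstAct.coactLin R B Γ = HopfRep.Comod.coact (k := R) (A := ConstGrp.F R Γ) (V := B) ∧
        GLin.invariants R (ConstGrp.F R Γ) B = ConstAct.inv R B Γ := by
  classical
  refine ⟨act₀ R B Γ, ⟨smulComm₀ R B Γ, ?_, ?_⟩, ?_⟩
  · letI := act₀ R B Γ
    haveI := smulComm₀ R B Γ
    apply LinearMap.ext
    intro b
    rw [ConstAct.coactLin_apply, key R B Γ b]
    rfl
  · letI := act₀ R B Γ
    haveI := smulComm₀ R B Γ
    ext b
    rw [GLin.mem_invariants_iff, ConstAct.mem_inv]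
    constructor
    · intro h g
      show actHom R B Γ g b = b
      rw [actHom_apply, h, evB_tmul, ConstGrp.one_apply, one_smul]
    · intro h
      have h' : ∀ g : Γ, actHom R B Γ g b = b := h
      rw [key R B Γ b]
      simp only [h']
      rw [← TensorProduct.tmul_sum, ConstGrp.sum_e]
  · rintro a' ⟨c', h1', -⟩
    apply msa_ext
    intro γ b
    have hb : HopfRep.Comod.coact (k := R) (A := ConstGrp.F R Γ) b =
        ∑ g : Γ, (letI := a'; g • b) ⊗ₜ[R] ConstGrp.e R g := by
      rw [← h1']
      exact @ConstAct.coactLin_apply R _ B _ _ Γ _ _ _ a' c' b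
    have := congrArg (evB R B Γ γ) hb
    rw [evB_sum] at this
    exact this.symm

end Groth.Agent.S16962
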