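import Groth.Statements.S16963
import Mathlib
-- import your own Groth.Agent.* helpers here

set_option autoImplicit false
universe u
open scoped BigOperators
open ConstAct

namespace Groth.Agent.S16963

open TensorProduct in
/-- Let R be a commutative ring and Γ a finite group acting on a commutative R-algebra B by R-algebra
automorphisms; regard B as a comodule algebra over the Hopf algebra of R-valued functions on Γ (the
constant group scheme of Γ acting on Spec B) through the coaction b ↦ Σ_γ (γ · b) ⊗ e_γ. Then the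
action is tame — there is a comodule map α from the Hopf algebra, with its regular coaction, to B
with α(1) = 1 (a total integral) — if and only if the trace b ↦ Σ_γ γ · b, which takes values in the
ring of invariants B^Γ, maps B onto B^Γ. -/
theorem result (R : Type u) [CommRing R]
    (B : Type u) [CommRing B] [Algebra R B] (Γ : Type u) [Group Γ] [Fintype Γ] [DecidableEq Γ]
    [MulSemiringAction Γ B] [SMulCommClass Γ R B] :
    letI := ConstAct.comod R B Γ
    (∃ α : ConstGrp.F R Γ →ₗ[R] B, Hoch.IsComodHom (ConstGrp.F R Γ) α ∧ α 1 = 1) ↔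
      ∀ c : B, c ∈ ConstAct.inv R B Γ → ∃ b : B, ∑ γ : Γ, γ • b = c := by
  letI inst := ConstAct.comod R B Γ
  have hcoB : ∀ x : B, HopfRep.Comod.coact (k := R) (A := ConstGrp.F R Γ) (V := B) x =
      ∑ g : Γ, TensorProduct.tmul R (g • x) (ConstGrp.e R g) := fun x => ConstAct.coactLin_apply R B Γ x
  -- the projection to the γ-component
  have hproj : ∀ (γ : Γ) (f : Γ → B),
      (TensorProduct.rid R B) ((LinearMap.lTensor B (ConstGrp.ev R γ).toLinearMap)
        (∑ g : Γ, TensorProduct.tmul R (f g) (ConstGrp.e R g))) = f γ := by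
    intro γ f
    rw [map_sum, map_sum, Finset.sum_eq_single γ]
    · simp
    · intro g _ hg
      simp [ConstGrp.e_apply_of_ne (Ne.symm hg)]
    · intro h; exact absurd (Finset.mem_univ _) h
  constructor
  · rintro ⟨α, hα, hα1⟩ c hc
    have key : ∀ g γ : Γ, γ • α (ConstGrp.e R g) = α (ConstGrp.e R (g * γ⁻¹)) := by
      intro g γ
      have h1 := LinearMap.congr_fun hα (ConstGrp.e R g)
      simp only [LinearMap.comp_apply] at h1
      rw [hcoB] at h1
      have h2 : HopfRep.Comod.coact (k := R) (A := ConstGrp.F R Γ) (V := ConstGrp.F R Γ)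
          (ConstGrp.e R g) = ∑ a : Γ, TensorProduct.tmul R (ConstGrp.e R a) (ConstGrp.e R (a⁻¹ * g)) :=
        ConstGrp.comul_e R Γ g
      rw [h2, map_sum] at h1
      simp only [LinearMap.rTensor_tmul] at h1
      have h3 : ∑ a : Γ, TensorProduct.tmul R (α (ConstGrp.e R a)) (ConstGrp.e R (a⁻¹ * g)) =
          ∑ δ : Γ, TensorProduct.tmul R (α (ConstGrp.e R (g * δ⁻¹))) (ConstGrp.e R δ) := by
        refine (Fintype.sum_equiv ((Equiv.inv Γ).trans (Equiv.mulLeft g)) _ _ fun δ => ?_).symm
        simp [mul_inv_rev]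
      rw [h3] at h1
      have h4 := congrArg (fun t => (TensorProduct.rid R B)
        ((LinearMap.lTensor B (ConstGrp.ev R γ).toLinearMap) t)) h1
      rw [hproj γ (fun δ => δ • α (ConstGrp.e R g)), hproj γ (fun δ => α (ConstGrp.e R (g * δ⁻¹)))] at h4
      exact h4
    have htr : ∑ γ : Γ, γ • α (ConstGrp.e R 1) = 1 := by
      rw [← hα1, ← ConstGrp.sum_e (R := R) (G := Γ), map_sum]
      refine Fintype.sum_equiv (Equiv.inv Γ) _ _ fun γ => ?_
      rw [key 1 γ, one_mul]
      rfl
    refine ⟨c * α (ConstGrp.e R 1), ?_⟩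
    have hc' : ∀ g : Γ, g • c = c := (ConstAct.mem_inv R B Γ c).mp hc
    simp only [smul_mul', hc']
    rw [← Finset.mul_sum, htr, mul_one]
  · intro h
    obtain ⟨b, hb⟩ := h 1 (by rw [ConstAct.mem_inv]; intro g; exact smul_one g)
    refine ⟨(ConstGrp.basis R Γ).constr R (fun g => g⁻¹ • b), ?_, ?_⟩
    · have hαe : ∀ g : Γ, ((ConstGrp.basis R Γ).constr R (fun g => g⁻¹ • b)) (ConstGrp.e R g) = g⁻¹ • b := by
        intro g
        rw [← ConstGrp.basis_apply, Module.Basis.constr_basis]
      apply ConstGrp.linearMap_ext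
      intro g
      simp only [LinearMap.comp_apply]
      rw [hcoB]
      have h2 : HopfRep.Comod.coact (k := R) (A := ConstGrp.F R Γ) (V := ConstGrp.F R Γ)
          (ConstGrp.e R g) = ∑ a : Γ, TensorProduct.tmul R (ConstGrp.e R a) (ConstGrp.e R (a⁻¹ * g)) :=
        ConstGrp.comul_e R Γ g
      rw [h2, map_sum]
      simp only [LinearMap.rTensor_tmul, hαe]
      refine Fintype.sum_equiv ((Equiv.inv Γ).trans (Equiv.mulLeft g)) _ _ fun δ => ?_
      simp [mul_inv_rev, mul_smul]
    · have hαe : ∀ g : Γ, ((ConstGrp.basis R Γ).constr R (fun g => g⁻¹ • b)) (ConstGrp.e R g) = g⁻¹ • b := by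
        intro g
        rw [← ConstGrp.basis_apply, Module.Basis.constr_basis]
      rw [← ConstGrp.sum_e (R := R) (G := Γ), map_sum]
      simp only [hαe]
      rw [← hb]
      exact Fintype.sum_equiv (Equiv.inv Γ) _ _ fun γ => rfl

end Groth.Agent.S16963
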