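import Groth.Statements.S16979
import Mathlib
-- import your own Groth.Agent.* helpers here

set_option autoImplicit false
universe u v
open CAlg

namespace Groth.Agent.S16979

/-- Let R be an integral domain with fraction field K and φ a square matrix over R whose characteristic
polynomial becomes separable in K[T] (equivalently, K[T] modulo the characteristic polynomial is
geometrically reduced over K). Then a polynomial f over R satisfies f(φ) = 0 exactly when the
characteristic polynomial of φ divides f in R[T]: the kernel of evaluation at φ (the minimal ideal
of φ) is the principal ideal generated by the characteristic polynomial. -/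
theorem result
    {R : Type u} [CommRing R] [IsDomain R] {n : Type v} [Fintype n] [DecidableEq n]
    (φ : Matrix n n R)
    (hsep : (φ.charpoly.map (algebraMap R (FractionRing R))).Separable) :
    RingHom.ker (Polynomial.aeval (R := R) φ) = Ideal.span {φ.charpoly} := by
  classical
  let K := FractionRing R
  let L := AlgebraicClosure K
  let g : R →+* L := algebraMap R L
  have hg : Function.Injective g := by
    have : g = (algebraMap K L).comp (algebraMap R K) := IsScalarTower.algebraMap_eq R K L
    rw [this]
    exact (algebraMap K L).injective.comp (IsFractionRing.injective R K)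
  have hcm : φ.charpoly.Monic := φ.charpoly_monic
  ext f
  rw [RingHom.mem_ker, Ideal.mem_span_singleton]
  constructor
  · intro hf
    let F : Matrix n n R →ₐ[R] Matrix n n L := (Algebra.ofId R L).mapMatrix
    let ψ : Matrix n n L := F φ
    have hψ : ψ = φ.map g := rfl
    have hcL : φ.charpoly.map g = ψ.charpoly := by rw [hψ, Matrix.charpoly_map]
    have hsepL : (φ.charpoly.map g).Separable := by
      have : φ.charpoly.map g = (φ.charpoly.map (algebraMap R K)).map (algebraMap K L) := by
        rw [Polynomial.map_map]; rfl
      rw [this]; exact hsep.map
    have hfL : Polynomial.aeval ψ (f.map g) = 0 := by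
      have h1 : Polynomial.aeval ψ (f.map (algebraMap R L)) = Polynomial.aeval ψ f :=
        Polynomial.aeval_map_algebraMap L ψ f
      have h2 : Polynomial.aeval ψ f = F (Polynomial.aeval φ f) :=
        Polynomial.aeval_algHom_apply F φ f
      change Polynomial.aeval ψ (f.map (algebraMap R L)) = 0
      rw [h1, h2, hf, map_zero]
    have hdvd : φ.charpoly.map g ∣ f.map g := by
      by_cases hf0 : f.map g = 0
      · rw [hf0]; exact dvd_zero _
      apply Polynomial.Splits.dvd_of_roots_le_roots (IsAlgClosed.splits _) (hcm.map g).ne_zero
      rw [Multiset.le_iff_subset (Polynomial.nodup_roots hsepL)]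
      intro μ hμ
      rw [Polynomial.mem_roots (hcm.map g).ne_zero] at hμ
      rw [Polynomial.mem_roots hf0]
      rw [hcL] at hμ
      have hspec : μ ∈ spectrum L ψ := Matrix.mem_spectrum_iff_isRoot_charpoly.mpr hμ
      have h1 : Polynomial.eval μ (f.map g) ∈ spectrum L (Polynomial.aeval ψ (f.map g)) :=
        spectrum.subset_polynomial_aeval ψ (f.map g) ⟨μ, hspec, rfl⟩
      rw [hfL] at h1
      rcases subsingleton_or_nontrivial (Matrix n n L) with hs | hn
      · exfalso; rw [spectrum.of_subsingleton] at hspec; exact hspec
      · rw [spectrum.zero_eq] at h1; exact h1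
    rw [← Polynomial.modByMonic_eq_zero_iff_dvd hcm]
    apply Polynomial.map_injective g hg
    rw [Polynomial.map_modByMonic _ hcm, Polynomial.map_zero,
      Polynomial.modByMonic_eq_zero_iff_dvd (hcm.map g)]
    exact hdvd
  · rintro ⟨q, rfl⟩
    rw [map_mul, Matrix.aeval_self_charpoly, zero_mul]

end Groth.Agent.S16979
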