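import Groth.Statements.S16983
import Mathlib

set_option autoImplicit false
universe u
open DeformData

namespace Groth.Agent.S16983

theorem aux_fract (p : ℕ) (m : ℕ) (hm : 0 < m) (hmp : Nat.Coprime m p) (h : ℤ) (a : ℕ)
    (hf : Int.fract ((p : ℚ) ^ a * ((h : ℚ) / (m : ℚ))) = 0) :
    ∃ w : ℤ, (h : ℚ) / (m : ℚ) = w := by
  have hm0 : (m : ℚ) ≠ 0 := by exact_mod_cast hm.ne'
  have h1 : (p : ℚ) ^ a * ((h : ℚ) / (m : ℚ)) = (⌊(p : ℚ) ^ a * ((h : ℚ) / (m : ℚ))⌋ : ℚ) := by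
    have := Int.floor_add_fract ((p : ℚ) ^ a * ((h : ℚ) / (m : ℚ)))
    rw [hf, add_zero] at this
    exact this.symm
  obtain ⟨z, hz⟩ : ∃ z : ℤ, z = ⌊(p : ℚ) ^ a * ((h : ℚ) / (m : ℚ))⌋ := ⟨_, rfl⟩
  rw [← hz] at h1
  have h2 : ((p : ℤ) ^ a * h : ℤ) = z * (m : ℤ) := by
    have : ((p : ℚ) ^ a * (h : ℚ)) = (z : ℚ) * (m : ℚ) := by
      rw [← h1]; field_simp
    exact_mod_cast this
  have hcop : IsCoprime ((m : ℤ)) ((p : ℤ) ^ a) := by
    apply IsCoprime.pow_right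
    exact Nat.isCoprime_iff_coprime.mpr hmp
  have hdvd : (m : ℤ) ∣ h := by
    apply hcop.dvd_of_dvd_mul_right
    rw [mul_comm, h2]; exact dvd_mul_left _ _
  obtain ⟨w, hw⟩ := hdvd
  refine ⟨w, ?_⟩
  rw [hw]; push_cast; field_simp

/-- Let p be a prime, s ≥ 1, B a finite index set with a subset B₀ of exactly three elements, m_j ≥ 1
integers coprime to p, and σ_{i,j} (i < s, j ∈ B) rational numbers with m_j σ_{i,j} an integer, such
that Σ_j (σ_{i,j} − 1) = −2 for every i, the fractional part of σ_{i,j} equals that of p^i σ_{0,j},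
no σ_{i,j} equals 1, and the minimum over i of ⌊σ_{i,j}⌋ is 0 for j ∈ B₀ and 1 for j ∉ B₀. Then for
every i the fractional parts ⟨σ_{i,j}⟩ sum over j to 1 (purity), and ⌊σ_{i,j}⌋ is 0 on B₀ and 1 off
B₀ for every i. (The hypotheses are exactly the properties of the signature of a special deformation
datum on the projective line: each entry is an integer divided by a stabilizer order m_j in a group
of order prime to p, the degree identity coming from Riemann–Hurwitz, the Frobenius-twist relation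
between fractional parts, and the speciality conditions; the statement is given here for any such
tuple.) -/
theorem result
    {B : Type u} [Fintype B] [DecidableEq B] (B₀ : Finset B) (hB₀ : B₀.card = 3)
    (p : ℕ) (hp : p.Prime) (s : ℕ) (hs : 0 < s)
    (m : B → ℕ) (hm : ∀ j, 0 < m j) (hmp : ∀ j, Nat.Coprime (m j) p)
    (σ : Fin s → B → ℚ) (hint : ∀ i j, ∃ h : ℤ, σ i j = (h : ℚ) / (m j : ℚ))
    (hsum : ∀ i, ∑ j, (σ i j - 1) = -2)
    (hfract : ∀ i j, Int.fract (σ i j) = Int.fract ((p : ℚ) ^ (i : ℕ) * σ ⟨0, hs⟩ j))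
    (hne : ∀ i j, σ i j ≠ 1)
    (hB₀min : ∀ j ∈ B₀, (∃ i, ⌊σ i j⌋ = 0) ∧ ∀ i, 0 ≤ ⌊σ i j⌋)
    (hBmin : ∀ j ∉ B₀, (∃ i, ⌊σ i j⌋ = 1) ∧ ∀ i, 1 ≤ ⌊σ i j⌋) :
    (∀ i, ∑ j, Int.fract (σ i j) = 1) ∧ (∀ i j, ⌊σ i j⌋ = if j ∈ B₀ then 0 else 1) := by
  classical
  obtain ⟨c, hc⟩ : ∃ c : B → ℤ, c = fun j => if j ∈ B₀ then 0 else 1 := ⟨_, rfl⟩
  have hc0 : ∀ j, j ∈ B₀ → c j = 0 := by intro j hj; rw [hc]; simp [hj]
  have hc1 : ∀ j, j ∉ B₀ → c j = 1 := by intro j hj; rw [hc]; simp [hj]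
  have hcle : ∀ i j, 0 ≤ ⌊σ i j⌋ - c j := by
    intro i j
    by_cases hj : j ∈ B₀
    · rw [hc0 j hj, sub_zero]; exact (hB₀min j hj).2 i
    · rw [hc1 j hj]; have := (hBmin j hj).2 i; omega
  have hcsum : ∑ j, ((c j : ℚ) - 1) = -3 := by
    have : ∀ j, ((c j : ℚ) - 1) = if j ∈ B₀ then (-1 : ℚ) else 0 := by
      intro j
      by_cases hj : j ∈ B₀
      · rw [hc0 j hj, if_pos hj]; norm_num
      · rw [hc1 j hj, if_neg hj]; norm_num
    simp_rw [this]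
    rw [Finset.sum_ite_mem, Finset.univ_inter, Finset.sum_const, hB₀]
    norm_num
  have key : ∀ i, (∑ j, ((⌊σ i j⌋ : ℚ) - (c j : ℚ))) + ∑ j, Int.fract (σ i j) = 1 := by
    intro i
    have h1 : ∀ j, σ i j - 1 =
        ((⌊σ i j⌋ : ℚ) - (c j : ℚ)) + Int.fract (σ i j) + ((c j : ℚ) - 1) := by
      intro j
      have := Int.floor_add_fract (σ i j)
      linarith
    have h2 : ∑ j, (((⌊σ i j⌋ : ℚ) - (c j : ℚ)) + Int.fract (σ i j) + ((c j : ℚ) - 1)) = -2 := by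
      rw [← hsum i]; exact Finset.sum_congr rfl (fun j _ => (h1 j).symm)
    rw [Finset.sum_add_distrib, Finset.sum_add_distrib, hcsum] at h2
    linarith
  have hΦ0 : ∀ i, 0 ≤ ∑ j, Int.fract (σ i j) :=
    fun i => Finset.sum_nonneg fun j _ => Int.fract_nonneg _
  have hD0 : ∀ i, 0 ≤ ∑ j, (⌊σ i j⌋ - c j) := fun i => Finset.sum_nonneg fun j _ => hcle i j
  have hDcast : ∀ i, ((∑ j, (⌊σ i j⌋ - c j) : ℤ) : ℚ) = ∑ j, ((⌊σ i j⌋ : ℚ) - (c j : ℚ)) := by
    intro i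
    rw [Int.cast_sum]; exact Finset.sum_congr rfl (fun j _ => Int.cast_sub _ _)
  have hD1 : ∀ i, ∑ j, (⌊σ i j⌋ - c j) ≤ 1 := by
    intro i
    have h1 := key i
    have h2 := hΦ0 i
    rw [← hDcast] at h1
    have : ((∑ j, (⌊σ i j⌋ - c j) : ℤ) : ℚ) ≤ 1 := by linarith
    exact_mod_cast this
  have hprop : ∀ i₀ j, Int.fract (σ i₀ j) = 0 → ∀ i, Int.fract (σ i j) = 0 := by
    intro i₀ j h0 i
    obtain ⟨h, hh⟩ := hint ⟨0, hs⟩ j
    rw [hfract i₀ j, hh] at h0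
    obtain ⟨w, hw⟩ := aux_fract p (m j) (hm j) (hmp j) h i₀ h0
    rw [hfract i j, hh, hw]
    have : (p : ℚ) ^ (i : ℕ) * (w : ℚ) = (((p : ℤ) ^ (i : ℕ) * w : ℤ) : ℚ) := by
      rw [Int.cast_mul, Int.cast_pow, Int.cast_natCast]
    rw [this, Int.fract_intCast]
  have hone : ∀ i j, Int.fract (σ i j) = 0 → ⌊σ i j⌋ = 1 → False := by
    intro i j h0 h1
    apply hne i j
    have := Int.floor_add_fract (σ i j)
    rw [h0, h1] at this
    rw [← this]; norm_num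
  have hDzero : ∀ i, ∑ j, (⌊σ i j⌋ - c j) = 0 := by
    intro i₀
    by_contra hne0
    have hDi : ∑ j, (⌊σ i₀ j⌋ - c j) = 1 := by
      have := hD0 i₀; have := hD1 i₀; omega
    have hΦ : ∑ j, Int.fract (σ i₀ j) = 0 := by
      have h1 := key i₀
      rw [← hDcast, hDi] at h1
      push_cast at h1
      linarith
    have hall0 : ∀ j, Int.fract (σ i₀ j) = 0 := by
      intro j
      exact (Finset.sum_eq_zero_iff_of_nonneg (fun j _ => Int.fract_nonneg _)).mp hΦ j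
        (Finset.mem_univ j)
    obtain ⟨j, hj⟩ : ∃ j, 1 ≤ ⌊σ i₀ j⌋ - c j := by
      by_contra hcon
      push_neg at hcon
      have : ∑ j, (⌊σ i₀ j⌋ - c j) ≤ 0 :=
        Finset.sum_nonpos fun j _ => by have := hcon j; omega
      omega
    have hj1 : ⌊σ i₀ j⌋ - c j ≤ 1 := by
      calc ⌊σ i₀ j⌋ - c j ≤ ∑ j, (⌊σ i₀ j⌋ - c j) :=
            Finset.single_le_sum (f := fun j => ⌊σ i₀ j⌋ - c j) (fun j _ => hcle i₀ j)
              (Finset.mem_univ j)
        _ = 1 := hDi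
    by_cases hjB : j ∈ B₀
    · rw [hc0 j hjB] at hj hj1
      exact hone i₀ j (hall0 j) (by omega)
    · obtain ⟨i', hi'⟩ := (hBmin j hjB).1
      exact hone i' j (hprop i₀ j (hall0 j) i') hi'
  refine ⟨fun i => ?_, fun i j => ?_⟩
  · have h1 := key i
    rw [← hDcast, hDzero i] at h1
    push_cast at h1
    linarith
  · have h1 := (Finset.sum_eq_zero_iff_of_nonneg (fun j _ => hcle i j)).mp (hDzero i) j
      (Finset.mem_univ j)
    have hcj : c j = if j ∈ B₀ then 0 else 1 := by rw [hc]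
    rw [← hcj]; omega

end Groth.Agent.S16983
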