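import Groth.Statements.S16984
import Mathlib
-- import your own Groth.Agent.* helpers here

set_option autoImplicit false
universe u v w
open Hoch

namespace Groth.Agent.S16984

open TensorProduct in
/-- Let k be a commutative ring, A a commutative k-bialgebra that is flat over k (the coordinate ring of
a flat affine group scheme over Spec k; flatness and commutativity are the standing hypotheses of
the appendix and are not needed for the assertion) and P a k-module. Then p ↦ p ⊗ 1 is an injection
of P into the induced comodule P ⊗ A (coaction id ⊗ Δ) whose image is exactly the submodule of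
invariants, i.e. the elements with coaction x ↦ x ⊗ 1. (The published statement writes the
coordinate-ring factor on the left and calls this module coinduced; this row is its degree-zero
part, the identification of P with the invariants of the coinduced module.) -/
theorem result (k : Type u) [CommRing k] (A : Type v) [CommRing A] [Bialgebra k A]
    [Module.Flat k A] (P : Type w) [AddCommGroup P] [Module k P] :
    Function.Injective ((Hoch.Ind.equiv k A P).toLinearMap ∘ₗ (TensorProduct.mk k P A).flip (1 : A)) ∧
    LinearMap.range ((Hoch.Ind.equiv k A P).toLinearMap ∘ₗ (TensorProduct.mk k P A).flip (1 : A)) =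
      HopfRep.fixedPts k A (Hoch.Ind k A P) := by
  have hj : ∀ p : P, ((Hoch.Ind.equiv k A P).toLinearMap ∘ₗ
      (TensorProduct.mk k P A).flip (1 : A)) p = Hoch.Ind.equiv k A P (p ⊗ₜ[k] (1 : A)) :=
    fun p => rfl
  obtain ⟨Θ, hΘdef⟩ : ∃ Θ : (P ⊗[k] A) ⊗[k] A →ₗ[k] P ⊗[k] A,
      Θ = ((TensorProduct.rid k P).toLinearMap ∘ₗ
        (Coalgebra.counit (R := k) (A := A)).lTensor P).rTensor A := ⟨_, rfl⟩
  have hΘ : ∀ y : P ⊗[k] A, Θ (Hoch.Ind.coactAux k A P y) = y := by
    intro y
    induction y using TensorProduct.induction_on with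
    | zero => simp
    | tmul p a =>
      rw [Hoch.Ind.coactAux_tmul]
      have h1 : ∀ z : A ⊗[k] A, Θ ((TensorProduct.assoc k P A A).symm (p ⊗ₜ[k] z)) =
          p ⊗ₜ[k] (TensorProduct.lid k A
            ((Coalgebra.counit (R := k) (A := A)).rTensor A z)) := by
        intro z
        induction z using TensorProduct.induction_on with
        | zero => simp
        | tmul a1 a2 =>
          rw [hΘdef]
          simp [TensorProduct.smul_tmul]
        | add z1 z2 h1 h2 => simp only [TensorProduct.tmul_add, map_add, h1, h2]
      rw [h1, Coalgebra.rTensor_counit_comul, TensorProduct.lid_tmul, one_smul]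
    | add y1 y2 h1 h2 => rw [map_add, map_add, h1, h2]
  constructor
  · apply Function.LeftInverse.injective (g := Hoch.Ind.counit k A P)
    intro p
    rw [hj, Hoch.Ind.counit_equiv_tmul, Bialgebra.counit_one, one_smul]
  · apply le_antisymm
    · rintro _ ⟨p, rfl⟩
      rw [hj]
      show HopfRep.Comod.coact (k := k) (A := A) (V := Hoch.Ind k A P)
        (Hoch.Ind.equiv k A P (p ⊗ₜ[k] (1 : A))) =
          (Hoch.Ind.equiv k A P (p ⊗ₜ[k] (1 : A))) ⊗ₜ[k] (1 : A)
      rw [Hoch.Ind.coact_equiv_tmul, Bialgebra.comul_one, Algebra.TensorProduct.one_def,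
        TensorProduct.assoc_symm_tmul]
      rfl
    · intro x hx
      obtain ⟨y, hy⟩ : ∃ y : P ⊗[k] A, Hoch.Ind.equiv k A P y = x :=
        ⟨(Hoch.Ind.equiv k A P).symm x, LinearEquiv.apply_symm_apply _ _⟩
      have hx' : Hoch.Ind.coactAux k A P y = y ⊗ₜ[k] (1 : A) := by
        have h1 : HopfRep.Comod.coact (k := k) (A := A) (V := Hoch.Ind k A P) x =
          x ⊗ₜ[k] (1 : A) := hx
        rw [← hy] at h1
        exact h1
      have h2 := hΘ y
      rw [hx', hΘdef, LinearMap.rTensor_tmul] at h2
      refine ⟨(TensorProduct.rid k P) ((Coalgebra.counit (R := k) (A := A)).lTensor P y), ?_⟩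
      rw [hj, ← hy]
      congr 1

end Groth.Agent.S16984
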