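import Groth.Statements.S16985
import Mathlib

set_option autoImplicit false
universe u v
open Hoch

namespace Groth.Agent.S16985

section Aux

open TensorProduct

variable (k : Type u) [CommRing k] (A : Type v) [CommRing A] [Bialgebra k A]
  (P : Type v) [AddCommGroup P] [Module k P]

/-- `s₁ : (Ind P) ⊗ A → Ind P`, `(p ⊗ a) ⊗ b ↦ ε(a) p ⊗ b`. -/
noncomputable def s1 : (Hoch.Ind k A P) ⊗[k] A →ₗ[k] Hoch.Ind k A P :=
  (Hoch.Ind.equiv k A P).toLinearMap ∘ₗ (Hoch.Ind.counit k A P).rTensor A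

theorem s1_tmul (p : P) (a b : A) :
    s1 k A P ((Hoch.Ind.equiv k A P (p ⊗ₜ[k] a)) ⊗ₜ[k] b) =
      Coalgebra.counit (R := k) a • Hoch.Ind.equiv k A P (p ⊗ₜ[k] b) := by
  rw [s1, LinearMap.comp_apply, LinearMap.rTensor_tmul, Hoch.Ind.counit_equiv_tmul,
    ← TensorProduct.smul_tmul', LinearEquiv.coe_coe, map_smul]

theorem lemA (p : P) (t : A ⊗[k] A) :
    s1 k A P ((TensorProduct.assoc k P A A).symm (p ⊗ₜ[k] t)) =
      Hoch.Ind.equiv k A P
        (p ⊗ₜ[k] (TensorProduct.lid k A ((Coalgebra.counit (R := k) (A := A)).rTensor A t))) := by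
  induction t using TensorProduct.induction_on with
  | zero => simp; exact map_zero (s1 k A P)
  | tmul x y =>
    rw [TensorProduct.assoc_symm_tmul]
    have := s1_tmul k A P p x y
    rw [show ((p ⊗ₜ[k] x) ⊗ₜ[k] y : (P ⊗[k] A) ⊗[k] A) =
      ((Hoch.Ind.equiv k A P (p ⊗ₜ[k] x)) ⊗ₜ[k] y : (Hoch.Ind k A P) ⊗[k] A) from rfl, this,
      LinearMap.rTensor_tmul, TensorProduct.lid_tmul, TensorProduct.tmul_smul, map_smul]
  | add u v hu hv =>
    simp only [TensorProduct.tmul_add, map_add]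
    rw [← hu, ← hv]
    exact map_add (s1 k A P) _ _

theorem lemB (p : P) (a : A) (u : A ⊗[k] A) :
    (s1 k A P).rTensor A ((TensorProduct.assoc k (Hoch.Ind k A P) A A).symm
        ((Hoch.Ind.equiv k A P (p ⊗ₜ[k] a)) ⊗ₜ[k] u)) =
      Coalgebra.counit (R := k) a •
        ((TensorProduct.assoc k P A A).symm (p ⊗ₜ[k] u) : (P ⊗[k] A) ⊗[k] A) := by
  induction u using TensorProduct.induction_on with
  | zero => simp; rfl
  | tmul y z =>
    rw [TensorProduct.assoc_symm_tmul, LinearMap.rTensor_tmul, s1_tmul,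
      TensorProduct.assoc_symm_tmul, ← TensorProduct.smul_tmul']
    rfl
  | add u v hu hv => simp only [TensorProduct.tmul_add, map_add, hu, hv, smul_add]; rfl

theorem tail_natural {M N : Type v} [AddCommGroup M] [Module k M] [AddCommGroup N] [Module k N]
    (f : M →ₗ[k] N) :
    Hoch.tail k A N ∘ₗ f.rTensor A = (f.rTensor A).rTensor A ∘ₗ Hoch.tail k A M := by
  apply TensorProduct.ext'
  intro m a
  simp only [LinearMap.comp_apply, LinearMap.rTensor_tmul, Hoch.tail_tmul]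
  generalize (Coalgebra.comul (R := k) a - a ⊗ₜ[k] (1 : A) - (1 : A) ⊗ₜ[k] a) = u
  induction u using TensorProduct.induction_on with
  | zero => simp
  | tmul x y => simp
  | add u v hu hv => simp only [TensorProduct.tmul_add, map_add, hu, hv]

theorem fin_aux {G : Type*} [AddCommGroup G] [Module k G] (ε : k) (x y z t : G) :
    x - ε • y - ε • (t - z - y) + ε • (t - z) = x := by
  simp only [smul_sub]; abel

theorem fin_aux2 {G : Type*} [AddCommGroup G] [Module k G] (X Y Z I : G) (c c' : k)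
    (h : X + Y = I) (hc : c + c' = 0) : X + c • Z + (Y + c' • Z) = I := by
  rw [← h]
  have : c' = -c := by rw [← sub_eq_zero, sub_neg_eq_add, add_comm]; exact hc
  rw [this, neg_smul]; abel

theorem base_apply (p : P) (a b : A) :
    (s1 k A P).rTensor A (Hoch.d k A (Hoch.Ind k A P) (0 + 1)
        ((Hoch.Ind.equiv k A P (p ⊗ₜ[k] a)) ⊗ₜ[k] b)) +
      Hoch.d k A (Hoch.Ind k A P) 0 (s1 k A P ((Hoch.Ind.equiv k A P (p ⊗ₜ[k] a)) ⊗ₜ[k] b)) =
    ((Hoch.Ind.equiv k A P (p ⊗ₜ[k] a)) ⊗ₜ[k] b : (Hoch.Ind k A P) ⊗[k] A) := by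
  obtain ⟨v, hv⟩ : ∃ v : Hoch.Ind k A P, v = Hoch.Ind.equiv k A P (p ⊗ₜ[k] a) := ⟨_, rfl⟩
  have h1 : Hoch.d k A (Hoch.Ind k A P) (0 + 1) (v ⊗ₜ[k] b) =
      (HopfRep.Comod.coact (k := k) (A := A) v - v ⊗ₜ[k] (1 : A)) ⊗ₜ[k] b -
        Hoch.tail k A (Hoch.Ind k A P) (v ⊗ₜ[k] b) := by
    rw [Hoch.d_succ]
    simp only [LinearMap.add_apply, LinearMap.smul_apply, LinearMap.rTensor_tmul,
      Hoch.d_zero_apply, zero_add, pow_one, neg_smul, one_smul]
    rw [Hoch.d_zero_apply]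
    exact (sub_eq_add_neg _ _).symm
  have h2 : s1 k A P (HopfRep.Comod.coact (k := k) (A := A) (V := Hoch.Ind k A P) v :
      (Hoch.Ind k A P) ⊗[k] A) = v := by
    rw [hv]
    have := lemA k A P p (Coalgebra.comul (R := k) a)
    rw [Coalgebra.rTensor_counit_comul, TensorProduct.lid_tmul, one_smul] at this
    exact this
  have h3 : ∀ c : A, s1 k A P (v ⊗ₜ[k] c) =
      Coalgebra.counit (R := k) a • Hoch.Ind.equiv k A P (p ⊗ₜ[k] c) := by
    intro c; rw [hv]; exact s1_tmul k A P p a c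
  have h4 : (s1 k A P).rTensor A (Hoch.tail k A (Hoch.Ind k A P) (v ⊗ₜ[k] b)) =
      Coalgebra.counit (R := k) a • ((TensorProduct.assoc k P A A).symm
        (p ⊗ₜ[k] (Coalgebra.comul (R := k) b - b ⊗ₜ[k] (1 : A) - (1 : A) ⊗ₜ[k] b)) :
          (P ⊗[k] A) ⊗[k] A) := by
    rw [Hoch.tail_tmul, hv]
    exact lemB k A P p a _
  have h4' : (s1 k A P).rTensor A (Hoch.tail k A (Hoch.Ind k A P) (v ⊗ₜ[k] b)) =
      Coalgebra.counit (R := k) a • (((TensorProduct.assoc k P A A).symm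
        (p ⊗ₜ[k] (Coalgebra.comul (R := k) b)) : (P ⊗[k] A) ⊗[k] A) -
          (p ⊗ₜ[k] b) ⊗ₜ[k] (1 : A) - (p ⊗ₜ[k] (1 : A)) ⊗ₜ[k] b) := by
    rw [h4, TensorProduct.tmul_sub, TensorProduct.tmul_sub, map_sub, map_sub,
      TensorProduct.assoc_symm_tmul, TensorProduct.assoc_symm_tmul]
  have h3' : ∀ c : A, (s1 k A P (v ⊗ₜ[k] c)) ⊗ₜ[k] b =
      Coalgebra.counit (R := k) a • ((Hoch.Ind.equiv k A P (p ⊗ₜ[k] c)) ⊗ₜ[k] b :
        (Hoch.Ind k A P) ⊗[k] A) := by
    intro c; rw [h3, TensorProduct.smul_tmul']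
  rw [← hv, h1, map_sub, TensorProduct.sub_tmul, map_sub, LinearMap.rTensor_tmul,
    LinearMap.rTensor_tmul, h2, h3', h3, h4', map_smul, Hoch.d_zero_apply]
  exact fin_aux k (G := (Hoch.Ind k A P) ⊗[k] A) (Coalgebra.counit (R := k) a) _ _ _ _

theorem homotopy_zero : (s1 k A P).rTensor A ∘ₗ Hoch.d k A (Hoch.Ind k A P) (0 + 1) +
    Hoch.d k A (Hoch.Ind k A P) 0 ∘ₗ s1 k A P = LinearMap.id := by
  have h : ∀ (f g : (P ⊗[k] A) ⊗[k] A →ₗ[k] (P ⊗[k] A) ⊗[k] A),
      (∀ p a b, f ((p ⊗ₜ[k] a) ⊗ₜ[k] b) = g ((p ⊗ₜ[k] a) ⊗ₜ[k] b)) → f = g :=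
    fun f g H => TensorProduct.ext_threefold H
  exact h _ _ (fun p a b => base_apply k A P p a b)

/-- The contracting homotopy. -/
noncomputable def s : (n : ℕ) → ((Hoch.cochain k A (Hoch.Ind k A P) (n + 1) : Type v) →ₗ[k]
    (Hoch.cochain k A (Hoch.Ind k A P) n : Type v))
  | 0 => s1 k A P
  | n + 1 => (s n).rTensor A

theorem homotopy : ∀ n : ℕ, (s k A P (n + 1)) ∘ₗ Hoch.d k A (Hoch.Ind k A P) (n + 1) +
    Hoch.d k A (Hoch.Ind k A P) n ∘ₗ s k A P n = LinearMap.id
  | 0 => homotopy_zero k A P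
  | n + 1 => by
    have ih := homotopy n
    have hd2 : Hoch.d k A (Hoch.Ind k A P) (n + 1 + 1) =
        (Hoch.d k A (Hoch.Ind k A P) (n + 1)).rTensor A +
          ((-1 : k) ^ (n + 1 + 1)) • Hoch.tail k A (Hoch.cochain k A (Hoch.Ind k A P) (n + 1)) := rfl
    have hd1 : Hoch.d k A (Hoch.Ind k A P) (n + 1) =
        (Hoch.d k A (Hoch.Ind k A P) n).rTensor A +
          ((-1 : k) ^ (n + 1)) • Hoch.tail k A (Hoch.cochain k A (Hoch.Ind k A P) n) := rfl
    have hs2 : s k A P (n + 1 + 1) = (s k A P (n + 1)).rTensor A := rfl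
    have hs1 : s k A P (n + 1) = (s k A P n).rTensor A := rfl
    have hnat := tail_natural k A (s k A P n)
    have e1 : s k A P (n + 1 + 1) ∘ₗ Hoch.d k A (Hoch.Ind k A P) (n + 1 + 1) =
        (s k A P (n + 1) ∘ₗ Hoch.d k A (Hoch.Ind k A P) (n + 1)).rTensor A +
          ((-1 : k) ^ (n + 1 + 1)) • ((s k A P (n + 1)).rTensor A ∘ₗ
            Hoch.tail k A (Hoch.cochain k A (Hoch.Ind k A P) (n + 1))) := by
      rw [hd2, hs2, LinearMap.comp_add, LinearMap.comp_smul, LinearMap.rTensor_comp]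
    have e2 : Hoch.d k A (Hoch.Ind k A P) (n + 1) ∘ₗ s k A P (n + 1) =
        (Hoch.d k A (Hoch.Ind k A P) n ∘ₗ s k A P n).rTensor A +
          ((-1 : k) ^ (n + 1)) • ((s k A P (n + 1)).rTensor A ∘ₗ
            Hoch.tail k A (Hoch.cochain k A (Hoch.Ind k A P) (n + 1))) := by
      rw [hd1, hs1, LinearMap.add_comp, LinearMap.smul_comp, LinearMap.rTensor_comp, hnat]
    rw [e1, e2]
    have e3 : (s k A P (n + 1) ∘ₗ Hoch.d k A (Hoch.Ind k A P) (n + 1)).rTensor A +
        (Hoch.d k A (Hoch.Ind k A P) n ∘ₗ s k A P n).rTensor A = LinearMap.id := by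
      rw [← LinearMap.rTensor_add, ih, LinearMap.rTensor_id]
    have e4 : (-1 : k) ^ (n + 1 + 1) + (-1 : k) ^ (n + 1) = 0 := by ring
    exact fin_aux2 k _ _ _ _ _ _ e3 e4

end Aux

open TensorProduct in
/-- Let k be a commutative ring, A a commutative k-bialgebra flat over k (the coordinate ring of a flat
affine group scheme over Spec k; flatness and commutativity are the standing hypotheses of the
appendix and are not needed for the assertion) and P a k-module. Then the cochain complex of the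
induced comodule P ⊗ A (coaction id ⊗ Δ), with n-cochains (P ⊗ A) ⊗ A ⊗ ⋯ ⊗ A, has every
(n+1)-cocycle an (n+1)-coboundary, for all n. (The published statement is the vanishing of the
higher derived functors of invariants on coinduced modules; this row states the vanishing in
positive degrees of the cohomology of the cochain complex above, which the same appendix identifies
with those derived functors. P is taken in the universe of A, as the cochain modules require.) -/
theorem result (k : Type u) [CommRing k] (A : Type v) [CommRing A]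
    [Bialgebra k A] [Module.Flat k A] (P : Type v) [AddCommGroup P] [Module k P] (n : ℕ) :
    Hoch.cocycles k A (Hoch.Ind k A P) (n + 1) ≤ Hoch.coboundaries k A (Hoch.Ind k A P) (n + 1) := by
  intro x hx
  have h := LinearMap.congr_fun (homotopy k A P n) x
  rw [LinearMap.add_apply, LinearMap.comp_apply, LinearMap.comp_apply, LinearMap.id_apply] at h
  have hx' : Hoch.d k A (Hoch.Ind k A P) (n + 1) x = 0 := hx
  rw [hx', map_zero, zero_add] at h
  exact ⟨s k A P n x, h⟩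

end Groth.Agent.S16985
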