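import Groth.Statements.S17005
import Groth.Agent.Lib.helper8.OrthCenterLib2

set_option autoImplicit false
universe u
open scoped TensorProduct
open QuadGrp

namespace Groth.Agent.S17005

/-- Let Q be a non-degenerate quadratic form on R^n, n ≥ 3, over a commutative ring R (perfect polar
pairing for even n, unit half-discriminant in the standard basis for odd n). An isometry g of Q of
determinant one commutes, after base change to every R-algebra A, with every determinant-one
isometry of Q_A if and only if g is multiplication by a scalar whose square is one; for odd n such a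
scalar is 1 because the determinant of g is its n-th power. (Points-level form of: the functorial
centre of the naive special orthogonal group is the central μ₂ for even rank and trivial for odd
rank.) -/
theorem result (R : Type u) [CommRing R] (n : ℕ) (hn : 3 ≤ n)
    (Q : QuadraticForm R (Fin n → R))
    (hQ : QuadGrp.IsNondeg (Pi.basisFun R (Fin n)) (LinearEquiv.refl R R) Q)
    (g : (Fin n → R) ≃ₗ[R] (Fin n → R)) (hg : g ∈ QuadGrp.SO' Q) :
    (∀ (A : Type u) [CommRing A] [Algebra R A], ∀ h ∈ QuadGrp.sorth' Q A,
        g.baseChange R A (Fin n → R) (Fin n → R) * h = h * g.baseChange R A (Fin n → R) (Fin n → R)) ↔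
      ∃ c : R, c * c = 1 ∧ ∀ v, g v = c • v := by
  constructor
  · intro hcomm
    have hgO : g ∈ QuadGrp.O Q := (Subgroup.mem_inf.mp hg).1
    have hdag : ∀ u v x : Fin n → R, g (H8OC.Y Q u v x) = H8OC.Y Q u v (g x) := by
      apply H8OC2.dag_of_comm_hE Q g
      intro u v
      apply hcomm (DualNumber R)
      exact H8OC2.hE_mem_sorth' Q (DualNumber R) DualNumber.eps DualNumber.eps_mul_eps _ _
    have hQ' : (Even n → QuadGrp.IsRegular Q) ∧
        (Odd n → IsUnit (QuadGrp.halfDisc (Pi.basisFun R (Fin n)) (LinearEquiv.refl R R) Q)) := hQ
    rcases Nat.even_or_odd n with he | ho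
    · exact Groth.Agent.S17006.scalar_of_comm hn Q (hQ'.1 he) g hgO hdag
    · exact H8OC2.scalar_of_comm_odd hn ho Q (hQ'.2 ho) g hgO hdag
  · rintro ⟨c, hc, hgv⟩ A _ _ h _
    have hgA : ∀ y : A ⊗[R] (Fin n → R),
        g.baseChange R A (Fin n → R) (Fin n → R) y = c • y := by
      intro y
      induction y using TensorProduct.induction_on with
      | zero => simp
      | tmul a x => rw [LinearEquiv.baseChange_tmul, hgv, TensorProduct.tmul_smul]
      | add y z hy hz => rw [map_add, hy, hz, smul_add]
    apply LinearEquiv.ext
    intro y
    rw [LinearEquiv.mul_apply, LinearEquiv.mul_apply, hgA, hgA]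
    exact (LinearMap.map_smul_of_tower h.toLinearMap c y).symm

end Groth.Agent.S17005
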