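import Groth.Statements.S17016
import Mathlib

set_option autoImplicit false
universe u
open QuadGrp

namespace Groth.Agent.S17016

section H8aux
open CliffordAlgebra
variable (R : Type u) [CommRing R] {m : ℕ}

theorem split_eval (v : Fin (m*2) → R) :
    QuadGrp.splitForm R (m*2) v =
      ∑ i : Fin m, v (finProdFinEquiv (i, (0 : Fin 2))) * v (finProdFinEquiv (i, (1 : Fin 2))) := by
  have h2 : (m*2) % 2 = 0 := Nat.mul_mod_left m 2
  have hm : m * 2 / 2 = m := Nat.mul_div_cancel m (by norm_num)
  unfold QuadGrp.splitForm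
  rw [QuadraticMap.add_apply, dif_neg (by omega), QuadraticMap.zero_apply, add_zero,
    QuadraticMap.sum_apply]
  simp only [QuadraticMap.linMulLin_apply, LinearMap.proj_apply]
  refine Fintype.sum_equiv (finCongr hm) _ _ ?_
  intro i
  have hi := i.isLt
  have e0 : ∀ h, (⟨2 * (i : ℕ) + (m*2) % 2, h⟩ : Fin (m*2)) =
      finProdFinEquiv (finCongr hm i, (0 : Fin 2)) := by
    intro h; apply Fin.ext
    simp only [finProdFinEquiv_apply_val, finCongr_apply_coe, Fin.val_zero]
    omega
  have e1 : ∀ h, (⟨2 * (i : ℕ) + 1 + (m*2) % 2, h⟩ : Fin (m*2)) =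
      finProdFinEquiv (finCongr hm i, (1 : Fin 2)) := by
    intro h; apply Fin.ext
    simp only [finProdFinEquiv_apply_val, finCongr_apply_coe, Fin.val_one]
    omega
  rw [e0, e1]

theorem polar_eval (x y : Fin (m*2) → R) :
    QuadraticMap.polar (QuadGrp.splitForm R (m*2)) x y =
      ∑ i : Fin m, (x (finProdFinEquiv (i, (0 : Fin 2))) * y (finProdFinEquiv (i, (1 : Fin 2))) +
        y (finProdFinEquiv (i, (0 : Fin 2))) * x (finProdFinEquiv (i, (1 : Fin 2)))) := by
  unfold QuadraticMap.polar
  rw [split_eval, split_eval, split_eval, ← Finset.sum_sub_distrib, ← Finset.sum_sub_distrib]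
  apply Finset.sum_congr rfl
  intro i _
  simp only [Pi.add_apply]
  ring

theorem Q_single (i : Fin m) (c : Fin 2) :
    QuadGrp.splitForm R (m*2) (Pi.single (finProdFinEquiv (i, c)) 1) = 0 := by
  rw [split_eval]
  apply Finset.sum_eq_zero
  intro i' _
  simp only [Pi.single_apply, EmbeddingLike.apply_eq_iff_eq, Prod.mk.injEq]
  by_cases h1 : i' = i ∧ (0 : Fin 2) = c
  · have h2 : ¬ (i' = i ∧ (1 : Fin 2) = c) := fun h => by
      have := h1.2.trans h.2.symm; exact absurd this (by decide)
    rw [if_neg h2, mul_zero]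
  · rw [if_neg h1, zero_mul]

theorem polar_pair (i : Fin m) :
    QuadraticMap.polar (QuadGrp.splitForm R (m*2))
      (Pi.single (finProdFinEquiv (i, (0 : Fin 2))) 1)
      (Pi.single (finProdFinEquiv (i, (1 : Fin 2))) 1) = 1 := by
  rw [polar_eval, Finset.sum_eq_single i]
  · simp [Pi.single_apply]
  · intro i' _ hne
    simp [Pi.single_apply, hne]
  · intro h; exact absurd (Finset.mem_univ i) h

theorem polar_ne (i k : Fin m) (hik : i ≠ k) (c c' : Fin 2) :
    QuadraticMap.polar (QuadGrp.splitForm R (m*2))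
      (Pi.single (finProdFinEquiv (i, c)) 1)
      (Pi.single (finProdFinEquiv (k, c')) 1) = 0 := by
  rw [polar_eval]
  apply Finset.sum_eq_zero
  intro i' _
  simp only [Pi.single_apply, EmbeddingLike.apply_eq_iff_eq, Prod.mk.injEq]
  by_cases h1 : i' = i
  · have h2 : i' ≠ k := fun h => hik (h1.symm.trans h)
    simp [h2]
  · simp [h1]

noncomputable def E (i : Fin m) (c : Fin 2) : CliffordAlgebra (QuadGrp.splitForm R (m*2)) :=
  ι _ (Pi.single (finProdFinEquiv (i, c)) 1)

noncomputable def U (i : Fin m) : CliffordAlgebra (QuadGrp.splitForm R (m*2)) :=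
  1 - 2 * (E R i 0 * E R i 1)

theorem E_sq (i : Fin m) (c : Fin 2) : E R i c * E R i c = 0 := by
  unfold E; rw [ι_sq_scalar, Q_single, map_zero]

theorem E_pair (i : Fin m) : E R i 0 * E R i 1 + E R i 1 * E R i 0 = 1 := by
  unfold E; rw [ι_mul_ι_add_swap, polar_pair, map_one]

theorem E_anti (i k : Fin m) (hik : i ≠ k) (c c' : Fin 2) :
    E R i c * E R k c' = -(E R k c' * E R i c) := by
  have h : E R i c * E R k c' + E R k c' * E R i c = 0 := by
    unfold E; rw [ι_mul_ι_add_swap, polar_ne R _ _ hik, map_zero]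
  exact eq_neg_of_add_eq_zero_left h

theorem U_eq (i : Fin m) : U R i = 1 - (E R i 0 * E R i 1 + E R i 0 * E R i 1) := by
  unfold U; rw [two_mul]

theorem ba_eq (i : Fin m) : E R i 1 * E R i 0 = 1 - E R i 0 * E R i 1 := by
  rw [← E_pair R i]; abel

theorem X_a (i : Fin m) : (E R i 0 * E R i 1) * E R i 0 = E R i 0 := by
  rw [mul_assoc, ba_eq, mul_sub, mul_one, ← mul_assoc, E_sq, zero_mul, sub_zero]

theorem a_X (i : Fin m) : E R i 0 * (E R i 0 * E R i 1) = 0 := by
  rw [← mul_assoc, E_sq, zero_mul]

theorem X_b (i : Fin m) : (E R i 0 * E R i 1) * E R i 1 = 0 := by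
  rw [mul_assoc, E_sq, mul_zero]

theorem b_X (i : Fin m) : E R i 1 * (E R i 0 * E R i 1) = E R i 1 := by
  rw [← mul_assoc, ba_eq, sub_mul, one_mul, mul_assoc, E_sq, mul_zero, sub_zero]

theorem X_sq (i : Fin m) :
    (E R i 0 * E R i 1) * (E R i 0 * E R i 1) = E R i 0 * E R i 1 := by
  rw [← mul_assoc, X_a]

theorem E_U_anti (i : Fin m) (c : Fin 2) : E R i c * U R i = -(U R i * E R i c) := by
  rw [U_eq]
  fin_cases c
  · show E R i 0 * (1 - (E R i 0 * E R i 1 + E R i 0 * E R i 1)) =
      -((1 - (E R i 0 * E R i 1 + E R i 0 * E R i 1)) * E R i 0)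
    rw [mul_sub, mul_add, a_X, sub_mul, add_mul, X_a, mul_one, one_mul]
    abel
  · show E R i 1 * (1 - (E R i 0 * E R i 1 + E R i 0 * E R i 1)) =
      -((1 - (E R i 0 * E R i 1 + E R i 0 * E R i 1)) * E R i 1)
    rw [mul_sub, mul_add, b_X, sub_mul, add_mul, X_b, mul_one, one_mul]
    abel

theorem E_X_comm (k i : Fin m) (hki : k ≠ i) (c : Fin 2) :
    E R k c * (E R i 0 * E R i 1) = (E R i 0 * E R i 1) * E R k c := by
  rw [← mul_assoc, E_anti R k i hki c 0, neg_mul, mul_assoc, E_anti R k i hki c 1, mul_neg,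
    neg_neg, mul_assoc]

theorem E_U_comm (k i : Fin m) (hki : k ≠ i) (c : Fin 2) :
    E R k c * U R i = U R i * E R k c := by
  rw [U_eq, mul_sub, mul_add, E_X_comm R k i hki c, sub_mul, add_mul, mul_one, one_mul]

theorem U_sq (i : Fin m) : U R i * U R i = 1 := by
  rw [U_eq]
  simp only [mul_sub, sub_mul, mul_add, add_mul, mul_one, one_mul, X_sq]
  abel

theorem U_comm (i k : Fin m) : Commute (U R i) (U R k) := by
  by_cases h : i = k
  · subst h; exact Commute.refl _
  · have h0 : Commute (U R i) (E R k 0) := (E_U_comm R k i (Ne.symm h) 0).symm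
    have h1 : Commute (U R i) (E R k 1) := (E_U_comm R k i (Ne.symm h) 1).symm
    have hX : Commute (U R i) (E R k 0 * E R k 1) := h0.mul_right h1
    rw [U_eq R k]
    exact (Commute.one_right _).sub_right (hX.add_right hX)

theorem comm_prod (k : Fin m) (c : Fin 2) (l : List (Fin m)) (hk : k ∉ l) :
    E R k c * (l.map (U R)).prod = (l.map (U R)).prod * E R k c := by
  induction l with
  | nil => simp
  | cons i l ih =>
    rw [List.mem_cons, not_or] at hk
    rw [List.map_cons, List.prod_cons, ← mul_assoc, E_U_comm R k i hk.1 c, mul_assoc, ih hk.2,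
      ← mul_assoc]

theorem anti_prod (k : Fin m) (c : Fin 2) (l : List (Fin m)) (hl : l.Nodup) (hk : k ∈ l) :
    E R k c * (l.map (U R)).prod = -((l.map (U R)).prod * E R k c) := by
  induction l with
  | nil => simp at hk
  | cons i l ih =>
    rw [List.nodup_cons] at hl
    rw [List.map_cons, List.prod_cons]
    by_cases hki : k = i
    · subst hki
      rw [← mul_assoc, E_U_anti R k c, neg_mul, mul_assoc, comm_prod R k c l hl.1, ← mul_assoc]
    · have hk' : k ∈ l := by
        rcases List.mem_cons.mp hk with h | h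
        · exact absurd h hki
        · exact h
      rw [← mul_assoc, E_U_comm R k i hki c, mul_assoc, ih hl.2 hk', mul_neg, ← mul_assoc]

theorem sq_prod (l : List (Fin m)) : (l.map (U R)).prod * (l.map (U R)).prod = 1 := by
  induction l with
  | nil => simp
  | cons i l ih =>
    rw [List.map_cons, List.prod_cons]
    have hc : Commute (U R i) (l.map (U R)).prod := Commute.list_prod_right _ _ (fun x hx => by
      obtain ⟨k, _, rfl⟩ := List.mem_map.mp hx
      exact U_comm R i k)
    calc U R i * (l.map (U R)).prod * (U R i * (l.map (U R)).prod)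
        = U R i * ((l.map (U R)).prod * U R i) * (l.map (U R)).prod := by simp only [mul_assoc]
      _ = U R i * (U R i * (l.map (U R)).prod) * (l.map (U R)).prod := by rw [hc.eq]
      _ = (U R i * U R i) * ((l.map (U R)).prod * (l.map (U R)).prod) := by simp only [mul_assoc]
      _ = 1 := by rw [U_sq, ih, mul_one]

end H8aux

/-- For the standard split quadratic form Σ x_{2i} x_{2i+1} on R^{2m} over any commutative ring R, with
standard basis vectors e_j in the Clifford algebra, the product w of the elements 1 − 2 e_{2i}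
e_{2i+1} (i < m, which pairwise commute) satisfies w² = 1 and anticommutes with every e_j. (Hence w
is central in the even Clifford algebra; over rings in which 2 is invertible (1 − w)/2 is the
non-trivial central idempotent of the even part.) -/
theorem result (R : Type u) [CommRing R] (m : ℕ) :
    let Q := QuadGrp.splitForm R (m * 2)
    let e : Fin (m * 2) → CliffordAlgebra Q := fun j => CliffordAlgebra.ι Q (Pi.single j 1)
    let w : CliffordAlgebra Q :=
      ((List.finRange m).map fun i => 1 - 2 * (e (finProdFinEquiv (i, 0)) * e (finProdFinEquiv (i, 1)))).prod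
    w * w = 1 ∧ ∀ j : Fin (m * 2), e j * w = -(w * e j) := by
  intro Q e w
  have hw : w = ((List.finRange m).map (U R)).prod := rfl
  constructor
  · rw [hw]; exact sq_prod R _
  · intro j
    obtain ⟨⟨k, c⟩, rfl⟩ := finProdFinEquiv.surjective j
    show E R k c * w = -(w * E R k c)
    rw [hw]
    exact anti_prod R k c _ (List.nodup_finRange m) (List.mem_finRange k)

end Groth.Agent.S17016
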