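import Groth.Statements.S17065
import Mathlib
-- import your own Groth.Agent.* helpers here

set_option autoImplicit false
universe u
open CAlg

namespace Groth.Agent.S17065

/-- The local algebraic statement its proof establishes: let A be a Noetherian ring, I ≤ J radical
ideals and Â the J-adic completion of A. If J^n Â ⊆ I Â for some n, then the closed set V(J) is open
inside V(I) ⊆ Spec A. (Globally: if X₂ ⊆ X₁ are the completions of a locally Noetherian scheme along
nested closed subsets Z₂ ⊆ Z₁ and the ideal of Z₁ generates an ideal of definition of X₂, then X₂ is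
a union of connected components of X₁.) -/
theorem result (A : Type u) [CommRing A] [IsNoetherianRing A]
    (I J : Ideal A) (hIJ : I ≤ J) (hI : I.IsRadical) (hJ : J.IsRadical) (n : ℕ)
    (h : (J ^ n).map (algebraMap A (AdicCompletion J A)) ≤ I.map (algebraMap A (AdicCompletion J A))) :
    IsOpen ((fun x : PrimeSpectrum.zeroLocus (I : Set A) => (x : PrimeSpectrum A)) ⁻¹'
      PrimeSpectrum.zeroLocus (J : Set A)) := by
  classical
  -- Step 1: J^n ≤ I ⊔ J^(n+1)
  have step1 : J ^ n ≤ I ⊔ J ^ (n + 1) := by
    intro x hx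
    have h1 : algebraMap A (AdicCompletion J A) x ∈
        I.map (algebraMap A (AdicCompletion J A)) := h (Ideal.mem_map_of_mem _ hx)
    have hev : ∀ a : A, (AdicCompletion.evalₐ J (n + 1)) (algebraMap A (AdicCompletion J A) a) =
        Ideal.Quotient.mk (J ^ (n + 1)) a := by
      intro a
      simp
    have hle : I.map (algebraMap A (AdicCompletion J A)) ≤
        (I.map (Ideal.Quotient.mk (J ^ (n + 1)))).comap (AdicCompletion.evalₐ J (n + 1)) := by
      rw [Ideal.map_le_iff_le_comap]
      intro i hi
      rw [Ideal.mem_comap, Ideal.mem_comap, hev]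
      exact Ideal.mem_map_of_mem _ hi
    have h3 : Ideal.Quotient.mk (J ^ (n + 1)) x ∈ I.map (Ideal.Quotient.mk (J ^ (n + 1))) := by
      have := hle h1
      rwa [Ideal.mem_comap, hev] at this
    have h4 : x ∈ (I.map (Ideal.Quotient.mk (J ^ (n + 1)))).comap (Ideal.Quotient.mk (J ^ (n + 1))) :=
      h3
    rw [Ideal.comap_map_of_surjective _ Ideal.Quotient.mk_surjective, ← RingHom.ker_eq_comap_bot,
      Ideal.mk_ker] at h4
    exact h4
  -- Step 2: Nakayama
  let N : Submodule A (A ⧸ I) := Submodule.map (Submodule.mkQ I) (J ^ n)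
  have hNfg : N.FG := Submodule.FG.map _ (IsNoetherian.noetherian (J ^ n))
  have hNle : N ≤ J • N := by
    rintro _ ⟨x, hx, rfl⟩
    have hx' := step1 hx
    rw [Submodule.mem_sup] at hx'
    obtain ⟨i, hi, y, hy, rfl⟩ := hx'
    have : Submodule.mkQ I (i + y) = Submodule.mkQ I y := by
      rw [map_add, (Submodule.mkQ_apply I i), (Submodule.Quotient.mk_eq_zero I).mpr hi, zero_add]
    rw [this]
    have hy' : y ∈ J • (J ^ n : Ideal A) := by
      rw [smul_eq_mul, ← pow_succ']; exact hy
    have : Submodule.mkQ I y ∈ Submodule.map (Submodule.mkQ I) (J • (J ^ n : Ideal A)) :=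
      Submodule.mem_map_of_mem hy'
    rwa [Submodule.map_smul''] at this
  obtain ⟨r, hr1, hr2⟩ :=
    Submodule.exists_sub_one_mem_and_smul_eq_zero_of_fg_of_le_smul J N hNfg hNle
  have hr3 : ∀ x ∈ J ^ n, r * x ∈ I := by
    intro x hx
    have := hr2 _ (Submodule.mem_map_of_mem (f := Submodule.mkQ I) hx)
    rw [← map_smul, Submodule.mkQ_apply, Submodule.Quotient.mk_eq_zero] at this
    exact this
  -- Step 3: topology
  have hset : ((fun x : PrimeSpectrum.zeroLocus (I : Set A) => (x : PrimeSpectrum A)) ⁻¹'
      PrimeSpectrum.zeroLocus (J : Set A)) =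
      (fun x : PrimeSpectrum.zeroLocus (I : Set A) => (x : PrimeSpectrum A)) ⁻¹'
        (PrimeSpectrum.basicOpen r : Set (PrimeSpectrum A)) := by
    ext ⟨x, hxI⟩
    simp only [Set.mem_preimage, PrimeSpectrum.mem_zeroLocus, SetLike.mem_coe,
      PrimeSpectrum.mem_basicOpen]
    rw [PrimeSpectrum.mem_zeroLocus] at hxI
    constructor
    · intro hJx hrx
      have h1 : r - 1 ∈ x.asIdeal := hJx hr1
      have : (1 : A) ∈ x.asIdeal := by
        have := x.asIdeal.sub_mem hrx h1
        simpa using this
      exact x.isPrime.ne_top ((Ideal.eq_top_iff_one _).mpr this)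
    · intro hrx y hy
      have h1 : r * y ^ n ∈ x.asIdeal := hxI (hr3 _ (Ideal.pow_mem_pow hy n))
      rcases x.isPrime.mem_or_mem h1 with h2 | h2
      · exact absurd h2 hrx
      · exact x.isPrime.mem_of_pow_mem n h2
  rw [hset]
  exact (PrimeSpectrum.basicOpen r).isOpen.preimage continuous_subtype_val

end Groth.Agent.S17065
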