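import Groth.Statements.S17075
import Mathlib

set_option autoImplicit false
universe u
open CategoryTheory CategoryTheory.Limits AlgebraicGeometry
open MorSch

namespace Groth.Agent.S17075

/-- Let g : X → S be a proper morphism, i : V → X a closed immersion and j : U → X an open immersion.
Then there is an open subset S₀ of S such that, for every scheme S' and every morphism f : S' → S,
the image of f lies in S₀ if and only if the base change V ×_S S' → X ×_S S' of i factors through
the open subscheme U ×_S S', equivalently the composite V ×_S S' → V → X has image contained in the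
image of j. -/
theorem result
    {V X U S : Scheme.{u}} (g : X ⟶ S) [IsProper g] (i : V ⟶ X) [IsClosedImmersion i]
    (j : U ⟶ X) [IsOpenImmersion j] :
    ∃ S₀ : S.Opens, ∀ (S' : Scheme.{u}) (f : S' ⟶ S),
      Set.range f ⊆ (S₀ : Set S) ↔
        Set.range (pullback.fst (i ≫ g) f ≫ i) ⊆ Set.range j := by
  have hZ : IsClosed (Set.range i ∩ (Set.range j)ᶜ) :=
    i.isClosedEmbedding.isClosed_range.inter j.isOpenEmbedding.isOpen_range.isClosed_compl
  have hgZ : IsClosed (g '' (Set.range i ∩ (Set.range j)ᶜ)) := g.isClosedMap _ hZ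
  refine ⟨⟨(g '' (Set.range i ∩ (Set.range j)ᶜ))ᶜ, hgZ.isOpen_compl⟩, ?_⟩
  intro S' f
  have hr : Set.range (pullback.fst (i ≫ g) f ≫ i) = i '' ((i ≫ g) ⁻¹' Set.range f) := by
    ext x
    constructor
    · rintro ⟨z, rfl⟩
      refine ⟨pullback.fst (i ≫ g) f z, ?_, rfl⟩
      have := (Scheme.Pullback.range_fst (f := i ≫ g) (g := f)).le ⟨z, rfl⟩
      exact this
    · rintro ⟨v, hv, rfl⟩
      obtain ⟨z, hz⟩ := (Scheme.Pullback.range_fst (f := i ≫ g) (g := f)).ge hv
      exact ⟨z, by simp [hz]⟩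
  rw [hr]
  change Set.range f ⊆ (g '' (Set.range i ∩ (Set.range j)ᶜ))ᶜ ↔ _
  constructor
  · rintro h _ ⟨v, hv, rfl⟩
    by_contra hn
    exact h hv ⟨i v, ⟨⟨v, rfl⟩, hn⟩, rfl⟩
  · rintro h s hs ⟨x, ⟨⟨v, rfl⟩, hn⟩, hx⟩
    apply hn
    apply h
    refine ⟨v, ?_, rfl⟩
    change (i ≫ g) v ∈ Set.range f
    simp only [Scheme.Hom.comp_apply]
    rw [hx]
    exact hs

end Groth.Agent.S17075
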