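import Groth.Statements.S17077
import Mathlib

set_option autoImplicit false
universe u
open RatCurve MvPolynomial

namespace Groth.Agent.S17077

theorem homog_aeval {k : Type*} [Field k] {B : Type*} [CommRing B] [Algebra k B]
    (F : MvPolynomial (Fin 2) k) (d : ℕ) (hF : F.IsHomogeneous d) (b : Fin 2 → k) (T : B) :
    MvPolynomial.aeval (fun i => algebraMap k B (b i) * T) F
      = algebraMap k B (MvPolynomial.eval b F) * T ^ d := by
  conv_lhs => rw [← F.support_sum_monomial_coeff]
  conv_rhs => rw [← F.support_sum_monomial_coeff]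
  rw [map_sum, map_sum, map_sum, Finset.sum_mul]
  refine Finset.sum_congr rfl (fun m hm => ?_)
  have hdeg : m 0 + m 1 = d := by
    have h1 : m.degree = d := by
      by_contra h
      exact (MvPolynomial.mem_support_iff.mp hm) (hF.coeff_eq_zero h)
    rw [Finsupp.degree_eq_sum, Fin.sum_univ_two] at h1
    exact h1
  rw [MvPolynomial.aeval_monomial, MvPolynomial.eval_monomial,
    Finsupp.prod_fintype _ _ (fun i => pow_zero _),
    Finsupp.prod_fintype _ _ (fun i => pow_zero _), Fin.prod_univ_two, Fin.prod_univ_two, ← hdeg]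
  simp only [map_mul, map_pow, mul_pow, pow_add]
  ring

theorem dvdL {k : Type*} [Field k] (j j' : Fin 2) (hne : j ≠ j') (a : Fin 2 → k)
    (ha : a j ≠ 0) (F : MvPolynomial (Fin 2) k) (d : ℕ) (hF : F.IsHomogeneous d)
    (hFa : MvPolynomial.eval a F = 0) :
    (X j' - C (a j' / a j) * X j : MvPolynomial (Fin 2) k) ∣ F := by
  obtain ⟨I, hI⟩ : ∃ I : Ideal (MvPolynomial (Fin 2) k),
      I = Ideal.span {(X j' - C (a j' / a j) * X j : MvPolynomial (Fin 2) k)} := ⟨_, rfl⟩
  have hall : ∀ i j j' : Fin 2, j ≠ j' → i = j ∨ i = j' := by decide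
  have hmem : ∀ i : Fin 2, (X i - C (a i / a j) * X j : MvPolynomial (Fin 2) k) ∈ I := by
    intro i
    rcases hall i j j' hne with h | h
    · rw [h, div_self ha, C_1, one_mul, sub_self]
      exact I.zero_mem
    · rw [h, hI]
      exact Ideal.mem_span_singleton_self _
  have hcomp : (Ideal.Quotient.mkₐ k I).comp
      (aeval (fun i => (C (a i / a j) * X j : MvPolynomial (Fin 2) k)))
      = Ideal.Quotient.mkₐ k I := by
    apply MvPolynomial.algHom_ext
    intro i
    rw [AlgHom.comp_apply, aeval_X, Ideal.Quotient.mkₐ_eq_mk]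
    exact (Ideal.Quotient.eq.mpr (hmem i)).symm
  have hψ : aeval (fun i => (C (a i / a j) * X j : MvPolynomial (Fin 2) k)) F = 0 := by
    have h1 := homog_aeval (B := MvPolynomial (Fin 2) k) F d hF (fun i => a i / a j) (X j)
    have h2 := homog_aeval (B := k) F d hF a (a j)⁻¹
    rw [hFa, map_zero, zero_mul] at h2
    have h3 : eval (fun i => a i / a j) F = 0 := by
      have hfun : (fun i => a i / a j) = (fun i => (algebraMap k k) (a i) * (a j)⁻¹) := by
        funext i
        simp [div_eq_mul_inv]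
      rw [hfun]
      exact h2
    simp only [MvPolynomial.algebraMap_eq] at h1
    rw [h1, h3, map_zero, zero_mul]
  have hmk : F ∈ I := by
    have h := DFunLike.congr_fun hcomp F
    rw [AlgHom.comp_apply, hψ, map_zero, Ideal.Quotient.mkₐ_eq_mk] at h
    exact Ideal.Quotient.eq_zero_iff_mem.mp h.symm
  rw [hI] at hmk
  exact Ideal.mem_span_singleton.mp hmk

/-- Let k be an algebraically closed field and F_0, …, F_{n-1} homogeneous polynomials in k[u, v] (of
possibly different degrees). Then the F_i have a common factor which is not a unit if and only if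
they have a common zero (a, b) ≠ (0, 0) in k², that is, a common zero in the projective line. -/
theorem result
    {k : Type u} [Field k] [IsAlgClosed k] {n : ℕ} (F : Fin n → MvPolynomial (Fin 2) k)
    (d : Fin n → ℕ) (hF : ∀ i, (F i).IsHomogeneous (d i)) :
    (∃ H : MvPolynomial (Fin 2) k, ¬ IsUnit H ∧ ∀ i, H ∣ F i) ↔
      ∃ a : Fin 2 → k, a ≠ 0 ∧ ∀ i, MvPolynomial.eval a (F i) = 0 := by
  constructor
  · rintro ⟨H, hHu, hHdvd⟩
    by_contra hcon
    push Not at hcon
    have hz : ∀ x : Fin 2 → k, eval x H = 0 → x = 0 := by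
      intro x hx
      by_contra hx0
      obtain ⟨i, hi⟩ := hcon x hx0
      obtain ⟨G, hG⟩ := hHdvd i
      apply hi
      rw [hG, map_mul, hx, zero_mul]
    have hrad : ∀ j : Fin 2, (X j : MvPolynomial (Fin 2) k) ∈ (Ideal.span {H}).radical := by
      intro j
      rw [← MvPolynomial.vanishingIdeal_zeroLocus_eq_radical (K := k) (Ideal.span {H}),
        MvPolynomial.mem_vanishingIdeal_iff]
      intro x hx
      have hxH : eval x H = 0 :=
        (MvPolynomial.mem_zeroLocus_iff.mp hx) H (Ideal.mem_span_singleton_self H)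
      rw [aeval_X, hz x hxH]
      rfl
    have hdvd : ∀ j : Fin 2, ∃ m : ℕ, H ∣ (X j : MvPolynomial (Fin 2) k) ^ m := by
      intro j
      obtain ⟨m, hm⟩ := Ideal.mem_radical_iff.mp (hrad j)
      exact ⟨m, Ideal.mem_span_singleton.mp hm⟩
    obtain ⟨m0, h0⟩ := hdvd 0
    obtain ⟨m1, h1⟩ := hdvd 1
    obtain ⟨i0, -, hi0⟩ := (dvd_prime_pow (MvPolynomial.X_prime (i := (0 : Fin 2)) (R := k)) m0).mp h0
    rcases Nat.eq_zero_or_pos i0 with hz0 | hpos
    · apply hHu
      rw [hz0, pow_zero] at hi0
      exact associated_one_iff_isUnit.mp hi0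
    · have hX0 : (X 0 : MvPolynomial (Fin 2) k) ∣ H :=
        dvd_trans (dvd_pow_self _ hpos.ne') hi0.symm.dvd
      have hX01 : (X 0 : MvPolynomial (Fin 2) k) ∣ X 1 :=
        (MvPolynomial.X_prime (i := (0 : Fin 2)) (R := k)).dvd_of_dvd_pow (dvd_trans hX0 h1)
      obtain ⟨G, hG⟩ := hX01
      have h := congrArg (eval ![(0:k), 1]) hG
      simp at h
  · rintro ⟨a, ha0, hFa⟩
    have hj : ∃ j : Fin 2, a j ≠ 0 := by
      by_contra h
      push Not at h
      exact ha0 (funext h)
    obtain ⟨j, hj⟩ := hj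
    obtain ⟨j', hjj'⟩ : ∃ j' : Fin 2, j ≠ j' := by
      have h : ∀ j : Fin 2, ∃ j' : Fin 2, j ≠ j' := by decide
      exact h j
    refine ⟨X j' - C (a j' / a j) * X j, ?_,
      fun i => dvdL j j' hjj' a hj (F i) (d i) (hF i) (hFa i)⟩
    intro hu
    have h0 : eval a (X j' - C (a j' / a j) * X j : MvPolynomial (Fin 2) k) = 0 := by
      rw [map_sub, map_mul, eval_X, eval_X, eval_C, div_mul_cancel₀ _ hj, sub_self]
    have h := hu.map (eval a)
    rw [h0] at h
    exact not_isUnit_zero h

end Groth.Agent.S17077
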