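import Groth.Statements.S17078
import Mathlib
import Groth.Agent.S17077

set_option autoImplicit false
universe u
open RatCurve MvPolynomial

namespace Groth.Agent.S17078

theorem hc_mul {k : Type*} [Field k] {σ : Type*} (F G : MvPolynomial σ k) (d m : ℕ)
    (hF : F.IsHomogeneous d) (hdm : d ≤ m) :
    homogeneousComponent m (F * G) = F * homogeneousComponent (m - d) G := by
  have hterm : ∀ e : ℕ, homogeneousComponent m (F * homogeneousComponent e G)
      = if m = d + e then F * homogeneousComponent e G else 0 := by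
    intro e
    exact homogeneousComponent_of_mem ((mem_homogeneousSubmodule _ _).mpr
      (hF.mul (homogeneousComponent_isHomogeneous e G)))
  have hsum : F * G = ∑ e ∈ Finset.range (G.totalDegree + 1), F * homogeneousComponent e G := by
    rw [← Finset.mul_sum, sum_homogeneousComponent]
  rw [hsum, map_sum]
  simp only [hterm]
  by_cases hle : m - d ≤ G.totalDegree
  · rw [Finset.sum_eq_single (m - d)]
    · rw [if_pos (by omega)]
    · intro e _ he
      rw [if_neg (by omega)]
    · intro h
      exact absurd (Finset.mem_range.mpr (by omega)) h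
  · rw [homogeneousComponent_eq_zero _ _ (by omega), mul_zero]
    apply Finset.sum_eq_zero
    intro e he
    have := Finset.mem_range.mp he
    rw [if_neg (by omega)]

/-- Let k be an algebraically closed field and F_0, …, F_{n-1} homogeneous polynomials of degree d in
k[u, v]. Then the F_i have no common factor other than units if and only if there is an integer m ≥
d such that every homogeneous polynomial of degree m can be written Σ_i F_i G_i with each G_i
homogeneous of degree m − d, i.e. the k-linear map (G_i)_i ↦ Σ_i F_i G_i from n copies of k[u,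
v]_{m−d} to k[u, v]_m is surjective. -/
theorem result
    {k : Type u} [Field k] [IsAlgClosed k] {n : ℕ} (F : Fin n → MvPolynomial (Fin 2) k)
    (d : ℕ) (hF : ∀ i, (F i).IsHomogeneous d) :
    (¬ ∃ H : MvPolynomial (Fin 2) k, ¬ IsUnit H ∧ ∀ i, H ∣ F i) ↔
      ∃ m : ℕ, d ≤ m ∧ ∀ P : MvPolynomial (Fin 2) k, P.IsHomogeneous m →
        ∃ G : Fin n → MvPolynomial (Fin 2) k, (∀ i, (G i).IsHomogeneous (m - d)) ∧
          P = ∑ i, F i * G i := by
  have h77 := Groth.Agent.S17077.result F (fun _ => d) hF
  constructor
  · intro hno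
    have hnz : ¬ ∃ a : Fin 2 → k, a ≠ 0 ∧ ∀ i, eval a (F i) = 0 := fun h => hno (h77.mpr h)
    obtain ⟨I, hI⟩ : ∃ I : Ideal (MvPolynomial (Fin 2) k), I = Ideal.span (Set.range F) :=
      ⟨_, rfl⟩
    have hFI : ∀ i, F i ∈ I := fun i => by
      rw [hI]
      exact Ideal.subset_span ⟨i, rfl⟩
    have hrad : ∀ j : Fin 2, (X j : MvPolynomial (Fin 2) k) ∈ I.radical := by
      intro j
      rw [← MvPolynomial.vanishingIdeal_zeroLocus_eq_radical (K := k) I,
        MvPolynomial.mem_vanishingIdeal_iff]
      intro x hx
      have hx0 : x = 0 := by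
        by_contra hne
        exact hnz ⟨x, hne, fun i => (MvPolynomial.mem_zeroLocus_iff.mp hx) (F i) (hFI i)⟩
      rw [aeval_X, hx0]
      rfl
    obtain ⟨N0, hN0⟩ := Ideal.mem_radical_iff.mp (hrad 0)
    obtain ⟨N1, hN1⟩ := Ideal.mem_radical_iff.mp (hrad 1)
    refine ⟨d + N0 + N1, by omega, ?_⟩
    intro P hP
    have hPI : P ∈ I := by
      rw [← P.support_sum_monomial_coeff]
      refine I.sum_mem (fun e he => ?_)
      have hdeg : e 0 + e 1 = d + N0 + N1 := by
        have h1 : e.degree = d + N0 + N1 := by
          by_contra h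
          exact (MvPolynomial.mem_support_iff.mp he) (hP.coeff_eq_zero h)
        rw [Finsupp.degree_eq_sum, Fin.sum_univ_two] at h1
        exact h1
      rw [MvPolynomial.monomial_eq, Finsupp.prod_fintype _ _ (fun i => pow_zero _),
        Fin.prod_univ_two]
      apply I.mul_mem_left
      by_cases h0 : N0 ≤ e 0
      · obtain ⟨t, ht⟩ := Nat.exists_eq_add_of_le h0
        rw [ht, pow_add]
        exact I.mul_mem_right _ (I.mul_mem_right _ hN0)
      · have h1 : N1 ≤ e 1 := by omega
        obtain ⟨t, ht⟩ := Nat.exists_eq_add_of_le h1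
        rw [ht, pow_add]
        exact I.mul_mem_left _ (I.mul_mem_right _ hN1)
    rw [hI] at hPI
    obtain ⟨c, hc⟩ := Ideal.mem_span_range_iff_exists_fun.mp hPI
    refine ⟨fun i => homogeneousComponent (d + N0 + N1 - d) (c i),
      fun i => homogeneousComponent_isHomogeneous _ _, ?_⟩
    have h1 : homogeneousComponent (d + N0 + N1) P = P := homogeneousComponent_eq_self hP
    rw [← h1, ← hc, map_sum]
    refine Finset.sum_congr rfl (fun i _ => ?_)
    rw [mul_comm (c i) (F i)]
    exact hc_mul (F i) (c i) d (d + N0 + N1) (hF i) (by omega)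
  · rintro ⟨m, hm, hsurj⟩ hex
    obtain ⟨a, ha0, hFa⟩ := h77.mp hex
    have hj : ∃ j : Fin 2, a j ≠ 0 := by
      by_contra h
      push Not at h
      exact ha0 (funext h)
    obtain ⟨j, hj⟩ := hj
    obtain ⟨G, -, hG⟩ := hsurj (X j ^ m) (isHomogeneous_X_pow j m)
    have h := congrArg (eval a) hG
    rw [map_pow, eval_X, map_sum] at h
    have hsum : ∑ i, eval a (F i * G i) = 0 :=
      Finset.sum_eq_zero (fun i _ => by rw [map_mul, hFa i, zero_mul])
    rw [hsum] at h
    exact pow_ne_zero m hj h

end Groth.Agent.S17078
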