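import Groth.Statements.S17143
import Mathlib
import Groth.Agent.Lib.helper8.IsocMore
-- import your own Groth.Agent.* helpers here

set_option autoImplicit false
universe u v
open Isoc

namespace Groth.Agent.S17143

/-- Let k be a perfect field of characteristic p, a ∈ ℤ, W = W(k) with fraction field L, and (N, F) a
σ^a-F-isocrystal over k (N finite-dimensional over L, F a bijective σ^a-semilinear endomorphism)
with first Newton slope λ₁(N, F) = lam. Then for m ∈ ℤ and n ∈ ℕ the twisted iterate (N, p^m F^n), a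
σ^(an)-F-isocrystal, has first Newton slope n · lam + m. (The published statement allows every n ∈
ℤ, with F^n the inverse iterate for n < 0; that case is false in general, since the first slope of
(N, F⁻¹) is minus the LARGEST slope of (N, F): for N = N_0 ⊕ N_1, the sum of the standard
isocrystals of slopes 0 and 1, λ₁(N, F) = 0 while λ₁(N, F⁻¹) = −1. Only n ≥ 0 is stated here.) -/
theorem result (p : ℕ) [Fact p.Prime] (k : Type u) [Field k] [CharP k p] [PerfectRing k p] (a : ℤ)
    (N : Type v) [AddCommGroup N] [Module (WittVector p k) N] [Module (FractionRing (WittVector p k)) N]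
    [IsScalarTower (WittVector p k) (FractionRing (WittVector p k)) N]
    (F : N →ₛₗ[Isoc.frob p k a] N) (hF : Isoc.IsIsoc F) (lam : ℝ) (hlam : Isoc.IsFirstSlope F lam) (m : ℤ) (n : ℕ) :
    Isoc.IsFirstSlope ((p : (FractionRing (WittVector p k))) ^ m • Isoc.iter F n) (n * lam + m) := by
  obtain ⟨M, hM, o, ho, hlim⟩ := hlam
  have hτ := H8Isoc.good_frob (p := p) (k := k) a
  have hne : M ≠ ⊥ := H8Isoc.ne_bot_of_isOrd (ho 1 le_rfl)
  have hall : ∀ j : ℕ, ∃ r, Isoc.IsOrd M F j r := fun j =>
    H8Isoc.exists_isOrd hτ F hF.bijective hM hne j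
  choose õ hõ using hall
  have hõo : ∀ j, 1 ≤ j → õ j = o j := fun j hj => H8Isoc.IsOrd.unique (hõ j) (ho j hj)
  refine ⟨M, hM, fun j => m * j + õ (n * j), fun j _ => H8Isoc.isOrd_twist m n j (hõ (n * j)), ?_⟩
  show Filter.Tendsto (fun j : ℕ => ((m * (j : ℤ) + õ (n * j) : ℤ) : ℝ) / (j : ℝ)) Filter.atTop
    (nhds ((n : ℝ) * lam + m))
  rcases Nat.eq_zero_or_pos n with hn | hn
  · subst hn
    have h1 : Filter.Tendsto (fun j : ℕ => (m : ℝ) + (õ 0 : ℝ) / j) Filter.atTop
        (nhds ((m : ℝ) + 0)) :=
      tendsto_const_nhds.add (tendsto_const_div_atTop_nhds_zero_nat _)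
    have h2 : ((0 : ℕ) : ℝ) * lam + m = (m : ℝ) + 0 := by simp
    rw [h2]
    refine h1.congr' ?_
    filter_upwards [Filter.eventually_ge_atTop 1] with j hj
    have hj' : (j : ℝ) ≠ 0 := by
      have : (0 : ℝ) < j := by exact_mod_cast hj
      exact this.ne'
    rw [Nat.zero_mul]
    push_cast
    field_simp
  · have hmul : Filter.Tendsto (fun j : ℕ => n * j) Filter.atTop Filter.atTop :=
      Filter.tendsto_atTop_mono (fun j => le_mul_of_one_le_left (Nat.zero_le j) hn)
        Filter.tendsto_id
    have hcomp : Filter.Tendsto (fun j : ℕ => (o (n * j) : ℝ) / ((n * j : ℕ) : ℝ)) Filter.atTop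
        (nhds lam) := hlim.comp hmul
    have h1 : Filter.Tendsto (fun j : ℕ => (m : ℝ) + n * ((o (n * j) : ℝ) / ((n * j : ℕ) : ℝ)))
        Filter.atTop (nhds ((m : ℝ) + n * lam)) :=
      tendsto_const_nhds.add (hcomp.const_mul _)
    rw [add_comm]
    refine h1.congr' ?_
    filter_upwards [Filter.eventually_ge_atTop 1] with j hj
    have hj' : (j : ℝ) ≠ 0 := by
      have : (0 : ℝ) < j := by exact_mod_cast hj
      exact this.ne'
    have hn' : (n : ℝ) ≠ 0 := by
      have : (0 : ℝ) < n := by exact_mod_cast hn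
      exact this.ne'
    have hnj : 1 ≤ n * j := Nat.mul_pos hn hj
    rw [hõo (n * j) hnj]
    push_cast
    field_simp

end Groth.Agent.S17143
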