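import Groth.Statements.S17150
import Mathlib
import Groth.Agent.Lib.helper8.IsocMap
-- import your own Groth.Agent.* helpers here

set_option autoImplicit false
universe u v w
open Isoc

namespace Groth.Agent.S17150

/-- Let k be a perfect field of characteristic p and a ∈ ℤ; let (N₁, F₁) and (N₂, F₂) be
σ^a-F-isocrystals over k that are isoclinic of slopes μ₁ and μ₂ respectively (in the lattice sense:
F_i^{s_i}(M_i) = p^{r_i} · M_i with r_i/s_i = μ_i), with μ₁ ≠ μ₂. Then every morphism of isocrystals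
f : (N₁, F₁) → (N₂, F₂), i.e. every L-linear map with f ∘ F₁ = F₂ ∘ f, is zero. -/
theorem result (p : ℕ) [Fact p.Prime] (k : Type u) [Field k] [CharP k p] [PerfectRing k p] (a : ℤ)
    (N₁ : Type v) [AddCommGroup N₁] [Module (WittVector p k) N₁] [Module (FractionRing (WittVector p k)) N₁]
    [IsScalarTower (WittVector p k) (FractionRing (WittVector p k)) N₁]
    (N₂ : Type w) [AddCommGroup N₂] [Module (WittVector p k) N₂] [Module (FractionRing (WittVector p k)) N₂]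
    [IsScalarTower (WittVector p k) (FractionRing (WittVector p k)) N₂]
    (F₁ : N₁ →ₛₗ[Isoc.frob p k a] N₁) (F₂ : N₂ →ₛₗ[Isoc.frob p k a] N₂)
    (h₁ : Isoc.IsIsoc F₁) (h₂ : Isoc.IsIsoc F₂)
    (μ₁ μ₂ : ℚ) (hμ₁ : Isoc.IsIsoclinic F₁ μ₁) (hμ₂ : Isoc.IsIsoclinic F₂ μ₂) (hne : μ₁ ≠ μ₂)
    (f : N₁ →ₗ[(FractionRing (WittVector p k))] N₂) (hf : ∀ x : N₁, f (F₁ x) = F₂ (f x)) : f = 0 := by
  haveI := h₂.finite
  have hτ := H8Isoc.good_frob (p := p) (k := k) a
  have hPst : ∀ x ∈ LinearMap.range f, F₂ x ∈ LinearMap.range f := by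
    rintro _ ⟨y, rfl⟩; exact ⟨F₁ y, hf y⟩
  have h2 : H8Isoc.IsoIn F₂ μ₂ (LinearMap.range f) :=
    H8Isoc.IsoIn.of_le hτ h₂.bijective.injective (H8Isoc.isoIn_top_of_isIsoclinic hμ₂) le_top hPst
  have h1 : H8Isoc.IsoIn F₂ μ₁ (LinearMap.range f) := by
    have := H8Isoc.IsoIn.map (F₁ := F₁) (F₂ := F₂) f hf (H8Isoc.isoIn_top_of_isIsoclinic hμ₁)
    rwa [Submodule.map_top] at this
  by_contra hne0
  have hP : LinearMap.range f ≠ ⊥ := by rw [Ne, LinearMap.range_eq_bot]; exact hne0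
  exact hne (H8Isoc.IsoIn.unique hτ h1 h2 hP)

end Groth.Agent.S17150
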