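import Groth.Statements.S17156
import Mathlib
import Groth.Agent.Lib.helper8.IsocFin
-- import your own Groth.Agent.* helpers here

set_option autoImplicit false
universe u v w
open scoped Classical
open Isoc

namespace Groth.Agent.S17156

/-- Let k be a finite field with q = p^m elements, W = W(k) with fraction field L, a ∈ ℤ, and (N, F) a
σ^a-F-isocrystal over k. Then π := F^m is L-linear; let π be given as an L-linear endomorphism of N
agreeing with F^m pointwise, with characteristic polynomial f (monic of degree the height). Let Ω be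
an algebraically closed field containing L, with the W-algebra structure through L. Each Newton
slope of (N, F), counted with multiplicity, equals ord(α)/ord(q) for the corresponding root α of f
in Ω; here this is stated as: for every μ ∈ ℚ, written num/den in lowest terms, the multiplicity m_μ
of μ as a Newton slope (the L-dimension of the slope-μ part of N) equals the number of roots α of f
in Ω, counted with multiplicity, such that α^den · p^(−num·m) is a unit of the integral closure of W
in Ω (it and its inverse are integral over W) — which says ord(α) = μ · m for the valuation on Ω ⊇ L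
normalised by ord(p) = 1, the ring W being a complete discrete valuation ring. -/
theorem result
    (p : ℕ) [Fact p.Prime] (k : Type u) [Field k] [CharP k p] [PerfectRing k p] [Fintype k]
    (m : ℕ) (hk : Fintype.card k = p ^ m) (a : ℤ)
    (N : Type v) [AddCommGroup N] [Module (WittVector p k) N] [Module (FractionRing (WittVector p k)) N]
    [IsScalarTower (WittVector p k) (FractionRing (WittVector p k)) N]
    [Module.Finite (FractionRing (WittVector p k)) N]
    (F : N →ₛₗ[Isoc.frob p k a] N) (hF : Isoc.IsIsoc F)
    (π : N →ₗ[(FractionRing (WittVector p k))] N) (hπ : ∀ x : N, π x = (⇑F)^[m] x)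
    (Ω : Type w) [Field Ω] [IsAlgClosed Ω] [Algebra (WittVector p k) Ω] [Algebra (FractionRing (WittVector p k)) Ω]
    [IsScalarTower (WittVector p k) (FractionRing (WittVector p k)) Ω] (μ : ℚ) :
    Isoc.newtonMult F μ =
      Multiset.countP
        (fun α : Ω => IsIntegral (WittVector p k) (α ^ μ.den * (algebraMap (FractionRing (WittVector p k)) Ω (p : (FractionRing (WittVector p k)))) ^ (-(μ.num * (m : ℤ))))
          ∧ IsIntegral (WittVector p k) (α ^ μ.den * (algebraMap (FractionRing (WittVector p k)) Ω (p : (FractionRing (WittVector p k)))) ^ (-(μ.num * (m : ℤ))))⁻¹)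
        ((π.charpoly.map (algebraMap (FractionRing (WittVector p k)) Ω)).roots) := by
  have hτ := H8Isoc.good_frob (p := p) (k := k) a
  have hind := H8Isoc.iSupIndep_slopePart a F hF
  have hsup := H8Isoc.iSup_slopePart_eq_top a F hF
  have hst : ∀ ν : ℚ, ∀ x ∈ Isoc.slopePart F ν, F x ∈ Isoc.slopePart F ν := fun ν =>
    (H8Isoc.isoIn_slopePart a F hF ν).2
  haveI : IsNoetherian (FractionRing (WittVector p k)) N := inferInstance
  have hfin : {ν : ℚ | Isoc.slopePart F ν ≠ ⊥}.Finite :=
    Submodule.finite_ne_bot_of_iSupIndep hind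
  obtain ⟨S, hS⟩ : ∃ S : Finset ℚ, S = hfin.toFinset := ⟨_, rfl⟩
  have hmemS : ∀ ν, ν ∈ S ↔ Isoc.slopePart F ν ≠ ⊥ := fun ν => by
    rw [hS, Set.Finite.mem_toFinset]; rfl
  have hint : DirectSum.IsInternal (fun ν : S => Isoc.slopePart F (ν : ℚ)) := by
    rw [DirectSum.isInternal_submodule_iff_iSupIndep_and_iSup_eq_top]
    refine ⟨hind.comp Subtype.val_injective, ?_⟩
    rw [eq_top_iff, ← hsup]
    refine iSup_le fun ν => ?_
    by_cases hν : ν ∈ S
    · exact le_iSup (fun ν : S => Isoc.slopePart F (ν : ℚ)) ⟨ν, hν⟩
    · rw [hmemS, not_not] at hν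
      rw [hν]; exact bot_le
  have hπst : ∀ ν : ℚ, ∀ x ∈ Isoc.slopePart F ν, π x ∈ Isoc.slopePart F ν := fun ν x hx => by
    rw [hπ]; exact H8Isoc.iterate_mem_of_stable F (hst ν) m hx
  have hchar : π.charpoly = ∏ ν : S, (π.restrict (hπst ν)).charpoly :=
    H8Isoc.charpoly_eq_prod_of_isInternal (fun ν : S => Isoc.slopePart F (ν : ℚ)) hint π
      (fun ν => hπst ν)
  have hm : m ≠ 0 := by
    rintro rfl
    rw [pow_zero] at hk
    have := Fintype.one_lt_card (α := k)
    omega
  have hroots : (π.charpoly.map (algebraMap (FractionRing (WittVector p k)) Ω)).roots =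
      (Finset.univ : Finset S).val.bind (fun ν =>
        ((π.restrict (hπst ν)).charpoly.map (algebraMap (FractionRing (WittVector p k)) Ω)).roots) := by
    rw [hchar, Polynomial.map_prod]
    apply Polynomial.roots_prod
    rw [Finset.prod_ne_zero_iff]
    intro ν _
    exact ((LinearMap.charpoly_monic _).map _).ne_zero
  rw [hroots, H8Isoc.countP_bind_finset]
  have hterm : ∀ ν : S, Multiset.countP
      (fun α : Ω => IsIntegral (WittVector p k) (α ^ μ.den * (algebraMap (FractionRing (WittVector p k)) Ω (p : (FractionRing (WittVector p k)))) ^ (-(μ.num * (m : ℤ))))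
          ∧ IsIntegral (WittVector p k) (α ^ μ.den * (algebraMap (FractionRing (WittVector p k)) Ω (p : (FractionRing (WittVector p k)))) ^ (-(μ.num * (m : ℤ))))⁻¹)
      (((π.restrict (hπst ν)).charpoly.map (algebraMap (FractionRing (WittVector p k)) Ω)).roots) =
      if (ν : ℚ) = μ then Isoc.newtonMult F μ else 0 := by
    intro ν
    have hIso := H8Isoc.isIsoc_restrict a F hF (hst ν)
    obtain ⟨hP', hiso⟩ := Groth.Agent.S17151.result p k a N F hF (ν : ℚ)
    have hπ' : ∀ x : Isoc.slopePart F (ν : ℚ),
        (π.restrict (hπst ν)) x = (⇑(F.restrict (hst ν)))^[m] x := by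
      intro x
      apply Subtype.ext
      rw [H8Isoc.coe_restrict_iterate]
      exact hπ x
    have hpne : ((π.restrict (hπst ν)).charpoly.map
        (algebraMap (FractionRing (WittVector p k)) Ω)) ≠ 0 :=
      ((LinearMap.charpoly_monic _).map _).ne_zero
    have hA : ∀ α ∈ ((π.restrict (hπst ν)).charpoly.map
        (algebraMap (FractionRing (WittVector p k)) Ω)).roots,
        α ≠ 0 ∧ H8Isoc.UInt (WittVector p k) (α ^ (ν : ℚ).den *
          (algebraMap (FractionRing (WittVector p k)) Ω (p : (FractionRing (WittVector p k)))) ^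
            (-((ν : ℚ).num * (m : ℤ)))) := by
      intro α hα
      exact H8Isoc.uInt_root_of_isIsoclinic a (F.restrict (hst ν)) hIso.bijective.injective
        (π.restrict (hπst ν)) hπ' hiso ((Polynomial.mem_roots hpne).mp hα)
    split_ifs with hνμ
    · subst hνμ
      refine Eq.trans (Multiset.countP_eq_card.mpr (fun α hα => (hA α hα).2)) ?_
      rw [IsAlgClosed.card_roots_map_eq_natDegree_of_injective _
          (algebraMap (FractionRing (WittVector p k)) Ω).injective,
        LinearMap.charpoly_natDegree]
      rfl
    · rw [Multiset.countP_eq_zero]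
      intro α hα hpred
      exact H8Isoc.not_uInt_of_ne (hA α hα).1 hm hνμ (hA α hα).2 hpred
  rw [Finset.sum_congr rfl (fun ν _ => hterm ν)]
  by_cases hμS : μ ∈ S
  · rw [Finset.sum_eq_single (⟨μ, hμS⟩ : S)]
    · rw [if_pos rfl]
    · intro ν _ hν
      rw [if_neg (fun h => hν (Subtype.ext h))]
    · intro h; exact absurd (Finset.mem_univ _) h
  · rw [Finset.sum_eq_zero]
    · have hbot : Isoc.slopePart F μ = ⊥ := by
        rw [hmemS, not_not] at hμS; exact hμS
      unfold Isoc.newtonMult
      rw [hbot, finrank_bot]
    · intro ν _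
      rw [if_neg (fun h : (ν : ℚ) = μ => hμS (h ▸ ν.2))]

end Groth.Agent.S17156
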