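import Groth.Statements.S17157
import Mathlib
import Groth.Agent.Lib.helper8.IsocMap
-- import your own Groth.Agent.* helpers here

set_option autoImplicit false
universe u
open Isoc

namespace Groth.Agent.S17157

theorem helper8_natCast_ne_zero (p : ℕ) [Fact p.Prime] (k : Type u) [Field k] [CharP k p]
    (n : ℕ) (hn : n ≠ 0) : ((n : ℕ) : WittVector p k) ≠ 0 := by
  obtain ⟨v, m', hm', rfl⟩ := Nat.exists_eq_pow_mul_and_not_dvd hn p (Fact.out : p.Prime).ne_one
  rw [Nat.cast_mul, Nat.cast_pow]
  refine mul_ne_zero (pow_ne_zero _ (WittVector.p_nonzero p k)) ?_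
  intro h0
  have h1 := congrArg (WittVector.constantCoeff (p := p) (R := k)) h0
  rw [map_natCast, map_zero] at h1
  exact hm' ((CharP.cast_eq_zero_iff k p m').mp h1)

/-- Let k be a finite field of characteristic p, W = W(k), L its fraction field with Frobenius σ, and
let U be the σ-semilinear endomorphism of L² = (Fin 2 → L) determined by U(e₀) = e₀ and U(e₁) = e₀ +
e₁ on the standard basis. Then (L², U) is an F-isocrystal in which the sub-isocrystal L · e₀ admits
no U-stable complementary L-subspace; in particular the category of F-isocrystals over a finite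
field is not semisimple. (Over an algebraically closed field a complement exists.) -/
theorem result
    (p : ℕ) [Fact p.Prime] (k : Type u) [Field k] [CharP k p] [PerfectRing k p] [Finite k]
    (U : (Fin 2 → (FractionRing (WittVector p k))) →ₛₗ[Isoc.frob p k 1] (Fin 2 → (FractionRing (WittVector p k))))
    (hU0 : U (Pi.single 0 1) = Pi.single 0 1)
    (hU1 : U (Pi.single 1 1) = Pi.single 0 1 + Pi.single 1 1)
    (Q : Submodule (FractionRing (WittVector p k)) (Fin 2 → (FractionRing (WittVector p k)))) (hQ : ∀ x ∈ Q, U x ∈ Q) :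
    ¬ IsCompl (Submodule.span (FractionRing (WittVector p k)) {(Pi.single 0 1 : Fin 2 → (FractionRing (WittVector p k)))}) Q := by
  intro hc
  have htop : (Pi.single 1 1 : Fin 2 → FractionRing (WittVector p k)) ∈
      Submodule.span (FractionRing (WittVector p k))
        {(Pi.single 0 1 : Fin 2 → FractionRing (WittVector p k))} ⊔ Q := by
    rw [hc.sup_eq_top]; trivial
  obtain ⟨y, hy, q, hq, hyq⟩ := Submodule.mem_sup.mp htop
  obtain ⟨c, rfl⟩ := Submodule.mem_span_singleton.mp hy
  have hq' : q = Pi.single 1 1 - c • (Pi.single 0 1 : Fin 2 → FractionRing (WittVector p k)) := by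
    rw [← hyq]; abel
  have hUq : U q = Pi.single 0 1 + Pi.single 1 1 -
      (Isoc.frob p k 1 c) • (Pi.single 0 1 : Fin 2 → FractionRing (WittVector p k)) := by
    rw [hq', map_sub, map_smulₛₗ, hU1, hU0]
  have hdiff : U q - q ∈ Q := Q.sub_mem (hQ q hq) hq
  have hdiff' : U q - q = (1 - Isoc.frob p k 1 c + c) •
      (Pi.single 0 1 : Fin 2 → FractionRing (WittVector p k)) := by
    rw [hUq, hq', add_smul, sub_smul, one_smul]; abel
  have hmem : (1 - Isoc.frob p k 1 c + c) •
      (Pi.single 0 1 : Fin 2 → FractionRing (WittVector p k)) ∈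
      Submodule.span (FractionRing (WittVector p k))
        {(Pi.single 0 1 : Fin 2 → FractionRing (WittVector p k))} ⊓ Q :=
    ⟨Submodule.smul_mem _ _ (Submodule.mem_span_singleton_self _), hdiff' ▸ hdiff⟩
  rw [hc.inf_eq_bot, Submodule.mem_bot] at hmem
  have hcoef : 1 - Isoc.frob p k 1 c + c = 0 := by
    have := congrFun hmem 0
    simpa using this
  have hσc : Isoc.frob p k 1 c = c + 1 := by linear_combination (-1 : FractionRing (WittVector p k)) * hcoef
  obtain ⟨e, w, hw⟩ := H8Isoc.exists_pow_mul_int c
  have hσw : Isoc.frob p k 1 (algebraMap (WittVector p k) (FractionRing (WittVector p k)) w) =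
      algebraMap (WittVector p k) (FractionRing (WittVector p k)) (w + (p : WittVector p k) ^ e) := by
    rw [← hw, map_mul, map_pow, map_natCast, hσc, map_add, ← hw, map_pow, map_natCast]
    ring
  rw [Isoc.frob_algebraMap, zpow_one] at hσw
  have hfw : WittVector.frobenius w = w + (p : WittVector p k) ^ e :=
    IsFractionRing.injective (WittVector p k) (FractionRing (WittVector p k)) hσw
  have hiter : ∀ j : ℕ, (WittVector.frobenius)^[j] w = w + (j : WittVector p k) * (p : WittVector p k) ^ e := by
    intro j
    induction j with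
    | zero => simp
    | succ j ih =>
      rw [Function.iterate_succ_apply', ih, map_add, map_mul, map_natCast, map_pow, map_natCast, hfw]
      push_cast; ring
  haveI := Fintype.ofFinite k
  obtain ⟨m, _, hm⟩ := FiniteField.card k p
  have hfix : (WittVector.frobenius)^[(m : ℕ)] w = w := by
    ext n
    rw [WittVector.iterate_frobenius_coeff, ← hm, FiniteField.pow_card]
  rw [hiter] at hfix
  have h0 : ((m : ℕ) : WittVector p k) * (p : WittVector p k) ^ e = 0 := by
    have := congrArg (fun z => z - w) hfix
    simpa using this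
  rcases mul_eq_zero.mp h0 with h1 | h1
  · exact helper8_natCast_ne_zero p k m m.pos.ne' h1
  · exact pow_ne_zero _ (WittVector.p_nonzero p k) h1

end Groth.Agent.S17157
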