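import Groth.Statements.S17158
import Mathlib
import Groth.Agent.Lib.helper8.IsocDecomp
import Groth.Agent.S17139
-- import your own Groth.Agent.* helpers here

set_option autoImplicit false
universe u v
open Isoc

namespace Groth.Agent.S17158

section helper8aux

open scoped Pointwise

theorem helper8_det_blockDiagonal' {o : Type*} [Fintype o] [DecidableEq o] [LinearOrder o]
    {m' : o → Type*} [∀ i, Fintype (m' i)] [∀ i, DecidableEq (m' i)] {R : Type*} [CommRing R]
    (d : ∀ i, Matrix (m' i) (m' i) R) :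
    (Matrix.blockDiagonal' d).det = ∏ k, (d k).det := by
  rw [(Matrix.blockTriangular_blockDiagonal' d).det_fintype]
  refine Finset.prod_congr rfl fun k _ => ?_
  have hblk : (Matrix.blockDiagonal' d).toSquareBlock Sigma.fst k =
      Matrix.reindex (Equiv.sigmaSubtype k).symm (Equiv.sigmaSubtype k).symm (d k) := by
    ext ⟨⟨k', x⟩, h⟩ ⟨⟨k'', y⟩, h'⟩
    cases h
    cases h'
    simp [Matrix.toSquareBlock_def]
  rw [hblk, Matrix.det_reindex_self]

variable {p : ℕ} [hp : Fact p.Prime] {k : Type u} [Field k] [CharP k p] [PerfectRing k p]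

theorem helper8_isOrdP_prod {ι : Type*} (s : Finset ι) (f : ι → FractionRing (WittVector p k))
    (e : ι → ℤ) (h : ∀ i ∈ s, Isoc.IsOrdP (f i) (e i)) :
    Isoc.IsOrdP (∏ i ∈ s, f i) (∑ i ∈ s, e i) := by
  classical
  induction s using Finset.induction_on with
  | empty =>
    rw [Finset.prod_empty, Finset.sum_empty]
    have := H8Isoc.isOrdP_zpow (p := p) (k := k) 0
    rwa [zpow_zero] at this
  | insert i s hi ih =>
    rw [Finset.prod_insert hi, Finset.sum_insert hi]
    exact H8Isoc.IsOrdP.mul (h i (Finset.mem_insert_self i s))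
      (ih fun j hj => h j (Finset.mem_insert_of_mem hj))

end helper8aux

/-- Let k be a perfect field of characteristic p, a ∈ ℤ, W = W(k) with fraction field L, and (N, F) a
σ^a-F-isocrystal over k of height h, with b an L-basis of N indexed by Fin h and d the p-adic order
of the determinant coefficient of F in b. Then the Newton polygon of (N, F) ends at the point (h,
d), the end point of the Hodge polygon of any lattice: the sum over all μ ∈ ℚ of μ · m_μ, where m_μ
is the multiplicity of μ as a Newton slope (the L-dimension of the slope-μ part of N, zero for all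
but finitely many μ), equals orddet(F) = d. (The comparison 'Newton polygon on or above the Hodge
polygon' of the same result is not stated here.) -/
theorem result (p : ℕ) [Fact p.Prime] (k : Type u) [Field k] [CharP k p] [PerfectRing k p] (a : ℤ)
    (N : Type v) [AddCommGroup N] [Module (WittVector p k) N] [Module (FractionRing (WittVector p k)) N]
    [IsScalarTower (WittVector p k) (FractionRing (WittVector p k)) N]
    (F : N →ₛₗ[Isoc.frob p k a] N) (hF : Isoc.IsIsoc F)
    (h : ℕ) (b : Module.Basis (Fin h) (FractionRing (WittVector p k)) N)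
    (d : ℤ) (hd : Isoc.IsOrdP (Isoc.detCoeff b F) d) :
    ∑ᶠ μ : ℚ, μ * (Isoc.newtonMult F μ : ℚ) = d := by
  classical
  haveI := hF.finite
  have hτ := H8Isoc.good_frob (p := p) (k := k) a
  have hind := H8Isoc.iSupIndep_slopePart a F hF
  have hsup := H8Isoc.iSup_slopePart_eq_top a F hF
  have hst : ∀ μ : ℚ, ∀ x ∈ Isoc.slopePart F μ, F x ∈ Isoc.slopePart F μ := fun μ =>
    (H8Isoc.isoIn_slopePart a F hF μ).2
  haveI : IsNoetherian (FractionRing (WittVector p k)) N := inferInstance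
  have hfin : {μ : ℚ | Isoc.slopePart F μ ≠ ⊥}.Finite :=
    Submodule.finite_ne_bot_of_iSupIndep hind
  obtain ⟨S, hS⟩ : ∃ S : Finset ℚ, S = hfin.toFinset := ⟨_, rfl⟩
  have hmemS : ∀ μ, μ ∈ S ↔ Isoc.slopePart F μ ≠ ⊥ := fun μ => by
    rw [hS, Set.Finite.mem_toFinset]; rfl
  have hint : DirectSum.IsInternal (fun μ : S => Isoc.slopePart F (μ : ℚ)) := by
    rw [DirectSum.isInternal_submodule_iff_iSupIndep_and_iSup_eq_top]
    refine ⟨hind.comp Subtype.val_injective, ?_⟩
    rw [eq_top_iff, ← hsup]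
    refine iSup_le fun μ => ?_
    by_cases hμ : μ ∈ S
    · exact le_iSup (fun μ : S => Isoc.slopePart F (μ : ℚ)) ⟨μ, hμ⟩
    · rw [hmemS, not_not] at hμ
      rw [hμ]; exact bot_le
  let bb : ∀ μ : S, Module.Basis (Fin (Isoc.newtonMult F (μ : ℚ))) (FractionRing (WittVector p k))
      (Isoc.slopePart F (μ : ℚ)) := fun μ =>
    Module.finBasisOfFinrankEq (FractionRing (WittVector p k)) (Isoc.slopePart F (μ : ℚ)) rfl
  obtain ⟨B, hBdef⟩ : ∃ B : Module.Basis (Σ μ : S, Fin (Isoc.newtonMult F (μ : ℚ)))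
      (FractionRing (WittVector p k)) N, B = hint.collectedBasis bb := ⟨_, rfl⟩
  have hBcoe : ∀ (ν : S) (y : Fin (Isoc.newtonMult F (ν : ℚ))),
      B ⟨ν, y⟩ = ((bb ν y : Isoc.slopePart F (ν : ℚ)) : N) := by
    intro ν y
    rw [hBdef, DirectSum.IsInternal.collectedBasis_coe]
  have hBrepr : ∀ (ν : S) (z : N) (hz : z ∈ Isoc.slopePart F (ν : ℚ))
      (x : Fin (Isoc.newtonMult F (ν : ℚ))), B.repr z ⟨ν, x⟩ = (bb ν).repr ⟨z, hz⟩ x := by
    intro ν z hz x
    rw [hBdef]
    exact hint.collectedBasis_repr_of_mem bb hz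
  have hBne : ∀ (μ ν : S) (hne : ν ≠ μ) (z : N) (hz : z ∈ Isoc.slopePart F (ν : ℚ))
      (x : Fin (Isoc.newtonMult F (μ : ℚ))), B.repr z ⟨μ, x⟩ = 0 := by
    intro μ ν hne z hz x
    rw [hBdef]
    exact hint.collectedBasis_repr_of_mem_ne bb hne hz
  have hcard : Fintype.card (Σ μ : S, Fin (Isoc.newtonMult F (μ : ℚ))) = h := by
    rw [← Module.finrank_eq_card_basis B, Module.finrank_eq_card_basis b, Fintype.card_fin]
  obtain ⟨e, -⟩ : ∃ e : (Σ μ : S, Fin (Isoc.newtonMult F (μ : ℚ))) ≃ Fin h, True :=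
    ⟨Fintype.equivFinOfCardEq hcard, trivial⟩
  obtain ⟨B', hB'⟩ : ∃ B' : Module.Basis (Fin h) (FractionRing (WittVector p k)) N,
      B' = B.reindex e := ⟨_, rfl⟩
  have hmat : H8Isoc.mat B' ⇑F = Matrix.reindex e e (Matrix.blockDiagonal'
      (fun μ : S => H8Isoc.mat (bb μ) ⇑(F.restrict (hst μ)))) := by
    ext i j
    rw [H8Isoc.mat_apply, Matrix.reindex_apply, Matrix.submatrix_apply, hB',
      Module.Basis.repr_reindex_apply, Module.Basis.reindex_apply]
    generalize e.symm i = i'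
    generalize e.symm j = j'
    obtain ⟨μ, x⟩ := i'
    obtain ⟨ν, y⟩ := j'
    have hz : F ((bb ν y : Isoc.slopePart F (ν : ℚ)) : N) ∈ Isoc.slopePart F (ν : ℚ) :=
      hst ν _ (bb ν y).2
    rw [hBcoe]
    by_cases hμν : μ = ν
    · subst hμν
      rw [Matrix.blockDiagonal'_apply_eq, hBrepr μ _ hz]
      rfl
    · rw [Matrix.blockDiagonal'_apply_ne _ _ _ hμν, hBne μ ν (Ne.symm hμν) _ hz]
  have hdetB' : (H8Isoc.mat B' ⇑F).det =
      ∏ μ : S, (H8Isoc.mat (bb μ) ⇑(F.restrict (hst μ))).det := by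
    rw [hmat, Matrix.det_reindex_self, helper8_det_blockDiagonal']
  have hblkne : ∀ μ : S, (H8Isoc.mat (bb μ) ⇑(F.restrict (hst μ))).det ≠ 0 := fun μ =>
    H8Isoc.det_mat_ne_zero_of_surjective (bb μ) (F.restrict (hst μ))
      (H8Isoc.isIsoc_restrict a F hF (hst μ)).bijective.surjective
  choose dd hdd using fun μ : S => H8Isoc.exists_isOrdP _ (hblkne μ)
  have hprod : Isoc.IsOrdP (∏ μ : S, (H8Isoc.mat (bb μ) ⇑(F.restrict (hst μ))).det)
      (∑ μ : S, dd μ) := helper8_isOrdP_prod Finset.univ _ _ (fun μ _ => hdd μ)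
  have hd' : Isoc.IsOrdP (H8Isoc.mat B' ⇑F).det d :=
    H8Isoc.isOrdP_det_basis_change hτ F b B' hd
  rw [hdetB'] at hd'
  have hdsum : d = ∑ μ : S, dd μ := H8Isoc.IsOrdP.unique hd' hprod
  have hdμ : ∀ μ : S, ((dd μ : ℤ) : ℚ) = (μ : ℚ) * (Isoc.newtonMult F (μ : ℚ) : ℚ) := by
    intro μ
    have hne : Isoc.slopePart F (μ : ℚ) ≠ ⊥ := (hmemS μ).mp μ.2
    haveI : Nontrivial (Isoc.slopePart F (μ : ℚ)) := Submodule.nontrivial_iff_ne_bot.mpr hne
    obtain ⟨hP', hiso⟩ := Groth.Agent.S17151.result p k a N F hF (μ : ℚ)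
    obtain ⟨M', hM', r', s', hs', hμ', hFM'⟩ := hiso
    have hIso := H8Isoc.isIsoc_restrict a F hF (hst μ)
    have hres := (Groth.Agent.S17139.result p k a (Isoc.slopePart F (μ : ℚ))
      (F.restrict (hst μ)) hIso (Isoc.newtonMult F (μ : ℚ)) (bb μ) (dd μ) (hdd μ) M' hM' r' s'
      hs' hFM').2
    have hs'Q : ((s' : ℕ) : ℚ) ≠ 0 := by exact_mod_cast hs'.ne'
    have h1 : ((r' : ℤ) : ℚ) * (Isoc.newtonMult F (μ : ℚ) : ℚ) = (s' : ℚ) * (dd μ : ℚ) := by
      exact_mod_cast hres
    generalize (Isoc.newtonMult F (μ : ℚ) : ℚ) = mm at h1 ⊢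
    rw [← hμ', div_mul_eq_mul_div, eq_div_iff hs'Q]
    linarith
  have hsupp : (Function.support fun μ : ℚ => μ * (Isoc.newtonMult F μ : ℚ)) ⊆ ↑S := by
    intro μ hμ
    rw [Finset.mem_coe, hmemS]
    intro hbot
    apply hμ
    show μ * (Isoc.newtonMult F μ : ℚ) = 0
    unfold Isoc.newtonMult
    rw [hbot, finrank_bot, Nat.cast_zero, mul_zero]
  rw [finsum_eq_sum_of_support_subset _ hsupp,
    ← Finset.sum_coe_sort S (fun μ => μ * (Isoc.newtonMult F μ : ℚ)), hdsum]
  push_cast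
  exact Finset.sum_congr rfl fun μ _ => (hdμ μ).symm

end Groth.Agent.S17158
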