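import Groth.Statements.S17171
import Mathlib

set_option autoImplicit false
open QSymFn

namespace Groth.Agent.S17171

section Aux

lemma repr_sum {n : ℕ} (e : Fin n →₀ ℕ) : ∃ (ℓ : ℕ) (i₀ : Fin ℓ → Fin n) (a : Fin ℓ → ℕ),
    StrictMono i₀ ∧ (∀ t, 0 < a t) ∧ e = ∑ t : Fin ℓ, Finsupp.single (i₀ t) (a t) := by
  refine ⟨e.support.card, e.support.orderEmbOfFin rfl,
    fun t => e (e.support.orderEmbOfFin rfl t),
    (e.support.orderEmbOfFin rfl).strictMono, ?_, ?_⟩
  · intro t
    have := Finset.orderEmbOfFin_mem e.support rfl t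
    exact Nat.pos_of_ne_zero (Finsupp.mem_support_iff.mp this)
  · have h1 : e = ∑ s ∈ e.support, Finsupp.single s (e s) := (Finsupp.sum_single e).symm
    have h2 : ∀ g : Fin n → (Fin n →₀ ℕ), ∑ s ∈ e.support, g s =
        ∑ t : Fin e.support.card, g (e.support.orderEmbOfFin rfl t) := by
      intro g
      have := Finset.sum_image (s := (Finset.univ : Finset (Fin e.support.card)))
        (g := e.support.orderEmbOfFin rfl) (f := g)
        (fun x _ y _ hxy => (e.support.orderEmbOfFin rfl).injective hxy)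
      rw [Finset.image_orderEmbOfFin_univ] at this
      exact this
    calc e = ∑ s ∈ e.support, Finsupp.single s (e s) := h1
      _ = _ := h2 (fun s => Finsupp.single s (e s))

noncomputable def bnd (e : ℕ →₀ ℕ) : ℕ := e.support.sup (fun s => s + 1)

lemma lt_bnd {e : ℕ →₀ ℕ} {s : ℕ} (hs : s ∈ e.support) : s < bnd e :=
  Nat.lt_of_succ_le (Finset.le_sup (f := fun s => s + 1) hs)

noncomputable def res (N : ℕ) (e : ℕ →₀ ℕ) : Fin N →₀ ℕ :=
  Finsupp.comapDomain (Fin.val : Fin N → ℕ) e Fin.val_injective.injOn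

lemma map_res {N : ℕ} {e : ℕ →₀ ℕ} (h : ∀ s ∈ e.support, s < N) :
    Finsupp.mapDomain (Fin.val : Fin N → ℕ) (res N e) = e := by
  unfold res
  apply Finsupp.mapDomain_comapDomain (Fin.val : Fin N → ℕ) Fin.val_injective
  intro s hs
  exact ⟨⟨s, h s (Finset.mem_coe.mp hs)⟩, rfl⟩

end Aux

/-- The ring QSym of quasisymmetric functions over ℤ, with its restriction maps to the polynomial rings
in finitely many ordered variables, is the limit of the diagram S ↦ ℤ[α_s : s ∈ S] over finite
ordered sets S and order-preserving injections (an injection φ : S → T acting by α_t ↦ α_s when t =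
φ s and α_t ↦ 0 otherwise), the limit being taken in graded rings. Stated here on degree-d
components, with the variables indexed by ℕ in place of the positive integers and the finite ordered
sets taken to be the Fin n: (a) if F is a formal power series over ℤ in variables indexed by ℕ which
is quasisymmetric (for strictly increasing i, j : Fin ℓ → ℕ and positive exponents a, the
coefficients of ∏ x_{i t}^{a t} and ∏ x_{j t}^{a t} agree) and all of whose monomials have degree d,
then its restrictions to the initial segments Fin n ⊂ ℕ are compatible with every order embedding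
Fin n ↪o Fin m; (b) every family of degree-d homogeneous polynomials f n ∈ ℤ[x_s : s ∈ Fin n],
compatible with all order embeddings Fin n ↪o Fin m in this sense, is the family of restrictions of
exactly one such quasisymmetric F of degree d. -/
theorem result (d : ℕ) :
    (∀ F : MvPowerSeries ℕ ℤ,
      (∀ (ℓ : ℕ) (i j : Fin ℓ → ℕ) (a : Fin ℓ → ℕ), StrictMono i → StrictMono j → (∀ t, 0 < a t) →
        MvPowerSeries.coeff (∑ t : Fin ℓ, Finsupp.single (i t) (a t)) F =
          MvPowerSeries.coeff (∑ t : Fin ℓ, Finsupp.single (j t) (a t)) F) →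
      (∀ e : ℕ →₀ ℕ, MvPowerSeries.coeff e F ≠ 0 → e.degree = d) →
      ∀ (n m : ℕ) (φ : Fin n ↪o Fin m) (e : Fin n →₀ ℕ),
        MvPowerSeries.coeff (Finsupp.mapDomain Fin.val e) F =
          MvPowerSeries.coeff (Finsupp.mapDomain Fin.val (Finsupp.mapDomain φ e)) F) ∧
    (∀ f : (n : ℕ) → MvPolynomial (Fin n) ℤ,
      (∀ n, (f n).IsHomogeneous d) →
      (∀ (n m : ℕ) (φ : Fin n ↪o Fin m) (e : Fin n →₀ ℕ),
        MvPolynomial.coeff e (f n) = MvPolynomial.coeff (Finsupp.mapDomain φ e) (f m)) →
      ∃! F : MvPowerSeries ℕ ℤ,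
        (∀ (ℓ : ℕ) (i j : Fin ℓ → ℕ) (a : Fin ℓ → ℕ), StrictMono i → StrictMono j → (∀ t, 0 < a t) →
          MvPowerSeries.coeff (∑ t : Fin ℓ, Finsupp.single (i t) (a t)) F =
            MvPowerSeries.coeff (∑ t : Fin ℓ, Finsupp.single (j t) (a t)) F) ∧
        (∀ e : ℕ →₀ ℕ, MvPowerSeries.coeff e F ≠ 0 → e.degree = d) ∧
        (∀ (n : ℕ) (e : Fin n →₀ ℕ),
          MvPowerSeries.coeff (Finsupp.mapDomain Fin.val e) F = MvPolynomial.coeff e (f n))) := by
  constructor
  · intro F hqs _ n m φ e
    obtain ⟨ℓ, i₀, a, hi₀, ha, rfl⟩ := repr_sum e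
    simp only [Finsupp.mapDomain_finsetSum, Finsupp.mapDomain_single]
    exact hqs ℓ (fun t => (i₀ t : ℕ)) (fun t => (φ (i₀ t) : ℕ)) a (fun x y h => hi₀ h)
      (fun x y h => φ.strictMono (hi₀ h)) ha
  · intro f hf hcompat
    have core : ∀ (N n : ℕ) (hN : N ≤ n) (g' : Fin N →₀ ℕ) (g : Fin n →₀ ℕ),
        Finsupp.mapDomain Fin.val g' = Finsupp.mapDomain Fin.val g →
        MvPolynomial.coeff g' (f N) = MvPolynomial.coeff g (f n) := by
      intro N n hN g' g hgg
      rw [hcompat N n (Fin.castLEOrderEmb hN) g']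
      have hv : (Fin.val ∘ ⇑(Fin.castLEOrderEmb hN) : Fin N → ℕ) = Fin.val := by
        funext x; simp
      have : Finsupp.mapDomain (⇑(Fin.castLEOrderEmb hN)) g' = g := by
        apply Finsupp.mapDomain_injective Fin.val_injective
        rw [← Finsupp.mapDomain_comp, ← hgg, hv]
      rw [this]
    let F : MvPowerSeries ℕ ℤ := fun e => MvPolynomial.coeff (res (bnd e) e) (f (bnd e))
    have hF : ∀ e, MvPowerSeries.coeff e F =
        MvPolynomial.coeff (res (bnd e) e) (f (bnd e)) := fun e => rfl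
    have P3 : ∀ (n : ℕ) (g : Fin n →₀ ℕ),
        MvPowerSeries.coeff (Finsupp.mapDomain Fin.val g) F = MvPolynomial.coeff g (f n) := by
      intro n g
      rw [hF]
      have hb : bnd (Finsupp.mapDomain Fin.val g) ≤ n := by
        apply Finset.sup_le
        intro s hs
        have := Finsupp.mapDomain_support hs
        obtain ⟨x, _, rfl⟩ := Finset.mem_image.mp this
        show (x : ℕ) + 1 ≤ n
        exact x.2
      exact core _ n hb _ g (map_res (fun s hs => lt_bnd hs))
    have canon : ∀ (ℓ : ℕ) (i : Fin ℓ → ℕ) (a : Fin ℓ → ℕ), StrictMono i →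
        MvPowerSeries.coeff (∑ t : Fin ℓ, Finsupp.single (i t) (a t)) F =
          MvPolynomial.coeff (∑ t : Fin ℓ, Finsupp.single t (a t)) (f ℓ) := by
      intro ℓ i a hi
      obtain ⟨n, hn⟩ : ∃ n, ∀ t, i t < n :=
        ⟨Finset.univ.sup (fun t => i t + 1), fun t =>
          Nat.lt_of_succ_le (Finset.le_sup (f := fun t => i t + 1) (Finset.mem_univ t))⟩
      let ψ : Fin ℓ ↪o Fin n :=
        OrderEmbedding.ofStrictMono (fun t => ⟨i t, hn t⟩) (fun x y h => hi h)
      have h1 : (∑ t : Fin ℓ, Finsupp.single (i t) (a t)) =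
          Finsupp.mapDomain Fin.val
            (Finsupp.mapDomain ψ (∑ t : Fin ℓ, Finsupp.single t (a t))) := by
        simp only [Finsupp.mapDomain_finsetSum, Finsupp.mapDomain_single]
        rfl
      rw [h1, P3, ← hcompat ℓ n ψ]
    have P2 : ∀ e : ℕ →₀ ℕ, MvPowerSeries.coeff e F ≠ 0 → e.degree = d := by
      intro e he
      rw [hF] at he
      have hw := hf (bnd e) he
      have hdeg : (res (bnd e) e).degree = d := by
        rw [Finsupp.degree_eq_weight_one]; exact hw
      have h2 := Finsupp.degree_mapDomain (Fin.val : Fin (bnd e) → ℕ) (res (bnd e) e)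
      rw [map_res (fun s hs => lt_bnd hs)] at h2
      rw [h2, hdeg]
    refine ⟨F, ⟨?_, P2, P3⟩, ?_⟩
    · intro ℓ i j a hi hj _
      rw [canon ℓ i a hi, canon ℓ j a hj]
    · rintro F' ⟨_, _, hF'3⟩
      ext e
      have he := map_res (e := e) (N := bnd e) (fun s hs => lt_bnd hs)
      have h1 := hF'3 (bnd e) (res (bnd e) e)
      have h2 := P3 (bnd e) (res (bnd e) e)
      rw [he] at h1 h2
      rw [h1, h2]

end Groth.Agent.S17171
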