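import Groth.Statements.S17179
import Mathlib

set_option autoImplicit false
universe u
open LabGraph

namespace Groth.Agent.S17179

section Aux
open LabGraph
variable {V E : Type u} [Fintype V] [Fintype E] [DecidableEq V] [DecidableEq E]

/-- crossing indicator -/
def chi (ends : E → V × V) (S : Finset V) (e : E) : ℤ :=
  if ((ends e).1 ∈ S ∧ (ends e).2 ∉ S) ∨ ((ends e).1 ∉ S ∧ (ends e).2 ∈ S) then 1 else 0

theorem cut_eq (ends : E → V × V) (S : Finset V) :
    (cut ends S : ℤ) = ∑ e : E, chi ends S e := by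
  unfold cut chi
  rw [Finset.natCast_card_filter]

theorem sum_twist (ends : E → V × V) (φ : V → ℤ) (S : Finset V) :
    ∑ v ∈ S, twist ends φ v = ∑ e : E, ((if (ends e).1 ∈ S then φ (ends e).2 - φ (ends e).1 else 0) +
      (if (ends e).2 ∈ S then φ (ends e).1 - φ (ends e).2 else 0)) := by
  unfold twist
  rw [Finset.sum_comm]
  refine Finset.sum_congr rfl fun e _ => ?_
  rw [Finset.sum_add_distrib, Finset.sum_ite_eq, Finset.sum_ite_eq]

theorem sum_twist_univ (ends : E → V × V) (φ : V → ℤ) : ∑ v : V, twist ends φ v = 0 := by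
  rw [sum_twist]
  apply Finset.sum_eq_zero
  intro e _
  simp only [Finset.mem_univ, if_true]
  ring

theorem sum_endCount (ends : E → V × V) :
    ∑ v : V, (endCount ends Finset.univ v : ℤ) = 2 * (Fintype.card E : ℤ) := by
  unfold endCount
  push_cast
  rw [Finset.sum_comm]
  have h : ∀ e : E, ∑ v : V, (((if (ends e).1 = v then (1:ℤ) else 0) +
      (if (ends e).2 = v then (1:ℤ) else 0))) = 2 := by
    intro e
    rw [Finset.sum_add_distrib, Finset.sum_ite_eq, Finset.sum_ite_eq]
    simp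
  rw [Finset.sum_congr rfl (fun e _ => h e)]
  simp [mul_comm]

theorem canDeg_univ (ends : E → V × V) (w : V → ℕ) :
    canDeg ends w Finset.univ = 2 * genus ends w - 2 := by
  unfold canDeg genus
  rw [Finset.sum_add_distrib, Finset.sum_sub_distrib, sum_endCount, ← Finset.mul_sum]
  simp only [Finset.sum_const, Finset.card_univ, nsmul_eq_mul]
  ring

theorem core (ends : E → V × V) (w : V → ℕ) (hK : 0 ≤ canDeg ends w Finset.univ) (d : V → ℤ)
    (hBI : SatisfiesBI ends w d) (Z : Finset V)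
    (hZ : 2 * (canDeg ends w Finset.univ * (∑ v ∈ Z, d v) - (∑ v : V, d v) * canDeg ends w Z) =
      (cut ends Z : ℤ) * canDeg ends w Finset.univ)
    (d' : V → ℤ) (hd' : ∀ v, d' v = d v + twist ends (fun u => if u ∈ Z then 1 else 0) v) :
    SatisfiesBI ends w d' := by
  obtain ⟨K, hKdef⟩ : ∃ K, K = canDeg ends w Finset.univ := ⟨_, rfl⟩
  obtain ⟨D, hDdef⟩ : ∃ D, D = ∑ v : V, d v := ⟨_, rfl⟩
  obtain ⟨f, hf⟩ : ∃ f : V → ℤ, f = fun v => K * d v - D * (2 * (w v : ℤ) - 2 +
      (endCount ends Finset.univ v : ℤ)) := ⟨_, rfl⟩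
  rw [← hKdef] at hK hZ
  rw [← hDdef] at hZ
  have hg : ∀ S : Finset V, K * (∑ v ∈ S, d v) - D * canDeg ends w S = ∑ v ∈ S, f v := by
    intro S
    rw [hf]
    unfold canDeg
    rw [Finset.mul_sum, Finset.mul_sum, ← Finset.sum_sub_distrib]
  have hBIg : ∀ S : Finset V, 2 * |∑ v ∈ S, f v| ≤ (cut ends S : ℤ) * K := by
    intro S
    have h1 := hBI S
    rw [← hKdef, ← hDdef, hg S] at h1
    exact h1
  have htot : ∑ v : V, d' v = D := by
    rw [Finset.sum_congr rfl (fun v _ => hd' v), Finset.sum_add_distrib, sum_twist_univ, add_zero,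
      hDdef]
  have hY' : ∀ Y : Finset V, K * (∑ v ∈ Y, d' v) - D * canDeg ends w Y =
      ∑ v ∈ Y, f v + K * ∑ v ∈ Y, twist ends (fun u => if u ∈ Z then 1 else 0) v := by
    intro Y
    rw [← hg Y, Finset.sum_congr rfl (fun v _ => hd' v), Finset.sum_add_distrib]
    ring
  rw [hg Z] at hZ
  unfold SatisfiesBI
  intro Y
  rw [htot, ← hKdef, hY' Y]
  obtain ⟨ζ, hζ⟩ : ∃ ζ : E → ℤ, ζ = fun e =>
      ((if (ends e).1 ∈ Y then (if (ends e).2 ∈ Z then (1:ℤ) else 0) -
          (if (ends e).1 ∈ Z then 1 else 0) else 0) +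
      (if (ends e).2 ∈ Y then (if (ends e).1 ∈ Z then (1:ℤ) else 0) -
          (if (ends e).2 ∈ Z then 1 else 0) else 0)) := ⟨_, rfl⟩
  have hzY : ∑ v ∈ Y, twist ends (fun u => if u ∈ Z then 1 else 0) v = ∑ e : E, ζ e := by
    rw [sum_twist, hζ]
  have hup : ∑ e : E, (chi ends (Y ∩ Z) e + chi ends (Y ∪ Z) e - chi ends Z e + 2 * ζ e)
      ≤ ∑ e : E, chi ends Y e := by
    apply Finset.sum_le_sum
    intro e _
    rw [hζ]
    unfold chi
    by_cases h1 : (ends e).1 ∈ Y <;> by_cases h2 : (ends e).2 ∈ Y <;>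
      by_cases h3 : (ends e).1 ∈ Z <;> by_cases h4 : (ends e).2 ∈ Z <;>
      simp [h1, h2, h3, h4]
  have hlo : ∑ e : E, -(chi ends Y e)
      ≤ ∑ e : E, (chi ends Z e - chi ends (Y \ Z) e - chi ends (Z \ Y) e + 2 * ζ e) := by
    apply Finset.sum_le_sum
    intro e _
    rw [hζ]
    unfold chi
    by_cases h1 : (ends e).1 ∈ Y <;> by_cases h2 : (ends e).2 ∈ Y <;>
      by_cases h3 : (ends e).1 ∈ Z <;> by_cases h4 : (ends e).2 ∈ Z <;>
      simp [h1, h2, h3, h4]
  simp only [Finset.sum_add_distrib, Finset.sum_sub_distrib, Finset.sum_neg_distrib,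
    ← Finset.mul_sum, ← cut_eq, ← hzY] at hup hlo
  have hup' := mul_le_mul_of_nonneg_right hup hK
  have hlo' := mul_le_mul_of_nonneg_right hlo hK
  have hIU := Finset.sum_union_inter (s₁ := Y) (s₂ := Z) (f := f)
  have hYd := Finset.sum_inter_add_sum_sdiff Y Z f
  have hZd := Finset.sum_inter_add_sum_sdiff Z Y f
  rw [Finset.inter_comm Z Y] at hZd
  have bI := hBIg (Y ∩ Z)
  have bU := hBIg (Y ∪ Z)
  have bB := hBIg (Y \ Z)
  have bC := hBIg (Z \ Y)
  have a1 := le_abs_self (∑ v ∈ Y ∩ Z, f v)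
  have a2 := le_abs_self (∑ v ∈ Y ∪ Z, f v)
  have a3 := neg_le_abs (∑ v ∈ Y \ Z, f v)
  have a4 := le_abs_self (∑ v ∈ Z \ Y, f v)
  rcases abs_cases (∑ v ∈ Y, f v + K * ∑ v ∈ Y, twist ends (fun u => if u ∈ Z then 1 else 0) v)
    with ⟨h, _⟩ | ⟨h, _⟩
  · rw [h]
    nlinarith
  · rw [h]
    nlinarith
end Aux

open LabGraph in
/-- Let Γ be the weighted dual graph of a Deligne–Mumford semistable curve X of genus g ≥ 3 (connected;
every weight-zero vertex without loop joined to the other vertices by at least two edges), d a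
multidegree of total degree D satisfying the Basic Inequality, and Z a set of vertices whose degree
equals the upper extreme M_Z of the inequality, that is 2((2g - 2)·d_Z - D·canDeg Z) = cut Z·(2g -
2). Then d + z again satisfies the Basic Inequality, where z, the multidegree of O(Z) on the total
space of a regular smoothing, is the twist of the indicator function of Z (it lowers the degree on Z
by cut Z and raises it on each outside vertex by its number of edges to Z). -/
theorem result {V E : Type u} [Fintype V] [Fintype E]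
    [DecidableEq V] [DecidableEq E] (ends : E → V × V) (w : V → ℕ) (hX : IsSemistableGraph ends w)
    (hg : 3 ≤ genus ends w) (d : V → ℤ) (hBI : SatisfiesBI ends w d) (Z : Finset V)
    (hZ : 2 * (canDeg ends w Finset.univ * (∑ v ∈ Z, d v) - (∑ v : V, d v) * canDeg ends w Z) =
      (cut ends Z : ℤ) * canDeg ends w Finset.univ) :
    SatisfiesBI ends w (fun v => d v + twist ends (fun u => if u ∈ Z then 1 else 0) v) := by
  have hK : 0 ≤ canDeg ends w Finset.univ := by rw [canDeg_univ]; linarith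
  exact core ends w hK d hBI Z hZ _ (fun v => rfl)

end Groth.Agent.S17179
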