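import Groth.Statements.S17173
import Mathlib
import Groth.Agent.S17179

set_option autoImplicit false
universe u
open LabGraph

namespace Groth.Agent.S17173

section Aux
open LabGraph
variable {V E : Type u} [Fintype V] [Fintype E] [DecidableEq V] [DecidableEq E]

theorem boundary_add (ends : E → V × V) (γ δ : E → ℤ) (x : V) :
    boundary ends (fun e => γ e + δ e) x = boundary ends γ x + boundary ends δ x := by
  unfold boundary
  rw [← Finset.sum_add_distrib]
  refine Finset.sum_congr rfl fun e _ => ?_
  split_ifs <;> ring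

theorem boundary_single (ends : E → V × V) (e : E) (c : ℤ) (x : V) :
    boundary ends (fun e' => if e' = e then c else 0) x =
      (if (ends e).2 = x then c else 0) - (if (ends e).1 = x then c else 0) := by
  unfold boundary
  rw [Finset.sum_eq_single e]
  · simp
  · intro e' _ hne
    simp [hne]
  · intro h
    exact absurd (Finset.mem_univ _) h

theorem exists_flow (ends : E → V × V) (hc : Connected ends) (v0 : V) (v : V) :
    ∃ γ : E → ℤ, ∀ x : V, boundary ends γ x =
      (if x = v then 1 else 0) - (if x = v0 then 1 else 0) := by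
  have key : ∀ y, Relation.ReflTransGen (Adj ends) v0 y →
      ∃ γ : E → ℤ, ∀ x : V, boundary ends γ x =
        (if x = y then 1 else 0) - (if x = v0 then 1 else 0) := by
    intro y hy
    induction hy with
    | refl => exact ⟨fun _ => 0, fun x => by simp [boundary]⟩
    | @tail b c _ hab ih =>
      obtain ⟨γ, hγ⟩ := ih
      obtain ⟨e, he⟩ := hab
      rcases he with he | he
      · refine ⟨fun e' => γ e' + (if e' = e then 1 else 0), fun x => ?_⟩
        have e1 : ∀ (y : V) (k : ℤ), (if y = x then k else 0) = if x = y then k else 0 :=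
          fun y k => if_congr eq_comm rfl rfl
        rw [boundary_add, hγ x, boundary_single, he]
        simp only [e1]
        split_ifs <;> ring
      · refine ⟨fun e' => γ e' + (if e' = e then -1 else 0), fun x => ?_⟩
        have e1 : ∀ (y : V) (k : ℤ), (if y = x then k else 0) = if x = y then k else 0 :=
          fun y k => if_congr eq_comm rfl rfl
        rw [boundary_add, hγ x, boundary_single, he]
        simp only [e1]
        split_ifs <;> ring
  exact key v (hc.2 v0 v)

theorem exists_flow_of_sum_zero (ends : E → V × V) (hc : Connected ends) (r : V → ℤ)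
    (hr : ∑ v, r v = 0) :
    ∃ γ : E → ℤ, ∀ x, boundary ends γ x = r x := by
  obtain ⟨v0⟩ := hc.1
  choose Γ hΓ using exists_flow ends hc v0
  refine ⟨fun e => ∑ v, r v * Γ v e, fun x => ?_⟩
  have hlin : boundary ends (fun e => ∑ v, r v * Γ v e) x =
      ∑ v, r v * boundary ends (Γ v) x := by
    unfold boundary
    simp only [Finset.mul_sum]
    rw [Finset.sum_comm]
    refine Finset.sum_congr rfl fun e _ => ?_
    by_cases hb : (ends e).2 = x <;> by_cases ha : (ends e).1 = x <;> simp [ha, hb]
  rw [hlin]
  simp only [hΓ]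
  calc ∑ v, r v * ((if x = v then (1:ℤ) else 0) - (if x = v0 then 1 else 0))
      = ∑ v, (if x = v then r v else 0) - (∑ v, r v) * (if x = v0 then 1 else 0) := by
        rw [Finset.sum_mul, ← Finset.sum_sub_distrib]
        refine Finset.sum_congr rfl fun v _ => ?_
        split_ifs <;> ring
    _ = r x := by
        rw [hr, zero_mul, sub_zero, Finset.sum_ite_eq]
        simp

theorem sum_mul_boundary (ends : E → V × V) (γ : E → ℤ) (φ : V → ℤ) :
    ∑ v, φ v * boundary ends γ v = ∑ e, γ e * (φ (ends e).2 - φ (ends e).1) := by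
  unfold boundary
  simp only [Finset.mul_sum]
  rw [Finset.sum_comm]
  refine Finset.sum_congr rfl fun e _ => ?_
  simp only [mul_sub, Finset.sum_sub_distrib, mul_ite, mul_zero, Finset.sum_ite_eq,
    Finset.mem_univ, if_true]
  ring

/-- the energy -/
def energy (ends : E → V × V) (K : ℤ) (r : V → ℤ) (φ : V → ℤ) : ℤ :=
  K * ∑ e : E, (φ (ends e).1 - φ (ends e).2) ^ 2 - 2 * ∑ v, φ v * r v

theorem energy_lb (ends : E → V × V) (K : ℤ) (hK : 1 ≤ K) (r : V → ℤ) (γ : E → ℤ)
    (hγ : ∀ x, boundary ends γ x = r x) (φ : V → ℤ) :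
    -(∑ e : E, γ e ^ 2) ≤ energy ends K r φ := by
  have h1 : ∑ v, φ v * r v = ∑ e, γ e * (φ (ends e).2 - φ (ends e).1) := by
    rw [← sum_mul_boundary]
    exact Finset.sum_congr rfl fun v _ => by rw [hγ v]
  unfold energy
  rw [h1, Finset.mul_sum, Finset.mul_sum, ← Finset.sum_sub_distrib, ← Finset.sum_neg_distrib]
  apply Finset.sum_le_sum
  intro e _
  nlinarith [sq_nonneg (φ (ends e).1 - φ (ends e).2 + γ e),
    mul_nonneg (sub_nonneg.2 hK) (sq_nonneg (φ (ends e).1 - φ (ends e).2))]

theorem energy_var (ends : E → V × V) (K : ℤ) (r φ : V → ℤ) (Y : Finset V) (s : ℤ)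
    (hs : s = 1 ∨ s = -1) :
    energy ends K r (fun v => φ v + s * (if v ∈ Y then 1 else 0)) - energy ends K r φ =
      K * ((cut ends Y : ℤ) - 2 * s * ∑ v ∈ Y, twist ends φ v) - 2 * s * ∑ v ∈ Y, r v := by
  have e0 : ∑ v ∈ Y, r v = ∑ v, if v ∈ Y then r v else 0 := by
    rw [Finset.sum_ite_mem, Finset.univ_inter]
  have e1 : ∑ v, (φ v + s * (if v ∈ Y then 1 else 0)) * r v =
      ∑ v, φ v * r v + s * ∑ v ∈ Y, r v := by
    rw [e0, Finset.mul_sum, ← Finset.sum_add_distrib]
    refine Finset.sum_congr rfl fun v _ => ?_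
    split_ifs <;> ring
  have e2 : ∑ e : E, ((φ (ends e).1 + s * (if (ends e).1 ∈ Y then 1 else 0)) -
        (φ (ends e).2 + s * (if (ends e).2 ∈ Y then 1 else 0))) ^ 2
      = ∑ e : E, (φ (ends e).1 - φ (ends e).2) ^ 2 +
        ((cut ends Y : ℤ) - 2 * s * ∑ v ∈ Y, twist ends φ v) := by
    rw [Groth.Agent.S17179.cut_eq, Groth.Agent.S17179.sum_twist, Finset.mul_sum,
      ← Finset.sum_sub_distrib, ← Finset.sum_add_distrib]
    refine Finset.sum_congr rfl fun e _ => ?_
    unfold Groth.Agent.S17179.chi
    rcases hs with rfl | rfl <;> by_cases h1 : (ends e).1 ∈ Y <;>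
      by_cases h2 : (ends e).2 ∈ Y <;> simp [h1, h2] <;> ring
  unfold energy
  rw [e1, e2]
  ring

theorem main (ends : E → V × V) (w : V → ℕ) (hc : Connected ends)
    (hK : 1 ≤ canDeg ends w Finset.univ) (d : V → ℤ) :
    ∃ d' : V → ℤ, TwistEquiv ends d' d ∧ SatisfiesBI ends w d' := by
  obtain ⟨K, hKdef⟩ : ∃ K, K = canDeg ends w Finset.univ := ⟨_, rfl⟩
  obtain ⟨D, hDdef⟩ : ∃ D, D = ∑ v : V, d v := ⟨_, rfl⟩
  obtain ⟨r, hr⟩ : ∃ r : V → ℤ, r = fun v => K * d v - D * (2 * (w v : ℤ) - 2 +
      (endCount ends Finset.univ v : ℤ)) := ⟨_, rfl⟩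
  rw [← hKdef] at hK
  have hg : ∀ S : Finset V, K * (∑ v ∈ S, d v) - D * canDeg ends w S = ∑ v ∈ S, r v := by
    intro S
    rw [hr]
    unfold canDeg
    rw [Finset.mul_sum, Finset.mul_sum, ← Finset.sum_sub_distrib]
  have hr0 : ∑ v, r v = 0 := by
    rw [← hg Finset.univ, ← hKdef, ← hDdef]; ring
  obtain ⟨γ, hγ⟩ := exists_flow_of_sum_zero ends hc r hr0
  obtain ⟨m, ⟨φ, hφm⟩, hmin⟩ := Int.exists_least_of_bdd
    (P := fun z => ∃ φ : V → ℤ, energy ends K r φ = z)
    ⟨-(∑ e : E, γ e ^ 2), fun z hz => by
      obtain ⟨φ, hz⟩ := hz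
      rw [← hz]
      exact energy_lb ends K hK r γ hγ φ⟩
    ⟨_, fun _ => 0, rfl⟩
  have hminφ : ∀ ψ, energy ends K r φ ≤ energy ends K r ψ := fun ψ => by
    rw [hφm]; exact hmin _ ⟨ψ, rfl⟩
  have hBI : ∀ d' : V → ℤ, (∀ v, d' v = d v + twist ends φ v) → SatisfiesBI ends w d' := by
    intro d' hd'
    have htot : ∑ v : V, d' v = D := by
      rw [Finset.sum_congr rfl (fun v _ => hd' v), Finset.sum_add_distrib,
        Groth.Agent.S17179.sum_twist_univ, add_zero, hDdef]
    unfold SatisfiesBI
    intro Y
    have hY' : K * (∑ v ∈ Y, d' v) - D * canDeg ends w Y =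
        ∑ v ∈ Y, r v + K * ∑ v ∈ Y, twist ends φ v := by
      rw [← hg Y, Finset.sum_congr rfl (fun v _ => hd' v), Finset.sum_add_distrib]
      ring
    rw [htot, ← hKdef, hY']
    have h1 := energy_var ends K r φ Y 1 (Or.inl rfl)
    have h2 := energy_var ends K r φ Y (-1) (Or.inr rfl)
    have m1 := hminφ (fun v => φ v + 1 * (if v ∈ Y then 1 else 0))
    have m2 := hminφ (fun v => φ v + (-1) * (if v ∈ Y then 1 else 0))
    rcases abs_cases (∑ v ∈ Y, r v + K * ∑ v ∈ Y, twist ends φ v) with ⟨h, _⟩ | ⟨h, _⟩
    · rw [h]; nlinarith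
    · rw [h]; nlinarith
  exact ⟨fun v => d v + twist ends φ v,
    ⟨φ, fun v => by show d v + twist ends φ v - d v = twist ends φ v; ring⟩,
    hBI _ (fun v => rfl)⟩
end Aux

open LabGraph in
/-- Let Γ be the weighted dual graph of a quasistable curve X of genus g ≥ 3 over an algebraically
closed field (vertices the irreducible components C_v with weight the geometric genus, one edge per
node, a loop for a node on a single component): Γ is connected, every weight-zero vertex without
loop is joined to the other vertices by at least two edges, and no edge joins two exceptional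
vertices (weight zero, no loop, exactly two edges to other vertices). Let d be a multidegree of any
total degree D (the combinatorial section fixes an arbitrary integer d; g ≥ 3 is the paper's
standing assumption). Then the degree class of d contains a representative satisfying the Basic
Inequality: there is a multidegree d', differing from d by the twist of some integer vertex
labelling (the multidegree of a divisor Σ φ_v C_v on the total space of a regular smoothing), such
that for every set Y of vertices 2·|(2g - 2)·d'_Y - D·canDeg Y| ≤ cut Y·(2g - 2), where canDeg Y = 2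
g_Y - 2 + cut Y is the degree of the dualizing sheaf on the subcurve Y and cut Y the number of nodes
where Y meets the rest of X. -/
theorem result {V E : Type u} [Fintype V] [Fintype E]
    [DecidableEq V] [DecidableEq E] (ends : E → V × V) (w : V → ℕ) (hX : IsQuasistableGraph ends w)
    (hg : 3 ≤ genus ends w) (d : V → ℤ) :
    ∃ d' : V → ℤ, TwistEquiv ends d' d ∧ SatisfiesBI ends w d' := by
  have hK : 1 ≤ canDeg ends w Finset.univ := by
    rw [Groth.Agent.S17179.canDeg_univ]; linarith
  exact main ends w hX.1.1 hK d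

end Groth.Agent.S17173
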