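import Groth.Statements.S17174
import Mathlib
import Groth.Agent.S17179

set_option autoImplicit false
universe u
open LabGraph

namespace Groth.Agent.S17174

section Aux
open LabGraph
variable {V E : Type u} [Fintype V] [Fintype E] [DecidableEq V] [DecidableEq E]

theorem crossing (ends : E → V × V) (hc : Connected ends) (S : V → Prop) (v0 w0 : V)
    (hv : S v0) (hw : ¬ S w0) :
    ∃ e : E, (S (ends e).1 ∧ ¬ S (ends e).2) ∨ (¬ S (ends e).1 ∧ S (ends e).2) := by
  by_contra hno
  have hclosed : ∀ a b, S a → Adj ends a b → S b := by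
    intro a b ha hab
    obtain ⟨e, he⟩ := hab
    by_contra hb
    rcases he with he | he
    · exact hno ⟨e, Or.inl ⟨by rw [he]; exact ha, by rw [he]; exact hb⟩⟩
    · exact hno ⟨e, Or.inr ⟨by rw [he]; exact hb, by rw [he]; exact ha⟩⟩
  have key : ∀ x, Relation.ReflTransGen (Adj ends) v0 x → S x := by
    intro x hx
    induction hx with
    | refl => exact hv
    | tail _ hab ih => exact hclosed _ _ ih hab
  exact hw (key w0 (hc.2 v0 w0))

theorem main (ends : E → V × V) (w : V → ℕ) (hc : Connected ends)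
    (hK : 0 < canDeg ends w Finset.univ)
    (d d' : V → ℤ) (hBI : SatisfiesBI ends w d) (hBI' : SatisfiesBI ends w d')
    (φ : V → ℤ) (hφ : ∀ v, d v - d' v = twist ends φ v) :
    ∃ (q : ℕ) (h : V → ℕ), (∀ v : V, h v ≤ q) ∧ (∀ i : ℕ, i ≤ q → ∃ v : V, h v = i) ∧
      (∀ v : V, d v - d' v = twist ends (fun u => (h u : ℤ)) v) ∧
      (∀ i j : ℕ, i ≤ q → j ≤ q → i ≠ j →
        ((∃ e : E, (h (ends e).1 = i ∧ h (ends e).2 = j) ∨ (h (ends e).1 = j ∧ h (ends e).2 = i)) ↔
          (i + 1 = j ∨ j + 1 = i))) := by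
  have htot : ∑ v : V, d v = ∑ v : V, d' v := by
    have h := Groth.Agent.S17179.sum_twist_univ ends φ
    rw [← Finset.sum_congr rfl (fun v _ => hφ v), Finset.sum_sub_distrib] at h
    linarith
  have hbound : ∀ Y : Finset V, -(cut ends Y : ℤ) ≤ ∑ v ∈ Y, twist ends φ v := by
    intro Y
    have h1 := hBI Y
    have h2 := hBI' Y
    rw [← htot] at h2
    have hs : ∑ v ∈ Y, twist ends φ v = ∑ v ∈ Y, d v - ∑ v ∈ Y, d' v := by
      rw [← Finset.sum_sub_distrib]
      exact (Finset.sum_congr rfl (fun v _ => hφ v)).symm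
    rw [hs]
    have a1 := neg_abs_le (canDeg ends w Finset.univ * ∑ v ∈ Y, d v -
      (∑ v, d v) * canDeg ends w Y)
    have a2 := le_abs_self (canDeg ends w Finset.univ * ∑ v ∈ Y, d' v -
      (∑ v, d v) * canDeg ends w Y)
    have h3 : canDeg ends w Finset.univ * (-(cut ends Y : ℤ)) ≤
        canDeg ends w Finset.univ * (∑ v ∈ Y, d v - ∑ v ∈ Y, d' v) := by nlinarith
    exact le_of_mul_le_mul_left h3 hK
  have hedge : ∀ e : E, φ (ends e).1 - φ (ends e).2 ≤ 1 ∧ φ (ends e).2 - φ (ends e).1 ≤ 1 := by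
    intro e0
    by_contra hcon
    obtain ⟨t, ht⟩ : ∃ t : ℤ, t = max (φ (ends e0).1) (φ (ends e0).2) := ⟨_, rfl⟩
    have ht1 : φ (ends e0).1 ≤ t := by rw [ht]; exact le_max_left _ _
    have ht2 : φ (ends e0).2 ≤ t := by rw [ht]; exact le_max_right _ _
    have ht3 : t = φ (ends e0).1 ∨ t = φ (ends e0).2 := by rw [ht]; exact max_choice _ _
    clear ht
    have hb := hbound (Finset.univ.filter (fun v => t ≤ φ v))
    rw [Groth.Agent.S17179.sum_twist, Groth.Agent.S17179.cut_eq, ← Finset.sum_neg_distrib] at hb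
    have hlt : ∑ e : E, ((if (ends e).1 ∈ Finset.univ.filter (fun v => t ≤ φ v) then
          φ (ends e).2 - φ (ends e).1 else 0) +
        (if (ends e).2 ∈ Finset.univ.filter (fun v => t ≤ φ v) then
          φ (ends e).1 - φ (ends e).2 else 0))
        < ∑ e : E, -(Groth.Agent.S17179.chi ends (Finset.univ.filter (fun v => t ≤ φ v)) e) := by
      apply Finset.sum_lt_sum
      · intro e _
        unfold Groth.Agent.S17179.chi
        simp only [Finset.mem_filter, Finset.mem_univ, true_and]
        split_ifs <;> omega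
      · refine ⟨e0, Finset.mem_univ _, ?_⟩
        unfold Groth.Agent.S17179.chi
        simp only [Finset.mem_filter, Finset.mem_univ, true_and]
        split_ifs <;> omega
    exact absurd hb (not_le.2 hlt)
  obtain ⟨vv⟩ := hc.1
  obtain ⟨v0, -, hv0⟩ := Finset.exists_min_image Finset.univ φ ⟨vv, Finset.mem_univ _⟩
  obtain ⟨v1, -, hv1⟩ := Finset.exists_max_image Finset.univ φ ⟨vv, Finset.mem_univ _⟩
  have hcast : ∀ v, ((φ v - φ v0).toNat : ℤ) = φ v - φ v0 := fun v =>
    Int.toNat_of_nonneg (by linarith [hv0 v (Finset.mem_univ _)])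
  have hF2 : ∀ i : ℕ, i < (φ v1 - φ v0).toNat → ∃ e : E,
      ((φ (ends e).1 - φ v0).toNat = i ∧ (φ (ends e).2 - φ v0).toNat = i + 1) ∨
      ((φ (ends e).1 - φ v0).toNat = i + 1 ∧ (φ (ends e).2 - φ v0).toNat = i) := by
    intro i hi
    obtain ⟨e, he⟩ := crossing ends hc (fun v => (φ v - φ v0).toNat ≤ i) v0 v1
      (by show (φ v0 - φ v0).toNat ≤ i; simp) (by show ¬ (φ v1 - φ v0).toNat ≤ i; omega)
    refine ⟨e, ?_⟩
    have h1 := hedge e
    have ha := hv0 (ends e).1 (Finset.mem_univ _)
    have hb := hv0 (ends e).2 (Finset.mem_univ _)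
    rcases he with ⟨h2, h3⟩ | ⟨h2, h3⟩
    · beta_reduce at h2 h3
      exact Or.inl ⟨by omega, by omega⟩
    · beta_reduce at h2 h3
      exact Or.inr ⟨by omega, by omega⟩
  refine ⟨(φ v1 - φ v0).toNat, fun v => (φ v - φ v0).toNat, ?_, ?_, ?_, ?_⟩
  · intro v
    have := hv1 v (Finset.mem_univ _)
    show (φ v - φ v0).toNat ≤ (φ v1 - φ v0).toNat
    omega
  · intro i hi
    rcases Nat.lt_or_ge i (φ v1 - φ v0).toNat with hlt | hge
    · obtain ⟨e, he | he⟩ := hF2 i hlt
      · exact ⟨_, he.1⟩
      · exact ⟨_, he.2⟩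
    · exact ⟨v1, by show (φ v1 - φ v0).toNat = i; omega⟩
  · intro v
    rw [hφ v]
    unfold twist
    refine Finset.sum_congr rfl fun e _ => ?_
    simp only [hcast]
    split_ifs <;> ring
  · intro i j hi hj hij
    constructor
    · rintro ⟨e, he⟩
      have h1 := hedge e
      have ha := hv0 (ends e).1 (Finset.mem_univ _)
      have hb := hv0 (ends e).2 (Finset.mem_univ _)
      rcases he with ⟨h2, h3⟩ | ⟨h2, h3⟩
      · beta_reduce at h2 h3; omega
      · beta_reduce at h2 h3; omega
    · rintro (h1 | h1)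
      · have hlt : i < (φ v1 - φ v0).toNat := by omega
        obtain ⟨e, he | he⟩ := hF2 i hlt
        · exact ⟨e, Or.inl ⟨he.1, by rw [← h1]; exact he.2⟩⟩
        · exact ⟨e, Or.inr ⟨by rw [← h1]; exact he.1, he.2⟩⟩
      · have hlt : j < (φ v1 - φ v0).toNat := by omega
        obtain ⟨e, he | he⟩ := hF2 j hlt
        · exact ⟨e, Or.inr ⟨he.1, by rw [← h1]; exact he.2⟩⟩
        · exact ⟨e, Or.inl ⟨by rw [← h1]; exact he.1, he.2⟩⟩
end Aux

open LabGraph in
/-- Let Γ be the weighted dual graph of a Deligne–Mumford semistable curve X of genus g ≥ 3 over an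
algebraically closed field (connected; every weight-zero vertex without loop is joined to the other
vertices by at least two edges), and let d, d' be two multidegrees of the same (arbitrary) total
degree D (g ≥ 3 being the paper's standing assumption) which both satisfy the Basic Inequality and
lie in the same degree class (d - d' is a twist). Then d - d' can be written in normal form: there
is a labelling h of the vertices by natural numbers taking exactly the values 0, 1, …, q, with d -
d' equal to the twist of h (that is, d - d' = Σ_v h(v)·c_v with c_v the multidegree of O(C_v)), such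
that for distinct levels i ≠ j in {0, …, q} the subcurves on h⁻¹(i) and h⁻¹(j) meet (some edge joins
the two levels) exactly when |i - j| = 1. -/
theorem result {V E : Type u} [Fintype V] [Fintype E]
    [DecidableEq V] [DecidableEq E] (ends : E → V × V) (w : V → ℕ) (hX : IsSemistableGraph ends w)
    (hg : 3 ≤ genus ends w) (d d' : V → ℤ)
    (hBI : SatisfiesBI ends w d) (hBI' : SatisfiesBI ends w d') (heq : TwistEquiv ends d d') :
    ∃ (q : ℕ) (h : V → ℕ), (∀ v : V, h v ≤ q) ∧ (∀ i : ℕ, i ≤ q → ∃ v : V, h v = i) ∧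
      (∀ v : V, d v - d' v = twist ends (fun u => (h u : ℤ)) v) ∧
      (∀ i j : ℕ, i ≤ q → j ≤ q → i ≠ j →
        ((∃ e : E, (h (ends e).1 = i ∧ h (ends e).2 = j) ∨ (h (ends e).1 = j ∧ h (ends e).2 = i)) ↔
          (i + 1 = j ∨ j + 1 = i))) := by
  obtain ⟨φ, hφ⟩ := heq
  have hK : 0 < canDeg ends w Finset.univ := by
    rw [Groth.Agent.S17179.canDeg_univ]; linarith
  exact main ends w hX.1 hK d d' hBI hBI' φ hφ

end Groth.Agent.S17174
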