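import Groth.Statements.S17176
import Mathlib
-- import your own Groth.Agent.* helpers here

set_option autoImplicit false
open Curves

namespace Groth.Agent.S17176

/-- Fix integers g ≥ 3 and d. For a complete subcurve Y of arithmetic genus g_Y of a nodal curve of
genus g, meeting the rest of the curve in k points, the lower extreme of the Basic Inequality for
line bundles of degree d is m = d(2g_Y - 2 + k)/(2g - 2) - k/2, which is an integer exactly when 2(g
- 1) divides d(2g_Y - 2 + k) - k(g - 1). Then gcd(d - g + 1, 2g - 2) = 1 if and only if m is not an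
integer for all integers g_Y, k with 0 < g_Y < g - 1, k ≥ 1 and k + 2g_Y - 2 < 2g - 2. (The row
makes explicit the bound 2g_Y - 2 + k < 2g - 2, which is automatic for subcurves of stable curves
and is satisfied by every subcurve to which the source applies the lemma; the source leaves the
ambient curve's class implicit.) -/
theorem result (g d : ℤ) (hg : 3 ≤ g) :
    Int.gcd (d - g + 1) (2 * g - 2) = 1 ↔
      ∀ gY k : ℤ, 0 < gY → gY < g - 1 → 1 ≤ k → k + 2 * gY - 2 < 2 * g - 2 →
        ¬ (2 * (g - 1) ∣ d * (2 * gY - 2 + k) - k * (g - 1)) := by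
  constructor
  · intro hgcd gY k h1 h2 h3 h4 hdvd
    have hcop : IsCoprime (2 * g - 2) (d - g + 1) := by
      rw [Int.isCoprime_iff_gcd_eq_one, Int.gcd_comm]; exact hgcd
    have e : d * (2 * gY - 2 + k) - k * (g - 1) =
        (d - g + 1) * (2 * gY - 2 + k) + (2 * g - 2) * (gY - 1) := by ring
    have h5 : (2 * g - 2) ∣ (d - g + 1) * (2 * gY - 2 + k) := by
      have h6 : (2 * g - 2) ∣ d * (2 * gY - 2 + k) - k * (g - 1) := by
        have : 2 * (g - 1) = 2 * g - 2 := by ring
        rwa [this] at hdvd
      rw [e] at h6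
      exact (Int.dvd_add_left (Dvd.intro _ rfl)).mp h6
    have h7 : (2 * g - 2) ∣ (2 * gY - 2 + k) := hcop.dvd_of_dvd_mul_left h5
    have h8 : 2 * g - 2 ≤ 2 * gY - 2 + k := Int.le_of_dvd (by linarith) h7
    linarith
  · intro h
    by_contra hne
    set c : ℕ := Int.gcd (d - g + 1) (2 * g - 2) with hc
    have hcpos : 0 < c := Int.gcd_pos_of_ne_zero_right _ (by omega)
    have hc2 : 2 ≤ c := by omega
    obtain ⟨a, ha⟩ : (c : ℤ) ∣ d - g + 1 := Int.gcd_dvd_left _ _
    obtain ⟨t, ht⟩ : (c : ℤ) ∣ 2 * g - 2 := Int.gcd_dvd_right _ _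
    have hc2' : (2 : ℤ) ≤ c := by exact_mod_cast hc2
    have ht1 : 1 ≤ t := by
      by_contra hcon
      push Not at hcon
      have : t ≤ 0 := by omega
      have : (c : ℤ) * t ≤ 0 := by nlinarith
      omega
    have ht2 : t < 2 * g - 2 := by
      rw [ht]; nlinarith
    apply h 1 t (by norm_num) (by linarith) ht1 (by linarith)
    refine ⟨a, ?_⟩
    have e1 : d = c * a + g - 1 := by linarith
    have e2 : 2 * (g - 1) = c * t := by linarith
    rw [e2, e1]
    ring

end Groth.Agent.S17176
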