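import Groth.Statements.S17242
import Mathlib

set_option autoImplicit false
open W4c4effdivwronsk2

namespace Groth.Agent.S17242

section Aux
open Polynomial

theorem aux_logder {k : Type*} [Field k] {ι : Type*} [DecidableEq ι] (s : Finset ι) (r : ι → k)
    (a : ι → ℕ) :
    (∏ j ∈ s, (X - C (r j)) ^ a j) ∣
      derivative (∏ j ∈ s, (X - C (r j)) ^ a j) * ∏ j ∈ s, (X - C (r j)) := by
  induction s using Finset.induction_on with
  | empty => simp
  | insert l s hl ih =>
    rw [Finset.prod_insert hl, Finset.prod_insert hl, derivative_mul]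
    obtain ⟨T, hT⟩ := ih
    have hb : derivative ((X - C (r l)) ^ a l) * (X - C (r l)) =
        C (a l : k) * (X - C (r l)) ^ a l := by
      rcases Nat.eq_zero_or_pos (a l) with h0 | hpos
      · rw [h0]; simp
      · obtain ⟨n, hn⟩ : ∃ n, a l = n + 1 := ⟨a l - 1, by omega⟩
        rw [hn, derivative_X_sub_C_pow, Nat.add_sub_cancel]; ring
    refine ⟨C (a l : k) * ∏ j ∈ s, (X - C (r j)) + (X - C (r l)) * T, ?_⟩
    linear_combination (∏ j ∈ s, (X - C (r j)) ^ a j) * (∏ j ∈ s, (X - C (r j))) * hb +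
      (X - C (r l)) ^ a l * (X - C (r l)) * hT

theorem aux_keyA {k : Type*} [Field k] [CharZero k] (Q T E : k[X]) (q : k) (N : ℕ)
    (hET : derivative E * Q = E * T) (hEq : E.eval q ≠ 0) (hQq : Q.eval q ≠ 0)
    (hEdeg : E.natDegree ≤ N) (P : k[X]) (hP : P.natDegree ≤ N)
    (hdiv : (X - C q) ^ N ∣ derivative P * Q - P * T) :
    derivative P * Q - P * T = 0 := by
  obtain ⟨c, hc⟩ : ∃ c : k, c = P.eval q / E.eval q := ⟨_, rfl⟩
  obtain ⟨P₁, hP₁⟩ : ∃ P₁ : k[X], P₁ = P - C c * E := ⟨_, rfl⟩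
  have hL : derivative P₁ * Q - P₁ * T = derivative P * Q - P * T := by
    rw [hP₁, derivative_sub, derivative_C_mul]
    linear_combination (-C c) * hET
  rw [← hL] at hdiv ⊢
  by_cases h0 : P₁ = 0
  · rw [h0]; simp
  exfalso
  have hroot : P₁.IsRoot q := by
    have hcE : c * E.eval q = P.eval q := by rw [hc]; field_simp
    rw [IsRoot.def, hP₁, eval_sub, eval_mul, eval_C, hcE, sub_self]
  obtain ⟨W, hW, hWnd⟩ := exists_eq_pow_rootMultiplicity_mul_and_not_dvd P₁ h0 q
  have hspos : 0 < P₁.rootMultiplicity q := (rootMultiplicity_pos h0).mpr hroot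
  obtain ⟨s', hs'⟩ : ∃ s', P₁.rootMultiplicity q = s' + 1 :=
    ⟨P₁.rootMultiplicity q - 1, by omega⟩
  rw [hs'] at hW
  have hdegP1 : P₁.natDegree ≤ N := by
    rw [hP₁]
    exact (natDegree_sub_le _ _).trans (max_le hP ((natDegree_C_mul_le _ _).trans hEdeg))
  have hsN : s' + 1 ≤ N := by
    have h1 : (X - C q) ^ (s' + 1) ∣ P₁ := ⟨W, hW⟩
    have h2 := natDegree_le_of_dvd h1 h0
    rw [natDegree_pow, natDegree_X_sub_C, mul_one] at h2
    exact h2.trans hdegP1
  have hB : derivative P₁ * Q - P₁ * T =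
      (X - C q) ^ s' * (C (((s' + 1 : ℕ) : k)) * W * Q +
        (X - C q) * (derivative W * Q - W * T)) := by
    rw [hW, derivative_mul, derivative_X_sub_C_pow, Nat.add_sub_cancel]
    ring
  rw [hB] at hdiv
  have h3 : (X - C q) ^ s' * (X - C q) ∣ (X - C q) ^ s' * (C (((s' + 1 : ℕ) : k)) * W * Q +
        (X - C q) * (derivative W * Q - W * T)) := by
    refine dvd_trans ?_ hdiv
    rw [← pow_succ]
    exact pow_dvd_pow _ hsN
  have hne : (X - C q : k[X]) ^ s' ≠ 0 := pow_ne_zero _ (X_sub_C_ne_zero q)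
  have h4 := (mul_dvd_mul_iff_left hne).mp h3
  rw [dvd_iff_isRoot, IsRoot.def] at h4
  simp only [eval_add, eval_mul, eval_sub, eval_X, eval_C, sub_self, zero_mul, add_zero] at h4
  have hWq : W.eval q ≠ 0 := fun h => hWnd (dvd_iff_isRoot.mpr h)
  have hs0 : (((s' + 1 : ℕ) : k)) ≠ 0 := Nat.cast_ne_zero.mpr (Nat.succ_ne_zero s')
  exact mul_ne_zero (mul_ne_zero hs0 hWq) hQq h4

theorem aux_gen1 {k : Type*} [Field k] [CharZero k] (E Q T D : k[X]) (s : ℕ)
    (hD : D = E * Q) (hET : derivative E * Q = E * T) :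
    derivative (E * (C ((((s + 1 : ℕ) : k))⁻¹) * X ^ (s + 1))) * Q -
      (E * (C ((((s + 1 : ℕ) : k))⁻¹) * X ^ (s + 1))) * T = D * X ^ s := by
  have hne : (((s + 1 : ℕ) : k)) ≠ 0 := Nat.cast_ne_zero.mpr (Nat.succ_ne_zero s)
  have hU : derivative (C ((((s + 1 : ℕ) : k))⁻¹) * X ^ (s + 1) : k[X]) = X ^ s := by
    rw [derivative_C_mul, derivative_X_pow, Nat.add_sub_cancel, ← mul_assoc, ← C_mul,
      inv_mul_cancel₀ hne, C_1, one_mul]
  rw [derivative_mul, hU, hD]
  linear_combination (C ((((s + 1 : ℕ) : k))⁻¹) * X ^ (s + 1)) * hET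

theorem aux_gen2 {k : Type*} [Field k] [CharZero k] (Y Ei Qi Di E Q T : k[X]) (t e' : ℕ)
    (hEi : E = Y ^ (t + (e' + 1)) * Ei) (hQi : Q = Y * Qi) (hDi : Di = Ei * Qi)
    (hET : derivative E * Q = E * T) (hY' : derivative Y = 1) (hY0 : Y ≠ 0) :
    derivative (C (-(((e' + 1 : ℕ) : k))⁻¹) * (Ei * Y ^ t)) * Q -
      (C (-(((e' + 1 : ℕ) : k))⁻¹) * (Ei * Y ^ t)) * T = Di * Y ^ t := by
  have hne : (((e' + 1 : ℕ) : k)) ≠ 0 := Nat.cast_ne_zero.mpr (Nat.succ_ne_zero e')
  obtain ⟨γ, hγdef⟩ : ∃ γ : k, γ = -(((e' + 1 : ℕ) : k))⁻¹ := ⟨_, rfl⟩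
  rw [← hγdef]
  have hγ : C (((e' + 1 : ℕ) : k)) * C γ = -1 := by
    rw [← C_mul, hγdef, mul_neg, mul_inv_cancel₀ hne, C_neg, C_1]
  have hPE : (C γ * (Ei * Y ^ t)) * Y ^ (e' + 1) = C γ * E := by
    rw [hEi]; ring
  have h1 : derivative (C γ * (Ei * Y ^ t)) * Y ^ (e' + 1) +
      (C γ * (Ei * Y ^ t)) * (C (((e' + 1 : ℕ) : k)) * Y ^ e') = C γ * derivative E := by
    have h := congrArg derivative hPE
    rw [derivative_mul, derivative_pow, hY', Nat.add_sub_cancel, mul_one] at h
    rw [h, derivative_C_mul]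
  apply mul_right_cancel₀ (pow_ne_zero (e' + 1) hY0)
  linear_combination Q * h1 + C γ * hET - T * hPE
    - (C (((e' + 1 : ℕ) : k)) * Y ^ e' * C γ * Ei * Y ^ t) * hQi
    - (Y ^ e' * Ei * Y ^ t * Y * Qi) * hγ - (Y ^ t * Y ^ e' * Y) * hDi

end Aux

open Polynomial in
/-- Let `k` be a field of characteristic zero and take, on the projective line over `k`, the point `∞`
and `m` further distinct points `r_1, …, r_m` of the affine line, with positive integers `b` (at
`∞`) and `a_1, …, a_m`; put `N = b + ∑ a_j`. The sum of the spaces of differentials with a single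
pole, of order at most `b + 1` at `∞`, resp. at most `a_j + 1` at `r_j`, `V = H⁰(ω((b+1)∞)) + ∑_j
H⁰(ω((a_j+1)r_j)) ⊆ H⁰(ω((b+1)∞ + ∑_j (a_j+1)r_j)) ≅ H⁰(O(d))`, `d = b - 1 + ∑ (a_j+1)`, becomes,
after multiplying by `dX⁻¹ ∏_j (X - r_j)^(a_j+1)`, the subspace of `k[X]_{≤ d}` spanned by
`D·k[X]_{<b}` and the `D_i·k[X]_{<a_i}`, where `D = ∏_j (X - r_j)^(a_j+1)` and `D_i` omits the
`i`-th factor; a member `h` vanishes to order `n` at a point `q` of the affine line when `(X - q)^n
∣ h`, and to order `d - deg h` at `∞`. Then `V` (of dimension `N`) has no ramification point off the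
marked points: at every point `q` of the affine line other than the `r_j` the vanishing orders are
`0, 1, …, N - 1`, i.e. no nonzero member of `V` is divisible by `(X - q)^N`. (The published
statement is over the complex numbers, where every unmarked point is such a `q` once one marked
point is placed at `∞`.) -/
theorem result
    (k : Type*) [Field k] [CharZero k] (m : ℕ) (r : Fin m → k) (hr : Function.Injective r)
    (a : Fin m → ℕ) (ha : ∀ j, 1 ≤ a j) (b : ℕ) (hb : 1 ≤ b) (N d : ℕ)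
    (hN : N = (∑ j, a j) + b) (hd : d + 1 = (∑ j, (a j + 1)) + b)
    (V : Submodule k (Polynomial k))
    (hV : V = (Polynomial.degreeLT k b).map (LinearMap.mulLeft k (∏ j, (X - C (r j)) ^ (a j + 1))) ⊔
      ⨆ i, (Polynomial.degreeLT k (a i)).map
        (LinearMap.mulLeft k (∏ j ∈ Finset.univ.erase i, (X - C (r j)) ^ (a j + 1))))
    (q : k) (hq : ∀ j, q ≠ r j) :
    V ⊓ (Ideal.span {(X - C q) ^ N}).restrictScalars k = ⊥ := by
  classical
  obtain ⟨T, hET⟩ := aux_logder (Finset.univ : Finset (Fin m)) r a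
  have hD : (∏ j, (X - C (r j)) ^ (a j + 1)) =
      (∏ j, (X - C (r j)) ^ a j) * ∏ j, (X - C (r j)) := by
    rw [← Finset.prod_mul_distrib]
    exact Finset.prod_congr rfl fun j _ => pow_succ _ _
  have hEq : (∏ j, (X - C (r j)) ^ a j).eval q ≠ 0 := by
    rw [eval_prod]
    refine Finset.prod_ne_zero_iff.mpr fun j _ => ?_
    rw [eval_pow, eval_sub, eval_X, eval_C]
    exact pow_ne_zero _ (sub_ne_zero.mpr (hq j))
  have hQq : (∏ j, (X - C (r j))).eval q ≠ 0 := by
    rw [eval_prod]
    refine Finset.prod_ne_zero_iff.mpr fun j _ => ?_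
    rw [eval_sub, eval_X, eval_C]
    exact sub_ne_zero.mpr (hq j)
  have hEdeg' : ∀ s : Finset (Fin m),
      (∏ j ∈ s, (X - C (r j)) ^ a j).natDegree ≤ ∑ j ∈ s, a j := by
    intro s
    refine (natDegree_prod_le _ _).trans (Finset.sum_le_sum fun j _ => ?_)
    refine natDegree_pow_le.trans ?_
    rw [natDegree_X_sub_C, mul_one]
  have hEdeg : (∏ j, (X - C (r j)) ^ a j).natDegree ≤ N := by
    rw [hN]
    exact (hEdeg' Finset.univ).trans (Nat.le_add_right _ _)
  obtain ⟨L, hL⟩ : ∃ L : k[X] →ₗ[k] k[X], ∀ P, L P =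
      derivative P * (∏ j, (X - C (r j))) - P * T :=
    ⟨(LinearMap.mulRight k (∏ j, (X - C (r j)))).comp derivative - LinearMap.mulRight k T,
      fun P => by simp⟩
  have hVW : V ≤ (degreeLT k (N + 1)).map L := by
    rw [hV]
    refine sup_le ?_ (iSup_le fun i => ?_)
    · rw [degreeLT_eq_span_X_pow, Submodule.map_span, Submodule.span_le]
      rintro _ ⟨x, hx, rfl⟩
      rw [Finset.mem_coe, Finset.mem_image] at hx
      obtain ⟨s, hs, rfl⟩ := hx
      rw [Finset.mem_range] at hs
      refine Submodule.mem_map.mpr ⟨(∏ j, (X - C (r j)) ^ a j) *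
        (C ((((s + 1 : ℕ) : k))⁻¹) * X ^ (s + 1)), ?_, ?_⟩
      · rw [mem_degreeLT]
        have hdeg : ((∏ j, (X - C (r j)) ^ a j) *
            (C ((((s + 1 : ℕ) : k))⁻¹) * X ^ (s + 1))).natDegree ≤ N := by
          refine natDegree_mul_le.trans ?_
          have h1 := hEdeg' Finset.univ
          have h2 := natDegree_C_mul_X_pow_le ((((s + 1 : ℕ) : k))⁻¹) (s + 1)
          omega
        exact lt_of_le_of_lt (degree_le_of_natDegree_le hdeg)
          (by exact_mod_cast Nat.lt_succ_self N)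
      · rw [hL, LinearMap.mulLeft_apply]
        exact aux_gen1 _ _ T _ s hD hET
    · rw [Submodule.map_le_iff_le_comap]
      intro u hu
      rw [Submodule.mem_comap, LinearMap.mulLeft_apply]
      rw [mem_degreeLT] at hu
      have hsum := sum_taylor_eq u (r i)
      rw [← hsum, sum_def, Finset.mul_sum]
      refine Submodule.sum_mem _ fun t ht => ?_
      have htlt : t < a i := by
        have h1 : t ≤ (taylor (r i) u).natDegree := le_natDegree_of_mem_supp t ht
        rw [natDegree_taylor] at h1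
        have hu0 : u ≠ 0 := by
          rintro rfl
          simp at ht
        rw [degree_eq_natDegree hu0] at hu
        have h2 : u.natDegree < a i := by exact_mod_cast hu
        omega
      have hsm : (∏ j ∈ Finset.univ.erase i, (X - C (r j)) ^ (a j + 1)) *
          (C ((taylor (r i) u).coeff t) * (X - C (r i)) ^ t) =
          ((taylor (r i) u).coeff t) •
            ((∏ j ∈ Finset.univ.erase i, (X - C (r j)) ^ (a j + 1)) * (X - C (r i)) ^ t) := by
        rw [smul_eq_C_mul]; ring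
      rw [hsm]
      refine Submodule.smul_mem _ _ ?_
      obtain ⟨e', he'⟩ : ∃ e', a i = t + (e' + 1) := ⟨a i - t - 1, by omega⟩
      refine Submodule.mem_map.mpr ⟨C (-(((e' + 1 : ℕ) : k))⁻¹) *
        ((∏ j ∈ Finset.univ.erase i, (X - C (r j)) ^ a j) * (X - C (r i)) ^ t), ?_, ?_⟩
      · rw [mem_degreeLT]
        have hdeg : (C (-(((e' + 1 : ℕ) : k))⁻¹) *
            ((∏ j ∈ Finset.univ.erase i, (X - C (r j)) ^ a j) *
              (X - C (r i)) ^ t)).natDegree ≤ N := by
          refine (natDegree_C_mul_le _ _).trans (natDegree_mul_le.trans ?_)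
          have h1 := hEdeg' (Finset.univ.erase i)
          have h2 : ((X - C (r i)) ^ t).natDegree ≤ t := by
            refine natDegree_pow_le.trans ?_
            rw [natDegree_X_sub_C, mul_one]
          have h3 : a i + ∑ j ∈ Finset.univ.erase i, a j = ∑ j, a j :=
            Finset.add_sum_erase Finset.univ a (Finset.mem_univ i)
          omega
        exact lt_of_le_of_lt (degree_le_of_natDegree_le hdeg)
          (by exact_mod_cast Nat.lt_succ_self N)
      · rw [hL]
        refine aux_gen2 (X - C (r i)) _ (∏ j ∈ Finset.univ.erase i, (X - C (r j))) _ _ _ T t e'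
          ?_ ?_ ?_ hET ?_ (X_sub_C_ne_zero _)
        · rw [← he']
          exact (Finset.mul_prod_erase Finset.univ (fun j => (X - C (r j)) ^ a j)
            (Finset.mem_univ i)).symm
        · exact (Finset.mul_prod_erase Finset.univ (fun j => (X - C (r j)))
            (Finset.mem_univ i)).symm
        · rw [← Finset.prod_mul_distrib]
          exact Finset.prod_congr rfl fun j _ => pow_succ _ _
        · rw [derivative_sub, derivative_X, derivative_C, sub_zero]
  rw [eq_bot_iff]
  rintro h ⟨hhV, hhq⟩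
  obtain ⟨P, hPdeg, hLP⟩ := Submodule.mem_map.mp (hVW hhV)
  have hPN : P.natDegree ≤ N := by
    rw [mem_degreeLT] at hPdeg
    by_cases hP0 : P = 0
    · rw [hP0, natDegree_zero]; exact Nat.zero_le _
    · rw [degree_eq_natDegree hP0] at hPdeg
      exact Nat.lt_succ_iff.mp (by exact_mod_cast hPdeg)
  have hdvd : (X - C q) ^ N ∣ h := by
    have h1 := hhq
    simp only [SetLike.mem_coe, Submodule.restrictScalars_mem, Ideal.mem_span_singleton] at h1
    exact h1
  rw [← hLP, hL] at hdvd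
  have h0 := aux_keyA _ T _ q N hET hEq hQq hEdeg P hPN hdvd
  rw [Submodule.mem_bot, ← hLP, hL]
  exact h0

end Groth.Agent.S17242
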