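import Groth.Statements.S17247
import Mathlib
import Groth.Agent.Lib.lead.FF15
-- import your own Groth.Agent.* helpers here

set_option autoImplicit false
open FunFld

namespace Groth.Agent.S17247
open FunFld Groth.Agent.Lib.lead.FF Groth.Agent.Lib.lead.FF2 Groth.Agent.Lib.lead.FF4 Groth.Agent.Lib.lead.FF5 Groth.Agent.Lib.lead.FF6 Groth.Agent.Lib.lead.FF7 Groth.Agent.Lib.lead.FF8 Groth.Agent.Lib.lead.FF9 Groth.Agent.Lib.lead.FF10 Groth.Agent.Lib.lead.FF11 Groth.Agent.Lib.lead.FF12 Groth.Agent.Lib.lead.FF13 Groth.Agent.Lib.lead.FF14 Groth.Agent.Lib.lead.FF15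


/-- Let `K/k` be a function field of one variable of genus one over an algebraically closed field `k` of
characteristic zero (an elliptic curve `E`), `A` a place, and `g ≥ 3` an odd integer. Inside
`H⁰(O_E((2g-2)A)) = L((2g-2)A)` consider `V = L(gA)` (dimension `g`) and any hyperplane `V₁` of it
containing `L((g-2)A)`: `L((g-2)A) ⊆ V₁ ⊆ L(gA)`, `dim V₁ = g - 1`. Vanishing orders are those of
sections of `O_E((2g-2)A)`: a member `f` vanishes to order at least `n` at a place `Q` when `f ∈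
L((2g-2)A - nQ)`, and the weight of `V₁` at `Q` is `∑_{n=1}^{2g-2} dim (V₁ ∩ L((2g-2)A - nQ)) - (g-1
choose 2)` (the sum of the `g - 1` vanishing orders minus `0 + 1 + ⋯ + (g-2)`). Then the weight of
`V₁` at every place `Q ≠ A` is at most `2`. (The published statement is for a smooth elliptic curve
over the complex numbers and allows every odd positive `g`; for `g = 1` the inclusion `O(gA) ⊆
O((2g-2)A)` it uses fails, so `g ≥ 3` here.) -/
theorem result
    (k K : Type*) [Field k] [IsAlgClosed k] [CharZero k] [Field K] [Algebra k K]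
    (hK : FunFld.IsFunctionField k K) (hg1 : FunFld.genus k K = 1)
    (g : ℕ) (hodd : Odd g) (h3 : 3 ≤ g) (A : FunFld.Place k K)
    (V₁ : Submodule k K) (hlo : FunFld.L (Finsupp.single A ((g : ℤ) - 2)) ≤ V₁)
    (hhi : V₁ ≤ FunFld.L (Finsupp.single A (g : ℤ))) (hdim : Module.finrank k ↥V₁ + 1 = g)
    (Q : FunFld.Place k K) (hQ : Q ≠ A) :
    (∑ n ∈ Finset.range (2 * g - 2), Module.finrank k
        ↥(V₁ ⊓ FunFld.L (Finsupp.single A (2 * (g : ℤ) - 2) - Finsupp.single Q ((n : ℤ) + 1)))) ≤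
      (g - 1).choose 2 + 2 := by
  classical
  obtain ⟨m0, hm0⟩ := hodd
  obtain ⟨M, rfl⟩ : ∃ M, g = M + 3 := ⟨g - 3, by omega⟩
  obtain ⟨m', hM⟩ : ∃ m', M = 2 * m' := ⟨m0 - 1, by omega⟩
  have hdimV : Module.finrank k ↥V₁ = M + 2 := by omega
  haveI : Module.Finite k ↥V₁ := Module.finite_of_finrank_pos (by rw [hdimV]; omega)
  have hdegA := deg_eq_one hK A
  have hdegQ := deg_eq_one hK Q
  have hfin : ∀ D : FunFld.Divisor k K, Module.Finite k ↥(FunFld.L D) := fun D => L_finite hK D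
  have hQA : ∀ z : ℤ, (Finsupp.single Q z : FunFld.Divisor k K) A = 0 := fun z => by
    rw [Finsupp.single_apply, if_neg hQ]
  have ehi : ((M + 3 : ℕ) : ℤ) = (M : ℤ) + 3 := by push_cast; ring
  have elo : ((M + 3 : ℕ) : ℤ) - 2 = (M : ℤ) + 1 := by push_cast; ring
  have eD : 2 * ((M + 3 : ℕ) : ℤ) - 2 = 2 * (M : ℤ) + 4 := by push_cast; ring
  rw [ehi] at hhi
  rw [elo] at hlo
  obtain ⟨E, hE⟩ : ∃ E : ℤ → FunFld.Divisor k K,
      E = fun z => Finsupp.single A ((M : ℤ) + 3) - Finsupp.single Q z := ⟨_, rfl⟩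
  obtain ⟨F, hF⟩ : ∃ F : ℤ → FunFld.Divisor k K,
      F = fun z => Finsupp.single A ((M : ℤ) + 1) - Finsupp.single Q z := ⟨_, rfl⟩
  have hE' : ∀ z, E z = Finsupp.single A ((M : ℤ) + 3) - Finsupp.single Q z := fun z => by rw [hE]
  have hF' : ∀ z, F z = Finsupp.single A ((M : ℤ) + 1) - Finsupp.single Q z := fun z => by rw [hF]
  have hEA : ∀ z, E z A = (M : ℤ) + 3 := fun z => by
    rw [hE', Finsupp.sub_apply, Finsupp.single_eq_same, hQA, sub_zero]
  have hFA : ∀ z, F z A = (M : ℤ) + 1 := fun z => by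
    rw [hF', Finsupp.sub_apply, Finsupp.single_eq_same, hQA, sub_zero]
  have hER : ∀ z (R : FunFld.Place k K), R ≠ A →
      E z R = -(Finsupp.single Q z : FunFld.Divisor k K) R := fun z R hR => by
    rw [hE', Finsupp.sub_apply, Finsupp.single_apply, if_neg (Ne.symm hR), zero_sub]
  have hFR : ∀ z (R : FunFld.Place k K), R ≠ A →
      F z R = -(Finsupp.single Q z : FunFld.Divisor k K) R := fun z R hR => by
    rw [hF', Finsupp.sub_apply, Finsupp.single_apply, if_neg (Ne.symm hR), zero_sub]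
  have hEdeg : ∀ z, (E z).deg = (M : ℤ) + 3 - z := fun z => by
    rw [hE', deg_sub, deg_single, deg_single, hdegA, hdegQ]
    push_cast
    ring
  have hFdeg : ∀ z, (F z).deg = (M : ℤ) + 1 - z := fun z => by
    rw [hF', deg_sub, deg_single, deg_single, hdegA, hdegQ]
    push_cast
    ring
  have hHQ : ∀ n : ℕ, V₁ ⊓ FunFld.L (Finsupp.single A (2 * (M : ℤ) + 4) -
      Finsupp.single Q (n : ℤ)) = V₁ ⊓ FunFld.L (E (n : ℤ)) := by
    intro n
    apply le_antisymm
    · rintro x ⟨hx, hxL⟩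
      refine ⟨hx, (mem_L_iff _ _).2 fun R => ?_⟩
      by_cases hR : R = A
      · rw [hR, hEA]
        have h1 := (mem_L_iff _ _).1 (hhi hx) A
        rw [Finsupp.single_eq_same] at h1
        exact h1
      · rw [hER _ R hR]
        have h1 := (mem_L_iff _ _).1 hxL R
        rw [Finsupp.sub_apply, Finsupp.single_apply, if_neg (Ne.symm hR), zero_sub] at h1
        exact h1
    · refine inf_le_inf_left _ (L_mono ?_)
      intro R
      rw [hE']
      simp only [Finsupp.sub_apply, Finsupp.single_apply]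
      split_ifs <;> omega
  have hellE : ∀ n : ℕ, n ≤ M + 2 → Module.finrank k ↥(FunFld.L (E (n : ℤ))) = M + 3 - n := by
    intro n hn
    have hn' : (n : ℤ) ≤ M + 2 := by exact_mod_cast hn
    have h := ell_eq_of_deg_ge hK (E (n : ℤ)) (by rw [hg1, hEdeg]; push_cast; linarith)
    rw [hg1, hEdeg] at h
    have h' : (FunFld.ell (E (n : ℤ)) : ℤ) = (M : ℤ) + 3 - n := by rw [h]; push_cast; ring
    have h'' : (Module.finrank k ↥(FunFld.L (E (n : ℤ))) : ℤ) = (M : ℤ) + 3 - n := h'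
    omega
  have hellF : ∀ n : ℕ, n ≤ M → Module.finrank k ↥(FunFld.L (F (n : ℤ))) = M + 1 - n := by
    intro n hn
    have hn' : (n : ℤ) ≤ M := by exact_mod_cast hn
    have h := ell_eq_of_deg_ge hK (F (n : ℤ)) (by rw [hg1, hFdeg]; push_cast; linarith)
    rw [hg1, hFdeg] at h
    have h' : (FunFld.ell (F (n : ℤ)) : ℤ) = (M : ℤ) + 1 - n := by rw [h]; push_cast; ring
    have h'' : (Module.finrank k ↥(FunFld.L (F (n : ℤ))) : ℤ) = (M : ℤ) + 1 - n := h'
    omega
  have hbotE : ∀ n : ℕ, M + 4 ≤ n → FunFld.L (E (n : ℤ)) = ⊥ := by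
    intro n hn
    have hn' : (M : ℤ) + 4 ≤ n := by exact_mod_cast hn
    exact L_eq_bot_of_deg_neg hK _ (by rw [hEdeg]; linarith)
  have hE3 : Module.finrank k ↥(FunFld.L (E ((M + 3 : ℕ) : ℤ))) ≤ 1 := by
    have hle : E ((M + 4 : ℕ) : ℤ) ≤ E ((M + 3 : ℕ) : ℤ) := by
      intro R
      rw [hE', hE']
      simp only [Finsupp.sub_apply, Finsupp.single_apply]
      split_ifs <;> push_cast <;> omega
    obtain ⟨hfinQ, hdim⟩ := L_rel hK hle
    haveI := hfin (E ((M + 3 : ℕ) : ℤ))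
    have h1 := rel_finrank (L_mono hle)
    have hb : Module.finrank k ↥(FunFld.L (E ((M + 4 : ℕ) : ℤ))) = 0 := by
      rw [hbotE (M + 4) le_rfl, finrank_bot]
    rw [hEdeg, hEdeg] at hdim
    have h2 : (Module.finrank k (RelQ (FunFld.L (E ((M + 4 : ℕ) : ℤ)))
        (FunFld.L (E ((M + 3 : ℕ) : ℤ)))) : ℤ) ≤ 1 := by
      push_cast at hdim ⊢
      linarith
    omega
  have hclaim : ∀ n : ℕ, n ≤ M + 1 → FunFld.L (E (n : ℤ)) ≤ V₁ →
      M + 2 ≤ Module.finrank k ↥(FunFld.L (F (n : ℤ))) + n := by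
    intro n hn hle
    have hsup : FunFld.L (E (n : ℤ)) ⊔ FunFld.L (Finsupp.single A ((M : ℤ) + 1)) ≤ V₁ :=
      sup_le hle hlo
    have h1 := Submodule.finrank_mono hsup
    haveI := hfin (E (n : ℤ))
    haveI := hfin (Finsupp.single A ((M : ℤ) + 1))
    have h2 := Submodule.finrank_sup_add_finrank_inf_eq (FunFld.L (E (n : ℤ)))
      (FunFld.L (Finsupp.single A ((M : ℤ) + 1) : FunFld.Divisor k K))
    have h3 : FunFld.L (E (n : ℤ)) ⊓ FunFld.L (Finsupp.single A ((M : ℤ) + 1)) ≤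
        FunFld.L (F (n : ℤ)) := by
      rintro x ⟨hx1, hx2⟩
      refine (mem_L_iff _ _).2 fun R => ?_
      by_cases hR : R = A
      · rw [hR, hFA]
        have h4 := (mem_L_iff _ _).1 hx2 A
        rw [Finsupp.single_eq_same] at h4
        exact h4
      · rw [hFR _ R hR, ← hER _ R hR]
        exact (mem_L_iff _ _).1 hx1 R
    haveI := hfin (F (n : ℤ))
    have h4 := Submodule.finrank_mono h3
    have h5 := hellE n (by omega)
    have h6 : Module.finrank k ↥(FunFld.L (Finsupp.single A ((M : ℤ) + 1) :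
        FunFld.Divisor k K)) = M + 1 := by
      have h7 := ell_single_genus_one hK hg1 hdegA ((M : ℤ) + 1)
        (by linarith [show (0 : ℤ) ≤ M from by positivity])
      exact_mod_cast h7
    omega
  have hB0 : ∀ n : ℕ, Module.finrank k ↥(V₁ ⊓ FunFld.L (E (n : ℤ))) ≤
      Module.finrank k ↥(FunFld.L (E (n : ℤ))) := fun n => by
    haveI := hfin (E (n : ℤ))
    exact Submodule.finrank_mono inf_le_right
  have hfull : ∀ n : ℕ, Module.finrank k ↥(V₁ ⊓ FunFld.L (E (n : ℤ))) =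
      Module.finrank k ↥(FunFld.L (E (n : ℤ))) → FunFld.L (E (n : ℤ)) ≤ V₁ := by
    intro n h
    haveI := hfin (E (n : ℤ))
    have h1 := Submodule.eq_of_le_of_finrank_eq
      (inf_le_right : V₁ ⊓ FunFld.L (E (n : ℤ)) ≤ FunFld.L (E (n : ℤ))) h
    exact inf_eq_right.1 h1
  obtain ⟨HQ, hHQdef⟩ : ∃ HQ : ℕ → ℕ,
      ∀ n : ℕ, HQ n = Module.finrank k ↥(V₁ ⊓ FunFld.L (E (n : ℤ))) := ⟨_, fun n => rfl⟩
  have hB1 : ∀ n : ℕ, 1 ≤ n → n ≤ M → HQ n ≤ M + 2 - n := by
    intro n h1 h2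
    rw [hHQdef]
    have h3 := hB0 n
    have h4 := hellE n (by omega)
    by_contra hcon
    have h5 : Module.finrank k ↥(V₁ ⊓ FunFld.L (E (n : ℤ))) =
        Module.finrank k ↥(FunFld.L (E (n : ℤ))) := by omega
    have h6 := hclaim n (by omega) (hfull n h5)
    have h7 := hellF n h2
    omega
  have hB2a : HQ (M + 2) ≤ 1 := by
    rw [hHQdef]
    have h3 := hB0 (M + 2)
    have h4 := hellE (M + 2) le_rfl
    omega
  have hB2b : ∀ n : ℕ, M + 4 ≤ n → HQ n = 0 := by
    intro n hn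
    rw [hHQdef, hbotE n hn, inf_bot_eq, finrank_bot]
  have hB3 : HQ (M + 1) + HQ (M + 3) ≤ 2 := by
    rw [hHQdef, hHQdef]
    by_contra hcon
    have ha := hB0 (M + 1)
    have hb := hB0 (M + 3)
    have hc := hellE (M + 1) (by omega)
    have h5 : Module.finrank k ↥(V₁ ⊓ FunFld.L (E ((M + 1 : ℕ) : ℤ))) =
        Module.finrank k ↥(FunFld.L (E ((M + 1 : ℕ) : ℤ))) := by omega
    have h6 := hclaim (M + 1) le_rfl (hfull _ h5)
    have hFpos : 0 < Module.finrank k ↥(FunFld.L (F ((M + 1 : ℕ) : ℤ))) := by omega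
    haveI := hfin (F ((M + 1 : ℕ) : ℤ))
    obtain ⟨h₂, hh₂⟩ := (Module.finrank_pos_iff_exists_ne_zero (R := k)
      (M := ↥(FunFld.L (F ((M + 1 : ℕ) : ℤ))))).1 hFpos
    have hEpos : 0 < Module.finrank k ↥(V₁ ⊓ FunFld.L (E ((M + 3 : ℕ) : ℤ))) := by omega
    haveI : Module.Finite k ↥(V₁ ⊓ FunFld.L (E ((M + 3 : ℕ) : ℤ))) :=
      Submodule.finiteDimensional_of_le inf_le_left
    obtain ⟨h₁, hh₁⟩ := (Module.finrank_pos_iff_exists_ne_zero (R := k)
      (M := ↥(V₁ ⊓ FunFld.L (E ((M + 3 : ℕ) : ℤ))))).1 hEpos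
    have h₁0 : (h₁ : K) ≠ 0 := fun h0 => hh₁ (Subtype.ext h0)
    have h₂0 : (h₂ : K) ≠ 0 := fun h0 => hh₂ (Subtype.ext h0)
    have hd1 : FunFld.div k (h₁ : K) = -E ((M + 3 : ℕ) : ℤ) := by
      have hnn := nonneg_add_div hK h₁0 h₁.2.2
      have hz := eq_zero_of_nonneg_of_deg_zero hK hnn
        (by rw [deg_add, deg_div hK, hEdeg]; push_cast; ring)
      exact (neg_eq_of_add_eq_zero_right hz).symm
    have hd2 : FunFld.div k (h₂ : K) = -F ((M + 1 : ℕ) : ℤ) := by
      have hnn := nonneg_add_div hK h₂0 h₂.2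
      have hz := eq_zero_of_nonneg_of_deg_zero hK hnn
        (by rw [deg_add, deg_div hK, hFdeg]; push_cast; ring)
      exact (neg_eq_of_add_eq_zero_right hz).symm
    have hu0 : (h₁ : K) / (h₂ : K) ≠ 0 := div_ne_zero h₁0 h₂0
    have hMz : (M : ℤ) = 2 * (m' : ℤ) := by exact_mod_cast hM
    have hdw : FunFld.div k ((h₂ : K) / ((h₁ : K) / (h₂ : K)) ^ m') =
        Finsupp.single Q 1 - Finsupp.single A 1 := by
      rw [div_div' hK h₂0 (pow_ne_zero _ hu0), div_pow hK, div_div' hK h₁0 h₂0, hd1, hd2, hE', hF']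
      ext R
      simp only [Finsupp.sub_apply, Finsupp.neg_apply, Finsupp.smul_apply, Finsupp.single_apply,
        nsmul_eq_mul]
      split_ifs <;> push_cast <;> linarith
    have hordA : A.ord ((h₂ : K) / ((h₁ : K) / (h₂ : K)) ^ m') = -1 := by
      rw [← div_apply hK, hdw, Finsupp.sub_apply, hQA, Finsupp.single_eq_same]
      norm_num
    have hothers : ∀ R : FunFld.Place k K, R ≠ A →
        0 ≤ R.ord ((h₂ : K) / ((h₁ : K) / (h₂ : K)) ^ m') := by
      intro R hR
      rw [← div_apply hK, hdw, Finsupp.sub_apply, Finsupp.single_apply, Finsupp.single_apply,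
        if_neg (Ne.symm hR)]
      split_ifs <;> norm_num
    have h2 := (genus_zero_iff_rational hK).2
      ((pole_iff_rational hK).1 ⟨_, A, hdegA, hordA, hothers⟩)
    have h3 := h2.1
    omega
  have hterm : ∀ n ∈ Finset.range (2 * (M + 3) - 2),
      Module.finrank k ↥(V₁ ⊓ FunFld.L (Finsupp.single A (2 * ((M + 3 : ℕ) : ℤ) - 2) -
        Finsupp.single Q ((n : ℤ) + 1))) = HQ (n + 1) := by
    intro n _
    rw [hHQdef, eD, ← Nat.cast_succ, hHQ (n + 1)]
  rw [Finset.sum_congr rfl hterm]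
  have e2 : 2 * (M + 3) - 2 = M + (3 + (M + 1)) := by omega
  rw [e2, Finset.sum_range_add, Finset.sum_range_add]
  have hS1 : ∑ n ∈ Finset.range M, HQ (n + 1) ≤ ∑ n ∈ Finset.range M, (M + 1 - n) := by
    refine Finset.sum_le_sum (fun n hn => ?_)
    rw [Finset.mem_range] at hn
    have h := hB1 (n + 1) (by omega) (by omega)
    omega
  have hS2 : ∑ x ∈ Finset.range 3, HQ (M + x + 1) = HQ (M + 1) + HQ (M + 2) + HQ (M + 3) := by
    rw [Finset.sum_range_succ, Finset.sum_range_succ, Finset.sum_range_succ, Finset.sum_range_zero,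
      zero_add]
  have hS3 : ∑ x ∈ Finset.range (M + 1), HQ (M + (3 + x) + 1) = 0 := by
    refine Finset.sum_eq_zero (fun x _ => ?_)
    exact hB2b _ (by omega)
  have hT1 : ∑ n ∈ Finset.range M, (M + 1 - n) + 1 = ∑ j ∈ Finset.range (M + 1), (j + 1) := by
    rw [← Finset.sum_range_reflect (fun j => j + 1) (M + 1), Finset.sum_range_succ]
    congr 1
    · refine Finset.sum_congr rfl (fun n hn => ?_)
      rw [Finset.mem_range] at hn
      show M + 1 - n = M + 1 - 1 - n + 1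
      omega
    · show 1 = M + 1 - 1 - M + 1
      omega
  have hT := two_mul_sum_succ (M + 1)
  have hch : (M + 2).choose 2 = ∑ j ∈ Finset.range (M + 1), (j + 1) := by
    rw [Nat.choose_two_right]
    have e : (M + 2) * (M + 2 - 1) = 2 * ∑ j ∈ Finset.range (M + 1), (j + 1) := by
      rw [hT]
      have e' : M + 2 - 1 = M + 1 := by omega
      rw [e']
      ring
    rw [e]
    exact Nat.mul_div_cancel_left _ (by norm_num)
  have e3 : M + 3 - 1 = M + 2 := by omega
  rw [e3, hch, hS2, hS3]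
  omega

end Groth.Agent.S17247
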