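import Groth.Statements.S17248
import Mathlib
import Groth.Agent.Lib.lead.FF15
-- import your own Groth.Agent.* helpers here

set_option autoImplicit false
open FunFld

namespace Groth.Agent.S17248
open FunFld Groth.Agent.Lib.lead.FF Groth.Agent.Lib.lead.FF2 Groth.Agent.Lib.lead.FF4 Groth.Agent.Lib.lead.FF5 Groth.Agent.Lib.lead.FF6 Groth.Agent.Lib.lead.FF7 Groth.Agent.Lib.lead.FF8 Groth.Agent.Lib.lead.FF9 Groth.Agent.Lib.lead.FF10 Groth.Agent.Lib.lead.FF11 Groth.Agent.Lib.lead.FF12 Groth.Agent.Lib.lead.FF13 Groth.Agent.Lib.lead.FF14 Groth.Agent.Lib.lead.FF15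


/-- Let `K/k` be a function field of one variable of genus one over an algebraically closed field `k` of
characteristic zero (an elliptic curve `E`), `A` a place, and `g ≥ 3` an integer. Inside
`H⁰(O_E((2g-2)A)) = L((2g-2)A)` consider `V = L(gA)` (dimension `g`) and any hyperplane `V₁` of it
containing `L((g-2)A)`: `L((g-2)A) ⊆ V₁ ⊆ L(gA)`, `dim V₁ = g - 1`. Vanishing orders are those of
sections of `O_E((2g-2)A)`: a member `f` vanishes to order at least `n` at a place `Q` when `f ∈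
L((2g-2)A - nQ)`, and the weight of `V₁` at `Q` is `∑_{n=1}^{2g-2} dim (V₁ ∩ L((2g-2)A - nQ)) - (g-1
choose 2)` (the sum of the `g - 1` vanishing orders minus `0 + 1 + ⋯ + (g-2)`). Then the weight of
`V₁` at `A` is `(g-1)² + ε` with `ε ∈ {0, 1}`. (The published statement is for a smooth elliptic
curve over the complex numbers and `g` odd positive; `g ≥ 3` here since the ambient inclusion needs
it; this row does not assume `g` odd.) -/
theorem result
    (k K : Type*) [Field k] [IsAlgClosed k] [CharZero k] [Field K] [Algebra k K]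
    (hK : FunFld.IsFunctionField k K) (hg1 : FunFld.genus k K = 1)
    (g : ℕ) (h3 : 3 ≤ g) (A : FunFld.Place k K)
    (V₁ : Submodule k K) (hlo : FunFld.L (Finsupp.single A ((g : ℤ) - 2)) ≤ V₁)
    (hhi : V₁ ≤ FunFld.L (Finsupp.single A (g : ℤ))) (hdim : Module.finrank k ↥V₁ + 1 = g) :
    ∃ ε : ℕ, ε ≤ 1 ∧
      (∑ n ∈ Finset.range (2 * g - 2), Module.finrank k
        ↥(V₁ ⊓ FunFld.L (Finsupp.single A (2 * (g : ℤ) - 2) - Finsupp.single A ((n : ℤ) + 1)))) =
      (g - 1).choose 2 + (g - 1) ^ 2 + ε := by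
  classical
  obtain ⟨G, rfl⟩ : ∃ G, g = G + 2 := ⟨g - 2, by omega⟩
  have hG : 1 ≤ G := by omega
  have hdimV : Module.finrank k ↥V₁ = G + 1 := by omega
  haveI : Module.Finite k ↥V₁ := Module.finite_of_finrank_pos (by rw [hdimV]; omega)
  have hdeg1 := deg_eq_one hK A
  obtain ⟨H, hH⟩ : ∃ H : ℕ → ℕ,
      H = fun m : ℕ => Module.finrank k ↥(V₁ ⊓ FunFld.L (Finsupp.single A (m : ℤ))) := ⟨_, rfl⟩
  have hH' : ∀ m, H m = Module.finrank k ↥(V₁ ⊓ FunFld.L (Finsupp.single A (m : ℤ))) :=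
    fun m => by rw [hH]
  have hmono : ∀ {a b : ℤ}, a ≤ b →
      (Finsupp.single A a : FunFld.Divisor k K) ≤ Finsupp.single A b := by
    intro a b hab R
    simp only [Finsupp.single_apply]
    split_ifs <;> omega
  have hlo' : FunFld.L (Finsupp.single A ((G : ℕ) : ℤ)) ≤ V₁ := by
    have e : (((G + 2 : ℕ) : ℤ) - 2) = ((G : ℕ) : ℤ) := by push_cast; ring
    rw [e] at hlo
    exact hlo
  have hHi : ∀ m : ℕ, G + 2 ≤ m → H m = G + 1 := by
    intro m hm
    rw [hH', inf_eq_left.2 (hhi.trans (L_mono (hmono (by exact_mod_cast hm)))), hdimV]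
  have hLo : ∀ m : ℕ, 1 ≤ m → m ≤ G → H m = m := by
    intro m h1 h2
    rw [hH', inf_eq_right.2 ((L_mono (hmono (by exact_mod_cast h2))).trans hlo')]
    have h3 := ell_single_genus_one hK hg1 hdeg1 (m : ℤ) (by exact_mod_cast h1)
    exact_mod_cast h3
  have h0le : (0 : FunFld.Divisor k K) ≤ Finsupp.single A ((G : ℕ) : ℤ) := by
    intro R
    rw [Finsupp.zero_apply, Finsupp.single_apply]
    split_ifs <;> omega
  have hH0 : H 0 = 1 := by
    rw [hH', Nat.cast_zero, Finsupp.single_zero, inf_eq_right.2 ((L_mono h0le).trans hlo')]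
    exact ell_zero hK
  have hX : G ≤ H (G + 1) ∧ H (G + 1) ≤ G + 1 := by
    rw [hH']
    constructor
    · have h1 : FunFld.L (Finsupp.single A ((G : ℕ) : ℤ)) ≤
          V₁ ⊓ FunFld.L (Finsupp.single A ((G + 1 : ℕ) : ℤ)) :=
        le_inf hlo' (L_mono (hmono (by push_cast; linarith)))
      haveI : Module.Finite k ↥(V₁ ⊓ FunFld.L (Finsupp.single A ((G + 1 : ℕ) : ℤ))) :=
        Submodule.finiteDimensional_of_le inf_le_left
      have h2 := Submodule.finrank_mono h1
      have h3 := ell_single_genus_one hK hg1 hdeg1 (G : ℤ) (by exact_mod_cast hG)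
      have h4 : Module.finrank k ↥(FunFld.L (Finsupp.single A ((G : ℕ) : ℤ) :
          FunFld.Divisor k K)) = G := by exact_mod_cast h3
      omega
    · have h2 := Submodule.finrank_mono
        (inf_le_left : V₁ ⊓ FunFld.L (Finsupp.single A ((G + 1 : ℕ) : ℤ)) ≤ V₁)
      omega
  have hterm : ∀ n ∈ Finset.range (2 * (G + 2) - 2),
      Module.finrank k ↥(V₁ ⊓ FunFld.L (Finsupp.single A (2 * ((G + 2 : ℕ) : ℤ) - 2) -
        Finsupp.single A ((n : ℤ) + 1))) = H (2 * G + 1 - n) := by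
    intro n hn
    rw [Finset.mem_range] at hn
    rw [hH', ← Finsupp.single_sub]
    have e : (2 * ((G + 2 : ℕ) : ℤ) - 2) - ((n : ℤ) + 1) = ((2 * G + 1 - n : ℕ) : ℤ) := by omega
    rw [e]
  rw [Finset.sum_congr rfl hterm]
  have e2 : 2 * (G + 2) - 2 = (G + 1) + (G + 1) := by omega
  rw [e2]
  have hrefl : ∑ n ∈ Finset.range (G + 1 + (G + 1)), H (2 * G + 1 - n) =
      ∑ j ∈ Finset.range (G + 1 + (G + 1)), H j := by
    rw [← Finset.sum_range_reflect H (G + 1 + (G + 1))]
    refine Finset.sum_congr rfl (fun n hn => ?_)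
    rw [Finset.mem_range] at hn
    congr 1
    omega
  have hs1 : ∑ j ∈ Finset.range (G + 1), H j = (∑ j ∈ Finset.range G, (j + 1)) + 1 := by
    rw [Finset.sum_range_succ', hH0]
    congr 1
    refine Finset.sum_congr rfl (fun j hj => ?_)
    rw [Finset.mem_range] at hj
    exact hLo (j + 1) (by omega) (by omega)
  have hs2 : ∑ x ∈ Finset.range (G + 1), H (G + 1 + x) = G * (G + 1) + H (G + 1) := by
    rw [Finset.sum_range_succ']
    have h1 : ∑ x ∈ Finset.range G, H (G + 1 + (x + 1)) = G * (G + 1) := by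
      rw [Finset.sum_congr rfl (fun x _ => hHi (G + 1 + (x + 1)) (by omega)), Finset.sum_const,
        Finset.card_range, smul_eq_mul]
    rw [h1]
  rw [hrefl, Finset.sum_range_add, hs1, hs2]
  have hT := two_mul_sum_succ G
  have hch : (G + 1).choose 2 = ∑ j ∈ Finset.range G, (j + 1) := by
    rw [Nat.choose_two_right, Nat.add_sub_cancel, Nat.mul_comm (G + 1) G, ← hT]
    exact Nat.mul_div_cancel_left _ (by norm_num)
  have e3 : G + 2 - 1 = G + 1 := by omega
  have e4 : (G + 1) ^ 2 = G * (G + 1) + G + 1 := by ring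
  refine ⟨H (G + 1) - G, by omega, ?_⟩
  rw [e3, hch, e4]
  omega

end Groth.Agent.S17248
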