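import Groth.Statements.S17249
import Mathlib
import Groth.Agent.Lib.lead.FF16
-- import your own Groth.Agent.* helpers here

set_option autoImplicit false
open FunFld

namespace Groth.Agent.S17249
open FunFld Groth.Agent.Lib.lead.FF Groth.Agent.Lib.lead.FF2 Groth.Agent.Lib.lead.FF4 Groth.Agent.Lib.lead.FF5 Groth.Agent.Lib.lead.FF6 Groth.Agent.Lib.lead.FF7 Groth.Agent.Lib.lead.FF8 Groth.Agent.Lib.lead.FF9 Groth.Agent.Lib.lead.FF10 Groth.Agent.Lib.lead.FF11 Groth.Agent.Lib.lead.FF12 Groth.Agent.Lib.lead.FF13 Groth.Agent.Lib.lead.FF14 Groth.Agent.Lib.lead.FF15 Groth.Agent.Lib.lead.FF16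


/-- Let `K/k` be a function field of one variable of genus two over an algebraically closed field `k` of
characteristic zero (a smooth curve `X` of genus `2`), `C` a canonical divisor, `A` a place with
`ℓ(2A) = 1` (not a Weierstrass point), and `P`, `Q` places with `Q ≠ A`. Then `ℓ(C + 2A - P - 3Q) =
1` and `ℓ(C + 2A - P - Q) = 2` do not both hold: the two-dimensional complete system `H⁰(ω_X(2A -
P))` (of degree `3`) has no point `Q ≠ A` of weight three. (The published statement concerns a
general pointed curve `(X, A)` of genus two over the complex numbers and a point `P` of `X`; this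
row assumes only `ℓ(2A) = 1`.) -/
theorem result
    (k K : Type*) [Field k] [IsAlgClosed k] [CharZero k] [Field K] [Algebra k K]
    (hK : FunFld.IsFunctionField k K) (hg : FunFld.genus k K = 2)
    (C : FunFld.Divisor k K) (hC : FunFld.IsCanonical k K C)
    (A P Q : FunFld.Place k K) (hA : Module.finrank k ↥(FunFld.L (Finsupp.single A (2 : ℤ))) = 1) (hQ : Q ≠ A) :
    ¬ (Module.finrank k ↥(FunFld.L (C + Finsupp.single A (2 : ℤ) - Finsupp.single P (1 : ℤ) - Finsupp.single Q (3 : ℤ))) = 1 ∧
       Module.finrank k ↥(FunFld.L (C + Finsupp.single A (2 : ℤ) - Finsupp.single P (1 : ℤ) - Finsupp.single Q (1 : ℤ))) = 2) := by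
  classical
  rintro ⟨-, h2⟩
  obtain ⟨hCl, hCd⟩ := canonical_genus_two hK hg hC
  have hd := fun R : FunFld.Place k K => deg_eq_one hK R
  obtain ⟨D, hD⟩ : ∃ D : FunFld.Divisor k K, D = C + Finsupp.single A (2 : ℤ) -
      Finsupp.single P (1 : ℤ) - Finsupp.single Q (1 : ℤ) := ⟨_, rfl⟩
  rw [← hD] at h2
  have hDdeg : D.deg = 2 := by
    rw [hD]
    simp only [deg_sub, deg_add, deg_single, hd, hCd]
    norm_num
  have hrr := riemann_roch hK hC D
  have h2' : ell D = 2 := h2
  rw [h2', hDdeg, hg] at hrr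
  have hpos : 1 ≤ Module.finrank k ↥(FunFld.L (C - D)) := by
    have h3 : 1 ≤ ell (C - D) := by omega
    exact h3
  obtain ⟨z, hz0, hz⟩ := exists_ne_zero_of_finrank_pos hK hpos
  have hdeg0 : FunFld.Divisor.deg (C - D) = 0 := by
    rw [deg_sub, hDdeg, hCd]
    norm_num
  have hdiv := div_of_mem_deg_zero hK hz0 hz hdeg0
  have hzi : z⁻¹ ∈ FunFld.L (Finsupp.single A (2 : ℤ)) := by
    apply mem_L_of_nonneg hK (inv_ne_zero hz0)
    rw [div_inv hK, hdiv, neg_neg, hD]
    intro R
    have h5 := single_apply_nonneg (k := k) (K := K) P R (n := 1) (by norm_num)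
    have h6 := single_apply_nonneg (k := k) (K := K) Q R (n := 1) (by norm_num)
    simp only [Finsupp.add_apply, Finsupp.sub_apply, Finsupp.zero_apply]
    omega
  have h1 := one_mem_L_single hK A (n := 2) (by norm_num)
  have hdz := div_eq_zero_of_finrank_one hK hA.le h1 hzi
  rw [div_inv hK, hdiv, neg_neg] at hdz
  have hQv : (C - D) Q = 0 := by rw [hdz, Finsupp.zero_apply]
  have e1 : (Finsupp.single Q (1 : ℤ) : FunFld.Divisor k K) Q = 1 := Finsupp.single_eq_same
  have e2 : (Finsupp.single A (2 : ℤ) : FunFld.Divisor k K) Q = 0 := by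
    rw [Finsupp.single_apply, if_neg (Ne.symm hQ)]
  have h5 := single_apply_nonneg (k := k) (K := K) P Q (n := 1) (by norm_num)
  rw [hD] at hQv
  simp only [Finsupp.add_apply, Finsupp.sub_apply, e1, e2] at hQv
  omega

end Groth.Agent.S17249
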