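import Groth.Statements.S17250
import Mathlib
import Groth.Agent.Lib.lead.FF16
-- import your own Groth.Agent.* helpers here

set_option autoImplicit false
open FunFld

namespace Groth.Agent.S17250
open FunFld Groth.Agent.Lib.lead.FF Groth.Agent.Lib.lead.FF2 Groth.Agent.Lib.lead.FF4 Groth.Agent.Lib.lead.FF5 Groth.Agent.Lib.lead.FF6 Groth.Agent.Lib.lead.FF7 Groth.Agent.Lib.lead.FF8 Groth.Agent.Lib.lead.FF9 Groth.Agent.Lib.lead.FF10 Groth.Agent.Lib.lead.FF11 Groth.Agent.Lib.lead.FF12 Groth.Agent.Lib.lead.FF13 Groth.Agent.Lib.lead.FF14 Groth.Agent.Lib.lead.FF15 Groth.Agent.Lib.lead.FF16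


/-- Let `K/k` be a function field of one variable of genus two over an algebraically closed field `k` of
characteristic zero (a smooth curve `X` of genus `2`), `C` a canonical divisor, `A` a place with
`ℓ(2A) = 1`, and `P`, `Q` places different from `A`. Then `ℓ(C + 3A - P - 4Q) = 1` and `ℓ(C + 3A - P
- 2Q) = 2` do not both hold (the three-dimensional complete system `H⁰(ω_X(3A - P))`, of degree `4`,
has no point `Q ≠ A` with two independent sections vanishing to order at least `2` there and one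
vanishing to order at least `4`). (The published statement concerns a general pointed curve `(X, A)`
of genus two over the complex numbers and a point `P ≠ A`; this row assumes `ℓ(2A) = 1` in place of
generality.) -/
theorem result
    (k K : Type*) [Field k] [IsAlgClosed k] [CharZero k] [Field K] [Algebra k K]
    (hK : FunFld.IsFunctionField k K) (hg : FunFld.genus k K = 2)
    (C : FunFld.Divisor k K) (hC : FunFld.IsCanonical k K C)
    (A P Q : FunFld.Place k K) (hA : Module.finrank k ↥(FunFld.L (Finsupp.single A (2 : ℤ))) = 1) (hP : P ≠ A) (hQ : Q ≠ A) :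
    ¬ (Module.finrank k ↥(FunFld.L (C + Finsupp.single A (3 : ℤ) - Finsupp.single P (1 : ℤ) - Finsupp.single Q (4 : ℤ))) = 1 ∧
       Module.finrank k ↥(FunFld.L (C + Finsupp.single A (3 : ℤ) - Finsupp.single P (1 : ℤ) - Finsupp.single Q (2 : ℤ))) = 2) := by
  classical
  rintro ⟨h1, h2⟩
  obtain ⟨hCl, hCd⟩ := canonical_genus_two hK hg hC
  have hd := fun R : FunFld.Place k K => deg_eq_one hK R
  obtain ⟨D4, hD4⟩ : ∃ D : FunFld.Divisor k K, D = C + Finsupp.single A (3 : ℤ) -
      Finsupp.single P (1 : ℤ) - Finsupp.single Q (4 : ℤ) := ⟨_, rfl⟩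
  obtain ⟨D2, hD2⟩ : ∃ D : FunFld.Divisor k K, D = C + Finsupp.single A (3 : ℤ) -
      Finsupp.single P (1 : ℤ) - Finsupp.single Q (2 : ℤ) := ⟨_, rfl⟩
  rw [← hD4] at h1
  rw [← hD2] at h2
  have hD4deg : D4.deg = 0 := by
    rw [hD4]
    simp only [deg_sub, deg_add, deg_single, hd, hCd]
    norm_num
  have hD2deg : D2.deg = 2 := by
    rw [hD2]
    simp only [deg_sub, deg_add, deg_single, hd, hCd]
    norm_num
  obtain ⟨f, hf0, hf⟩ := exists_ne_zero_of_finrank_pos hK h1.ge
  have hdivf := div_of_mem_deg_zero hK hf0 hf hD4deg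
  have hrr := riemann_roch hK hC D2
  have h2' : ell D2 = 2 := h2
  rw [h2', hD2deg, hg] at hrr
  have hpos : 1 ≤ Module.finrank k ↥(FunFld.L (C - D2)) := by
    have h3 : 1 ≤ ell (C - D2) := by omega
    exact h3
  obtain ⟨h, hh0, hh⟩ := exists_ne_zero_of_finrank_pos hK hpos
  have hdeg0 : FunFld.Divisor.deg (C - D2) = 0 := by
    rw [deg_sub, hD2deg, hCd]
    norm_num
  have hdivh := div_of_mem_deg_zero hK hh0 hh hdeg0
  have hg0 : f * h * h ≠ 0 := mul_ne_zero (mul_ne_zero hf0 hh0) hh0
  have hdivg : C + FunFld.div k (f * h * h) =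
      Finsupp.single A (3 : ℤ) - Finsupp.single P (1 : ℤ) := by
    rw [Groth.Agent.Lib.lead.FF11.div_mul hK (mul_ne_zero hf0 hh0) hh0,
      Groth.Agent.Lib.lead.FF11.div_mul hK hf0 hh0, hdivf, hdivh, hD4, hD2]
    ext R
    simp only [Finsupp.add_apply, Finsupp.sub_apply, Finsupp.neg_apply, Finsupp.single_apply]
    split_ifs <;> omega
  have hell : ell (Finsupp.single A (3 : ℤ) - Finsupp.single P (1 : ℤ) : FunFld.Divisor k K) = 2 := by
    rw [← hdivg, ell_add_div hK C hg0, hCl]
  have hell3 : ell (Finsupp.single A (3 : ℤ) : FunFld.Divisor k K) = 2 := by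
    have h3 := ell_eq_of_deg_ge hK (Finsupp.single A (3 : ℤ)) (by
      rw [deg_single, hd, hg]
      norm_num)
    rw [deg_single, hd, hg] at h3
    omega
  have hle : (Finsupp.single A (3 : ℤ) - Finsupp.single P (1 : ℤ) : FunFld.Divisor k K) ≤
      Finsupp.single A (3 : ℤ) := by
    intro R
    have h5 := single_apply_nonneg (k := k) (K := K) P R (n := 1) (by norm_num)
    simp only [Finsupp.sub_apply]
    omega
  haveI := L_finite hK (Finsupp.single A (3 : ℤ))
  have heq : FunFld.L (Finsupp.single A (3 : ℤ) - Finsupp.single P (1 : ℤ) : FunFld.Divisor k K) =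
      FunFld.L (Finsupp.single A (3 : ℤ)) :=
    Submodule.eq_of_le_of_finrank_eq (L_mono hle) (hell.trans hell3.symm)
  have h1m : (1 : K) ∈ FunFld.L (Finsupp.single A (3 : ℤ) - Finsupp.single P (1 : ℤ) :
      FunFld.Divisor k K) := by
    rw [heq]
    exact one_mem_L_single hK A (by norm_num)
  have h6 := (val_le_exp_iff P one_ne_zero _).1 ((mem_L_iff _ _).1 h1m P)
  rw [ord_one, Finsupp.sub_apply, Finsupp.single_eq_same, Finsupp.single_apply,
    if_neg (Ne.symm hP)] at h6
  omega

end Groth.Agent.S17250
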