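import Groth.Statements.S17251
import Mathlib
import Groth.Agent.Lib.lead.FF16
-- import your own Groth.Agent.* helpers here

set_option autoImplicit false
open FunFld

namespace Groth.Agent.S17251
open FunFld Groth.Agent.Lib.lead.FF Groth.Agent.Lib.lead.FF2 Groth.Agent.Lib.lead.FF4 Groth.Agent.Lib.lead.FF5 Groth.Agent.Lib.lead.FF6 Groth.Agent.Lib.lead.FF7 Groth.Agent.Lib.lead.FF8 Groth.Agent.Lib.lead.FF9 Groth.Agent.Lib.lead.FF10 Groth.Agent.Lib.lead.FF11 Groth.Agent.Lib.lead.FF12 Groth.Agent.Lib.lead.FF13 Groth.Agent.Lib.lead.FF14 Groth.Agent.Lib.lead.FF15 Groth.Agent.Lib.lead.FF16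


/-- Let `K/k` be a function field of one variable of genus two over an algebraically closed field `k` of
characteristic zero (a smooth curve `Y` of genus `2`), `C` a canonical divisor, `B` a place with
`ℓ(2B) = 1` (not a Weierstrass point) and `Q ≠ B` a place. Then `ℓ(C + B - 2Q) = 1` and `ℓ(C + 3B -
4Q) = 1` do not both hold: the complete systems `H⁰(ω_Y(B))` (dimension `2`, degree `3`) and
`H⁰(ω_Y(3B))` (dimension `4`, degree `5`) have no ramification point in common on `Y` minus `B`.
(The published statement concerns a general pointed curve `(Y, B)` of genus two over the complex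
numbers; this row assumes only `ℓ(2B) = 1`.) -/
theorem result
    (k K : Type*) [Field k] [IsAlgClosed k] [CharZero k] [Field K] [Algebra k K]
    (hK : FunFld.IsFunctionField k K) (hg : FunFld.genus k K = 2)
    (C : FunFld.Divisor k K) (hC : FunFld.IsCanonical k K C)
    (B Q : FunFld.Place k K) (hB : Module.finrank k ↥(FunFld.L (Finsupp.single B (2 : ℤ))) = 1) (hQ : Q ≠ B) :
    ¬ (Module.finrank k ↥(FunFld.L (C + Finsupp.single B (1 : ℤ) - Finsupp.single Q (2 : ℤ))) = 1 ∧
       Module.finrank k ↥(FunFld.L (C + Finsupp.single B (3 : ℤ) - Finsupp.single Q (4 : ℤ))) = 1) := by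
  classical
  rintro ⟨h1, h2⟩
  obtain ⟨hCl, hCd⟩ := canonical_genus_two hK hg hC
  have hd := fun R : FunFld.Place k K => deg_eq_one hK R
  -- ℓ(C + B) = 2 and L(C) = L(C + B)
  have hCB : ell (C + Finsupp.single B (1 : ℤ)) = 2 := by
    have h3 := ell_eq_of_deg_ge hK (C + Finsupp.single B (1 : ℤ)) (by
      rw [deg_add, deg_single, hd, hCd, hg]
      norm_num)
    rw [deg_add, deg_single, hd, hCd, hg] at h3
    omega
  have hleC : C ≤ C + Finsupp.single B (1 : ℤ) := by
    intro R
    have h5 := single_apply_nonneg (k := k) (K := K) B R (n := 1) (by norm_num)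
    simp only [Finsupp.add_apply]
    omega
  haveI := L_finite hK (C + Finsupp.single B (1 : ℤ))
  have heq : FunFld.L C = FunFld.L (C + Finsupp.single B (1 : ℤ)) :=
    Submodule.eq_of_le_of_finrank_eq (L_mono hleC) (hCl.trans hCB.symm)
  obtain ⟨f, hf0, hf⟩ := exists_ne_zero_of_finrank_pos hK h1.ge
  have hfC : f ∈ FunFld.L C := by
    rw [heq]
    refine L_mono ?_ hf
    intro R
    have h5 := single_apply_nonneg (k := k) (K := K) Q R (n := 2) (by norm_num)
    simp only [Finsupp.add_apply, Finsupp.sub_apply]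
    omega
  have hf2 : f ∈ FunFld.L (C - Finsupp.single Q (2 : ℤ)) := by
    refine (mem_L_iff _ _).2 fun R => ?_
    by_cases hR : R = B
    · have h6 := (mem_L_iff _ _).1 hfC R
      have hQR : (Finsupp.single Q (2 : ℤ) : FunFld.Divisor k K) R = 0 := by
        have hne : ¬ Q = R := by
          rw [hR]
          exact hQ
        rw [Finsupp.single_apply, if_neg hne]
      have e : (C - Finsupp.single Q (2 : ℤ)) R = C R := by
        rw [Finsupp.sub_apply, hQR, sub_zero]
      rw [e]
      exact h6
    · have h6 := (mem_L_iff _ _).1 hf R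
      have hBR : (Finsupp.single B (1 : ℤ) : FunFld.Divisor k K) R = 0 := by
        rw [Finsupp.single_apply, if_neg (Ne.symm hR)]
      have e : (C + Finsupp.single B (1 : ℤ) - Finsupp.single Q (2 : ℤ)) R =
          (C - Finsupp.single Q (2 : ℤ)) R := by
        simp only [Finsupp.sub_apply, Finsupp.add_apply, hBR, add_zero]
      rw [e] at h6
      exact h6
  have hdegf : FunFld.Divisor.deg (C - Finsupp.single Q (2 : ℤ)) = 0 := by
    simp only [deg_sub, deg_single, hd, hCd]
    norm_num
  have hdivf := div_of_mem_deg_zero hK hf0 hf2 hdegf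
  -- the section of the second system
  obtain ⟨D2, hD2⟩ : ∃ D : FunFld.Divisor k K, D = C + Finsupp.single B (3 : ℤ) -
      Finsupp.single Q (4 : ℤ) := ⟨_, rfl⟩
  rw [← hD2] at h2
  obtain ⟨h, hh0, hh⟩ := exists_ne_zero_of_finrank_pos hK h2.ge
  have hD2deg : D2.deg = 1 := by
    rw [hD2]
    simp only [deg_sub, deg_add, deg_single, hd, hCd]
    norm_num
  obtain ⟨R', hR', -⟩ := eq_single_of_nonneg_of_deg_one hK (nonneg_add_div hK hh0 hh) (by
    rw [deg_add, deg_div hK, hD2deg]
    norm_num)
  -- ℓ(B) = 1, ℓ(C - B) = 1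
  have hlB : ell (Finsupp.single B (1 : ℤ) : FunFld.Divisor k K) = 1 := by
    have h3 : ell (Finsupp.single B (1 : ℤ) : FunFld.Divisor k K) ≤
        ell (Finsupp.single B (2 : ℤ) : FunFld.Divisor k K) := ell_mono hK (by
      intro R
      simp only [Finsupp.single_apply]
      split_ifs <;> norm_num)
    have h4 : ell (0 : FunFld.Divisor k K) ≤ ell (Finsupp.single B (1 : ℤ) : FunFld.Divisor k K) :=
      ell_mono hK (single_one_nonneg B)
    rw [ell_zero hK] at h4
    have h5 : ell (Finsupp.single B (2 : ℤ) : FunFld.Divisor k K) = 1 := hB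
    omega
  have hrr := riemann_roch hK hC (Finsupp.single B (1 : ℤ))
  rw [hlB, deg_single, hd, hg] at hrr
  have hpos : 1 ≤ Module.finrank k ↥(FunFld.L (C - Finsupp.single B (1 : ℤ))) := by
    have h3 : 1 ≤ ell (C - Finsupp.single B (1 : ℤ)) := by omega
    exact h3
  obtain ⟨w, hw0, hw⟩ := exists_ne_zero_of_finrank_pos hK hpos
  obtain ⟨B', hB', -⟩ := eq_single_of_nonneg_of_deg_one hK (nonneg_add_div hK hw0 hw) (by
    rw [deg_add, deg_div hK, deg_sub, deg_single, hd, hCd]
    norm_num)
  have hff0 : f * f ≠ 0 := mul_ne_zero hf0 hf0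
  have hu0 : h / (f * f) * w ≠ 0 := mul_ne_zero (div_ne_zero hh0 hff0) hw0
  have hdh : FunFld.div k h = Finsupp.single R' 1 - D2 := by
    rw [← hR']
    abel
  have hdw : FunFld.div k w = Finsupp.single B' 1 - (C - Finsupp.single B (1 : ℤ)) := by
    rw [← hB']
    abel
  have hdu : Finsupp.single B (2 : ℤ) + FunFld.div k (h / (f * f) * w) =
      Finsupp.single R' (1 : ℤ) + Finsupp.single B' (1 : ℤ) := by
    rw [Groth.Agent.Lib.lead.FF11.div_mul hK (div_ne_zero hh0 hff0) hw0, div_div' hK hh0 hff0,
      Groth.Agent.Lib.lead.FF11.div_mul hK hf0 hf0, hdh, hdw, hdivf, hD2]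
    ext R
    simp only [Finsupp.add_apply, Finsupp.sub_apply, Finsupp.neg_apply, Finsupp.single_apply]
    split_ifs <;> omega
  have hu : h / (f * f) * w ∈ FunFld.L (Finsupp.single B (2 : ℤ)) := by
    apply mem_L_of_nonneg hK hu0
    rw [hdu]
    exact add_nonneg (single_one_nonneg R') (single_one_nonneg B')
  have hdz := div_eq_zero_of_finrank_one hK hB.le (one_mem_L_single hK B (by norm_num)) hu
  rw [hdz, add_zero] at hdu
  have hBB : B' = B := by
    by_contra hne
    have h7 := DFunLike.congr_fun hdu B'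
    have h8 := single_apply_nonneg (k := k) (K := K) R' B' (n := 1) (by norm_num)
    rw [Finsupp.add_apply, Finsupp.single_eq_same, Finsupp.single_apply,
      if_neg (Ne.symm hne)] at h7
    omega
  have hCw : C + FunFld.div k w = Finsupp.single B (2 : ℤ) := by
    rw [hdw, hBB]
    ext R
    simp only [Finsupp.add_apply, Finsupp.sub_apply, Finsupp.single_apply]
    split_ifs <;> omega
  have hfin : ell (Finsupp.single B (2 : ℤ) : FunFld.Divisor k K) = 2 := by
    rw [← hCw, ell_add_div hK C hw0, hCl]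
  have h5 : ell (Finsupp.single B (2 : ℤ) : FunFld.Divisor k K) = 1 := hB
  omega

end Groth.Agent.S17251
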