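import Groth.Statements.S17266
import Mathlib


set_option autoImplicit false
open CategoryTheory
universe v u
open Stk

namespace Groth.Agent.S17266

lemma bf_ext {C : Type u} [Category.{v} C] {𝒳 𝒴 : BasedCategory.{v, max u v} C}
    (F G : 𝒳 ⥤ᵇ 𝒴) (h : F.toFunctor = G.toFunctor) : F = G := by
  obtain ⟨f, wf⟩ := F
  obtain ⟨g, wg⟩ := G
  dsimp only at h
  subst h
  rfl


/-- Let C be a category with a Grothendieck topology J and let F : 𝒳 → 𝒴, G : 𝒴 → 𝒵 be functors over C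
between categories fibred in groupoids over C. Say that a functor H : 𝒜 → ℬ over C is covering when
for every object U of C and every functor b : C/U → ℬ over C there is a J-covering sieve of U such
that for each of its arrows h : V → U the composite of C/V → C/U with b is 2-isomorphic over C to H
∘ a for some functor a : C/V → 𝒜 over C (locally on the base every object of ℬ lifts to 𝒜 up to
isomorphism). If F and G are covering, then the composite G ∘ F is covering. -/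
theorem result {C : Type u} [Category.{v} C] (J : GrothendieckTopology C)
    {𝒳 𝒴 𝒵 : BasedCategory.{v, max u v} C}
    (h𝒳 : FibCat.IsFibGrpd 𝒳.p) (h𝒴 : FibCat.IsFibGrpd 𝒴.p) (h𝒵 : FibCat.IsFibGrpd 𝒵.p)
    (F : 𝒳 ⥤ᵇ 𝒴) (G : 𝒴 ⥤ᵇ 𝒵)
    (hF : (∀ (U : C) (y : FibCat.overCat U ⥤ᵇ 𝒴), ∃ R ∈ J U, ∀ ⦃V : C⦄ (h : V ⟶ U), R.arrows h →
        ∃ x : FibCat.overCat V ⥤ᵇ 𝒳,
          Nonempty (BasedFunctor.comp x F ≅ BasedFunctor.comp (⟨Over.map h, Over.mapForget_eq h⟩ : FibCat.overCat V ⥤ᵇ FibCat.overCat U) y)))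
    (hG : (∀ (U : C) (y : FibCat.overCat U ⥤ᵇ 𝒵), ∃ R ∈ J U, ∀ ⦃V : C⦄ (h : V ⟶ U), R.arrows h →
        ∃ x : FibCat.overCat V ⥤ᵇ 𝒴,
          Nonempty (BasedFunctor.comp x G ≅ BasedFunctor.comp (⟨Over.map h, Over.mapForget_eq h⟩ : FibCat.overCat V ⥤ᵇ FibCat.overCat U) y))) :
    (∀ (U : C) (y : FibCat.overCat U ⥤ᵇ 𝒵), ∃ R ∈ J U, ∀ ⦃V : C⦄ (h : V ⟶ U), R.arrows h →
        ∃ x : FibCat.overCat V ⥤ᵇ 𝒳,
          Nonempty (BasedFunctor.comp x (BasedFunctor.comp F G) ≅ BasedFunctor.comp (⟨Over.map h, Over.mapForget_eq h⟩ : FibCat.overCat V ⥤ᵇ FibCat.overCat U) y)) := by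
  intro U z
  obtain ⟨R, hR, hRf⟩ := hG U z
  choose y hy using hRf
  have hF' := fun (V : C) (h : V ⟶ U) (hh : R.arrows h) => hF V (y h hh)
  choose R' hR' hR'f using hF'
  refine ⟨Sieve.bind R.arrows (fun V h hh => R' V h hh),
    J.bind_covering hR (fun V h hh => hR' V h hh), ?_⟩
  intro W m hm
  obtain ⟨V, k, h, hh, hk, rfl⟩ := hm
  obtain ⟨x, ⟨e⟩⟩ := hR'f V h hh k hk
  obtain ⟨e'⟩ := hy h hh
  refine ⟨x, ⟨?_⟩⟩
  have i1 : BasedFunctor.comp x (BasedFunctor.comp F G) ≅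
      BasedFunctor.comp (BasedFunctor.comp x F) G := Iso.refl _
  have i2 : BasedFunctor.comp (BasedFunctor.comp x F) G ≅
      BasedFunctor.comp (BasedFunctor.comp
        (⟨Over.map k, Over.mapForget_eq k⟩ : FibCat.overCat W ⥤ᵇ FibCat.overCat V) (y h hh)) G :=
    (Bicategory.postcomp (FibCat.overCat W) (show 𝒴 ⟶ 𝒵 from G)).mapIso e
  have i3 : BasedFunctor.comp (BasedFunctor.comp
        (⟨Over.map k, Over.mapForget_eq k⟩ : FibCat.overCat W ⥤ᵇ FibCat.overCat V) (y h hh)) G ≅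
      BasedFunctor.comp
        (⟨Over.map k, Over.mapForget_eq k⟩ : FibCat.overCat W ⥤ᵇ FibCat.overCat V)
        (BasedFunctor.comp (y h hh) G) := Iso.refl _
  have i4 : BasedFunctor.comp
        (⟨Over.map k, Over.mapForget_eq k⟩ : FibCat.overCat W ⥤ᵇ FibCat.overCat V)
        (BasedFunctor.comp (y h hh) G) ≅
      BasedFunctor.comp
        (⟨Over.map k, Over.mapForget_eq k⟩ : FibCat.overCat W ⥤ᵇ FibCat.overCat V)
        (BasedFunctor.comp
          (⟨Over.map h, Over.mapForget_eq h⟩ : FibCat.overCat V ⥤ᵇ FibCat.overCat U) z) :=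
    (Bicategory.precomp 𝒵 (show FibCat.overCat W ⟶ FibCat.overCat V from
      (⟨Over.map k, Over.mapForget_eq k⟩ : FibCat.overCat W ⥤ᵇ FibCat.overCat V))).mapIso e'
  have i5 : BasedFunctor.comp
        (⟨Over.map k, Over.mapForget_eq k⟩ : FibCat.overCat W ⥤ᵇ FibCat.overCat V)
        (BasedFunctor.comp
          (⟨Over.map h, Over.mapForget_eq h⟩ : FibCat.overCat V ⥤ᵇ FibCat.overCat U) z) ≅
      BasedFunctor.comp (BasedFunctor.comp
        (⟨Over.map k, Over.mapForget_eq k⟩ : FibCat.overCat W ⥤ᵇ FibCat.overCat V)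
        (⟨Over.map h, Over.mapForget_eq h⟩ : FibCat.overCat V ⥤ᵇ FibCat.overCat U)) z :=
    Iso.refl _
  have hq : BasedFunctor.comp
        (⟨Over.map k, Over.mapForget_eq k⟩ : FibCat.overCat W ⥤ᵇ FibCat.overCat V)
        (⟨Over.map h, Over.mapForget_eq h⟩ : FibCat.overCat V ⥤ᵇ FibCat.overCat U) =
      (⟨Over.map (k ≫ h), Over.mapForget_eq (k ≫ h)⟩ :
        FibCat.overCat W ⥤ᵇ FibCat.overCat U) :=
    bf_ext _ _ (Over.mapComp_eq k h).symm
  have i6 : BasedFunctor.comp (BasedFunctor.comp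
        (⟨Over.map k, Over.mapForget_eq k⟩ : FibCat.overCat W ⥤ᵇ FibCat.overCat V)
        (⟨Over.map h, Over.mapForget_eq h⟩ : FibCat.overCat V ⥤ᵇ FibCat.overCat U)) z ≅
      BasedFunctor.comp (⟨Over.map (k ≫ h), Over.mapForget_eq (k ≫ h)⟩ :
        FibCat.overCat W ⥤ᵇ FibCat.overCat U) z :=
    eqToIso (congrArg (fun q => BasedFunctor.comp q z) hq)
  exact i1 ≪≫ i2 ≪≫ i3 ≪≫ i4 ≪≫ i5 ≪≫ i6

end Groth.Agent.S17266
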