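import Groth.Statements.S1729
import Mathlib

set_option autoImplicit false
universe u
open Dual2

namespace Groth.Agent.S1729

open TensorProduct


/-- Over a local ring, every finite module M admits a projective cover: a surjection from a projective
module P onto M such that no proper submodule of P maps onto M. -/
theorem result (R : Type u) [CommRing R] [IsLocalRing R] (M : Type u) [AddCommGroup M] [Module R M] [Module.Finite R M] : ∃ (P : Type u) (_ : AddCommGroup P) (_ : Module R P) (f : P →ₗ[R] M), Dual2.IsProjectiveCover f := by
  classical
  let w := Module.Free.chooseBasis (IsLocalRing.ResidueField R) (IsLocalRing.ResidueField R ⊗[R] M)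
  obtain ⟨v, hv⟩ := (TensorProduct.mk_surjective R M (IsLocalRing.ResidueField R)
    Ideal.Quotient.mk_surjective).comp_left w
  have hv' : ∀ i, (1 : IsLocalRing.ResidueField R) ⊗ₜ[R] v i = w i := fun i => congr_fun hv i
  let f : (Module.Free.ChooseBasisIndex (IsLocalRing.ResidueField R)
      (IsLocalRing.ResidueField R ⊗[R] M) →₀ R) →ₗ[R] M := Finsupp.linearCombination R v
  have hfsurj : Function.Surjective f := by
    rw [← LinearMap.range_eq_top, Finsupp.range_linearCombination]
    exact IsLocalRing.span_eq_top_of_tmul_eq_basis v w hv'
  have hinj : Function.Injective (f.baseChange (IsLocalRing.ResidueField R)) := by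
    let b' := (Finsupp.basisSingleOne (R := R) (ι := Module.Free.ChooseBasisIndex
      (IsLocalRing.ResidueField R) (IsLocalRing.ResidueField R ⊗[R] M))).baseChange
      (IsLocalRing.ResidueField R)
    have e : f.baseChange (IsLocalRing.ResidueField R) =
        (b'.equiv w (Equiv.refl _)).toLinearMap := by
      apply b'.ext
      intro i
      rw [LinearEquiv.coe_coe, Module.Basis.equiv_apply]
      simp only [b', Module.Basis.baseChange_apply, Finsupp.coe_basisSingleOne,
        LinearMap.baseChange_tmul, f, Finsupp.linearCombination_single, one_smul, Equiv.refl_apply]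
      exact hv' i
    rw [e]
    exact (b'.equiv w (Equiv.refl _)).injective
  refine ⟨_, inferInstance, inferInstance, f, ⟨inferInstance, hfsurj, ?_⟩⟩
  intro N hN
  rw [← IsLocalRing.map_tensorProduct_mk_eq_top, eq_top_iff]
  intro z _
  obtain ⟨m, hm⟩ := TensorProduct.mk_surjective R M (IsLocalRing.ResidueField R)
    Ideal.Quotient.mk_surjective (f.baseChange (IsLocalRing.ResidueField R) z)
  have hmN : m ∈ Submodule.map f N := by
    rw [hN]
    trivial
  obtain ⟨n, hnN, rfl⟩ := hmN
  refine ⟨n, hnN, hinj ?_⟩
  rw [← hm]
  simp only [TensorProduct.mk_apply, LinearMap.baseChange_tmul]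

end Groth.Agent.S1729
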