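import Groth.Statements.S17335
import Groth.Agent.Lib.helper8.FinAlg

set_option autoImplicit false
universe u v
open CAlg

namespace Groth.Agent.S17335

open Groth.Agent.Lib.helper8 in
/-- Let k be an algebraically closed field and A a commutative k-algebra which is finite-dimensional as
a k-vector space, and let E be the set of k-algebra homomorphisms A → k. Then E is finite, and the
evaluation homomorphism A → O(E) = (E → k), a ↦ (f ↦ f(a)), is surjective with kernel the nilradical
of A; it therefore induces an isomorphism of A_red = A/nilradical(A) onto O(E). -/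
theorem result (k : Type u) [Field k]
    [IsAlgClosed k] (A : Type v) [CommRing A] [Algebra k A] [Module.Finite k A] :
    Finite (A →ₐ[k] k) ∧
      Function.Surjective (AlgHom.pi (R := k) (fun f : A →ₐ[k] k => f)) ∧
      RingHom.ker (AlgHom.pi (R := k) (fun f : A →ₐ[k] k => f)) = nilradical A := by
  have hfin : Finite (A →ₐ[k] k) := inferInstance
  refine ⟨hfin, ?_, ?_⟩
  · intro g
    have hcop : Pairwise (Function.onFun IsCoprime (fun f : A →ₐ[k] k => RingHom.ker f)) := by
      intro f f' hne
      have h1 := ker_algHom_isMaximal k A f
      have h2 := ker_algHom_isMaximal k A f'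
      apply Ideal.isCoprime_of_isMaximal
      intro h
      exact hne (algHom_eq_of_ker_eq k A f f' h)
    obtain ⟨r, hr⟩ := Ideal.exists_forall_sub_mem_ideal hcop (fun f => algebraMap k A (g f))
    refine ⟨r, ?_⟩
    funext f
    have := hr f
    rw [RingHom.mem_ker, map_sub, sub_eq_zero] at this
    change f r = g f
    rw [this]
    exact AlgHom.commutes f (g f)
  · apply le_antisymm
    · intro a ha
      rw [RingHom.mem_ker] at ha
      rw [nilradical_eq_sInf, Ideal.mem_sInf]
      intro p hp
      have hp' : p.IsPrime := hp
      obtain ⟨f, hf⟩ := exists_algHom_ker_eq_of_isPrime k A p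
      rw [← hf, RingHom.mem_ker]
      exact congrFun ha f
    · intro a ha
      rw [RingHom.mem_ker]
      funext f
      change f a = 0
      have hnil : IsNilpotent a := ha
      exact (hnil.map f).eq_zero

end Groth.Agent.S17335
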