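import Groth.Statements.S17336
import Mathlib
import Groth.Agent.S17335
-- import your own Groth.Agent.* helpers here

set_option autoImplicit false
universe u v
open CAlg

namespace Groth.Agent.S17336

/-- Let k be an algebraically closed field and A a commutative k-algebra which is finite-dimensional as
a k-vector space (a finite scheme X = Spec A with largest reduced subscheme X_red = Spec
(A/nilradical A) and immersion i : X_red → X). Then there is a unique morphism r : X → X_red with r
∘ i = id; on rings: the projection A → A/nilradical(A) admits exactly one section that is a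
k-algebra homomorphism. -/
theorem result (k : Type u) [Field k]
    [IsAlgClosed k] (A : Type v) [CommRing A] [Algebra k A] [Module.Finite k A] :
    ∃! s : (A ⧸ nilradical A) →ₐ[k] A,
      (Ideal.Quotient.mkₐ k (nilradical A)).comp s = AlgHom.id k (A ⧸ nilradical A) := by
  classical
  obtain ⟨hfin, hsurj, hker⟩ := Groth.Agent.S17335.result k A
  letI : Fintype (A →ₐ[k] k) := Fintype.ofFinite _
  set ev : A →ₐ[k] ((A →ₐ[k] k) → k) := AlgHom.pi (R := k) (fun f : A →ₐ[k] k => f) with hev
  have hnil : ∀ x ∈ RingHom.ker (ev : A →+* ((A →ₐ[k] k) → k)), IsNilpotent x := by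
    intro x hx
    have : x ∈ RingHom.ker ev := hx
    rw [hker] at this
    exact this
  obtain ⟨e, he, hfe⟩ := CompleteOrthogonalIdempotents.lift_of_isNilpotent_ker
    (ev : A →+* ((A →ₐ[k] k) → k)) hnil
    (CompleteOrthogonalIdempotents.single (fun _ : (A →ₐ[k] k) => k))
    (fun i => hsurj _)
  have hfe' : ∀ i, ev (e i) = Pi.single i 1 := fun i => congrFun hfe i
  -- the algebra hom s₀
  let L : ((A →ₐ[k] k) → k) →ₗ[k] A := Fintype.linearCombination k e
  have hL : ∀ g, L g = ∑ i, g i • e i := fun g => Fintype.linearCombination_apply k e g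
  have hL1 : L 1 = 1 := by
    rw [hL]; simp only [Pi.one_apply, one_smul]; exact he.complete
  have hLmul : ∀ g h, L (g * h) = L g * L h := by
    intro g h
    rw [hL, hL, hL, Finset.sum_mul_sum]
    apply Finset.sum_congr rfl
    intro i _
    rw [Finset.sum_eq_single i]
    · rw [smul_mul_smul_comm, (he.idem i).eq]; rfl
    · intro j _ hji
      rw [smul_mul_smul_comm, he.ortho (Ne.symm hji), smul_zero]
    · intro h; exact absurd (Finset.mem_univ i) h
  let s₀ : ((A →ₐ[k] k) → k) →ₐ[k] A := AlgHom.ofLinearMap L hL1 hLmul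
  have hs₀ : ∀ g, s₀ g = ∑ i, g i • e i := hL
  have hevs₀ : ∀ g, ev (s₀ g) = g := by
    intro g
    rw [hs₀, map_sum]
    simp only [map_smul, hfe']
    funext j
    simp [Finset.sum_apply, Pi.single_apply]
  -- t = s₀ ∘ ev kills the nilradical
  let t : A →ₐ[k] A := s₀.comp ev
  have ht : ∀ a ∈ nilradical A, t a = 0 := by
    intro a ha
    rw [← hker, RingHom.mem_ker] at ha
    change s₀ (ev a) = 0
    rw [ha, map_zero]
  let s : (A ⧸ nilradical A) →ₐ[k] A := Ideal.Quotient.liftₐ (nilradical A) t ht
  have hs : ∀ a, s (Ideal.Quotient.mk (nilradical A) a) = s₀ (ev a) := fun a => rfl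
  have hmem : ∀ a, s₀ (ev a) - a ∈ nilradical A := by
    intro a
    rw [← hker, RingHom.mem_ker, map_sub, hevs₀, sub_self]
  refine ⟨s, ?_, ?_⟩
  · ext x
    obtain ⟨a, rfl⟩ := Ideal.Quotient.mk_surjective x
    change Ideal.Quotient.mk (nilradical A) (s (Ideal.Quotient.mk (nilradical A) a)) = _
    rw [hs]
    exact Ideal.Quotient.eq.mpr (hmem a)
  · intro s' hs'
    have hs'1 : ∀ x, Ideal.Quotient.mk (nilradical A) (s' x) = x := fun x => congrArg (fun φ => φ x) hs'
    -- s' fixes each e i
    have hfix : ∀ i, s' (Ideal.Quotient.mk (nilradical A) (e i)) = e i := by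
      intro i
      apply eq_of_isNilpotent_sub_of_isIdempotentElem
      · exact ((he.idem i).map (Ideal.Quotient.mk (nilradical A))).map s'
      · exact he.idem i
      · have : s' (Ideal.Quotient.mk (nilradical A) (e i)) - e i ∈ nilradical A := by
          rw [← Ideal.Quotient.eq, hs'1]
        exact this
    ext x
    obtain ⟨a, rfl⟩ := Ideal.Quotient.mk_surjective x
    rw [hs, hs₀]
    have hx : Ideal.Quotient.mk (nilradical A) a
        = ∑ i, (ev a i) • Ideal.Quotient.mk (nilradical A) (e i) := by
      have h1 := Ideal.Quotient.eq.mpr (hmem a)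
      rw [← h1, hs₀, map_sum]
      apply Finset.sum_congr rfl
      intro i _
      exact map_smul (Ideal.Quotient.mkₐ k (nilradical A)) _ _
    rw [hx, map_sum]
    apply Finset.sum_congr rfl
    intro i _
    rw [map_smul, hfix]

end Groth.Agent.S17336
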