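import Groth.Statements.S17323
import Mathlib
import Groth.Agent.S17336
-- import your own Groth.Agent.* helpers here

set_option autoImplicit false
universe u v
open CAlg

namespace Groth.Agent.S17323

theorem helper8_mem_span_idem (k : Type u) [Field k] [IsAlgClosed k]
    (C : Type v) [CommRing C] [Algebra k C] [Module.Finite k C] [IsReduced C] (c : C) :
    c ∈ Submodule.span k {ε : C | IsIdempotentElem ε} := by
  classical
  obtain ⟨hfin, hsurj, hker⟩ := Groth.Agent.S17335.result k C
  let _ : Fintype (C →ₐ[k] k) := Fintype.ofFinite _
  set ev : C →ₐ[k] ((C →ₐ[k] k) → k) := AlgHom.pi (R := k) (fun f : C →ₐ[k] k => f) with hev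
  have hinj : Function.Injective ev := by
    rw [← RingHom.coe_coe, RingHom.injective_iff_ker_eq_bot]
    have : RingHom.ker (ev : C →+* ((C →ₐ[k] k) → k)) = nilradical C := hker
    rw [this, nilradical_eq_zero]; rfl
  choose ε hε using fun i : (C →ₐ[k] k) => hsurj (Pi.single i 1)
  have hidem : ∀ i, IsIdempotentElem (ε i) := by
    intro i
    apply hinj
    rw [map_mul, hε, ← Pi.single_mul, one_mul]
  have hc : c = ∑ i, (ev c i) • ε i := by
    apply hinj
    rw [map_sum]
    simp only [map_smul, hε]
    funext j
    simp [Finset.sum_apply, Pi.single_apply]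
  rw [hc]
  apply Submodule.sum_mem
  intro i _
  exact Submodule.smul_mem _ _ (Submodule.subset_span (hidem i))

/-- Let k be an algebraically closed field and A a commutative k-algebra which is finite-dimensional as
a k-vector space. Then A has a largest reduced subalgebra: a k-subalgebra B which is reduced and
contains every reduced k-subalgebra of A; moreover the composite of the inclusion B → A with the
projection A → A/nilradical(A) is bijective. -/
theorem result (k : Type u) [Field k] [IsAlgClosed k]
    (A : Type v) [CommRing A] [Algebra k A] [Module.Finite k A] :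
    ∃ B : Subalgebra k A, IsReduced ↥B ∧ (∀ C : Subalgebra k A, IsReduced ↥C → C ≤ B) ∧
      Function.Bijective ((Ideal.Quotient.mkₐ k (nilradical A)).comp B.val) := by
  classical
  obtain ⟨s, hs, -⟩ := Groth.Agent.S17336.result k A
  have hs1 : ∀ x, Ideal.Quotient.mk (nilradical A) (s x) = x := fun x => congrArg (fun φ => φ x) hs
  have hidem : ∀ ε : A, IsIdempotentElem ε → s (Ideal.Quotient.mk (nilradical A) ε) = ε := by
    intro ε hε
    apply eq_of_isNilpotent_sub_of_isIdempotentElem
    · exact (hε.map (Ideal.Quotient.mk (nilradical A))).map s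
    · exact hε
    · have : s (Ideal.Quotient.mk (nilradical A) ε) - ε ∈ nilradical A := by
        rw [← Ideal.Quotient.eq, hs1]
      exact this
  have hbij : Function.Bijective ((Ideal.Quotient.mkₐ k (nilradical A)).comp s.range.val) := by
    constructor
    · intro b b' hbb
      obtain ⟨b, x, rfl⟩ := b
      obtain ⟨b', x', rfl⟩ := b'
      have : Ideal.Quotient.mk (nilradical A) (s x) = Ideal.Quotient.mk (nilradical A) (s x') := hbb
      rw [hs1, hs1] at this
      subst this
      rfl
    · intro x
      exact ⟨⟨s x, x, rfl⟩, hs1 x⟩
  refine ⟨s.range, ?_, ?_, hbij⟩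
  · haveI : IsReduced (A ⧸ nilradical A) :=
      (Ideal.isRadical_iff_quotient_reduced _).mp (Ideal.radical_isRadical (⊥ : Ideal A))
    exact isReduced_of_injective ((Ideal.Quotient.mkₐ k (nilradical A)).comp s.range.val) hbij.1
  · intro C hC c hc
    have hspan := helper8_mem_span_idem k ↥C ⟨c, hc⟩
    have hle : Submodule.span k {ε : ↥C | IsIdempotentElem ε}
        ≤ Submodule.comap C.val.toLinearMap (Subalgebra.toSubmodule s.range) := by
      rw [Submodule.span_le]
      intro ε hε
      have hε' : IsIdempotentElem (ε : A) := by
        have := congrArg (fun z : ↥C => (z : A)) hε.eq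
        exact this
      change (ε : A) ∈ s.range
      exact ⟨_, hidem _ hε'⟩
    exact hle hspan

end Groth.Agent.S17323
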