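import Groth.Statements.S17321
import Mathlib
import Groth.Agent.S17323
import Groth.Agent.Lib.helper8.FinAlg
-- import your own Groth.Agent.* helpers here

set_option autoImplicit false
universe u v
open CAlg

namespace Groth.Agent.S17321

theorem helper8_exists_derivation (k : Type u) [Field k] [IsAlgClosed k]
    (A : Type v) [CommRing A] [Algebra k A] [Module.Finite k A] (hA : ¬ IsReduced A) :
    ∃ D : Derivation k A A, D ≠ 0 := by
  classical
  haveI : IsArtinianRing A := IsArtinianRing.of_finite k A
  have hN : nilradical A ≠ ⊥ := fun h => hA (nilradical_eq_bot_iff.mp h)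
  haveI : IsAtomic (Ideal A) := isAtomic_of_orderBot_wellFounded_lt (IsWellFounded.wf)
  obtain h | ⟨I, hI, hIN⟩ := IsAtomic.eq_bot_or_exists_atom_le (nilradical A)
  · exact absurd h hN
  obtain ⟨z, hzI, hz0⟩ : ∃ z ∈ I, z ≠ 0 := Submodule.exists_mem_ne_zero_of_ne_bot hI.1
  let m : Ideal A := LinearMap.ker (LinearMap.toSpanSingleton A A z)
  have hmem : ∀ a, a ∈ m ↔ a * z = 0 := by
    intro a
    simp [m, LinearMap.mem_ker, LinearMap.toSpanSingleton_apply]
  have hm : m.IsMaximal := by
    rw [Ideal.isMaximal_iff]
    refine ⟨?_, ?_⟩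
    · intro h1
      rw [hmem, one_mul] at h1
      exact hz0 h1
    · intro J a hmJ ha haJ
      have haz : a * z ≠ 0 := fun h => ha ((hmem a).mpr h)
      have hspan : Ideal.span {a * z} = I := by
        have hle : Ideal.span {a * z} ≤ I :=
          (Ideal.span_singleton_le_iff_mem _).mpr (I.mul_mem_left a hzI)
        rcases eq_or_lt_of_le hle with h | h
        · exact h
        · exact absurd (hI.2 _ h) (by simpa [Ideal.span_singleton_eq_bot] using haz)
      have hz' : z ∈ Ideal.span {a * z} := hspan ▸ hzI
      obtain ⟨b, hb⟩ := Ideal.mem_span_singleton'.mp hz'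
      have h1m : 1 - b * a ∈ m := by
        rw [hmem, sub_mul, one_mul, mul_assoc, hb, sub_self]
      have h1 : (1:A) = (1 - b * a) + b * a := by ring
      rw [h1]; exact J.add_mem (hmJ h1m) (J.mul_mem_left b haJ)
  haveI := hm.isPrime
  obtain ⟨χ, hχ⟩ := Groth.Agent.Lib.helper8.exists_algHom_ker_eq_of_isPrime k A m
  have hχm : ∀ a, a ∈ m ↔ χ a = 0 := by
    intro a; rw [← hχ, RingHom.mem_ker]
  have hsub : ∀ a, a - algebraMap k A (χ a) ∈ m := by
    intro a
    rw [hχm, map_sub, AlgHom.commutes]; simp
  have haz : ∀ a, a * z = χ a • z := by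
    intro a
    have := (hmem _).mp (hsub a)
    rw [sub_mul, sub_eq_zero] at this
    rw [this, Algebra.smul_def]
  have hm2 : m * m ≠ m := by
    intro h
    have hfg : m.FG := IsNoetherian.noetherian m
    obtain ⟨e, he, hme⟩ := (Ideal.isIdempotentElem_iff_of_fg m hfg).mp h
    have hem : e ∈ m := by rw [hme]; exact Ideal.mem_span_singleton_self e
    have hez : e * z = 0 := (hmem e).mp hem
    have hzm : z ∈ m := (nilradical_le_prime m) (hIN hzI)
    rw [hme] at hzm
    obtain ⟨w, hw⟩ := Ideal.mem_span_singleton'.mp hzm
    apply hz0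
    calc z = w * e := hw.symm
      _ = w * (e * e) := by rw [he.eq]
      _ = e * (w * e) := by ring
      _ = e * z := by rw [hw]
      _ = 0 := hez
  obtain ⟨x, hxm, hxm2⟩ := SetLike.exists_of_lt (lt_of_le_of_ne Ideal.mul_le_left hm2)
  let P : Submodule k A := Submodule.span k {1} ⊔ (m * m).restrictScalars k
  have hxP : x ∉ P := by
    intro hx
    obtain ⟨u, hu, y, hy, hxy⟩ := Submodule.mem_sup.mp hx
    obtain ⟨c, rfl⟩ := Submodule.mem_span_singleton.mp hu
    have hy' : y ∈ m * m := hy
    have hym : y ∈ m := Ideal.mul_le_left hy'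
    have hc : c = 0 := by
      have h1 := congrArg χ hxy
      rw [map_add, (hχm y).mp hym, (hχm x).mp hxm, map_smul, map_one] at h1
      simpa using h1
    apply hxm2; rw [← hxy, hc, zero_smul, zero_add]; exact hy'
  obtain ⟨l, hlx, hlP⟩ := Submodule.exists_le_ker_of_notMem hxP
  have hl1 : l 1 = 0 :=
    LinearMap.mem_ker.mp (hlP (Submodule.mem_sup_left (Submodule.mem_span_singleton_self 1)))
  have hl2 : ∀ y ∈ m * m, l y = 0 := fun y hy =>
    LinearMap.mem_ker.mp (hlP (Submodule.mem_sup_right hy))
  have hkey : ∀ a b, l (a * b) = χ a * l b + χ b * l a := by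
    intro a b
    have h0 := hl2 _ (Ideal.mul_mem_mul (hsub a) (hsub b))
    have hexp : (a - algebraMap k A (χ a)) * (b - algebraMap k A (χ b))
        = a * b - χ a • b - χ b • a + (χ a * χ b) • 1 := by
      simp only [Algebra.smul_def, map_mul]; ring
    rw [hexp, map_add, map_sub, map_sub, map_smul, map_smul, map_smul, hl1] at h0
    simp only [smul_eq_mul, mul_zero, add_zero] at h0
    linear_combination h0
  refine ⟨Derivation.mk' (l.smulRight z) ?_, ?_⟩
  · intro a b
    simp only [LinearMap.smulRight_apply]
    rw [smul_comm a, smul_comm b, smul_eq_mul, smul_eq_mul, haz a, haz b, smul_smul, smul_smul,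
      ← add_smul, hkey]
    congr 1; ring
  · intro hD
    have := congrArg (fun D : Derivation k A A => D x) hD
    simp only [Derivation.coe_mk', LinearMap.smulRight_apply, Derivation.coe_zero, Pi.zero_apply] at this
    rcases smul_eq_zero.mp this with h | h
    · exact hlx h
    · exact hz0 h

/-- Let k be an algebraically closed field and A a commutative k-algebra which is finite-dimensional as
a k-vector space (the coordinate ring of a finite k-scheme). Then the space Der(A) of k-derivations
A → A is zero if and only if A is reduced. -/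
theorem result (k : Type u) [Field k] [IsAlgClosed k]
    (A : Type v) [CommRing A] [Algebra k A] [Module.Finite k A] :
    Subsingleton (Derivation k A A) ↔ IsReduced A := by
  constructor
  · intro hsub
    by_contra hA
    obtain ⟨D, hD⟩ := helper8_exists_derivation k A hA
    exact hD (Subsingleton.elim D 0)
  · intro hA
    refine ⟨fun D D' => ?_⟩
    have hzero : ∀ D : Derivation k A A, D = 0 := by
      intro D
      ext a
      have hle : Submodule.span k {ε : A | IsIdempotentElem ε} ≤ LinearMap.ker (D : A →ₗ[k] A) := by
        rw [Submodule.span_le]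
        intro ε hε
        rw [SetLike.mem_coe, LinearMap.mem_ker]
        change D ε = 0
        have h1 : D ε = ε • D ε + ε • D ε := by
          conv_lhs => rw [← hε.eq]
          exact D.leibniz ε ε
        have h2 : ε • D ε = 0 := by
          have := congrArg (fun t => ε • t) h1
          simp only [smul_add, smul_smul, hε.eq] at this
          exact left_eq_add.mp this
        rw [h1, h2, add_zero]
      have := hle (Groth.Agent.S17323.helper8_mem_span_idem k A a)
      exact this
    rw [hzero D, hzero D']

end Groth.Agent.S17321
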