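import Groth.Statements.S17324
import Mathlib
import Groth.Agent.Lib.helper8.FinAlg
-- import your own Groth.Agent.* helpers here

set_option autoImplicit false
universe u v
open CAlg

namespace Groth.Agent.S17324

/-- (i) ⟺ (ii): let k be an algebraically closed field, A a commutative k-algebra which is
finite-dimensional as a k-vector space and is a local ring with maximal ideal m, and a_1, …, a_m ∈
m. Then A is generated as a k-algebra by a_1, …, a_m if and only if m is generated as an ideal by
a_1, …, a_m. (The printed lemma has a third equivalent condition, that the images of the a_i span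
m/m²; its equivalence with (ii) is Nakayama's lemma.) -/
theorem result (k : Type u) [Field k] [IsAlgClosed k]
    (A : Type v) [CommRing A] [Algebra k A] [Module.Finite k A] [IsLocalRing A]
    (m : ℕ) (a : Fin m → A) (ha : ∀ i, a i ∈ IsLocalRing.maximalIdeal A) :
    Algebra.adjoin k (Set.range a) = ⊤ ↔ Ideal.span (Set.range a) = IsLocalRing.maximalIdeal A := by
  classical
  haveI : IsArtinianRing A := IsArtinianRing.of_finite k A
  set 𝔪 := IsLocalRing.maximalIdeal A with h𝔪
  obtain ⟨χ, hχ⟩ := Groth.Agent.Lib.helper8.exists_algHom_ker_eq_of_isPrime k A 𝔪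
  have hχm : ∀ x, x ∈ 𝔪 ↔ χ x = 0 := by intro x; rw [← hχ, RingHom.mem_ker]
  have hsub : ∀ x, x - algebraMap k A (χ x) ∈ 𝔪 := by
    intro x; rw [hχm, map_sub, AlgHom.commutes]; simp
  have hJle : Ideal.span (Set.range a) ≤ 𝔪 :=
    Ideal.span_le.mpr (by rintro _ ⟨i, rfl⟩; exact ha i)
  constructor
  · intro hadj
    apply le_antisymm hJle
    intro x hx
    have hall : ∀ y ∈ Algebra.adjoin k (Set.range a),
        ∃ c : k, y - algebraMap k A c ∈ Ideal.span (Set.range a) := by
      intro y hy
      induction hy using Algebra.adjoin_induction with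
      | mem y hy => exact ⟨0, by simpa using Ideal.subset_span hy⟩
      | algebraMap r => exact ⟨r, by simp⟩
      | add y z _ _ hy hz =>
          obtain ⟨c, hc⟩ := hy; obtain ⟨d, hd⟩ := hz
          refine ⟨c + d, ?_⟩
          have : y + z - algebraMap k A (c + d)
              = (y - algebraMap k A c) + (z - algebraMap k A d) := by rw [map_add]; ring
          rw [this]; exact Ideal.add_mem _ hc hd
      | mul y z _ _ hy hz =>
          obtain ⟨c, hc⟩ := hy; obtain ⟨d, hd⟩ := hz
          refine ⟨c * d, ?_⟩
          have : y * z - algebraMap k A (c * d)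
              = (y - algebraMap k A c) * z + algebraMap k A c * (z - algebraMap k A d) := by
            rw [map_mul]; ring
          rw [this]
          exact Ideal.add_mem _ (Ideal.mul_mem_right _ _ hc) (Ideal.mul_mem_left _ _ hd)
    obtain ⟨c, hc⟩ := hall x (by rw [hadj]; exact Algebra.mem_top)
    have hc0 : c = 0 := by
      have h1 : algebraMap k A c ∈ 𝔪 := by
        have : algebraMap k A c = x - (x - algebraMap k A c) := by ring
        rw [this]; exact Ideal.sub_mem _ hx (hJle hc)
      rw [hχm, AlgHom.commutes] at h1; simpa using h1
    rw [hc0, map_zero, sub_zero] at hc; exact hc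
  · intro hJ
    set B := Algebra.adjoin k (Set.range a) with hB
    have haB : ∀ i, a i ∈ B := fun i => Algebra.subset_adjoin ⟨i, rfl⟩
    have hclaim : ∀ j : ℕ, ((𝔪 ^ j).restrictScalars k : Submodule k A)
        ≤ Subalgebra.toSubmodule B ⊔ (𝔪 ^ (j+1)).restrictScalars k := by
      intro j
      induction j with
      | zero =>
        intro x _
        have : x = algebraMap k A (χ x) + (x - algebraMap k A (χ x)) := by ring
        rw [this]
        exact Submodule.add_mem_sup (B.algebraMap_mem _) (by simpa using hsub x)
      | succ j ih =>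
        intro x hx
        have hx' : x ∈ 𝔪 ^ j * Ideal.span (Set.range a) := by rw [hJ, ← pow_succ]; exact hx
        have hC : ∀ y ∈ Ideal.span (Set.range a), ∀ w ∈ 𝔪 ^ j,
            w * y ∈ (Subalgebra.toSubmodule B ⊔ (𝔪 ^ (j+1+1)).restrictScalars k : Submodule k A) := by
          intro y hy
          induction hy using Submodule.span_induction with
          | mem y hy =>
            obtain ⟨i, rfl⟩ := hy
            intro w hw
            obtain ⟨b, hb, v, hv, rfl⟩ := Submodule.mem_sup.mp (ih hw)
            rw [add_mul]
            refine Submodule.add_mem_sup (B.mul_mem hb (haB i)) ?_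
            change v * a i ∈ 𝔪 ^ (j+1+1)
            rw [pow_succ _ (j+1)]
            exact Ideal.mul_mem_mul hv (ha i)
          | zero => intro w _; rw [mul_zero]; exact Submodule.zero_mem _
          | add y z _ _ hy hz =>
            intro w hw; rw [mul_add]; exact Submodule.add_mem _ (hy w hw) (hz w hw)
          | smul r y _ hy =>
            intro w hw; rw [smul_eq_mul, ← mul_assoc]; exact hy _ (Ideal.mul_mem_right _ _ hw)
        exact Submodule.mul_induction_on hx' (fun w hw y hy => hC y hy w hw)
          (fun u v hu hv => Submodule.add_mem _ hu hv)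
    have htop : ∀ j : ℕ, (⊤ : Submodule k A)
        ≤ Subalgebra.toSubmodule B ⊔ (𝔪 ^ j).restrictScalars k := by
      intro j
      induction j with
      | zero => intro x _; exact Submodule.mem_sup_right (by simp)
      | succ j ih =>
        intro x hx
        obtain ⟨b, hb, v, hv, rfl⟩ := Submodule.mem_sup.mp (ih hx)
        obtain ⟨b', hb', v', hv', rfl⟩ := Submodule.mem_sup.mp (hclaim j hv)
        rw [← add_assoc]
        exact Submodule.add_mem_sup (Submodule.add_mem _ hb hb') hv'
    obtain ⟨n, hn⟩ : ∃ n, 𝔪 ^ n = ⊥ := by
      have := IsArtinianRing.isNilpotent_jacobson_bot (R := A)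
      rw [IsLocalRing.jacobson_eq_maximalIdeal ⊥ bot_ne_top] at this
      exact this
    rw [eq_top_iff]
    intro x _
    have := htop n (Submodule.mem_top (x := x))
    rw [hn] at this
    simpa using this

end Groth.Agent.S17324
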