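import Groth.Statements.S17325
import Mathlib
-- import your own Groth.Agent.* helpers here

set_option autoImplicit false
universe u v
open LieAlg

namespace Groth.Agent.S17325

/-- Let k be an algebraically closed field of characteristic p > 0, V a finite-dimensional k-vector
space and g a nonzero k-linear subspace of End_k(V) closed under the p-th power map u ↦ u^p. Then g
contains a nonzero u with u^p = c u for some c ∈ k, i.e. a line k u closed under p-th powers. (The
published lemma concerns an abstract nonzero finite-dimensional restricted Lie algebra; this row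
concerns subspaces of End_k(V) closed under p-th powers, a class that contains every restricted Lie
subalgebra of gl(V).) -/
theorem result (k : Type u) [Field k] [IsAlgClosed k]
    (p : ℕ) [Fact p.Prime] [CharP k p] (V : Type v) [AddCommGroup V] [Module k V] [FiniteDimensional k V]
    (g : Submodule k (Module.End k V)) (hg : ∀ u ∈ g, u ^ p ∈ g) (hne : g ≠ ⊥) :
    ∃ u ∈ g, u ≠ 0 ∧ ∃ c : k, u ^ p = c • u := by
  classical
  have hp1 : p = (p - 1) + 1 := by
    have := (Fact.out : p.Prime).one_le
    omega
  have hS : ∃ n, ∃ f ∈ g, f ≠ 0 ∧ Module.finrank k (LinearMap.range f) = n := by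
    obtain ⟨f, hfg, hf0⟩ := Submodule.exists_mem_ne_zero_of_ne_bot hne
    exact ⟨_, f, hfg, hf0, rfl⟩
  obtain ⟨f, hfg, hf0, hfn⟩ := Nat.find_spec hS
  have hmin : ∀ h ∈ g, h ≠ 0 → Nat.find hS ≤ Module.finrank k (LinearMap.range h) :=
    fun h hh h0 => Nat.find_min' hS ⟨h, hh, h0, rfl⟩
  have hpow : ∀ z, (f ^ p) z = (f ^ (p - 1)) (f z) := by
    intro z
    conv_lhs => rw [hp1, pow_succ]
    rfl
  have hinv : ∀ y ∈ LinearMap.range f, (f ^ (p - 1)) y ∈ LinearMap.range f := by
    rintro _ ⟨x, rfl⟩
    refine ⟨(f ^ (p - 1)) x, ?_⟩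
    have : f * f ^ (p - 1) = f ^ (p - 1) * f := (Commute.pow_self f (p - 1)).eq.symm
    exact congrArg (fun φ : Module.End k V => φ x) this
  let T : Module.End k (LinearMap.range f) := (f ^ (p - 1)).restrict hinv
  haveI : Nontrivial (LinearMap.range f) := by
    rw [Submodule.nontrivial_iff_ne_bot]
    intro h
    exact hf0 (LinearMap.range_eq_bot.mp h)
  obtain ⟨c, hc⟩ := Module.End.exists_eigenvalue T
  obtain ⟨v, hv⟩ := hc.exists_hasEigenvector
  have hTv : T v = c • v := hv.apply_eq_smul
  have hv0 : v ≠ 0 := hv.2
  obtain ⟨x, hx⟩ := v.2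
  have hfx : f x ≠ 0 := by
    intro h
    apply hv0
    ext
    rw [← hx, h]; rfl
  have hTv' : (f ^ (p - 1)) (f x) = c • f x := by
    have := congrArg (fun w : LinearMap.range f => (w : V)) hTv
    simp only [T, LinearMap.coe_restrict_apply, Submodule.coe_smul] at this
    rw [hx]; exact this
  set h : Module.End k V := f ^ p - c • f with hh
  have hhg : h ∈ g := g.sub_mem (hg f hfg) (g.smul_mem c hfg)
  have hhx : h x = 0 := by
    rw [hh, LinearMap.sub_apply, LinearMap.smul_apply, hpow, hTv', sub_self]
  have hker : LinearMap.ker f < LinearMap.ker h := by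
    apply lt_of_le_of_ne
    · intro z hz
      rw [LinearMap.mem_ker] at hz ⊢
      rw [hh, LinearMap.sub_apply, LinearMap.smul_apply, hpow, hz, map_zero, smul_zero, sub_self]
    · intro heq
      have : x ∈ LinearMap.ker f := by rw [heq, LinearMap.mem_ker]; exact hhx
      exact hfx (LinearMap.mem_ker.mp this)
  have hh0 : h = 0 := by
    by_contra hne0
    have h1 := hmin h hhg hne0
    have h2 := LinearMap.finrank_range_add_finrank_ker f
    have h3 := LinearMap.finrank_range_add_finrank_ker h
    have h4 := Submodule.finrank_lt_finrank_of_lt hker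
    omega
  exact ⟨f, hfg, hf0, c, sub_eq_zero.mp hh0⟩

end Groth.Agent.S17325
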