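import Groth.Statements.S17326
import Groth.Agent.S17335

set_option autoImplicit false
universe u v
open CAlg

namespace Groth.Agent.S17326

/-- Let k be an algebraically closed field of characteristic p > 0, A a commutative k-algebra which is
finite-dimensional as a k-vector space (a finite k-scheme X), and n ≥ 1. The n-th iterated relative
Frobenius morphism X → X^(p^n) is an isomorphism if and only if X is reduced; on rings: the map a ↦
a^(p^n) of A to itself (which is the ring homomorphism underlying the relative Frobenius, the twist
A^(p^n) having the same underlying ring as A) is bijective if and only if A is reduced. -/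
theorem result (k : Type u) [Field k] [IsAlgClosed k]
    (p : ℕ) [Fact p.Prime] [CharP k p] (A : Type v) [CommRing A] [Algebra k A] [Module.Finite k A]
    (n : ℕ) (hn : 1 ≤ n) :
    Function.Bijective (fun a : A => a ^ p ^ n) ↔ IsReduced A := by
  have hp : p.Prime := Fact.out
  have hq : 2 ≤ p ^ n := by
    calc 2 ≤ p := hp.two_le
      _ = p ^ 1 := (pow_one p).symm
      _ ≤ p ^ n := Nat.pow_le_pow_right hp.pos hn
  rcases subsingleton_or_nontrivial A with hA | hA
  · constructor
    · intro _; exact ⟨fun x _ => Subsingleton.elim _ _⟩
    · intro _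
      exact ⟨fun a b _ => Subsingleton.elim _ _, fun b => ⟨b, Subsingleton.elim _ _⟩⟩
  have hchar : CharP A p := charP_of_injective_algebraMap (algebraMap k A).injective p
  constructor
  · rintro ⟨hinj, -⟩
    refine ⟨fun a ha => ?_⟩
    obtain ⟨m, hm⟩ := ha
    have hiter : ∀ j : ℕ, ∀ x : A, (fun a : A => a ^ p ^ n)^[j] x = x ^ ((p ^ n) ^ j) := by
      intro j
      induction j with
      | zero => intro x; simp
      | succ j ih =>
        intro x
        rw [Function.iterate_succ_apply', ih, ← pow_mul, ← pow_succ]
    have hinj' := hinj.iterate m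
    apply hinj'
    rw [hiter, hiter]
    have hle : m ≤ (p ^ n) ^ m := by
      calc m ≤ 2 ^ m := Nat.lt_two_pow_self.le
        _ ≤ (p ^ n) ^ m := Nat.pow_le_pow_left hq m
    rw [pow_eq_zero_of_le hle hm]
    rcases Nat.eq_zero_or_pos m with h0 | h0
    · subst h0; simp at hm
    · rw [zero_pow (by positivity)]
  · intro hred
    obtain ⟨-, hsurj, hker⟩ := Groth.Agent.S17335.result k A
    constructor
    · intro a b hab
      simp only at hab
      have : (a - b) ^ p ^ n = 0 := by rw [sub_pow_char_pow, hab, sub_self]
      exact sub_eq_zero.1 (pow_eq_zero_iff (by positivity) |>.1 this)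
    · intro b
      have hc : ∀ f : A →ₐ[k] k, ∃ c : k, c ^ (p ^ n) = f b := fun f =>
        IsAlgClosed.exists_pow_nat_eq (f b) (by positivity)
      choose c hc using hc
      obtain ⟨a, ha⟩ := hsurj c
      refine ⟨a, ?_⟩
      simp only
      have hmem : a ^ p ^ n - b ∈ RingHom.ker (AlgHom.pi (R := k) (fun f : A →ₐ[k] k => f)) := by
        rw [RingHom.mem_ker, map_sub, map_pow, ha, sub_eq_zero]
        funext f
        change c f ^ p ^ n = f b
        exact hc f
      rw [hker, nilradical_eq_zero, Ideal.zero_eq_bot, Ideal.mem_bot] at hmem
      exact sub_eq_zero.1 hmem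

end Groth.Agent.S17326
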