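import Groth.Statements.S17327
import Mathlib
import Groth.Agent.Lib.helper8.FinAlg
import Groth.Agent.S17326
-- import your own Groth.Agent.* helpers here

set_option autoImplicit false
universe u v
open Hopf

namespace Groth.Agent.S17327

open TensorProduct in
/-- Right translation by a character `h`: `a ↦ ∑ h(a₂) a₁`. -/
noncomputable def helper8_tau (k : Type u) [Field k] (A : Type v) [CommRing A] [HopfAlgebra k A]
    (h : A →ₐ[k] k) : A →ₐ[k] A :=
  (Algebra.TensorProduct.rid k k A).toAlgHom.comp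
    ((Algebra.TensorProduct.map (AlgHom.id k A) h).comp (Bialgebra.comulAlgHom k A))

open TensorProduct in
theorem helper8_tau_apply (k : Type u) [Field k] (A : Type v) [CommRing A] [HopfAlgebra k A]
    {ι : Type*} (h : A →ₐ[k] k) (a : A) (𝓡 : Coalgebra.Repr k a ι) :
    helper8_tau k A h a = ∑ i ∈ 𝓡.index, h (𝓡.right i) • 𝓡.left i := by
  have h0 : Bialgebra.comulAlgHom k A a = ∑ i ∈ 𝓡.index, 𝓡.left i ⊗ₜ[k] 𝓡.right i := 𝓡.eq.symm
  simp only [helper8_tau, AlgHom.comp_apply, h0, map_sum]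
  apply Finset.sum_congr rfl
  intro i _
  simp

theorem helper8_counit_tau (k : Type u) [Field k] (A : Type v) [CommRing A] [HopfAlgebra k A]
    (h : A →ₐ[k] k) (a : A) :
    Coalgebra.counit (R := k) (helper8_tau k A h a) = h a := by
  rw [helper8_tau_apply k A h a (Coalgebra.Repr.arbitrary k a), map_sum]
  conv_rhs => rw [← Coalgebra.sum_counit_smul (Coalgebra.Repr.arbitrary k a), map_sum]
  apply Finset.sum_congr rfl
  intro i _
  rw [map_smul, map_smul, smul_eq_mul, smul_eq_mul, mul_comm]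

open TensorProduct in
theorem helper8_tau_comp (k : Type u) [Field k] (A : Type v) [CommRing A] [HopfAlgebra k A]
    (h : A →ₐ[k] k) (a : A) :
    helper8_tau k A (h.comp (HopfAlgebra.antipodeAlgHom k A)) (helper8_tau k A h a) = a := by
  set 𝓡 := Coalgebra.Repr.arbitrary k a with h𝓡
  let 𝓡₁ := fun i : A × A => Coalgebra.Repr.arbitrary k (𝓡.left i)
  let 𝓡₂ := fun i : A × A => Coalgebra.Repr.arbitrary k (𝓡.right i)
  have hco := Coalgebra.sum_tmul_tmul_eq 𝓡 𝓡₁ 𝓡₂
  set h' := h.comp (HopfAlgebra.antipodeAlgHom k A) with hh'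
  let ψ : A ⊗[k] A →ₗ[k] k :=
    LinearMap.mul' k k ∘ₗ TensorProduct.map h'.toLinearMap h.toLinearMap
  let Φ : A ⊗[k] (A ⊗[k] A) →ₗ[k] A :=
    TensorProduct.lift ((LinearMap.lsmul k A).flip.compl₂ ψ)
  have hΦ : ∀ x y z : A, Φ (x ⊗ₜ[k] (y ⊗ₜ[k] z)) = (h' y * h z) • x := by
    intro x y z
    simp [Φ, ψ]
  have h1 := congrArg Φ hco
  simp only [map_sum, hΦ] at h1
  rw [helper8_tau_apply k A h a 𝓡, map_sum]
  have h2 : ∀ i, helper8_tau k A h' (h (𝓡.right i) • 𝓡.left i) =
      ∑ j ∈ (𝓡₁ i).index, (h' ((𝓡₁ i).right j) * h (𝓡.right i)) • (𝓡₁ i).left j := by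
    intro i
    rw [map_smul, helper8_tau_apply k A h' _ (𝓡₁ i), Finset.smul_sum]
    apply Finset.sum_congr rfl
    intro j _
    rw [smul_smul, mul_comm]
  rw [Finset.sum_congr rfl (fun i _ => h2 i), h1]
  have h3 : ∀ i, ∑ j ∈ (𝓡₂ i).index, (h' ((𝓡₂ i).left j) * h ((𝓡₂ i).right j)) =
      Coalgebra.counit (R := k) (𝓡.right i) := by
    intro i
    have h4 := HopfAlgebra.sum_antipode_mul_eq_algebraMap_counit (𝓡₂ i)
    have h5 := congrArg h h4
    rw [map_sum, AlgHom.commutes] at h5
    have h5' : ∑ x ∈ (𝓡₂ i).index, h ((HopfAlgebraStruct.antipode k) ((𝓡₂ i).left x) *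
        (𝓡₂ i).right x) = Coalgebra.counit (R := k) (𝓡.right i) := h5
    rw [← h5']
    apply Finset.sum_congr rfl
    intro j _
    rw [map_mul]
    rfl
  calc ∑ i ∈ 𝓡.index, ∑ j ∈ (𝓡₂ i).index,
        (h' ((𝓡₂ i).left j) * h ((𝓡₂ i).right j)) • 𝓡.left i
      = ∑ i ∈ 𝓡.index, (∑ j ∈ (𝓡₂ i).index,
        (h' ((𝓡₂ i).left j) * h ((𝓡₂ i).right j))) • 𝓡.left i := by
        apply Finset.sum_congr rfl
        intro i _
        rw [Finset.sum_smul]
    _ = ∑ i ∈ 𝓡.index, Coalgebra.counit (R := k) (𝓡.right i) • 𝓡.left i := by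
        apply Finset.sum_congr rfl
        intro i _
        rw [h3]
    _ = a := by
        have h6 := congrArg (TensorProduct.rid k A) (Coalgebra.sum_tmul_counit_eq 𝓡)
        rw [map_sum] at h6
        simp only [TensorProduct.rid_tmul, one_smul] at h6
        exact h6


/-- Let k be an algebraically closed field of characteristic p > 0, A a commutative Hopf algebra over k
which is finite-dimensional as a k-vector space (a finite group scheme G = Spec A), I the
augmentation ideal (kernel of the counit) and n ≥ 1. The n-th Frobenius kernel G_n is the closed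
subgroup scheme cut out by the ideal generated by the p^n-th powers f^(p^n), f ∈ I; it is trivial,
i.e. that ideal equals I, if and only if G is reduced. -/
theorem result (k : Type u) [Field k] [IsAlgClosed k]
    (p : ℕ) [Fact p.Prime] [CharP k p] (A : Type v) [CommRing A] [HopfAlgebra k A] [Module.Finite k A]
    (n : ℕ) (hn : 1 ≤ n) :
    Ideal.span ((fun f : A => f ^ p ^ n) '' (RingHom.ker (Bialgebra.counitAlgHom k A) : Set A)) =
      RingHom.ker (Bialgebra.counitAlgHom k A) ↔ IsReduced A := by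
  classical
  have hp := (Fact.out : p.Prime)
  have hpn : 2 ≤ p ^ n := Nat.one_lt_pow (by omega) hp.one_lt
  haveI : IsNoetherianRing A := IsNoetherianRing.of_finite k A
  have hIdef : ∀ a : A, a ∈ RingHom.ker (Bialgebra.counitAlgHom k A) ↔
      Coalgebra.counit (R := k) a = 0 := fun a => Iff.rfl
  constructor
  · intro hspan
    -- Step 1
    have hI2 : RingHom.ker (Bialgebra.counitAlgHom k A) ≤
        RingHom.ker (Bialgebra.counitAlgHom k A) * RingHom.ker (Bialgebra.counitAlgHom k A) := by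
      conv_lhs => rw [← hspan]
      rw [Ideal.span_le]
      rintro _ ⟨f, hf, rfl⟩
      have h1 := Ideal.pow_mem_pow hf (p ^ n)
      have h2 := Ideal.pow_le_pow_right (I := RingHom.ker (Bialgebra.counitAlgHom k A)) hpn h1
      rwa [pow_two] at h2
    -- Step 2
    have hmax : ∀ 𝔫 : Ideal A, 𝔫.IsMaximal → 𝔫 ≤ 𝔫 * 𝔫 := by
      intro 𝔫 h𝔫
      haveI := h𝔫.isPrime
      obtain ⟨h, hh⟩ := Groth.Agent.Lib.helper8.exists_algHom_ker_eq_of_isPrime k A 𝔫
      have hinj : Function.Injective (helper8_tau k A h) :=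
        Function.LeftInverse.injective (helper8_tau_comp k A h)
      have hsurj : Function.Surjective (helper8_tau k A h) :=
        (LinearMap.injective_iff_surjective (f := (helper8_tau k A h).toLinearMap)).mp hinj
      have hmem : ∀ x : A, helper8_tau k A h x ∈ RingHom.ker (Bialgebra.counitAlgHom k A) →
          x ∈ 𝔫 := by
        intro x hx
        rw [hIdef, helper8_counit_tau] at hx
        rw [← hh, RingHom.mem_ker]
        exact hx
      have key : ∀ y ∈ RingHom.ker (Bialgebra.counitAlgHom k A) *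
          RingHom.ker (Bialgebra.counitAlgHom k A), ∃ x ∈ 𝔫 * 𝔫, helper8_tau k A h x = y := by
        intro y hy
        refine Submodule.mul_induction_on hy ?_ ?_
        · intro a ha b hb
          obtain ⟨a', rfl⟩ := hsurj a
          obtain ⟨b', rfl⟩ := hsurj b
          exact ⟨a' * b', Ideal.mul_mem_mul (hmem a' ha) (hmem b' hb), map_mul _ _ _⟩
        · rintro y₁ y₂ ⟨x₁, hx₁, rfl⟩ ⟨x₂, hx₂, rfl⟩
          exact ⟨x₁ + x₂, Ideal.add_mem _ hx₁ hx₂, map_add _ _ _⟩
      intro x hx
      have hx' : helper8_tau k A h x ∈ RingHom.ker (Bialgebra.counitAlgHom k A) := by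
        rw [hIdef, helper8_counit_tau]
        rw [← hh, RingHom.mem_ker] at hx
        exact hx
      obtain ⟨x', hx'mem, hx'eq⟩ := key _ (hI2 hx')
      rw [← hinj hx'eq]
      exact hx'mem
    -- Step 3
    refine ⟨fun x hx => ?_⟩
    by_contra hx0
    let J : Ideal A := LinearMap.ker (LinearMap.toSpanSingleton A A x)
    have hJ : J ≠ ⊤ := by
      intro hJ
      have h1 : (1 : A) ∈ J := by rw [hJ]; trivial
      rw [LinearMap.mem_ker, LinearMap.toSpanSingleton_apply, one_smul] at h1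
      exact hx0 h1
    obtain ⟨𝔫, h𝔫, hJ𝔫⟩ := Ideal.exists_le_maximal J hJ
    have hidem : IsIdempotentElem 𝔫 := le_antisymm Ideal.mul_le_left (hmax 𝔫 h𝔫)
    obtain ⟨e, he, h𝔫e⟩ := (Ideal.isIdempotentElem_iff_of_fg 𝔫 (IsNoetherian.noetherian 𝔫)).mp hidem
    have hx𝔫 : x ∈ 𝔫 := by
      obtain ⟨m, hm⟩ := hx
      exact h𝔫.isPrime.mem_of_pow_mem m (by rw [hm]; exact 𝔫.zero_mem)
    rw [h𝔫e, Ideal.mem_span_singleton'] at hx𝔫
    obtain ⟨c, rfl⟩ := hx𝔫
    have h1e : (1 - e) ∈ J := by
      rw [LinearMap.mem_ker, LinearMap.toSpanSingleton_apply, smul_eq_mul]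
      have : (1 - e) * (c * e) = c * (e - e * e) := by ring
      rw [this, he.eq, sub_self, mul_zero]
    have he𝔫 : e ∈ 𝔫 := by rw [h𝔫e]; exact Ideal.mem_span_singleton_self e
    have h1 : (1 : A) ∈ 𝔫 := by
      have := 𝔫.add_mem (hJ𝔫 h1e) he𝔫
      rwa [sub_add_cancel] at this
    exact h𝔫.ne_top ((Ideal.eq_top_iff_one 𝔫).mpr h1)
  · intro hred
    have hbij := (Groth.Agent.S17326.result k p A n hn).mpr hred
    apply le_antisymm
    · rw [Ideal.span_le]
      rintro _ ⟨f, hf, rfl⟩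
      exact Ideal.pow_mem_of_mem _ hf _ (by positivity)
    · intro f hf
      obtain ⟨g, hg⟩ := hbij.2 f
      have hg' : g ^ p ^ n = f := hg
      have hgI : g ∈ RingHom.ker (Bialgebra.counitAlgHom k A) := by
        rw [RingHom.mem_ker] at hf ⊢
        rw [← hg', map_pow] at hf
        exact pow_eq_zero_iff (by positivity) |>.mp hf
      rw [← hg']
      exact Ideal.subset_span ⟨g, hgI, rfl⟩

end Groth.Agent.S17327
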