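import Groth.Statements.S1733
import Mathlib

set_option autoImplicit false
universe u
open LocCoh

namespace Groth.Agent.S1733

/-- Let f_1, …, f_r and g be elements of a ring (r ≥ 1). If the family f_1, …, f_{r-1}, f_r g is
independent (every linear relation has coefficients in the ideal the family generates), then f_1, …,
f_r is independent. -/
theorem result (A : Type u) [CommRing A] (r : ℕ) (f : Fin (r + 1) → A) (g : A) (h : Dual2.Independent (Function.update f (Fin.last r) (f (Fin.last r) * g))) : Dual2.Independent f := by
  intro a ha
  have hsum : ∀ c : Fin (r + 1) → A,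
      ∑ i, c i * Function.update f (Fin.last r) (f (Fin.last r) * g) i =
      ∑ i : Fin r, c i.castSucc * f i.castSucc + c (Fin.last r) * (f (Fin.last r) * g) := by
    intro c
    rw [Fin.sum_univ_castSucc]
    congr 1
    · refine Finset.sum_congr rfl fun i _ => ?_
      rw [Function.update_of_ne (Fin.castSucc_lt_last i).ne]
    · rw [Function.update_self]
  have hsum' : ∀ c : Fin (r + 1) → A, ∑ i, c i * f i =
      ∑ i : Fin r, c i.castSucc * f i.castSucc + c (Fin.last r) * f (Fin.last r) :=
    fun c => Fin.sum_univ_castSucc _
  have hJ : Ideal.span (Set.range (Function.update f (Fin.last r) (f (Fin.last r) * g))) ≤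
      Ideal.span (Set.range f) := by
    rw [Ideal.span_le]
    rintro _ ⟨i, rfl⟩
    by_cases hi : i = Fin.last r
    · rw [hi, Function.update_self]
      exact Ideal.mul_mem_right _ _ (Ideal.subset_span ⟨_, rfl⟩)
    · rw [Function.update_of_ne hi]
      exact Ideal.subset_span ⟨_, rfl⟩
  have ha0 := ha
  rw [hsum'] at ha0
  have h1 : a (Fin.last r) ∈
      Ideal.span (Set.range (Function.update f (Fin.last r) (f (Fin.last r) * g))) := by
    have h2 := h (Fin.snoc (α := fun _ => A) (fun i : Fin r => a i.castSucc * g) (a (Fin.last r)))
      (by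
        rw [hsum]
        simp only [Fin.snoc_castSucc, Fin.snoc_last]
        have e : ∑ i : Fin r, a i.castSucc * g * f i.castSucc +
            a (Fin.last r) * (f (Fin.last r) * g) =
            g * (∑ i : Fin r, a i.castSucc * f i.castSucc + a (Fin.last r) * f (Fin.last r)) := by
          rw [mul_add, Finset.mul_sum]
          congr 1
          · exact Finset.sum_congr rfl fun i _ => by ring
          · ring
        rw [e, ha0, mul_zero]) (Fin.last r)
    simpa only [Fin.snoc_last] using h2
  obtain ⟨b, hb⟩ := (Submodule.mem_span_range_iff_exists_fun A).mp h1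
  simp only [smul_eq_mul] at hb
  rw [hsum] at hb
  have h3 := h (Fin.snoc (α := fun _ => A)
    (fun i : Fin r => a i.castSucc + b i.castSucc * f (Fin.last r)) (b (Fin.last r) * f (Fin.last r)))
    (by
      rw [hsum]
      simp only [Fin.snoc_castSucc, Fin.snoc_last]
      have e : ∑ i : Fin r, (a i.castSucc + b i.castSucc * f (Fin.last r)) * f i.castSucc +
          b (Fin.last r) * f (Fin.last r) * (f (Fin.last r) * g) =
          (∑ i : Fin r, a i.castSucc * f i.castSucc) + f (Fin.last r) *
            (∑ i : Fin r, b i.castSucc * f i.castSucc + b (Fin.last r) * (f (Fin.last r) * g)) := by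
        rw [mul_add, Finset.mul_sum, ← add_assoc, ← Finset.sum_add_distrib]
        congr 1
        · exact Finset.sum_congr rfl fun i _ => by ring
        · ring
      rw [e, hb, mul_comm (f (Fin.last r)), ha0])
  intro i
  refine Fin.lastCases ?_ (fun j => ?_) i
  · exact hJ h1
  · have h4 := h3 j.castSucc
    simp only [Fin.snoc_castSucc] at h4
    have h5 : a j.castSucc = (a j.castSucc + b j.castSucc * f (Fin.last r)) -
        b j.castSucc * f (Fin.last r) := by ring
    rw [h5]
    exact Ideal.sub_mem _ (hJ h4) (Ideal.mul_mem_left _ _ (Ideal.subset_span ⟨_, rfl⟩))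

end Groth.Agent.S1733
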