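import Groth.Statements.S17332
import Groth.Agent.Lib.helper8.FinAlg

set_option autoImplicit false
universe u v w
open CAlg

namespace Groth.Agent.S17332

open Groth.Agent.Lib.helper8 in
theorem helper8_algHom_pi_eq_eval (k : Type u) [Field k] (F : Type w) [Finite F]
    (χ : (F → k) →ₐ[k] k) : ∃ i : F, ∀ g : F → k, χ g = g i := by
  have hmax := ker_algHom_isMaximal k (F → k) χ
  obtain ⟨i, q, hq⟩ := PrimeSpectrum.exists_comap_evalRingHom_eq
    (R := fun _ : F => k) ⟨RingHom.ker χ, hmax.isPrime⟩
  refine ⟨i, ?_⟩
  have hq0 : q.asIdeal = ⊥ := by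
    rcases Ideal.eq_bot_or_top q.asIdeal with h | h
    · exact h
    · exact absurd h q.isPrime.ne_top
  have hker : RingHom.ker χ = RingHom.ker (Pi.evalAlgHom k (fun _ : F => k) i) := by
    have h1 := congrArg PrimeSpectrum.asIdeal hq
    simp only [PrimeSpectrum.comap_asIdeal] at h1
    rw [← h1, hq0]
    rfl
  have := algHom_eq_of_ker_eq k (F → k) χ (Pi.evalAlgHom k (fun _ : F => k) i) hker
  intro g
  rw [this]; rfl

/-- Let k be a field, E and F finite sets, and O(E), O(F) the k-algebras of k-valued functions with
pointwise operations. Then every k-algebra homomorphism u : O(F) → O(E) is pull-back along a unique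
map φ : E → F, i.e. u(g) = g ∘ φ for all g. (In the source k is algebraically closed; the printed
argument only uses that k is a field.) -/
theorem result (k : Type u) [Field k] (E : Type v) [Finite E]
    (F : Type w) [Finite F] (u : (F → k) →ₐ[k] (E → k)) :
    ∃! φ : E → F, ∀ g : F → k, u g = g ∘ φ := by
  classical
  have h : ∀ e : E, ∃ i : F, ∀ g : F → k, u g e = g i := by
    intro e
    exact helper8_algHom_pi_eq_eval k F ((Pi.evalAlgHom k (fun _ : E => k) e).comp u)
  choose φ hφ using h
  refine ⟨φ, ?_, ?_⟩
  · intro g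
    funext e
    exact hφ e g
  · intro ψ hψ
    funext e
    have h1 := congrFun (hψ (Pi.single (φ e) 1)) e
    rw [hφ e] at h1
    simp only [Pi.single_eq_same, Function.comp_apply] at h1
    by_contra hne
    rw [Pi.single_eq_of_ne hne] at h1
    exact one_ne_zero h1

end Groth.Agent.S17332
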