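import Groth.Statements.S17333
import Mathlib

set_option autoImplicit false
universe u v w
open CAlg

namespace Groth.Agent.S17333

/-- Let k be a field and A = B × C a decomposable commutative k-algebra. Then the natural map Der(B) ×
Der(C) → Der(A) is bijective: every k-derivation D : A → A is (b, c) ↦ (D₁ b, D₂ c) for a unique
pair of k-derivations D₁ : B → B, D₂ : C → C. Compatibility with brackets is not stated. (The
published statement takes k algebraically closed; this row takes any field.) -/
theorem result (k : Type u) [Field k] (B : Type v) [CommRing B] [Algebra k B]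
    (C : Type w) [CommRing C] [Algebra k C] (D : Derivation k (B × C) (B × C)) :
    ∃! P : Derivation k B B × Derivation k C C, ∀ (b : B) (c : C), D (b, c) = (P.1 b, P.2 c) := by
  have h1 : ∀ b : B, (D (b, 0)).2 = 0 := by
    intro b
    have := D.leibniz ((1 : B), (0 : C)) ((b, 0) : B × C)
    have h2 : ((1 : B), (0 : C)) * (b, 0) = (b, 0) := by ext <;> simp
    rw [h2] at this
    have h3 := congrArg Prod.snd this
    simpa using h3
  have h2 : ∀ c : C, (D (0, c)).1 = 0 := by
    intro c
    have := D.leibniz ((0 : B), (1 : C)) ((0, c) : B × C)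
    have h2 : ((0 : B), (1 : C)) * (0, c) = (0, c) := by ext <;> simp
    rw [h2] at this
    have h3 := congrArg Prod.fst this
    simpa using h3
  let D₁ : Derivation k B B := Derivation.mk'
    ((LinearMap.fst k B C) ∘ₗ D.toLinearMap ∘ₗ (LinearMap.inl k B C)) (by
      intro a b
      simp only [LinearMap.coe_comp, Function.comp_apply, LinearMap.inl_apply,
        LinearMap.fst_apply, Derivation.coeFn_coe]
      have : ((a * b, 0) : B × C) = (a, 0) * (b, 0) := by ext <;> simp
      rw [this, D.leibniz]
      simp)
  let D₂ : Derivation k C C := Derivation.mk'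
    ((LinearMap.snd k B C) ∘ₗ D.toLinearMap ∘ₗ (LinearMap.inr k B C)) (by
      intro a b
      simp only [LinearMap.coe_comp, Function.comp_apply, LinearMap.inr_apply,
        LinearMap.snd_apply, Derivation.coeFn_coe]
      have : ((0, a * b) : B × C) = (0, a) * (0, b) := by ext <;> simp
      rw [this, D.leibniz]
      simp)
  have hD₁ : ∀ b, D₁ b = (D (b, 0)).1 := fun b => rfl
  have hD₂ : ∀ c, D₂ c = (D (0, c)).2 := fun c => rfl
  refine ⟨(D₁, D₂), ?_, ?_⟩
  · intro b c
    have : ((b, c) : B × C) = (b, 0) + (0, c) := by ext <;> simp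
    rw [this, map_add]
    ext
    · simp [hD₁, h2]
    · simp [hD₂, h1]
  · rintro ⟨P₁, P₂⟩ hP
    simp only at hP
    ext x
    · simp only
      rw [hD₁, hP]
    · simp only
      rw [hD₂, hP]

end Groth.Agent.S17333
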