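import Groth.Statements.S17334
import Mathlib

set_option autoImplicit false
universe u v
open CAlg

namespace Groth.Agent.S17334

/-- Let k be a field and A a nonzero finite-dimensional commutative k-algebra. Then A is local if and
only if its only idempotents are 0 and 1. -/
theorem result (k : Type u) [Field k]
    (A : Type v) [CommRing A] [Algebra k A] [Module.Finite k A] [Nontrivial A] :
    (∀ e : A, IsIdempotentElem e → e = 0 ∨ e = 1) ↔ IsLocalRing A := by
  constructor
  · intro h
    have hArt : IsArtinianRing A := IsArtinianRing.of_finite k A
    apply IsLocalRing.of_isUnit_or_isUnit_one_sub_self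
    intro a
    obtain ⟨n, y, hy⟩ := IsArtinian.exists_pow_succ_smul_dvd a (1 : A)
    simp only [smul_eq_mul, mul_one] at hy
    have key : ∀ m : ℕ, a ^ (n + m) * y ^ m = a ^ n := by
      intro m
      induction m with
      | zero => simp
      | succ m ih =>
        calc a ^ (n + (m + 1)) * y ^ (m + 1) = a ^ m * (a ^ (n + 1) * y) * y ^ m := by ring
          _ = a ^ (n + m) * y ^ m := by rw [hy]; ring
          _ = a ^ n := ih
    have hidem : IsIdempotentElem (a ^ n * y ^ n) := by
      unfold IsIdempotentElem
      calc a ^ n * y ^ n * (a ^ n * y ^ n) = (a ^ (n + n) * y ^ n) * y ^ n := by ring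
        _ = a ^ n * y ^ n := by rw [key n]
    rcases h _ hidem with h0 | h1
    · right
      have hnil : IsNilpotent a := ⟨n, by rw [← key n, pow_add, mul_assoc, h0, mul_zero]⟩
      exact hnil.isUnit_one_sub
    · left
      rcases Nat.eq_zero_or_pos n with hn | hn
      · subst hn
        simp at hy
        exact IsUnit.of_mul_eq_one _ hy
      · have : a * (a ^ (n - 1) * y ^ n) = 1 := by
          rw [← mul_assoc, ← pow_succ', Nat.sub_add_cancel hn, h1]
        exact IsUnit.of_mul_eq_one _ this
  · intro h e he
    rcases IsLocalRing.isUnit_or_isUnit_one_sub_self e with hu | hu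
    · right
      have : e * (e - 1) = 0 := by rw [mul_sub, he.eq, mul_one, sub_self]
      have := (hu.mul_right_eq_zero).1 this
      exact sub_eq_zero.1 this
    · left
      have : (1 - e) * e = 0 := by rw [sub_mul, he.eq, one_mul, sub_self]
      exact (hu.mul_right_eq_zero).1 this

end Groth.Agent.S17334
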