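import Groth.Statements.S1734
import Mathlib

set_option autoImplicit false
universe u
open LocCoh

namespace Groth.Agent.S1734

/-- Let f_1, …, f_r, g be elements of a ring A (r ≥ 1) such that f_1, …, f_{r-1}, f_r g is independent
and A/(f_1, …, f_{r-1}, f_r g) has finite length. Then length A/(f_1, …, f_{r-1}, f_r g) = length
A/(f_1, …, f_r) + length A/(f_1, …, f_{r-1}, g). -/
theorem result (A : Type u) [CommRing A] (r : ℕ) (f : Fin (r + 1) → A) (g : A) (h : Dual2.Independent (Function.update f (Fin.last r) (f (Fin.last r) * g))) (hfin : IsFiniteLength A (A ⧸ Ideal.span (Set.range (Function.update f (Fin.last r) (f (Fin.last r) * g))))) : Module.length A (A ⧸ Ideal.span (Set.range (Function.update f (Fin.last r) (f (Fin.last r) * g)))) = Module.length A (A ⧸ Ideal.span (Set.range f)) + Module.length A (A ⧸ Ideal.span (Set.range (Function.update f (Fin.last r) g))) := by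
  classical
  obtain ⟨L, hL⟩ : ∃ L, L = Fin.last r := ⟨_, rfl⟩
  obtain ⟨F, hF⟩ : ∃ F, F = Function.update f L (f L * g) := ⟨_, rfl⟩
  obtain ⟨G, hG⟩ : ∃ G, G = Function.update f L g := ⟨_, rfl⟩
  rw [← hL] at h ⊢
  rw [← hF] at h ⊢
  rw [← hG]
  have hFL : F L = f L * g := by rw [hF, Function.update_self]
  have hGL : G L = g := by rw [hG, Function.update_self]
  have hFne : ∀ i, i ≠ L → F i = f i := fun i hi => by rw [hF, Function.update_of_ne hi]
  have hGne : ∀ i, i ≠ L → G i = f i := fun i hi => by rw [hG, Function.update_of_ne hi]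
  have hF_le_f : Ideal.span (Set.range F) ≤ Ideal.span (Set.range f) := by
    rw [Ideal.span_le]
    rintro _ ⟨i, rfl⟩
    by_cases hi : i = L
    · rw [hi, hFL]; exact Ideal.mul_mem_right _ _ (Ideal.subset_span ⟨L, rfl⟩)
    · rw [hFne i hi]; exact Ideal.subset_span ⟨i, rfl⟩
  have hF_le_G : Ideal.span (Set.range F) ≤ Ideal.span (Set.range G) := by
    rw [Ideal.span_le]
    rintro _ ⟨i, rfl⟩
    by_cases hi : i = L
    · rw [hi, hFL]; exact Ideal.mul_mem_left _ _ (Ideal.subset_span ⟨L, hGL⟩)
    · rw [hFne i hi, ← hGne i hi]; exact Ideal.subset_span ⟨i, rfl⟩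
  have hmap : Ideal.span (Set.range G) ≤
      Submodule.comap (LinearMap.mulLeft A (f L)) (Ideal.span (Set.range F)) := by
    rw [Ideal.span_le]
    rintro _ ⟨i, rfl⟩
    show f L * G i ∈ Ideal.span (Set.range F)
    by_cases hi : i = L
    · rw [hi, hGL, ← hFL]; exact Ideal.subset_span ⟨L, rfl⟩
    · rw [hGne i hi, ← hFne i hi]; exact Ideal.mul_mem_left _ _ (Ideal.subset_span ⟨i, rfl⟩)
  obtain ⟨φ, hφ⟩ : ∃ φ : (A ⧸ Ideal.span (Set.range G)) →ₗ[A] (A ⧸ Ideal.span (Set.range F)),
      ∀ x : A, φ (Ideal.Quotient.mk _ x) = Ideal.Quotient.mk _ (f L * x) :=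
    ⟨Submodule.mapQ _ _ (LinearMap.mulLeft A (f L)) hmap, fun x => rfl⟩
  have hφinj : Function.Injective φ := by
    rw [← LinearMap.ker_eq_bot, eq_bot_iff]
    intro y hy
    obtain ⟨x, rfl⟩ := Ideal.Quotient.mk_surjective y
    rw [LinearMap.mem_ker, hφ x, Ideal.Quotient.eq_zero_iff_mem] at hy
    obtain ⟨c, hc⟩ := Ideal.mem_span_range_iff_exists_fun.mp hy
    have hrel : ∑ i, (g * c i - (if i = L then x else 0)) * F i = 0 := by
      have h1 : ∀ i, (g * c i - (if i = L then x else 0)) * F i =
          g * (c i * F i) - (if i = L then x * F i else 0) := by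
        intro i
        split_ifs <;> ring
      rw [Finset.sum_congr rfl (fun i _ => h1 i), Finset.sum_sub_distrib, ← Finset.mul_sum, hc,
        Finset.sum_ite_eq' Finset.univ L (fun i => x * F i), if_pos (Finset.mem_univ L), hFL]
      ring
    have hmem : g * c L - (if L = L then x else 0) ∈ Ideal.span (Set.range F) :=
      h (fun i => g * c i - (if i = L then x else 0)) hrel L
    rw [if_pos rfl] at hmem
    have h2 : g * c L ∈ Ideal.span (Set.range G) :=
      Ideal.mul_mem_right _ _ (Ideal.subset_span ⟨L, hGL⟩)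
    have h3 := (Ideal.span (Set.range G)).sub_mem h2 (hF_le_G hmem)
    rw [Submodule.mem_bot, Ideal.Quotient.eq_zero_iff_mem]
    simpa using h3
  have hexact : Function.Exact φ (Submodule.factor hF_le_f) := by
    intro y
    obtain ⟨x, rfl⟩ := Ideal.Quotient.mk_surjective y
    have hgx : Submodule.factor hF_le_f (Ideal.Quotient.mk _ x) = Ideal.Quotient.mk _ x :=
      Submodule.factor_mk hF_le_f x
    rw [hgx, Ideal.Quotient.eq_zero_iff_mem]
    constructor
    · intro hx
      obtain ⟨c, hc⟩ := Ideal.mem_span_range_iff_exists_fun.mp hx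
      refine ⟨Ideal.Quotient.mk _ (c L), ?_⟩
      rw [hφ (c L), Ideal.Quotient.eq]
      have hsplit1 : ∑ i, c i * f i = c L * f L + ∑ i ∈ Finset.univ.erase L, c i * f i :=
        (Finset.add_sum_erase _ (fun i => c i * f i) (Finset.mem_univ L)).symm
      have hsum_mem : ∑ i ∈ Finset.univ.erase L, c i * f i ∈ Ideal.span (Set.range F) := by
        refine Ideal.sum_mem _ (fun i hi => ?_)
        have hiL : i ≠ L := Finset.ne_of_mem_erase hi
        rw [← hFne i hiL]
        exact Ideal.mul_mem_left _ _ (Ideal.subset_span ⟨i, rfl⟩)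
      have h5 : f L * c L - x = -(∑ i ∈ Finset.univ.erase L, c i * f i) := by
        rw [← hc, hsplit1]; ring
      rw [h5]
      exact (Ideal.span (Set.range F)).neg_mem hsum_mem
    · rintro ⟨z, hz⟩
      obtain ⟨c, rfl⟩ := Ideal.Quotient.mk_surjective z
      rw [hφ c] at hz
      have h1 : f L * c - x ∈ Ideal.span (Set.range F) := (Ideal.Quotient.eq).mp hz
      have h2 := hF_le_f h1
      have h3 : f L * c ∈ Ideal.span (Set.range f) :=
        Ideal.mul_mem_right _ _ (Ideal.subset_span ⟨L, rfl⟩)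
      have h4 := (Ideal.span (Set.range f)).sub_mem h3 h2
      simpa using h4
  have hadd := Module.length_eq_add_of_exact φ (Submodule.factor hF_le_f) hφinj
    (Submodule.factor_surjective _) hexact
  rw [hadd, add_comm]

end Groth.Agent.S1734
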