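import Groth.Statements.S17414
import Mathlib
import Groth.Agent.Lib.helper8.PrymLib
-- import your own Groth.Agent.* helpers here

set_option autoImplicit false
universe u
open Prym5

namespace Groth.Agent.S17414

/-- Over a perfect field K of characteristic different from 2 and 3, let G₂, G₃, G₄ be polynomials in x,
y, let h = G₂ z² + 2 G₃ z + G₄ in K[x, y, z] and D = G₃² − G₂ G₄ in K[x, y]. Suppose h ∈ (x, y, z) —
the origin Q lies on the surface h = 0 — and D ∈ (x, y) — the image of Q under (x, y, z) ↦ (x, y)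
lies on the discriminant curve D = 0. Then D ∈ (x, y)², i.e. the image point is singular on the
discriminant curve, if and only if either h ∈ (x, y, z)², i.e. Q is a singular point of the surface,
or G₂, G₃, G₄ ∈ (x, y), i.e. Q lies on all three cones G₂ = G₃ = G₄ = 0. (Affine-local form, in a
chart where the node projected from sits at infinity on the z-axis and Q at the origin, of the
published claim: for a point Q ≠ P of the nodal quartic whose projection lies on the branch sextic,
the projection is singular on the sextic exactly when Q is singular on the quartic or lies on the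
cones u₂ = u₃ = u₄ = 0.) -/
theorem result (K : Type u) [Field K] [PerfectField K]
    (h2 : (2 : K) ≠ 0) (h3 : (3 : K) ≠ 0) (G₂ G₃ G₄ : MvPolynomial (Fin 2) K)
    (hQ : MvPolynomial.rename (Fin.castSucc : Fin 2 → Fin 3) G₂ * MvPolynomial.X (2 : Fin 3) ^ 2
        + 2 * MvPolynomial.rename (Fin.castSucc : Fin 2 → Fin 3) G₃ * MvPolynomial.X (2 : Fin 3)
        + MvPolynomial.rename (Fin.castSucc : Fin 2 → Fin 3) G₄
        ∈ Ideal.span (Set.range (MvPolynomial.X : Fin 3 → MvPolynomial (Fin 3) K)))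
    (hD : G₃ ^ 2 - G₂ * G₄ ∈ Ideal.span (Set.range (MvPolynomial.X : Fin 2 → MvPolynomial (Fin 2) K))) :
    G₃ ^ 2 - G₂ * G₄ ∈ (Ideal.span (Set.range (MvPolynomial.X : Fin 2 → MvPolynomial (Fin 2) K))) ^ 2 ↔
      (MvPolynomial.rename (Fin.castSucc : Fin 2 → Fin 3) G₂ * MvPolynomial.X (2 : Fin 3) ^ 2
          + 2 * MvPolynomial.rename (Fin.castSucc : Fin 2 → Fin 3) G₃ * MvPolynomial.X (2 : Fin 3)
          + MvPolynomial.rename (Fin.castSucc : Fin 2 → Fin 3) G₄
          ∈ (Ideal.span (Set.range (MvPolynomial.X : Fin 3 → MvPolynomial (Fin 3) K))) ^ 2 ∨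
        (G₂ ∈ Ideal.span (Set.range (MvPolynomial.X : Fin 2 → MvPolynomial (Fin 2) K)) ∧
          G₃ ∈ Ideal.span (Set.range (MvPolynomial.X : Fin 2 → MvPolynomial (Fin 2) K)) ∧
          G₄ ∈ Ideal.span (Set.range (MvPolynomial.X : Fin 2 → MvPolynomial (Fin 2) K)))) := by
  have hg4 : MvPolynomial.constantCoeff G₄ = 0 := by
    have h1 := (H8Prym.mem_vars_iff _).1 hQ
    rw [MvPolynomial.constantCoeff_eq] at h1 ⊢
    have h5 := H8Prym.coeffA G₂ G₃ G₄ 0
    rw [Finsupp.mapDomain_zero] at h5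
    rw [← h5]; exact h1
  have hG4 : G₄ ∈ Ideal.span (Set.range (MvPolynomial.X : Fin 2 → MvPolynomial (Fin 2) K)) :=
    (H8Prym.mem_vars_iff _).2 hg4
  have hg3 : MvPolynomial.constantCoeff G₃ = 0 := by
    have h1 := (H8Prym.mem_vars_iff _).1 hD
    rw [map_sub, map_mul, map_pow, hg4, mul_zero, sub_zero] at h1
    exact pow_eq_zero_iff (two_ne_zero) |>.1 h1
  have hG3 : G₃ ∈ Ideal.span (Set.range (MvPolynomial.X : Fin 2 → MvPolynomial (Fin 2) K)) :=
    (H8Prym.mem_vars_iff _).2 hg3
  constructor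
  · intro hDD
    by_cases hg2 : MvPolynomial.constantCoeff G₂ = 0
    · right
      exact ⟨(H8Prym.mem_vars_iff _).2 hg2, hG3, hG4⟩
    · left
      have h24 : G₂ * G₄ ∈
          (Ideal.span (Set.range (MvPolynomial.X : Fin 2 → MvPolynomial (Fin 2) K))) ^ 2 := by
        have h6 : G₂ * G₄ = G₃ ^ 2 - (G₃ ^ 2 - G₂ * G₄) := by ring
        rw [h6]
        exact Ideal.sub_mem _ (Ideal.pow_mem_pow hG3 2) hDD
      have h7 : G₂ - MvPolynomial.C (MvPolynomial.constantCoeff G₂) ∈
          Ideal.span (Set.range (MvPolynomial.X : Fin 2 → MvPolynomial (Fin 2) K)) := by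
        rw [H8Prym.mem_vars_iff, map_sub, MvPolynomial.constantCoeff_C, sub_self]
      have h8 : MvPolynomial.C (MvPolynomial.constantCoeff G₂) * G₄ ∈
          (Ideal.span (Set.range (MvPolynomial.X : Fin 2 → MvPolynomial (Fin 2) K))) ^ 2 := by
        have h9 : MvPolynomial.C (MvPolynomial.constantCoeff G₂) * G₄ =
            G₂ * G₄ - (G₂ - MvPolynomial.C (MvPolynomial.constantCoeff G₂)) * G₄ := by ring
        rw [h9]
        refine Ideal.sub_mem _ h24 ?_
        rw [pow_two]
        exact Ideal.mul_mem_mul h7 hG4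
      have h10 : G₄ ∈
          (Ideal.span (Set.range (MvPolynomial.X : Fin 2 → MvPolynomial (Fin 2) K))) ^ 2 := by
        have h11 : G₄ = MvPolynomial.C (MvPolynomial.constantCoeff G₂)⁻¹ *
            (MvPolynomial.C (MvPolynomial.constantCoeff G₂) * G₄) := by
          rw [← mul_assoc, ← MvPolynomial.C_mul, inv_mul_cancel₀ hg2, MvPolynomial.C_1, one_mul]
        rw [h11]
        exact Ideal.mul_mem_left _ _ h8
      exact H8Prym.core3 G₂ G₃ G₄ h10 hG3
  · rintro (hH | ⟨hG2, _, _⟩)
    · obtain ⟨h4, h3'⟩ := H8Prym.core1 G₂ G₃ G₄ h2 hH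
      exact H8Prym.core2 G₂ G₃ G₄ h4 h3'
    · refine Ideal.sub_mem _ (Ideal.pow_mem_pow hG3 2) ?_
      rw [pow_two]
      exact Ideal.mul_mem_mul hG2 hG4

end Groth.Agent.S17414
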