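import Groth.Statements.S17444
import Mathlib

set_option autoImplicit false
universe u v
open SSRed

namespace Groth.Agent.S17444

/-- Let K be a field of characteristic zero, V a K-vector space and g a K-linear endomorphism of V such
that g - 1 is nilpotent (a unipotent automorphism). Then for every integer n > 0 the endomorphisms
gⁿ - 1 and g - 1 have the same kernel: a vector fixed by gⁿ is fixed by g. (The published statement
assumes V finite-dimensional; this row allows any V.) -/
theorem result (K : Type u) (V : Type v) [Field K] [CharZero K]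
    [AddCommGroup V] [Module K V] (g : Module.End K V) (hg : IsNilpotent (g - 1)) (n : ℕ) (hn : 0 < n) :
    LinearMap.ker (g ^ n - 1) = LinearMap.ker (g - 1) := by
  classical
  let P : Polynomial K := ∑ i ∈ Finset.range n, Polynomial.X ^ i
  have hroot : (P - Polynomial.C (n : K)).IsRoot 1 := by
    simp [P, Polynomial.eval_finsetSum]
  obtain ⟨Q, hQ⟩ := Polynomial.dvd_iff_isRoot.2 hroot
  have hP : P = Polynomial.C (n:K) + (Polynomial.X - Polynomial.C 1) * Q := by rw [← hQ]; ring
  have hN : Polynomial.aeval g (Polynomial.X - Polynomial.C (1:K)) = g - 1 := by simp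
  have hS : Polynomial.aeval g P = algebraMap K (Module.End K V) (n:K) + (g - 1) * Polynomial.aeval g Q := by
    rw [hP, map_add, map_mul, hN, Polynomial.aeval_C]
  have hS' : Polynomial.aeval g P = ∑ i ∈ Finset.range n, g ^ i := by simp [P]
  have hcomm : Commute (g - 1) (Polynomial.aeval g Q) := by
    rw [← hN]
    exact (Commute.all (Polynomial.X - Polynomial.C (1:K)) Q).map (Polynomial.aeval g)
  have hnil : IsNilpotent ((g - 1) * Polynomial.aeval g Q) := hcomm.isNilpotent_mul_right hg
  have hn0 : (n : K) ≠ 0 := by exact_mod_cast hn.ne'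
  have hunit : IsUnit (Polynomial.aeval g P) := by
    rw [hS]
    refine IsNilpotent.isUnit_add_left_of_commute hnil ?_ ?_
    · exact (IsUnit.mk0 _ hn0).map (algebraMap K (Module.End K V))
    · exact (Algebra.commutes _ _).symm
  have hgeom : g ^ n - 1 = (∑ i ∈ Finset.range n, g ^ i) * (g - 1) := (geom_sum_mul g n).symm
  ext v
  simp only [LinearMap.mem_ker]
  rw [hgeom, ← hS']
  constructor
  · intro h
    obtain ⟨u, hu⟩ := hunit
    have : (↑u⁻¹ : Module.End K V) ((u : Module.End K V) ((g - 1) v)) = 0 := by
      rw [hu]
      rw [Module.End.mul_apply] at h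
      rw [h, map_zero]
    rwa [← Module.End.mul_apply, Units.inv_mul, Module.End.one_apply] at this
  · intro h
    rw [Module.End.mul_apply, h, map_zero]

end Groth.Agent.S17444
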