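import Groth.Statements.S17445
import Mathlib

set_option autoImplicit false
open Finset
open SSRed

namespace Groth.Agent.S17445

section Aux
open Finset

abbrev Eexp (g p : ℕ) : ℕ :=
  (2 * g) / (p - 1) + ∑ i ∈ Icc 1 ((2 * g) / (p - 1)), padicValNat p i

lemma two_h {p : ℕ} (hp : p.Prime) (hp2 : p ≠ 2) : ∃ h, 1 ≤ h ∧ p - 1 = 2 * h := by
  have hodd : Odd p := hp.odd_of_ne_two hp2
  obtain ⟨j, hj⟩ := hodd
  have := hp.two_le
  exact ⟨j, by omega, by omega⟩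

lemma filter_dvd_Icc (g h : ℕ) (hh : 1 ≤ h) :
    (Icc 1 g).filter (fun a => h ∣ a) = (Icc 1 (g / h)).image (fun t => h * t) := by
  ext a
  simp only [mem_filter, mem_Icc, mem_image]
  constructor
  · rintro ⟨⟨h1, h2⟩, t, rfl⟩
    refine ⟨t, ⟨?_, ?_⟩, rfl⟩
    · rcases Nat.eq_zero_or_pos t with rfl | ht
      · simp at h1
      · exact ht
    · rw [Nat.le_div_iff_mul_le (by omega)]
      rw [Nat.mul_comm]; exact h2
  · rintro ⟨t, ⟨h1, h2⟩, rfl⟩
    refine ⟨⟨Nat.mul_pos (by omega) (by omega), ?_⟩, dvd_mul_right h t⟩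
    have := (Nat.le_div_iff_mul_le (by omega : 0 < h)).mp h2
    rw [Nat.mul_comm]; exact this

lemma lte_odd {p : ℕ} [Fact p.Prime] (hodd : Odd p) {x t : ℕ} (hx1 : 1 < x)
    (hdiv : p ∣ x - 1) (hnd : ¬ p ∣ x) (ht : t ≠ 0) :
    padicValNat p (x ^ t - 1) = padicValNat p (x - 1) + padicValNat p t := by
  have := padicValNat.pow_sub_pow hodd hx1 hdiv hnd ht
  rwa [one_pow] at this

lemma fermat_dvd {p ℓ : ℕ} (hp : p.Prime) (hnd : ¬ p ∣ ℓ) : p ∣ ℓ ^ (p - 1) - 1 := by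
  have hcop : Nat.Coprime ℓ p := ((Nat.Prime.coprime_iff_not_dvd hp).mpr hnd).symm
  have := Nat.ModEq.pow_totient hcop
  rw [Nat.totient_prime hp] at this
  have hpos : 1 ≤ ℓ ^ (p - 1) := Nat.one_le_pow _ _ (by
    rcases Nat.eq_zero_or_pos ℓ with rfl | h
    · exact absurd (dvd_zero p) hnd
    · exact h)
  exact (Nat.modEq_iff_dvd' hpos).mp this.symm

lemma term_odd {p : ℕ} [Fact p.Prime] (hodd : Odd p) {ℓ h t : ℕ} (hℓ : 2 ≤ ℓ)
    (hnd : ¬ p ∣ ℓ) (hh : p - 1 = 2 * h) (hh1 : 1 ≤ h) (ht : 1 ≤ t) :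
    padicValNat p (ℓ ^ (2 * (h * t)) - 1) =
      padicValNat p (ℓ ^ (p - 1) - 1) + padicValNat p t := by
  have hp := (Fact.out : p.Prime)
  have hx1 : 1 < ℓ ^ (p - 1) := Nat.one_lt_pow (by omega) (by omega)
  have hdiv : p ∣ ℓ ^ (p - 1) - 1 := fermat_dvd hp hnd
  have hnd' : ¬ p ∣ ℓ ^ (p - 1) := fun hd => hnd (hp.dvd_of_dvd_pow hd)
  have e : ℓ ^ (2 * (h * t)) = (ℓ ^ (p - 1)) ^ t := by rw [hh, ← pow_mul, mul_assoc]
  rw [e]
  exact lte_odd hodd hx1 hdiv hnd' (by omega)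

lemma sum_one_add (s : Finset ℕ) (n : ℕ) (hs : s.card = n) (f : ℕ → ℕ) (c : ℕ) :
    ∑ t ∈ s, (c + f t) = c * n + ∑ t ∈ s, f t := by
  rw [sum_add_distrib, sum_const, hs, smul_eq_mul, mul_comm]

lemma card_Icc_one (n : ℕ) : (Icc 1 n).card = n := by
  rw [Nat.card_Icc]; omega

lemma lower_odd (g : ℕ) {p : ℕ} [Fact p.Prime] (hodd : Odd p) {ℓ : ℕ} (hℓ : 2 ≤ ℓ)
    (hnd : ¬ p ∣ ℓ) :
    Eexp g p ≤ ∑ a ∈ Icc 1 g, padicValNat p (ℓ ^ (2 * a) - 1) := by
  have hp := (Fact.out : p.Prime)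
  have hp2 : p ≠ 2 := by rintro rfl; exact absurd hodd (by decide)
  obtain ⟨h, hh1, hh⟩ := two_h hp hp2
  have hT : (2 * g) / (p - 1) = g / h := by
    rw [hh, Nat.mul_div_mul_left _ _ (by norm_num)]
  show (2 * g) / (p - 1) + ∑ i ∈ Icc 1 ((2 * g) / (p - 1)), padicValNat p i ≤ _
  rw [hT]
  have hx1 : 1 < ℓ ^ (p - 1) := Nat.one_lt_pow (by omega) (by omega)
  have hfer : p ∣ ℓ ^ (p - 1) - 1 := fermat_dvd hp hnd
  have hge : 1 ≤ padicValNat p (ℓ ^ (p - 1) - 1) :=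
    one_le_padicValNat_of_dvd (by omega) hfer
  calc g / h + ∑ i ∈ Icc 1 (g / h), padicValNat p i
      = ∑ t ∈ Icc 1 (g / h), (1 + padicValNat p t) := by
        rw [sum_one_add _ _ (card_Icc_one _), one_mul]
    _ ≤ ∑ t ∈ Icc 1 (g / h), padicValNat p (ℓ ^ (2 * (h * t)) - 1) := by
        apply sum_le_sum
        intro t ht
        rw [term_odd hodd hℓ hnd hh hh1 (mem_Icc.mp ht).1]
        omega
    _ = ∑ a ∈ (Icc 1 (g / h)).image (fun t => h * t), padicValNat p (ℓ ^ (2 * a) - 1) := by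
        rw [sum_image]
        intro x _ y _ hxy
        exact Nat.eq_of_mul_eq_mul_left (by omega) hxy
    _ = ∑ a ∈ (Icc 1 g).filter (fun a => h ∣ a), padicValNat p (ℓ ^ (2 * a) - 1) := by
        rw [filter_dvd_Icc g h hh1]
    _ ≤ ∑ a ∈ Icc 1 g, padicValNat p (ℓ ^ (2 * a) - 1) :=
        sum_le_sum_of_subset (filter_subset _ _)

lemma exact_odd (g B : ℕ) {p : ℕ} [Fact p.Prime] (hodd : Odd p) :
    ∃ ℓ, B < ℓ ∧ ℓ.Prime ∧
      ∑ a ∈ Icc 1 g, padicValNat p (ℓ ^ (2 * a) - 1) ≤ Eexp g p := by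
  have hp := (Fact.out : p.Prime)
  have hp2 : p ≠ 2 := by rintro rfl; exact absurd hodd (by decide)
  obtain ⟨h, hh1, hh⟩ := two_h hp hp2
  haveI : NeZero (p ^ 2) := ⟨pow_ne_zero 2 hp.ne_zero⟩
  haveI := ZMod.isCyclic_units_of_prime_pow p hp hp2 2
  obtain ⟨c, hc⟩ := IsCyclic.exists_generator (α := (ZMod (p ^ 2))ˣ)
  have hord : orderOf c = p * (p - 1) := by
    rw [orderOf_eq_card_of_forall_mem_zpowers hc, Nat.card_eq_fintype_card,
      ZMod.card_units_eq_totient, Nat.totient_prime_pow hp (by norm_num)]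
    simp
  obtain ⟨ℓ, hℓB, hℓp, hℓc⟩ := Nat.forall_exists_prime_gt_and_eq_mod (Units.isUnit c) B
  refine ⟨ℓ, hℓB, hℓp, ?_⟩
  have hℓ2 : 2 ≤ ℓ := hℓp.two_le
  have hZ : ∀ k : ℕ, p ^ 2 ∣ ℓ ^ k - 1 → p * (p - 1) ∣ k := by
    intro k hk
    rw [← hord, orderOf_dvd_iff_pow_eq_one]
    apply Units.ext
    rw [Units.val_pow_eq_pow_val, Units.val_one, ← hℓc]
    have h1 : ((ℓ ^ k - 1 : ℕ) : ZMod (p ^ 2)) = 0 := (ZMod.natCast_eq_zero_iff _ _).mpr hk
    rw [Nat.cast_sub (Nat.one_le_pow _ _ (by omega)), Nat.cast_pow, Nat.cast_one,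
      sub_eq_zero] at h1
    exact h1
  have hnd : ¬ p ∣ ℓ := by
    intro hd
    have hu : IsUnit ((ℓ : ℕ) : ZMod (p ^ 2)) := by rw [hℓc]; exact Units.isUnit c
    rw [ZMod.isUnit_iff_coprime] at hu
    have hg : p ∣ Nat.gcd ℓ (p ^ 2) := Nat.dvd_gcd hd (dvd_pow_self p two_ne_zero)
    rw [Nat.Coprime.gcd_eq_one hu] at hg
    exact hp.one_lt.ne' (Nat.dvd_one.mp hg)
  have hF1 : ∀ k : ℕ, 1 ≤ k → p ∣ ℓ ^ k - 1 → (p - 1) ∣ k := by
    intro k hk hd
    have hx1 : 1 < ℓ ^ k := Nat.one_lt_pow (by omega) (by omega)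
    have hnd' : ¬ p ∣ ℓ ^ k := fun hd' => hnd (hp.dvd_of_dvd_pow hd')
    have hl := lte_odd hodd hx1 hd hnd' hp.ne_zero
    have h1 : 1 ≤ padicValNat p (ℓ ^ k - 1) := one_le_padicValNat_of_dvd (by omega) hd
    have h2 : padicValNat p p = 1 := padicValNat_self
    have hne : (ℓ ^ k) ^ p - 1 ≠ 0 := by
      have : 1 < (ℓ ^ k) ^ p := Nat.one_lt_pow hp.ne_zero hx1
      omega
    have h3 : p ^ 2 ∣ (ℓ ^ k) ^ p - 1 := (padicValNat_dvd_iff_le hne).mpr (by omega)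
    rw [← pow_mul] at h3
    have h4 := hZ _ h3
    rw [mul_comm k p] at h4
    exact Nat.dvd_of_mul_dvd_mul_left hp.pos h4
  have hx1 : 1 < ℓ ^ (p - 1) := Nat.one_lt_pow (by omega) (by omega)
  have hfer : p ∣ ℓ ^ (p - 1) - 1 := fermat_dvd hp hnd
  have hF2 : padicValNat p (ℓ ^ (p - 1) - 1) = 1 := by
    have h1 : 1 ≤ padicValNat p (ℓ ^ (p - 1) - 1) :=
      one_le_padicValNat_of_dvd (by omega) hfer
    by_contra hne
    have h2 : 2 ≤ padicValNat p (ℓ ^ (p - 1) - 1) := by omega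
    have h3 : p ^ 2 ∣ ℓ ^ (p - 1) - 1 := (padicValNat_dvd_iff_le (by omega)).mpr h2
    have h4 := Nat.le_of_dvd (by omega) (hZ _ h3)
    have h5 := Nat.mul_le_mul_right (p - 1) hp.two_le
    omega
  have hterm0 : ∀ a ∈ Icc 1 g, padicValNat p (ℓ ^ (2 * a) - 1) ≠ 0 → h ∣ a := by
    intro a ha hne
    have hd : p ∣ ℓ ^ (2 * a) - 1 := by
      by_contra hnd2
      exact hne (padicValNat.eq_zero_of_not_dvd hnd2)
    have := hF1 (2 * a) (by have := (mem_Icc.mp ha).1; omega) hd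
    rw [hh] at this
    exact Nat.dvd_of_mul_dvd_mul_left (by norm_num) this
  have hT : (2 * g) / (p - 1) = g / h := by
    rw [hh, Nat.mul_div_mul_left _ _ (by norm_num)]
  show _ ≤ (2 * g) / (p - 1) + ∑ i ∈ Icc 1 ((2 * g) / (p - 1)), padicValNat p i
  rw [hT]
  apply le_of_eq
  calc ∑ a ∈ Icc 1 g, padicValNat p (ℓ ^ (2 * a) - 1)
      = ∑ a ∈ (Icc 1 g).filter (fun a => h ∣ a), padicValNat p (ℓ ^ (2 * a) - 1) :=
        (sum_filter_of_ne hterm0).symm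
    _ = ∑ t ∈ Icc 1 (g / h), padicValNat p (ℓ ^ (2 * (h * t)) - 1) := by
        rw [filter_dvd_Icc g h hh1, sum_image]
        intro x _ y _ hxy
        exact Nat.eq_of_mul_eq_mul_left (by omega) hxy
    _ = ∑ t ∈ Icc 1 (g / h), (1 + padicValNat p t) := by
        apply sum_congr rfl
        intro t ht
        rw [term_odd hodd hℓ2 hnd hh hh1 (mem_Icc.mp ht).1, hF2]
    _ = g / h + ∑ i ∈ Icc 1 (g / h), padicValNat p i := by
        rw [sum_one_add _ _ (card_Icc_one _), one_mul]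

lemma term_two {ℓ a : ℕ} (hℓ : 3 ≤ ℓ) (hodd : Odd ℓ) (ha : 1 ≤ a) :
    padicValNat 2 (ℓ ^ (2 * a) - 1) =
      padicValNat 2 (ℓ + 1) + padicValNat 2 (ℓ - 1) + padicValNat 2 a := by
  have h2ndvd : ¬ 2 ∣ ℓ := by
    obtain ⟨k, hk⟩ := hodd; omega
  have h2dvd : 2 ∣ ℓ - 1 := by
    obtain ⟨k, hk⟩ := hodd; omega
  have hl := padicValNat.pow_two_sub_pow (x := ℓ) (y := 1) (by omega) h2dvd h2ndvd
    (n := 2 * a) (by omega) (even_two_mul a)
  rw [one_pow] at hl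
  have h3 : padicValNat 2 (2 * a) = 1 + padicValNat 2 a := by
    rw [padicValNat.mul (by norm_num) (by omega), padicValNat_self]
  omega

lemma c_ge_three {ℓ : ℕ} (hℓ : 3 ≤ ℓ) (hodd : Odd ℓ) :
    3 ≤ padicValNat 2 (ℓ + 1) + padicValNat 2 (ℓ - 1) := by
  rw [← padicValNat.mul (by omega) (by omega)]
  have hne : (ℓ + 1) * (ℓ - 1) ≠ 0 := Nat.mul_ne_zero (by omega) (by omega)
  rw [← padicValNat_dvd_iff_le hne]
  obtain ⟨k, hk⟩ := hodd
  obtain ⟨j, hj⟩ := Nat.even_mul_succ_self k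
  refine ⟨j, ?_⟩
  have e1 : ℓ + 1 = 2 * (k + 1) := by omega
  have e2 : ℓ - 1 = 2 * k := by omega
  rw [e1, e2]
  have : (k + 1) * k = j + j := by rw [mul_comm]; exact hj
  calc 2 * (k + 1) * (2 * k) = 4 * ((k + 1) * k) := by ring
    _ = 2 ^ 3 * j := by rw [this]; ring

lemma lower_two (g : ℕ) {ℓ : ℕ} (hℓ : 3 ≤ ℓ) (hodd : Odd ℓ) :
    3 * g + ∑ a ∈ Icc 1 g, padicValNat 2 a ≤
      ∑ a ∈ Icc 1 g, padicValNat 2 (ℓ ^ (2 * a) - 1) := by
  have hc := c_ge_three hℓ hodd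
  calc 3 * g + ∑ a ∈ Icc 1 g, padicValNat 2 a
      = ∑ a ∈ Icc 1 g, (3 + padicValNat 2 a) := by
        rw [sum_one_add _ _ (card_Icc_one _)]
    _ ≤ ∑ a ∈ Icc 1 g, padicValNat 2 (ℓ ^ (2 * a) - 1) := by
        apply sum_le_sum
        intro a ha
        rw [term_two hℓ hodd (mem_Icc.mp ha).1]
        omega

lemma exact_two (B : ℕ) : ∃ ℓ, B < ℓ ∧ ℓ.Prime ∧ 3 ≤ ℓ ∧ Odd ℓ ∧
    padicValNat 2 (ℓ + 1) + padicValNat 2 (ℓ - 1) = 3 := by
  have hu : IsUnit (3 : ZMod 8) := ⟨⟨3, 3, by decide, by decide⟩, rfl⟩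
  obtain ⟨ℓ, hℓB, hℓp, hℓc⟩ := Nat.forall_exists_prime_gt_and_eq_mod hu B
  have hmod : ℓ % 8 = 3 := by
    have h1 : ((ℓ : ℕ) : ZMod 8) = ((3 : ℕ) : ZMod 8) := by rw [hℓc]; rfl
    have := (ZMod.natCast_eq_natCast_iff' ℓ 3 8).mp h1
    simpa using this
  have hodd : Odd ℓ := ⟨ℓ / 2, by omega⟩
  have hv1 : padicValNat 2 (ℓ - 1) = 1 := by
    have h1 : 2 ^ 1 ∣ ℓ - 1 := by rw [pow_one]; omega
    have h2 : ¬ 2 ^ 2 ∣ ℓ - 1 := by rw [show (2 : ℕ) ^ 2 = 4 by norm_num]; omega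
    have h3 := (padicValNat_dvd_iff_le (p := 2) (a := ℓ - 1) (n := 1) (by omega)).mp h1
    have h4 := mt (padicValNat_dvd_iff_le (p := 2) (a := ℓ - 1) (n := 2) (by omega)).mpr h2
    omega
  have hv2 : padicValNat 2 (ℓ + 1) = 2 := by
    have h1 : 2 ^ 2 ∣ ℓ + 1 := by rw [show (2 : ℕ) ^ 2 = 4 by norm_num]; omega
    have h2 : ¬ 2 ^ 3 ∣ ℓ + 1 := by rw [show (2 : ℕ) ^ 3 = 8 by norm_num]; omega
    have h3 := (padicValNat_dvd_iff_le (p := 2) (a := ℓ + 1) (n := 2) (by omega)).mp h1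
    have h4 := mt (padicValNat_dvd_iff_le (p := 2) (a := ℓ + 1) (n := 3) (by omega)).mpr h2
    omega
  exact ⟨ℓ, hℓB, hℓp, by omega, hodd, by rw [hv1, hv2]⟩

lemma P_term_ne_zero {ℓ a : ℕ} (hℓ : 2 ≤ ℓ) (ha : 1 ≤ a) : ℓ ^ (2 * a) - 1 ≠ 0 := by
  have : 1 < ℓ ^ (2 * a) := Nat.one_lt_pow (by omega) (by omega)
  omega

lemma facP (g : ℕ) {ℓ : ℕ} (hℓ : 2 ≤ ℓ) {p : ℕ} (hp : p.Prime) :
    (∏ a ∈ Icc 1 g, (ℓ ^ (2 * a) - 1)).factorization p =
      ∑ a ∈ Icc 1 g, padicValNat p (ℓ ^ (2 * a) - 1) := by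
  rw [Nat.factorization_prod (fun a ha => P_term_ne_zero hℓ (mem_Icc.mp ha).1),
    Finsupp.finset_sum_apply]
  apply sum_congr rfl
  intro a _
  exact Nat.factorization_def _ hp

lemma val_fact (g : ℕ) : padicValNat 2 g.factorial = ∑ a ∈ Icc 1 g, padicValNat 2 a := by
  induction g with
  | zero => simp
  | succ g ih =>
    rw [Nat.factorial_succ, padicValNat.mul (by omega) (Nat.factorial_ne_zero g), ih,
      Finset.sum_Icc_succ_top (by omega), add_comm]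

lemma N_ne_zero (g : ℕ) : 2 ^ (3 * g + padicValNat 2 g.factorial) *
    ∏ q ∈ (Icc 3 (2 * g + 1)).filter Nat.Prime, q ^ Eexp g q ≠ 0 := by
  apply Nat.mul_ne_zero (pow_ne_zero _ two_ne_zero)
  exact prod_ne_zero_iff.mpr (fun q hq => pow_ne_zero _ (mem_filter.mp hq).2.ne_zero)

lemma facN (g : ℕ) {p : ℕ} (hp : p.Prime) :
    (2 ^ (3 * g + padicValNat 2 g.factorial) *
      ∏ q ∈ (Icc 3 (2 * g + 1)).filter Nat.Prime, q ^ Eexp g q).factorization p =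
      if p = 2 then 3 * g + padicValNat 2 g.factorial else Eexp g p := by
  have hS : ∀ q ∈ (Icc 3 (2 * g + 1)).filter Nat.Prime, q.Prime :=
    fun q hq => (mem_filter.mp hq).2
  have hPi : ∏ q ∈ (Icc 3 (2 * g + 1)).filter Nat.Prime, q ^ Eexp g q ≠ 0 :=
    prod_ne_zero_iff.mpr (fun q hq => pow_ne_zero _ (hS q hq).ne_zero)
  rw [Nat.factorization_mul (pow_ne_zero _ two_ne_zero) hPi, Nat.factorization_pow,
    Nat.prime_two.factorization,
    Nat.factorization_prod (fun q hq => pow_ne_zero _ (hS q hq).ne_zero)]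
  rw [Finsupp.add_apply, Finsupp.smul_apply, Finsupp.single_apply, Finsupp.finset_sum_apply]
  have hterm : ∀ q ∈ (Icc 3 (2 * g + 1)).filter Nat.Prime,
      (q ^ Eexp g q).factorization p = if q = p then Eexp g q else 0 := by
    intro q hq
    rw [Nat.factorization_pow, (hS q hq).factorization, Finsupp.smul_apply,
      Finsupp.single_apply]
    split_ifs <;> simp
  rw [sum_congr rfl hterm]
  by_cases hp2 : p = 2
  · subst hp2
    have hzero : ∀ q ∈ (Icc 3 (2 * g + 1)).filter Nat.Prime,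
        (if q = 2 then Eexp g q else 0) = 0 := by
      intro q hq
      have : 3 ≤ q := (mem_Icc.mp (mem_filter.mp hq).1).1
      rw [if_neg (by omega)]
    rw [sum_eq_zero hzero]
    simp
  · rw [if_neg (Ne.symm hp2), if_neg hp2]
    by_cases hpS : p ∈ (Icc 3 (2 * g + 1)).filter Nat.Prime
    · rw [sum_eq_single_of_mem p hpS (fun q _ hqp => if_neg hqp), if_pos rfl]; simp
    · have hzero : ∀ q ∈ (Icc 3 (2 * g + 1)).filter Nat.Prime,
          (if q = p then Eexp g q else 0) = 0 := by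
        intro q hq
        rw [if_neg]
        rintro rfl
        exact hpS hq
      rw [sum_eq_zero hzero]
      have hbig : 2 * g + 1 < p := by
        by_contra hle
        apply hpS
        rw [mem_filter, mem_Icc]
        have := hp.two_le
        exact ⟨⟨by omega, by omega⟩, hp⟩
      have hT : (2 * g) / (p - 1) = 0 := Nat.div_eq_of_lt (by omega)
      simp [Eexp, hT]

end Aux

/-- For natural numbers g and B with B ≥ 2g + 1, a natural number d divides ∏_{a=1}^{g} (ℓ^{2a} - 1) for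
every prime ℓ > B if and only if d divides N(g) = 2^{3g + v₂(g!)} · ∏_{3 ≤ p ≤ 2g+1, p prime}
p^{[2g/(p-1)] + Σ_{1 ≤ i ≤ [2g/(p-1)]} v_p(i)}. In words: N(g) is the greatest common divisor of
these products as ℓ runs through the primes beyond any bound that is at least 2g + 1; its prime
factors are the primes p ≤ 2g + 1. (This is the number N(g) of the published result, which bounds
the degree of the field of semistable reduction of a g-dimensional abelian variety over a strictly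
henselian discretely valued field; the printed phrase is the greatest common divisor over all large
primes, made precise here by the bound 2g + 1, below which a prime ℓ ≤ 2g + 1 divides N(g) but not
its own product.) -/
theorem result (g B d : ℕ) (hB : 2 * g + 1 ≤ B) :
    (∀ ℓ : ℕ, ℓ.Prime → B < ℓ → d ∣ ∏ a ∈ Icc 1 g, (ℓ ^ (2 * a) - 1)) ↔
      d ∣ 2 ^ (3 * g + padicValNat 2 g.factorial) *
        ∏ p ∈ (Icc 3 (2 * g + 1)).filter Nat.Prime,
          p ^ ((2 * g) / (p - 1) + ∑ i ∈ Icc 1 ((2 * g) / (p - 1)), padicValNat p i) := by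
  show (∀ ℓ : ℕ, ℓ.Prime → B < ℓ → d ∣ ∏ a ∈ Icc 1 g, (ℓ ^ (2 * a) - 1)) ↔
      d ∣ 2 ^ (3 * g + padicValNat 2 g.factorial) *
        ∏ p ∈ (Icc 3 (2 * g + 1)).filter Nat.Prime, p ^ Eexp g p
  have hN0 := N_ne_zero g
  have hP0 : ∀ ℓ, 2 ≤ ℓ → ∏ a ∈ Icc 1 g, (ℓ ^ (2 * a) - 1) ≠ 0 := fun ℓ hℓ =>
    prod_ne_zero_iff.mpr (fun a ha => P_term_ne_zero hℓ (mem_Icc.mp ha).1)
  constructor
  · intro H
    obtain ⟨ℓ₀, hℓ₀B, hℓ₀p⟩ := Nat.exists_infinite_primes (B + 1)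
    have hd0 : d ≠ 0 := by
      rintro rfl
      exact hP0 ℓ₀ hℓ₀p.two_le (zero_dvd_iff.mp (H ℓ₀ hℓ₀p (by omega)))
    rw [← Nat.factorization_prime_le_iff_dvd hd0 hN0]
    intro p hp
    haveI := Fact.mk hp
    rw [facN g hp]
    by_cases hp2 : p = 2
    · subst hp2
      rw [if_pos rfl]
      obtain ⟨ℓ, hℓB, hℓp, hℓ3, hℓodd, hc⟩ := exact_two B
      have h1 := (Nat.factorization_prime_le_iff_dvd hd0 (hP0 ℓ hℓp.two_le)).mpr
        (H ℓ hℓp hℓB) 2 Nat.prime_two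
      rw [facP g hℓp.two_le Nat.prime_two] at h1
      refine h1.trans (le_of_eq ?_)
      rw [val_fact]
      calc ∑ a ∈ Icc 1 g, padicValNat 2 (ℓ ^ (2 * a) - 1)
          = ∑ a ∈ Icc 1 g, (3 + padicValNat 2 a) := by
            apply sum_congr rfl
            intro a ha
            rw [term_two hℓ3 hℓodd (mem_Icc.mp ha).1, hc]
        _ = 3 * g + ∑ a ∈ Icc 1 g, padicValNat 2 a := by
            rw [sum_one_add _ _ (card_Icc_one _)]
    · rw [if_neg hp2]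
      have hodd : Odd p := hp.odd_of_ne_two hp2
      obtain ⟨ℓ, hℓB, hℓp, hsum⟩ := exact_odd g B hodd
      have h1 := (Nat.factorization_prime_le_iff_dvd hd0 (hP0 ℓ hℓp.two_le)).mpr
        (H ℓ hℓp hℓB) p hp
      rw [facP g hℓp.two_le hp] at h1
      exact h1.trans hsum
  · intro hdN ℓ hℓp hℓB
    have hd0 : d ≠ 0 := by rintro rfl; exact hN0 (zero_dvd_iff.mp hdN)
    rw [← Nat.factorization_prime_le_iff_dvd hd0 (hP0 ℓ hℓp.two_le)]
    intro p hp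
    haveI := Fact.mk hp
    have h1 := (Nat.factorization_prime_le_iff_dvd hd0 hN0).mpr hdN p hp
    refine h1.trans ?_
    rw [facN g hp, facP g hℓp.two_le hp]
    by_cases hp2 : p = 2
    · subst hp2
      rw [if_pos rfl]
      rcases Nat.eq_zero_or_pos g with rfl | hg
      · simp
      · have hℓ3 : 3 ≤ ℓ := by omega
        have hℓodd : Odd ℓ := hℓp.odd_of_ne_two (by omega)
        rw [val_fact]
        exact lower_two g hℓ3 hℓodd
    · rw [if_neg hp2]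
      have hodd : Odd p := hp.odd_of_ne_two hp2
      by_cases hpl : p = ℓ
      · subst hpl
        have hT : (2 * g) / (p - 1) = 0 := Nat.div_eq_of_lt (by omega)
        simp [Eexp, hT]
      · have hnd : ¬ p ∣ ℓ := fun hd => hpl ((Nat.prime_dvd_prime_iff_eq hp hℓp).mp hd)
        exact lower_odd g hodd hℓp.two_le hnd

end Groth.Agent.S17445
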