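import Groth.Statements.S17446
import Mathlib

set_option autoImplicit false
universe u v
open SSRed

namespace Groth.Agent.S17446

section Aux
variable {K : Type*} {V : Type*} [Field K] [AddCommGroup V] [Module K V]

def DD (G : Subgroup (V ≃ₗ[K] V)) (U : Submodule K V) : Submodule K V where
  carrier := {v | ∀ h ∈ G, h v - v ∈ U}
  add_mem' := by
    intro a b ha hb h hh
    have e : h (a + b) - (a + b) = (h a - a) + (h b - b) := by rw [map_add]; abel
    rw [e]; exact U.add_mem (ha h hh) (hb h hh)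
  zero_mem' := by
    intro h hh
    have e : h (0 : V) - 0 = 0 := by rw [map_zero, sub_zero]
    rw [e]; exact U.zero_mem
  smul_mem' := by
    intro c a ha h hh
    have e : h (c • a) - c • a = c • (h a - a) := by rw [LinearEquiv.map_smul, smul_sub]
    rw [e]; exact U.smul_mem c (ha h hh)

lemma mem_DD {G : Subgroup (V ≃ₗ[K] V)} {U : Submodule K V} {v : V} :
    v ∈ DD G U ↔ ∀ h ∈ G, h v - v ∈ U := Iff.rfl

lemma DD_mono (G : Subgroup (V ≃ₗ[K] V)) : Monotone (DD (K := K) (V := V) G) :=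
  fun _ _ hUU' _ hv h hh => hUU' (hv h hh)

lemma mem_iter_iff (G : Subgroup (V ≃ₗ[K] V)) (n : ℕ) : ∀ v : V, v ∈ (DD G)^[n] ⊥ ↔
    ∀ f : Fin n → ↥G,
      (List.ofFn fun i => (((f i : ↥G) : V ≃ₗ[K] V) : Module.End K V) - 1).prod v = 0 := by
  induction n with
  | zero =>
    intro v
    simp only [Function.iterate_zero, id_eq, Submodule.mem_bot, List.ofFn_zero, List.prod_nil,
      Module.End.one_apply]
    constructor
    · intro h _; exact h
    · intro h; exact h (fun i => i.elim0)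
  | succ n ih =>
    intro v
    rw [Function.iterate_succ_apply', mem_DD]
    constructor
    · intro h f
      rw [List.ofFn_succ_last, List.prod_append, List.prod_singleton, Module.End.mul_apply]
      have h1 := h (f (Fin.last n) : V ≃ₗ[K] V) (f (Fin.last n)).2
      have h2 := (ih _).mp h1 (fun i => f i.castSucc)
      exact h2
    · intro h x hx
      rw [ih]
      intro f
      have h1 := h (Fin.snoc (α := fun _ => ↥G) f ⟨x, hx⟩)
      rw [List.ofFn_succ_last, List.prod_append, List.prod_singleton, Module.End.mul_apply] at h1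
      simp only [Fin.snoc_castSucc, Fin.snoc_last] at h1
      exact h1

lemma stab_DD {H G : Subgroup (V ≃ₗ[K] V)} (hN : ∀ y ∈ H, ∀ h ∈ G, y⁻¹ * h * y ∈ G)
    {U : Submodule K V} (hU : ∀ y ∈ H, ∀ v ∈ U, y v ∈ U) :
    ∀ y ∈ H, ∀ v ∈ DD G U, y v ∈ DD G U := by
  intro y hy v hv h hh
  have h1 := hv (y⁻¹ * h * y) (hN y hy h hh)
  have h2 := hU y hy _ h1
  have e : y ((y⁻¹ * h * y) v - v) = h (y v) - y v := by
    rw [map_sub]
    congr 1
    show y (y.symm (h (y v))) = h (y v)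
    exact y.apply_symm_apply _
  rw [e] at h2
  exact h2

lemma le_DD_of_stab {H : Subgroup (V ≃ₗ[K] V)} {U : Submodule K V}
    (hU : ∀ y ∈ H, ∀ v ∈ U, y v ∈ U) : U ≤ DD H U :=
  fun v hv h hh => U.sub_mem (hU h hh v hv) hv

lemma stab_iter {H G : Subgroup (V ≃ₗ[K] V)} (hN : ∀ y ∈ H, ∀ h ∈ G, y⁻¹ * h * y ∈ G)
    {U : Submodule K V} (hU : ∀ y ∈ H, ∀ v ∈ U, y v ∈ U) :
    ∀ i, ∀ y ∈ H, ∀ v ∈ (DD G)^[i] U, y v ∈ (DD G)^[i] U := by
  intro i
  induction i with
  | zero => simp only [Function.iterate_zero, id_eq]; exact hU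
  | succ i ih => rw [Function.iterate_succ_apply']; exact stab_DD hN ih

lemma le_iter {H : Subgroup (V ≃ₗ[K] V)} {U : Submodule K V}
    (hU : ∀ y ∈ H, ∀ v ∈ U, y v ∈ U) : ∀ j, U ≤ (DD H)^[j] U := by
  intro j
  induction j with
  | zero => simp only [Function.iterate_zero, id_eq]; exact le_rfl
  | succ j ih =>
    rw [Function.iterate_succ_apply']
    exact (le_DD_of_stab hU).trans (DD_mono H ih)

lemma keyK {H₁ H₂ : Subgroup (V ≃ₗ[K] V)}
    (hmul : ∀ x ∈ H₁ ⊔ H₂, ∃ h ∈ H₁, ∃ g ∈ H₂, x = h * g)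
    {U U' : Submodule K V} (hU : ∀ y ∈ H₁ ⊔ H₂, ∀ v ∈ U, y v ∈ U)
    (hU' : ∀ y ∈ H₁ ⊔ H₂, ∀ v ∈ U', y v ∈ U')
    (hD : U' ≤ DD H₁ U) : ∀ j, U' ⊓ (DD H₂)^[j] U ≤ (DD (H₁ ⊔ H₂))^[j] U := by
  intro j
  induction j with
  | zero => simp only [Function.iterate_zero, id_eq]; exact inf_le_right
  | succ j ih =>
    rw [Function.iterate_succ_apply', Function.iterate_succ_apply']
    intro v hv0
    obtain ⟨hvU', hv⟩ := Submodule.mem_inf.mp hv0
    rw [mem_DD]
    intro x hx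
    obtain ⟨h, hh, g, hg, rfl⟩ := hmul x hx
    have hgH : g ∈ H₁ ⊔ H₂ := (le_sup_right : H₂ ≤ H₁ ⊔ H₂) hg
    have hgv : g v ∈ U' := hU' g hgH v hvU'
    have t1 : h (g v) - g v ∈ (DD (H₁ ⊔ H₂))^[j] U :=
      le_iter hU j ((mem_DD.mp (hD hgv)) h hh)
    have t2 : g v - v ∈ (DD (H₁ ⊔ H₂))^[j] U :=
      ih (Submodule.mem_inf.mpr ⟨U'.sub_mem hgv hvU', (mem_DD.mp hv) g hg⟩)
    have e : (h * g) v - v = (h (g v) - g v) + (g v - v) := by
      rw [LinearEquiv.mul_apply]; abel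
    rw [e]
    exact Submodule.add_mem _ t1 t2

lemma chain {H₁ H₂ : Subgroup (V ≃ₗ[K] V)}
    (hmul : ∀ x ∈ H₁ ⊔ H₂, ∃ h ∈ H₁, ∃ g ∈ H₂, x = h * g)
    (hN : ∀ y ∈ H₁ ⊔ H₂, ∀ h ∈ H₁, y⁻¹ * h * y ∈ H₁) (m : ℕ)
    (hm : (DD H₂)^[m] (⊥ : Submodule K V) = ⊤) :
    ∀ i, (DD H₁)^[i] (⊥ : Submodule K V) ≤ (DD (H₁ ⊔ H₂))^[m * i] ⊥ := by
  have hbot : ∀ y ∈ H₁ ⊔ H₂, ∀ v ∈ (⊥ : Submodule K V), y v ∈ (⊥ : Submodule K V) := by
    intro y _ v hv
    rw [Submodule.mem_bot] at hv ⊢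
    rw [hv, map_zero]
  intro i
  induction i with
  | zero => simp only [Nat.mul_zero, Function.iterate_zero, id_eq]; exact le_rfl
  | succ i ih =>
    have hsU := stab_iter hN hbot i
    have hsU' := stab_iter hN hbot (i + 1)
    have hK := keyK hmul hsU hsU' (le_of_eq (Function.iterate_succ_apply' _ _ _)) m
    have htop : (DD H₂)^[m] ((DD H₁)^[i] ⊥) = ⊤ := by
      apply top_unique
      rw [← hm]
      exact (DD_mono H₂).iterate m bot_le
    rw [htop, inf_top_eq] at hK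
    have e : m * (i + 1) = m + m * i := by ring
    rw [e, Function.iterate_add_apply (DD (H₁ ⊔ H₂)) m (m * i)]
    exact hK.trans ((DD_mono (H₁ ⊔ H₂)).iterate m ih)

end Aux

/-- Let K be a field, V a finite-dimensional K-vector space and H₁, H₂ subgroups of the group of
K-linear automorphisms of V such that H₂ normalizes H₁. Call the action of a subgroup H unipotent
when, for some n, every product (h₁ - 1)(h₂ - 1)⋯(hₙ - 1) with all hᵢ in H is the zero endomorphism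
(equivalently, V has an H-stable flag on whose successive quotients H acts trivially). If H₁ and H₂
act unipotently, then the subgroup generated by H₁ and H₂ acts unipotently. (In the published result
H₁ and H₂ are the absolute Galois groups of two finite Galois extensions of a strictly henselian
discretely valued field over which an abelian variety becomes semistable, acting on its rational
ℓ-adic Tate module, and the conclusion is semistability over the intersection of the two fields; the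
printed argument uses only that H₂ normalizes H₁.) -/
theorem result (K : Type u) (V : Type v) [Field K]
    [AddCommGroup V] [Module K V] [FiniteDimensional K V]
    (H₁ H₂ : Subgroup (V ≃ₗ[K] V)) (hnorm : ∀ g ∈ H₂, ∀ h ∈ H₁, g * h * g⁻¹ ∈ H₁)
    (h₁ : ∃ n : ℕ, ∀ f : Fin n → ↥H₁,
      (List.ofFn fun i => (((f i : ↥H₁) : V ≃ₗ[K] V) : Module.End K V) - 1).prod = 0)
    (h₂ : ∃ n : ℕ, ∀ f : Fin n → ↥H₂,
      (List.ofFn fun i => (((f i : ↥H₂) : V ≃ₗ[K] V) : Module.End K V) - 1).prod = 0) :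
    ∃ n : ℕ, ∀ f : Fin n → ↥(H₁ ⊔ H₂),
      (List.ofFn fun i => (((f i : ↥(H₁ ⊔ H₂)) : V ≃ₗ[K] V) : Module.End K V) - 1).prod = 0 := by
  obtain ⟨n, hn⟩ := h₁
  obtain ⟨m, hm⟩ := h₂
  have hLE := Subgroup.le_normalizer_iff.mpr hnorm
  have hmulset := Subgroup.coe_mul_of_right_le_normalizer_left H₁ H₂ hLE
  have hmul : ∀ x ∈ H₁ ⊔ H₂, ∃ h ∈ H₁, ∃ g ∈ H₂, x = h * g := by
    intro x hx
    have hx' : x ∈ ((H₁ ⊔ H₂ : Subgroup (V ≃ₗ[K] V)) : Set (V ≃ₗ[K] V)) := hx
    rw [hmulset] at hx'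
    obtain ⟨h, hh, g, hg, rfl⟩ := Set.mem_mul.mp hx'
    exact ⟨h, hh, g, hg, rfl⟩
  have hle := sup_le (Subgroup.le_normalizer (H := H₁)) hLE
  have hN : ∀ y ∈ H₁ ⊔ H₂, ∀ h ∈ H₁, y⁻¹ * h * y ∈ H₁ := by
    intro y hy h hh
    have := (Subgroup.le_normalizer_iff.mp hle) y⁻¹ (inv_mem hy) h hh
    rwa [inv_inv] at this
  have hZ1 : (DD H₁)^[n] (⊥ : Submodule K V) = ⊤ := by
    apply top_unique
    intro v _
    rw [mem_iter_iff]
    intro f
    rw [hn f, LinearMap.zero_apply]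
  have hZ2 : (DD H₂)^[m] (⊥ : Submodule K V) = ⊤ := by
    apply top_unique
    intro v _
    rw [mem_iter_iff]
    intro f
    rw [hm f, LinearMap.zero_apply]
  have hc := chain hmul hN m hZ2 n
  rw [hZ1] at hc
  refine ⟨m * n, fun f => ?_⟩
  apply LinearMap.ext
  intro v
  have hv : v ∈ (DD (H₁ ⊔ H₂))^[m * n] (⊥ : Submodule K V) := hc Submodule.mem_top
  rw [LinearMap.zero_apply]
  exact (mem_iter_iff _ _ v).mp hv f

end Groth.Agent.S17446
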