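import Groth.Statements.S17466
import Mathlib

set_option autoImplicit false
universe u v
open BigOperators
open NRGIT

namespace Groth.Agent.S17466

section Aux
variable {R : Type u} {A : Type v} [CommRing R] [CommRing A] [Algebra R A]
  (𝒜 : ℕ → Submodule R A) [GradedAlgebra 𝒜]

omit [GradedAlgebra 𝒜] in
theorem powmem' (x : A) (k : ℕ) : x ^ k ∈ Submonoid.powers x := ⟨k, rfl⟩

/-- V -/
def VV (s M : ℕ) : Submodule R A := 𝒜 0 * (𝒜 s) ^ M

theorem A0A0 : 𝒜 0 * 𝒜 0 ≤ 𝒜 0 := by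
  rw [Submodule.mul_le]
  intro a ha b hb
  have := SetLike.mul_mem_graded ha hb
  rwa [add_zero] at this

theorem VV_mul (s M M' : ℕ) : VV 𝒜 s M * VV 𝒜 s M' ≤ VV 𝒜 s (M + M') := by
  unfold VV
  calc 𝒜 0 * (𝒜 s) ^ M * (𝒜 0 * (𝒜 s) ^ M') = (𝒜 0 * 𝒜 0) * (𝒜 s) ^ (M + M') := by
        rw [pow_add]; exact mul_mul_mul_comm _ _ _ _
    _ ≤ 𝒜 0 * (𝒜 s) ^ (M + M') := mul_le_mul' (A0A0 𝒜) le_rfl

theorem pow_le_VV (s j : ℕ) : (𝒜 s) ^ j ≤ VV 𝒜 s j := by
  intro y hy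
  have := Submodule.mul_mem_mul (SetLike.one_mem_graded 𝒜) hy
  rwa [one_mul] at this

theorem A0_le_VV (s : ℕ) : 𝒜 0 ≤ VV 𝒜 s 0 := by
  unfold VV; rw [pow_zero, mul_one]

theorem W_le_VV (s : ℕ) : 𝒜 s ≤ VV 𝒜 s 1 := by
  have := pow_le_VV 𝒜 s 1
  rwa [pow_one] at this

theorem pow_mem_VV (s : ℕ) {x : A} (hx : x ∈ 𝒜 s) (j : ℕ) : x ^ j ∈ VV 𝒜 s j :=
  pow_le_VV 𝒜 s j (Submodule.pow_mem_pow _ hx j)

theorem prod_mem_VV (s : ℕ) {n : ℕ} (σ : Fin n → A) (hσs : ∀ i, σ i ^ s ∈ 𝒜 s)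
    (e : Fin n → ℕ) (S : Finset (Fin n)) :
    ∏ i ∈ S, (σ i ^ s) ^ (e i) ∈ VV 𝒜 s (∑ i ∈ S, e i) := by
  classical
  induction S using Finset.induction_on with
  | empty =>
    simp only [Finset.prod_empty, Finset.sum_empty]
    exact A0_le_VV 𝒜 s (SetLike.one_mem_graded 𝒜)
  | insert a S ha ih =>
    rw [Finset.prod_insert ha, Finset.sum_insert ha]
    exact VV_mul 𝒜 s _ _ (Submodule.mul_mem_mul (pow_mem_VV 𝒜 s (hσs a) _) ih)

theorem val_algebraMap0 (x : A) (a : 𝒜 0) :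
    (algebraMap (𝒜 0) (HomogeneousLocalization.Away 𝒜 x) a).val = Localization.mk (a : A) 1 := rfl

theorem claim1 {n : ℕ} (σ : Fin n → A) (hσ : ∀ i, σ i ∈ 𝒜 1) {s : ℕ} (i : Fin n)
    (hgen : Algebra.adjoin (𝒜 0) {z : HomogeneousLocalization.Away 𝒜 (σ i) |
        ∃ f ∈ 𝒜 s, z.val = Localization.mk f
          ⟨σ i ^ s, Submonoid.pow_mem _ (Submonoid.mem_powers (σ i)) s⟩} = ⊤)
    (z : HomogeneousLocalization.Away 𝒜 (σ i)) :
    ∃ M r, r ∈ VV 𝒜 s M ∧ z.val = Localization.mk r ⟨σ i ^ (s * M), powmem' _ _⟩ := by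
  have hσs : σ i ^ s ∈ 𝒜 s := by
    have := SetLike.pow_mem_graded s (hσ i)
    rwa [smul_eq_mul, mul_one] at this
  have hD : ∀ M1 M2 : ℕ, (⟨σ i ^ (s * M1), powmem' _ _⟩ * ⟨σ i ^ (s * M2), powmem' _ _⟩ :
      Submonoid.powers (σ i)) = ⟨σ i ^ (s * (M1 + M2)), powmem' _ _⟩ := by
    intro M1 M2
    exact Subtype.ext (by simp [mul_add, pow_add])
  have hz : z ∈ (⊤ : Subalgebra (𝒜 0) (HomogeneousLocalization.Away 𝒜 (σ i))) := Algebra.mem_top
  rw [← hgen] at hz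
  induction hz using Algebra.adjoin_induction with
  | mem z hz =>
    obtain ⟨f, hf, hval⟩ := hz
    refine ⟨1, f, W_le_VV 𝒜 s hf, ?_⟩
    rw [hval]
    congr 1
    exact Subtype.ext (by rw [mul_one])
  | algebraMap a =>
    refine ⟨0, (a : A), A0_le_VV 𝒜 s a.2, ?_⟩
    rw [val_algebraMap0]
    congr 1
    exact Subtype.ext (by simp)
  | add x y hx hy ihx ihy =>
    obtain ⟨M1, r1, h1, e1⟩ := ihx
    obtain ⟨M2, r2, h2, e2⟩ := ihy
    refine ⟨M1 + M2, σ i ^ (s * M1) * r2 + σ i ^ (s * M2) * r1, ?_, ?_⟩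
    · refine Submodule.add_mem _ ?_ ?_
      · have := VV_mul 𝒜 s M1 M2 (Submodule.mul_mem_mul (pow_mem_VV 𝒜 s hσs M1) h2)
        rwa [← pow_mul] at this
      · have := VV_mul 𝒜 s M2 M1 (Submodule.mul_mem_mul (pow_mem_VV 𝒜 s hσs M2) h1)
        rwa [← pow_mul, add_comm M2 M1] at this
    · rw [HomogeneousLocalization.val_add, e1, e2, Localization.add_mk, hD]
  | mul x y hx hy ihx ihy =>
    obtain ⟨M1, r1, h1, e1⟩ := ihx
    obtain ⟨M2, r2, h2, e2⟩ := ihy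
    refine ⟨M1 + M2, r1 * r2, VV_mul 𝒜 s M1 M2 (Submodule.mul_mem_mul h1 h2), ?_⟩
    rw [HomogeneousLocalization.val_mul, e1, e2, Localization.mk_mul, hD]

theorem claim2 {n : ℕ} (σ : Fin n → A) (hσ : ∀ i, σ i ∈ 𝒜 1) {s : ℕ} (hs : 0 < s) (i : Fin n)
    (hgen : Algebra.adjoin (𝒜 0) {z : HomogeneousLocalization.Away 𝒜 (σ i) |
        ∃ f ∈ 𝒜 s, z.val = Localization.mk f
          ⟨σ i ^ s, Submonoid.pow_mem _ (Submonoid.mem_powers (σ i)) s⟩} = ⊤)
    (m : ℕ) (g : A) (hg : g ∈ 𝒜 (s * m)) :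
    ∃ M, σ i ^ (s * M) * g ∈ VV 𝒜 s (m + M) := by
  have hσs : σ i ^ s ∈ 𝒜 s := by
    have := SetLike.pow_mem_graded s (hσ i)
    rwa [smul_eq_mul, mul_one] at this
  have hg' : g ∈ 𝒜 ((s * m) • 1) := by rwa [smul_eq_mul, mul_one]
  obtain ⟨M, r, hr, e⟩ := claim1 𝒜 σ hσ i hgen
    (HomogeneousLocalization.Away.mk 𝒜 (hσ i) (s * m) g hg')
  rw [HomogeneousLocalization.Away.val_mk, Localization.mk_eq_mk_iff,
    Localization.r_iff_exists] at e
  obtain ⟨⟨c, k, rfl⟩, hc⟩ := e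
  have hc' : σ i ^ k * (σ i ^ (s * M) * g) = σ i ^ k * (σ i ^ (s * m) * r) := hc
  obtain ⟨s', rfl⟩ : ∃ s', s = s' + 1 := ⟨s - 1, by omega⟩
  refine ⟨k + M, ?_⟩
  have e1 : σ i ^ ((s' + 1) * (k + M)) * g = (σ i ^ (s' + 1)) ^ (k + m) * r := by
    calc σ i ^ ((s' + 1) * (k + M)) * g
        = σ i ^ (s' * k) * (σ i ^ k * (σ i ^ ((s' + 1) * M) * g)) := by
          rw [← mul_assoc, ← mul_assoc, ← pow_add, ← pow_add]; congr 2; ring
      _ = σ i ^ (s' * k) * (σ i ^ k * (σ i ^ ((s' + 1) * m) * r)) := by rw [hc']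
      _ = (σ i ^ (s' + 1)) ^ (k + m) * r := by
          rw [← mul_assoc, ← mul_assoc, ← pow_add, ← pow_add, ← pow_mul]; congr 2; ring
  rw [e1]
  have := VV_mul 𝒜 (s' + 1) (k + m) M
    (Submodule.mul_mem_mul (pow_mem_VV 𝒜 (s' + 1) hσs (k + m)) hr)
  have hidx : k + m + M = m + (k + M) := by ring
  rwa [hidx] at this

theorem claim3 {n : ℕ} (σ : Fin n → A) (hσ : ∀ i, σ i ∈ 𝒜 1) {s : ℕ} (hs : 0 < s)
    (hgen : ∀ i, Algebra.adjoin (𝒜 0) {z : HomogeneousLocalization.Away 𝒜 (σ i) |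
        ∃ f ∈ 𝒜 s, z.val = Localization.mk f
          ⟨σ i ^ s, Submonoid.pow_mem _ (Submonoid.mem_powers (σ i)) s⟩} = ⊤)
    (K : Fin n → ℕ) (hK : ∑ i, K i = s) (m : ℕ) (g : A) (hg : g ∈ 𝒜 (s * m)) :
    ∃ N, (∏ i, σ i ^ K i) ^ (s * N) * g ∈ VV 𝒜 s (m + s * N) := by
  classical
  have hσs : ∀ i, σ i ^ s ∈ 𝒜 s := by
    intro i
    have := SetLike.pow_mem_graded s (hσ i)
    rwa [smul_eq_mul, mul_one] at this
  obtain ⟨i0, hi0⟩ : ∃ i0, 0 < K i0 := by
    by_contra hcon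
    have h0 : ∑ i, K i = 0 := Finset.sum_eq_zero (fun i _ => by
      by_contra h; exact hcon ⟨i, Nat.pos_of_ne_zero h⟩)
    omega
  obtain ⟨K', hK'⟩ : ∃ K', K i0 = K' + 1 := ⟨K i0 - 1, by omega⟩
  obtain ⟨N, hN⟩ := claim2 𝒜 σ hσ hs i0 (hgen i0) m g hg
  refine ⟨N, ?_⟩
  have hprod : (∏ i, σ i ^ K i) ^ (s * N) = ∏ i, (σ i ^ s) ^ (K i * N) := by
    rw [← Finset.prod_pow]
    refine Finset.prod_congr rfl fun i _ => ?_
    rw [← pow_mul, ← pow_mul]; congr 1; ring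
  have hsplit : ∏ i, (σ i ^ s) ^ (K i * N) = (σ i0 ^ s) ^ (K i0 * N) *
      ∏ i ∈ Finset.univ.erase i0, (σ i ^ s) ^ (K i * N) :=
    (Finset.mul_prod_erase Finset.univ (fun i => (σ i ^ s) ^ (K i * N))
      (Finset.mem_univ i0)).symm
  have hi0pow : (σ i0 ^ s) ^ (K i0 * N) = (σ i0 ^ s) ^ (K' * N) * σ i0 ^ (s * N) := by
    rw [hK', pow_mul (σ i0) s N, ← pow_add]; congr 1; ring
  rw [hprod, hsplit, hi0pow]
  have hmem1 := pow_mem_VV 𝒜 s (hσs i0) (K' * N)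
  have hmem2 := prod_mem_VV 𝒜 s σ hσs (fun i => K i * N) (Finset.univ.erase i0)
  have e : (σ i0 ^ s) ^ (K' * N) * σ i0 ^ (s * N) *
      (∏ i ∈ Finset.univ.erase i0, (σ i ^ s) ^ (K i * N)) * g
      = ((σ i0 ^ s) ^ (K' * N) * ∏ i ∈ Finset.univ.erase i0, (σ i ^ s) ^ (K i * N)) *
        (σ i0 ^ (s * N) * g) := by ring
  rw [e]
  have h3 := VV_mul 𝒜 s _ _ (Submodule.mul_mem_mul
    (VV_mul 𝒜 s _ _ (Submodule.mul_mem_mul hmem1 hmem2)) hN)
  have hidx : K' * N + ∑ i ∈ Finset.univ.erase i0, K i * N + (m + N) = m + s * N := by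
    have h4 : K i0 + ∑ i ∈ Finset.univ.erase i0, K i = s := by
      rw [Finset.add_sum_erase _ _ (Finset.mem_univ i0)]; exact hK
    rw [← Finset.sum_mul, ← h4, hK']
    ring
  rwa [hidx] at h3

/-- U -/
def UU (τ : A) (B : Subalgebra (𝒜 0) (HomogeneousLocalization.Away 𝒜 τ)) (M : ℕ) :
    Submodule R A where
  carrier := {r | ∃ z ∈ B, z.val = Localization.mk r ⟨τ ^ M, powmem' _ _⟩}
  zero_mem' := ⟨0, B.zero_mem, by rw [HomogeneousLocalization.val_zero, Localization.mk_zero]⟩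
  add_mem' := by
    rintro a b ⟨z1, h1, e1⟩ ⟨z2, h2, e2⟩
    exact ⟨z1 + z2, B.add_mem h1 h2, by
      rw [HomogeneousLocalization.val_add, e1, e2, Localization.add_mk_self]⟩
  smul_mem' := by
    rintro c r ⟨z, h, e⟩
    refine ⟨algebraMap (𝒜 0) _ ⟨algebraMap R A c, SetLike.algebraMap_mem_graded 𝒜 c⟩ * z,
      B.mul_mem (B.algebraMap_mem _) h, ?_⟩
    rw [HomogeneousLocalization.val_mul, val_algebraMap0, e, Localization.mk_mul, one_mul,
      Algebra.smul_def]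

theorem mem_UU (τ : A) (B : Subalgebra (𝒜 0) (HomogeneousLocalization.Away 𝒜 τ)) (M : ℕ)
    (r : A) : r ∈ UU 𝒜 τ B M ↔ ∃ z ∈ B, z.val = Localization.mk r ⟨τ ^ M, powmem' _ _⟩ := Iff.rfl

theorem claim5 (τ : A) (s : ℕ) (hτ : τ ∈ 𝒜 s) (M : ℕ) :
    VV 𝒜 s M ≤ UU 𝒜 τ (Algebra.adjoin (𝒜 0) {z : HomogeneousLocalization.Away 𝒜 τ |
      ∃ f ∈ 𝒜 s, z.val = Localization.mk f ⟨τ, Submonoid.mem_powers _⟩}) M := by
  induction M with
  | zero =>
    unfold VV
    rw [pow_zero, mul_one]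
    intro a ha
    rw [mem_UU]
    refine ⟨algebraMap (𝒜 0) _ ⟨a, ha⟩, Subalgebra.algebraMap_mem _ _, ?_⟩
    rw [val_algebraMap0]
    congr 1
    exact Subtype.ext (by simp)
  | succ M ih =>
    have hV : VV 𝒜 s (M + 1) = VV 𝒜 s M * 𝒜 s := by
      unfold VV; rw [pow_succ, mul_assoc]
    rw [hV, Submodule.mul_le]
    intro r hr f hf
    obtain ⟨z, hzB, hz⟩ := (mem_UU 𝒜 _ _ _ _).1 (ih hr)
    have hf' : f ∈ 𝒜 (1 • s) := by rwa [one_smul]
    rw [mem_UU]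
    refine ⟨z * HomogeneousLocalization.Away.mk 𝒜 hτ 1 f hf',
      Subalgebra.mul_mem _ hzB (Algebra.subset_adjoin ⟨f, hf, ?_⟩), ?_⟩
    · rw [HomogeneousLocalization.Away.val_mk]
      congr 1
      exact Subtype.ext (pow_one _)
    · rw [HomogeneousLocalization.val_mul, hz, HomogeneousLocalization.Away.val_mk,
        Localization.mk_mul]
      congr 1
      exact Subtype.ext (by simp [pow_succ])

end Aux

/-- Let A be a commutative algebra graded by the natural numbers, let σ_1, …, σ_n be homogeneous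
elements of degree 1 and let s ≥ 1 be an integer such that, for every i, the degree-zero homogeneous
localisation of A away from σ_i is generated over A_0 by the fractions f / σ_i ^ s with f
homogeneous of degree s. Then for every exponent vector K = (k_1, …, k_n) with k_1 + ⋯ + k_n = s,
the degree-zero homogeneous localisation of A away from the monomial σ^K = ∏ σ_i ^ (k_i) is
generated over A_0 by the fractions f / σ^K with f homogeneous of degree s. (Equivalently: the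
natural map from the degree-zero localisation of the symmetric algebra on A_s, taken away from σ^K
viewed as an element of degree one, to the degree-zero localisation of A away from σ^K is
surjective. The published lemma concerns the algebra of invariant sections of the powers of a
linearised line bundle on an irreducible projective scheme over a field, with the σ_i a basis of a
weight space of sections, and concludes a closed immersion of a quotient into an open piece of a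
projective space; this row keeps only the graded-algebra step, for any commutative graded algebra,
with the base field replaced by A_0, which generates nothing new since a / 1 = a σ^s / σ^s for a of
degree zero.) -/
theorem result
    {R : Type u} {A : Type v} [CommRing R] [CommRing A] [Algebra R A]
    (𝒜 : ℕ → Submodule R A) [GradedAlgebra 𝒜]
    {n : ℕ} (σ : Fin n → A) (hσ : ∀ i, σ i ∈ 𝒜 1) {s : ℕ} (hs : 0 < s)
    (hgen : ∀ i, Algebra.adjoin (𝒜 0)
      {z : HomogeneousLocalization.Away 𝒜 (σ i) |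
        ∃ f ∈ 𝒜 s, z.val = Localization.mk f ⟨σ i ^ s, Submonoid.pow_mem _ (Submonoid.mem_powers (σ i)) s⟩} = ⊤)
    (K : Fin n → ℕ) (hK : ∑ i, K i = s) :
    Algebra.adjoin (𝒜 0)
      {z : HomogeneousLocalization.Away 𝒜 (∏ i, σ i ^ K i) |
        ∃ f ∈ 𝒜 s, z.val = Localization.mk f ⟨∏ i, σ i ^ K i, Submonoid.mem_powers _⟩} = ⊤ := by
  have hτ : (∏ i, σ i ^ K i) ∈ 𝒜 s := by
    have := SetLike.prod_pow_mem_graded 𝒜 (fun _ => 1) σ (F := Finset.univ) K (fun i _ => hσ i)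
    simpa [hK] using this
  rw [eq_top_iff]
  rintro z -
  obtain ⟨m, g, hg, rfl⟩ := HomogeneousLocalization.Away.mk_surjective 𝒜 hτ z
  have hg' : g ∈ 𝒜 (s * m) := by rwa [smul_eq_mul, mul_comm m s] at hg
  obtain ⟨N, hN⟩ := claim3 𝒜 σ hσ hs hgen K hK m g hg'
  obtain ⟨z', hz'B, hz'val⟩ := (mem_UU 𝒜 _ _ _ _).1 (claim5 𝒜 _ s hτ (m + s * N) hN)
  have hzz : HomogeneousLocalization.Away.mk 𝒜 hτ m g hg = z' := by
    apply HomogeneousLocalization.val_injective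
    rw [HomogeneousLocalization.Away.val_mk, hz'val, Localization.mk_eq_mk_iff,
      Localization.r_iff_exists]
    refine ⟨1, ?_⟩
    simp only [OneMemClass.coe_one, one_mul]
    rw [pow_add]; ring
  rw [hzz]; exact hz'B

end Groth.Agent.S17466
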