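import Groth.Statements.S17471
import Mathlib
-- import your own Groth.Agent.* helpers here

set_option autoImplicit false
universe u v w x
open RootCh

namespace Groth.Agent.S17471

/-- Let Φ be a finite, reduced, crystallographic, irreducible root system with a base, and θ a positive
root such that θ + β is a root for no positive root β (so θ is the highest root). Then Σ_{β>0} ⟨β,
θ^∨⟩² = 2 + Σ_{β>0} ⟨β, θ^∨⟩ = 2(1 + ⟨ρ, θ^∨⟩), ρ being half the sum of the positive roots; in the
source the left side is the index of the adjoint representation obtained from its formal character,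
and 1 + ⟨ρ, θ^∨⟩ is the dual Coxeter number. -/
theorem result
    {ι : Type u} {R : Type v} {M : Type w} {N : Type x}
    [Field R] [LinearOrder R] [IsStrictOrderedRing R]
    [AddCommGroup M] [Module R M] [AddCommGroup N] [Module R N] [Fintype ι]
    (P : RootPairing ι R M N) [P.IsRootSystem] [P.IsCrystallographic] [P.IsReduced]
    [P.IsIrreducible] (b : P.Base) (θ : ι) (hθ : b.IsPos θ)
    (hmax : ∀ i : ι, b.IsPos i → P.root θ + P.root i ∉ Set.range P.root) :
    ∑ i ∈ Finset.univ.filter (fun i => 0 < b.height i), P.pairing i θ ^ 2 =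
      2 + ∑ i ∈ Finset.univ.filter (fun i => 0 < b.height i), P.pairing i θ := by
  classical
  have hcast : ∀ a c : ι, P.pairing a c = ((P.pairingIn ℤ a c : ℤ) : R) := by
    intro a c
    rw [← P.algebraMap_pairingIn ℤ a c]
    simp
  have hnegne : ∀ i : ι, b.IsPos i → P.root i ≠ -P.root θ := by
    intro i hi h
    have h1 : P.root i = P.root θ + (-2 : ℤ) • P.root θ := by rw [h]; abel
    have h2 := b.height_add_zsmul h1
    have h3 : 0 < b.height i := hi
    have h4 : 0 < b.height θ := hθ
    simp only [smul_eq_mul] at h2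
    omega
  have hnonneg : ∀ i : ι, b.IsPos i → 0 ≤ P.pairingIn ℤ i θ := by
    intro i hi
    by_contra hneg
    push_neg at hneg
    have hmem := P.root_add_root_mem_of_pairingIn_neg hneg (hnegne i hi)
    apply hmax i hi
    rw [add_comm]; exact hmem
  have hle : ∀ i : ι, b.IsPos i → i ≠ θ → P.pairingIn ℤ i θ ≤ 1 := by
    intro i hi hiθ
    by_contra hgt
    push_neg at hgt
    have hne1 : P.root i ≠ P.root θ := fun h => hiθ (P.root.injective h)
    have htab := P.pairingIn_pairingIn_mem_set_of_isCrystal_of_isRed' i θ hne1 (hnegne i hi)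
    have hy : P.pairingIn ℤ θ i = 1 ∧ (P.pairingIn ℤ i θ = 2 ∨ P.pairingIn ℤ i θ = 3) := by
      simp only [Set.mem_insert_iff, Set.mem_singleton_iff, Prod.mk.injEq] at htab
      omega
    obtain ⟨hy1, hx23⟩ := hy
    obtain ⟨k, hk⟩ := P.root_sub_root_mem_of_pairingIn_pos (i := θ) (j := i) (by omega)
      (Ne.symm hiθ)
    obtain ⟨m, hm⟩ := P.root_sub_root_mem_of_pairingIn_pos (i := i) (j := θ) (by omega) hiθ
    have hhk := b.height_sub hk
    have hhm := b.height_sub hm
    have hk0 := b.height_ne_zero k
    by_cases hmpos : b.IsPos m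
    · apply hmax m hmpos
      rw [hm]; exact ⟨i, by abel⟩
    · have hkpos : b.IsPos k := by
        have h1 : ¬ (0 < b.height m) := hmpos
        show 0 < b.height k
        omega
      have hpk : P.pairingIn ℤ k θ = 2 - P.pairingIn ℤ i θ := by
        have h0 : P.root θ = P.root k + P.root i := by rw [hk]; abel
        have h1 := RootPairing.pairing_eq_add_of_root_eq_add (l := θ) h0
        rw [P.pairing_same, hcast, hcast] at h1
        have h2 : (2 : ℤ) = P.pairingIn ℤ k θ + P.pairingIn ℤ i θ := by exact_mod_cast h1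
        omega
      have hk_nonneg := hnonneg k hkpos
      have hx2 : P.pairingIn ℤ i θ = 2 := by omega
      apply hmax k hkpos
      refine ⟨P.reflectionPerm (P.reflectionPerm θ i) (P.reflectionPerm θ i), ?_⟩
      rw [P.root_reflectionPerm, P.reflection_apply_self, P.root_reflectionPerm,
        P.reflection_apply_root, hcast, hx2, hk]
      push_cast
      module
  have hθS : θ ∈ Finset.univ.filter (fun i => 0 < b.height i) :=
    Finset.mem_filter.2 ⟨Finset.mem_univ _, hθ⟩
  have hterm : ∀ i ∈ (Finset.univ.filter (fun i => 0 < b.height i)).erase θ,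
      P.pairing i θ ^ 2 = P.pairing i θ := by
    intro i hi
    obtain ⟨hiθ, hiS⟩ := Finset.mem_erase.1 hi
    have hipos : b.IsPos i := (Finset.mem_filter.1 hiS).2
    have h1 := hnonneg i hipos
    have h2 := hle i hipos hiθ
    have h3 : P.pairingIn ℤ i θ = 0 ∨ P.pairingIn ℤ i θ = 1 := by omega
    rw [hcast]
    rcases h3 with h3 | h3 <;> rw [h3] <;> simp
  rw [← Finset.add_sum_erase _ (fun i => P.pairing i θ ^ 2) hθS,
    ← Finset.add_sum_erase _ (fun i => P.pairing i θ) hθS, Finset.sum_congr rfl hterm,
    P.pairing_same]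
  ring

end Groth.Agent.S17471
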