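import Groth.Statements.S17500
import Mathlib

set_option autoImplicit false
universe u
open TorsMod

namespace Groth.Agent.S17500

section Aux

open TensorProduct

theorem aux_pn (p n : ℕ) : ((p : ZMod (p ^ n)) ^ n) = 0 := by
  have := ZMod.natCast_self (p ^ n)
  rwa [Nat.cast_pow] at this

theorem aux_exact (p n : ℕ) [Fact p.Prime] (i : ℕ) (hi : i ≤ n) (y : ZMod (p ^ n)) :
    (p : ZMod (p ^ n)) ^ i * y = 0 ↔ ∃ z, (p : ZMod (p ^ n)) ^ (n - i) * z = y := by
  haveI : NeZero (p ^ n) := ⟨pow_ne_zero _ (Fact.out : p.Prime).ne_zero⟩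
  constructor
  · intro h
    obtain ⟨k, rfl⟩ := ZMod.natCast_zmod_surjective y
    have h' : ((p ^ i * k : ℕ) : ZMod (p ^ n)) = 0 := by push_cast; exact h
    rw [ZMod.natCast_eq_zero_iff] at h'
    have hpn : p ^ n = p ^ i * p ^ (n - i) := by rw [← pow_add]; congr 1; omega
    rw [hpn] at h'
    have hpos : 0 < p ^ i := pos_of_ne_zero (pow_ne_zero _ (Fact.out : p.Prime).ne_zero)
    obtain ⟨z, hz⟩ := (Nat.mul_dvd_mul_iff_left hpos).mp h'
    refine ⟨(z : ZMod (p ^ n)), ?_⟩
    rw [hz]; push_cast; rfl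
  · rintro ⟨z, rfl⟩
    rw [← mul_assoc, ← pow_add, show i + (n - i) = n by omega, aux_pn, zero_mul]

theorem aux_ideal (p n : ℕ) [Fact p.Prime] (I : Ideal (ZMod (p ^ n))) :
    ∃ i, i ≤ n ∧ I = Ideal.span {(p : ZMod (p ^ n)) ^ i} := by
  haveI : NeZero (p ^ n) := ⟨pow_ne_zero _ (Fact.out : p.Prime).ne_zero⟩
  haveI : IsPrincipalIdealRing (ZMod (p ^ n)) :=
    IsPrincipalIdealRing.of_surjective (Int.castRingHom (ZMod (p ^ n)))
      (fun x => by obtain ⟨k, hk⟩ := ZMod.intCast_surjective x; exact ⟨k, by simpa using hk⟩)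
  obtain ⟨a, rfl⟩ : ∃ a, I = Ideal.span {a} := ⟨_, (Ideal.span_singleton_generator I).symm⟩
  obtain ⟨k, rfl⟩ := ZMod.natCast_zmod_surjective a
  obtain ⟨i, hi, hd⟩ := (Nat.dvd_prime_pow (Fact.out : p.Prime)).mp (Nat.gcd_dvd_right k (p ^ n))
  refine ⟨i, hi, ?_⟩
  apply le_antisymm
  · rw [Ideal.span_singleton_le_span_singleton]
    have : p ^ i ∣ k := hd ▸ Nat.gcd_dvd_left k (p ^ n)
    obtain ⟨c, hc⟩ := this
    exact ⟨(c : ZMod (p ^ n)), by rw [hc]; push_cast; rfl⟩
  · rw [Ideal.span_singleton_le_span_singleton]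
    refine ⟨((Nat.gcdA k (p ^ n) : ℤ) : ZMod (p ^ n)), ?_⟩
    have h := Nat.gcd_eq_gcd_ab k (p ^ n)
    rw [hd] at h
    have h2 := congrArg (Int.cast : ℤ → ZMod (p ^ n)) h
    push_cast at h2
    rw [aux_pn, zero_mul, add_zero] at h2
    exact h2

end Aux

/-- Let p be a prime number, n a natural number and H a module over ℤ/p^nℤ. Then H is flat over ℤ/p^nℤ
if and only if, for every i with 0 ≤ i ≤ n, the kernel of multiplication by p^i on H coincides with
the image of multiplication by p^(n-i) on H. (The published item is phrased for an fppf sheaf of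
ℤ/p^nℤ-modules on a scheme; this is the case of a single module, which is the case the argument
treats.) -/
theorem result (p n : ℕ) [Fact p.Prime]
    (H : Type u) [AddCommGroup H] [Module (ZMod (p ^ n)) H] :
    Module.Flat (ZMod (p ^ n)) H ↔
      ∀ i : ℕ, i ≤ n →
        LinearMap.ker ((p ^ i : ZMod (p ^ n)) • (LinearMap.id : H →ₗ[ZMod (p ^ n)] H)) =
          LinearMap.range ((p ^ (n - i) : ZMod (p ^ n)) • (LinearMap.id : H →ₗ[ZMod (p ^ n)] H)) := by
  open TensorProduct in
  constructor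
  · intro hflat i hi
    ext x
    rw [LinearMap.mem_ker, LinearMap.mem_range]
    simp only [LinearMap.smul_apply, LinearMap.id_apply]
    constructor
    · intro hx
      have hex : Function.Exact
          (((p : ZMod (p ^ n)) ^ (n - i)) •
            (LinearMap.id : ZMod (p ^ n) →ₗ[ZMod (p ^ n)] ZMod (p ^ n)))
          (((p : ZMod (p ^ n)) ^ i) •
            (LinearMap.id : ZMod (p ^ n) →ₗ[ZMod (p ^ n)] ZMod (p ^ n))) := by
        intro y
        simp only [LinearMap.smul_apply, LinearMap.id_apply, smul_eq_mul, Set.mem_range]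
        exact aux_exact p n i hi y
      have hex' := Module.Flat.lTensor_exact H hex
      have h1 : (LinearMap.lTensor H (((p : ZMod (p ^ n)) ^ i) •
          (LinearMap.id : ZMod (p ^ n) →ₗ[ZMod (p ^ n)] ZMod (p ^ n))))
          (x ⊗ₜ[ZMod (p ^ n)] (1 : ZMod (p ^ n))) = 0 := by
        rw [LinearMap.lTensor_tmul]
        simp only [LinearMap.smul_apply, LinearMap.id_apply]
        rw [TensorProduct.tmul_smul, TensorProduct.smul_tmul', hx, TensorProduct.zero_tmul]
      obtain ⟨t, ht⟩ := (hex' _).mp h1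
      refine ⟨TensorProduct.rid _ H t, ?_⟩
      rw [LinearMap.lTensor_smul, LinearMap.lTensor_id, LinearMap.smul_apply,
        LinearMap.id_apply] at ht
      have h3 := congrArg (TensorProduct.rid (ZMod (p ^ n)) H) ht
      rw [map_smul, TensorProduct.rid_tmul, one_smul] at h3
      exact h3
    · rintro ⟨y, rfl⟩
      rw [smul_smul, ← pow_add, show i + (n - i) = n by omega, aux_pn, zero_smul]
  · intro h
    rw [Module.Flat.iff_lift_lsmul_comp_subtype_injective]
    intro I _
    obtain ⟨i, hi, rfl⟩ := aux_ideal p n I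
    have hmem : (p : ZMod (p ^ n)) ^ i ∈ Ideal.span {(p : ZMod (p ^ n)) ^ i} :=
      Ideal.subset_span rfl
    have hform : ∀ t : (Ideal.span {(p : ZMod (p ^ n)) ^ i}) ⊗[ZMod (p ^ n)] H,
        ∃ x : H, t = (⟨_, hmem⟩ : Ideal.span {(p : ZMod (p ^ n)) ^ i}) ⊗ₜ[ZMod (p ^ n)] x := by
      intro t
      induction t using TensorProduct.induction_on with
      | zero => exact ⟨0, (TensorProduct.tmul_zero _ _).symm⟩
      | tmul r y =>
        obtain ⟨r, hr⟩ := r
        obtain ⟨c, rfl⟩ := Ideal.mem_span_singleton'.mp hr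
        refine ⟨c • y, ?_⟩
        rw [TensorProduct.tmul_smul, TensorProduct.smul_tmul']
        rfl
      | add a b ha hb =>
        obtain ⟨x, rfl⟩ := ha
        obtain ⟨y, rfl⟩ := hb
        exact ⟨x + y, (TensorProduct.tmul_add _ _ _).symm⟩
    rw [injective_iff_map_eq_zero]
    intro t ht
    obtain ⟨x, rfl⟩ := hform t
    rw [TensorProduct.lift.tmul] at ht
    have hx : x ∈ LinearMap.ker ((p ^ i : ZMod (p ^ n)) •
        (LinearMap.id : H →ₗ[ZMod (p ^ n)] H)) := by
      rw [LinearMap.mem_ker]; simpa using ht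
    rw [h i hi] at hx
    obtain ⟨y, hy⟩ := hx
    have hy' : x = ((p : ZMod (p ^ n)) ^ (n - i)) • y := by rw [← hy]; simp
    have hz : ((p : ZMod (p ^ n)) ^ (n - i)) •
        (⟨_, hmem⟩ : Ideal.span {(p : ZMod (p ^ n)) ^ i}) = 0 := by
      apply Subtype.ext
      show (p : ZMod (p ^ n)) ^ (n - i) * (p : ZMod (p ^ n)) ^ i = 0
      rw [← pow_add, show n - i + i = n by omega, aux_pn]
    rw [hy', TensorProduct.tmul_smul, TensorProduct.smul_tmul', hz, TensorProduct.zero_tmul]

end Groth.Agent.S17500
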