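import Groth.Statements.S17512
import Mathlib

set_option autoImplicit false
universe u
open ThetaRep

namespace Groth.Agent.S17512

section Aux

open scoped commutatorElement

theorem comm_mul_right {Γ : Type u} [Group Γ]
    (hZ : ∀ a b : Γ, ⁅a, b⁆ ∈ Subgroup.center Γ) (g h h' : Γ) :
    ⁅g, h * h'⁆ = ⁅g, h⁆ * ⁅g, h'⁆ := by
  have hc := Subgroup.mem_center_iff.1 (hZ g h')
  have e : ⁅g, h * h'⁆ = ⁅g, h⁆ * (h * ⁅g, h'⁆ * h⁻¹) := by
    simp only [commutatorElement_def]; group
  rw [e, hc h, mul_inv_cancel_right]

theorem core (k : Type u) [Field k] [IsAlgClosed k] (Γ : Type u) [Group Γ] (ι : kˣ →* Γ)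
    (hι : Function.Injective ι) (hcent : ι.range = Subgroup.center Γ)
    (hcr : ∀ a b : Γ, ⁅a, b⁆ ∈ ι.range)
    (K : Type u) [CommGroup K] [Finite K] (π : Γ →* K) (hπ : Function.Surjective π)
    (hker : π.ker = ι.range) (hcop : (Nat.card K).Coprime (ringExpChar k))
    (H : Subgroup Γ) :
    Nat.card ↥((Subgroup.centralizer (H : Set Γ)).map π) = (H.map π).index := by
  classical
  have hexp_ne : ((Monoid.exponent K : ℕ) : k) ≠ 0 := by
    have hdvd : Monoid.exponent K ∣ Nat.card K := Group.exponent_dvd_nat_card
    have hcop' : (Monoid.exponent K).Coprime (ringExpChar k) :=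
      Nat.Coprime.coprime_dvd_left hdvd hcop
    have hne0 : Monoid.exponent K ≠ 0 := Monoid.exponent_ne_zero_of_finite
    obtain ⟨q, hq, hexp⟩ : ∃ q, q = ringExpChar k ∧ ExpChar k q := ⟨_, rfl, inferInstance⟩
    rw [← hq] at hcop'
    cases hexp with
    | zero => exact Nat.cast_ne_zero.2 hne0
    | prime hprime =>
      intro h0
      have hqd : q ∣ Monoid.exponent K := (CharP.cast_eq_zero_iff k q _).1 h0
      have h1 := Nat.Coprime.eq_one_of_dvd hcop'.symm hqd
      exact hprime.one_lt.ne' h1
  haveI : NeZero ((Monoid.exponent K : ℕ) : k) := ⟨hexp_ne⟩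
  haveI hroots : HasEnoughRootsOfUnity k (Monoid.exponent K) := inferInstance
  have hcc : ∀ a b : Γ, ⁅a, b⁆ ∈ Subgroup.center Γ := fun a b => by
    rw [← hcent]; exact hcr a b
  have hex : ∀ g h : Γ, ∃ a : kˣ, ι a = ⁅g, h⁆ := fun g h => MonoidHom.mem_range.1 (hcr g h)
  choose c hc using hex
  have hcmul : ∀ g h h', c g (h * h') = c g h * c g h' := by
    intro g h h'
    apply hι
    rw [map_mul, hc, hc, hc, comm_mul_right hcc]
  have hker1 : ∀ g z, z ∈ π.ker → c g z = 1 := by
    intro g z hz
    rw [hker] at hz
    have hz' : z ∈ Subgroup.center Γ := by rw [← hcent]; exact hz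
    have hzc := Subgroup.mem_center_iff.1 hz'
    apply hι
    rw [hc, map_one, commutatorElement_def, hzc g, mul_inv_cancel_right, mul_inv_cancel]
  let χ : Γ → (K →* kˣ) := fun g => π.liftOfSurjective hπ
    ⟨MonoidHom.mk' (c g) (hcmul g), fun z hz => by
      rw [MonoidHom.mem_ker]; exact hker1 g z hz⟩
  have hχ : ∀ g h, χ g (π h) = c g h := by
    intro g h
    exact MonoidHom.liftOfRightInverse_comp_apply π _ _ _ h
  let s : K → Γ := Function.surjInv hπ
  have hs : ∀ x, π (s x) = x := Function.surjInv_eq hπ
  let Φ : K → (K →* kˣ) := fun x => χ (s x)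
  have hΦinj : Function.Injective Φ := by
    intro x y hxy
    have hab : ∀ h : Γ, ⁅s x, h⁆ = ⁅s y, h⁆ := by
      intro h
      have e1 := congrArg (fun ψ : K →* kˣ => ψ (π h)) hxy
      simp only [Φ, hχ] at e1
      rw [← hc, ← hc, e1]
    have hz : (s y)⁻¹ * s x ∈ Subgroup.center Γ := by
      rw [Subgroup.mem_center_iff]
      intro h
      have e := hab h
      simp only [commutatorElement_def] at e
      have e2 : s x * h * (s x)⁻¹ = s y * h * (s y)⁻¹ := mul_right_cancel e
      calc h * ((s y)⁻¹ * s x) = (s y)⁻¹ * (s y * h * (s y)⁻¹) * s x := by group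
        _ = (s y)⁻¹ * (s x * h * (s x)⁻¹) * s x := by rw [e2]
        _ = ((s y)⁻¹ * s x) * h := by group
    have hz2 : (s y)⁻¹ * s x ∈ π.ker := by rw [hker, hcent]; exact hz
    have hz3 := MonoidHom.mem_ker.1 hz2
    rw [map_mul, map_inv, hs, hs, inv_mul_eq_one] at hz3
    exact hz3.symm
  have hcardK : Nat.card (K →* kˣ) = Nat.card K :=
    CommGroup.card_monoidHom_of_hasEnoughRootsOfUnity K k
  haveI : Finite (K →* kˣ) :=
    Nat.finite_of_card_ne_zero (by rw [hcardK]; exact Nat.card_pos.ne')
  have hΦbij : Function.Bijective Φ :=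
    (Nat.bijective_iff_injective_and_card Φ).2 ⟨hΦinj, hcardK.symm⟩
  have hZC : ι.range ≤ Subgroup.centralizer (H : Set Γ) := by
    rw [hcent]; exact Subgroup.center_le_centralizer _
  have hmem : ∀ x : K, x ∈ (Subgroup.centralizer (H : Set Γ)).map π ↔
      Φ x ∈ (MonoidHom.domRestrictHom (H.map π) kˣ).ker := by
    intro x
    rw [MonoidHom.mem_ker, MonoidHom.domRestrictHom_apply, MonoidHom.domRestrict_eq_one_iff]
    have key : s x ∈ Subgroup.centralizer (H : Set Γ) ↔ ∀ y ∈ H.map π, Φ x y = 1 := by
      rw [Subgroup.mem_centralizer_iff_commutator_eq_one']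
      constructor
      · intro hcen y hy
        obtain ⟨h, hh, rfl⟩ := Subgroup.mem_map.1 hy
        show χ (s x) (π h) = 1
        rw [hχ]
        apply hι
        rw [hc, map_one]
        exact hcen h hh
      · intro hall h hh
        have e := hall (π h) (Subgroup.mem_map_of_mem π hh)
        have e' : c (s x) h = 1 := by rw [← hχ]; exact e
        rw [← hc, e', map_one]
    rw [← key]
    constructor
    · intro hx
      obtain ⟨g, hg, hgx⟩ := Subgroup.mem_map.1 hx
      have h1 : g⁻¹ * s x ∈ π.ker := by
        rw [MonoidHom.mem_ker, map_mul, map_inv, hs, hgx, inv_mul_cancel]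
      rw [hker] at h1
      have h2 := hZC h1
      have h3 := Subgroup.mul_mem _ hg h2
      rwa [mul_inv_cancel_left] at h3
    · intro hx
      exact Subgroup.mem_map.2 ⟨s x, hx, hs x⟩
  have e1 : Nat.card ↥((Subgroup.centralizer (H : Set Γ)).map π) =
      Nat.card ↥(MonoidHom.domRestrictHom (H.map π) kˣ).ker :=
    Nat.card_congr (Equiv.subtypeEquiv (Equiv.ofBijective Φ hΦbij) (fun x => hmem x))
  rw [e1, CommGroup.card_domRestrictHom_ker k (H.map π)]
  rfl

theorem relIndex_centralizer (k : Type u) [Field k] [IsAlgClosed k]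
    (Γ : Type u) [Group Γ] (ι : kˣ →* Γ) (hι : Function.Injective ι)
    (hcent : ι.range = Subgroup.center Γ) (hcomm : commutator Γ ≤ ι.range)
    [Finite (Γ ⧸ ι.range)] (hcop : (Nat.card (Γ ⧸ ι.range)).Coprime (ringExpChar k))
    (H : Subgroup Γ) (hH : ι.range ≤ H) :
    ι.range.relIndex (Subgroup.centralizer (H : Set Γ)) = H.index := by
  have hcr : ∀ a b : Γ, ⁅a, b⁆ ∈ ι.range := fun a b =>
    hcomm (Subgroup.commutator_mem_commutator (Subgroup.mem_top a) (Subgroup.mem_top b))
  haveI hN : (ι.range).Normal := by rw [hcent]; infer_instance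
  letI instC : CommGroup (Γ ⧸ ι.range) :=
    { (inferInstance : Group (Γ ⧸ ι.range)) with
      mul_comm := fun x y => by
        obtain ⟨a, rfl⟩ := QuotientGroup.mk_surjective x
        obtain ⟨b, rfl⟩ := QuotientGroup.mk_surjective y
        rw [← QuotientGroup.mk_mul, ← QuotientGroup.mk_mul, QuotientGroup.eq]
        have e : (a * b)⁻¹ * (b * a) = ⁅b⁻¹, a⁻¹⁆ := by
          simp only [commutatorElement_def]; group
        rw [e]
        exact hcr _ _ }
  have hcore := core k Γ ι hι hcent hcr (Γ ⧸ ι.range) (QuotientGroup.mk' ι.range)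
    (QuotientGroup.mk'_surjective ι.range) (QuotientGroup.ker_mk' ι.range) hcop H
  have hZC : ι.range ≤ Subgroup.centralizer (H : Set Γ) := by
    rw [hcent]; exact Subgroup.center_le_centralizer _
  have hπs := QuotientGroup.mk'_surjective ι.range
  have hk : (QuotientGroup.mk' ι.range).ker = ι.range := QuotientGroup.ker_mk' ι.range
  have i1 : ((Subgroup.centralizer (H : Set Γ)).map (QuotientGroup.mk' ι.range)).index =
      (Subgroup.centralizer (H : Set Γ)).index :=
    Subgroup.index_map_eq _ hπs (by rw [hk]; exact hZC)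
  have i2 : (H.map (QuotientGroup.mk' ι.range)).index = H.index :=
    Subgroup.index_map_eq _ hπs (by rw [hk]; exact hH)
  have i3 := Subgroup.card_mul_index
    ((Subgroup.centralizer (H : Set Γ)).map (QuotientGroup.mk' ι.range))
  have i4 := Subgroup.relIndex_mul_index hZC
  have i5 : ι.range.index = Nat.card (Γ ⧸ ι.range) := rfl
  rw [hcore, i1, i2] at i3
  have hCpos : 0 < (Subgroup.centralizer (H : Set Γ)).index := by
    rcases Nat.eq_zero_or_pos (Subgroup.centralizer (H : Set Γ)).index with h0 | h0
    · exfalso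
      rw [h0, mul_zero] at i3
      exact (Nat.card_pos (α := Γ ⧸ ι.range)).ne' i3.symm
    · exact h0
  exact Nat.eq_of_mul_eq_mul_right hCpos (by rw [i4, i5, i3])

end Aux

/-- For the group of k-points of a non-degenerate theta group with constant K, let k be an algebraically
closed field and Γ a group given with an injective homomorphism ι from kˣ onto the centre of Γ such
that K = Γ/ι(kˣ) is finite and commutative (all commutators lie in ι(kˣ)) of order prime to the
characteristic exponent of k — the group of k-points of a non-degenerate theta group 1 → G_m → G → K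
→ 1 with rank(K) prime to char(k). Subgroups of K correspond to subgroups H of Γ containing ι(kˣ);
such an H is totally isotropic for the commutator pairing exactly when it is commutative, and its
orthogonal corresponds to the centralizer of H. For a subgroup H ⊇ ι(kˣ) the following are
equivalent: (i) H is commutative and maximal among commutative subgroups of Γ; (ii) H is commutative
and [H : ι(kˣ)]² = [Γ : ι(kˣ)]; (iii) H is its own centralizer. (The published lemma is for an
arbitrary non-degenerate theta group scheme, where (iii) ⇔ (ii) ⇒ (i) always and (i) ⇒ (iii) needs k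
algebraically closed; this row is the case of the group of k-points with K constant.) -/
theorem result
    (k : Type u) [Field k] [IsAlgClosed k]
    (Γ : Type u) [Group Γ] (ι : kˣ →* Γ) (hι : Function.Injective ι)
    (hcent : ι.range = Subgroup.center Γ) (hcomm : commutator Γ ≤ ι.range)
    [Finite (Γ ⧸ ι.range)] (hcop : (Nat.card (Γ ⧸ ι.range)).Coprime (ringExpChar k))
    (H : Subgroup Γ) (hH : ι.range ≤ H) :
    List.TFAE [
      IsMulCommutative H ∧ ∀ H' : Subgroup Γ, IsMulCommutative H' → H ≤ H' → H' = H,
      IsMulCommutative H ∧ (ι.range.relIndex H) ^ 2 = ι.range.index,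
      H = Subgroup.centralizer (H : Set Γ)] := by
  have hcount := relIndex_centralizer k Γ ι hι hcent hcomm hcop H hH
  tfae_have 1 → 3 := by
    rintro ⟨hc, hmax⟩
    have hle : H ≤ Subgroup.centralizer (H : Set Γ) :=
      Subgroup.le_centralizer_iff_isMulCommutative.2 hc
    refine le_antisymm hle ?_
    intro g hg
    have hcl : IsMulCommutative ↥(Subgroup.closure ((H : Set Γ) ∪ {g})) := by
      apply Subgroup.isMulCommutative_closure
      intro x hx y hy
      rcases hx with hx | hx <;> rcases hy with hy | hy
      · exact Subgroup.mul_comm_of_mem_isMulCommutative (H := H) hx hy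
      · rw [Set.mem_singleton_iff] at hy
        rw [hy]
        exact hg x hx
      · rw [Set.mem_singleton_iff] at hx
        rw [hx]
        exact (hg y hy).symm
      · rw [Set.mem_singleton_iff] at hx hy
        rw [hx, hy]
    have hHle : H ≤ Subgroup.closure ((H : Set Γ) ∪ {g}) :=
      fun x hx => Subgroup.subset_closure (Or.inl hx)
    have hthis := hmax _ hcl hHle
    rw [← hthis]
    exact Subgroup.subset_closure (Or.inr rfl)
  tfae_have 3 → 1 := by
    intro hc
    have hle : H ≤ Subgroup.centralizer (H : Set Γ) := hc.le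
    have hcm : IsMulCommutative ↥H := Subgroup.le_centralizer_iff_isMulCommutative.1 hle
    refine ⟨hcm, fun H' hH' hle' => le_antisymm ?_ hle'⟩
    have h1 : H' ≤ Subgroup.centralizer (H' : Set Γ) :=
      Subgroup.le_centralizer_iff_isMulCommutative.2 hH'
    have h2 : Subgroup.centralizer (H' : Set Γ) ≤ Subgroup.centralizer (H : Set Γ) :=
      Subgroup.centralizer_le (fun x hx => hle' hx)
    exact (h1.trans h2).trans hc.ge
  tfae_have 3 → 2 := by
    intro hc
    have hle : H ≤ Subgroup.centralizer (H : Set Γ) := hc.le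
    refine ⟨Subgroup.le_centralizer_iff_isMulCommutative.1 hle, ?_⟩
    have h1 : ι.range.relIndex H = H.index := by
      conv_lhs => rw [hc]
      exact hcount
    have h2 := Subgroup.relIndex_mul_index hH
    rw [← h1] at h2
    rw [sq]
    exact h2
  tfae_have 2 → 3 := by
    rintro ⟨hcm, hsq⟩
    have hle : H ≤ Subgroup.centralizer (H : Set Γ) :=
      Subgroup.le_centralizer_iff_isMulCommutative.2 hcm
    refine le_antisymm hle ?_
    have h2 := Subgroup.relIndex_mul_index hH
    have hZne : ι.range.index ≠ 0 := Subgroup.index_ne_zero_of_finite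
    have hr : ι.range.relIndex H ≠ 0 := by
      intro h0
      rw [h0, zero_mul] at h2
      exact hZne h2.symm
    have h3 : ι.range.relIndex H = H.index := by
      have hmul : ι.range.relIndex H * ι.range.relIndex H = ι.range.relIndex H * H.index := by
        rw [← sq, hsq, h2]
      exact Nat.eq_of_mul_eq_mul_left (Nat.pos_of_ne_zero hr) hmul
    have h4 := Subgroup.relIndex_mul_relIndex (H := ι.range) (K := H)
      (L := Subgroup.centralizer (H : Set Γ)) hH hle
    rw [hcount, ← h3] at h4
    have h5 : H.relIndex (Subgroup.centralizer (H : Set Γ)) = 1 := by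
      have hmul : ι.range.relIndex H * H.relIndex (Subgroup.centralizer (H : Set Γ)) =
          ι.range.relIndex H * 1 := by rw [h4, mul_one]
      exact Nat.eq_of_mul_eq_mul_left (Nat.pos_of_ne_zero hr) hmul
    exact Subgroup.relIndex_eq_one.1 h5
  tfae_finish

end Groth.Agent.S17512
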