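import Groth.Statements.S17526
import Groth.Agent.Lib.helper8.ReynoldsU

set_option autoImplicit false
universe u
open GLin

namespace Groth.Agent.S17526

/-- Let `k` be a field, `H` a commutative Hopf algebra of finite type over `k` which is linearly
reductive (every finite-dimensional comodule is semisimple; `G = Spec H` is a linearly reductive
affine group), and `A` a Noetherian commutative `k`-algebra with a coaction of `H` that is an
algebra map (an action of `G` on `Spec A`). Then the ring of invariants `A^G` is Noetherian. (The
published corollary is stated over an algebraically closed field; it is the affine case of a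
statement about good moduli spaces valid over any field, and is stated here over any field.) -/
theorem result
    (k : Type u) [Field k] (H : Type u) [CommRing H] [HopfAlgebra k H] [Algebra.FiniteType k H]
    (hG : HopfRep.IsLinearlyReductive k H)
    (A : Type u) [CommRing A] [Algebra k A] [IsNoetherianRing A]
    [HopfRep.Comod k H A] [GLin.IsCoactAlg k H A] :
    IsNoetherianRing ↥(GLin.invariants k H A) := by
  classical
  obtain ⟨E, hE1, hE2, hE3⟩ := H8Rey.exists_reynolds (k := k) (A := H) (V := A) hG
  have hmul : ∀ (b : A), b ∈ GLin.invariants k H A → ∀ x : A, E (b * x) = b * E x := by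
    intro b hb x
    have hb' : HopfRep.Comod.coact (k := k) (A := H) b = b ⊗ₜ[k] (1 : H) := hb
    have hcm : Hoch.IsComodHom H (LinearMap.mulLeft k b) := by
      apply LinearMap.ext
      intro y
      simp only [LinearMap.comp_apply, LinearMap.mulLeft_apply]
      rw [GLin.IsCoactAlg.coact_mul, hb']
      generalize HopfRep.Comod.coact (k := k) (A := H) y = z
      induction z using TensorProduct.induction_on with
      | zero => simp
      | tmul a h =>
        rw [Algebra.TensorProduct.tmul_mul_tmul, one_mul, LinearMap.rTensor_tmul,
          LinearMap.mulLeft_apply]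
      | add z1 z2 h1 h2 => rw [mul_add, h1, h2, map_add]
    have h1 := H8Rey.reynolds_comm hG E hE1 hE2 hE3 E hE1 hE2 hE3 (LinearMap.mulLeft k b) hcm
    have h2 := LinearMap.congr_fun h1 x
    simpa using h2
  have hEmem : ∀ x : A, E x ∈ GLin.invariants k H A := by
    intro x
    have : E x ∈ HopfRep.fixedPts k H A := by
      rw [← hE3]
      exact LinearMap.congr_fun hE2 x
    exact this
  rw [isNoetherianRing_iff_ideal_fg]
  intro I
  obtain ⟨S, hS⟩ : ∃ S : Set A, S = (fun b : ↥(GLin.invariants k H A) => (b : A)) ''
      (I : Set ↥(GLin.invariants k H A)) := ⟨_, rfl⟩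
  have hfg : (Submodule.span A S).FG := (isNoetherianRing_iff_ideal_fg A).1 inferInstance _
  obtain ⟨s', hs'S, hs'⟩ := (Submodule.fg_span_iff_fg_span_finset_subset S).1 hfg
  have hpre : ∀ a ∈ s', ∃ b : ↥(GLin.invariants k H A), b ∈ I ∧ (b : A) = a := by
    intro a ha
    have h1 := hs'S ha
    rw [hS] at h1
    obtain ⟨b, hb, rfl⟩ := h1
    exact ⟨b, hb, rfl⟩
  choose! g hgI hga using hpre
  refine ⟨s'.image g, ?_⟩
  apply le_antisymm
  · rw [Submodule.span_le]
    intro b hb
    rw [Finset.coe_image] at hb
    obtain ⟨a, ha, rfl⟩ := hb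
    exact hgI a ha
  · intro x hx
    have hxS : (x : A) ∈ Submodule.span A S :=
      Submodule.subset_span (by rw [hS]; exact ⟨x, hx, rfl⟩)
    rw [hs'] at hxS
    obtain ⟨c, -, hc⟩ := Submodule.mem_span_finset.1 hxS
    have hx1 : E (x : A) = x := (hE3 _).2 x.2
    have hx2 : (x : A) = ∑ a ∈ s', (g a : A) * E (c a) := by
      rw [← hx1, ← hc, map_sum]
      apply Finset.sum_congr rfl
      intro a ha
      have h := hmul (g a : A) (g a).2 (c a)
      rw [hga a ha] at h
      rw [smul_eq_mul, mul_comm (c a) a, h, hga a ha]
    have hx3 : x = ∑ a ∈ s', (⟨E (c a), hEmem (c a)⟩ : ↥(GLin.invariants k H A)) • g a := by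
      apply Subtype.ext
      rw [hx2]
      simp [mul_comm]
    rw [hx3]
    exact Submodule.sum_mem _ (fun a ha => Submodule.smul_mem _ _
      (Submodule.subset_span (Finset.mem_coe.2 (Finset.mem_image_of_mem g ha))))

end Groth.Agent.S17526
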