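import Groth.Statements.S17530
import Groth.Agent.Lib.helper8.ReynoldsU

set_option autoImplicit false
universe u
open GLin

namespace Groth.Agent.S17530

/-- Let `k` be a field, `H` a commutative Hopf algebra of finite type over `k` which is linearly
reductive (every finite-dimensional comodule semisimple; `G = Spec H`), `A` a commutative
`k`-algebra of finite type with a coaction of `H` that is an algebra map (an action of `G` on `Spec
A`), and `M` a finitely generated `A`-module with an `H`-coaction compatible with the module
structure and with the coaction on `A` (a `G`-equivariant coherent module on `Spec A`). Then the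
invariants `M^G` form a finitely generated module over the ring of invariants `A^G`. (The published
corollary is stated over an algebraically closed field; it is the affine case of a statement about
good moduli spaces valid over any Noetherian base, and is stated here over any field.) -/
theorem result
    (k : Type u) [Field k] (H : Type u) [CommRing H] [HopfAlgebra k H] [Algebra.FiniteType k H]
    (hG : HopfRep.IsLinearlyReductive k H)
    (A : Type u) [CommRing A] [Algebra k A] [Algebra.FiniteType k A]
    [HopfRep.Comod k H A] [GLin.IsCoactAlg k H A]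
    (M : Type u) [AddCommGroup M] [Module k M] [Module A M] [IsScalarTower k A M] [Module.Finite A M]
    [HopfRep.Comod k H M] [TameAct.IsHopfMod k H A M] :
    ∃ s : Finset M, (↑s : Set M) ⊆ ↑(HopfRep.fixedPts k H M) ∧
      (↑(HopfRep.fixedPts k H M) : Set M) ⊆
        ↑(Submodule.span ↥(GLin.invariants k H A) (↑s : Set M)) := by
  classical
  obtain ⟨EA, hA1, hA2, hA3⟩ := H8Rey.exists_reynolds (k := k) (A := H) (V := A) hG
  obtain ⟨EM, hM1, hM2, hM3⟩ := H8Rey.exists_reynolds (k := k) (A := H) (V := M) hG
  have hmul : ∀ m : M, m ∈ HopfRep.fixedPts k H M → ∀ a : A, EM (a • m) = EA a • m := by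
    intro m hm a
    have hm' : HopfRep.Comod.coact (k := k) (A := H) m = m ⊗ₜ[k] (1 : H) := hm
    obtain ⟨um, hum⟩ : ∃ um : A →ₗ[k] M,
        um = (LinearMap.toSpanSingleton A M m).restrictScalars k := ⟨_, rfl⟩
    have humapp : ∀ a : A, um a = a • m := by
      intro a
      rw [hum]
      rfl
    have hcm : Hoch.IsComodHom H um := by
      apply LinearMap.ext
      intro y
      simp only [LinearMap.comp_apply]
      rw [humapp, TameAct.IsHopfMod.coact_smul (k := k) (A := H), hm']
      generalize HopfRep.Comod.coact (k := k) (A := H) y = z
      induction z using TensorProduct.induction_on with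
      | zero => simp
      | tmul a h => rw [TameAct.hmSMul_tmul, mul_one, LinearMap.rTensor_tmul, humapp]
      | add z1 z2 h1 h2 => rw [map_add, LinearMap.add_apply, h1, h2, map_add]
    have h1 := H8Rey.reynolds_comm hG EA hA1 hA2 hA3 EM hM1 hM2 hM3 um hcm
    have h2 := LinearMap.congr_fun h1 a
    simp only [LinearMap.comp_apply, humapp] at h2
    exact h2
  haveI : IsNoetherianRing A := Algebra.FiniteType.isNoetherianRing k A
  haveI : IsNoetherian A M := isNoetherian_of_isNoetherianRing_of_finite A M
  have hfg : (Submodule.span A (↑(HopfRep.fixedPts k H M) : Set M)).FG :=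
    IsNoetherian.noetherian _
  obtain ⟨s', hs'S, hs'⟩ := (Submodule.fg_span_iff_fg_span_finset_subset _).1 hfg
  refine ⟨s', hs'S, ?_⟩
  intro x hx
  have hxS : x ∈ Submodule.span A (↑(HopfRep.fixedPts k H M) : Set M) := Submodule.subset_span hx
  rw [hs'] at hxS
  obtain ⟨c, -, hc⟩ := Submodule.mem_span_finset.1 hxS
  have hx1 : EM x = x := (hM3 _).2 hx
  have hEAmem : ∀ a : A, EA a ∈ GLin.invariants k H A := by
    intro a
    have : EA a ∈ HopfRep.fixedPts k H A := by
      rw [← hA3]
      exact LinearMap.congr_fun hA2 a
    exact this
  have hx2 : x = ∑ a ∈ s', (⟨EA (c a), hEAmem (c a)⟩ : ↥(GLin.invariants k H A)) • a := by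
    rw [← hx1, ← hc, map_sum]
    apply Finset.sum_congr rfl
    intro a ha
    rw [hmul a (hs'S ha) (c a)]
    rfl
  rw [SetLike.mem_coe, hx2]
  exact Submodule.sum_mem _ (fun a ha => Submodule.smul_mem _ _ (Submodule.subset_span ha))

end Groth.Agent.S17530
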