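import Groth.Statements.S17537
import Mathlib
-- import your own Groth.Agent.* helpers here

set_option autoImplicit false
universe u v
open CAlg

namespace Groth.Agent.S17537

/-- For a commutative ring A, an ideal I and an A-module M, the I-adic completion M^ of M is itself
I-adically complete if and only if, for every n, every element of M^ is congruent modulo I^n M^ to
the image of an element of M (the maps M/I^n M → M^/I^n M^ are surjective). -/
theorem result {A : Type u} [CommRing A] (I : Ideal A)
    (M : Type v) [AddCommGroup M] [Module A M] :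
    IsAdicComplete I (AdicCompletion I M) ↔
      ∀ (n : ℕ) (x : AdicCompletion I M), ∃ y : M,
        x - AdicCompletion.of I M y ∈ (I ^ n • ⊤ : Submodule A (AdicCompletion I M)) := by
  classical
  -- the retraction ψ
  let g : ∀ n : ℕ, (AdicCompletion I M ⧸ (I ^ n • ⊤ : Submodule A (AdicCompletion I M))) →ₗ[A]
      M ⧸ (I ^ n • ⊤ : Submodule A M) := fun n =>
    Submodule.liftQ _ (AdicCompletion.eval I M n)
      (AdicCompletion.pow_smul_top_le_ker_eval (I := I) (M := M) n)
  have hg : ∀ {m n : ℕ} (hle : m ≤ n),
      AdicCompletion.transitionMap I M hle ∘ₗ g n =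
        g m ∘ₗ AdicCompletion.transitionMap I (AdicCompletion I M) hle := by
    intro m n hle
    apply Submodule.linearMap_qext
    refine LinearMap.ext fun x => ?_
    simp only [g, LinearMap.coe_comp, Function.comp_apply, Submodule.mkQ_apply,
      Submodule.liftQ_apply, AdicCompletion.transitionMap, Submodule.factorPow]
    exact AdicCompletion.transitionMap_comp_eval_apply (I := I) (M := M) hle x
  let f : ∀ n : ℕ, AdicCompletion I (AdicCompletion I M) →ₗ[A] M ⧸ (I ^ n • ⊤ : Submodule A M) :=
    fun n => g n ∘ₗ AdicCompletion.eval I (AdicCompletion I M) n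
  have hf : ∀ {m n : ℕ} (hle : m ≤ n), AdicCompletion.transitionMap I M hle ∘ₗ f n = f m := by
    intro m n hle
    simp only [f]
    rw [← LinearMap.comp_assoc, hg hle, LinearMap.comp_assoc,
      AdicCompletion.transitionMap_comp_eval]
  let ψ : AdicCompletion I (AdicCompletion I M) →ₗ[A] AdicCompletion I M :=
    AdicCompletion.lift I f hf
  have hψof : ∀ x : AdicCompletion I M, ψ (AdicCompletion.of I (AdicCompletion I M) x) = x := by
    intro x
    refine AdicCompletion.ext fun n => ?_
    simp only [ψ, AdicCompletion.eval_lift_apply, f, g, LinearMap.coe_comp, Function.comp_apply,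
      AdicCompletion.eval_apply, AdicCompletion.of_apply, Submodule.mkQ_apply,
      Submodule.liftQ_apply]
  have hψτ : ∀ x : AdicCompletion I M, ψ (AdicCompletion.map I (AdicCompletion.of I M) x) = x := by
    intro x
    refine AdicCompletion.ext fun n => ?_
    obtain ⟨y, hy⟩ := Submodule.Quotient.mk_surjective _ (x.val n)
    simp only [ψ, AdicCompletion.eval_lift_apply, f, g, LinearMap.coe_comp, Function.comp_apply,
      AdicCompletion.eval_apply, AdicCompletion.map_val_apply]
    rw [← hy, LinearMap.reduceModIdeal_apply, Submodule.liftQ_apply, AdicCompletion.eval_apply,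
      AdicCompletion.of_apply, Submodule.mkQ_apply]
  constructor
  · intro hc n x
    have hbij := AdicCompletion.of_bijective (I := I) (M := AdicCompletion I M)
    have hψinj : Function.Injective ψ := by
      intro z₁ z₂ hz
      obtain ⟨w₁, rfl⟩ := hbij.2 z₁
      obtain ⟨w₂, rfl⟩ := hbij.2 z₂
      rw [hψof, hψof] at hz
      rw [hz]
    have hτ : AdicCompletion.of I (AdicCompletion I M) x =
        AdicCompletion.map I (AdicCompletion.of I M) x := by
      apply hψinj
      rw [hψof, hψτ]
    obtain ⟨y, hy⟩ := Submodule.Quotient.mk_surjective _ (x.val n)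
    refine ⟨y, ?_⟩
    have h1 := congrArg (fun z => z.val n) hτ
    simp only [AdicCompletion.of_apply, AdicCompletion.map_val_apply, Submodule.mkQ_apply] at h1
    rw [← hy, LinearMap.reduceModIdeal_apply] at h1
    rw [← Submodule.Quotient.eq]
    exact h1
  · intro h
    have K : ∀ (n : ℕ) (z : AdicCompletion I M), z.val n = 0 →
        z ∈ (I ^ n • ⊤ : Submodule A (AdicCompletion I M)) := by
      intro n z hz
      obtain ⟨y, hy⟩ := h n z
      have h1 : (z - AdicCompletion.of I M y).val n = 0 :=
        AdicCompletion.pow_smul_top_le_ker_eval (I := I) (M := M) n hy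
      rw [AdicCompletion.val_sub_apply, hz, zero_sub, neg_eq_zero, AdicCompletion.of_apply,
        Submodule.mkQ_apply, Submodule.Quotient.mk_eq_zero] at h1
      have h2 : AdicCompletion.of I M y ∈ (I ^ n • ⊤ : Submodule A (AdicCompletion I M)) := by
        have : AdicCompletion.of I M y ∈
            Submodule.map (AdicCompletion.of I M) (I ^ n • ⊤ : Submodule A M) :=
          Submodule.mem_map_of_mem h1
        rw [Submodule.map_smul''] at this
        exact Submodule.smul_mono le_rfl le_top this
      have : z = (z - AdicCompletion.of I M y) + AdicCompletion.of I M y := by abel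
      rw [this]
      exact Submodule.add_mem _ hy h2
    refine { toIsHausdorff := inferInstance, toIsPrecomplete := ⟨?_⟩ }
    intro s hs
    have hcompat : ∀ {m n : ℕ} (hle : m ≤ n), (s m).val m = (s n).val m := by
      intro m n hle
      have h1 := hs hle
      rw [SModEq.sub_mem] at h1
      have h2 : (s m - s n).val m = 0 :=
        AdicCompletion.pow_smul_top_le_ker_eval (I := I) (M := M) m h1
      rw [AdicCompletion.val_sub_apply, sub_eq_zero] at h2
      exact h2
    let L : AdicCompletion I M := ⟨fun n => (s n).val n, by
      intro m n hle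
      show AdicCompletion.transitionMap I M hle ((s n).val n) = (s m).val m
      rw [hcompat hle]
      exact (s n).property hle⟩
    refine ⟨L, fun n => ?_⟩
    rw [SModEq.sub_mem]
    apply K
    rw [AdicCompletion.val_sub_apply]
    exact sub_self _

end Groth.Agent.S17537
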