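import Groth.Statements.S17538
import Mathlib
-- import your own Groth.Agent.* helpers here

set_option autoImplicit false
universe u v
open CAlg

namespace Groth.Agent.S17538

/-- For a commutative ring A, an ideal I and an A-module M, the canonical map from the I-adic completion
M^ to the I-adic completion of M^ admits an A-linear retraction (it is a split injection). (That M^
is I-adically separated is standard.) -/
theorem result {A : Type u} [CommRing A] (I : Ideal A)
    (M : Type v) [AddCommGroup M] [Module A M] :
    ∃ ψ : AdicCompletion I (AdicCompletion I M) →ₗ[A] AdicCompletion I M,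
      ψ ∘ₗ AdicCompletion.of I (AdicCompletion I M) = LinearMap.id := by
  classical
  let g : ∀ n : ℕ, (AdicCompletion I M ⧸ (I ^ n • ⊤ : Submodule A (AdicCompletion I M))) →ₗ[A]
      M ⧸ (I ^ n • ⊤ : Submodule A M) := fun n =>
    Submodule.liftQ _ (AdicCompletion.eval I M n)
      (AdicCompletion.pow_smul_top_le_ker_eval (I := I) (M := M) n)
  have hg : ∀ {m n : ℕ} (hle : m ≤ n),
      AdicCompletion.transitionMap I M hle ∘ₗ g n =
        g m ∘ₗ AdicCompletion.transitionMap I (AdicCompletion I M) hle := by
    intro m n hle
    apply Submodule.linearMap_qext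
    refine LinearMap.ext fun x => ?_
    simp only [g, LinearMap.coe_comp, Function.comp_apply, Submodule.mkQ_apply,
      Submodule.liftQ_apply, AdicCompletion.transitionMap, Submodule.factorPow,
      Submodule.factor_mk]
    exact AdicCompletion.transitionMap_comp_eval_apply (I := I) (M := M) hle x
  let f : ∀ n : ℕ, AdicCompletion I (AdicCompletion I M) →ₗ[A] M ⧸ (I ^ n • ⊤ : Submodule A M) :=
    fun n => g n ∘ₗ AdicCompletion.eval I (AdicCompletion I M) n
  have hf : ∀ {m n : ℕ} (hle : m ≤ n), AdicCompletion.transitionMap I M hle ∘ₗ f n = f m := by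
    intro m n hle
    simp only [f]
    rw [← LinearMap.comp_assoc, hg hle, LinearMap.comp_assoc,
      AdicCompletion.transitionMap_comp_eval]
  refine ⟨AdicCompletion.lift I f hf, ?_⟩
  refine LinearMap.ext fun x => AdicCompletion.ext fun n => ?_
  simp only [LinearMap.coe_comp, Function.comp_apply, LinearMap.id_coe, id_eq,
    AdicCompletion.eval_lift_apply, f, g, AdicCompletion.eval_apply, AdicCompletion.of_apply,
    Submodule.mkQ_apply, Submodule.liftQ_apply]

end Groth.Agent.S17538
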