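import Groth.Statements.S17539
import Mathlib

set_option autoImplicit false
universe u v w
open W4c5adicflatcompl
open CAlg

namespace Groth.Agent.S17539

section Aux

theorem finsupp_mem_smul_top {A : Type*} [CommRing A] (I : Ideal A) (Z : Type*) (M : Type*)
    [AddCommGroup M] [Module A M] (n : ℕ) (h : Z →₀ M)
    (hh : ∀ z, h z ∈ (I ^ n • ⊤ : Submodule A M)) :
    h ∈ (I ^ n • ⊤ : Submodule A (Z →₀ M)) := by
  classical
  rw [← Finsupp.sum_single h]
  apply Submodule.sum_mem
  intro z _
  exact Submodule.smul_top_le_comap_smul_top (I ^ n) (Finsupp.lsingle z) (hh z)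

theorem mem_of_val_eq_zero {A : Type*} [CommRing A] (I : Ideal A) (M : Type*)
    [AddCommGroup M] [Module A M] [IsPrecomplete I (AdicCompletion I M)] (n : ℕ)
    (y : AdicCompletion I M) (hy : y.val n = 0) :
    y ∈ (I ^ n • ⊤ : Submodule A (AdicCompletion I M)) := by
  obtain ⟨a, rfl⟩ := AdicCompletion.mk_surjective I M y
  have hcau : ∀ {m k : ℕ}, m ≤ k → AdicCompletion.of I M (a m) ≡ AdicCompletion.of I M (a k)
      [SMOD (I ^ m • ⊤ : Submodule A (AdicCompletion I M))] := by
    intro m k hmk
    rw [SModEq.sub_mem, ← map_sub]
    have h1 : a m - a k ∈ (I ^ m • ⊤ : Submodule A M) := by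
      rw [← SModEq.sub_mem]; exact a.property hmk
    exact Submodule.smul_top_le_comap_smul_top (I ^ m) (AdicCompletion.of I M) h1
  obtain ⟨L, hL⟩ := IsPrecomplete.prec (inferInstance : IsPrecomplete I (AdicCompletion I M))
    (f := fun k => AdicCompletion.of I M (a k)) hcau
  have hLy : L = AdicCompletion.mk I M a := by
    ext k
    have h2 := hL k
    rw [SModEq.sub_mem] at h2
    have h3 := AdicCompletion.pow_smul_top_le_ker_eval (I := I) (M := M) k h2
    rw [LinearMap.mem_ker, map_sub, sub_eq_zero, AdicCompletion.eval_of,
      AdicCompletion.eval_apply] at h3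
    rw [← h3]; rfl
  have h4 := hL n
  rw [SModEq.sub_mem] at h4
  have h5 : a n ∈ (I ^ n • ⊤ : Submodule A M) := by
    have : Submodule.Quotient.mk (p := (I ^ n • ⊤ : Submodule A M)) (a n) = 0 := hy
    exact (Submodule.Quotient.mk_eq_zero _).1 this
  have h6 : AdicCompletion.of I M (a n) ∈ (I ^ n • ⊤ : Submodule A (AdicCompletion I M)) :=
    Submodule.smul_top_le_comap_smul_top (I ^ n) (AdicCompletion.of I M) h5
  rw [← hLy]
  have : L = AdicCompletion.of I M (a n) - (AdicCompletion.of I M (a n) - L) := by abel
  rw [this]
  exact Submodule.sub_mem _ h6 h4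

end Aux

/-- For a commutative ring A, an ideal I, a set Z and an A-module M whose I-adic completion M^ is itself
I-adically complete, the canonical map from the I-adic completion of Z →₀ M to the functions Z → M^,
whose z-th coordinate is the completion of evaluation at z, is injective with image the I-adically
decaying functions Z → M^. (The source states bijectivity of the inverse map, from decaying
functions to the limit of the finitely supported functions Z → M/I^n M, induced by the projections
M^ → M/I^n M; the two formulations are equivalent.) -/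
theorem result {A : Type u} [CommRing A] (I : Ideal A) (Z : Type v)
    (M : Type w) [AddCommGroup M] [Module A M] [IsAdicComplete I (AdicCompletion I M)] :
    Function.Injective
        (LinearMap.pi fun z : Z =>
          (AdicCompletion.map I (Finsupp.lapply (M := M) (R := A) z)).restrictScalars A) ∧
      LinearMap.range
        (LinearMap.pi fun z : Z =>
          (AdicCompletion.map I (Finsupp.lapply (M := M) (R := A) z)).restrictScalars A) =
        decaying I Z (AdicCompletion I M) := by
  classical
  obtain ⟨Φ, hΦ⟩ : ∃ Φ : AdicCompletion I (Z →₀ M) →ₗ[A] (Z → AdicCompletion I M),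
      Φ = LinearMap.pi fun z : Z =>
        (AdicCompletion.map I (Finsupp.lapply (M := M) (R := A) z)).restrictScalars A := ⟨_, rfl⟩
  rw [← hΦ]
  have hval : ∀ (f : AdicCompletion.AdicCauchySequence I (Z →₀ M)) (z : Z) (n : ℕ),
      (Φ (AdicCompletion.mk I _ f) z).val n =
        Submodule.Quotient.mk (p := (I ^ n • ⊤ : Submodule A M)) ((f n) z) := by
    intro f z n
    rw [hΦ]
    rfl
  constructor
  · rw [injective_iff_map_eq_zero]
    intro x hx
    obtain ⟨f, rfl⟩ := AdicCompletion.mk_surjective I _ x
    ext n
    have h1 : ∀ z, (f n) z ∈ (I ^ n • ⊤ : Submodule A M) := by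
      intro z
      have h2 := hval f z n
      rw [hx] at h2
      exact (Submodule.Quotient.mk_eq_zero _).1 h2.symm
    have h3 := finsupp_mem_smul_top I Z M n (f n) h1
    show Submodule.Quotient.mk (p := (I ^ n • ⊤ : Submodule A (Z →₀ M))) (f n) = 0
    exact (Submodule.Quotient.mk_eq_zero _).2 h3
  · apply le_antisymm
    · rintro g ⟨x, rfl⟩
      obtain ⟨f, rfl⟩ := AdicCompletion.mk_surjective I _ x
      rw [W4c5adicflatcompl.mem_decaying_iff]
      intro n
      refine (f n).support.finite_toSet.subset ?_
      intro z hz
      by_contra hzs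
      apply hz
      have h0 : (f n) z = 0 := Finsupp.notMem_support_iff.1 hzs
      apply mem_of_val_eq_zero I M n
      rw [hval f z n, h0]
      exact Submodule.Quotient.mk_zero _
    · intro g hg
      rw [W4c5adicflatcompl.mem_decaying_iff] at hg
      choose a ha using fun z => AdicCompletion.mk_surjective I M (g z)
      have hU0 : ∀ n z, z ∉ (hg n).toFinset → a z n ∈ (I ^ n • ⊤ : Submodule A M) := by
        intro n z hz
        rw [Set.Finite.mem_toFinset] at hz
        have h1 : g z ∈ (I ^ n • ⊤ : Submodule A (AdicCompletion I M)) := by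
          by_contra h; exact hz h
        have h2 := AdicCompletion.pow_smul_top_le_ker_eval (I := I) (M := M) n h1
        rw [LinearMap.mem_ker, AdicCompletion.eval_apply, ← ha z] at h2
        exact (Submodule.Quotient.mk_eq_zero _).1 h2
      obtain ⟨F, hF⟩ : ∃ F : ℕ → (Z →₀ M), ∀ n z,
          F n z = if z ∈ (hg n).toFinset then a z n else 0 := by
        refine ⟨fun n => Finsupp.onFinset (hg n).toFinset
          (fun z => if z ∈ (hg n).toFinset then a z n else 0) ?_, fun n z => rfl⟩
        intro z hz
        by_contra h
        exact hz (if_neg h)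
      have hU : ∀ n z, F n z - a z n ∈ (I ^ n • ⊤ : Submodule A M) := by
        intro n z
        rw [hF]
        split_ifs with h
        · rw [sub_self]; exact Submodule.zero_mem _
        · rw [zero_sub]; exact Submodule.neg_mem _ (hU0 n z h)
      have hcau : ∀ n, F n ≡ F (n + 1) [SMOD (I ^ n • ⊤ : Submodule A (Z →₀ M))] := by
        intro n
        rw [SModEq.sub_mem]
        apply finsupp_mem_smul_top
        intro z
        have e : (F n - F (n + 1)) z =
            (F n z - a z n) - (F (n + 1) z - a z (n + 1)) + (a z n - a z (n + 1)) := by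
          rw [Finsupp.sub_apply]; abel
        rw [e]
        refine Submodule.add_mem _ (Submodule.sub_mem _ (hU n z) ?_) ?_
        · exact Submodule.smul_mono_left (Ideal.pow_le_pow_right (Nat.le_succ n)) (hU (n + 1) z)
        · rw [← SModEq.sub_mem]; exact (a z).property (Nat.le_succ n)
      refine LinearMap.mem_range.2
        ⟨AdicCompletion.mk I _ (AdicCompletion.AdicCauchySequence.mk I _ F hcau), ?_⟩
      funext z
      apply AdicCompletion.ext
      intro n
      rw [hval, ← ha z]
      show Submodule.Quotient.mk (p := (I ^ n • ⊤ : Submodule A M)) (F n z) =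
        Submodule.Quotient.mk (a z n)
      rw [Submodule.Quotient.eq]
      exact hU n z

end Groth.Agent.S17539
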