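import Groth.Statements.S17540
import Mathlib
-- import your own Groth.Agent.* helpers here

set_option autoImplicit false
universe u v w
open W4c5adicflatcompl
open CAlg

namespace Groth.Agent.S17540

/-- Let A be I-adically complete, M an I-adically complete A-module and m : Z → M a family. The images
of the m z generate M/IM (the span of the family together with IM is all of M) if and only if the
family I-adically generates M: every x in M is the I-adically convergent sum of g z • m z for some
I-adically decaying function g : Z → A. -/
theorem result {A : Type u} [CommRing A] (I : Ideal A) [IsAdicComplete I A]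
    (M : Type v) [AddCommGroup M] [Module A M] [IsAdicComplete I M] (Z : Type w) (m : Z → M) :
    Submodule.span A (Set.range m) ⊔ I • ⊤ = ⊤ ↔
      ∀ x : M, ∃ g : Z → A, g ∈ decaying I Z A ∧
        ∀ n : ℕ, ∃ S : Finset Z,
          (∀ z, z ∉ S → g z • m z ∈ (I ^ n • ⊤ : Submodule A M)) ∧
          x - (∑ z ∈ S, g z • m z) ∈ (I ^ n • ⊤ : Submodule A M) := by
  classical
  constructor
  · intro hspan
    have hstep : ∀ (n : ℕ) (x : M), x ∈ (I ^ n • ⊤ : Submodule A M) →
        ∃ a : Z →₀ A, (∀ z, a z ∈ I ^ n) ∧
          x - Finsupp.linearCombination A m a ∈ (I ^ (n + 1) • ⊤ : Submodule A M) := by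
      intro n x hx
      refine Submodule.smul_induction_on hx ?_ ?_
      · intro c hc y _
        have hy : y ∈ Submodule.span A (Set.range m) ⊔ I • ⊤ := by rw [hspan]; trivial
        obtain ⟨y1, hy1, y2, hy2, rfl⟩ := Submodule.mem_sup.mp hy
        obtain ⟨b, rfl⟩ := (Finsupp.mem_span_range_iff_exists_finsupp).mp hy1
        refine ⟨c • b, ?_, ?_⟩
        · intro z
          rw [Finsupp.smul_apply, smul_eq_mul]
          exact Ideal.mul_mem_right _ _ hc
        · rw [map_smul, Finsupp.linearCombination_apply, smul_add, add_sub_cancel_left, pow_succ,
            Submodule.mul_smul]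
          exact Submodule.smul_mem_smul hc hy2
      · rintro x y ⟨a, ha, hxa⟩ ⟨b, hb, hyb⟩
        refine ⟨a + b, fun z => by rw [Finsupp.add_apply]; exact Ideal.add_mem _ (ha z) (hb z), ?_⟩
        rw [map_add]
        have : x + y - (Finsupp.linearCombination A m a + Finsupp.linearCombination A m b) =
            (x - Finsupp.linearCombination A m a) + (y - Finsupp.linearCombination A m b) := by abel
        rw [this]
        exact Submodule.add_mem _ hxa hyb
    choose! F hF1 hF2 using hstep
    intro x
    let X : ℕ → M := fun n => Nat.rec x (fun n y => y - Finsupp.linearCombination A m (F n y)) n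
    have hXs : ∀ n, X (n + 1) = X n - Finsupp.linearCombination A m (F n (X n)) := fun n => rfl
    have hXmem : ∀ n, X n ∈ (I ^ n • ⊤ : Submodule A M) := by
      intro n
      induction n with
      | zero => rw [pow_zero, Ideal.one_eq_top, Submodule.top_smul]; trivial
      | succ n ih => rw [hXs]; exact hF2 n _ ih
    let a : ℕ → Z →₀ A := fun n => F n (X n)
    have ha : ∀ n z, a n z ∈ I ^ n := fun n z => hF1 n _ (hXmem n) z
    have hXn : ∀ n, X n = x - ∑ k ∈ Finset.range n, Finsupp.linearCombination A m (a k) := by
      intro n
      induction n with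
      | zero => rw [Finset.sum_range_zero, sub_zero]; rfl
      | succ n ih =>
        have h3 : X (n + 1) = X n - Finsupp.linearCombination A m (a n) := rfl
        rw [h3, Finset.sum_range_succ, ih]; abel
    let f : Z → ℕ → A := fun z N => ∑ k ∈ Finset.range N, a k z
    have hf : ∀ z, ∀ {p q : ℕ}, p ≤ q → f z p ≡ f z q [SMOD (I ^ p • ⊤ : Submodule A A)] := by
      intro z p q hpq
      rw [SModEq.sub_mem]
      have : f z p - f z q = -(∑ k ∈ Finset.range q \ Finset.range p, a k z) := by
        change ∑ k ∈ Finset.range p, a k z - ∑ k ∈ Finset.range q, a k z = _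
        rw [← Finset.sum_sdiff (Finset.range_subset_range.mpr hpq)]; ring
      rw [this]
      apply Submodule.neg_mem
      apply Submodule.sum_mem
      intro k hk
      rw [Finset.mem_sdiff, Finset.mem_range, Finset.mem_range, not_lt] at hk
      rw [smul_eq_mul, Ideal.mul_top]
      exact Ideal.pow_le_pow_right hk.2 (ha k z)
    choose g hg using fun z => IsPrecomplete.prec (inferInstance : IsPrecomplete I A) (hf z)
    have hgI : ∀ z n, g z - f z n ∈ I ^ n := by
      intro z n
      have := (hg z n).symm
      rw [SModEq.sub_mem, smul_eq_mul, Ideal.mul_top] at this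
      exact this
    have hzero : ∀ n z, z ∉ (Finset.range n).biUnion (fun k => (a k).support) → f z n = 0 := by
      intro n z hz
      apply Finset.sum_eq_zero
      intro k hk
      by_contra hne
      exact hz (Finset.mem_biUnion.mpr ⟨k, hk, Finsupp.mem_support_iff.mpr hne⟩)
    have hgout : ∀ n z, z ∉ (Finset.range n).biUnion (fun k => (a k).support) → g z ∈ I ^ n := by
      intro n z hz
      have := hgI z n
      rwa [hzero n z hz, sub_zero] at this
    refine ⟨g, ?_, ?_⟩
    · intro n
      refine ((Finset.range n).biUnion (fun k => (a k).support)).finite_toSet.subset ?_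
      intro z hz
      by_contra hzS
      apply hz
      rw [smul_eq_mul, Ideal.mul_top]
      exact hgout n z hzS
    · intro n
      refine ⟨(Finset.range n).biUnion (fun k => (a k).support), ?_, ?_⟩
      · intro z hz
        exact Submodule.smul_mem_smul (hgout n z hz) Submodule.mem_top
      · set S := (Finset.range n).biUnion (fun k => (a k).support) with hS
        have hlc : ∀ k, k < n →
            Finsupp.linearCombination A m (a k) = ∑ z ∈ S, a k z • m z := by
          intro k hk
          rw [Finsupp.linearCombination_apply, Finsupp.sum]
          apply Finset.sum_subset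
          · intro z hz
            exact Finset.mem_biUnion.mpr ⟨k, Finset.mem_range.mpr hk, hz⟩
          · intro z _ hz
            rw [Finsupp.notMem_support_iff.mp hz, zero_smul]
        have h1 : ∑ z ∈ S, f z n • m z =
            ∑ k ∈ Finset.range n, Finsupp.linearCombination A m (a k) := by
          calc ∑ z ∈ S, f z n • m z = ∑ z ∈ S, ∑ k ∈ Finset.range n, a k z • m z := by
                apply Finset.sum_congr rfl
                intro z _
                exact Finset.sum_smul
            _ = ∑ k ∈ Finset.range n, ∑ z ∈ S, a k z • m z := Finset.sum_comm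
            _ = _ := by
                apply Finset.sum_congr rfl
                intro k hk
                exact (hlc k (Finset.mem_range.mp hk)).symm
        have h2 : x - ∑ z ∈ S, g z • m z = X n - ∑ z ∈ S, (g z - f z n) • m z := by
          rw [hXn n, ← h1]
          simp only [sub_smul, Finset.sum_sub_distrib]
          abel
        rw [h2]
        exact Submodule.sub_mem _ (hXmem n) (Submodule.sum_mem _ fun z _ =>
          Submodule.smul_mem_smul (hgI z n) Submodule.mem_top)
  · intro h
    rw [eq_top_iff]
    intro x _
    obtain ⟨g, _, hg⟩ := h x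
    obtain ⟨S, _, hS⟩ := hg 1
    rw [pow_one] at hS
    have : x = ∑ z ∈ S, g z • m z + (x - ∑ z ∈ S, g z • m z) := by abel
    rw [this]
    exact Submodule.add_mem_sup (Submodule.sum_mem _ fun z _ =>
      Submodule.smul_mem _ _ (Submodule.subset_span ⟨z, rfl⟩)) hS

end Groth.Agent.S17540
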