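import Groth.Statements.S17542
import Mathlib
-- import your own Groth.Agent.* helpers here

set_option autoImplicit false
universe u v w
open W4c5adicflatcompl
open CAlg

namespace Groth.Agent.S17542

/-- Over a Noetherian ring A which is I-adically complete, for a surjection φ : M → M'' of A-modules
with M finitely generated and a set Z, every I-adically decaying function Z → M'' is the composite
of φ with an I-adically decaying function Z → M. (This is the right exactness of the
decaying-functions functor on finitely generated modules; left exactness is the statement about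
submodules.) -/
theorem result {A : Type u} [CommRing A] [IsNoetherianRing A] (I : Ideal A)
    [IsAdicComplete I A] (Z : Type v) {M : Type w} {M'' : Type w} [AddCommGroup M] [Module A M]
    [Module.Finite A M] [AddCommGroup M''] [Module A M''] (φ : M →ₗ[A] M'')
    (hφ : Function.Surjective φ) (g : Z → M'') (hg : g ∈ decaying I Z M'') :
    ∃ f : Z → M, f ∈ decaying I Z M ∧ ∀ z, φ (f z) = g z := by
  classical
  haveI : Module.Finite A M'' := Module.Finite.of_surjective φ hφ
  have hmap : ∀ n : ℕ, Submodule.map φ (I ^ n • ⊤ : Submodule A M)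
      = (I ^ n • ⊤ : Submodule A M'') := by
    intro n
    rw [Submodule.map_smul'', Submodule.map_top, LinearMap.range_eq_top.mpr hφ]
  have hanti : ∀ {a b : ℕ}, a ≤ b → (I ^ b • ⊤ : Submodule A M'') ≤ I ^ a • ⊤ :=
    fun h => Submodule.smul_mono (Ideal.pow_le_pow_right h) le_rfl
  have hanti' : ∀ {a b : ℕ}, a ≤ b → (I ^ b • ⊤ : Submodule A M) ≤ I ^ a • ⊤ :=
    fun h => Submodule.smul_mono (Ideal.pow_le_pow_right h) le_rfl
  have hkrull : (⨅ i : ℕ, (I ^ i • ⊤ : Submodule A M'')) = ⊥ :=
    Ideal.iInf_pow_smul_eq_bot_of_le_jacobson I (IsAdicComplete.le_jacobson_bot I)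
  have hex : ∀ z, ∃ m : M, φ m = g z ∧
      ∀ n, g z ∈ (I ^ n • ⊤ : Submodule A M'') → m ∈ (I ^ n • ⊤ : Submodule A M) := by
    intro z
    by_cases h : ∀ n, g z ∈ (I ^ n • ⊤ : Submodule A M'')
    · have : g z ∈ (⨅ i : ℕ, (I ^ i • ⊤ : Submodule A M'')) := (Submodule.mem_iInf _).mpr h
      rw [hkrull, Submodule.mem_bot] at this
      exact ⟨0, by rw [map_zero, this], fun n _ => Submodule.zero_mem _⟩
    · push_neg at h
      have hn0 : Nat.find h ≠ 0 := by
        intro h0
        have := Nat.find_spec h
        rw [h0, pow_zero, Ideal.one_eq_top, Submodule.top_smul] at this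
        exact this Submodule.mem_top
      have hmem : g z ∈ (I ^ (Nat.find h - 1) • ⊤ : Submodule A M'') := by
        by_contra hc
        have := Nat.find_min' h hc
        omega
      rw [← hmap] at hmem
      obtain ⟨m, hm, hmz⟩ := hmem
      refine ⟨m, hmz, fun n hn => ?_⟩
      have hlt : n < Nat.find h := by
        by_contra hge
        push_neg at hge
        exact Nat.find_spec h (hanti hge hn)
      exact hanti' (by omega : n ≤ Nat.find h - 1) hm
  choose f hf1 hf2 using hex
  refine ⟨f, ?_, hf1⟩
  intro n
  refine (hg n).subset ?_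
  intro z hz hmem
  exact hz (hf2 z n hmem)

end Groth.Agent.S17542
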