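import Groth.Statements.S17543
import Mathlib
import Groth.Agent.Lib.helper8.Decaying
import Groth.Agent.S17541
-- import your own Groth.Agent.* helpers here

set_option autoImplicit false
universe u v w
open W4c5adicflatcompl
open CAlg

namespace Groth.Agent.S17543

/-- Over a Noetherian ring A which is I-adically complete, for a finitely generated A-module M and a set
Z, the canonical map from M ⊗ (decaying functions Z → A) to functions Z → M is injective and its
image is the module of decaying functions Z → M. -/
theorem result {A : Type u} [CommRing A] [IsNoetherianRing A] (I : Ideal A)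
    [IsAdicComplete I A] (Z : Type v) (M : Type w) [AddCommGroup M] [Module A M]
    [Module.Finite A M] :
    Function.Injective
        ((TensorProduct.piScalarRightHom A A M Z) ∘ₗ ((decaying I Z A).subtype.lTensor M)) ∧
      LinearMap.range
        ((TensorProduct.piScalarRightHom A A M Z) ∘ₗ ((decaying I Z A).subtype.lTensor M)) =
        decaying I Z M := by
  classical
  set Φ := (TensorProduct.piScalarRightHom A A M Z) ∘ₗ ((decaying I Z A).subtype.lTensor M) with hΦ
  have hΦtmul : ∀ (x : M) (g : decaying I Z A),
      Φ (x ⊗ₜ[A] g) = fun z => (g : Z → A) z • x := by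
    intro x g
    rw [hΦ, LinearMap.comp_apply, LinearMap.lTensor_tmul, TensorProduct.piScalarRightHom_tmul]
    rfl
  obtain ⟨s, m, hm⟩ := Module.Finite.exists_fin (R := A) (M := M)
  let π : (Fin s → A) →ₗ[A] M := Fintype.linearCombination A m
  have hπ : ∀ c, π c = ∑ j, c j • m j := fun c => Fintype.linearCombination_apply A m c
  have hπsurj : Function.Surjective π := by
    intro x
    have hx : x ∈ Submodule.span A (Set.range m) := by rw [hm]; exact Submodule.mem_top
    obtain ⟨c, hc⟩ := (Submodule.mem_span_range_iff_exists_fun A).mp hx
    exact ⟨c, by rw [hπ, hc]⟩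
  refine ⟨?_, ?_⟩
  · rw [← LinearMap.ker_eq_bot, LinearMap.ker_eq_bot']
    intro t ht
    obtain ⟨g, rfl⟩ := Groth.Agent.Lib.helper8.helper8_tensor_eq_sum m hm t
    have hz : ∀ z, ∑ j, ((g j : decaying I Z A) : Z → A) z • m j = 0 := by
      intro z
      have := congrFun ht z
      rw [map_sum, Finset.sum_apply] at this
      simpa [hΦtmul] using this
    let K : Submodule A (Fin s → A) := LinearMap.ker π
    have hXmem : ∀ z, (fun j => ((g j : decaying I Z A) : Z → A) z) ∈ K := by
      intro z; rw [LinearMap.mem_ker, hπ]; exact hz z
    let X : Z → K := fun z => ⟨_, hXmem z⟩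
    have hXdec : X ∈ decaying I Z K := by
      rw [Groth.Agent.S17541.result I Z (Fin s → A) K X]
      exact Groth.Agent.Lib.helper8.helper8_vec_decaying I Z s g
    obtain ⟨k, φ, hφ⟩ := Module.Finite.exists_fin' A K
    obtain ⟨Y, hY, hYX⟩ :=
      Groth.Agent.Lib.helper8.helper8_exists_decaying_lift I Z φ hφ X hXdec
    let b : Fin k → (Fin s → A) :=
      fun i => ((φ (fun i' => if i = i' then 1 else 0) : K) : Fin s → A)
    have hb : ∀ i, ∑ j, b i j • m j = 0 := by
      intro i
      have := (φ (fun i' => if i = i' then 1 else 0)).2
      rw [LinearMap.mem_ker, hπ] at this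
      exact this
    let y : Fin k → decaying I Z A :=
      fun i => ⟨fun z => Y z i, Groth.Agent.Lib.helper8.helper8_coord_decaying I Z k Y hY i⟩
    have hg : ∀ j, g j = ∑ i, b i j • y i := by
      intro j
      apply Subtype.ext
      funext z
      rw [Submodule.coe_sum, Finset.sum_apply]
      have h1 : ((g j : decaying I Z A) : Z → A) z = ((φ (Y z) : K) : Fin s → A) j := by
        rw [hYX z]
      rw [h1, LinearMap.pi_apply_eq_sum_univ φ (Y z), Submodule.coe_sum, Finset.sum_apply]
      apply Finset.sum_congr rfl
      intro i _
      change Y z i * _ = _ * Y z i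
      rw [mul_comm]
    calc ∑ j, m j ⊗ₜ[A] g j = ∑ j, ∑ i, (b i j • m j) ⊗ₜ[A] y i := by
          apply Finset.sum_congr rfl
          intro j _
          rw [hg j, TensorProduct.tmul_sum]
          apply Finset.sum_congr rfl
          intro i _
          rw [TensorProduct.tmul_smul, TensorProduct.smul_tmul']
      _ = ∑ i, (∑ j, b i j • m j) ⊗ₜ[A] y i := by
          rw [Finset.sum_comm]
          apply Finset.sum_congr rfl
          intro i _
          rw [TensorProduct.sum_tmul]
      _ = 0 := by
          apply Finset.sum_eq_zero
          intro i _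
          rw [hb i, TensorProduct.zero_tmul]
  · apply le_antisymm
    · rintro _ ⟨t, rfl⟩
      induction t using TensorProduct.induction_on with
      | zero => rw [map_zero]; exact Submodule.zero_mem _
      | tmul x g =>
        rw [hΦtmul]
        intro n
        refine (g.2 n).subset ?_
        intro z hz hmem
        apply hz
        rw [smul_eq_mul, Ideal.mul_top] at hmem
        exact Submodule.smul_mem_smul hmem Submodule.mem_top
      | add t t' ht ht' => rw [map_add]; exact Submodule.add_mem _ ht ht'
    · intro f hf
      obtain ⟨F, hF, hFf⟩ :=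
        Groth.Agent.Lib.helper8.helper8_exists_decaying_lift I Z π hπsurj f hf
      refine ⟨∑ j, m j ⊗ₜ[A] (⟨fun z => F z j,
        Groth.Agent.Lib.helper8.helper8_coord_decaying I Z s F hF j⟩ : decaying I Z A), ?_⟩
      rw [map_sum]
      funext z
      rw [Finset.sum_apply, ← hFf z, hπ]
      apply Finset.sum_congr rfl
      intro j _
      rw [hΦtmul]

end Groth.Agent.S17543
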