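import Groth.Statements.S17544
import Mathlib
import Groth.Agent.S17541
import Groth.Agent.S17542
-- import your own Groth.Agent.* helpers here

set_option autoImplicit false
universe u v w
open W4c5adicflatcompl
open CAlg

namespace Groth.Agent.S17544

/-- For a Noetherian ring A which is I-adically complete, a set Z and n ≥ 0, reduction modulo I^n maps
the decaying functions Z → A onto the finitely supported functions Z → A/I^n, and its kernel, the
decaying functions with all values in I^n, equals I^n times the module of decaying functions; so
(A/I^n) ⊗ F_dec(Z, A) → F_fin(Z, A/I^n) is bijective. -/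
theorem result {A : Type u} [CommRing A] [IsNoetherianRing A]
    (I : Ideal A) [IsAdicComplete I A] (Z : Type v) (n : ℕ) :
    (∀ g : Z →₀ A ⧸ I ^ n, ∃ f : decaying I Z A,
        ∀ z, Ideal.Quotient.mk (I ^ n) ((f : Z → A) z) = g z) ∧
      ∀ f : decaying I Z A,
        f ∈ (I ^ n • ⊤ : Submodule A (decaying I Z A)) ↔ ∀ z, (f : Z → A) z ∈ I ^ n := by
  classical
  refine ⟨?_, ?_⟩
  · intro g
    have hdec : (fun z => if g z = 0 then (0:A) else
        Function.surjInv Ideal.Quotient.mk_surjective (g z)) ∈ decaying I Z A := by
      intro m
      refine g.support.finite_toSet.subset ?_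
      intro z hz
      simp only [Set.mem_ofPred_eq] at hz
      rw [Finset.mem_coe, Finsupp.mem_support_iff]
      intro h0
      apply hz
      rw [if_pos h0]; exact Submodule.zero_mem _
    refine ⟨⟨_, hdec⟩, fun z => ?_⟩
    change Ideal.Quotient.mk (I ^ n) (if g z = 0 then (0:A) else _) = g z
    split_ifs with h0
    · rw [map_zero, h0]
    · exact Function.surjInv_eq _ _
  · intro f
    constructor
    · intro hf
      refine Submodule.smul_induction_on hf ?_ ?_
      · intro r hr h _ z
        change r • (h : Z → A) z ∈ I ^ n
        exact Ideal.mul_mem_right _ _ hr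
      · intro x y hx hy z
        exact Ideal.add_mem _ (hx z) (hy z)
    · intro hf
      let f' : Z → ↥(I ^ n) := fun z => ⟨(f : Z → A) z, hf z⟩
      have hf' : f' ∈ decaying I Z ↥(I ^ n) :=
        (Groth.Agent.S17541.result I Z A (I ^ n) f').mpr f.2
      obtain ⟨s, φ, hφ⟩ := Module.Finite.exists_fin' A ↥(I ^ n)
      obtain ⟨F, hF, hFf⟩ := Groth.Agent.S17542.result I Z φ hφ f' hf'
      have hcoord : ∀ (m : ℕ) (x : Fin s → A),
          x ∈ (I ^ m • ⊤ : Submodule A (Fin s → A)) → ∀ j, x j ∈ I ^ m := by
        intro m x hx
        refine Submodule.smul_induction_on hx ?_ ?_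
        · intro r hr y _ j
          exact Ideal.mul_mem_right _ _ hr
        · intro x y hx hy j
          exact Ideal.add_mem _ (hx j) (hy j)
      have hh : ∀ j, (fun z => F z j) ∈ decaying I Z A := by
        intro j m
        refine (hF m).subset ?_
        intro z hz hmem
        apply hz
        have := hcoord m (F z) hmem j
        rw [smul_eq_mul, Ideal.mul_top]; exact this
      have hsum : f = ∑ j, ((φ (fun k => if j = k then 1 else 0) : ↥(I^n)) : A) •
          (⟨fun z => F z j, hh j⟩ : decaying I Z A) := by
        apply Subtype.ext
        funext z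
        rw [Submodule.coe_sum, Finset.sum_apply]
        have h1 : ((f : Z → A) z) = ((φ (F z) : ↥(I^n)) : A) := by rw [hFf z]
        rw [h1, LinearMap.pi_apply_eq_sum_univ φ (F z), Submodule.coe_sum]
        apply Finset.sum_congr rfl
        intro j _
        change F z j * _ = _ * F z j
        rw [mul_comm]
      rw [hsum]
      exact Submodule.sum_mem _ (fun j _ => Submodule.smul_mem_smul (φ _).2 Submodule.mem_top)

end Groth.Agent.S17544
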