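import Groth.Statements.S17545
import Mathlib
import Groth.Agent.S17541
import Groth.Agent.S17542
-- import your own Groth.Agent.* helpers here

set_option autoImplicit false
universe u v w
open W4c5adicflatcompl
open CAlg

namespace Groth.Agent.S17545

/-- For a Noetherian ring A which is I-adically complete and any set Z, the A-module of I-adically
decaying functions Z → A is flat. -/
theorem result {A : Type u} [CommRing A] [IsNoetherianRing A]
    (I : Ideal A) [IsAdicComplete I A] (Z : Type v) :
    Module.Flat A (decaying I Z A) := by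
  classical
  apply Module.Flat.of_forall_isTrivialRelation
  intro l a x h
  let ev : (Fin l → A) →ₗ[A] A := Fintype.linearCombination A a
  have hev : ∀ c, ev c = ∑ i, c i • a i := fun c => Fintype.linearCombination_apply A a c
  let K : Submodule A (Fin l → A) := LinearMap.ker ev
  have hXmem : ∀ z, (fun i => ((x i : decaying I Z A) : Z → A) z) ∈ K := by
    intro z
    rw [LinearMap.mem_ker, hev]
    have := congrArg (fun d : decaying I Z A => (d : Z → A) z) h
    simp only [Submodule.coe_sum, Finset.sum_apply, Submodule.coe_smul, Pi.smul_apply,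
      smul_eq_mul, Submodule.coe_zero, Pi.zero_apply] at this
    rw [← this]
    apply Finset.sum_congr rfl
    intro i _
    rw [smul_eq_mul, mul_comm]
  let X : Z → K := fun z => ⟨_, hXmem z⟩
  have hXdec : X ∈ decaying I Z K := by
    rw [Groth.Agent.S17541.result I Z (Fin l → A) K X, mem_decaying_iff]
    intro n
    refine (Set.finite_iUnion (fun i : Fin l => (x i).2 n)).subset ?_
    intro z hz
    by_contra hcon
    apply hz
    have hall : ∀ i, ((x i : decaying I Z A) : Z → A) z ∈ I ^ n := by
      intro i
      by_contra hi
      apply hcon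
      rw [Set.mem_iUnion]
      refine ⟨i, ?_⟩
      intro hmem
      rw [smul_eq_mul, Ideal.mul_top] at hmem
      exact hi hmem
    change (fun i => ((x i : decaying I Z A) : Z → A) z) ∈ (I ^ n • ⊤ : Submodule A (Fin l → A))
    rw [pi_eq_sum_univ (fun i => ((x i : decaying I Z A) : Z → A) z)]
    exact Submodule.sum_mem _ (fun i _ => Submodule.smul_mem_smul (hall i) Submodule.mem_top)
  obtain ⟨k, φ, hφ⟩ := Module.Finite.exists_fin' A K
  obtain ⟨Y, hY, hYX⟩ := Groth.Agent.S17542.result I Z φ hφ X hXdec
  have hcoord : ∀ (m : ℕ) (v : Fin k → A),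
      v ∈ (I ^ m • ⊤ : Submodule A (Fin k → A)) → ∀ j, v j ∈ I ^ m := by
    intro m v hv
    refine Submodule.smul_induction_on hv ?_ ?_
    · intro r hr y _ j
      exact Ideal.mul_mem_right _ _ hr
    · intro v w hv hw j
      exact Ideal.add_mem _ (hv j) (hw j)
  have hy : ∀ j, (fun z => Y z j) ∈ decaying I Z A := by
    intro j m
    refine (hY m).subset ?_
    intro z hz hmem
    apply hz
    have := hcoord m (Y z) hmem j
    rw [smul_eq_mul, Ideal.mul_top]; exact this
  refine ⟨k, fun i j => ((φ (fun j' => if j = j' then 1 else 0) : K) : Fin l → A) i,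
    fun j => ⟨fun z => Y z j, hy j⟩, ?_, ?_⟩
  · intro i
    apply Subtype.ext
    funext z
    rw [Submodule.coe_sum, Finset.sum_apply]
    have h1 : ((x i : decaying I Z A) : Z → A) z = ((φ (Y z) : K) : Fin l → A) i := by
      rw [hYX z]
    rw [h1, LinearMap.pi_apply_eq_sum_univ φ (Y z), Submodule.coe_sum, Finset.sum_apply]
    apply Finset.sum_congr rfl
    intro j _
    change Y z j * _ = _ * Y z j
    rw [mul_comm]
  · intro j
    have := (φ (fun j' => if j = j' then 1 else 0)).2
    rw [LinearMap.mem_ker, hev] at this
    refine Eq.trans (Finset.sum_congr rfl (fun i _ => ?_)) this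
    rw [smul_eq_mul, mul_comm]

end Groth.Agent.S17545
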