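import Groth.Statements.S17546
import Mathlib
import Groth.Agent.S17544
-- import your own Groth.Agent.* helpers here

set_option autoImplicit false
universe u v w
open W4c5adicflatcompl
open CAlg

namespace Groth.Agent.S17546

/-- For a Noetherian ring A which is I-adically complete and any set Z, the A-module of I-adically
decaying functions Z → A is I-adically complete. -/
theorem result {A : Type u} [CommRing A] [IsNoetherianRing A]
    (I : Ideal A) [IsAdicComplete I A] (Z : Type v) :
    IsAdicComplete I (decaying I Z A) := by
  classical
  have hcrit : ∀ (n : ℕ) (f : decaying I Z A),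
      f ∈ (I ^ n • ⊤ : Submodule A (decaying I Z A)) ↔ ∀ z, (f : Z → A) z ∈ I ^ n :=
    fun n => (Groth.Agent.S17544.result I Z n).2
  have htopA : ∀ n : ℕ, (I ^ n • ⊤ : Submodule A A) = I ^ n := fun n => by
    rw [smul_eq_mul, Ideal.mul_top]
  have hH : IsHausdorff I (decaying I Z A) := by
    refine ⟨fun f hf => ?_⟩
    apply Subtype.ext
    funext z
    change (f : Z → A) z = 0
    apply IsHausdorff.haus (inferInstance : IsHausdorff I A)
    intro n
    rw [SModEq.sub_mem, sub_zero, htopA]
    have := hf n
    rw [SModEq.sub_mem, sub_zero, hcrit] at this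
    exact this z
  have hP : IsPrecomplete I (decaying I Z A) := by
    refine ⟨fun f hf => ?_⟩
    have hz : ∀ z, ∃ L : A, ∀ n, (f n : Z → A) z ≡ L [SMOD (I ^ n • ⊤ : Submodule A A)] := by
      intro z
      apply IsPrecomplete.prec (inferInstance : IsPrecomplete I A)
      intro m n hmn
      have := hf hmn
      rw [SModEq.sub_mem, hcrit] at this
      rw [SModEq.sub_mem, htopA]
      exact this z
    choose L hL using hz
    have hLdec : L ∈ decaying I Z A := by
      intro n
      refine ((f n).2 n).subset ?_
      intro z hz hmem
      apply hz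
      have h1 := hL z n
      rw [SModEq.sub_mem] at h1
      have : L z = (f n : Z → A) z - ((f n : Z → A) z - L z) := by ring
      rw [this]
      exact Submodule.sub_mem _ hmem h1
    refine ⟨⟨L, hLdec⟩, fun n => ?_⟩
    rw [SModEq.sub_mem, hcrit]
    intro z
    have h1 := hL z n
    rw [SModEq.sub_mem, htopA] at h1
    exact h1
  exact { toIsHausdorff := hH, toIsPrecomplete := hP }

end Groth.Agent.S17546
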