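import Groth.Statements.S17548
import Mathlib
import Groth.Agent.Lib.helper8.Decaying
-- import your own Groth.Agent.* helpers here

set_option autoImplicit false
universe u v w
open W4c5adicflatcompl
open CAlg

namespace Groth.Agent.S17548

/-- For a Noetherian ring A with I-adic completion Â, a set Z, an I-adically complete A-module M and any
function f : Z → M, there is a unique A-linear map from the module of I-adically decaying functions
Z → Â to M taking, for every z, the function supported at z with value 1 to f z. -/
theorem result {A : Type u} [CommRing A] [IsNoetherianRing A]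
    (I : Ideal A) (Z : Type v) [DecidableEq Z] (M : Type w) [AddCommGroup M] [Module A M]
    [IsAdicComplete I M] (f : Z → M) :
    ∃! φ : decaying I Z (AdicCompletion I A) →ₗ[A] M,
      ∀ z, φ (single I z (1 : AdicCompletion I A)) = f z := by
  have hI : I.FG := IsNoetherian.noetherian I
  obtain ⟨φ, hφ⟩ := Groth.Agent.Lib.helper8.helper8_exists_lift_decaying I Z (AdicCompletion I A) M
    (fun z => Groth.Agent.Lib.helper8.helper8_mu I M (f z))
  refine ⟨φ, fun z => ?_, ?_⟩
  · rw [hφ, Groth.Agent.Lib.helper8.helper8_mu_one]
  · intro φ' hφ'
    have : φ' - φ = 0 := by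
      apply Groth.Agent.Lib.helper8.helper8_eq_zero_of_single I hI Z (AdicCompletion I A) M
      intro z c
      have h0 : (φ' - φ) ∘ₗ Groth.Agent.Lib.helper8.helper8_singleL I Z (AdicCompletion I A) z
          = 0 := by
        apply Groth.Agent.Lib.helper8.helper8_adicCompletion_linearMap_eq_zero I hI M
        change (φ' - φ) (single I z 1) = 0
        rw [LinearMap.sub_apply, hφ' z, hφ, Groth.Agent.Lib.helper8.helper8_mu_one, sub_self]
      exact congrArg (fun l : AdicCompletion I A →ₗ[A] M => l c) h0
    exact sub_eq_zero.mp this

end Groth.Agent.S17548
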