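import Groth.Statements.S17549
import Mathlib
import Groth.Agent.Lib.helper8.Decaying
import Groth.Agent.S17548
-- import your own Groth.Agent.* helpers here

set_option autoImplicit false
universe u
open W4c5adicflatcompl
open CAlg

namespace Groth.Agent.S17549

/-- Over a Noetherian ring A with I-adic completion Â, an A-module P is I-adically projective
(I-adically complete, and every A-linear map from P to the target of a surjection between I-adically
complete modules lifts along that surjection) exactly when P is a retract of some module of
I-adically decaying functions Z → Â: there are a set Z, an A-linear map i from P to the decaying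
functions Z → Â and an A-linear map r back with r ∘ i the identity of P. Test modules, P and Z live
in the universe of A. -/
theorem result {A : Type u} [CommRing A] [IsNoetherianRing A]
    (I : Ideal A) (P : Type u) [AddCommGroup P] [Module A P] :
    IsAdicProjective I P ↔
      ∃ (Z : Type u) (i : P →ₗ[A] decaying I Z (AdicCompletion I A))
        (r : decaying I Z (AdicCompletion I A) →ₗ[A] P), r ∘ₗ i = LinearMap.id := by
  classical
  have hI : I.FG := IsNoetherian.noetherian I
  haveI hÂ : IsAdicComplete I (AdicCompletion I A) := AdicCompletion.isAdicComplete hI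
  have hD : ∀ Z : Type u, IsAdicComplete I (decaying I Z (AdicCompletion I A)) := fun Z =>
    Groth.Agent.Lib.helper8.helper8_decaying_isAdicComplete I hI Z (AdicCompletion I A)
  constructor
  · rintro ⟨hPc, hlift⟩
    haveI := hPc
    obtain ⟨φ, hφ, -⟩ := Groth.Agent.S17548.result I P P (fun p => p)
    have hsurj : Function.Surjective φ := fun p => ⟨_, hφ p⟩
    obtain ⟨χ, hχ⟩ := hlift (decaying I P (AdicCompletion I A)) P (hD P) hPc φ hsurj LinearMap.id
    exact ⟨P, χ, φ, hχ⟩
  · rintro ⟨Z, i, r, hri⟩
    have hri' : ∀ x, r (i x) = x := fun x => congrArg (fun l : P →ₗ[A] P => l x) hri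
    haveI := hD Z
    have hH : IsHausdorff I P := by
      refine ⟨fun x hx => ?_⟩
      have : i x = 0 := by
        rw [IsHausdorff.eq_iff_smodEq (I := I)]
        intro n
        rw [SModEq.sub_mem, sub_zero]
        have := hx n
        rw [SModEq.sub_mem, sub_zero] at this
        exact Groth.Agent.Lib.helper8.helper8_map_mem_pow_smul_top I i n x this
      rw [← hri' x, this, map_zero]
    have hP : IsPrecomplete I P := by
      refine ⟨fun x hx => ?_⟩
      obtain ⟨L, hL⟩ := IsPrecomplete.prec
        (inferInstance : IsPrecomplete I (decaying I Z (AdicCompletion I A)))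
        (f := fun n => i (x n)) (by
          intro m n hmn
          have := hx hmn
          rw [SModEq.sub_mem] at this ⊢
          rw [← map_sub]
          exact Groth.Agent.Lib.helper8.helper8_map_mem_pow_smul_top I i m _ this)
      refine ⟨r L, fun n => ?_⟩
      have := hL n
      rw [SModEq.sub_mem] at this ⊢
      have h2 := Groth.Agent.Lib.helper8.helper8_map_mem_pow_smul_top I r n _ this
      rw [map_sub, hri'] at h2
      exact h2
    have hPc : IsAdicComplete I P := { toIsHausdorff := hH, toIsPrecomplete := hP }
    refine ⟨hPc, ?_⟩
    intro M N _ _ _ _ hM hN φ hφ ψ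
    haveI := hM
    haveI := hN
    choose m hm using fun z : Z => hφ (ψ (r (single I z 1)))
    obtain ⟨χ', hχ', -⟩ := Groth.Agent.S17548.result I Z M m
    obtain ⟨ψ₀, -, huniq⟩ := Groth.Agent.S17548.result I Z N (fun z => ψ (r (single I z 1)))
    have h1 : φ ∘ₗ χ' = ψ₀ := huniq _ (fun z => by rw [LinearMap.comp_apply, hχ', hm])
    have h2 : ψ ∘ₗ r = ψ₀ := huniq _ (fun z => rfl)
    refine ⟨χ' ∘ₗ i, ?_⟩
    rw [← LinearMap.comp_assoc, h1, ← h2, LinearMap.comp_assoc, hri, LinearMap.comp_id]

end Groth.Agent.S17549
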