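import Groth.Statements.S17551
import Mathlib
import Groth.Agent.Lib.helper8.Decaying
import Groth.Agent.Lib.helper8.AdicFree
import Groth.Agent.S17547
import Groth.Agent.S17548
-- import your own Groth.Agent.* helpers here

set_option autoImplicit false
universe u
open W4c5adicflatcompl
open CAlg
open Groth.Agent.Lib.helper8

namespace Groth.Agent.S17551

theorem helper8_sysLim_free {A : Type u} [CommRing A] [IsNoetherianRing A] (I : Ideal A)
    [I.IsMaximal] [IsAdicComplete I A]
    (M : ℕ → Type u) [∀ n, AddCommGroup (M n)] [∀ n, Module A (M n)]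
    [∀ n, Module (A ⧸ I ^ (n + 1)) (M n)]
    [∀ n, IsScalarTower A (A ⧸ I ^ (n + 1)) (M n)]
    [∀ n, Module.Flat (A ⧸ I ^ (n + 1)) (M n)]
    (ψ : ∀ n, M (n + 1) →ₗ[A] M n) (hψ : ∀ n, Function.Surjective (ψ n))
    (hker : ∀ n, LinearMap.ker (ψ n) = (I ^ (n + 1) • ⊤ : Submodule A (M (n + 1)))) :
    IsAdicFree I (sysLim M ψ) ∧ ∀ n, Function.Surjective (sysProj M ψ n) ∧
        LinearMap.ker (sysProj M ψ n) = (I ^ (n + 1) • ⊤ : Submodule A (sysLim M ψ)) := by
  classical
  have hIfg : I.FG := IsNoetherian.noetherian I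
  have hF0 : ∀ (n : ℕ) (r : A), r ∈ I ^ (n + 1) → ∀ x : M n, r • x = 0 := by
    intro n r hr x
    rw [← algebraMap_smul (A ⧸ I ^ (n + 1)) r x, Ideal.Quotient.algebraMap_eq,
      Ideal.Quotient.eq_zero_iff_mem.mpr hr, zero_smul]
  have hbot : ∀ (n k : ℕ), n + 1 ≤ k → (I ^ k • ⊤ : Submodule A (M n)) = ⊥ := by
    intro n k hk
    rw [eq_bot_iff]
    intro x hx
    refine Submodule.smul_induction_on hx ?_ ?_
    · intro r hr y _
      rw [Submodule.mem_bot]
      exact hF0 n r (Ideal.pow_le_pow_right hk hr) y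
    · intro a b ha hb
      exact Submodule.add_mem _ ha hb
  haveI hMc : ∀ n, IsAdicComplete I (M n) := fun n =>
    helper8_isAdicComplete_of_pow_smul_eq_bot I (M n) (n + 1) (hbot n (n + 1) le_rfl)
  -- Step 1
  have hproj : ∀ n, Function.Surjective (sysProj M ψ n) := by
    intro n y
    obtain ⟨x, hx, hxn⟩ := helper8_tower_surj n M (fun n => ψ n) hψ y
    exact ⟨⟨x, hx⟩, hxn⟩
  -- Step 2
  obtain ⟨Z, m₀, hP1, hP2⟩ := helper8_exists_basis_mod I (M 0)
  have hbot0 : (I • ⊤ : Submodule A (M 0)) = ⊥ := by
    have := hbot 0 1 le_rfl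
    rwa [pow_one] at this
  choose mL hmL using fun z => hproj 0 (m₀ z)
  have hex := fun n => Groth.Agent.S17548.result I Z (M n) (fun z => sysProj M ψ n (mL z))
  choose φ hφ using hex
  have hφ1 : ∀ n z, φ n (single I z (1 : AdicCompletion I A)) = sysProj M ψ n (mL z) :=
    fun n => (hφ n).1
  have hφu : ∀ n (χ : decaying I Z (AdicCompletion I A) →ₗ[A] M n),
      (∀ z, χ (single I z (1 : AdicCompletion I A)) = sysProj M ψ n (mL z)) → χ = φ n :=
    fun n => (hφ n).2
  have hφ0 : ∀ z, φ 0 (single I z (1 : AdicCompletion I A)) = m₀ z := fun z => by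
    rw [hφ1 0 z, hmL z]
  have hcompat : ∀ n, ψ n ∘ₗ φ (n + 1) = φ n := by
    intro n
    apply hφu n
    intro z
    rw [LinearMap.comp_apply, hφ1 (n + 1) z]
    exact (mL z).2 n
  let Φ : decaying I Z (AdicCompletion I A) →ₗ[A] sysLim M ψ :=
    LinearMap.codRestrict (sysLim M ψ) (LinearMap.pi φ) (fun d n => by
      have := LinearMap.congr_fun (hcompat n) d
      exact this)
  have hΦ : ∀ d n, sysProj M ψ n (Φ d) = φ n d := fun d n => rfl
  -- Step 3
  have hφsurj : ∀ n, Function.Surjective (φ n) := by
    intro n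
    induction n with
    | zero =>
      intro y
      obtain ⟨S, c, hS⟩ := hP1 y
      rw [hbot0, Submodule.mem_bot, sub_eq_zero] at hS
      refine ⟨∑ z ∈ S, c z • single I z (1 : AdicCompletion I A), ?_⟩
      rw [helper8_map_sum_single I Z m₀ (φ 0) hφ0, hS]
    | succ n ih =>
      have hsub : (I ^ (n + 1) • ⊤ : Submodule A (M (n + 1))) ≤ LinearMap.range (φ (n + 1)) := by
        intro x hx
        refine Submodule.smul_induction_on hx ?_ ?_
        · intro r hr w _
          obtain ⟨d', hd'⟩ := ih (ψ n w)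
          have hw : w - φ (n + 1) d' ∈ (I ^ (n + 1) • ⊤ : Submodule A (M (n + 1))) := by
            rw [← hker n, LinearMap.mem_ker, map_sub, sub_eq_zero, ← hd', ← hcompat n]
            rfl
          have hrw : r • (w - φ (n + 1) d') = 0 := by
            have h1 : r • (w - φ (n + 1) d') ∈
                (I ^ (n + 1 + (n + 1)) • ⊤ : Submodule A (M (n + 1))) := by
              rw [pow_add, Submodule.mul_smul]
              exact Submodule.smul_mem_smul hr hw
            rw [hbot (n + 1) _ (by omega), Submodule.mem_bot] at h1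
            exact h1
          refine ⟨r • d', ?_⟩
          rw [map_smul]
          rw [smul_sub, sub_eq_zero] at hrw
          exact hrw.symm
        · rintro a b ⟨da, rfl⟩ ⟨db, rfl⟩
          exact ⟨da + db, map_add _ _ _⟩
      intro y
      obtain ⟨d, hd⟩ := ih (ψ n y)
      have hy : y - φ (n + 1) d ∈ (I ^ (n + 1) • ⊤ : Submodule A (M (n + 1))) := by
        rw [← hker n, LinearMap.mem_ker, map_sub, sub_eq_zero, ← hd, ← hcompat n]
        rfl
      obtain ⟨d2, hd2⟩ := hsub hy
      refine ⟨d2 + d, ?_⟩
      rw [map_add, hd2]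
      abel
  -- Step 4
  have hkermono : ∀ n, LinearMap.ker (φ (n + 1)) ≤ LinearMap.ker (φ n) := by
    intro n d hd
    rw [LinearMap.mem_ker] at hd ⊢
    rw [← hcompat n, LinearMap.comp_apply, hd, map_zero]
  have hker0 : ∀ n, LinearMap.ker (φ n) ≤ LinearMap.ker (φ 0) := by
    intro n
    induction n with
    | zero => exact le_rfl
    | succ n ih => exact (hkermono n).trans ih
  have hP5 : ∀ n, LinearMap.ker (φ n) ≤
      (I • ⊤ : Submodule A (decaying I Z (AdicCompletion I A))) := by
    intro n d hd
    have h0 : φ 0 d = 0 := LinearMap.mem_ker.mp (hker0 n hd)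
    exact helper8_mem_smul_of_map_mem I Z m₀ hP2 (φ 0) hφ0 d
      (by rw [h0]; exact Submodule.zero_mem _)
  have hP6 : ∀ n, LinearMap.ker (φ n) ≤ I • LinearMap.ker (φ n) ⊔
      (I ^ (n + 1) • ⊤ : Submodule A (decaying I Z (AdicCompletion I A))) := by
    intro n x hxK
    have hx0 : φ n x = 0 := LinearMap.mem_ker.mp hxK
    have hxI := hP5 n hxK
    obtain ⟨s, r, hr⟩ := Submodule.fg_iff_exists_fin_generating_family.mp hIfg
    obtain ⟨cc, _, hxeq⟩ := helper8_exists_sum_of_mem_smul I r hr ⊤ x hxI
    have hx0' : ∑ i, (Ideal.Quotient.mk (I ^ (n + 1)) (r i)) • φ n (cc i) = 0 := by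
      rw [hxeq, map_sum] at hx0
      refine Eq.trans ?_ hx0
      apply Finset.sum_congr rfl
      intro i _
      rw [map_smul, ← Ideal.Quotient.algebraMap_eq, algebraMap_smul]
    obtain ⟨κ, a, y, hy, ha⟩ := Module.Flat.isTrivialRelation_of_sum_smul_eq_zero hx0'
    choose a' ha' using fun i j => Ideal.Quotient.mk_surjective (a i j)
    choose e he using fun j => hφsurj n (y j)
    let kk : Fin s → decaying I Z (AdicCompletion I A) := fun i => cc i - ∑ j, a' i j • e j
    have hkk : ∀ i, kk i ∈ LinearMap.ker (φ n) := by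
      intro i
      have hy' : φ n (cc i) = ∑ j, a i j • y j := hy i
      rw [LinearMap.mem_ker, map_sub, map_sum, hy', sub_eq_zero]
      apply Finset.sum_congr rfl
      intro j _
      rw [map_smul, he, ← ha' i j, ← Ideal.Quotient.algebraMap_eq, algebraMap_smul]
    have hri : ∀ i, r i ∈ I := by
      intro i
      rw [← hr]
      exact Submodule.subset_span ⟨i, rfl⟩
    have hcoef : ∀ j, ∑ i, r i * a' i j ∈ I ^ (n + 1) := by
      intro j
      rw [← Ideal.Quotient.eq_zero_iff_mem, map_sum]
      refine Eq.trans ?_ (ha j)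
      apply Finset.sum_congr rfl
      intro i _
      rw [map_mul, ha']
    have h5 : ∑ i, r i • ∑ j, a' i j • e j = ∑ j, (∑ i, r i * a' i j) • e j := by
      calc ∑ i, r i • ∑ j, a' i j • e j = ∑ i, ∑ j, (r i * a' i j) • e j := by
            apply Finset.sum_congr rfl
            intro i _
            rw [Finset.smul_sum]
            apply Finset.sum_congr rfl
            intro j _
            rw [mul_smul]
        _ = ∑ j, ∑ i, (r i * a' i j) • e j := Finset.sum_comm
        _ = ∑ j, (∑ i, r i * a' i j) • e j := by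
            apply Finset.sum_congr rfl
            intro j _
            rw [Finset.sum_smul]
    have h6 : ∑ i, r i • kk i = ∑ i, r i • cc i - ∑ i, r i • ∑ j, a' i j • e j := by
      rw [← Finset.sum_sub_distrib]
      apply Finset.sum_congr rfl
      intro i _
      change r i • (cc i - ∑ j, a' i j • e j) = _
      rw [smul_sub]
    have hsumeq : x = ∑ i, r i • kk i + ∑ j, (∑ i, r i * a' i j) • e j := by
      rw [h6, h5, sub_add_cancel, hxeq]
    rw [hsumeq]
    exact Submodule.add_mem_sup
      (Submodule.sum_mem _ fun i _ => Submodule.smul_mem_smul (hri i) (hkk i))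
      (Submodule.sum_mem _ fun j _ => Submodule.smul_mem_smul (hcoef j) Submodule.mem_top)
  have hP7 : ∀ n j, LinearMap.ker (φ n) ≤ I ^ j • LinearMap.ker (φ n) ⊔
      (I ^ (n + 1) • ⊤ : Submodule A (decaying I Z (AdicCompletion I A))) := by
    intro n j
    induction j with
    | zero =>
      rw [pow_zero, Ideal.one_eq_top, Submodule.top_smul]
      exact le_sup_left
    | succ j ih =>
      calc LinearMap.ker (φ n) ≤ I • LinearMap.ker (φ n) ⊔
            (I ^ (n + 1) • ⊤ : Submodule A (decaying I Z (AdicCompletion I A))) := hP6 n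
        _ ≤ I • (I ^ j • LinearMap.ker (φ n) ⊔
            (I ^ (n + 1) • ⊤ : Submodule A (decaying I Z (AdicCompletion I A)))) ⊔
            (I ^ (n + 1) • ⊤ : Submodule A (decaying I Z (AdicCompletion I A))) :=
          sup_le_sup_right (Submodule.smul_mono le_rfl ih) _
        _ = (I ^ (j + 1) • LinearMap.ker (φ n) ⊔
            I • (I ^ (n + 1) • ⊤ : Submodule A (decaying I Z (AdicCompletion I A)))) ⊔
            (I ^ (n + 1) • ⊤ : Submodule A (decaying I Z (AdicCompletion I A))) := by
          rw [Submodule.smul_sup, ← Submodule.mul_smul, ← pow_succ']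
        _ ≤ I ^ (j + 1) • LinearMap.ker (φ n) ⊔
            (I ^ (n + 1) • ⊤ : Submodule A (decaying I Z (AdicCompletion I A))) :=
          sup_le (sup_le le_sup_left (le_trans Submodule.smul_le_right le_sup_right)) le_sup_right
  have hP8 : ∀ n, LinearMap.ker (φ n) ≤
      (I ^ (n + 1) • ⊤ : Submodule A (decaying I Z (AdicCompletion I A))) := by
    intro n
    exact (hP7 n (n + 1)).trans (sup_le (Submodule.smul_mono le_rfl le_top) le_rfl)
  -- Step 5
  haveI hDc : IsAdicComplete I (decaying I Z (AdicCompletion I A)) :=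
    Groth.Agent.S17547.result I Z A
  have hΦinj : Function.Injective Φ := by
    rw [← LinearMap.ker_eq_bot, eq_bot_iff]
    intro d hd
    rw [Submodule.mem_bot]
    have hd' : Φ d = 0 := LinearMap.mem_ker.mp hd
    apply IsHausdorff.haus (inferInstance : IsHausdorff I (decaying I Z (AdicCompletion I A)))
    intro n
    rw [SModEq.sub_mem, sub_zero]
    have h1 : d ∈ LinearMap.ker (φ n) := by
      rw [LinearMap.mem_ker, ← hΦ d n, hd', map_zero]
    exact Submodule.smul_mono (Ideal.pow_le_pow_right (Nat.le_succ n)) le_rfl (hP8 n h1)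
  -- Step 6
  have hΦsurj : Function.Surjective Φ := by
    intro x
    choose f hf using fun n => hφsurj n (sysProj M ψ n x)
    have hstep : ∀ n, f (n + 1) - f n ∈
        (I ^ (n + 1) • ⊤ : Submodule A (decaying I Z (AdicCompletion I A))) := by
      intro n
      apply hP8 n
      rw [LinearMap.mem_ker, map_sub, hf n, ← hcompat n, LinearMap.comp_apply, hf (n + 1),
        sub_eq_zero]
      exact x.2 n
    have hcauchy : ∀ {m n : ℕ}, m ≤ n →
        f m ≡ f n [SMOD (I ^ m • ⊤ : Submodule A (decaying I Z (AdicCompletion I A)))] := by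
      intro m n hmn
      induction n, hmn using Nat.le_induction with
      | base => rfl
      | succ n hmn ih =>
        refine ih.trans ?_
        rw [SModEq.sub_mem]
        have h2 : f n - f (n + 1) ∈
            (I ^ (n + 1) • ⊤ : Submodule A (decaying I Z (AdicCompletion I A))) := by
          rw [← neg_sub]
          exact Submodule.neg_mem _ (hstep n)
        exact Submodule.smul_mono (Ideal.pow_le_pow_right (by omega)) le_rfl h2
    obtain ⟨d, hd⟩ := IsPrecomplete.prec
      (inferInstance : IsPrecomplete I (decaying I Z (AdicCompletion I A))) hcauchy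
    refine ⟨d, ?_⟩
    apply Subtype.ext
    funext n
    change φ n d = (x : ∀ k, M k) n
    have h3 : d - f (n + 1) ∈
        (I ^ (n + 1) • ⊤ : Submodule A (decaying I Z (AdicCompletion I A))) := by
      have := (hd (n + 1)).symm
      rwa [SModEq.sub_mem] at this
    have h4 : φ n (d - f (n + 1)) = 0 := by
      have := helper8_map_mem_pow_smul_top I (φ n) (n + 1) _ h3
      rwa [hbot n (n + 1) le_rfl, Submodule.mem_bot] at this
    rw [map_sub, sub_eq_zero] at h4
    rw [h4, ← hcompat n, LinearMap.comp_apply, hf (n + 1)]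
    exact x.2 n
  -- Steps 7, 8
  refine ⟨⟨Z, ⟨(LinearEquiv.ofBijective Φ ⟨hΦinj, hΦsurj⟩).symm⟩⟩, fun n => ⟨hproj n, ?_⟩⟩
  apply le_antisymm
  · intro x hx
    obtain ⟨d, rfl⟩ := hΦsurj x
    have h1 : d ∈ LinearMap.ker (φ n) := by
      rw [LinearMap.mem_ker, ← hΦ d n]
      exact LinearMap.mem_ker.mp hx
    exact helper8_map_mem_pow_smul_top I Φ (n + 1) d (hP8 n h1)
  · intro x hx
    refine Submodule.smul_induction_on hx ?_ ?_
    · intro r hr y _
      rw [LinearMap.mem_ker, map_smul]
      exact hF0 n r hr _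
    · intro a b ha hb
      exact Submodule.add_mem _ ha hb


/-- For a complete Noetherian local ring A (maximal ideal m, m-adic completion Â) and an m-adic system
(M n, ψ n : M (n+1) → M n) of A-modules, meaning that each M n is a module over A/m^(n+1) and each ψ
n is surjective with kernel m^(n+1) M (n+1), if every M n is flat over A/m^(n+1) then the inverse
limit of the system is m-adically free (isomorphic to the m-adically decaying functions Z → Â for
some set Z), and for every n its projection to M n is surjective with kernel m^(n+1) times the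
limit. A, the M n and Z share one universe. -/
theorem result {A : Type u} [CommRing A] [IsNoetherianRing A] [IsLocalRing A]
    [IsAdicComplete (IsLocalRing.maximalIdeal A) A]
    (M : ℕ → Type u) [∀ n, AddCommGroup (M n)] [∀ n, Module A (M n)]
    [∀ n, Module (A ⧸ IsLocalRing.maximalIdeal A ^ (n + 1)) (M n)]
    [∀ n, IsScalarTower A (A ⧸ IsLocalRing.maximalIdeal A ^ (n + 1)) (M n)]
    [∀ n, Module.Flat (A ⧸ IsLocalRing.maximalIdeal A ^ (n + 1)) (M n)]
    (ψ : ∀ n, M (n + 1) →ₗ[A] M n) (hψ : ∀ n, Function.Surjective (ψ n))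
    (hker : ∀ n, LinearMap.ker (ψ n) =
      (IsLocalRing.maximalIdeal A ^ (n + 1) • ⊤ : Submodule A (M (n + 1)))) :
    IsAdicFree (IsLocalRing.maximalIdeal A) (sysLim M ψ) ∧
      ∀ n, Function.Surjective (sysProj M ψ n) ∧
        LinearMap.ker (sysProj M ψ n) =
          (IsLocalRing.maximalIdeal A ^ (n + 1) • ⊤ : Submodule A (sysLim M ψ)) := by
  exact helper8_sysLim_free (IsLocalRing.maximalIdeal A) M ψ hψ hker

end Groth.Agent.S17551
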