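import Groth.Statements.S17552
import Mathlib
import Groth.Agent.Lib.helper8.Decaying
import Groth.Agent.S17545
import Groth.Agent.S17547
import Groth.Agent.S17548
-- import your own Groth.Agent.* helpers here

set_option autoImplicit false
universe u
open W4c5adicflatcompl
open CAlg
open Groth.Agent.Lib.helper8

namespace Groth.Agent.S17552

theorem helper8_isAdicComplete_of_linearEquiv {A : Type*} [CommRing A] (I : Ideal A) {X Y : Type*}
    [AddCommGroup X] [Module A X] [AddCommGroup Y] [Module A Y] (e : X ≃ₗ[A] Y)
    [IsAdicComplete I X] : IsAdicComplete I Y := by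
  have hH : IsHausdorff I Y := by
    refine ⟨fun y hy => ?_⟩
    have h0 : e.symm y = 0 := by
      apply IsHausdorff.haus (inferInstance : IsHausdorff I X)
      intro n
      have := hy n
      rw [SModEq.sub_mem, sub_zero] at this ⊢
      exact helper8_map_mem_pow_smul_top I e.symm.toLinearMap n y this
    simpa using h0
  have hP : IsPrecomplete I Y := by
    refine ⟨fun f hf => ?_⟩
    obtain ⟨L, hL⟩ := IsPrecomplete.prec (inferInstance : IsPrecomplete I X)
      (f := fun n => e.symm (f n)) (by
        intro m n hmn
        have := hf hmn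
        rw [SModEq.sub_mem] at this ⊢
        rw [← map_sub]
        exact helper8_map_mem_pow_smul_top I e.symm.toLinearMap m _ this)
    refine ⟨e L, fun n => ?_⟩
    have := hL n
    rw [SModEq.sub_mem] at this ⊢
    have h2 := helper8_map_mem_pow_smul_top I e.toLinearMap n _ this
    rw [map_sub] at h2
    simpa using h2
  exact { toIsHausdorff := hH, toIsPrecomplete := hP }

/-- Functoriality of `decaying` in the coefficient module. -/
def helper8_decayingMap {A : Type*} [CommRing A] (I : Ideal A) (Z : Type*) {C C' : Type*}
    [AddCommGroup C] [Module A C] [AddCommGroup C'] [Module A C'] (h : C →ₗ[A] C') :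
    decaying I Z C →ₗ[A] decaying I Z C' where
  toFun f := ⟨fun z => h ((f : Z → C) z), fun n => (f.2 n).subset (fun z hz hmem =>
    hz (helper8_map_mem_pow_smul_top I h n _ hmem))⟩
  map_add' := by
    intro f g
    apply Subtype.ext
    funext z
    simp only [Submodule.coe_add, Pi.add_apply, map_add]
  map_smul' := by
    intro a f
    apply Subtype.ext
    funext z
    simp only [Submodule.coe_smul, Pi.smul_apply, map_smul, RingHom.id_apply]

theorem helper8_decayingMap_apply {A : Type*} [CommRing A] (I : Ideal A) (Z : Type*) {C C' : Type*}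
    [AddCommGroup C] [Module A C] [AddCommGroup C'] [Module A C'] (h : C →ₗ[A] C')
    (f : decaying I Z C) (z : Z) :
    ((helper8_decayingMap I Z h f : decaying I Z C') : Z → C') z = h ((f : Z → C) z) := rfl

/-- `decaying` respects linear equivalences of the coefficient module. -/
def helper8_decayingCongr {A : Type*} [CommRing A] (I : Ideal A) (Z : Type*) {C C' : Type*}
    [AddCommGroup C] [Module A C] [AddCommGroup C'] [Module A C'] (e : C ≃ₗ[A] C') :
    decaying I Z C ≃ₗ[A] decaying I Z C' :=
  LinearEquiv.ofLinearMap (helper8_decayingMap I Z e.toLinearMap)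
    (helper8_decayingMap I Z e.symm.toLinearMap)
    (by
      apply LinearMap.ext
      intro f
      apply Subtype.ext
      funext z
      simp only [LinearMap.comp_apply, LinearMap.id_apply, helper8_decayingMap_apply,
        LinearEquiv.coe_coe, LinearEquiv.apply_symm_apply])
    (by
      apply LinearMap.ext
      intro f
      apply Subtype.ext
      funext z
      simp only [LinearMap.comp_apply, LinearMap.id_apply, helper8_decayingMap_apply,
        LinearEquiv.coe_coe, LinearEquiv.symm_apply_apply])

theorem helper8_adicFree_of_flat {A : Type u} [CommRing A] [IsNoetherianRing A] (I : Ideal A)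
    [I.IsMaximal] [IsAdicComplete I A] (M : Type u) [AddCommGroup M] [Module A M]
    [Module.Flat A M] [IsAdicComplete I M] : IsAdicFree I M := by
  classical
  have hIfg : I.FG := IsNoetherian.noetherian I
  letI : Field (A ⧸ I) := Ideal.Quotient.field I
  let b := Module.Basis.ofVectorSpace (A ⧸ I) (M ⧸ (I • ⊤ : Submodule A M))
  let Z : Type u := ↥(Module.Basis.ofVectorSpaceIndex (A ⧸ I) (M ⧸ (I • ⊤ : Submodule A M)))
  choose m hm using fun z : Z => Submodule.Quotient.mk_surjective (I • ⊤ : Submodule A M) (b z)
  have hP2 : ∀ (S : Finset Z) (c : Z → A),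
      ∑ z ∈ S, c z • m z ∈ (I • ⊤ : Submodule A M) → ∀ z ∈ S, c z ∈ I := by
    intro S c hsum z hz
    have hli := b.linearIndependent
    rw [linearIndependent_iff'] at hli
    have h0 : ∑ z ∈ S, (Ideal.Quotient.mk I (c z)) • b z = 0 := by
      have h1 : (Submodule.mkQ (I • ⊤ : Submodule A M)) (∑ z ∈ S, c z • m z) = 0 := by
        rw [Submodule.mkQ_apply, Submodule.Quotient.mk_eq_zero]; exact hsum
      rw [map_sum] at h1
      refine Eq.trans ?_ h1
      apply Finset.sum_congr rfl
      intro z _
      rw [← hm z]
      rfl
    have := hli S (fun z => Ideal.Quotient.mk I (c z)) h0 z hz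
    exact Ideal.Quotient.eq_zero_iff_mem.mp this
  have hP1 : ∀ y : M, ∃ (S : Finset Z) (c : Z → A),
      y - ∑ z ∈ S, c z • m z ∈ (I • ⊤ : Submodule A M) := by
    intro y
    let r := b.repr (Submodule.Quotient.mk y)
    choose lift hlift using fun q : A ⧸ I => Ideal.Quotient.mk_surjective q
    refine ⟨r.support, fun z => lift (r z), ?_⟩
    have hy : (Submodule.Quotient.mk y : M ⧸ (I • ⊤ : Submodule A M)) =
        ∑ z ∈ r.support, r z • b z := by
      have := b.linearCombination_repr (Submodule.Quotient.mk y)
      rw [Finsupp.linearCombination_apply, Finsupp.sum] at this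
      exact this.symm
    rw [← Submodule.Quotient.mk_eq_zero, ← Submodule.mkQ_apply, map_sub, map_sum,
      Submodule.mkQ_apply, hy, sub_eq_zero]
    apply Finset.sum_congr rfl
    intro z _
    rw [map_smul, Submodule.mkQ_apply, hm z]
    conv_lhs => rw [← hlift (r z)]
    rfl
  obtain ⟨φ, hφ, _⟩ := Groth.Agent.S17548.result I Z M m
  haveI hDc : IsAdicComplete I (decaying I Z (AdicCompletion I A)) :=
    Groth.Agent.S17547.result I Z A
  have hφsum : ∀ (S : Finset Z) (c : Z → A),
      φ (∑ z ∈ S, c z • single I z (1 : AdicCompletion I A)) = ∑ z ∈ S, c z • m z := by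
    intro S c
    rw [map_sum]
    apply Finset.sum_congr rfl
    intro z _
    rw [map_smul, hφ]
  have hcoord : ∀ (S : Finset Z) (c : Z → A) (w : Z),
      ((∑ z ∈ S, c z • single I z (1 : AdicCompletion I A) :
        decaying I Z (AdicCompletion I A)) : Z → AdicCompletion I A) w =
        if w ∈ S then c w • (1 : AdicCompletion I A) else 0 := by
    intro S c w
    rw [Submodule.coe_sum, Finset.sum_apply]
    simp only [Submodule.coe_smul, Pi.smul_apply, coe_single, Pi.single_apply, smul_ite, smul_zero]
    exact Finset.sum_ite_eq S w (fun z => c z • (1 : AdicCompletion I A))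
  have hsurj : Function.Surjective φ := by
    apply surjective_of_mkQ_comp_surjective (I := I)
    intro q
    obtain ⟨y, rfl⟩ := Submodule.Quotient.mk_surjective _ q
    obtain ⟨S, c, hS⟩ := hP1 y
    refine ⟨∑ z ∈ S, c z • single I z (1 : AdicCompletion I A), ?_⟩
    rw [LinearMap.comp_apply, hφsum, Submodule.mkQ_apply]
    symm
    rw [Submodule.Quotient.eq]
    exact hS
  have hcrit := fun n (f : decaying I Z (AdicCompletion I A)) =>
    helper8_mem_pow_smul_top_decaying_iff I hIfg Z (AdicCompletion I A) n f
  have hofc : ∀ a : A, AdicCompletion.of I A a = a • (1 : AdicCompletion I A) := by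
    intro a
    rw [← Algebra.algebraMap_eq_smul_one]
    rfl
  have hP5 : ∀ d : decaying I Z (AdicCompletion I A), φ d ∈ (I • ⊤ : Submodule A M) →
      d ∈ (I • ⊤ : Submodule A (decaying I Z (AdicCompletion I A))) := by
    intro d hd
    have hfin := d.2 1
    set S := hfin.toFinset with hSdef
    choose c hc using fun z => AdicCompletion.of_surjective I A ((d : Z → AdicCompletion I A) z)
    have hd' : d - ∑ z ∈ S, c z • single I z (1 : AdicCompletion I A) ∈
        (I ^ 1 • ⊤ : Submodule A (decaying I Z (AdicCompletion I A))) := by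
      rw [hcrit]
      intro w
      rw [Submodule.coe_sub, Pi.sub_apply, hcoord]
      by_cases hw : w ∈ S
      · rw [if_pos hw, ← hofc, hc, sub_self]
        exact Submodule.zero_mem _
      · rw [if_neg hw, sub_zero]
        by_contra hnot
        exact hw (hfin.mem_toFinset.mpr hnot)
    have h1 : φ d = ∑ z ∈ S, c z • m z +
        φ (d - ∑ z ∈ S, c z • single I z (1 : AdicCompletion I A)) := by
      rw [← hφsum, ← map_add]
      congr 1
      abel
    have h2 : ∑ z ∈ S, c z • m z ∈ (I • ⊤ : Submodule A M) := by
      have h3 := helper8_map_mem_pow_smul_top I φ 1 _ hd'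
      rw [pow_one] at h3
      have : ∑ z ∈ S, c z • m z =
          φ d - φ (d - ∑ z ∈ S, c z • single I z (1 : AdicCompletion I A)) := by
        rw [h1]; abel
      rw [this]
      exact Submodule.sub_mem _ hd h3
    have h4 := hP2 S c h2
    have h5 : d ∈ (I ^ 1 • ⊤ : Submodule A (decaying I Z (AdicCompletion I A))) := by
      rw [hcrit]
      intro w
      by_cases hw : w ∈ S
      · rw [← hc w, hofc, pow_one]
        exact Submodule.smul_mem_smul (h4 w hw) Submodule.mem_top
      · by_contra hnot
        exact hw (hfin.mem_toFinset.mpr hnot)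
    rwa [pow_one] at h5
  have hP6 : ∀ x : decaying I Z (AdicCompletion I A), φ x = 0 →
      x ∈ (I • ⊤ : Submodule A (decaying I Z (AdicCompletion I A))) →
      x ∈ I • LinearMap.ker φ := by
    intro x hx0 hxI
    obtain ⟨s, r, hr⟩ := Submodule.fg_iff_exists_fin_generating_family.mp hIfg
    obtain ⟨cc, _, rfl⟩ := helper8_exists_sum_of_mem_smul I r hr ⊤ x hxI
    rw [map_sum] at hx0
    have hx0' : ∑ i, r i • φ (cc i) = 0 := by simpa only [map_smul] using hx0
    obtain ⟨κ, a, y, hy, ha⟩ := Module.Flat.isTrivialRelation_of_sum_smul_eq_zero hx0'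
    choose e he using fun j => hsurj (y j)
    let kk : Fin s → decaying I Z (AdicCompletion I A) := fun i => cc i - ∑ j, a i j • e j
    have hkk : ∀ i, kk i ∈ LinearMap.ker φ := by
      intro i
      have hy' : φ (cc i) = ∑ j, a i j • y j := hy i
      rw [LinearMap.mem_ker, map_sub, map_sum, hy', sub_eq_zero]
      apply Finset.sum_congr rfl
      intro j _
      rw [map_smul, he]
    have hri : ∀ i, r i ∈ I := by
      intro i
      rw [← hr]
      exact Submodule.subset_span ⟨i, rfl⟩
    have hsumeq : ∑ i, r i • cc i = ∑ i, r i • kk i := by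
      have h5 : ∑ i, r i • ∑ j, a i j • e j = 0 := by
        calc ∑ i, r i • ∑ j, a i j • e j = ∑ i, ∑ j, (r i * a i j) • e j := by
              apply Finset.sum_congr rfl
              intro i _
              rw [Finset.smul_sum]
              apply Finset.sum_congr rfl
              intro j _
              rw [mul_smul]
          _ = ∑ j, ∑ i, (r i * a i j) • e j := Finset.sum_comm
          _ = ∑ j, (∑ i, r i * a i j) • e j := by
              apply Finset.sum_congr rfl
              intro j _
              rw [Finset.sum_smul]
          _ = 0 := by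
              apply Finset.sum_eq_zero
              intro j _
              rw [ha j, zero_smul]
      have h6 : ∑ i, r i • kk i = ∑ i, r i • cc i - ∑ i, r i • ∑ j, a i j • e j := by
        rw [← Finset.sum_sub_distrib]
        apply Finset.sum_congr rfl
        intro i _
        change r i • (cc i - ∑ j, a i j • e j) = _
        rw [smul_sub]
      rw [h6, h5, sub_zero]
    rw [hsumeq]
    exact Submodule.sum_mem _ fun i _ => Submodule.smul_mem_smul (hri i) (hkk i)
  have hinj : Function.Injective φ := by
    rw [← LinearMap.ker_eq_bot]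
    have hK1 : LinearMap.ker φ ≤ I • LinearMap.ker φ := by
      intro x hx
      exact hP6 x (LinearMap.mem_ker.mp hx)
        (hP5 x (by rw [LinearMap.mem_ker.mp hx]; exact Submodule.zero_mem _))
    have hKn : ∀ n : ℕ, LinearMap.ker φ ≤ I ^ n • LinearMap.ker φ := by
      intro n
      induction n with
      | zero => rw [pow_zero, Ideal.one_eq_top, Submodule.top_smul]
      | succ n ih =>
        calc LinearMap.ker φ ≤ I • LinearMap.ker φ := hK1
          _ ≤ I • (I ^ n • LinearMap.ker φ) := Submodule.smul_mono le_rfl ih
          _ = I ^ (n + 1) • LinearMap.ker φ := by rw [← Submodule.mul_smul, ← pow_succ']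
    rw [eq_bot_iff]
    intro x hx
    rw [Submodule.mem_bot]
    apply IsHausdorff.haus (inferInstance : IsHausdorff I (decaying I Z (AdicCompletion I A)))
    intro n
    rw [SModEq.sub_mem, sub_zero]
    exact Submodule.smul_mono le_rfl le_top (hKn n hx)
  exact ⟨Z, ⟨(LinearEquiv.ofBijective φ ⟨hinj, hsurj⟩).symm⟩⟩


/-- For a complete Noetherian local ring A (maximal ideal m, m-adic completion Â), an A-module M is
isomorphic to the module of m-adically decaying functions Z → Â for some set Z (m-adically free)
exactly when M is flat and m-adically complete. M and Z live in the universe of A. -/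
theorem result {A : Type u} [CommRing A] [IsNoetherianRing A] [IsLocalRing A]
    [IsAdicComplete (IsLocalRing.maximalIdeal A) A]
    (M : Type u) [AddCommGroup M] [Module A M] :
    IsAdicFree (IsLocalRing.maximalIdeal A) M ↔
      Module.Flat A M ∧ IsAdicComplete (IsLocalRing.maximalIdeal A) M := by
  constructor
  · rintro ⟨Z, ⟨e⟩⟩
    haveI : Module.Flat A (decaying (IsLocalRing.maximalIdeal A) Z A) :=
      Groth.Agent.S17545.result (IsLocalRing.maximalIdeal A) Z
    haveI : IsAdicComplete (IsLocalRing.maximalIdeal A)
        (decaying (IsLocalRing.maximalIdeal A) Z (AdicCompletion (IsLocalRing.maximalIdeal A) A)) :=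
      Groth.Agent.S17547.result (IsLocalRing.maximalIdeal A) Z A
    exact ⟨Module.Flat.of_linearEquiv (e.trans (helper8_decayingCongr (IsLocalRing.maximalIdeal A) Z
      (AdicCompletion.ofLinearEquiv (IsLocalRing.maximalIdeal A) A)).symm),
      helper8_isAdicComplete_of_linearEquiv (IsLocalRing.maximalIdeal A) e.symm⟩
  · rintro ⟨hflat, hcomp⟩
    haveI := hflat
    haveI := hcomp
    exact helper8_adicFree_of_flat (IsLocalRing.maximalIdeal A) M

end Groth.Agent.S17552
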