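import Groth.Statements.S17553
import Mathlib
-- import your own Groth.Agent.* helpers here

set_option autoImplicit false
universe u v w
open W4c5adicflatcompl
open CAlg

namespace Groth.Agent.S17553

/-- Let A be I-adically complete, M an I-adically complete A-module, Z a set and f : Z → M a function.
There is an A-linear map from the I-adically decaying functions Z → A to M whose value on g is the
I-adically convergent sum of the g z • f z. -/
theorem result {A : Type u} [CommRing A] (I : Ideal A) [IsAdicComplete I A]
    (Z : Type v) (M : Type w) [AddCommGroup M] [Module A M] [IsAdicComplete I M] (f : Z → M) :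
    ∃ φ : decaying I Z A →ₗ[A] M, ∀ (g : decaying I Z A) (n : ℕ), ∃ S : Finset Z,
      (∀ z, z ∉ S → (g : Z → A) z • f z ∈ (I ^ n • ⊤ : Submodule A M)) ∧
      φ g - (∑ z ∈ S, (g : Z → A) z • f z) ∈ (I ^ n • ⊤ : Submodule A M) := by
  classical
  have hkey : ∀ (n : ℕ) (a : A) (m : M), a ∈ (I ^ n • ⊤ : Submodule A A) →
      a • m ∈ (I ^ n • ⊤ : Submodule A M) := by
    intro n a m ha
    rw [smul_eq_mul, Ideal.mul_top] at ha
    exact Submodule.smul_mem_smul ha Submodule.mem_top
  have hsupp : ∀ (n : ℕ) (g : decaying I Z A),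
      Function.support (fun z => Submodule.mkQ (I ^ n • ⊤ : Submodule A M) ((g : Z → A) z • f z))
        ⊆ {z | (g : Z → A) z ∉ (I ^ n • ⊤ : Submodule A A)} := by
    intro n g z hz
    rw [Function.mem_support] at hz
    intro hmem
    apply hz
    rw [Submodule.mkQ_apply, Submodule.Quotient.mk_eq_zero]
    exact hkey n _ _ hmem
  have hfin : ∀ (n : ℕ) (g : decaying I Z A), Function.HasFiniteSupport
      (fun z => Submodule.mkQ (I ^ n • ⊤ : Submodule A M) ((g : Z → A) z • f z)) :=
    fun n g => (g.2 n).subset (hsupp n g)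
  let φn : ∀ n : ℕ, decaying I Z A →ₗ[A] M ⧸ (I ^ n • ⊤ : Submodule A M) := fun n =>
    { toFun := fun g => ∑ᶠ z, Submodule.mkQ (I ^ n • ⊤ : Submodule A M) ((g : Z → A) z • f z)
      map_add' := by
        intro g g'
        rw [← finsum_add_distrib (hfin n g) (hfin n g')]
        apply finsum_congr
        intro z
        simp only [Submodule.coe_add, Pi.add_apply, add_smul, map_add]
      map_smul' := by
        intro a g
        rw [RingHom.id_apply, smul_finsum' a (hfin n g)]
        apply finsum_congr
        intro z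
        simp only [Submodule.coe_smul, Pi.smul_apply, smul_eq_mul, mul_smul, map_smul] }
  have hcompat : ∀ {m n : ℕ} (hle : m ≤ n), Submodule.factorPow I M hle ∘ₗ φn n = φn m := by
    intro m n hle
    ext g
    change Submodule.factorPow I M hle (∑ᶠ z, _) = ∑ᶠ z, _
    rw [map_finsum _ (hfin n g)]
    apply finsum_congr
    intro z
    rfl
  refine ⟨IsAdicComplete.lift I φn (@hcompat), ?_⟩
  intro g n
  refine ⟨(g.2 n).toFinset, ?_, ?_⟩
  · intro z hz
    rw [Set.Finite.mem_toFinset] at hz
    simp only [Set.mem_ofPred_eq, not_not] at hz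
    exact hkey n _ _ hz
  · rw [← Submodule.Quotient.mk_eq_zero, Submodule.Quotient.mk_sub,
      IsAdicComplete.mk_lift I (@hcompat) n g, sub_eq_zero]
    change ∑ᶠ z, _ = _
    have hs : Function.support (fun z => Submodule.mkQ (I ^ n • ⊤ : Submodule A M)
        ((g : Z → A) z • f z)) ⊆ ((g.2 n).toFinset : Set Z) := by
      rw [Set.Finite.coe_toFinset]; exact hsupp n g
    rw [finsum_eq_sum_of_support_subset _ hs, ← Submodule.mkQ_apply, map_sum]

end Groth.Agent.S17553
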