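import Groth.Statements.S17592
import Mathlib
import Groth.Agent.Lib.helper1.HenselFEt

set_option autoImplicit false
universe u
open Hensel

namespace Groth.Agent.S17592

open TensorProduct


/-- Let R → S be an étale ring map and I an ideal of R such that the induced map R/I → S/IS is
bijective. Then a Henselization of the pair (S, IS), regarded as an R-algebra, is a Henselization of
the pair (R, I). -/
theorem result (R : Type u) [CommRing R] (I : Ideal R)
    (S : Type u) [CommRing S] [Algebra R S] [Algebra.Etale R S]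
    (hq : Function.Bijective
      (Ideal.quotientMap (I.map (algebraMap R S)) (algebraMap R S) Ideal.le_comap_map))
    (H : Type u) [CommRing H] [Algebra S H] [Algebra R H] [IsScalarTower R S H]
    (hH : Hens2.IsPairHenselization S (I.map (algebraMap R S)) H) :
    Hens2.IsPairHenselization R I H := by
  classical
  obtain ⟨hHhens, hHuniv⟩ := hH
  have hmapmap : (I.map (algebraMap R S)).map (algebraMap S H) = I.map (algebraMap R H) := by
    rw [Ideal.map_map, ← IsScalarTower.algebraMap_eq]
  refine ⟨by rw [← hmapmap]; exact hHhens, ?_⟩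
  intro C _ J f hC hfI
  letI : Algebra R C := f.toAlgebra
  have hJjac : J ≤ Ideal.jacobson ⊥ := hC.jac
  have huniqS : ∀ f1 f2 : S →+* C, f1.comp (algebraMap R S) = f →
      f2.comp (algebraMap R S) = f → f1 = f2 := by
    intro f1 f2 h1 h2
    have c1 : ∀ r, f1 (algebraMap R S r) = algebraMap R C r := fun r => by
      show f1 (algebraMap R S r) = f r
      rw [← h1]; rfl
    have c2 : ∀ r, f2 (algebraMap R S r) = algebraMap R C r := fun r => by
      show f2 (algebraMap R S r) = f r
      rw [← h2]; rfl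
    let φ1 : S →ₐ[R] C := { f1 with commutes' := c1 }
    let φ2 : S →ₐ[R] C := { f2 with commutes' := c2 }
    have hmem : ∀ (g : S →+* C), g.comp (algebraMap R S) = f →
        ∀ t ∈ I.map (algebraMap R S), g t ∈ J := by
      intro g hg t ht
      have : (I.map (algebraMap R S)).map g ≤ J := by
        rw [Ideal.map_map, hg]; exact hfI
      exact this (Ideal.mem_map_of_mem g ht)
    have hsub : ∀ s : S, φ1 s - φ2 s ∈ J := by
      intro s
      obtain ⟨rbar, hr⟩ := hq.2 (Ideal.Quotient.mk _ s)
      obtain ⟨r, rfl⟩ := Ideal.Quotient.mk_surjective rbar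
      rw [Ideal.quotientMap_mk, Ideal.Quotient.eq] at hr
      have e1 : f1 (algebraMap R S r) = f r := by rw [← h1]; rfl
      have e2 : f2 (algebraMap R S r) = f r := by rw [← h2]; rfl
      have key : f1 s - f2 s = f2 (algebraMap R S r - s) - f1 (algebraMap R S r - s) := by
        rw [map_sub, map_sub, e1, e2]; ring
      show f1 s - f2 s ∈ J
      rw [key]
      exact J.sub_mem (hmem f2 h2 _ hr) (hmem f1 h1 _ hr)
    have := Helper1.algHom_eq_of_sub_mem_jacobson J hJjac φ1 φ2 hsub
    ext s
    exact congrArg (fun φ : S →ₐ[R] C => φ s) this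
  have hfI' : I ≤ J.comap f := Ideal.map_le_iff_le_comap.mp hfI
  let e : (R ⧸ I) ≃+* (S ⧸ I.map (algebraMap R S)) := RingEquiv.ofBijective _ hq
  have he : ∀ x, e x = Ideal.quotientMap (I.map (algebraMap R S)) (algebraMap R S)
      Ideal.le_comap_map x := fun x => rfl
  let ψr : S →+* C ⧸ J := (Ideal.quotientMap J f hfI').comp
    ((e.symm : _ →+* _).comp (Ideal.Quotient.mk (I.map (algebraMap R S))))
  have hψalg : ∀ r : R, ψr (algebraMap R S r) = algebraMap R (C ⧸ J) r := by
    intro r
    have h1 : Ideal.Quotient.mk (I.map (algebraMap R S)) (algebraMap R S r) =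
        e (Ideal.Quotient.mk I r) := by
      rw [he, Ideal.quotientMap_mk]
    show Ideal.quotientMap J f hfI' (e.symm (Ideal.Quotient.mk _ (algebraMap R S r))) = _
    rw [h1, RingEquiv.symm_apply_apply, Ideal.quotientMap_mk]
    rfl
  let ψ : S →ₐ[R] C ⧸ J := { ψr with commutes' := hψalg }
  have hψker : ∀ t ∈ I.map (algebraMap R S), ψ t = 0 := by
    intro t ht
    show Ideal.quotientMap J f hfI' (e.symm (Ideal.Quotient.mk _ t)) = 0
    rw [Ideal.Quotient.eq_zero_iff_mem.mpr ht, map_zero, map_zero]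
  let σ : C ⊗[R] S →ₐ[C] C ⧸ J :=
    Algebra.TensorProduct.lift (Algebra.ofId C (C ⧸ J)) ψ (fun _ _ => Commute.all _ _)
  obtain ⟨τ, hτ⟩ := Helper1.exists_algHom_lift_of_etale J
    (Helper1.gabberCond_of_henselianRing J) σ
  let f' : S →+* C := (τ : C ⊗[R] S →+* C).comp
    ((Algebra.TensorProduct.includeRight : S →ₐ[R] C ⊗[R] S) : S →+* C ⊗[R] S)
  have hf'app : ∀ s, f' s = τ ((1 : C) ⊗ₜ[R] s) := fun s => rfl
  have hf'R : f'.comp (algebraMap R S) = f := by
    ext r
    show τ ((1 : C) ⊗ₜ[R] (algebraMap R S r)) = f r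
    have h1 : (1 : C) ⊗ₜ[R] (algebraMap R S r) = (f r) ⊗ₜ[R] (1 : S) := by
      rw [Algebra.algebraMap_eq_smul_one, TensorProduct.tmul_smul, TensorProduct.smul_tmul',
        Algebra.smul_def, mul_one]
      rfl
    have h2 : (f r) ⊗ₜ[R] (1 : S) = algebraMap C (C ⊗[R] S) (f r) := by
      rw [Algebra.TensorProduct.algebraMap_apply]; rfl
    rw [h1, h2, AlgHom.commutes]; rfl
  have hf'J : (I.map (algebraMap R S)).map f' ≤ J := by
    rw [Ideal.map_le_iff_le_comap]
    intro t ht
    rw [Ideal.mem_comap, ← Ideal.Quotient.eq_zero_iff_mem, hf'app, hτ]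
    show σ ((1:C) ⊗ₜ[R] t) = 0
    rw [Algebra.TensorProduct.lift_tmul, hψker t ht, mul_zero]
  obtain ⟨g, hg, hguniq⟩ := hHuniv C J f' hC hf'J
  refine ⟨g, ?_, ?_⟩
  · show g.comp (algebraMap R H) = f
    rw [IsScalarTower.algebraMap_eq R S H, ← RingHom.comp_assoc, hg, hf'R]
  · intro g' hg'
    have h1 : (g'.comp (algebraMap S H)).comp (algebraMap R S) = f := by
      rw [RingHom.comp_assoc, ← IsScalarTower.algebraMap_eq R S H]; exact hg'
    have h2 := huniqS (g'.comp (algebraMap S H)) f' h1 hf'R
    exact hguniq g' h2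

end Groth.Agent.S17592
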