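import Groth.Statements.S17594
import Mathlib

set_option autoImplicit false
universe u
open Hensel

namespace Groth.Agent.S17594

/-- Suppose (A, I) is a Henselian pair, and take an A-algebra R of finite presentation for which A → R
is smooth at every prime of R containing IR. Then there is an étale R-algebra R' such that R/IR →
R'/IR' is bijective and A → R' is smooth. -/
theorem result (A : Type u) [CommRing A] (I : Ideal A) [HenselianRing A I]
    (R : Type u) [CommRing R] [Algebra A R] [Algebra.FinitePresentation A R]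
    (h : ∀ (p : Ideal R) [p.IsPrime], I.map (algebraMap A R) ≤ p → Algebra.IsSmoothAt A p)
    : ∃ (R' : Type u) (_ : CommRing R') (_ : Algebra R R') (_ : Algebra A R') (_ : IsScalarTower A R R'),
      Algebra.Etale R R' ∧
      Function.Bijective (Ideal.quotientMap ((I.map (algebraMap A R)).map (algebraMap R R'))
        (algebraMap R R') Ideal.le_comap_map) ∧ Algebra.Smooth A R' := by
  classical
  set IR := I.map (algebraMap A R) with hIR
  have hopen : IsOpen (Algebra.smoothLocus A R) := Algebra.isOpen_smoothLocus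
  obtain ⟨J, hJ⟩ : ∃ J : Ideal R,
      (Algebra.smoothLocus A R)ᶜ = PrimeSpectrum.zeroLocus (J : Set R) := by
    have := hopen.isClosed_compl
    rw [PrimeSpectrum.isClosed_iff_zeroLocus_ideal] at this
    exact this
  have hsup : J ⊔ IR = ⊤ := by
    by_contra hne
    obtain ⟨m, hm, hle⟩ := Ideal.exists_le_maximal _ hne
    haveI := hm.isPrime
    have h1 : Algebra.IsSmoothAt A m := h m (le_trans le_sup_right hle)
    have h2 : (⟨m, hm.isPrime⟩ : PrimeSpectrum R) ∈ (Algebra.smoothLocus A R)ᶜ := by
      rw [hJ, PrimeSpectrum.mem_zeroLocus]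
      intro x hx
      exact hle (Ideal.mem_sup_left hx)
    exact h2 h1
  obtain ⟨g, hg, i, hi, hgi⟩ := Submodule.mem_sup.mp ((Ideal.eq_top_iff_one _).mp hsup)
  have hsub : (PrimeSpectrum.basicOpen g : Set (PrimeSpectrum R)) ⊆ Algebra.smoothLocus A R := by
    intro p hp
    by_contra hnp
    have hz : p ∈ PrimeSpectrum.zeroLocus (J : Set R) := by rw [← hJ]; exact hnp
    rw [PrimeSpectrum.mem_zeroLocus] at hz
    exact hp (hz hg)
  have hsm : Algebra.Smooth A (Localization.Away g) :=
    Algebra.basicOpen_subset_smoothLocus_iff_smooth.mp hsub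
  have h1g : 1 - g = i := by rw [← hgi]; ring
  have hgpow : ∀ n : ℕ, 1 - g ^ n ∈ IR := by
    intro n
    induction n with
    | zero => simp
    | succ k ih =>
      have e : 1 - g ^ (k+1) = (1 - g ^ k) + g ^ k * (1 - g) := by ring
      rw [e]
      exact IR.add_mem ih (IR.mul_mem_left _ (h1g ▸ hi))
  refine ⟨Localization.Away g, inferInstance, inferInstance, inferInstance, inferInstance,
    inferInstance, ⟨?_, ?_⟩, hsm⟩
  · apply Ideal.quotientMap_injective'
    intro x hx
    rw [Ideal.mem_comap, IsLocalization.mem_map_algebraMap_iff (Submonoid.powers g)] at hx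
    obtain ⟨⟨a, s⟩, hx⟩ := hx
    obtain ⟨n, hn⟩ := s.2
    simp only at hx
    rw [← map_mul, IsLocalization.eq_iff_exists (Submonoid.powers g)] at hx
    obtain ⟨c, hc⟩ := hx
    obtain ⟨m, hm⟩ := c.2
    have h3 : g ^ (m + n) * x ∈ IR := by
      have : g ^ (m + n) * x = (c : R) * (x * (s : R)) := by
        rw [← hm, ← hn]; ring
      rw [this, hc]
      exact IR.mul_mem_left _ a.2
    have h4 : x = (1 - g ^ (m + n)) * x + g ^ (m + n) * x := by ring
    rw [h4]
    exact IR.add_mem (IR.mul_mem_right _ (hgpow _)) h3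
  · intro y
    obtain ⟨y, rfl⟩ := Ideal.Quotient.mk_surjective y
    obtain ⟨a, s, rfl⟩ := IsLocalization.exists_mk'_eq (Submonoid.powers g) y
    obtain ⟨n, hn⟩ := s.2
    refine ⟨Ideal.Quotient.mk _ a, ?_⟩
    rw [Ideal.quotientMap_mk, Ideal.Quotient.eq]
    have h5 : algebraMap R (Localization.Away g) a - IsLocalization.mk' (Localization.Away g) a s
        = IsLocalization.mk' (Localization.Away g) a s
          * algebraMap R (Localization.Away g) (-(1 - g ^ n)) := by
      have h6 := IsLocalization.mk'_spec (Localization.Away g) a s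
      have hn' : g ^ n = (s : R) := hn
      rw [← h6, hn']
      simp only [map_neg, map_sub, map_one]
      ring
    rw [h5]
    exact Ideal.mul_mem_left _ _ (Ideal.mem_map_of_mem _ (IR.neg_mem (hgpow n)))

end Groth.Agent.S17594
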