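import Groth.Statements.S17595
import Mathlib

set_option autoImplicit false
universe u
open Hensel

namespace Groth.Agent.S17595

/-- Suppose (A, I) is a Henselian pair, and R is an A-algebra of finite presentation for which A → R is
quasi-finite at each prime of R that contains IR. Then there is an étale R-algebra R' such that R/IR
→ R'/IR' is bijective and A → R' is quasi-finite. -/
theorem result (A : Type u) [CommRing A] (I : Ideal A) [HenselianRing A I]
    (R : Type u) [CommRing R] [Algebra A R] [Algebra.FinitePresentation A R]
    (h : ∀ (p : Ideal R) [p.IsPrime], I.map (algebraMap A R) ≤ p → Algebra.QuasiFiniteAt A p)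
    : ∃ (R' : Type u) (_ : CommRing R') (_ : Algebra R R') (_ : Algebra A R') (_ : IsScalarTower A R R'),
      Algebra.Etale R R' ∧
      Function.Bijective (Ideal.quotientMap ((I.map (algebraMap A R)).map (algebraMap R R'))
        (algebraMap R R') Ideal.le_comap_map) ∧ Algebra.QuasiFinite A R' := by
  classical
  set IR := I.map (algebraMap A R) with hIR
  have hloc : ∀ (p : Ideal R) [p.IsPrime], IR ≤ p →
      ∃ r : R, r ∉ p ∧ Algebra.QuasiFinite A (Localization.Away r) := by
    intro p _ hp
    haveI : Algebra.QuasiFiniteAt A p := h p hp
    have H : Algebra.ZariskisMainProperty A p := Algebra.ZariskisMainProperty.of_finiteType p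
    obtain ⟨S', hS', r, hrp, Hb⟩ := H.exists_fg_and_exists_notMem_and_awayMap_bijective p
    haveI : Module.Finite A S' := ⟨(Submodule.fg_top _).mpr hS'⟩
    haveI : Algebra.QuasiFinite A (Localization.Away r) := .trans _ S' _
    exact ⟨r.1, hrp, .of_surjective_algHom (Localization.awayMapₐ S'.val r) Hb.2⟩
  set T : Set R := {r | Algebra.QuasiFinite A (Localization.Away r)} with hT
  have hsup : Ideal.span T ⊔ IR = ⊤ := by
    by_contra hne
    obtain ⟨m, hm, hle⟩ := Ideal.exists_le_maximal _ hne
    haveI := hm.isPrime
    obtain ⟨r, hrm, hr⟩ := hloc m (le_trans le_sup_right hle)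
    exact hrm (hle (Ideal.mem_sup_left (Ideal.subset_span hr)))
  obtain ⟨g, hg, i, hi, hgi⟩ := Submodule.mem_sup.mp ((Ideal.eq_top_iff_one _).mp hsup)
  obtain ⟨n, c, t, hct⟩ := Submodule.mem_span_set'.mp hg
  have hqf : Algebra.QuasiFinite A (Localization.Away g) := by
    rw [← RingHom.quasiFinite_algebraMap]
    apply RingHom.QuasiFinite.ofLocalizationSpanTarget (algebraMap A (Localization.Away g))
      (Set.range fun k : Fin n => algebraMap R (Localization.Away g) (t k))
    · have hu : IsUnit (algebraMap R (Localization.Away g) g) :=
        IsLocalization.Away.algebraMap_isUnit g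
      have hmem : algebraMap R (Localization.Away g) g ∈ Ideal.span
          (Set.range fun k : Fin n => algebraMap R (Localization.Away g) (t k)) := by
        rw [← hct, map_sum]
        refine Ideal.sum_mem _ fun k _ => ?_
        rw [smul_eq_mul, map_mul]
        exact Ideal.mul_mem_left _ _ (Ideal.subset_span ⟨k, rfl⟩)
      exact Ideal.eq_top_of_isUnit_mem _ hmem hu
    · rintro ⟨_, k, rfl⟩
      set r : Localization.Away g := algebraMap R (Localization.Away g) (t k) with hr
      show RingHom.QuasiFinite ((algebraMap (Localization.Away g) (Localization.Away r)).comp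
        (algebraMap A (Localization.Away g)))
      rw [← IsScalarTower.algebraMap_eq, RingHom.quasiFinite_algebraMap]
      haveI : Algebra.QuasiFinite A (Localization.Away (t k : R)) := (t k).2
      have hr_unit : IsUnit (algebraMap (Localization.Away g) (Localization.Away r) r) :=
        IsLocalization.Away.algebraMap_isUnit r
      have hg_unit : IsUnit (algebraMap R (Localization.Away r) g) := by
        rw [IsScalarTower.algebraMap_apply R (Localization.Away g) (Localization.Away r)]
        exact (IsLocalization.Away.algebraMap_isUnit g).map _
      have ht_unit : IsUnit (algebraMap R (Localization.Away r) (t k : R)) := by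
        rw [IsScalarTower.algebraMap_apply R (Localization.Away g) (Localization.Away r)]
        exact hr_unit
      have hunit : ∀ y : Submonoid.powers (t k : R),
          IsUnit ((IsScalarTower.toAlgHom A R (Localization.Away r)) y) := by
        rintro ⟨_, j, rfl⟩
        show IsUnit (algebraMap R (Localization.Away r) ((t k : R) ^ j))
        rw [map_pow]
        exact ht_unit.pow j
      let f : Localization.Away (t k : R) →ₐ[A] Localization.Away r :=
        IsLocalization.liftAlgHom (M := Submonoid.powers (t k : R))
          (f := IsScalarTower.toAlgHom A R (Localization.Away r)) hunit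
      have hf : ∀ s : R, f (algebraMap R _ s) = algebraMap R (Localization.Away r) s :=
        fun s => IsLocalization.lift_eq _ s
      refine Algebra.QuasiFinite.of_forall_exists_mul_mem_range f fun x => ?_
      obtain ⟨y, sr, rfl⟩ := IsLocalization.exists_mk'_eq (Submonoid.powers r) x
      obtain ⟨z, sg, rfl⟩ := IsLocalization.exists_mk'_eq (Submonoid.powers g) y
      obtain ⟨a, ha⟩ := sr.2
      obtain ⟨b, hb⟩ := sg.2
      have ha' : r ^ a = (sr : Localization.Away g) := ha
      have hb' : g ^ b = (sg : R) := hb
      refine ⟨algebraMap R _ ((t k : R) ^ a * g ^ b), ?_, algebraMap R _ z, ?_⟩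
      · rw [hf, map_mul, map_pow, map_pow]
        exact (ht_unit.pow a).mul (hg_unit.pow b)
      · show f (algebraMap R _ z) = _
        rw [hf, hf]
        have e1 := IsLocalization.mk'_spec (Localization.Away r)
          (IsLocalization.mk' (Localization.Away g) z sg) sr
        have e2 := IsLocalization.mk'_spec (Localization.Away g) z sg
        have e3 : algebraMap R (Localization.Away r) z =
            IsLocalization.mk' (Localization.Away r)
              (IsLocalization.mk' (Localization.Away g) z sg) sr *
            (algebraMap (Localization.Away g) (Localization.Away r) (r ^ a) *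
              algebraMap (Localization.Away g) (Localization.Away r)
                (algebraMap R (Localization.Away g) (g ^ b))) := by
          rw [ha', hb', ← mul_assoc, e1, ← map_mul, e2, ← IsScalarTower.algebraMap_apply]
        rw [e3, map_mul (algebraMap R (Localization.Away r)),
          IsScalarTower.algebraMap_apply R (Localization.Away g) (Localization.Away r)
            ((t k : R) ^ a),
          IsScalarTower.algebraMap_apply R (Localization.Away g) (Localization.Away r) (g ^ b),
          map_pow (algebraMap R (Localization.Away g))]
        simp only [map_pow, hr]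
  have h1g : 1 - g = i := by rw [← hgi]; ring
  have hgpow : ∀ n : ℕ, 1 - g ^ n ∈ IR := by
    intro n
    induction n with
    | zero => simp
    | succ k ih =>
      have e : 1 - g ^ (k+1) = (1 - g ^ k) + g ^ k * (1 - g) := by ring
      rw [e]
      exact IR.add_mem ih (IR.mul_mem_left _ (h1g ▸ hi))
  refine ⟨Localization.Away g, inferInstance, inferInstance, inferInstance, inferInstance,
    inferInstance, ⟨?_, ?_⟩, hqf⟩
  · apply Ideal.quotientMap_injective'
    intro x hx
    rw [Ideal.mem_comap, IsLocalization.mem_map_algebraMap_iff (Submonoid.powers g)] at hx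
    obtain ⟨⟨a, s⟩, hx⟩ := hx
    obtain ⟨n, hn⟩ := s.2
    simp only at hx
    rw [← map_mul, IsLocalization.eq_iff_exists (Submonoid.powers g)] at hx
    obtain ⟨c, hc⟩ := hx
    obtain ⟨m, hm⟩ := c.2
    have h3 : g ^ (m + n) * x ∈ IR := by
      have : g ^ (m + n) * x = (c : R) * (x * (s : R)) := by
        rw [← hm, ← hn]; ring
      rw [this, hc]
      exact IR.mul_mem_left _ a.2
    have h4 : x = (1 - g ^ (m + n)) * x + g ^ (m + n) * x := by ring
    rw [h4]
    exact IR.add_mem (IR.mul_mem_right _ (hgpow _)) h3
  · intro y
    obtain ⟨y, rfl⟩ := Ideal.Quotient.mk_surjective y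
    obtain ⟨a, s, rfl⟩ := IsLocalization.exists_mk'_eq (Submonoid.powers g) y
    obtain ⟨n, hn⟩ := s.2
    refine ⟨Ideal.Quotient.mk _ a, ?_⟩
    rw [Ideal.quotientMap_mk, Ideal.Quotient.eq]
    have h5 : algebraMap R (Localization.Away g) a - IsLocalization.mk' (Localization.Away g) a s
        = IsLocalization.mk' (Localization.Away g) a s
          * algebraMap R (Localization.Away g) (-(1 - g ^ n)) := by
      have h6 := IsLocalization.mk'_spec (Localization.Away g) a s
      have hn' : g ^ n = (s : R) := hn
      rw [← h6, hn']
      simp only [map_neg, map_sub, map_one]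
      ring
    rw [h5]
    exact Ideal.mul_mem_left _ _ (Ideal.mem_map_of_mem _ (IR.neg_mem (hgpow n)))

end Groth.Agent.S17595
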