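import Groth.Statements.S17604
import Mathlib
import Groth.Agent.Lib.helper1.HenselFEt

set_option autoImplicit false
universe u
open Hensel

namespace Groth.Agent.S17604

open TensorProduct


/-- Let (A, I) be a Henselian pair, R and R' étale A-algebras, and B, B' Henselizations of the pairs (R,
IR), (R', IR') with their induced A-algebra structures (so B and B' are h-étale over A). Then
reduction modulo I is a bijection from A-algebra maps B → B' to A-algebra maps B/IB → B'/IB': two
A-algebra maps B → B' that agree modulo IB' are equal, and every A-algebra map B/IB → B'/IB' is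
induced by an A-algebra map B → B'. -/
theorem result (A : Type u) [CommRing A]
    (I : Ideal A) [HenselianRing A I]
    (R : Type u) [CommRing R] [Algebra A R] [Algebra.Etale A R]
    (B : Type u) [CommRing B] [Algebra R B] [Algebra A B] [IsScalarTower A R B]
    (hB : Hens2.IsPairHenselization R (I.map (algebraMap A R)) B)
    (R' : Type u) [CommRing R'] [Algebra A R'] [Algebra.Etale A R']
    (B' : Type u) [CommRing B'] [Algebra R' B'] [Algebra A B'] [IsScalarTower A R' B']
    (hB' : Hens2.IsPairHenselization R' (I.map (algebraMap A R')) B') :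
    (∀ φ ψ : B →ₐ[A] B', (∀ b : B, φ b - ψ b ∈ I.map (algebraMap A B')) → φ = ψ) ∧
    ∀ χ : (B ⧸ I.map (algebraMap A B)) →ₐ[A] (B' ⧸ I.map (algebraMap A B')),
      ∃ φ : B →ₐ[A] B', ∀ b : B,
        Ideal.Quotient.mk (I.map (algebraMap A B')) (φ b) = χ (Ideal.Quotient.mk (I.map (algebraMap A B)) b) := by
  classical
  obtain ⟨hBh, hBu⟩ := hB
  obtain ⟨hB'h, hB'u⟩ := hB'
  have hJ' : (I.map (algebraMap A R')).map (algebraMap R' B') = I.map (algebraMap A B') := by
    rw [Ideal.map_map, ← IsScalarTower.algebraMap_eq]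
  rw [hJ'] at hB'h
  have hjac : I.map (algebraMap A B') ≤ Ideal.jacobson ⊥ := hB'h.jac
  have hmapθ : ∀ (θ : R →ₐ[A] B'),
      (I.map (algebraMap A R)).map θ.toRingHom = I.map (algebraMap A B') := by
    intro θ
    rw [Ideal.map_map]
    congr 1
    ext a; exact θ.commutes a
  constructor
  · intro φ ψ hφψ
    let φR : R →ₐ[A] B' := φ.comp (IsScalarTower.toAlgHom A R B)
    let ψR : R →ₐ[A] B' := ψ.comp (IsScalarTower.toAlgHom A R B)
    have heq : φR = ψR :=
      Helper1.algHom_eq_of_sub_mem_jacobson _ hjac φR ψR (fun x => hφψ _)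
    obtain ⟨k, -, hk⟩ := hBu B' (I.map (algebraMap A B')) φR.toRingHom hB'h
      (le_of_eq (hmapθ φR))
    have h1 : (φ : B →+* B') = k := hk _ (by
      show (φ : B →+* B').comp (algebraMap R B) = φR.toRingHom
      ext x; rfl)
    have h2 : (ψ : B →+* B') = k := hk _ (by
      show (ψ : B →+* B').comp (algebraMap R B) = φR.toRingHom
      ext x
      show ψ (algebraMap R B x) = φR x
      rw [heq]; rfl)
    ext b
    exact RingHom.congr_fun (h1.trans h2.symm) b
  · intro χ
    let ψ : R →ₐ[A] (B' ⧸ I.map (algebraMap A B')) :=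
      (χ.comp (Ideal.Quotient.mkₐ A (I.map (algebraMap A B)))).comp
        (IsScalarTower.toAlgHom A R B)
    let σ : B' ⊗[A] R →ₐ[B'] B' ⧸ I.map (algebraMap A B') :=
      Algebra.TensorProduct.lift (Algebra.ofId B' _) ψ (fun _ _ => Commute.all _ _)
    obtain ⟨τ, hτ⟩ := Helper1.exists_algHom_lift_of_etale (I.map (algebraMap A B'))
      (Helper1.gabberCond_of_henselianRing _) σ
    let φR : R →ₐ[A] B' := (τ.restrictScalars A).comp Algebra.TensorProduct.includeRight
    have hφR : ∀ x : R, Ideal.Quotient.mk (I.map (algebraMap A B')) (φR x) = ψ x := by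
      intro x
      show Ideal.Quotient.mk _ (τ ((1 : B') ⊗ₜ[A] x)) = ψ x
      rw [hτ]
      show σ ((1 : B') ⊗ₜ[A] x) = ψ x
      rw [Algebra.TensorProduct.lift_tmul, map_one, one_mul]
    obtain ⟨g, hg, -⟩ := hBu B' (I.map (algebraMap A B')) φR.toRingHom hB'h
      (le_of_eq (hmapθ φR))
    have hgR : ∀ x : R, g (algebraMap R B x) = φR x := fun x => RingHom.congr_fun hg x
    have hgA : ∀ a : A, g (algebraMap A B a) = algebraMap A B' a := by
      intro a
      rw [IsScalarTower.algebraMap_apply A R B, hgR]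
      exact φR.commutes a
    refine ⟨{ g with commutes' := hgA }, ?_⟩
    intro b
    show Ideal.Quotient.mk _ (g b) = χ (Ideal.Quotient.mk _ b)
    haveI hbot : HenselianRing (B' ⧸ I.map (algebraMap A B')) ⊥ := Helper1.henselianRing_bot _
    have hle : (I.map (algebraMap A R)).map ψ.toRingHom ≤ ⊥ := by
      rw [Ideal.map_map, Ideal.map_le_iff_le_comap]
      intro a ha
      rw [Ideal.mem_comap, Ideal.mem_bot]
      show ψ (algebraMap A R a) = 0
      rw [ψ.commutes]
      exact Ideal.Quotient.eq_zero_iff_mem.mpr (Ideal.mem_map_of_mem _ ha)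
    obtain ⟨k, -, hk⟩ := hBu (B' ⧸ I.map (algebraMap A B')) ⊥ ψ.toRingHom hbot hle
    have h1 : (Ideal.Quotient.mk (I.map (algebraMap A B'))).comp g = k := hk _ (by
      show ((Ideal.Quotient.mk (I.map (algebraMap A B'))).comp g).comp (algebraMap R B) =
        ψ.toRingHom
      ext x
      show Ideal.Quotient.mk _ (g (algebraMap R B x)) = ψ x
      rw [hgR]; exact hφR x)
    have h2 : (χ : _ →+* _).comp (Ideal.Quotient.mk (I.map (algebraMap A B))) = k := hk _ (by
      show ((χ : _ →+* _).comp (Ideal.Quotient.mk (I.map (algebraMap A B)))).comp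
        (algebraMap R B) = ψ.toRingHom
      ext x; rfl)
    exact RingHom.congr_fun (h1.trans h2.symm) b

end Groth.Agent.S17604
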