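import Groth.Statements.S17605
import Mathlib
import Groth.Agent.Lib.helper1.HensUniq

set_option autoImplicit false
universe u
open Hensel

namespace Groth.Agent.S17605

/-- Let A be a ring with an ideal I and let f₁, f₂ be elements of A such that D(f₂) ∩ V(I) ⊆ D(f₁) ∩
V(I) in Spec A. If H₁ is a Henselization of the pair (A_{f₁}, IA_{f₁}) and H₂ a Henselization of the
pair (A_{f₂}, IA_{f₂}), with their induced A-algebra structures, then there is exactly one A-algebra
map H₁ → H₂. -/
theorem result (A : Type u) [CommRing A]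
    (I : Ideal A) (f₁ f₂ : A)
    (h : (PrimeSpectrum.basicOpen f₂ : Set (PrimeSpectrum A)) ∩ PrimeSpectrum.zeroLocus (I : Set A) ⊆
      (PrimeSpectrum.basicOpen f₁ : Set (PrimeSpectrum A)) ∩ PrimeSpectrum.zeroLocus (I : Set A))
    (H₁ : Type u) [CommRing H₁] [Algebra (Localization.Away f₁) H₁] [Algebra A H₁]
    [IsScalarTower A (Localization.Away f₁) H₁]
    (hH₁ : Hens2.IsPairHenselization (Localization.Away f₁)
      (I.map (algebraMap A (Localization.Away f₁))) H₁)
    (H₂ : Type u) [CommRing H₂] [Algebra (Localization.Away f₂) H₂] [Algebra A H₂]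
    [IsScalarTower A (Localization.Away f₂) H₂]
    (hH₂ : Hens2.IsPairHenselization (Localization.Away f₂)
      (I.map (algebraMap A (Localization.Away f₂))) H₂) :
    Nonempty (H₁ →ₐ[A] H₂) ∧ Subsingleton (H₁ →ₐ[A] H₂) := by
  classical
  obtain ⟨hH₁h, hH₁u⟩ := hH₁
  obtain ⟨hH₂h, hH₂u⟩ := hH₂
  have hJ₂ : (I.map (algebraMap A (Localization.Away f₂))).map
      (algebraMap (Localization.Away f₂) H₂) = I.map (algebraMap A H₂) := by
    rw [Ideal.map_map, ← IsScalarTower.algebraMap_eq]
  have hjac : I.map (algebraMap A H₂) ≤ Ideal.jacobson ⊥ := by rw [← hJ₂]; exact hH₂h.jac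
  have hunitQ : IsUnit (Ideal.Quotient.mk (I.map (algebraMap A (Localization.Away f₂)))
      (algebraMap A (Localization.Away f₂) f₁)) := by
    by_contra hnu
    obtain ⟨M, hM, hfM⟩ := exists_max_ideal_of_mem_nonunits hnu
    let ρ : A →+* (Localization.Away f₂ ⧸ I.map (algebraMap A (Localization.Away f₂))) :=
      (Ideal.Quotient.mk _).comp (algebraMap A (Localization.Away f₂))
    haveI : M.IsPrime := hM.isPrime
    let p : PrimeSpectrum A := ⟨M.comap ρ, inferInstance⟩
    have hp2 : p ∈ (PrimeSpectrum.basicOpen f₂ : Set (PrimeSpectrum A)) := by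
      rw [SetLike.mem_coe, PrimeSpectrum.mem_basicOpen]
      intro hf
      have hu : IsUnit (ρ f₂) :=
        (IsLocalization.Away.algebraMap_isUnit f₂).map (Ideal.Quotient.mk _)
      exact hM.ne_top (Ideal.eq_top_of_isUnit_mem _ hf hu)
    have hpI : p ∈ PrimeSpectrum.zeroLocus (I : Set A) := by
      rw [PrimeSpectrum.mem_zeroLocus]
      intro a ha
      show ρ a ∈ M
      have : ρ a = 0 := Ideal.Quotient.eq_zero_iff_mem.mpr (Ideal.mem_map_of_mem _ ha)
      rw [this]; exact M.zero_mem
    have hp1 := (h ⟨hp2, hpI⟩).1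
    rw [SetLike.mem_coe, PrimeSpectrum.mem_basicOpen] at hp1
    exact hp1 hfM
  have hunit : IsUnit (algebraMap A H₂ f₁) := by
    obtain ⟨ybar, hy⟩ := hunitQ.exists_right_inv
    obtain ⟨y, rfl⟩ := Ideal.Quotient.mk_surjective ybar
    rw [← map_mul, ← map_one (Ideal.Quotient.mk _), Ideal.Quotient.eq] at hy
    have h1 : algebraMap (Localization.Away f₂) H₂
        (algebraMap A (Localization.Away f₂) f₁ * y - 1) ∈ I.map (algebraMap A H₂) := by
      rw [← hJ₂]; exact Ideal.mem_map_of_mem _ hy
    rw [map_sub, map_mul, map_one, ← IsScalarTower.algebraMap_apply] at h1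
    have h2 : IsUnit (algebraMap A H₂ f₁ * algebraMap (Localization.Away f₂) H₂ y) := by
      have := Helper1.isUnit_add_of_mem_jacobson_bot isUnit_one (hjac h1)
      simpa using this
    exact isUnit_of_mul_isUnit_left h2
  let lift : Localization.Away f₁ →+* H₂ := IsLocalization.Away.lift f₁ hunit
  have hlift : ∀ a, lift (algebraMap A (Localization.Away f₁) a) = algebraMap A H₂ a :=
    fun a => IsLocalization.Away.lift_eq f₁ hunit a
  have hle : (I.map (algebraMap A (Localization.Away f₁))).map lift ≤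
      (I.map (algebraMap A (Localization.Away f₂))).map
        (algebraMap (Localization.Away f₂) H₂) := by
    rw [hJ₂, Ideal.map_map]
    apply le_of_eq
    congr 1
    ext a; exact hlift a
  obtain ⟨g, hg, hguniq⟩ := hH₁u H₂ _ lift hH₂h hle
  have hgA : ∀ a, g (algebraMap A H₁ a) = algebraMap A H₂ a := by
    intro a
    rw [IsScalarTower.algebraMap_apply A (Localization.Away f₁) H₁]
    have := RingHom.congr_fun hg (algebraMap A (Localization.Away f₁) a)
    rw [RingHom.comp_apply] at this
    rw [this, hlift]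
  refine ⟨⟨{ g with commutes' := hgA }⟩, ⟨fun φ ψ => ?_⟩⟩
  have key : ∀ θ : H₁ →ₐ[A] H₂, (θ : H₁ →+* H₂) = g := by
    intro θ
    apply hguniq
    show (θ : H₁ →+* H₂).comp (algebraMap (Localization.Away f₁) H₁) = lift
    apply IsLocalization.ringHom_ext (Submonoid.powers f₁)
    ext a
    show θ (algebraMap (Localization.Away f₁) H₁ (algebraMap A (Localization.Away f₁) a)) =
      lift (algebraMap A _ a)
    rw [← IsScalarTower.algebraMap_apply, θ.commutes, hlift]
  ext x
  exact RingHom.congr_fun ((key φ).trans (key ψ).symm) x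

end Groth.Agent.S17605
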