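import Groth.Statements.S17616
import Mathlib

set_option autoImplicit false
universe u
open Hensel

namespace Groth.Agent.S17616

/-- Let P be a property of ring maps (between rings in a fixed universe), and say that f : B → B' has P
at a prime q of B' if the composite B → B' → B'_g has P for some g ∉ q. Assume (i) for every
finitely presented f : B → B' the set of primes of B' at which f has P is ind-constructible in Spec
B', and f has P as soon as it has P at every prime; (ii) every étale ring map has P; (iii) for g : C
→ C' and h : C' → C'', if h has P at a prime q of C'' and g has P at the inverse image of q in C',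
then h ∘ g has P at q. Now suppose (A, I) is a Henselian pair, and take an A-algebra R of finite
presentation for which A → R has P at each prime of R that contains IR. Then there is an étale
R-algebra R' with R/IR → R'/IR' bijective such that A → R' has P. -/
theorem result
    (P : ∀ ⦃B B' : Type u⦄ [CommRing B] [CommRing B'], (B →+* B') → Prop)
    (PAt : ∀ ⦃B B' : Type u⦄ [CommRing B] [CommRing B'], (B →+* B') → Ideal B' → Prop)
    (hPAt : ∀ ⦃B B' : Type u⦄ [CommRing B] [CommRing B'] (f : B →+* B') (q : Ideal B'),
      PAt f q ↔ ∃ g : B', g ∉ q ∧ P ((algebraMap B' (Localization.Away g)).comp f))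
    (h₁ : ∀ ⦃B B' : Type u⦄ [CommRing B] [CommRing B'] (f : B →+* B'), f.FinitePresentation →
      ProCons.IsIndConstructible {q : PrimeSpectrum B' | PAt f q.asIdeal} ∧
        ((∀ q : PrimeSpectrum B', PAt f q.asIdeal) → P f))
    (h₂ : ∀ ⦃B B' : Type u⦄ [CommRing B] [CommRing B'] (f : B →+* B'), f.Etale → P f)
    (h₃ : ∀ ⦃C C' C'' : Type u⦄ [CommRing C] [CommRing C'] [CommRing C''] (g : C →+* C')
      (h : C' →+* C'') (q : Ideal C'') [q.IsPrime],
      PAt h q → PAt g (q.comap h) → PAt (h.comp g) q)
    (A : Type u) [CommRing A] (I : Ideal A) [HenselianRing A I]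
    (R : Type u) [CommRing R] [Algebra A R] [Algebra.FinitePresentation A R]
    (hR : ∀ (p : Ideal R) [p.IsPrime], I.map (algebraMap A R) ≤ p → PAt (algebraMap A R) p) :
    ∃ (R' : Type u) (_ : CommRing R') (_ : Algebra R R') (_ : Algebra A R') (_ : IsScalarTower A R R'),
      Algebra.Etale R R' ∧
      Function.Bijective (Ideal.quotientMap ((I.map (algebraMap A R)).map (algebraMap R R'))
        (algebraMap R R') Ideal.le_comap_map) ∧ P (algebraMap A R') := by
  classical
  set IR := I.map (algebraMap A R) with hIR
  set U : Set (PrimeSpectrum R) := {q | PAt (algebraMap A R) q.asIdeal} with hU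
  have hopen : IsOpen U := by
    rw [isOpen_iff_forall_mem_open]
    intro q hq
    obtain ⟨g, hgq, hPg⟩ := (hPAt _ _).mp hq
    refine ⟨PrimeSpectrum.basicOpen g, ?_, (PrimeSpectrum.basicOpen g).isOpen, hgq⟩
    intro q' hq'
    exact (hPAt _ _).mpr ⟨g, hq', hPg⟩
  obtain ⟨J, hJ⟩ : ∃ J : Ideal R, Uᶜ = PrimeSpectrum.zeroLocus (J : Set R) := by
    have := hopen.isClosed_compl
    rw [PrimeSpectrum.isClosed_iff_zeroLocus_ideal] at this
    exact this
  have hsup : J ⊔ IR = ⊤ := by
    by_contra hne
    obtain ⟨m, hm, hle⟩ := Ideal.exists_le_maximal _ hne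
    haveI := hm.isPrime
    have h1 : PAt (algebraMap A R) m := hR m (le_trans le_sup_right hle)
    have h2 : (⟨m, hm.isPrime⟩ : PrimeSpectrum R) ∈ Uᶜ := by
      rw [hJ, PrimeSpectrum.mem_zeroLocus]
      intro x hx
      exact hle (Ideal.mem_sup_left hx)
    exact h2 h1
  obtain ⟨g, hg, i, hi, hgi⟩ := Submodule.mem_sup.mp ((Ideal.eq_top_iff_one _).mp hsup)
  have hsub : ∀ q : PrimeSpectrum R, g ∉ q.asIdeal → PAt (algebraMap A R) q.asIdeal := by
    intro q hq
    by_contra hnp
    have hz : q ∈ PrimeSpectrum.zeroLocus (J : Set R) := by rw [← hJ]; exact hnp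
    rw [PrimeSpectrum.mem_zeroLocus] at hz
    exact hq (hz hg)
  haveI : Algebra.FinitePresentation R (Localization.Away g) :=
    IsLocalization.Away.finitePresentation g
  haveI : Algebra.FinitePresentation A (Localization.Away g) := .trans A R _
  have hP : P (algebraMap A (Localization.Away g)) := by
    refine (h₁ (algebraMap A (Localization.Away g)) ?_).2 ?_
    · exact RingHom.finitePresentation_algebraMap.mpr inferInstance
    · intro q'
      haveI := q'.isPrime
      have e1 : PAt (algebraMap R (Localization.Away g)) q'.asIdeal := by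
        refine (hPAt _ _).mpr ⟨1, ?_, h₂ _ ?_⟩
        · exact fun h1 => q'.isPrime.ne_top ((Ideal.eq_top_iff_one _).mpr h1)
        · rw [← IsScalarTower.algebraMap_eq, RingHom.etale_algebraMap]
          exact Algebra.Etale.comp R (Localization.Away g) _
      have e2 : PAt (algebraMap A R) (q'.asIdeal.comap (algebraMap R (Localization.Away g))) := by
        apply hsub ⟨q'.asIdeal.comap _, inferInstance⟩
        show g ∉ q'.asIdeal.comap _
        rw [Ideal.mem_comap]
        intro hmem
        exact q'.isPrime.ne_top (Ideal.eq_top_of_isUnit_mem _ hmem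
          (IsLocalization.Away.algebraMap_isUnit g))
      have e3 := h₃ (algebraMap A R) (algebraMap R (Localization.Away g)) q'.asIdeal e1 e2
      rwa [← IsScalarTower.algebraMap_eq] at e3
  have h1g : 1 - g = i := by rw [← hgi]; ring
  have hgpow : ∀ n : ℕ, 1 - g ^ n ∈ IR := by
    intro n
    induction n with
    | zero => simp
    | succ k ih =>
      have e : 1 - g ^ (k+1) = (1 - g ^ k) + g ^ k * (1 - g) := by ring
      rw [e]
      exact IR.add_mem ih (IR.mul_mem_left _ (h1g ▸ hi))
  refine ⟨Localization.Away g, inferInstance, inferInstance, inferInstance, inferInstance,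
    inferInstance, ⟨?_, ?_⟩, hP⟩
  · apply Ideal.quotientMap_injective'
    intro x hx
    rw [Ideal.mem_comap, IsLocalization.mem_map_algebraMap_iff (Submonoid.powers g)] at hx
    obtain ⟨⟨a, s⟩, hx⟩ := hx
    obtain ⟨n, hn⟩ := s.2
    simp only at hx
    rw [← map_mul, IsLocalization.eq_iff_exists (Submonoid.powers g)] at hx
    obtain ⟨c, hc⟩ := hx
    obtain ⟨m, hm⟩ := c.2
    have h3 : g ^ (m + n) * x ∈ IR := by
      have : g ^ (m + n) * x = (c : R) * (x * (s : R)) := by
        rw [← hm, ← hn]; ring
      rw [this, hc]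
      exact IR.mul_mem_left _ a.2
    have h4 : x = (1 - g ^ (m + n)) * x + g ^ (m + n) * x := by ring
    rw [h4]
    exact IR.add_mem (IR.mul_mem_right _ (hgpow _)) h3
  · intro y
    obtain ⟨y, rfl⟩ := Ideal.Quotient.mk_surjective y
    obtain ⟨a, s, rfl⟩ := IsLocalization.exists_mk'_eq (Submonoid.powers g) y
    obtain ⟨n, hn⟩ := s.2
    refine ⟨Ideal.Quotient.mk _ a, ?_⟩
    rw [Ideal.quotientMap_mk, Ideal.Quotient.eq]
    have h5 : algebraMap R (Localization.Away g) a - IsLocalization.mk' (Localization.Away g) a s
        = IsLocalization.mk' (Localization.Away g) a s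
          * algebraMap R (Localization.Away g) (-(1 - g ^ n)) := by
      have h6 := IsLocalization.mk'_spec (Localization.Away g) a s
      have hn' : g ^ n = (s : R) := hn
      rw [← h6, hn']
      simp only [map_neg, map_sub, map_one]
      ring
    rw [h5]
    exact Ideal.mul_mem_left _ _ (Ideal.mem_map_of_mem _ (IR.neg_mem (hgpow n)))

end Groth.Agent.S17616
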