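import Groth.Statements.S17635
import Mathlib
-- import your own Groth.Agent.* helpers here

set_option autoImplicit false
open Finset
open Variety

namespace Groth.Agent.S17635

section Lib
variable {r : ℕ}

/-- sup norm of a rational vector -/
noncomputable def nr (v : Fin r → ℚ) : ℝ := ‖(fun j => ((v j : ℚ) : ℝ))‖

theorem nr_nonneg (v : Fin r → ℚ) : 0 ≤ nr v := norm_nonneg _

theorem abs_le_nr (v : Fin r → ℚ) (j : Fin r) : |((v j : ℚ) : ℝ)| ≤ nr v := by
  have := norm_le_pi_norm (fun j => ((v j : ℚ) : ℝ)) j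
  rwa [Real.norm_eq_abs] at this

theorem nr_le {v : Fin r → ℚ} {B : ℝ} (hB : 0 ≤ B) (h : ∀ j, |((v j : ℚ) : ℝ)| ≤ B) :
    nr v ≤ B := by
  unfold nr
  rw [pi_norm_le_iff_of_nonneg hB]
  intro j
  rw [Real.norm_eq_abs]
  exact h j

theorem nr_smul (c : ℚ) (hc : 0 ≤ c) (v : Fin r → ℚ) : nr (c • v) = (c : ℝ) * nr v := by
  unfold nr
  have : (fun j => (((c • v) j : ℚ) : ℝ)) = (c : ℝ) • (fun j => ((v j : ℚ) : ℝ)) := by
    funext j
    simp [Pi.smul_apply, smul_eq_mul]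
  rw [this, norm_smul, Real.norm_eq_abs, abs_of_nonneg (by exact_mod_cast hc)]

/-- the sum in the estimate -/
noncomputable def S (n : ℕ) (M D : ℝ) : ℝ := (Finset.Icc 1 n).sum (fun q => M ^ (n - q) * D ^ q)

theorem S_nonneg (n : ℕ) {M D : ℝ} (hM : 0 ≤ M) (hD : 0 ≤ D) : 0 ≤ S n M D :=
  Finset.sum_nonneg (fun q _ => mul_nonneg (pow_nonneg hM _) (pow_nonneg hD _))

theorem S_mono (n : ℕ) {M M' D D' : ℝ} (hM : 0 ≤ M) (hD : 0 ≤ D) (hMM : M ≤ M') (hDD : D ≤ D') :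
    S n M D ≤ S n M' D' :=
  Finset.sum_le_sum (fun q _ => mul_le_mul (pow_le_pow_left₀ hM hMM _) (pow_le_pow_left₀ hD hDD _)
    (pow_nonneg hD _) (pow_nonneg (hM.trans hMM) _))

theorem S_scale (n : ℕ) (c M D : ℝ) : S n (c * M) (c * D) = c ^ n * S n M D := by
  unfold S
  rw [Finset.mul_sum]
  apply Finset.sum_congr rfl
  intro q hq
  have hq' : q ≤ n := (Finset.mem_Icc.mp hq).2
  rw [mul_pow, mul_pow]
  have : c ^ n = c ^ (n - q) * c ^ q := by rw [← pow_add, Nat.sub_add_cancel hq']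
  rw [this]; ring

theorem hdirQ (n : ℕ) (f : (Fin r → ℚ) → ℝ)
    (hhom : ∀ (q : ℚ) (v : Fin r → ℚ), 0 < q → f (q • v) = (q : ℝ) ^ n * f v)
    (i : Fin r) (Ci : ℝ)
    (hCi : ∀ (v : Fin r → ℚ) (b : ℕ), 1 ≤ b →
      |f (v - (b : ℚ) • Pi.single i 1) - f v| ≤ Ci * S n (nr v) (b : ℝ))
    (x : Fin r → ℚ) (t : ℚ) (ht : 0 < t) :
    |f (x - t • Pi.single i 1) - f x| ≤ Ci * S n (nr x) (t : ℝ) := by
  have hnum : 0 < t.num := Rat.num_pos.mpr ht
  obtain ⟨a, ha⟩ : ∃ a : ℕ, (a : ℤ) = t.num := ⟨t.num.toNat, Int.toNat_of_nonneg hnum.le⟩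
  have ha1 : 1 ≤ a := by
    have : (0 : ℤ) < a := by rw [ha]; exact hnum
    exact_mod_cast this
  have hden : 0 < t.den := t.den_pos
  have hdenQ : (0 : ℚ) < t.den := by exact_mod_cast hden
  have hdenR : (0 : ℝ) < t.den := by exact_mod_cast hden
  have hta : (t.den : ℚ) * t = a := by
    have h1 : t * t.den = t.num := Rat.mul_den_eq_num t
    rw [mul_comm, h1, ← ha, Int.cast_natCast]
  have hid : (t.den : ℚ) • (x - t • Pi.single i 1)
      = (t.den : ℚ) • x - (a : ℚ) • Pi.single i 1 := by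
    rw [smul_sub, smul_smul, hta]
  have key := hCi ((t.den : ℚ) • x) a ha1
  rw [← hid, hhom _ _ hdenQ, hhom _ _ hdenQ, nr_smul _ hdenQ.le] at key
  have haR : (a : ℝ) = (t.den : ℝ) * (t : ℝ) := by
    have := congrArg (fun z : ℚ => (z : ℝ)) hta
    push_cast at this
    exact this.symm
  push_cast at key
  rw [haR, S_scale, ← mul_sub, abs_mul, abs_of_pos (pow_pos hdenR n)] at key
  have key2 : (t.den : ℝ) ^ n * |f (x - t • Pi.single i 1) - f x|
      ≤ (t.den : ℝ) ^ n * (Ci * S n (nr x) (t : ℝ)) := by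
    calc _ ≤ _ := key
      _ = _ := by ring
  exact le_of_mul_le_mul_left key2 (pow_pos hdenR n)

theorem eq_sub_single (x y : Fin r → ℚ) (i : Fin r) (t : ℚ) (hi : y i = x i - t)
    (hxy : ∀ j, j ≠ i → y j = x j) : y = x - t • Pi.single i 1 := by
  funext j
  show y j = x j - t * (Pi.single i (1 : ℚ) : Fin r → ℚ) j
  by_cases hj : j = i
  · rw [hj, Pi.single_eq_same, mul_one, hi]
  · rw [Pi.single_eq_of_ne hj, mul_zero, sub_zero, hxy j hj]

theorem stepQ (n : ℕ) (f : (Fin r → ℚ) → ℝ)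
    (hhom : ∀ (q : ℚ) (v : Fin r → ℚ), 0 < q → f (q • v) = (q : ℝ) ^ n * f v)
    (i : Fin r) (Ci : ℝ)
    (hCi : ∀ (v : Fin r → ℚ) (b : ℕ), 1 ≤ b →
      |f (v - (b : ℚ) • Pi.single i 1) - f v| ≤ Ci * S n (nr v) (b : ℝ))
    (x y : Fin r → ℚ) (hxy : ∀ j, j ≠ i → y j = x j) {M D : ℝ} (hx : nr x ≤ M) (hy : nr y ≤ M)
    (hD : |((x i - y i : ℚ) : ℝ)| ≤ D) : |f x - f y| ≤ |Ci| * S n M D := by
  have hM : 0 ≤ M := (nr_nonneg x).trans hx
  have hD0 : 0 ≤ D := (abs_nonneg _).trans hD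
  have hS := S_nonneg n hM hD0
  rcases lt_trichotomy (x i - y i) 0 with ht | ht | ht
  · -- t < 0
    have hx_eq : x = y - (-(x i - y i)) • Pi.single i 1 :=
      eq_sub_single y x i (-(x i - y i)) (by ring) (fun j hj => (hxy j hj).symm)
    have h1 := hdirQ n f hhom i Ci hCi y (-(x i - y i)) (neg_pos.mpr ht)
    rw [← hx_eq] at h1
    have htR : (0 : ℝ) ≤ ((-(x i - y i) : ℚ) : ℝ) := by exact_mod_cast (neg_pos.mpr ht).le
    have htD : ((-(x i - y i) : ℚ) : ℝ) ≤ D := by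
      refine le_trans ?_ hD
      rw [Rat.cast_neg]
      exact neg_le_abs _
    exact h1.trans (mul_le_mul (le_abs_self Ci) (S_mono n (nr_nonneg y) htR hy htD)
      (S_nonneg n (nr_nonneg y) htR) (abs_nonneg Ci))
  · -- t = 0
    have hxy' : x = y := by
      funext j
      by_cases hj : j = i
      · rw [hj]; exact sub_eq_zero.mp ht
      · exact (hxy j hj).symm
    rw [hxy', sub_self, abs_zero]
    exact mul_nonneg (abs_nonneg _) hS
  · -- t > 0
    have hy_eq : y = x - (x i - y i) • Pi.single i 1 :=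
      eq_sub_single x y i (x i - y i) (by ring) hxy
    have h1 := hdirQ n f hhom i Ci hCi x (x i - y i) ht
    rw [← hy_eq, abs_sub_comm] at h1
    have htR : (0 : ℝ) ≤ ((x i - y i : ℚ) : ℝ) := by exact_mod_cast ht.le
    have htD : ((x i - y i : ℚ) : ℝ) ≤ D := (le_abs_self _).trans hD
    exact h1.trans (mul_le_mul (le_abs_self Ci) (S_mono n (nr_nonneg x) htR hx htD)
      (S_nonneg n (nr_nonneg x) htR) (abs_nonneg Ci))

/-- path from `v` to `w`, changing one coordinate at a time -/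
def path (v w : Fin r → ℚ) (i : ℕ) : Fin r → ℚ := fun j => if (j : ℕ) < i then w j else v j

theorem path_zero (v w : Fin r → ℚ) : path v w 0 = v := by
  funext j; simp [path]

theorem path_last (v w : Fin r → ℚ) : path v w r = w := by
  funext j; simp [path, j.isLt]

theorem main (n : ℕ) (f : (Fin r → ℚ) → ℝ)
    (hhom : ∀ (q : ℚ) (v : Fin r → ℚ), 0 < q → f (q • v) = (q : ℝ) ^ n * f v)
    (hdir : ∀ i : Fin r, ∃ Ci : ℝ, ∀ (v : Fin r → ℚ) (b : ℕ), 1 ≤ b →
      |f (v - (b : ℚ) • Pi.single i 1) - f v| ≤ Ci * S n (nr v) (b : ℝ)) :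
    ∃ C : ℝ, 0 < C ∧ ∀ v w : Fin r → ℚ,
      |f v - f w| ≤ C * S n (max (nr v) (nr w)) (nr (v - w)) := by
  choose Cs hCs using hdir
  obtain ⟨Cmax, hCmax0, hCmax⟩ : ∃ Cmax : ℝ, 0 ≤ Cmax ∧ ∀ i, |Cs i| ≤ Cmax :=
    ⟨∑ i, |Cs i|, Finset.sum_nonneg (fun i _ => abs_nonneg _),
      fun i => Finset.single_le_sum (f := fun i => |Cs i|) (fun j _ => abs_nonneg _)
        (Finset.mem_univ i)⟩
  refine ⟨r * Cmax + 1, by positivity, ?_⟩
  intro v w
  obtain ⟨M, hMdef⟩ : ∃ M : ℝ, M = max (nr v) (nr w) := ⟨_, rfl⟩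
  obtain ⟨D, hDdef⟩ : ∃ D : ℝ, D = nr (v - w) := ⟨_, rfl⟩
  rw [← hMdef, ← hDdef]
  have hvM : nr v ≤ M := hMdef ▸ le_max_left _ _
  have hwM : nr w ≤ M := hMdef ▸ le_max_right _ _
  have hM0 : 0 ≤ M := (nr_nonneg v).trans hvM
  have hD0 : 0 ≤ D := hDdef ▸ nr_nonneg _
  have hS0 := S_nonneg n hM0 hD0
  have hunr : ∀ i, nr (path v w i) ≤ M := by
    intro i
    apply nr_le hM0
    intro j
    by_cases hj : (j : ℕ) < i
    · simp only [path, hj, if_true]
      exact (abs_le_nr w j).trans hwM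
    · simp only [path, hj, if_false]
      exact (abs_le_nr v j).trans hvM
  have hstep : ∀ i ∈ Finset.range r,
      |f (path v w i) - f (path v w (i + 1))| ≤ Cmax * S n M D := by
    intro i hi
    have hi' : i < r := Finset.mem_range.mp hi
    refine (stepQ n f hhom ⟨i, hi'⟩ (Cs ⟨i, hi'⟩) (hCs ⟨i, hi'⟩) (path v w i) (path v w (i + 1))
      ?_ (hunr i) (hunr (i + 1)) ?_).trans (mul_le_mul_of_nonneg_right (hCmax _) hS0)
    · intro j hj
      have hj' : (j : ℕ) ≠ i := fun h => hj (Fin.ext h)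
      simp only [path]
      by_cases h2 : (j : ℕ) < i
      · rw [if_pos h2, if_pos (Nat.lt_succ_of_lt h2)]
      · rw [if_neg h2, if_neg (by omega)]
    · have e1 : path v w i ⟨i, hi'⟩ = v ⟨i, hi'⟩ := by simp [path]
      have e2 : path v w (i + 1) ⟨i, hi'⟩ = w ⟨i, hi'⟩ := by simp [path]
      rw [e1, e2, hDdef]
      exact abs_le_nr (v - w) ⟨i, hi'⟩
  have htel := dist_le_range_sum_dist (fun i => f (path v w i)) r
  simp only [Real.dist_eq] at htel
  rw [path_zero, path_last] at htel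
  calc |f v - f w| ≤ ∑ i ∈ Finset.range r, |f (path v w i) - f (path v w (i + 1))| := htel
    _ ≤ ∑ _i ∈ Finset.range r, Cmax * S n M D := Finset.sum_le_sum hstep
    _ = r * Cmax * S n M D := by rw [Finset.sum_const, Finset.card_range, nsmul_eq_mul]; ring
    _ ≤ (r * Cmax + 1) * S n M D := mul_le_mul_of_nonneg_right (by linarith) hS0

end Lib


/-- Let r and n be natural numbers and f : ℚ^r → ℝ a nonnegative function which is homogeneous of degree
n for positive rational scalars, f(q · v) = q^n · f(v) for q > 0; give ℚ^r the maximum norm ‖v‖ =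
max_j |v_j| of its standard basis. Suppose that for every standard basis vector e_i there is a
constant C_i with |f(v − b · e_i) − f(v)| ≤ C_i · Σ_{q=1}^{n} ‖v‖^{n−q} · b^q for all v ∈ ℚ^r and
all integers b ≥ 1. Then there is a constant C > 0 such that |f(v) − f(w)| ≤ C · Σ_{q=1}^{n}
max(‖v‖, ‖w‖)^{n−q} · ‖v − w‖^q for all v, w ∈ ℚ^r. (The source allows any norm on an r-dimensional
rational vector space with a chosen basis and argues with the maximum norm of that basis, which is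
the case stated here.) -/
theorem result (r n : ℕ) (f : (Fin r → ℚ) → ℝ)
    (hf0 : ∀ v, 0 ≤ f v)
    (hhom : ∀ (q : ℚ) (v : Fin r → ℚ), 0 < q → f (q • v) = (q : ℝ) ^ n * f v)
    (hdir : ∀ i : Fin r, ∃ Ci : ℝ, ∀ (v : Fin r → ℚ) (b : ℕ), 1 ≤ b →
      |f (v - (b : ℚ) • Pi.single i 1) - f v| ≤
        Ci * (Finset.Icc 1 n).sum (fun q => ‖(fun j => ((v j : ℚ) : ℝ))‖ ^ (n - q) * (b : ℝ) ^ q)) :
    ∃ C : ℝ, 0 < C ∧ ∀ v w : Fin r → ℚ,
      |f v - f w| ≤ C * (Finset.Icc 1 n).sum (fun q =>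
        (max ‖(fun j => ((v j : ℚ) : ℝ))‖ ‖(fun j => ((w j : ℚ) : ℝ))‖) ^ (n - q) *
          ‖(fun j => ((v j - w j : ℚ) : ℝ))‖ ^ q) := by
  exact main n f hhom hdir

end Groth.Agent.S17635
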