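import Groth.Statements.S17677
import Mathlib

set_option autoImplicit false
universe u
open Hoch

namespace Groth.Agent.S17677

open scoped TensorProduct

theorem lam_prop (k : Type u) [CommRing k] (M : Type u) [AddCommMonoid M]
    (a : AddMonoidAlgebra k M) :
    ((Finsupp.lapply (0 : M) : (M →₀ k) →ₗ[k] k) ∘ₗ
      (AddMonoidAlgebra.coeffLinearEquiv k).toLinearMap).lTensor (AddMonoidAlgebra k M)
      (Coalgebra.comul (R := k) a) =
    (1 : AddMonoidAlgebra k M) ⊗ₜ[k]
      (((Finsupp.lapply (0 : M) : (M →₀ k) →ₗ[k] k) ∘ₗ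
      (AddMonoidAlgebra.coeffLinearEquiv k).toLinearMap) a) := by
  classical
  induction a using AddMonoidAlgebra.induction_linear with
  | zero => simp
  | add x y hx hy => simp only [map_add, TensorProduct.tmul_add, hx, hy]
  | single g r =>
    rw [AddMonoidAlgebra.comul_single]
    simp only [CommSemiring.comul_apply, TensorProduct.map_tmul, AddMonoidAlgebra.lsingle_apply,
      LinearMap.lTensor_tmul, LinearMap.comp_apply, LinearEquiv.coe_coe,
      AddMonoidAlgebra.coeffLinearEquiv_apply, AddMonoidAlgebra.coeff_single, Finsupp.lapply_apply,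
      Finsupp.single_apply]
    by_cases hg : g = 0
    · subst hg
      simp [AddMonoidAlgebra.one_def]
    · simp [hg]

theorem aux (k : Type u) [CommRing k] (M : Type u) [AddCommMonoid M] (V : Type u)
    [AddCommGroup V] [Module k V] [HopfRep.Comod k (AddMonoidAlgebra k M) V]
    (c : V ⊗[k] AddMonoidAlgebra k M)
    (hc : (Hoch.d k (AddMonoidAlgebra k M) V 0).rTensor (AddMonoidAlgebra k M) c +
      ((-1 : k) ^ (0 + 1)) • Hoch.tail k (AddMonoidAlgebra k M) V c = 0) :
    ∃ w : V, Hoch.d k (AddMonoidAlgebra k M) V 0 w = c := by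
  classical
  set lam : AddMonoidAlgebra k M →ₗ[k] k := (Finsupp.lapply (0 : M) : (M →₀ k) →ₗ[k] k) ∘ₗ
      (AddMonoidAlgebra.coeffLinearEquiv k).toLinearMap with hlam
  have hlam1 : lam 1 = 1 := by
    simp [hlam, AddMonoidAlgebra.one_def]
  have hlam2 : ∀ a : AddMonoidAlgebra k M,
      lam.lTensor (AddMonoidAlgebra k M) (Coalgebra.comul (R := k) a) =
        (1 : AddMonoidAlgebra k M) ⊗ₜ[k] lam a := lam_prop k M
  let Λ : (V ⊗[k] AddMonoidAlgebra k M) ⊗[k] AddMonoidAlgebra k M →ₗ[k] V ⊗[k] AddMonoidAlgebra k M :=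
    (TensorProduct.rid k (V ⊗[k] AddMonoidAlgebra k M)).toLinearMap ∘ₗ
      lam.lTensor (V ⊗[k] AddMonoidAlgebra k M)
  let Λ' : V ⊗[k] AddMonoidAlgebra k M →ₗ[k] V :=
    (TensorProduct.rid k V).toLinearMap ∘ₗ lam.lTensor V
  have h1 : Λ ∘ₗ (Hoch.d k (AddMonoidAlgebra k M) V 0).rTensor (AddMonoidAlgebra k M) =
      Hoch.d k (AddMonoidAlgebra k M) V 0 ∘ₗ Λ' := by
    apply TensorProduct.ext'
    intro v a
    simp [Λ, Λ']
  have h3 : ∀ (v : V) (z : AddMonoidAlgebra k M ⊗[k] AddMonoidAlgebra k M),
      Λ ((TensorProduct.assoc k V (AddMonoidAlgebra k M) (AddMonoidAlgebra k M)).symm (v ⊗ₜ[k] z)) =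
      v ⊗ₜ[k] (TensorProduct.rid k (AddMonoidAlgebra k M)
        (lam.lTensor (AddMonoidAlgebra k M) z)) := by
    intro v z
    induction z using TensorProduct.induction_on with
    | zero => simp
    | tmul b c' => simp [Λ, TensorProduct.smul_tmul']
    | add z₁ z₂ h₁ h₂ => simp only [TensorProduct.tmul_add, map_add, h₁, h₂]
  have h2 : ∀ x : V ⊗[k] AddMonoidAlgebra k M,
      Λ (Hoch.tail k (AddMonoidAlgebra k M) V x) = -x := by
    intro x
    induction x using TensorProduct.induction_on with
    | zero => simp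
    | tmul v a =>
      rw [Hoch.tail_tmul, h3]
      simp only [map_sub, hlam2, LinearMap.lTensor_tmul, TensorProduct.rid_tmul, hlam1, one_smul,
        TensorProduct.tmul_sub]
      abel
    | add x₁ x₂ h₁ h₂ => rw [map_add, map_add, h₁, h₂, neg_add]
  have h4 := congrArg Λ hc
  rw [map_add, map_smul, h2, map_zero] at h4
  have h5 : Λ ((Hoch.d k (AddMonoidAlgebra k M) V 0).rTensor (AddMonoidAlgebra k M) c) =
      Hoch.d k (AddMonoidAlgebra k M) V 0 (Λ' c) := LinearMap.congr_fun h1 c
  rw [h5] at h4
  refine ⟨-Λ' c, ?_⟩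
  rw [map_neg]
  have h6 : Hoch.d k (AddMonoidAlgebra k M) V 0 (Λ' c) + c = 0 := by
    simpa using h4
  exact (neg_eq_of_add_eq_zero_right h6)


/-- Let k be a commutative ring, M a commutative monoid and V a right comodule over the monoid bialgebra
k[M] (a quasi-coherent module with an action of the diagonalizable monoid scheme Spec k[M]). Then
every 1-cocycle of the Hochschild complex of V is a 1-coboundary, i.e. the first Hochschild
cohomology module of the diagonalizable monoid with coefficients in V is zero. (The source works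
over an algebraic space with M finitely generated and cancellative, hypotheses it uses only to
identify modules under the monoid with comodules; the cocycle computation, which is the affine
statement given here, uses neither.) -/
theorem result (k : Type u) [CommRing k] (M : Type u)
    [AddCommMonoid M] (V : Type u) [AddCommGroup V] [Module k V]
    [HopfRep.Comod k (AddMonoidAlgebra k M) V] :
    Hoch.cocycles k (AddMonoidAlgebra k M) V 1 ≤ Hoch.coboundaries k (AddMonoidAlgebra k M) V 1 := by
  intro c hc
  obtain ⟨w, hw⟩ := aux k M V c hc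
  exact ⟨w, hw⟩

end Groth.Agent.S17677
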