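import Groth.Statements.S17678
import Mathlib
-- import your own Groth.Agent.* helpers here

set_option autoImplicit false
universe u v
open DiagMon

namespace Groth.Agent.S17678



/-- Let R be a commutative ring and N an abelian group. Then the ring map R[N] → R[N × N] of monoid
algebras induced by the diagonal n ↦ (n, n), which is the comorphism of the multiplication morphism
of the diagonalizable group scheme Spec R[N] over Spec R, is flat. (The published statement asserts
flatness for every cancellative commutative monoid N, on the ground that N acts freely on N × N
through the diagonal; but for the submonoid N of the natural numbers generated by 2 and 3, the pairs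
(x, x − 1) with x ≥ 3 form one orbit class that is not a free orbit, and the corresponding direct
summand of k[N × N] is the ideal t³k[t] viewed as a module over k[t², t³], which is not flat. The
statement is therefore given for groups, where N × N is a free N-set with basis the pairs (0, b).) -/
theorem result (R : Type u) [CommRing R] (N : Type v)
    [AddCommGroup N] :
    (AddMonoidAlgebra.mapDomainRingHom R ((AddMonoidHom.id N).prod (AddMonoidHom.id N))).Flat := by
  classical
  let φ' : N × N ≃+ N × N :=
    { toFun := fun x => (x.1 - x.2, x.2)
      invFun := fun x => (x.1 + x.2, x.2)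
      left_inv := fun x => Prod.ext (sub_add_cancel x.1 x.2) rfl
      right_inv := fun x => Prod.ext (add_sub_cancel_right x.1 x.2) rfl
      map_add' := fun x y => Prod.ext (by
        show (x + y).1 - (x + y).2 = (x.1 - x.2) + (y.1 - y.2)
        simp only [Prod.fst_add, Prod.snd_add]
        abel) rfl }
  let g : AddMonoidAlgebra R (N × N) ≃+* AddMonoidAlgebra (AddMonoidAlgebra R N) N :=
    (AddMonoidAlgebra.mapDomainRingEquiv R φ').trans AddMonoidAlgebra.curryRingEquiv
  have hcomp : (g : AddMonoidAlgebra R (N × N) →+* AddMonoidAlgebra (AddMonoidAlgebra R N) N).comp
      (AddMonoidAlgebra.mapDomainRingHom R ((AddMonoidHom.id N).prod (AddMonoidHom.id N)))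
      = algebraMap (AddMonoidAlgebra R N) (AddMonoidAlgebra (AddMonoidAlgebra R N) N) := by
    apply AddMonoidAlgebra.ringHom_ext
    · intro r
      simp [g, φ', AddMonoidAlgebra.mapDomainRingEquiv]
    · intro n
      simp [g, φ', AddMonoidAlgebra.mapDomainRingEquiv]
  have hflat : (algebraMap (AddMonoidAlgebra R N)
      (AddMonoidAlgebra (AddMonoidAlgebra R N) N)).Flat := by
    rw [RingHom.flat_algebraMap_iff]
    haveI : Module.Free (AddMonoidAlgebra R N) (AddMonoidAlgebra (AddMonoidAlgebra R N) N) :=
      Module.Free.of_basis (AddMonoidAlgebra.basis N (AddMonoidAlgebra R N))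
    infer_instance
  rw [← hcomp] at hflat
  exact (RingHom.Flat.comp_iff_of_bijective_left
    (g := (g : AddMonoidAlgebra R (N × N) →+* AddMonoidAlgebra (AddMonoidAlgebra R N) N))
    g.bijective).mp hflat

end Groth.Agent.S17678
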