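import Groth.Statements.S17679
import Mathlib
-- import your own Groth.Agent.* helpers here

set_option autoImplicit false
open DiagMon

namespace Groth.Agent.S17679

/-- For n ≥ 1 the minimal number of generators of ℤ^n as an additive monoid is n + 1: some n + 1
elements generate ℤ^n as a monoid, and every finite set generating ℤ^n as a monoid has at least n +
1 elements. (For n = 0 the empty set generates the zero monoid, so the count n + 1 is stated for n ≥
1 only.) -/
theorem result (n : ℕ) (hn : 1 ≤ n) :
    (∃ s : Finset (Fin n → ℤ), s.card = n + 1 ∧ AddSubmonoid.closure (s : Set (Fin n → ℤ)) = ⊤) ∧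
    ∀ s : Finset (Fin n → ℤ), AddSubmonoid.closure (s : Set (Fin n → ℤ)) = ⊤ → n + 1 ≤ s.card := by
  classical
  constructor
  · let w : Fin n → ℤ := fun _ => -1
    let e : Fin n → (Fin n → ℤ) := fun i => Pi.single i 1
    have hinj : Function.Injective e := by
      intro i j hij
      by_contra hne
      have h1 := congrFun hij i
      simp [e, Pi.single_apply, hne] at h1
    have hw : w ∉ Finset.univ.image e := by
      intro h
      obtain ⟨i, -, hi⟩ := Finset.mem_image.mp h
      have h1 := congrFun hi i
      simp [e, w] at h1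
    refine ⟨insert w (Finset.univ.image e), ?_, ?_⟩
    · rw [Finset.card_insert_of_notMem hw, Finset.card_image_of_injective _ hinj,
        Finset.card_univ, Fintype.card_fin]
    · rw [eq_top_iff]
      intro v _
      have hvi : ∀ i, 0 ≤ v i + ((∑ i, (v i).natAbs : ℕ) : ℤ) := by
        intro i
        have h1 : (v i).natAbs ≤ ∑ i, (v i).natAbs :=
          Finset.single_le_sum (f := fun i => (v i).natAbs) (fun _ _ => Nat.zero_le _)
            (Finset.mem_univ i)
        omega
      have hv : v = ∑ i, (v i + ((∑ i, (v i).natAbs : ℕ) : ℤ)).toNat • e i +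
          (∑ i, (v i).natAbs) • w := by
        funext j
        have h1 : (∑ i, (v i + ((∑ i, (v i).natAbs : ℕ) : ℤ)).toNat • e i) j =
            (((v j + ((∑ i, (v i).natAbs : ℕ) : ℤ)).toNat : ℕ) : ℤ) := by
          rw [Finset.sum_apply, Finset.sum_eq_single j]
          · simp [e]
          · intro i _ hij
            simp [e, Pi.single_apply, hij.symm]
          · intro h; exact absurd (Finset.mem_univ j) h
        rw [Pi.add_apply, h1, Int.toNat_of_nonneg (hvi j)]
        simp [w]
      rw [hv]
      refine AddSubmonoid.add_mem _ (AddSubmonoid.sum_mem _ fun i _ =>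
        AddSubmonoid.nsmul_mem _ (AddSubmonoid.subset_closure ?_) _)
        (AddSubmonoid.nsmul_mem _ (AddSubmonoid.subset_closure ?_) _)
      · simp
      · simp
  · intro s hs
    by_contra hlt
    push Not at hlt
    have hcard : s.card ≤ n := by omega
    have hspan : (⊤ : Submodule ℤ (Fin n → ℤ)) ≤
        Submodule.span ℤ (Set.range (Subtype.val : ↥s → (Fin n → ℤ))) := by
      rintro v -
      have hv : v ∈ AddSubmonoid.closure (s : Set (Fin n → ℤ)) := by rw [hs]; trivial
      induction hv using AddSubmonoid.closure_induction with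
      | mem x hx => exact Submodule.subset_span ⟨⟨x, Finset.mem_coe.mp hx⟩, rfl⟩
      | zero => exact Submodule.zero_mem _
      | add x y _ _ hx hy => exact Submodule.add_mem _ hx hy
    have hli : LinearIndependent ℤ (Subtype.val : ↥s → (Fin n → ℤ)) :=
      linearIndependent_of_top_le_span_of_card_le_finrank hspan
        (by rw [Fintype.card_coe, Module.finrank_fin_fun]; exact hcard)
    obtain ⟨t, ht⟩ : s.Nonempty := by
      rw [Finset.nonempty_iff_ne_empty]
      rintro rfl
      have h0 : (fun _ => 1 : Fin n → ℤ) ∈
          AddSubmonoid.closure ((∅ : Finset (Fin n → ℤ)) : Set (Fin n → ℤ)) := by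
        rw [hs]; trivial
      rw [Finset.coe_empty, AddSubmonoid.closure_empty, AddSubmonoid.mem_bot] at h0
      have h1 := congrFun h0 ⟨0, hn⟩
      exact absurd h1 (by simp)
    have hneg : -t ∈ AddSubmonoid.closure (s : Set (Fin n → ℤ)) := by rw [hs]; trivial
    obtain ⟨f, -, hf⟩ := AddSubmonoid.mem_closure_finset.mp hneg
    rw [Fintype.linearIndependent_iff] at hli
    have hzero : ∑ a : ↥s, ((f a : ℤ) + (if (a : Fin n → ℤ) = t then 1 else 0)) •
        (a : Fin n → ℤ) = 0 := by
      rw [Finset.sum_coe_sort s (fun a => ((f a : ℤ) + (if a = t then 1 else 0)) • a)]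
      simp only [add_smul, Finset.sum_add_distrib, ite_smul, one_smul, zero_smul,
        Finset.sum_ite_eq', ht, if_true]
      have h2 : ∑ a ∈ s, ((f a : ℕ) : ℤ) • a = -t := by
        rw [← hf]; exact Finset.sum_congr rfl fun a _ => by rw [natCast_zsmul]
      rw [h2]; simp
    have h3 := hli _ hzero ⟨t, ht⟩
    simp at h3
    omega

end Groth.Agent.S17679
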