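import Groth.Statements.S17687
import Mathlib
-- import your own Groth.Agent.* helpers here

set_option autoImplicit false
universe u v w
open DiagMon

namespace Groth.Agent.S17687



/-- Let R be a commutative ring and A a commutative R-algebra of finite type graded by a commutative
monoid M. Then the set of ideals J_N, N running over all submonoids of M, where J_N is generated by
the homogeneous elements of degree not in N (the ideal of the attractor of Spec A for the magnet N),
is finite: Spec A has finitely many attractors and hence finitely many pure magnets. (The source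
assumes Spec A of finite presentation over the base; its proof uses only a finite set of homogeneous
algebra generators, so finite type is assumed here.) -/
theorem result (R : Type u) [CommRing R] (A : Type v) [CommRing A]
    [Algebra R A] [Algebra.FiniteType R A] (M : Type w) [AddCommMonoid M] [DecidableEq M]
    (𝒜 : M → Submodule R A) [GradedAlgebra 𝒜] :
    (Set.range fun N : AddSubmonoid M => Ideal.span {a : A | ∃ m : M, m ∉ N ∧ a ∈ 𝒜 m}).Finite := by
  classical
  obtain ⟨t, ht⟩ := Algebra.FiniteType.out (R := R) (A := A)
  let T : Finset A := t.biUnion (fun x => (DirectSum.decompose 𝒜 x).support.image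
    (fun k => (DirectSum.decompose 𝒜 x k : A)))
  have hT : Algebra.adjoin R (T : Set A) = ⊤ := by
    rw [← top_le_iff, ← ht, Algebra.adjoin_le_iff]
    intro x hx
    rw [← DirectSum.sum_support_decompose 𝒜 x]
    refine Subalgebra.sum_mem _ fun k hk => Algebra.subset_adjoin ?_
    simp only [T, Finset.coe_biUnion, Finset.coe_image, Set.mem_iUnion, Set.mem_image,
      Finset.mem_coe]
    exact ⟨x, hx, k, hk, rfl⟩
  have hhom : ∀ y ∈ T, ∃ m, y ∈ 𝒜 m := by
    intro y hy
    simp only [T, Finset.mem_biUnion, Finset.mem_image] at hy
    obtain ⟨x, _, k, _, rfl⟩ := hy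
    exact ⟨k, SetLike.coe_mem _⟩
  choose! dg hdg using hhom
  have hclaim : ∀ N : AddSubmonoid M, Ideal.span {a : A | ∃ m : M, m ∉ N ∧ a ∈ 𝒜 m} =
      Ideal.span ((T.filter (fun y => dg y ∉ N) : Finset A) : Set A) := by
    intro N
    apply le_antisymm
    · rw [Ideal.span_le]
      rintro a ⟨m, hm, ha⟩
      have hP : ∀ u ∈ Submonoid.closure (T : Set A), ∃ m', u ∈ 𝒜 m' ∧
          (m' ∉ N → u ∈ Ideal.span ((T.filter (fun y => dg y ∉ N) : Finset A) : Set A)) := by
        intro u hu
        induction hu using Submonoid.closure_induction with
        | mem u hu =>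
          refine ⟨dg u, hdg u hu, fun h => Ideal.subset_span ?_⟩
          simp only [Finset.coe_filter, Set.mem_ofPred_eq]
          exact ⟨hu, h⟩
        | one => exact ⟨0, SetLike.one_mem_graded 𝒜, fun h => absurd N.zero_mem h⟩
        | mul u v _ _ hu hv =>
          obtain ⟨m1, hu1, hu2⟩ := hu
          obtain ⟨m2, hv1, hv2⟩ := hv
          refine ⟨m1 + m2, SetLike.mul_mem_graded hu1 hv1, fun h => ?_⟩
          by_cases h1 : m1 ∈ N
          · by_cases h2 : m2 ∈ N
            · exact absurd (N.add_mem h1 h2) h
            · exact Ideal.mul_mem_left _ _ (hv2 h2)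
          · exact Ideal.mul_mem_right _ _ (hu2 h1)
      have hQ : ∀ b ∈ Submodule.span R (Submonoid.closure (T : Set A) : Set A),
          (GradedAlgebra.proj 𝒜 m b) ∈
            Ideal.span ((T.filter (fun y => dg y ∉ N) : Finset A) : Set A) := by
        intro b hb
        induction hb using Submodule.span_induction with
        | mem u hu =>
          obtain ⟨m', hu1, hu2⟩ := hP u hu
          rw [GradedAlgebra.proj_apply]
          by_cases hmm : m' = m
          · subst hmm
            rw [DirectSum.decompose_of_mem_same 𝒜 hu1]; exact hu2 hm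
          · rw [DirectSum.decompose_of_mem_ne 𝒜 hu1 hmm]; exact Ideal.zero_mem _
        | zero => rw [map_zero]; exact Ideal.zero_mem _
        | add x y _ _ hx hy => rw [map_add]; exact Ideal.add_mem _ hx hy
        | smul r x _ hx => rw [map_smul, Algebra.smul_def]; exact Ideal.mul_mem_left _ _ hx
      have ha_span : a ∈ Submodule.span R (Submonoid.closure (T : Set A) : Set A) := by
        have h1 : a ∈ Subalgebra.toSubmodule (Algebra.adjoin R (T : Set A)) := by
          rw [hT, Algebra.top_toSubmodule]; exact Submodule.mem_top
        rwa [Algebra.adjoin_eq_span (R := R) (s := (T : Set A))] at h1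
      have h2 := hQ a ha_span
      rwa [GradedAlgebra.proj_apply, DirectSum.decompose_of_mem_same 𝒜 ha] at h2
    · apply Ideal.span_mono
      intro y hy
      simp only [Finset.coe_filter, Set.mem_ofPred_eq] at hy
      exact ⟨dg y, hy.2, hdg y hy.1⟩
  refine Set.Finite.subset ((Finset.finite_toSet T.powerset).image
    (fun U : Finset A => Ideal.span (U : Set A))) ?_
  rintro _ ⟨N, rfl⟩
  refine ⟨T.filter (fun y => dg y ∉ N), ?_, (hclaim N).symm⟩
  rw [Finset.mem_coe, Finset.mem_powerset]
  exact Finset.filter_subset _ _

end Groth.Agent.S17687
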