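import Groth.Statements.S17717
import Mathlib
-- import your own Groth.Agent.* helpers here

set_option autoImplicit false
open MoretBailly

namespace Groth.Agent.S17717

/-- Write B(x) = x/(1 - e^(-x)) for the exponential generating series of the Bernoulli numbers (B'_1 =
1/2). For all natural numbers d, p and every integer s the coefficient of x in B(-dx)^(-1) B(-dpx)
B(x)^2 e^((dp-d-2+s)x), i.e. the case n = 1 of the Todd-class integrand, equals d(p-1)/2 + s - 1. -/
theorem result (d p : ℕ) (s : ℤ) :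
    PowerSeries.coeff 1 ((PowerSeries.rescale (-(d : ℚ)) (bernoulli'PowerSeries ℚ))⁻¹ * PowerSeries.rescale (-((d : ℚ) * p)) (bernoulli'PowerSeries ℚ) * bernoulli'PowerSeries ℚ ^ (2) * PowerSeries.rescale ((d : ℚ) * p - d - 2 + s) (PowerSeries.exp ℚ)) =
      (d : ℚ) * (p - 1) / 2 + s - 1 := by
  have hB0 : PowerSeries.constantCoeff (bernoulli'PowerSeries ℚ) = 1 := by
    rw [← PowerSeries.coeff_zero_eq_constantCoeff_apply, bernoulli'PowerSeries, PowerSeries.coeff_mk]
    simp
  have hB1 : PowerSeries.coeff 1 (bernoulli'PowerSeries ℚ) = 1 / 2 := by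
    rw [bernoulli'PowerSeries, PowerSeries.coeff_mk]
    simp
  have hE0 : PowerSeries.constantCoeff (PowerSeries.exp ℚ) = 1 := PowerSeries.constantCoeff_exp
  have hE1 : PowerSeries.coeff 1 (PowerSeries.exp ℚ) = 1 := by
    rw [PowerSeries.coeff_exp]; simp
  have hr0 : ∀ (a : ℚ) (f : PowerSeries ℚ), PowerSeries.constantCoeff (PowerSeries.rescale a f) =
      PowerSeries.constantCoeff f := by
    intro a f
    rw [← PowerSeries.coeff_zero_eq_constantCoeff_apply, PowerSeries.coeff_rescale]
    simp
  have hr1 : ∀ (a : ℚ) (f : PowerSeries ℚ), PowerSeries.coeff 1 (PowerSeries.rescale a f) =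
      a * PowerSeries.coeff 1 f := by
    intro a f
    rw [PowerSeries.coeff_rescale]; simp
  have hinv : ∀ g : PowerSeries ℚ, PowerSeries.constantCoeff g = 1 →
      PowerSeries.coeff 1 g⁻¹ = - PowerSeries.coeff 1 g := by
    intro g hg
    have h1 : g * g⁻¹ = 1 := PowerSeries.mul_inv_cancel g (by rw [hg]; exact one_ne_zero)
    have h2 := congrArg (PowerSeries.coeff 1) h1
    rw [PowerSeries.coeff_one_mul, PowerSeries.constantCoeff_inv, hg] at h2
    simp at h2
    linarith
  set g1 := PowerSeries.rescale (-(d : ℚ)) (bernoulli'PowerSeries ℚ) with hg1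
  have hg10 : PowerSeries.constantCoeff g1 = 1 := by rw [hg1, hr0, hB0]
  rw [PowerSeries.coeff_one_mul, PowerSeries.coeff_one_mul, PowerSeries.coeff_one_mul,
    PowerSeries.coeff_one_pow, hinv g1 hg10, hr1, hr1, hr1, hB1, hE1]
  simp only [map_mul, map_pow, PowerSeries.constantCoeff_inv, hg10, hr0, hB0, hE0]
  push_cast
  ring

end Groth.Agent.S17717
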