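import Groth.Statements.S17721
import Mathlib
-- import your own Groth.Agent.* helpers here

set_option autoImplicit false
universe u
open CAlg

namespace Groth.Agent.S17721

open PowerSeries in
theorem content_split {R : Type*} [CommRing R] [IsDomain R] [IsDiscreteValuationRing R]
    {ϖ : R} (hϖ : Irreducible ϖ) (h : PowerSeries R) (hh : h ≠ 0) :
    ∃ (n : ℕ) (h' : PowerSeries R), h = C (ϖ ^ n) * h' ∧
      PowerSeries.map (IsLocalRing.residue R) h' ≠ 0 := by
  classical
  obtain ⟨j0, hj0⟩ : ∃ j, coeff j h ≠ 0 := by
    by_contra hcon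
    push Not at hcon
    exact hh (PowerSeries.ext (by simpa using hcon))
  have hex : ∃ m, ¬ (∀ j, ϖ ^ m ∣ coeff j h) := by
    obtain ⟨n, u, hu⟩ := IsDiscreteValuationRing.eq_unit_mul_pow_irreducible hj0 hϖ
    refine ⟨n + 1, fun hP => ?_⟩
    have h1 := hP j0
    rw [hu, pow_succ] at h1
    have h2 : ϖ ^ n * ϖ ∣ ϖ ^ n * (u : R) := by rwa [mul_comm (ϖ ^ n) (u : R)]
    have h3 : ϖ ∣ (u : R) := (mul_dvd_mul_iff_left (pow_ne_zero n hϖ.ne_zero)).mp h2
    exact hϖ.not_isUnit (isUnit_of_dvd_unit h3 u.isUnit)
  have hm : ¬ (∀ j, ϖ ^ (Nat.find hex) ∣ coeff j h) := Nat.find_spec hex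
  have hm0 : Nat.find hex ≠ 0 := by
    intro h0
    apply hm
    intro j
    rw [h0]; simp
  obtain ⟨n, hn⟩ : ∃ n, Nat.find hex = n + 1 := Nat.exists_eq_succ_of_ne_zero hm0
  have hPn : ∀ j, ϖ ^ n ∣ coeff j h := by
    by_contra hc
    exact Nat.find_min hex (show n < Nat.find hex by omega) hc
  choose q hq using hPn
  refine ⟨n, PowerSeries.mk q, ?_, ?_⟩
  · ext j
    rw [coeff_C_mul, coeff_mk]; exact hq j
  · intro hzero
    apply hm
    intro j
    have hj : IsLocalRing.residue R (q j) = 0 := by
      have := congrArg (coeff j) hzero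
      simpa using this
    rw [IsLocalRing.residue_eq_zero_iff, hϖ.maximalIdeal_eq, Ideal.mem_span_singleton] at hj
    obtain ⟨t, ht⟩ := hj
    rw [hq j, ht, hn, pow_succ]
    exact ⟨t, by ring⟩

open PowerSeries in
theorem dvd_coeff_of_mul_eq_C {R : Type*} [CommRing R] [IsDomain R] [IsDiscreteValuationRing R]
    (f g : PowerSeries R) (a : R) (ha : a ≠ 0) (hgf : g * f = C a) (i : ℕ) :
    coeff 0 f ∣ coeff i f := by
  obtain ⟨ϖ, hϖ⟩ := IsDiscreteValuationRing.exists_irreducible R
  have hf0 : f ≠ 0 := by
    rintro rfl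
    apply ha
    have := congrArg (coeff 0) hgf
    simpa using this.symm
  have hg0 : g ≠ 0 := by
    rintro rfl
    apply ha
    have := congrArg (coeff 0) hgf
    simpa using this.symm
  obtain ⟨e, f', hf', hπf⟩ := content_split hϖ f hf0
  obtain ⟨e', g', hg', hπg⟩ := content_split hϖ g hg0
  have key : C (ϖ ^ (e' + e)) * (g' * f') = C a := by
    rw [← hgf, hf', hg', pow_add, map_mul]; ring
  have hgf' : g' * f' = C (constantCoeff (g' * f')) := by
    ext j
    rw [coeff_C]
    split_ifs with hj
    · rw [hj, coeff_zero_eq_constantCoeff_apply]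
    · have h1 := congrArg (coeff j) key
      rw [coeff_C_mul, coeff_C, if_neg hj] at h1
      exact (mul_eq_zero.mp h1).resolve_left (pow_ne_zero _ hϖ.ne_zero)
  have hunit : IsUnit (constantCoeff f') := by
    by_contra hnu
    have hres : IsLocalRing.residue R (constantCoeff (g' * f')) = 0 := by
      rw [IsLocalRing.residue_eq_zero_iff, map_mul]
      exact Ideal.mul_mem_left _ _ ((IsLocalRing.mem_maximalIdeal _).mpr hnu)
    have hprod : PowerSeries.map (IsLocalRing.residue R) g' *
        PowerSeries.map (IsLocalRing.residue R) f' = 0 := by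
      rw [← map_mul, hgf', PowerSeries.map_C, hres, map_zero]
    rcases mul_eq_zero.mp hprod with h | h
    · exact hπg h
    · exact hπf h
  have h0 : coeff 0 f = ϖ ^ e * constantCoeff f' := by
    rw [hf', coeff_C_mul, coeff_zero_eq_constantCoeff_apply]
  have hi : coeff i f = ϖ ^ e * coeff i f' := by
    conv_lhs => rw [hf', coeff_C_mul]
  rw [h0, hi]
  exact mul_dvd_mul_left _ hunit.dvd


open Polynomial IsLocalRing in
/-- Let R be a complete discrete valuation ring with fraction field K, and f a polynomial over R with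
non-zero constant term a₀ such that a₀ does not divide some coefficient of f of positive degree
(equivalently, the Newton polygon of f has a side of negative slope). Let b be the power series over
K with b · f = a₀, the expansion of the geometric series in 1 − f/a₀. Then the valuations of the
coefficients b_j are not bounded below: for every non-zero c in R there is an index j with c · b_j
outside R. -/
theorem result
    (R : Type u) [CommRing R] [IsDomain R] [IsDiscreteValuationRing R]
    [IsAdicComplete (maximalIdeal R) R]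
    (K : Type u) [Field K] [Algebra R K] [IsFractionRing R K]
    (f : R[X]) (h0 : f.coeff 0 ≠ 0) (hslope : ∃ i : ℕ, 0 < i ∧ ¬ (f.coeff 0 ∣ f.coeff i))
    (b : PowerSeries K)
    (hb : b * ((f.map (algebraMap R K) : K[X]) : PowerSeries K) = PowerSeries.C (algebraMap R K (f.coeff 0))) :
    ∀ c : R, c ≠ 0 → ∃ j : ℕ, algebraMap R K c * PowerSeries.coeff j b ∉ (algebraMap R K).range := by
  intro c hc
  by_contra hcon
  push Not at hcon
  have hcon' : ∀ j, ∃ x, algebraMap R K x = algebraMap R K c * PowerSeries.coeff j b :=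
    fun j => RingHom.mem_range.mp (hcon j)
  choose g_ hg using hcon'
  have hinj : Function.Injective (algebraMap R K) := IsFractionRing.injective R K
  have e1 : PowerSeries.map (algebraMap R K) (PowerSeries.mk g_) =
      PowerSeries.C (algebraMap R K c) * b := by
    ext n
    rw [PowerSeries.coeff_map, PowerSeries.coeff_mk, PowerSeries.coeff_C_mul, hg n]
  have e2 : PowerSeries.map (algebraMap R K) (f : PowerSeries R) =
      ((f.map (algebraMap R K) : K[X]) : PowerSeries K) := by
    ext n; simp
  have e3 : PowerSeries.map (algebraMap R K) (PowerSeries.mk g_ * (f : PowerSeries R)) =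
      PowerSeries.map (algebraMap R K) (PowerSeries.C (c * f.coeff 0)) := by
    rw [map_mul, e1, e2, mul_assoc, hb, PowerSeries.map_C]
    simp
  have hGf : PowerSeries.mk g_ * (f : PowerSeries R) = PowerSeries.C (c * f.coeff 0) := by
    ext j
    apply hinj
    have := congrArg (PowerSeries.coeff j) e3
    simpa only [PowerSeries.coeff_map] using this
  obtain ⟨i, hi0, hi⟩ := hslope
  apply hi
  have := dvd_coeff_of_mul_eq_C (f : PowerSeries R) (PowerSeries.mk g_) (c * f.coeff 0)
    (mul_ne_zero hc h0) hGf i
  simpa [Polynomial.coeff_coe] using this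

end Groth.Agent.S17721
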