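import Groth.Statements.S17722
import Mathlib
-- import your own Groth.Agent.* helpers here

set_option autoImplicit false
universe u
open CAlg

namespace Groth.Agent.S17722



/-- Let R → R' be a faithfully flat ring map between Noetherian integrally closed local domains, and p
an ideal of R. If the ideal pR' generated by the image of p is principal, then p is principal. (The
second assertion of the published lemma, descent of unique factorization, is not part of this row.) -/
theorem result
    (R R' : Type u) [CommRing R] [CommRing R'] [IsDomain R] [IsDomain R']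
    [IsNoetherianRing R] [IsNoetherianRing R'] [IsLocalRing R] [IsLocalRing R']
    [IsIntegrallyClosed R] [IsIntegrallyClosed R']
    [Algebra R R'] [Module.FaithfullyFlat R R']
    (p : Ideal R) (hp : (p.map (algebraMap R R')).IsPrincipal) :
    p.IsPrincipal := by
  classical
  have hcm : ∀ I : Ideal R, (I.map (algebraMap R R')).comap (algebraMap R R') = I :=
    fun I => Ideal.comap_map_eq_self_of_faithfullyFlat I
  obtain ⟨c, hc⟩ := hp
  change p.map (algebraMap R R') = Ideal.span {c} at hc
  obtain ⟨s, hs⟩ : p.FG := IsNoetherian.noetherian p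
  have hmem : ∀ a ∈ s, ∃ u : R', u * c = algebraMap R R' a := by
    intro a ha
    have h0 : a ∈ p := by
      rw [← hs]
      exact Submodule.subset_span ha
    have h1 : algebraMap R R' a ∈ p.map (algebraMap R R') := Ideal.mem_map_of_mem _ h0
    rw [hc] at h1
    exact Ideal.mem_span_singleton'.1 h1
  choose! u hu using hmem
  by_cases hex : ∃ a ∈ s, IsUnit (u a)
  · obtain ⟨a, ha, hua⟩ := hex
    have h2 : (Ideal.span {a}).map (algebraMap R R') = p.map (algebraMap R R') := by
      rw [Ideal.map_span, Set.image_singleton, hc, ← hu a ha,
        Ideal.span_singleton_mul_left_unit hua]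
    have h3 : Ideal.span {a} = p := by rw [← hcm (Ideal.span {a}), h2, hcm]
    rw [← h3]
    exact ⟨⟨a, rfl⟩⟩
  · push Not at hex
    have hle : p.map (algebraMap R R') ≤ IsLocalRing.maximalIdeal R' * Ideal.span {c} := by
      rw [← hs]
      change (Ideal.span (s : Set R)).map (algebraMap R R') ≤ _
      rw [Ideal.map_span, Ideal.span_le]
      rintro _ ⟨a, ha, rfl⟩
      rw [← hu a ha]
      exact Ideal.mul_mem_mul ((IsLocalRing.mem_maximalIdeal _).2 (hex a ha))
        (Ideal.mem_span_singleton_self c)
    have hc' : c ∈ IsLocalRing.maximalIdeal R' * Ideal.span {c} := by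
      apply hle
      rw [hc]
      exact Ideal.mem_span_singleton_self c
    obtain ⟨z, hz, hzc⟩ := Ideal.mem_mul_span_singleton.1 hc'
    have hunit : IsUnit (1 - z) :=
      IsLocalRing.isUnit_one_sub_self_of_mem_nonunits z ((IsLocalRing.mem_maximalIdeal z).1 hz)
    have hc0 : c = 0 := by
      have h5 : (1 - z) * c = 0 := by rw [sub_mul, one_mul, hzc, sub_self]
      exact (hunit.mul_right_eq_zero).1 h5
    have h1 : p.map (algebraMap R R') = ⊥ := by
      rw [hc, hc0]
      exact Ideal.span_singleton_eq_bot.2 rfl
    have h4 := hcm (⊥ : Ideal R)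
    rw [Ideal.map_bot] at h4
    have h2 : p = ⊥ := by
      have h6 := hcm p
      rw [h1, h4] at h6
      exact h6.symm
    rw [h2]
    exact inferInstance

end Groth.Agent.S17722
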