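import Groth.Statements.S17723
import Mathlib
-- import your own Groth.Agent.* helpers here

set_option autoImplicit false
universe u
open LabGraph

namespace Groth.Agent.S17723
/-- the set of elementary-Cartier functions -/
def elemSet {V E : Type u} (ends : E → V × V) (l : E → ℕ) : Set (V → ℤ) :=
  {g : V → ℤ | ∃ n : ℕ, 0 < n ∧ (∀ v, (n : ℤ) ∣ g v) ∧
      ∀ e, ¬ (l e ∣ n) → g (ends e).1 = g (ends e).2}

theorem key {V E : Type u} [Fintype V] [Fintype E] [DecidableEq V] [DecidableEq E]
    (ends : E → V × V) : ∀ (m : ℕ) (l : E → ℕ), (∀ e, 0 < l e) → ∏ e, l e = m → ∀ f : V → ℤ,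
      LabGraph.IsCartier ends l f → f ∈ Submodule.span ℤ (elemSet ends l) := by
  classical
  intro m
  induction m using Nat.strong_induction_on with
  | _ m ih =>
  intro l hl hm f hf
  by_cases hall : ∀ e, l e = 1
  · refine Submodule.subset_span ⟨1, one_pos, fun v => by simp, fun e he => ?_⟩
    exact absurd (by simp [hall e]) he
  · push Not at hall
    obtain ⟨e₀, he₀⟩ := hall
    obtain ⟨p, hpp, hpe₀⟩ : ∃ p : ℕ, p.Prime ∧ p ∣ l e₀ :=
      ⟨Nat.minFac (l e₀), Nat.minFac_prime he₀, Nat.minFac_dvd _⟩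
    have hp0 : (p : ℤ) ≠ 0 := by exact_mod_cast hpp.ne_zero
    -- components
    let R : V → V → Prop := fun u v => ∃ e, p ∣ l e ∧ (ends e).1 = u ∧ (ends e).2 = v
    obtain ⟨rep, hrep, hrepR⟩ : ∃ rep : V → V, (∀ v, Relation.EqvGen R (rep v) v) ∧
        ∀ u v, R u v → rep u = rep v := by
      refine ⟨fun v => (Quotient.mk (Relation.EqvGen.setoid R) v).out, fun v => ?_, fun u v h => ?_⟩
      · exact Quotient.mk_out (s := Relation.EqvGen.setoid R) v
      · exact congrArg Quotient.out
          (Quotient.sound (s := Relation.EqvGen.setoid R) (Relation.EqvGen.rel _ _ h))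
    have hfR : ∀ u v, Relation.EqvGen R u v → (p : ℤ) ∣ f u - f v := by
      intro u v h
      induction h with
      | rel u v h =>
        obtain ⟨e, hpe, rfl, rfl⟩ := h
        exact dvd_trans (Int.natCast_dvd_natCast.2 hpe) (hf e)
      | refl u => simp
      | symm u v _ ih' =>
        rw [← neg_sub]
        exact (dvd_neg).2 ih'
      | trans u v w _ _ ih1 ih2 =>
        have h3 := dvd_add ih1 ih2
        rwa [sub_add_sub_cancel] at h3
    -- the prime-to-p part
    obtain ⟨N, hNpos, hNcop, hNdvd⟩ : ∃ N : ℕ, 0 < N ∧ Nat.Coprime N p ∧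
        ∀ e, ¬ p ∣ l e → l e ∣ N := by
      refine ⟨∏ e ∈ Finset.univ.filter (fun e => ¬ p ∣ l e), l e,
        Finset.prod_pos (fun e _ => hl e), ?_, fun e he => ?_⟩
      · refine Nat.Coprime.prod_left (fun e he => ?_)
        exact ((Nat.Prime.coprime_iff_not_dvd hpp).2 (Finset.mem_filter.1 he).2).symm
      · exact Finset.dvd_prod_of_mem _ (Finset.mem_filter.2 ⟨Finset.mem_univ _, he⟩)
    obtain ⟨a, b, hab⟩ : ∃ a b : ℤ, a * N + b * p = 1 := Nat.isCoprime_iff_coprime.2 hNcop
    obtain ⟨g₀, hg₀def⟩ : ∃ g₀ : V → ℤ, ∀ v, g₀ v = (N : ℤ) * (a * f (rep v)) := ⟨_, fun _ => rfl⟩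
    have hg₀S : g₀ ∈ elemSet ends l := by
      refine ⟨N, hNpos, fun v => ?_, fun e he => ?_⟩
      · rw [hg₀def]; exact dvd_mul_right _ _
      · have hpl : p ∣ l e := by
          by_contra hcon
          exact he (hNdvd e hcon)
        rw [hg₀def, hg₀def, hrepR _ _ ⟨e, hpl, rfl, rfl⟩]
    have hfg₀ : ∀ v, (p : ℤ) ∣ f v - g₀ v := by
      intro v
      have h1 := hfR _ _ (hrep v)
      have h2 : f v - g₀ v = -(f (rep v) - f v) + (p : ℤ) * (b * f (rep v)) := by
        rw [hg₀def]
        linear_combination (-(f (rep v))) * hab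
      rw [h2]
      exact dvd_add ((dvd_neg).2 h1) (dvd_mul_right _ _)
    obtain ⟨f₁, hf₁⟩ : ∃ f₁ : V → ℤ, ∀ v, (p : ℤ) * f₁ v = f v - g₀ v :=
      ⟨fun v => (f v - g₀ v) / p, fun v => Int.mul_ediv_cancel' (hfg₀ v)⟩
    obtain ⟨l', hl'def⟩ : ∃ l' : E → ℕ, ∀ e, l' e = if p ∣ l e then l e / p else l e :=
      ⟨_, fun _ => rfl⟩
    have hl' : ∀ e, 0 < l' e := by
      intro e
      rw [hl'def]
      split_ifs with h
      · exact Nat.div_pos (Nat.le_of_dvd (hl e) h) hpp.pos
      · exact hl e
    have hle : ∀ e, l' e ≤ l e := by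
      intro e
      rw [hl'def]
      split_ifs with h
      · exact Nat.div_le_self _ _
      · exact le_rfl
    have hlt₀ : l' e₀ < l e₀ := by
      rw [hl'def, if_pos hpe₀]
      exact Nat.div_lt_self (hl e₀) hpp.one_lt
    have hlt : ∏ e, l' e < ∏ e, l e :=
      Finset.prod_lt_prod (fun e _ => hl' e) (fun e _ => hle e) ⟨e₀, Finset.mem_univ _, hlt₀⟩
    have hf₁C : LabGraph.IsCartier ends l' f₁ := by
      unfold LabGraph.IsCartier
      intro e
      have hid : (p : ℤ) * (f₁ (ends e).1 - f₁ (ends e).2) =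
          (f (ends e).1 - f (ends e).2) - (g₀ (ends e).1 - g₀ (ends e).2) := by
        rw [mul_sub, hf₁, hf₁]; ring
      have h1 := hf e
      by_cases hpl : p ∣ l e
      · have hgeq : g₀ (ends e).1 = g₀ (ends e).2 := by
          rw [hg₀def, hg₀def, hrepR _ _ ⟨e, hpl, rfl, rfl⟩]
        rw [hl'def, if_pos hpl]
        obtain ⟨c, hc⟩ := hpl
        rw [hc, Nat.mul_div_cancel_left _ hpp.pos]
        rw [hc] at h1
        push_cast at h1
        have h2 : (p : ℤ) * c ∣ (p : ℤ) * (f₁ (ends e).1 - f₁ (ends e).2) := by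
          rw [hid, hgeq, sub_self, sub_zero]; exact h1
        exact (mul_dvd_mul_iff_left hp0).1 h2
      · rw [hl'def, if_neg hpl]
        have h2 : (l e : ℤ) ∣ g₀ (ends e).1 - g₀ (ends e).2 := by
          rw [hg₀def, hg₀def, ← mul_sub]
          exact dvd_mul_of_dvd_left (Int.natCast_dvd_natCast.2 (hNdvd e hpl)) _
        have h3 : (l e : ℤ) ∣ (p : ℤ) * (f₁ (ends e).1 - f₁ (ends e).2) := by
          rw [hid]; exact dvd_sub h1 h2
        have hcop : IsCoprime (l e : ℤ) (p : ℤ) :=
          Nat.isCoprime_iff_coprime.2 ((Nat.Prime.coprime_iff_not_dvd hpp).2 hpl).symm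
        exact hcop.dvd_of_dvd_mul_left h3
    have hIH := ih (∏ e, l' e) (by rw [← hm]; exact hlt) l' hl' rfl f₁ hf₁C
    have hmap : ∀ g ∈ elemSet ends l', (p : ℤ) • g ∈ elemSet ends l := by
      rintro g ⟨n', hn', hdiv, hedge⟩
      refine ⟨p * n', Nat.mul_pos hpp.pos hn', fun v => ?_, fun e he => ?_⟩
      · simp only [Pi.smul_apply, smul_eq_mul]
        push_cast
        exact mul_dvd_mul_left _ (hdiv v)
      · simp only [Pi.smul_apply, smul_eq_mul]
        congr 1
        apply hedge e
        intro hdvd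
        apply he
        rw [hl'def] at hdvd
        split_ifs at hdvd with hpl
        · obtain ⟨c, hc⟩ := hpl
          rw [hc, Nat.mul_div_cancel_left _ hpp.pos] at hdvd
          rw [hc]
          exact Nat.mul_dvd_mul_left _ hdvd
        · exact dvd_mul_of_dvd_right hdvd _
    have hcomap : Submodule.span ℤ (elemSet ends l') ≤
        Submodule.comap ((p : ℤ) • (LinearMap.id : (V → ℤ) →ₗ[ℤ] (V → ℤ)))
          (Submodule.span ℤ (elemSet ends l)) :=
      Submodule.span_le.2 (fun g hg => by
        rw [SetLike.mem_coe, Submodule.mem_comap, LinearMap.smul_apply, LinearMap.id_apply]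
        exact Submodule.subset_span (hmap g hg))
    have hpf₁ : (p : ℤ) • f₁ ∈ Submodule.span ℤ (elemSet ends l) := by
      have h5 := hcomap hIH
      rw [Submodule.mem_comap, LinearMap.smul_apply, LinearMap.id_apply] at h5
      exact h5
    have hf_eq : f = g₀ + (p : ℤ) • f₁ := by
      funext v
      simp only [Pi.add_apply, Pi.smul_apply, smul_eq_mul, hf₁]
      ring
    rw [hf_eq]
    exact Submodule.add_mem _ (Submodule.subset_span hg₀S) hpf₁


/-- Let G be a finite connected multigraph with endpoint map ends and edge labels l taking positive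
integer values. We say g : V → ℤ is elementary-Cartier if, for some integer n ≥ 1, all values of g
are multiples of n and, for each edge whose label fails to divide n, g agrees at its two endpoints
(equivalently, once the edges with label dividing n are removed, g takes a single value on each
connected piece of what remains). Then every Cartier function f (for each edge, the label divides
the difference of the values of f at its endpoints) lies in the ℤ-span of the elementary-Cartier
functions. -/
theorem result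
    {V E : Type u} [Fintype V] [Fintype E] [DecidableEq V] [DecidableEq E]
    (ends : E → V × V) (l : E → ℕ) (hl : ∀ e, 0 < l e) (hconn : LabGraph.Connected ends)
    (f : V → ℤ) (hf : LabGraph.IsCartier ends l f) :
    f ∈ Submodule.span ℤ {g : V → ℤ | ∃ n : ℕ, 0 < n ∧ (∀ v, (n : ℤ) ∣ g v) ∧
      ∀ e, ¬ (l e ∣ n) → g (ends e).1 = g (ends e).2} := by
  exact key ends _ l hl rfl f hf

end Groth.Agent.S17723
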