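import Groth.Statements.S17725
import Mathlib
-- import your own Groth.Agent.* helpers here

set_option autoImplicit false
universe u
open SpecSp

namespace Groth.Agent.S17725

open AlgebraicGeometry in
/-- In a connected Noetherian scheme any two points p, q are linked by a finite chain of points p = x₁,
…, xₙ = q such that for each i one of x_i, x_{i+1} is a specialization of the other; equivalently, p
and q are related by the equivalence relation generated by the specialization relation. -/
theorem result
    (X : Scheme.{u}) [IsNoetherian X] [ConnectedSpace X] (p q : X) :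
    Relation.EqvGen (fun x y : X => x ⤳ y) p q := by
  classical
  have hr : Equivalence (Relation.EqvGen (fun x y : X => x ⤳ y)) := Relation.EqvGen.is_equivalence _
  have key : ∀ Z ∈ irreducibleComponents X, ∀ y ∈ Z, ∀ z ∈ Z,
      Relation.EqvGen (fun x y : X => x ⤳ y) y z := by
    intro Z hZ y hy z hz
    have hirr : IsIrreducible Z := hZ.1
    have hcl : IsClosed Z := isClosed_of_mem_irreducibleComponents Z hZ
    obtain ⟨η, hη⟩ := QuasiSober.sober hirr hcl
    have h1 : η ⤳ y := hη.specializes hy
    have h2 : η ⤳ z := hη.specializes hz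
    exact hr.trans (hr.symm (Relation.EqvGen.rel _ _ h1)) (Relation.EqvGen.rel _ _ h2)
  set C : Set X := {y | Relation.EqvGen (fun x y : X => x ⤳ y) p y} with hCdef
  have hfin : (irreducibleComponents X).Finite :=
    TopologicalSpace.NoetherianSpace.finite_irreducibleComponents
  have hC : C = ⋃₀ {Z ∈ irreducibleComponents X | (Z ∩ C).Nonempty} := by
    ext y; constructor
    · intro hy
      exact ⟨irreducibleComponent y, ⟨irreducibleComponent_mem_irreducibleComponents y,
        ⟨y, mem_irreducibleComponent, hy⟩⟩, mem_irreducibleComponent⟩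
    · rintro ⟨Z, ⟨hZ, ⟨w, hwZ, hwC⟩⟩, hyZ⟩
      exact hr.trans hwC (key Z hZ w hwZ y hyZ)
  have hCc : Cᶜ = ⋃₀ {Z ∈ irreducibleComponents X | (Z ∩ Cᶜ).Nonempty} := by
    ext y; constructor
    · intro hy
      exact ⟨irreducibleComponent y, ⟨irreducibleComponent_mem_irreducibleComponents y,
        ⟨y, mem_irreducibleComponent, hy⟩⟩, mem_irreducibleComponent⟩
    · rintro ⟨Z, ⟨hZ, ⟨w, hwZ, hwC⟩⟩, hyZ⟩
      intro hyC
      exact hwC (hr.trans hyC (key Z hZ y hyZ w hwZ))
  have hclosed : IsClosed C := by
    rw [hC, Set.sUnion_eq_biUnion]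
    exact Set.Finite.isClosed_biUnion (hfin.subset (Set.sep_subset _ _))
      (fun Z hZ => isClosed_of_mem_irreducibleComponents Z hZ.1)
  have hclosedc : IsClosed Cᶜ := by
    rw [hCc, Set.sUnion_eq_biUnion]
    exact Set.Finite.isClosed_biUnion (hfin.subset (Set.sep_subset _ _))
      (fun Z hZ => isClosed_of_mem_irreducibleComponents Z hZ.1)
  have hclopen : IsClopen C := ⟨hclosed, by simpa using hclosedc.isOpen_compl⟩
  rcases isClopen_iff.mp hclopen with h | h
  · have : p ∈ C := hr.refl p
    rw [h] at this
    exact absurd this (Set.notMem_empty _)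
  · have : q ∈ C := by rw [h]; exact Set.mem_univ _
    exact this

end Groth.Agent.S17725
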