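import Groth.Statements.S17726
import Mathlib

set_option autoImplicit false
universe u
open CAlg

namespace Groth.Agent.S17726

theorem helper8_isUnit_of_pow_dvd {A : Type u} [CommRing A] (g : A) (hg : g ∈ nonZeroDivisors A)
    (a b : ℕ) (hab : b < a) (h : g ^ a ∣ g ^ b) : IsUnit g := by
  obtain ⟨c, hc⟩ := h
  obtain ⟨d, rfl⟩ : ∃ d, a = b + (d + 1) := ⟨a - b - 1, by omega⟩
  have hgb : g ^ b ∈ nonZeroDivisors A := pow_mem hg b
  have h1 : g ^ b * (g ^ (d + 1) * c - 1) = 0 := by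
    rw [mul_sub, mul_one, ← mul_assoc, ← pow_add, ← hc, sub_self]
  have h2 : g ^ (d + 1) * c - 1 = 0 := by
    rw [mul_comm] at h1
    exact (mem_nonZeroDivisors_iff_right.1 hgb) _ h1
  have h3 : g * (g ^ d * c) = 1 := by
    rw [← mul_assoc, ← pow_succ']; exact sub_eq_zero.1 h2
  exact IsUnit.of_mul_eq_one _ h3

theorem helper8_isUnit_of_pow_dvd_ne {A : Type u} [CommRing A] (g : A) (hg : g ∈ nonZeroDivisors A)
    (a b : ℕ) (hab : a ≠ b) (h1 : g ^ a ∣ g ^ b) (h2 : g ^ b ∣ g ^ a) : IsUnit g := by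
  rcases lt_or_gt_of_ne hab with h | h
  · exact helper8_isUnit_of_pow_dvd g hg b a h h2
  · exact helper8_isUnit_of_pow_dvd g hg a b h h1

/-- Let f and g be non-zero-divisors of a commutative ring A, not both units; think of them as local
equations, at a point of the union of the supports, of two effective Cartier divisors E and D. If
the ideals generated by g^{m₁} and f^{n₁} coincide, and likewise for g^{m₂} and f^{n₂}, then m₁ n₂ =
m₂ n₁. So all pairs (m, n) with m D = n E locally at the point are proportional, and the saturation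
of the monoid they form is generated by a single element. -/
theorem result
    (A : Type u) [CommRing A] (f g : A)
    (hf : f ∈ nonZeroDivisors A) (hg : g ∈ nonZeroDivisors A) (hfg : ¬ (IsUnit f ∧ IsUnit g))
    (m₁ n₁ m₂ n₂ : ℕ)
    (h₁ : Ideal.span {g ^ m₁} = Ideal.span {f ^ n₁})
    (h₂ : Ideal.span {g ^ m₂} = Ideal.span {f ^ n₂}) :
    m₁ * n₂ = m₂ * n₁ := by
  have a1 : f ^ n₁ ∣ g ^ m₁ := Ideal.span_singleton_le_span_singleton.1 h₁.le
  have a2 : g ^ m₁ ∣ f ^ n₁ := Ideal.span_singleton_le_span_singleton.1 h₁.ge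
  have b1 : f ^ n₂ ∣ g ^ m₂ := Ideal.span_singleton_le_span_singleton.1 h₂.le
  have b2 : g ^ m₂ ∣ f ^ n₂ := Ideal.span_singleton_le_span_singleton.1 h₂.ge
  by_contra hne
  apply hfg
  constructor
  · -- f is a unit
    have e1 : f ^ (n₁ * m₂) ∣ f ^ (n₂ * m₁) := by
      calc f ^ (n₁ * m₂) = (f ^ n₁) ^ m₂ := by rw [pow_mul]
        _ ∣ (g ^ m₁) ^ m₂ := pow_dvd_pow_of_dvd a1 _
        _ = (g ^ m₂) ^ m₁ := by rw [← pow_mul, ← pow_mul, mul_comm]
        _ ∣ (f ^ n₂) ^ m₁ := pow_dvd_pow_of_dvd b2 _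
        _ = f ^ (n₂ * m₁) := by rw [pow_mul]
    have e2 : f ^ (n₂ * m₁) ∣ f ^ (n₁ * m₂) := by
      calc f ^ (n₂ * m₁) = (f ^ n₂) ^ m₁ := by rw [pow_mul]
        _ ∣ (g ^ m₂) ^ m₁ := pow_dvd_pow_of_dvd b1 _
        _ = (g ^ m₁) ^ m₂ := by rw [← pow_mul, ← pow_mul, mul_comm]
        _ ∣ (f ^ n₁) ^ m₂ := pow_dvd_pow_of_dvd a2 _
        _ = f ^ (n₁ * m₂) := by rw [pow_mul]
    refine helper8_isUnit_of_pow_dvd_ne f hf _ _ ?_ e1 e2
    intro h; apply hne; rw [mul_comm m₁ n₂, ← h, mul_comm]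
  · have e1 : g ^ (m₁ * n₂) ∣ g ^ (m₂ * n₁) := by
      calc g ^ (m₁ * n₂) = (g ^ m₁) ^ n₂ := by rw [pow_mul]
        _ ∣ (f ^ n₁) ^ n₂ := pow_dvd_pow_of_dvd a2 _
        _ = (f ^ n₂) ^ n₁ := by rw [← pow_mul, ← pow_mul, mul_comm]
        _ ∣ (g ^ m₂) ^ n₁ := pow_dvd_pow_of_dvd b1 _
        _ = g ^ (m₂ * n₁) := by rw [pow_mul]
    have e2 : g ^ (m₂ * n₁) ∣ g ^ (m₁ * n₂) := by
      calc g ^ (m₂ * n₁) = (g ^ m₂) ^ n₁ := by rw [pow_mul]
        _ ∣ (f ^ n₂) ^ n₁ := pow_dvd_pow_of_dvd b2 _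
        _ = (f ^ n₁) ^ n₂ := by rw [← pow_mul, ← pow_mul, mul_comm]
        _ ∣ (g ^ m₁) ^ n₂ := pow_dvd_pow_of_dvd a1 _
        _ = g ^ (m₁ * n₂) := by rw [pow_mul]
    exact helper8_isUnit_of_pow_dvd_ne g hg _ _ hne e1 e2

end Groth.Agent.S17726
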