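import Groth.Statements.S17751
import Mathlib

set_option autoImplicit false
universe u
open LocCoh

namespace Groth.Agent.S17751

/-- Suppose R is a Noetherian ring, r is a natural number, and I is an ideal of R. Then there are
elements f_1, …, f_r of I such that for every prime ideal p of R of height less than r, p contains I
if and only if p contains f_1, …, f_r. (For r = 0 there is nothing to prove.) -/
theorem result (R : Type u) [CommRing R] [IsNoetherianRing R] (I : Ideal R) (r : ℕ) : ∃ f : Fin r → R, (∀ i, f i ∈ I) ∧ ∀ (p : Ideal R) [p.IsPrime], p.height < r → (I ≤ p ↔ Ideal.span (Set.range f) ≤ p) := by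
  have key : ∀ r : ℕ, ∃ f : Fin r → R, (∀ i, f i ∈ I) ∧ ∀ (p : Ideal R), p.IsPrime →
      Ideal.span (Set.range f) ≤ p → ¬ I ≤ p → (r : ℕ∞) ≤ p.height := by
    intro r
    induction r with
    | zero => exact ⟨Fin.elim0, fun i => Fin.elim0 i, fun p _ _ _ => by simp⟩
    | succ r ih =>
      obtain ⟨f, hfI, hf⟩ := ih
      have hS : Set.Finite {K : Ideal R | K ∈ (Ideal.span (Set.range f)).minimalPrimes ∧ ¬ I ≤ K} :=
        Set.Finite.subset ((Ideal.span (Set.range f)).finite_minimalPrimes_of_isNoetherianRing)
          (fun _ h => h.1)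
      have hnot : ¬ (I : Set R) ⊆ ⋃ K ∈ hS.toFinset, (K : Set R) := by
        refine (Ideal.subset_union_prime ⊥ ⊥ ?_).not.mpr ?_
        · rintro K hK - -
          rw [Set.Finite.mem_toFinset] at hK
          exact hK.1.1.1
        · push_neg
          intro K hK
          rw [Set.Finite.mem_toFinset] at hK
          exact hK.2
      simp_rw [Set.not_subset, Set.mem_iUnion, not_exists, Set.Finite.mem_toFinset] at hnot
      obtain ⟨g, hgI, hg⟩ := hnot
      refine ⟨(Fin.snoc f g : Fin (r + 1) → R), ?_, ?_⟩
      · intro i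
        refine Fin.lastCases ?_ (fun j => ?_) i
        · rw [Fin.snoc_last]; exact hgI
        · rw [Fin.snoc_castSucc]; exact hfI j
      · intro p hp hle hIp
        have hmem : ∀ i, (Fin.snoc f g : Fin (r + 1) → R) i ∈ p :=
          fun i => hle (Ideal.subset_span ⟨i, rfl⟩)
        have hfp : Ideal.span (Set.range f) ≤ p := by
          rw [Ideal.span_le]
          rintro _ ⟨j, rfl⟩
          have h3 := hmem (Fin.castSucc j)
          rwa [Fin.snoc_castSucc] at h3
        have hgp : g ∈ p := by
          have h3 := hmem (Fin.last r)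
          rwa [Fin.snoc_last] at h3
        obtain ⟨q, hq, hqp⟩ := Ideal.exists_minimalPrimes_le hfp
        have hqprime : q.IsPrime := hq.1.1
        have hIq : ¬ I ≤ q := fun h => hIp (h.trans hqp)
        have hgq : g ∉ q := hg q ⟨hq, hIq⟩
        have hlt : q < p := lt_of_le_of_ne hqp (fun h => hgq (h ▸ hgp))
        have h1 := hf q hqprime hq.1.2 hIq
        have h2 := Ideal.height_add_one_le_of_lt_of_isPrime hlt
        calc ((r + 1 : ℕ) : ℕ∞) = (r : ℕ∞) + 1 := Nat.cast_succ r
          _ ≤ q.height + 1 := by gcongr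
          _ ≤ p.height := h2
  obtain ⟨f, hfI, hf⟩ := key r
  refine ⟨f, hfI, fun p _ hp => ⟨fun h => ?_, fun h => ?_⟩⟩
  · refine le_trans ?_ h
    rw [Ideal.span_le]
    rintro _ ⟨i, rfl⟩
    exact hfI i
  · by_contra hIp
    exact absurd (hf p inferInstance h hIp) (not_le.mpr hp)

end Groth.Agent.S17751
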