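import Groth.Statements.S17753
import Mathlib
import Groth.Agent.S17751

set_option autoImplicit false
universe u
open LocCoh

namespace Groth.Agent.S17753

/-- Let R be a Noetherian local ring of Krull dimension d and I a proper ideal of R. Then there are d
elements f_1, …, f_d of I such that I and the ideal they generate have the same radical, so the
arithmetic rank of I is at most d. (The published statement has no properness hypothesis; for the
unit ideal of a field, d = 0 and no empty family generates the unit ideal up to radical, and the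
published proof uses that the maximal ideal contains I.) -/
theorem result (R : Type u) [CommRing R] [IsNoetherianRing R] [IsLocalRing R] (d : ℕ) (hd : ringKrullDim R = d) (I : Ideal R) (hI : I ≠ ⊤) : ∃ f : Fin d → R, (∀ i, f i ∈ I) ∧ I.radical = (Ideal.span (Set.range f)).radical := by
  obtain ⟨f, hfI, hf⟩ := Groth.Agent.S17751.result R I d
  refine ⟨f, hfI, ?_⟩
  have hspan : Ideal.span (Set.range f) ≤ I := by
    rw [Ideal.span_le]; rintro _ ⟨i, rfl⟩; exact hfI i
  have hIm : I ≤ IsLocalRing.maximalIdeal R := IsLocalRing.le_maximalIdeal hI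
  have hall : ∀ (p : Ideal R), p.IsPrime → (I ≤ p ↔ Ideal.span (Set.range f) ≤ p) := by
    intro p hp
    by_cases hlt : p.height < (d : ℕ∞)
    · exact @hf p hp hlt
    · have hpm : p ≤ IsLocalRing.maximalIdeal R := IsLocalRing.le_maximalIdeal hp.ne_top
      have heq : p = IsLocalRing.maximalIdeal R := by
        by_contra hne
        have hlt' : p < IsLocalRing.maximalIdeal R := lt_of_le_of_ne hpm hne
        have h1 := Ideal.height_add_one_le_of_lt_of_isPrime hlt'
        have h2 : ((IsLocalRing.maximalIdeal R).height : WithBot ℕ∞) ≤ ringKrullDim R :=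
          Ideal.height_le_ringKrullDim_of_ne_top (Ideal.IsPrime.ne_top inferInstance)
        rw [hd] at h2
        have h3 : (IsLocalRing.maximalIdeal R).height ≤ (d : ℕ∞) := by exact_mod_cast h2
        have h4 : (d : ℕ∞) ≤ p.height := not_lt.mp hlt
        have h5 : (d : ℕ∞) + 1 ≤ (d : ℕ∞) := le_trans (by gcongr) (h1.trans h3)
        exact absurd h5 (by exact_mod_cast Nat.not_succ_le_self d)
      rw [heq]
      exact ⟨fun _ => hspan.trans hIm, fun _ => hIm⟩
  rw [Ideal.radical_eq_sInf, Ideal.radical_eq_sInf]
  congr 1
  ext p
  constructor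
  · rintro ⟨hle, hp⟩
    exact ⟨(hall p hp).mp hle, hp⟩
  · rintro ⟨hle, hp⟩
    exact ⟨(hall p hp).mpr hle, hp⟩

end Groth.Agent.S17753
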