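import Groth.Statements.S17779
import Mathlib
-- import your own Groth.Agent.* helpers here

set_option autoImplicit false
open DRR

namespace Groth.Agent.S17779


open Finset Nat Function fwdDiff in
theorem aux (n : ℕ) : ((fwdDiff (1:ℤ))^[n] (fun (r : ℤ) ↦ r ^ (n+1))) 0 = (n ! : ℤ) * ((n+1).choose 2 : ℤ) := by
  induction n with
  | zero => simp
  | succ n IH =>
    have h1 : (fwdDiff (1:ℤ) fun (r : ℤ) ↦ r ^ (n + 2)) = ∑ i ∈ range (n + 2), (n + 2).choose i • fun r ↦ r ^ i := by
      ext x
      simp [nsmul_eq_mul, fwdDiff, add_pow, sum_range_succ, mul_comm]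
    rw [iterate_succ_apply, h1, fwdDiff_iter_finsetSum]
    simp_rw [fwdDiff_iter_const_smul]
    rw [sum_range_succ, sum_range_succ, sum_eq_zero (fun i hi => ?_)]
    · simp only [zero_add, Pi.add_apply, Pi.smul_apply, fwdDiff_iter_eq_factorial]
      rw [IH]
      simp only [Pi.natCast_apply, nsmul_eq_mul]
      have hA : ((n + 2).choose 2 : ℤ) * 2 = ((n : ℤ) + 2) * (n + 1) := by
        have := Nat.add_one_mul_choose_eq (n + 1) 1
        rw [Nat.choose_one_right] at this
        have h := congrArg (Nat.cast : ℕ → ℤ) this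
        push_cast at h
        linarith
      have hB : ((n + 1).choose 2 : ℤ) * 2 = ((n : ℤ) + 1) * n := by
        have := Nat.add_one_mul_choose_eq n 1
        rw [Nat.choose_one_right] at this
        have h := congrArg (Nat.cast : ℕ → ℤ) this
        push_cast at h
        linarith
      have hC : (n + 2).choose n = (n + 2).choose 2 := by
        rw [← Nat.choose_symm_add]
      have hD : (n + 2).choose (n + 1) = n + 2 := by
        rw [show n + 2 = (n + 1) + 1 from rfl, Nat.choose_succ_self_right]
      rw [hC, hD, Nat.factorial_succ]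
      push_cast
      apply mul_right_cancel₀ (two_ne_zero : (2 : ℤ) ≠ 0)
      linear_combination ((n ! : ℤ) * ((n : ℤ) + 2)) * hB - ((n ! : ℤ) * n) * hA
    · rw [fwdDiff_iter_pow_eq_zero_of_lt (mem_range.mp hi), smul_zero]


/-- For natural numbers n and k with k ≤ n + 1, the alternating sum over j = 0, …, n of (−1)^(n−j) C(n,
j) j^k (with the convention 0^0 = 1) equals n! · n(n+1)/2 when k = n + 1, equals n! when k = n, and
vanishes when k < n. (The published statement takes n ≥ 1 and divides through by n!; the case n = 0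
holds as well and is included.) -/
theorem result (n k : ℕ) (hk : k ≤ n + 1) :
    (∑ j ∈ Finset.range (n + 1), (-1 : ℤ) ^ (n - j) * (n.choose j : ℤ) * (j : ℤ) ^ k) =
      (if k = n + 1 then (((n + 1).choose 2 * n.factorial : ℕ) : ℤ)
        else if k = n then (n.factorial : ℤ) else 0) := by
  have key : ∀ k : ℕ, (∑ j ∈ Finset.range (n + 1), (-1 : ℤ) ^ (n - j) * (n.choose j : ℤ) * (j : ℤ) ^ k) =
      ((fwdDiff (1:ℤ))^[n] (fun (r : ℤ) ↦ r ^ k)) 0 := by
    intro k
    rw [fwdDiff_iter_eq_sum_shift]
    apply Finset.sum_congr rfl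
    intro j _
    simp
  rw [key]
  split_ifs with h1 h2
  · subst h1
    rw [aux]
    push_cast
    ring
  · subst h2
    rw [fwdDiff_iter_eq_factorial]
    simp
  · have hlt : k < n := by omega
    rw [fwdDiff_iter_pow_eq_zero_of_lt hlt]
    simp

end Groth.Agent.S17779
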