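import Groth.Statements.S17780
import Mathlib
import Groth.Agent.S17779
-- import your own Groth.Agent.* helpers here

set_option autoImplicit false
universe u
open DRR

namespace Groth.Agent.S17780

/-- For x, y in a commutative ring and a natural number n, (n+1)! · x · y^n equals the sum over j = 0,
…, n of (−1)^(n−j) C(n, j) (x + j y)^(n+1), minus (n · (n+1)!/2) · y^(n+1). (The published identity
is stated in ℚ[x, y] with an overall factor 1/(n+1) and the coefficients C(n, j)(−1)^(n−j)/n!; it is
given here multiplied through by (n+1)!, which makes it an identity with integer coefficients valid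
in every commutative ring; n · (n+1)!/2 is an integer.) -/
theorem result (A : Type u) [CommRing A] (x y : A) (n : ℕ) :
    ((n + 1).factorial : A) * x * y ^ n =
      (∑ j ∈ Finset.range (n + 1), (-1 : A) ^ (n - j) * (n.choose j : A) * (x + (j : A) * y) ^ (n + 1))
        - ((n * (n + 1).factorial / 2 : ℕ) : A) * y ^ (n + 1) := by
  classical
  -- the integer identity transported to A
  have S : ∀ k ≤ n + 1,
      (∑ j ∈ Finset.range (n + 1), (-1 : A) ^ (n - j) * (n.choose j : A) * (j : A) ^ k) =
        (((if k = n + 1 then (((n + 1).choose 2 * n.factorial : ℕ) : ℤ)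
          else if k = n then (n.factorial : ℤ) else 0 : ℤ)) : A) := by
    intro k hk
    rw [← Groth.Agent.S17779.result n k hk]
    push_cast
    rfl
  have hsum : (∑ j ∈ Finset.range (n + 1),
      (-1 : A) ^ (n - j) * (n.choose j : A) * (x + (j : A) * y) ^ (n + 1)) =
      ∑ m ∈ Finset.range (n + 2), x ^ m * y ^ (n + 1 - m) * ((n + 1).choose m : A) *
        (∑ j ∈ Finset.range (n + 1), (-1 : A) ^ (n - j) * (n.choose j : A) * (j : A) ^ (n + 1 - m)) := by
    simp_rw [add_pow, Finset.mul_sum]
    rw [Finset.sum_comm]
    apply Finset.sum_congr rfl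
    intro m _
    apply Finset.sum_congr rfl
    intro j _
    rw [mul_pow]
    ring
  rw [hsum]
  rw [Finset.sum_range_succ', Finset.sum_range_succ']
  have hzero : ∑ m ∈ Finset.range n, x ^ (m + 1 + 1) * y ^ (n + 1 - (m + 1 + 1)) *
      ((n + 1).choose (m + 1 + 1) : A) *
      (∑ j ∈ Finset.range (n + 1), (-1 : A) ^ (n - j) * (n.choose j : A) *
        (j : A) ^ (n + 1 - (m + 1 + 1))) = 0 := by
    apply Finset.sum_eq_zero
    intro m hm
    have hm' := Finset.mem_range.mp hm
    rw [S _ (by omega), if_neg (by omega), if_neg (by omega)]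
    simp
  rw [hzero, zero_add, S _ (by omega), S _ (by omega)]
  have hne : ¬ (n = n + 1) := by omega
  simp only [Nat.sub_zero, zero_add, Nat.add_sub_cancel, if_true, pow_zero, pow_one, one_mul,
    Nat.choose_zero_right, Nat.cast_one, mul_one, if_neg hne]
  have hnat : n * (n + 1).factorial / 2 = (n + 1).choose 2 * n.factorial := by
    apply Nat.div_eq_of_eq_mul_left (by norm_num)
    have := Nat.add_one_mul_choose_eq n 1
    rw [Nat.choose_one_right] at this
    rw [Nat.factorial_succ]
    nlinarith
  rw [hnat]
  have hch : ((n + 1).choose 1 : A) = (n : A) + 1 := by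
    rw [Nat.choose_one_right]; push_cast; ring
  rw [hch, Nat.factorial_succ]
  push_cast
  ring

end Groth.Agent.S17780
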