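import Groth.Statements.S17825
import Mathlib

set_option autoImplicit false
universe u
open CategoryTheory CategoryTheory.Limits AlgebraicGeometry
open JacVar

namespace Groth.Agent.S17825

/-- Let S be a scheme, Y an S-scheme separated over S, F a presheaf of sets on the category of
S-schemes, f : h_Y ⟶ F a morphism from the functor of points of Y, and s : F ⟶ h_Y a section of f (s
followed by f is the identity). Then F is represented by a closed subscheme of Y: there are an
S-scheme Z, a morphism i : Z ⟶ Y over S which is a closed immersion, and an isomorphism F ≅ h_Z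
whose composite with h_i : h_Z ⟶ h_Y is s. (The published lemma treats the case where Y is the r-th
symmetric power of a curve, F the functor of degree-r invertible families modulo twisting and f the
divisor-class map.) -/
theorem result {S : Scheme.{u}} (Y : Over S) [IsSeparated Y.hom]
    (F : (Over S)ᵒᵖ ⥤ Type u) (f : yoneda.obj Y ⟶ F) (s : F ⟶ yoneda.obj Y) (hsf : s ≫ f = 𝟙 F) :
    ∃ (Z : Over S) (i : Z ⟶ Y), IsClosedImmersion i.left ∧
      ∃ e : F ≅ yoneda.obj Z, e.hom ≫ yoneda.map i = s := by
  classical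
  let ε : Y ⟶ Y := yoneda.preimage (f ≫ s)
  have hε : yoneda.map ε = f ≫ s := Functor.map_preimage _ _
  have hfs : ∀ (T : (Over S)ᵒᵖ) (x : F.obj T), f.app T (s.app T x) = x := by
    intro T x
    have := congrArg (fun φ => φ.app T x) hsf
    simpa using this
  have hεapp : ∀ (T : (Over S)ᵒᵖ) (g : T.unop ⟶ Y), g ≫ ε = s.app T (f.app T g) := by
    intro T g
    have := congrArg (fun φ => φ.app T g) hε
    simpa using this
  have hsx : ∀ (T : (Over S)ᵒᵖ) (x : F.obj T),
      (s.app T x : T.unop ⟶ Y) ≫ 𝟙 Y = (s.app T x : T.unop ⟶ Y) ≫ ε := by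
    intro T x
    rw [hεapp, hfs, Category.comp_id]
  have hsnat : ∀ (T T' : (Over S)ᵒᵖ) (g : T ⟶ T') (x : F.obj T),
      (s.app T' (F.map g x) : T'.unop ⟶ Y) = g.unop ≫ (s.app T x : T.unop ⟶ Y) := by
    intro T T' g x
    have := NatTrans.naturality_apply s g x
    simpa using this
  refine ⟨equalizer (𝟙 Y) ε, equalizer.ι (𝟙 Y) ε, inferInstance, ?_⟩
  let hom : F ⟶ yoneda.obj (equalizer (𝟙 Y) ε) :=
    { app := fun T => ↾fun x => equalizer.lift (s.app T x : T.unop ⟶ Y) (hsx T x)
      naturality := by
        intro T T' g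
        ext x
        apply equalizer.hom_ext
        simpa using hsnat T T' g x }
  have hhom : hom ≫ yoneda.map (equalizer.ι (𝟙 Y) ε) = s := by
    ext T x
    simp [hom]
  refine ⟨⟨hom, yoneda.map (equalizer.ι (𝟙 Y) ε) ≫ f, ?_, ?_⟩, hhom⟩
  · rw [← Category.assoc, hhom, hsf]
  · ext T z
    apply equalizer.hom_ext
    have hz : (z : T.unop ⟶ equalizer (𝟙 Y) ε) ≫ equalizer.ι (𝟙 Y) ε ≫ ε
        = z ≫ equalizer.ι (𝟙 Y) ε := by
      rw [← equalizer.condition, Category.comp_id]
    have h1 := hεapp T (z ≫ equalizer.ι (𝟙 Y) ε)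
    rw [Category.assoc, hz] at h1
    simpa [hom] using h1.symm

end Groth.Agent.S17825
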