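import Groth.Statements.S17843
import Mathlib

set_option autoImplicit false
universe u v
open CAlg

namespace Groth.Agent.S17843

theorem common_exp {α : Type*} (t : Finset α) (P : α → ℕ → Prop)
    (hmono : ∀ a e e', e ≤ e' → P a e → P a e') (hex : ∀ a ∈ t, ∃ e, P a e) :
    ∃ e, ∀ a ∈ t, P a e := by
  classical
  choose! E hE using hex
  exact ⟨t.sup E, fun a ha => hmono a (E a) _ (Finset.le_sup ha) (hE a ha)⟩

/-- In the case of an affine scheme of finite presentation, let B be a finitely presented R-algebra, r ∈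
R, and x : B → R[1/r][T] an R-algebra homomorphism whose value at T = 0, a homomorphism B → R[1/r],
is induced by a homomorphism x̃₀ : B → R. Then for every large enough n, the homomorphism x(rⁿT) : B
→ R[1/r][T] is induced by a homomorphism x̃ : B → R[T] whose value at T = 0 is x̃₀. The published
statement is for algebraic spaces locally of finite presentation over R; this row takes an affine
scheme of finite presentation. -/
theorem result
    (R : Type u) (B : Type v) [CommRing R] [CommRing B] [Algebra R B]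
    [Algebra.FinitePresentation R B] (r : R)
    (x : B →ₐ[R] Polynomial (Localization.Away r))
    (x₀ : B →ₐ[R] R)
    (hx₀ : (algebraMap R (Localization.Away r)).comp x₀.toRingHom =
      (Polynomial.evalRingHom 0).comp x.toRingHom) :
    ∃ N : ℕ, ∀ n : ℕ, N ≤ n →
      ∃ y : B →ₐ[R] Polynomial R,
        (Polynomial.evalRingHom 0).comp y.toRingHom = x₀.toRingHom ∧
        (Polynomial.mapRingHom (algebraMap R (Localization.Away r))).comp y.toRingHom =
          (Polynomial.aeval (Polynomial.C (algebraMap R (Localization.Away r) (r ^ n)) * Polynomial.X) :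
              Polynomial (Localization.Away r) →ₐ[Localization.Away r] Polynomial (Localization.Away r)).toRingHom.comp
            x.toRingHom := by
  classical
  obtain ⟨m, f, hfsurj, hfker⟩ := Algebra.FinitePresentation.out (R := R) (A := B)
  obtain ⟨t, ht⟩ := hfker
  obtain ⟨ι, hι⟩ : ∃ ι : R →+* Localization.Away r, ι = algebraMap R (Localization.Away r) :=
    ⟨_, rfl⟩
  have h0 : ∀ b : B, ι (x₀ b) = (x b).eval 0 := by
    intro b; rw [hι]; exact RingHom.congr_fun hx₀ b
  -- Step A
  have hA : ∀ i : Fin m, ∃ k : ℕ, ∃ P : Polynomial R,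
      P.map ι = Polynomial.C (ι (r ^ k)) * x (f (MvPolynomial.X i)) := by
    intro i
    obtain ⟨bb, hbM, hb⟩ := IsLocalization.integerNormalization_spec (Submonoid.powers r)
      (x (f (MvPolynomial.X i)))
    obtain ⟨k, hk⟩ := (Submonoid.mem_powers_iff _ _).mp hbM
    refine ⟨k, IsLocalization.integerNormalization (Submonoid.powers r)
      (x (f (MvPolynomial.X i))), ?_⟩
    rw [hι, hb, hk, Algebra.smul_def, Polynomial.algebraMap_apply]
  choose k P hP using hA
  obtain ⟨N₁, hN₁⟩ : ∃ N₁ : ℕ, N₁ = ∑ i, k i := ⟨_, rfl⟩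
  have hkle : ∀ i, k i ≤ N₁ := by
    intro i; rw [hN₁]; exact Finset.single_le_sum (fun _ _ => Nat.zero_le _) (Finset.mem_univ i)
  obtain ⟨s, hs⟩ : ∃ s : R, s = r ^ N₁ := ⟨_, rfl⟩
  obtain ⟨P', hP'def⟩ : ∃ P' : Fin m → Polynomial R,
      ∀ i, P' i = Polynomial.C (r ^ (N₁ - k i)) * P i := ⟨_, fun i => rfl⟩
  have hP' : ∀ i, (P' i).map ι = Polynomial.C (ι s) * x (f (MvPolynomial.X i)) := by
    intro i
    rw [hP'def, Polynomial.map_mul, Polynomial.map_C, hP, ← mul_assoc, ← Polynomial.C_mul,
      ← map_mul, ← pow_add, Nat.sub_add_cancel (hkle i), hs]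
  have hcoef : ∀ i j, ι ((P' i).coeff j) = ι s * (x (f (MvPolynomial.X i))).coeff j := by
    intro i j
    have h1 := congrArg (fun p => Polynomial.coeff p j) (hP' i)
    simp only [Polynomial.coeff_map, Polynomial.coeff_C_mul] at h1
    exact h1
  -- Step B
  obtain ⟨q, hq⟩ : ∃ q : Fin m → Polynomial R, ∀ i, q i = Polynomial.C (x₀ (f (MvPolynomial.X i))) +
      Polynomial.X * (Polynomial.divX (P' i)).comp (Polynomial.C s * Polynomial.X) :=
    ⟨_, fun i => rfl⟩
  have B2 : ∀ i, (q i).eval 0 = x₀ (f (MvPolynomial.X i)) := by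
    intro i; rw [hq]; simp
  have B1 : ∀ i, (q i).map ι = (x (f (MvPolynomial.X i))).comp
      (Polynomial.C (ι s) * Polynomial.X) := by
    intro i
    ext j
    rw [Polynomial.coeff_map, Polynomial.comp_C_mul_X_coeff, hq]
    cases j with
    | zero =>
      rw [Polynomial.coeff_add, Polynomial.coeff_C_zero, Polynomial.mul_coeff_zero,
        Polynomial.coeff_X_zero, zero_mul, add_zero, pow_zero, mul_one, h0,
        Polynomial.coeff_zero_eq_eval_zero]
    | succ j =>
      rw [Polynomial.coeff_add, Polynomial.coeff_C_succ, zero_add, Polynomial.coeff_X_mul,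
        Polynomial.comp_C_mul_X_coeff, Polynomial.coeff_divX, map_mul, map_pow, hcoef, pow_succ]
      ring
  -- Step C
  obtain ⟨G, hG⟩ : ∃ G : MvPolynomial (Fin m) R →ₐ[R] Polynomial R, G = MvPolynomial.aeval q :=
    ⟨_, rfl⟩
  have hGX : ∀ i, G (MvPolynomial.X i) = q i := by intro i; rw [hG, MvPolynomial.aeval_X]
  have hGC : ∀ c, G (MvPolynomial.C c) = Polynomial.C c := by
    intro c; rw [hG, MvPolynomial.aeval_C]; rfl
  have hxC : ∀ c, x (f (MvPolynomial.C c)) = Polynomial.C (ι c) := by
    intro c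
    rw [← MvPolynomial.algebraMap_eq, AlgHom.commutes, AlgHom.commutes,
      Polynomial.algebraMap_apply, hι]
  have C1 : ∀ F, (G F).map ι = (x (f F)).comp (Polynomial.C (ι s) * Polynomial.X) := by
    have h1 : (Polynomial.mapRingHom ι).comp G.toRingHom =
        (Polynomial.compRingHom (Polynomial.C (ι s) * Polynomial.X)).comp
          (x.toRingHom.comp f.toRingHom) := by
      apply MvPolynomial.ringHom_ext
      · intro c
        show Polynomial.map ι (G (MvPolynomial.C c)) =
          (x (f (MvPolynomial.C c))).comp (Polynomial.C (ι s) * Polynomial.X)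
        rw [hGC, hxC, Polynomial.map_C, Polynomial.C_comp]
      · intro i
        show Polynomial.map ι (G (MvPolynomial.X i)) =
          (x (f (MvPolynomial.X i))).comp (Polynomial.C (ι s) * Polynomial.X)
        rw [hGX, B1]
    intro F; exact RingHom.congr_fun h1 F
  have C2 : ∀ F, (G F).eval 0 = x₀ (f F) := by
    have h1 : (Polynomial.evalRingHom 0).comp G.toRingHom = x₀.toRingHom.comp f.toRingHom := by
      apply MvPolynomial.ringHom_ext
      · intro c
        show Polynomial.eval 0 (G (MvPolynomial.C c)) = x₀ (f (MvPolynomial.C c))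
        rw [hGC, Polynomial.eval_C, ← MvPolynomial.algebraMap_eq, AlgHom.commutes,
          AlgHom.commutes]
        rfl
      · intro i
        show Polynomial.eval 0 (G (MvPolynomial.X i)) = x₀ (f (MvPolynomial.X i))
        rw [hGX, B2]
    intro F; exact RingHom.congr_fun h1 F
  -- Step D
  have hft : ∀ F ∈ t, f F = 0 := by
    intro F hF
    have h1 : F ∈ RingHom.ker f.toRingHom := by rw [← ht]; exact Ideal.subset_span hF
    exact h1
  obtain ⟨e, he⟩ : ∃ e : ℕ, ∀ F ∈ t, ∀ j, r ^ e * (G F).coeff j = 0 := by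
    apply common_exp t (fun F e => ∀ j, r ^ e * (G F).coeff j = 0)
    · intro F e e' hee' hF j
      rw [← Nat.sub_add_cancel hee', pow_add, mul_assoc, hF j, mul_zero]
    · intro F hF
      have hmap : (G F).map ι = 0 := by rw [C1, hft F hF, map_zero, Polynomial.zero_comp]
      have hj : ∀ j ∈ (G F).support, ∃ e, r ^ e * (G F).coeff j = 0 := by
        intro j _
        have h1 : ι ((G F).coeff j) = 0 := by
          rw [← Polynomial.coeff_map, hmap, Polynomial.coeff_zero]
        rw [hι] at h1
        obtain ⟨bb, hb2⟩ := (IsLocalization.map_eq_zero_iff (Submonoid.powers r)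
          (Localization.Away r) _).mp h1
        obtain ⟨e, he⟩ := (Submonoid.mem_powers_iff _ _).mp bb.2
        exact ⟨e, by rw [he]; exact hb2⟩
      obtain ⟨e, he⟩ := common_exp (G F).support (fun j e => r ^ e * (G F).coeff j = 0) (by
        intro j e e' hee' hF
        rw [← Nat.sub_add_cancel hee', pow_add, mul_assoc, hF, mul_zero]) hj
      refine ⟨e, fun j => ?_⟩
      by_cases hjs : j ∈ (G F).support
      · exact he j hjs
      · rw [Polynomial.notMem_support_iff.mp hjs, mul_zero]
  -- Step E
  refine ⟨N₁ + e, fun n hn => ?_⟩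
  obtain ⟨d, hnd, hed⟩ : ∃ d, n = N₁ + d ∧ e ≤ d := ⟨n - N₁, by omega, by omega⟩
  obtain ⟨g, hg⟩ : ∃ g : MvPolynomial (Fin m) R →ₐ[R] Polynomial R,
      ∀ F, g F = (G F).comp (Polynomial.C (r ^ d) * Polynomial.X) :=
    ⟨(Polynomial.aeval (Polynomial.C (r ^ d) * Polynomial.X) :
      Polynomial R →ₐ[R] Polynomial R).comp G, fun F => by
      rw [AlgHom.comp_apply, Polynomial.comp_eq_aeval]⟩
  have hgt : ∀ F ∈ t, g F = 0 := by
    intro F hF
    rw [hg]
    ext j
    rw [Polynomial.comp_C_mul_X_coeff, Polynomial.coeff_zero]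
    rcases Nat.eq_zero_or_pos j with hj | hj
    · subst hj
      rw [Polynomial.coeff_zero_eq_eval_zero, C2, hft F hF, map_zero, zero_mul]
    · have h1 : e ≤ d * j := by nlinarith
      rw [← pow_mul, ← Nat.sub_add_cancel h1, pow_add, mul_comm ((G F).coeff j), mul_assoc,
        he F hF j, mul_zero]
  have hker : RingHom.ker f.toRingHom ≤ RingHom.ker g.toRingHom := by
    rw [← ht, Ideal.span_le]
    intro F hF
    exact hgt F hF
  obtain ⟨φ, hφ⟩ : ∃ φ : B →+* Polynomial R, ∀ F, φ (f F) = g F :=
    ⟨f.toRingHom.liftOfSurjective hfsurj ⟨g.toRingHom, hker⟩, fun F =>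
      RingHom.liftOfSurjective_comp_apply f.toRingHom hfsurj ⟨g.toRingHom, hker⟩ F⟩
  refine ⟨{ φ with commutes' := ?_ }, ?_, ?_⟩
  · intro c
    show φ (algebraMap R B c) = algebraMap R (Polynomial R) c
    rw [← f.commutes c, hφ, g.commutes]
  · refine RingHom.ext (fun b => ?_)
    obtain ⟨F, rfl⟩ := hfsurj b
    show Polynomial.eval 0 (φ (f F)) = x₀ (f F)
    rw [hφ, hg, Polynomial.eval_comp, ← C2]
    simp
  · refine RingHom.ext (fun b => ?_)
    obtain ⟨F, rfl⟩ := hfsurj b
    show Polynomial.map (algebraMap R (Localization.Away r)) (φ (f F)) =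
      Polynomial.aeval (Polynomial.C (algebraMap R (Localization.Away r) (r ^ n)) * Polynomial.X)
        (x (f F))
    rw [hφ, hg, Polynomial.map_comp, ← hι, C1, Polynomial.comp_assoc, ← Polynomial.comp_eq_aeval]
    congr 1
    simp only [Polynomial.map_mul, Polynomial.map_C, Polynomial.map_X, Polynomial.mul_comp,
      Polynomial.C_comp, Polynomial.X_comp]
    rw [← mul_assoc, ← Polynomial.C_mul, ← map_mul, hs, ← pow_add, hnd]

end Groth.Agent.S17843
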