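import Groth.Statements.S17859
import Mathlib

set_option autoImplicit false
open CategoryTheory MonoidalCategory
universe u
open Algz

namespace Groth.Agent.S17859

lemma exists_dual_basis (R : Type u) [CommRing R] (M : Type u) [AddCommGroup M] [Module R M]
    [Module.Finite R M] [Module.Projective R M] :
    ∃ (n : ℕ) (e : Fin n → M) (φ : Fin n → Module.Dual R M), ∀ x, ∑ i, φ i x • e i = x := by
  obtain ⟨n, f, hf⟩ := Module.Finite.exists_fin' R M
  obtain ⟨g, hg⟩ := Module.projective_lifting_property f LinearMap.id hf
  refine ⟨n, fun i => f (fun j => if i = j then (1 : R) else 0),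
    fun i => (LinearMap.proj i).comp g, fun x => ?_⟩
  have h1 := LinearMap.pi_apply_eq_sum_univ f (g x)
  have h2 : f (g x) = x := LinearMap.congr_fun hg x
  rw [h2] at h1
  exact h1.symm

open TensorProduct in
noncomputable def coevL (R : Type u) [CommRing R] (M : Type u) [AddCommGroup M] [Module R M]
    {n : ℕ} (e : Fin n → M) (φ : Fin n → Module.Dual R M) : R →ₗ[R] M ⊗[R] Module.Dual R M :=
  LinearMap.toSpanSingleton R _ (∑ i, e i ⊗ₜ[R] φ i)

open TensorProduct in
lemma coevL_one (R : Type u) [CommRing R] (M : Type u) [AddCommGroup M] [Module R M]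
    {n : ℕ} (e : Fin n → M) (φ : Fin n → Module.Dual R M) :
    coevL R M e φ 1 = ∑ i, e i ⊗ₜ[R] φ i :=
  LinearMap.toSpanSingleton_apply_one R _ _

open TensorProduct in
lemma triA (R : Type u) [CommRing R] (M : Type u) [AddCommGroup M] [Module R M]
    {n : ℕ} (e : Fin n → M) (φ : Fin n → Module.Dual R M) (hx : ∀ x, ∑ i, φ i x • e i = x) :
    (contractLeft R M).rTensor (Module.Dual R M) ∘ₗ
        (TensorProduct.assoc R (Module.Dual R M) M (Module.Dual R M)).symm.toLinearMap ∘ₗ
          (coevL R M e φ).lTensor (Module.Dual R M) =
      (TensorProduct.lid R (Module.Dual R M)).symm.toLinearMap ∘ₗ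
        (TensorProduct.rid R (Module.Dual R M)).toLinearMap := by
  have hψ : ∀ ψ : Module.Dual R M, ∑ i, ψ (e i) • φ i = ψ := by
    intro ψ
    apply LinearMap.ext
    intro x
    rw [LinearMap.sum_apply]
    conv_rhs => rw [← hx x, map_sum]
    refine Finset.sum_congr rfl (fun i _ => ?_)
    rw [LinearMap.smul_apply, map_smul, smul_eq_mul, smul_eq_mul, mul_comm]
  apply TensorProduct.ext'
  intro ψ r
  have hr : ψ ⊗ₜ[R] r = r • (ψ ⊗ₜ[R] (1 : R)) := by
    rw [← TensorProduct.tmul_smul, smul_eq_mul, mul_one]
  rw [hr, map_smul, map_smul]
  congr 1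
  simp only [LinearMap.comp_apply, LinearEquiv.coe_coe, LinearMap.lTensor_tmul, coevL_one,
    TensorProduct.tmul_sum, map_sum, TensorProduct.assoc_symm_tmul, LinearMap.rTensor_tmul,
    contractLeft_apply, TensorProduct.rid_tmul, one_smul, TensorProduct.lid_symm_apply]
  conv_rhs => rw [← hψ ψ, TensorProduct.tmul_sum]
  refine Finset.sum_congr rfl (fun i _ => ?_)
  rw [TensorProduct.tmul_smul, TensorProduct.smul_tmul', smul_eq_mul, mul_one]

open TensorProduct in
lemma triB (R : Type u) [CommRing R] (M : Type u) [AddCommGroup M] [Module R M]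
    {n : ℕ} (e : Fin n → M) (φ : Fin n → Module.Dual R M) (hx : ∀ x, ∑ i, φ i x • e i = x) :
    (contractLeft R M).lTensor M ∘ₗ
        (TensorProduct.assoc R M (Module.Dual R M) M).toLinearMap ∘ₗ
          (coevL R M e φ).rTensor M =
      (TensorProduct.rid R M).symm.toLinearMap ∘ₗ (TensorProduct.lid R M).toLinearMap := by
  apply TensorProduct.ext'
  intro r x
  have hr : r ⊗ₜ[R] x = r • ((1 : R) ⊗ₜ[R] x) := by
    rw [TensorProduct.smul_tmul', smul_eq_mul, mul_one]
  rw [hr, map_smul, map_smul]
  congr 1
  simp only [LinearMap.comp_apply, LinearEquiv.coe_coe, LinearMap.rTensor_tmul, coevL_one,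
    TensorProduct.sum_tmul, map_sum, TensorProduct.assoc_tmul, LinearMap.lTensor_tmul,
    contractLeft_apply, TensorProduct.lid_tmul, one_smul, TensorProduct.rid_symm_apply]
  conv_rhs => rw [← hx x, TensorProduct.sum_tmul]
  refine Finset.sum_congr rfl (fun i _ => ?_)
  rw [TensorProduct.smul_tmul, smul_eq_mul, mul_one]

/-- Over an affine scheme, that is for modules over a commutative ring `R`, a finitely generated
projective `R`-module `M`, viewed as an object of the monoidal category of `R`-modules (tensor
product over `R`), has a right dual. (The published statement is the equivalence, for quasi-coherent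
sheaves on a quasi-compact quasi-separated scheme, between being dualizable and being a vector
bundle; stated here is the affine case of the implication from vector bundle to dualizable. The
converse implication, that a module admitting a dual is finitely generated projective, is stated
separately and is not repeated here.) -/
theorem result (R : Type u) [CommRing R] (M : ModuleCat.{u} R)
    [Module.Finite R M] [Module.Projective R M] : Nonempty (HasRightDual M) := by
  obtain ⟨n, e, φ, hx⟩ := exists_dual_basis R M
  have hA := triA R M e φ hx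
  have hB := triB R M e φ hx
  let P : ExactPairing M (ModuleCat.of R (Module.Dual R M)) :=
    { coevaluation' := ModuleCat.ofHom (coevL R M e φ)
      evaluation' := ModuleCat.ofHom (contractLeft R M)
      coevaluation_evaluation' := by
        apply ModuleCat.hom_ext
        exact hA
      evaluation_coevaluation' := by
        apply ModuleCat.hom_ext
        exact hB }
  exact ⟨{ rightDual := ModuleCat.of R (Module.Dual R M), exact := P }⟩

end Groth.Agent.S17859
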