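import Groth.Statements.S17863
import Mathlib

set_option autoImplicit false
open CategoryTheory AlgebraicGeometry
universe u
open Algz

namespace Groth.Agent.S17863

/-- Let `A` be a commutative ring which is `I`-adically complete for an ideal `I` and let `X` be a
quasi-affine scheme. Then the natural map from `X(A)` to compatible systems in the `X(A/I^n)` is
bijective: two morphisms `Spec A ⟶ X` with the same restriction to every `Spec (A/I^n)` are equal,
and every family of morphisms `Spec (A/I^n) ⟶ X` compatible with the transition maps `Spec (A/I^n) ⟶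
Spec (A/I^(n+1))` is the family of restrictions of a morphism `Spec A ⟶ X`. -/
theorem result (A : Type u) [CommRing A] (I : Ideal A) [IsAdicComplete I A]
    (X : Scheme.{u}) [X.IsQuasiAffine] :
    (∀ f g : Spec (CommRingCat.of A) ⟶ X,
      (∀ n : ℕ, Spec.map (CommRingCat.ofHom (Ideal.Quotient.mk (I ^ n))) ≫ f =
        Spec.map (CommRingCat.ofHom (Ideal.Quotient.mk (I ^ n))) ≫ g) → f = g) ∧
    (∀ e : ∀ n : ℕ, Spec (CommRingCat.of (A ⧸ I ^ n)) ⟶ X,
      (∀ n : ℕ, Spec.map (CommRingCat.ofHom (Ideal.Quotient.factorPowSucc I n)) ≫ e (n + 1) = e n) →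
      ∃ f : Spec (CommRingCat.of A) ⟶ X,
        ∀ n : ℕ, Spec.map (CommRingCat.ofHom (Ideal.Quotient.mk (I ^ n))) ≫ f = e n) := by
  classical
  have hmk : ∀ (m n : ℕ) (hle : m ≤ n), (Ideal.Quotient.factorPow I hle).comp
      (Ideal.Quotient.mk (I ^ n)) = Ideal.Quotient.mk (I ^ m) := by
    intro m n hle; ext x; rfl
  constructor
  · intro f g h
    rw [← cancel_mono X.toSpecΓ]
    obtain ⟨a, ha⟩ := Spec.map_surjective (f ≫ X.toSpecΓ)
    obtain ⟨b, hb⟩ := Spec.map_surjective (g ≫ X.toSpecΓ)
    rw [← ha, ← hb]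
    congr 1
    have hab : ∀ n, (Ideal.Quotient.mk (I ^ n)).comp a.hom =
        (Ideal.Quotient.mk (I ^ n)).comp b.hom := by
      intro n
      have h1 : Spec.map (a ≫ CommRingCat.ofHom (Ideal.Quotient.mk (I ^ n))) =
          Spec.map (b ≫ CommRingCat.ofHom (Ideal.Quotient.mk (I ^ n))) := by
        rw [Spec.map_comp, Spec.map_comp, ha, hb, ← Category.assoc, ← Category.assoc, h n]
      have h2 := Spec.map_injective h1
      exact congrArg CommRingCat.Hom.hom h2
    let fam : ∀ n : ℕ, Γ(X, ⊤) →+* A ⧸ I ^ n := fun n => (Ideal.Quotient.mk (I ^ n)).comp a.hom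
    have hfam : ∀ (m n : ℕ) (hle : m ≤ n),
        (Ideal.Quotient.factorPow I hle).comp (fam n) = fam m := by
      intro m n hle
      simp only [fam, ← RingHom.comp_assoc, hmk]
    have e1 := IsAdicComplete.eq_liftRingHom I fam (fun {m n} hle => hfam m n hle) a.hom
      (fun n => rfl)
    have e2 := IsAdicComplete.eq_liftRingHom I fam (fun {m n} hle => hfam m n hle) b.hom
      (fun n => (hab n).symm)
    ext1
    exact e1.trans e2.symm
  · intro e he
    choose c hc using fun n => Spec.map_surjective (e n ≫ X.toSpecΓ)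
    let fam : ∀ n : ℕ, Γ(X, ⊤) →+* A ⧸ I ^ n := fun n => (c n).hom
    have hsucc : ∀ n, (Ideal.Quotient.factorPowSucc I n).comp (fam (n+1)) = fam n := by
      intro n
      have h1 : Spec.map (c (n+1) ≫ CommRingCat.ofHom (Ideal.Quotient.factorPowSucc I n)) =
          Spec.map (c n) := by
        rw [Spec.map_comp, hc, hc, ← Category.assoc, he n]
      exact congrArg CommRingCat.Hom.hom (Spec.map_injective h1)
    have hfam : ∀ (m n : ℕ) (hle : m ≤ n),
        (Ideal.Quotient.factorPow I hle).comp (fam n) = fam m := by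
      intro m n hle
      induction n, hle using Nat.le_induction with
      | base =>
        refine RingHom.ext fun x => ?_
        simp only [RingHom.comp_apply]
        obtain ⟨y, hy⟩ := Ideal.Quotient.mk_surjective (fam m x)
        rw [← hy]; rfl
      | succ n hmn ih =>
        have : (Ideal.Quotient.factorPow I (Nat.le_succ_of_le hmn)) =
            (Ideal.Quotient.factorPow I hmn).comp (Ideal.Quotient.factorPowSucc I n) := by
          refine RingHom.ext fun x => ?_
          obtain ⟨x, rfl⟩ := Ideal.Quotient.mk_surjective x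
          rfl
        rw [this, RingHom.comp_assoc, hsucc n, ih]
    let F : Γ(X, ⊤) →+* A := IsAdicComplete.liftRingHom I fam (fun {m n} hle => hfam m n hle)
    have hF : ∀ n, (Ideal.Quotient.mk (I ^ n)).comp F = fam n :=
      fun n => IsAdicComplete.mk_comp_liftRingHom I fam _ n
    let Fs : Spec (CommRingCat.of A) ⟶ Spec Γ(X, ⊤) := Spec.map (CommRingCat.ofHom F)
    have hFs : ∀ n, Spec.map (CommRingCat.ofHom (Ideal.Quotient.mk (I ^ n))) ≫ Fs =
        e n ≫ X.toSpecΓ := by
      intro n
      rw [← hc n, ← Spec.map_comp]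
      congr 1
      ext1
      exact hF n
    have hrange : Set.range Fs ⊆ Set.range X.toSpecΓ := by
      rintro _ ⟨p, rfl⟩
      let p' : PrimeSpectrum A := p
      obtain ⟨m, hm, hpm⟩ := Ideal.exists_le_maximal p'.asIdeal p'.2.ne_top
      have hIm : I ≤ m := (IsAdicComplete.le_jacobson_bot I).trans (sInf_le ⟨bot_le, hm⟩)
      let q : PrimeSpectrum A := ⟨m, hm.isPrime⟩
      have hq : q ∈ Set.range (PrimeSpectrum.comap (Ideal.Quotient.mk (I ^ 1))) := by
        rw [range_comap_of_surjective _ _ Ideal.Quotient.mk_surjective,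
          Ideal.mk_ker, pow_one, PrimeSpectrum.mem_zeroLocus]
        exact hIm
      obtain ⟨q', hq'⟩ := hq
      have hspec : p' ⤳ q := (PrimeSpectrum.le_iff_specializes p' q).mp hpm
      have h1 : Fs q ∈ Set.range X.toSpecΓ := by
        have : Fs q = (Spec.map (CommRingCat.ofHom (Ideal.Quotient.mk (I ^ 1))) ≫ Fs) q' := by
          rw [Scheme.Hom.comp_apply]; congr 1; exact hq'.symm
        rw [this, hFs 1, Scheme.Hom.comp_apply]
        exact ⟨_, rfl⟩
      have h2 : Fs p ⤳ Fs q := Specializes.map hspec Fs.continuous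
      exact X.toSpecΓ.isOpenEmbedding.isOpen_range.stableUnderGeneralization h2 h1
    refine ⟨IsOpenImmersion.lift X.toSpecΓ Fs hrange, fun n => ?_⟩
    rw [← cancel_mono X.toSpecΓ, Category.assoc, IsOpenImmersion.lift_fac, hFs n]

end Groth.Agent.S17863
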