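import Groth.Statements.S17875
import Mathlib

set_option autoImplicit false
universe u
open Polynomial
open GRRSing

namespace Groth.Agent.S17875

/-- Let R be a commutative ℚ-algebra, r an element of R and δ a natural number with (r - 1) ^ (δ + 1) =
0. Write s(k, j) for the signed Stirling numbers of the first kind, the coefficients of x (x - 1) ⋯
(x - k + 1) = Σ_j s(k, j) x ^ j. Then (i) for every natural number n, r ^ n = Σ_{k ≤ δ} [n (n - 1) ⋯
(n - k + 1) / k!] (r - 1) ^ k; and (ii) in the polynomial ring R[x], Σ_{k ≤ δ} [x (x - 1) ⋯ (x - k +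
1) / k!] (r - 1) ^ k = Σ_{j ≤ δ} [Σ_{k ≤ δ} Σ_{u ≤ k} (-1) ^ (k - u) s(k, j) / (u! (k - u)!) · r ^
u] x ^ j. -/
theorem result {R : Type u} [CommRing R] [Algebra ℚ R]
    (r : R) (δ : ℕ) (hr : (r - 1) ^ (δ + 1) = 0) :
    (∀ n : ℕ, r ^ n = ∑ k ∈ Finset.range (δ + 1), ((descPochhammer ℚ k).eval (n : ℚ) / (k.factorial : ℚ)) • (r - 1) ^ k) ∧
    (∑ k ∈ Finset.range (δ + 1), ((k.factorial : ℚ)⁻¹ • (descPochhammer R k * Polynomial.C ((r - 1) ^ k))) =
      ∑ j ∈ Finset.range (δ + 1), Polynomial.C (∑ k ∈ Finset.range (δ + 1), ∑ u ∈ Finset.range (k + 1),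
        (((-1 : ℚ) ^ (k - u) * (((descPochhammer ℤ k).coeff j : ℤ) : ℚ)) / ((u.factorial * (k - u).factorial : ℕ) : ℚ)) • r ^ u) * Polynomial.X ^ j) := by
  have ht : ∀ k, δ + 1 ≤ k → (r - 1) ^ k = 0 := fun k hk => pow_eq_zero_of_le hk hr
  have hchoose : ∀ n k : ℕ, (descPochhammer ℚ k).eval (n : ℚ) / (k.factorial : ℚ) = (n.choose k : ℚ) := by
    intro n k
    rw [descPochhammer_eval_eq_descFactorial, Nat.descFactorial_eq_factorial_mul_choose]
    have hk : (k.factorial : ℚ) ≠ 0 := by exact_mod_cast Nat.factorial_ne_zero k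
    push_cast
    field_simp
  refine ⟨?_, ?_⟩
  · intro n
    simp_rw [hchoose]
    have h1 : r ^ n = ∑ m ∈ Finset.range (n + 1), (r - 1) ^ m * (n.choose m : R) := by
      calc r ^ n = ((r - 1) + 1) ^ n := by rw [sub_add_cancel]
        _ = ∑ m ∈ Finset.range (n + 1), (r - 1) ^ m * 1 ^ (n - m) * (n.choose m : R) := add_pow _ _ _
        _ = _ := by
          apply Finset.sum_congr rfl; intro m _; rw [one_pow, mul_one]
    rw [h1]
    have hA : ∑ k ∈ Finset.range (δ + 1), ((n.choose k : ℚ)) • (r - 1) ^ k =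
        ∑ k ∈ Finset.range (n + δ + 1), ((n.choose k : ℚ)) • (r - 1) ^ k := by
      apply Finset.sum_subset (Finset.range_mono (by omega))
      intro k _ hk
      rw [Finset.mem_range, not_lt] at hk
      rw [ht k hk, smul_zero]
    have hB : ∑ m ∈ Finset.range (n + 1), (r - 1) ^ m * (n.choose m : R) =
        ∑ m ∈ Finset.range (n + δ + 1), (r - 1) ^ m * (n.choose m : R) := by
      apply Finset.sum_subset (Finset.range_mono (by omega))
      intro k _ hk
      rw [Finset.mem_range, not_lt] at hk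
      rw [Nat.choose_eq_zero_of_lt (by omega)]; simp
    rw [hA, hB]
    apply Finset.sum_congr rfl; intro k _
    rw [Nat.cast_smul_eq_nsmul ℚ, nsmul_eq_mul, mul_comm]
  · apply Polynomial.ext
    intro n
    simp only [Polynomial.finsetSum_coeff, Polynomial.coeff_smul, Polynomial.coeff_mul_C,
      Polynomial.coeff_C_mul_X_pow]
    have hcoeff : ∀ k, (descPochhammer R k).coeff n = (((descPochhammer ℤ k).coeff n : ℤ) : R) := by
      intro k
      rw [← descPochhammer_map (Int.castRingHom R), Polynomial.coeff_map]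
      simp
    rw [Finset.sum_ite_eq (Finset.range (δ + 1)) n]
    by_cases hn : n ∈ Finset.range (δ + 1)
    · rw [if_pos hn]
      apply Finset.sum_congr rfl
      intro k _
      have hpow : (r - 1) ^ k = ∑ u ∈ Finset.range (k + 1), r ^ u * (-1) ^ (k - u) * (k.choose u : R) := by
        rw [sub_eq_add_neg, add_pow]
      rw [hcoeff k, hpow, Finset.mul_sum, Finset.smul_sum]
      apply Finset.sum_congr rfl
      intro u hu
      have hu' : u ≤ k := by have := Finset.mem_range.mp hu; omega
      set s : ℤ := (descPochhammer ℤ k).coeff n with hs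
      have e1 : ((s : ℤ) : R) = algebraMap ℚ R (s : ℚ) := by simp
      have e2 : ((-1 : R)) ^ (k - u) = algebraMap ℚ R ((-1) ^ (k - u)) := by simp
      have e3 : ((k.choose u : ℕ) : R) = algebraMap ℚ R (k.choose u : ℚ) := by simp
      rw [Algebra.smul_def, Algebra.smul_def, e1, e2, e3]
      have hfac : ((k.choose u : ℕ) : ℚ) * (u.factorial : ℚ) * ((k - u).factorial : ℚ) = (k.factorial : ℚ) := by
        exact_mod_cast Nat.choose_mul_factorial_mul_factorial hu'
      have hk0 : (k.factorial : ℚ) ≠ 0 := by exact_mod_cast Nat.factorial_ne_zero k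
      have hu0 : (u.factorial : ℚ) ≠ 0 := by exact_mod_cast Nat.factorial_ne_zero u
      have hku0 : ((k - u).factorial : ℚ) ≠ 0 := by exact_mod_cast Nat.factorial_ne_zero (k - u)
      have e4 : algebraMap ℚ R (((-1 : ℚ) ^ (k - u) * (s : ℚ)) / ((u.factorial * (k - u).factorial : ℕ) : ℚ)) =
          algebraMap ℚ R ((k.factorial : ℚ)⁻¹) * algebraMap ℚ R (s : ℚ) * algebraMap ℚ R ((-1) ^ (k - u)) *
            algebraMap ℚ R (k.choose u : ℚ) := by
        rw [← map_mul, ← map_mul, ← map_mul]
        congr 1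
        have hc0 : ((k.choose u : ℕ) : ℚ) ≠ 0 := by exact_mod_cast (Nat.choose_pos hu').ne'
        push_cast
        rw [← hfac]
        field_simp
      rw [e4]
      ring
    · rw [if_neg hn]
      apply Finset.sum_eq_zero
      intro k hk
      have hlt : (descPochhammer ℤ k).natDegree < n := by
        rw [descPochhammer_natDegree]
        have := Finset.mem_range.mp hk
        rw [Finset.mem_range, not_lt] at hn
        omega
      rw [hcoeff k, Polynomial.coeff_eq_zero_of_natDegree_lt hlt]
      simp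

end Groth.Agent.S17875
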