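import Groth.Statements.S17878
import Mathlib

set_option autoImplicit false
universe u
open Filter Topology
open GRRSing

namespace Groth.Agent.S17878

noncomputable def h9G (j : ℕ) (y : ℂ) : ℂ := ∑' k : ℕ, ((k : ℂ) ^ j * y ^ k)

theorem h9G_summable (j : ℕ) {y : ℂ} (hy : ‖y‖ < 1) : Summable (fun k : ℕ => (k : ℂ) ^ j * y ^ k) :=
  summable_pow_mul_geometric_of_norm_lt_one j hy

theorem h9G_rec (j : ℕ) {y : ℂ} (hy : ‖y‖ < 1) :
    (1 - y) * h9G j y =
      (if j = 0 then 1 else 0) + y * ∑ i ∈ Finset.range j, (j.choose i : ℂ) * h9G i y := by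
  have hs := h9G_summable j hy
  have h0 : h9G j y = (if j = 0 then 1 else 0) +
      ∑' k : ℕ, (((k + 1 : ℕ) : ℂ) ^ j * y ^ (k + 1)) := by
    rw [h9G, hs.tsum_eq_zero_add]
    congr 1
    rw [Nat.cast_zero, pow_zero, mul_one, zero_pow_eq]
  have hterm : ∀ k : ℕ, ((k + 1 : ℕ) : ℂ) ^ j * y ^ (k + 1) =
      y * ∑ i ∈ Finset.range (j + 1), (j.choose i : ℂ) * ((k : ℂ) ^ i * y ^ k) := by
    intro k
    rw [Nat.cast_add, Nat.cast_one, add_pow, Finset.sum_mul, Finset.mul_sum]
    apply Finset.sum_congr rfl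
    intro m _
    rw [one_pow, mul_one, pow_succ]
    ring
  have hsum : ∑' k : ℕ, (((k + 1 : ℕ) : ℂ) ^ j * y ^ (k + 1)) =
      y * ∑ i ∈ Finset.range (j + 1), (j.choose i : ℂ) * h9G i y := by
    simp_rw [hterm]
    rw [tsum_mul_left]
    congr 1
    rw [Summable.tsum_finsetSum (fun i _ => (h9G_summable i hy).mul_left _)]
    apply Finset.sum_congr rfl
    intro i _
    rw [tsum_mul_left]
    rfl
  rw [hsum, Finset.sum_range_succ, Nat.choose_self, Nat.cast_one, one_mul] at h0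
  linear_combination h0

theorem h9_Erec (E : ℕ → ℚ)
    (hE : PowerSeries.mk (fun j => E j / (j.factorial : ℚ)) * (PowerSeries.exp ℚ + 1) = 2) (j : ℕ) :
    2 * E j + ∑ i ∈ Finset.range j, (j.choose i : ℚ) * E i = if j = 0 then 2 else 0 := by
  have h := congrArg (PowerSeries.coeff j) hE
  rw [PowerSeries.coeff_mul, Finset.Nat.sum_antidiagonal_eq_sum_range_succ_mk,
    Finset.sum_range_succ] at h
  simp only [PowerSeries.coeff_mk, map_add, PowerSeries.coeff_exp, PowerSeries.coeff_one,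
    Nat.sub_self, Algebra.algebraMap_self_apply] at h
  have h2 : PowerSeries.coeff j (2 : PowerSeries ℚ) = if j = 0 then 2 else 0 := by
    have e2 : (2 : PowerSeries ℚ) = PowerSeries.C (2 : ℚ) := (map_ofNat PowerSeries.C 2).symm
    rw [e2, PowerSeries.coeff_C]
  rw [h2] at h
  have h4 : (j.factorial : ℚ) ≠ 0 := by exact_mod_cast Nat.factorial_ne_zero j
  have hsum : ∑ i ∈ Finset.range j, E i / (i.factorial : ℚ) *
      (1 / ((j - i).factorial : ℚ) + if j - i = 0 then 1 else 0)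
      = (∑ i ∈ Finset.range j, (j.choose i : ℚ) * E i) / (j.factorial : ℚ) := by
    rw [Finset.sum_div]
    apply Finset.sum_congr rfl
    intro i hi
    have hij : i < j := Finset.mem_range.mp hi
    have hne : j - i ≠ 0 := by omega
    rw [if_neg hne, add_zero, Nat.cast_choose ℚ hij.le]
    have h1 : (i.factorial : ℚ) ≠ 0 := by exact_mod_cast Nat.factorial_ne_zero i
    have h3 : ((j - i).factorial : ℚ) ≠ 0 := by exact_mod_cast Nat.factorial_ne_zero _
    field_simp
  rw [hsum] at h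
  rw [if_pos trivial, Nat.factorial_zero, Nat.cast_one, div_one] at h
  have h5 : (∑ i ∈ Finset.range j, (j.choose i : ℚ) * E i + 2 * E j) / (j.factorial : ℚ) =
      if j = 0 then 2 else 0 := by
    rw [← h]
    field_simp
    ring
  by_cases hj : j = 0
  · subst hj
    rw [if_pos rfl] at h5 ⊢
    rw [Finset.range_zero, Finset.sum_empty] at h5 ⊢
    rw [Nat.factorial_zero, Nat.cast_one, div_one] at h5
    linarith
  · rw [if_neg hj] at h5 ⊢
    rcases div_eq_zero_iff.mp h5 with h6 | h6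
    · linarith
    · exact absurd h6 h4

theorem h9G_tendsto (E : ℕ → ℚ)
    (hErec : ∀ j : ℕ, 2 * E j + ∑ i ∈ Finset.range j, (j.choose i : ℚ) * E i =
      if j = 0 then 2 else 0) (j : ℕ) :
    Tendsto (fun y : ℝ => h9G j (y : ℂ)) (𝓝[Set.Ioo (-1 : ℝ) 1] (-1 : ℝ)) (𝓝 ((E j : ℂ) / 2)) := by
  induction j using Nat.strong_induction_on with
  | _ j ih =>
    have hy : Tendsto (fun y : ℝ => (y : ℂ)) (𝓝[Set.Ioo (-1 : ℝ) 1] (-1 : ℝ)) (𝓝 (-1 : ℂ)) := by
      have h1 : Tendsto (fun y : ℝ => (y : ℂ)) (𝓝 (-1 : ℝ)) (𝓝 (((-1 : ℝ)) : ℂ)) :=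
        Complex.continuous_ofReal.tendsto _
      have h2 := h1.mono_left (nhdsWithin_le_nhds (s := Set.Ioo (-1 : ℝ) 1))
      simpa using h2
    have hnum : Tendsto (fun y : ℝ => ((if j = 0 then (1 : ℂ) else 0) +
        (y : ℂ) * ∑ i ∈ Finset.range j, (j.choose i : ℂ) * h9G i (y : ℂ)))
        (𝓝[Set.Ioo (-1 : ℝ) 1] (-1 : ℝ))
        (𝓝 ((if j = 0 then (1 : ℂ) else 0) +
          (-1 : ℂ) * ∑ i ∈ Finset.range j, (j.choose i : ℂ) * ((E i : ℂ) / 2))) := by
      apply Tendsto.add tendsto_const_nhds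
      apply Tendsto.mul hy
      apply tendsto_finsetSum
      intro i hi
      exact Tendsto.mul tendsto_const_nhds (ih i (Finset.mem_range.mp hi))
    have hden : Tendsto (fun y : ℝ => (1 : ℂ) - (y : ℂ)) (𝓝[Set.Ioo (-1 : ℝ) 1] (-1 : ℝ))
        (𝓝 ((1 : ℂ) - (-1))) :=
      Tendsto.sub tendsto_const_nhds hy
    have hdiv := Tendsto.div hnum hden (by norm_num)
    have hval : ((if j = 0 then (1 : ℂ) else 0) +
        (-1 : ℂ) * ∑ i ∈ Finset.range j, (j.choose i : ℂ) * ((E i : ℂ) / 2)) / ((1 : ℂ) - (-1)) =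
        (E j : ℂ) / 2 := by
      have hS : ∑ i ∈ Finset.range j, (j.choose i : ℂ) * ((E i : ℂ) / 2) =
          (∑ i ∈ Finset.range j, (j.choose i : ℂ) * (E i : ℂ)) / 2 := by
        rw [Finset.sum_div]
        apply Finset.sum_congr rfl
        intro i _
        ring
      have h12 : (1 : ℂ) - (-1) = 2 := by norm_num
      rw [hS, h12]
      by_cases hj : j = 0
      · have h := hErec j
        rw [if_pos hj] at h
        have hc : (2 : ℂ) * (E j : ℂ) + ∑ i ∈ Finset.range j, (j.choose i : ℂ) * (E i : ℂ) = 2 := by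
          exact_mod_cast h
        rw [if_pos hj]
        linear_combination (-1 / 4 : ℂ) * hc
      · have h := hErec j
        rw [if_neg hj] at h
        have hc : (2 : ℂ) * (E j : ℂ) + ∑ i ∈ Finset.range j, (j.choose i : ℂ) * (E i : ℂ) = 0 := by
          exact_mod_cast h
        rw [if_neg hj]
        linear_combination (-1 / 4 : ℂ) * hc
    rw [hval] at hdiv
    refine hdiv.congr' ?_
    apply eventually_nhdsWithin_of_forall
    intro y hy'
    have hnorm : ‖(y : ℂ)‖ < 1 := by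
      rw [Complex.norm_real, Real.norm_eq_abs, abs_lt]
      exact ⟨hy'.1, hy'.2⟩
    have hrec := h9G_rec j hnorm
    have hne : (1 : ℂ) - (y : ℂ) ≠ 0 := by
      intro h0
      have h1 : (y : ℂ) = 1 := by linear_combination -h0
      have h2 : y = 1 := by exact_mod_cast h1
      linarith [hy'.2]
    show ((if j = 0 then (1 : ℂ) else 0) +
        (y : ℂ) * ∑ i ∈ Finset.range j, (j.choose i : ℂ) * h9G i (y : ℂ)) / ((1 : ℂ) - (y : ℂ)) =
        h9G j (y : ℂ)
    rw [← hrec, mul_div_cancel_left₀ _ hne]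

/-- Let T be a nonzero commutative normed ℂ-algebra such that the map ℂ → T/nilradical(T) is surjective,
let P = Σ_j d_j x ^ j be a polynomial over T and put h_k = P(k). Let E_0, E_1, … be the rational
numbers with 2/(e^t + 1) = Σ_j E_j t ^ j / j! (so E_0 = 1, E_1 = -1/2). Then for every complex y
with |y| < 1 the series Σ_k h_k y ^ k converges in T, and as y → -1 along real y in (-1, 1) its sum
tends to (1/2) Σ_j E_j d_j. (The published statement allows any norm topology on T as a complex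
vector space; this row takes T a normed ℂ-algebra.) -/
theorem result {T : Type u} [NormedCommRing T] [NormedAlgebra ℂ T] [Nontrivial T]
    (hT : Function.Surjective (algebraMap ℂ (T ⧸ nilradical T)))
    (E : ℕ → ℚ) (hE : PowerSeries.mk (fun j => E j / (j.factorial : ℚ)) * (PowerSeries.exp ℚ + 1) = 2)
    (P : Polynomial T) :
    (∀ y : ℂ, ‖y‖ < 1 → Summable (fun k : ℕ => y ^ k • P.eval (k : T))) ∧
    Tendsto (fun y : ℝ => ∑' k : ℕ, ((y : ℂ) ^ k) • P.eval (k : T)) (𝓝[Set.Ioo (-1 : ℝ) 1] (-1 : ℝ))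
      (𝓝 ((2 : ℂ)⁻¹ • ∑ j ∈ Finset.range (P.natDegree + 1), ((E j : ℚ) : ℂ) • P.coeff j)) := by
  have hterm : ∀ (y : ℂ) (k : ℕ), y ^ k • P.eval (k : T) =
      ∑ j ∈ Finset.range (P.natDegree + 1), ((k : ℂ) ^ j * y ^ k) • P.coeff j := by
    intro y k
    rw [Polynomial.eval_eq_sum_range, Finset.smul_sum]
    apply Finset.sum_congr rfl
    intro j _
    have h1 : ((k : T)) ^ j = algebraMap ℂ T ((k : ℂ) ^ j) := by
      rw [map_pow, map_natCast]
    rw [h1, ← Algebra.commutes, ← Algebra.smul_def, smul_smul, mul_comm]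
  have hsummand : ∀ (y : ℂ), ‖y‖ < 1 → ∀ j : ℕ,
      Summable (fun k : ℕ => ((k : ℂ) ^ j * y ^ k) • P.coeff j) :=
    fun y hy j => (h9G_summable j hy).smul_const _
  have htsum : ∀ (y : ℂ), ‖y‖ < 1 → ∑' k : ℕ, y ^ k • P.eval (k : T) =
      ∑ j ∈ Finset.range (P.natDegree + 1), h9G j y • P.coeff j := by
    intro y hy
    simp_rw [hterm y]
    rw [Summable.tsum_finsetSum (fun j _ => hsummand y hy j)]
    apply Finset.sum_congr rfl
    intro j _
    rw [(h9G_summable j hy).tsum_smul_const]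
    rfl
  refine ⟨?_, ?_⟩
  · intro y hy
    simp_rw [hterm y]
    exact summable_sum (fun j _ => hsummand y hy j)
  · have hErec := h9_Erec E hE
    have hlim : Tendsto (fun y : ℝ =>
        ∑ j ∈ Finset.range (P.natDegree + 1), h9G j (y : ℂ) • P.coeff j)
        (𝓝[Set.Ioo (-1 : ℝ) 1] (-1 : ℝ))
        (𝓝 (∑ j ∈ Finset.range (P.natDegree + 1), ((E j : ℂ) / 2) • P.coeff j)) := by
      apply tendsto_finsetSum
      intro j _
      exact (h9G_tendsto E hErec j).smul_const _
    have hval : (∑ j ∈ Finset.range (P.natDegree + 1), ((E j : ℂ) / 2) • P.coeff j) =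
        (2 : ℂ)⁻¹ • ∑ j ∈ Finset.range (P.natDegree + 1), ((E j : ℚ) : ℂ) • P.coeff j := by
      rw [Finset.smul_sum]
      apply Finset.sum_congr rfl
      intro j _
      rw [smul_smul]
      congr 1
      ring
    rw [← hval]
    refine hlim.congr' ?_
    apply eventually_nhdsWithin_of_forall
    intro y hy'
    have hnorm : ‖(y : ℂ)‖ < 1 := by
      rw [Complex.norm_real, Real.norm_eq_abs, abs_lt]
      exact ⟨hy'.1, hy'.2⟩
    exact (htsum (y : ℂ) hnorm).symm

end Groth.Agent.S17878
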