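import Groth.Statements.S17881
import Mathlib

set_option autoImplicit false
universe u
open CAlg

namespace Groth.Agent.S17881

/-- Let O be a subring of a nontrivial commutative ring A. The following are equivalent: (i) A is a
local ring, every non-unit of A belongs to O, and for every unit u of A one of u, u⁻¹ belongs to O —
equivalently O is the preimage in the local ring A of a valuation ring of the residue field of A,
which makes O a semi-valuation ring with semi-fraction ring A; (ii) for all f, g in A generating the
unit ideal, either f ∈ gO or g ∈ fO. (A is taken nontrivial: over the zero ring (ii) holds and (i)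
fails.) -/
theorem result (A : Type u) [CommRing A] [Nontrivial A]
    (O : Subring A) :
    (IsLocalRing A ∧ (∀ a : A, ¬ IsUnit a → a ∈ O) ∧ (∀ u : Aˣ, (u : A) ∈ O ∨ ((u⁻¹ : Aˣ) : A) ∈ O)) ↔
      ∀ f g : A, IsCoprime f g → (∃ o ∈ O, f = g * o) ∨ (∃ o ∈ O, g = f * o) := by
  constructor
  · rintro ⟨hloc, hnu, hu⟩ f g hfg
    -- key: if f is a unit then the conclusion holds
    have key : ∀ f g : A, IsUnit f → (∃ o ∈ O, f = g * o) ∨ (∃ o ∈ O, g = f * o) := by
      intro f g hf
      obtain ⟨uf, rfl⟩ := hf
      by_cases hg : IsUnit g
      · obtain ⟨ug, rfl⟩ := hg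
        rcases hu (uf⁻¹ * ug) with h1 | h1
        · right
          refine ⟨_, h1, ?_⟩
          simp
        · left
          refine ⟨_, h1, ?_⟩
          simp
      · right
        refine ⟨(uf⁻¹ : Aˣ) * g, hnu _ ?_, ?_⟩
        · intro hcon
          apply hg
          have := (uf.isUnit).mul hcon
          simpa using this
        · simp
    obtain ⟨a, b, hab⟩ := hfg
    have hor : IsUnit (a * f) ∨ IsUnit (b * g) := IsLocalRing.isUnit_or_isUnit_of_add_one hab
    rcases hor with h1 | h1
    · exact key f g (isUnit_of_mul_isUnit_right h1)
    · rcases key g f (isUnit_of_mul_isUnit_right h1) with h2 | h2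
      · exact Or.inr h2
      · exact Or.inl h2
  · intro h
    refine ⟨?_, ?_, ?_⟩
    · apply IsLocalRing.of_isUnit_or_isUnit_one_sub_self
      intro a
      have hc : IsCoprime a (1 - a) := ⟨1, 1, by ring⟩
      rcases h a (1 - a) hc with ⟨o, -, ho⟩ | ⟨o, -, ho⟩
      · right
        refine IsUnit.of_mul_eq_one (1 + o) ?_
        linear_combination -ho
      · left
        refine IsUnit.of_mul_eq_one (1 + o) ?_
        linear_combination -ho
    · intro a ha
      have hc : IsCoprime a 1 := isCoprime_one_right
      rcases h a 1 hc with ⟨o, ho, hao⟩ | ⟨o, -, hao⟩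
      · rw [one_mul] at hao
        rwa [hao]
      · exact absurd (IsUnit.of_mul_eq_one o hao.symm) ha
    · intro u
      have hc : IsCoprime (u : A) 1 := isCoprime_one_right
      rcases h u 1 hc with ⟨o, ho, hao⟩ | ⟨o, ho, hao⟩
      · left
        rw [one_mul] at hao
        rwa [hao]
      · right
        have : ((u⁻¹ : Aˣ) : A) = o := by
          rw [Units.inv_eq_of_mul_eq_one_right hao.symm]
        rwa [this]

end Groth.Agent.S17881
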