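import Groth.Statements.S17882
import Mathlib

set_option autoImplicit false
universe u
open CAlg

namespace Groth.Agent.S17882

/-- Let B be a commutative ring, r ≥ 1, N a finitely generated submodule of B^r, and n_1, …, n_r ∈ N.
Suppose the determinant of the matrix with rows n_1, …, n_r is a nonzerodivisor of B and that the
determinant of every matrix whose rows lie in N is a multiple of it (the image of the top exterior
power of N in that of B^r ≅ B is the principal ideal generated by n_1 ∧ ⋯ ∧ n_r, a nonzerodivisor).
Then n_1, …, n_r are linearly independent over B and span N: N is free of rank r with this basis. -/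
theorem result (B : Type u) [CommRing B] (r : ℕ) (hr : 0 < r)
    (N : Submodule B (Fin r → B)) (hN : N.FG) (n : Fin r → (Fin r → B)) (hn : ∀ i, n i ∈ N)
    (hgen : ∀ m : Fin r → (Fin r → B), (∀ i, m i ∈ N) →
      Matrix.det (Matrix.of m) ∈ Ideal.span {Matrix.det (Matrix.of n)})
    (hnzd : Matrix.det (Matrix.of n) ∈ nonZeroDivisors B) :
    LinearIndependent B n ∧ Submodule.span B (Set.range n) = N := by
  classical
  set M : Matrix (Fin r) (Fin r) B := Matrix.of n with hM
  have hcancel : ∀ v : Fin r → B, M.det • v = 0 → v = 0 := by
    intro v hv
    funext i
    have := congrFun hv i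
    simp only [Pi.smul_apply, smul_eq_mul, Pi.zero_apply] at this
    exact (mem_nonZeroDivisors_iff.mp hnzd).1 _ this
  constructor
  · rw [Fintype.linearIndependent_iff]
    intro c hc
    have h1 : Matrix.vecMul c M = 0 := by
      funext j
      have := congrFun hc j
      simp only [Finset.sum_apply, Pi.smul_apply, smul_eq_mul, Pi.zero_apply] at this
      simpa [Matrix.vecMul, dotProduct, hM] using this
    have h2 : Matrix.vecMul (Matrix.vecMul c M) M.adjugate = 0 := by rw [h1]; simp
    rw [Matrix.vecMul_vecMul, Matrix.mul_adjugate, Matrix.vecMul_smul, Matrix.vecMul_one] at h2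
    have := hcancel c h2
    intro i; exact congrFun this i
  · apply le_antisymm
    · rw [Submodule.span_le]
      rintro _ ⟨i, rfl⟩
      exact hn i
    · intro x hx
      have hc : ∀ i, ∃ c, (M.updateRow i x).det = M.det * c := by
        intro i
        have := hgen (Function.update n i x) (by
          intro k
          by_cases hk : k = i
          · subst hk; simpa using hx
          · simpa [Function.update_of_ne hk] using hn k)
        obtain ⟨c, hc⟩ := Ideal.mem_span_singleton'.mp this
        refine ⟨c, ?_⟩
        rw [mul_comm, hc]
        rfl
      choose c hc using hc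
      have hcr : M.det • x = M.det • ∑ i, c i • n i := by
        have h1 := Matrix.mulVec_cramer M.transpose x
        rw [Matrix.det_transpose] at h1
        rw [← h1]
        funext j
        simp only [Matrix.mulVec, dotProduct, Matrix.transpose_apply, Matrix.cramer_transpose_apply,
          Pi.smul_apply, Finset.sum_apply, smul_eq_mul, Finset.mul_sum, hc]
        apply Finset.sum_congr rfl
        intro i _
        simp only [hM, Matrix.of_apply]
        ring
      have h3 : x - ∑ i, c i • n i = 0 := hcancel _ (by rw [smul_sub, hcr, sub_self])
      have h4 : x = ∑ i, c i • n i := sub_eq_zero.mp h3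
      rw [h4]
      exact Submodule.sum_mem _ (fun i _ => Submodule.smul_mem _ _ (Submodule.subset_span ⟨i, rfl⟩))

end Groth.Agent.S17882
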