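import Groth.Statements.S17901
import Mathlib
import Groth.Agent.Lib.helper9.FibSq

set_option autoImplicit false
universe u
open TensorProduct
open Pinch

namespace Groth.Agent.S17901

/-- Let R be a commutative ring and let B' → B → A, B' → A' → A be a fibre square of R-algebras (B' = B
×_A A') with A' → A surjective, where B, A' and A are flat over R. Then for every commutative
R-algebra R' the square obtained by applying R' ⊗_R − is again a fibre square: R' ⊗_R A' → R' ⊗_R A
is surjective and every pair of elements of R' ⊗_R B and R' ⊗_R A' with the same image in R' ⊗_R A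
is the image of a unique element of R' ⊗_R B'. (The published lemma concludes that the base-changed
square of spectra is co-cartesian in ringed spaces; this row states the ring form, surjective edge
and fibre product, which its proof establishes before translating it to ringed spaces.) -/
theorem result (R B' B A' A : Type u) [CommRing R] [CommRing B'] [CommRing B] [CommRing A'] [CommRing A]
    [Algebra B' B] [Algebra B' A'] [Algebra B A] [Algebra A' A] [Algebra B' A]
    [IsScalarTower B' B A] [IsScalarTower B' A' A]
    [Algebra R B'] [Algebra R B] [Algebra R A'] [Algebra R A]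
    [IsScalarTower R B' B] [IsScalarTower R B' A'] [IsScalarTower R B' A] [IsScalarTower R B A] [IsScalarTower R A' A]
    (hsq : EtMil.IsFibreSquare B' B A' A)
    [Module.Flat R B] [Module.Flat R A'] [Module.Flat R A]
    (R' : Type u) [CommRing R'] [Algebra R R'] :
    Function.Surjective (Algebra.TensorProduct.map (AlgHom.id R R') (IsScalarTower.toAlgHom R A' A)) ∧
    ∀ (x : R' ⊗[R] B) (y : R' ⊗[R] A'),
      Algebra.TensorProduct.map (AlgHom.id R R') (IsScalarTower.toAlgHom R B A) x =
        Algebra.TensorProduct.map (AlgHom.id R R') (IsScalarTower.toAlgHom R A' A) y →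
      ∃! z : R' ⊗[R] B',
        Algebra.TensorProduct.map (AlgHom.id R R') (IsScalarTower.toAlgHom R B' B) z = x ∧
        Algebra.TensorProduct.map (AlgHom.id R R') (IsScalarTower.toAlgHom R B' A') z = y := by
  obtain ⟨hGinj, hFsurj, hex⟩ := h9Fib_props R B' B A' A hsq
  have hAlg : ∀ (S T : Type u) [CommRing S] [CommRing T] [Algebra R S] [Algebra R T] (φ : S →ₐ[R] T)
      (z : TensorProduct R R' S),
      Algebra.TensorProduct.map (AlgHom.id R R') φ z = (φ.toLinearMap.lTensor R') z := by
    intro S T _ _ _ _ φ z
    rfl
  refine ⟨?_, ?_⟩
  · intro a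
    obtain ⟨a', ha'⟩ := LinearMap.lTensor_surjective R'
      (g := (IsScalarTower.toAlgHom R A' A).toLinearMap) hsq.1 a
    exact ⟨a', by rw [hAlg]; exact ha'⟩
  · intro x y hxy
    rw [hAlg, hAlg] at hxy
    have hGinj' : Function.Injective ((h9FibG R B' B A').lTensor R') :=
      LinearMap.lTensor_injective_of_exact_of_flat (h9FibF R B A' A) hFsurj (h9FibG R B' B A') hGinj hex R'
    have hex' : Function.Exact ((h9FibG R B' B A').lTensor R') ((h9FibF R B A' A).lTensor R') :=
      lTensor_exact R' hex hFsurj
    have ha : (TensorProduct.prodRight R R R' B A').toLinearMap ∘ₗ ((h9FibG R B' B A').lTensor R') =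
        LinearMap.prod ((IsScalarTower.toAlgHom R B' B).toLinearMap.lTensor R')
          ((IsScalarTower.toAlgHom R B' A').toLinearMap.lTensor R') := by
      apply TensorProduct.ext'
      intro r b'
      simp [h9FibG]
    have hb : ((h9FibF R B A' A).lTensor R') =
        (LinearMap.coprod ((IsScalarTower.toAlgHom R B A).toLinearMap.lTensor R')
          (- ((IsScalarTower.toAlgHom R A' A).toLinearMap.lTensor R'))) ∘ₗ
          (TensorProduct.prodRight R R R' B A').toLinearMap := by
      apply TensorProduct.ext'
      intro r p
      simp [h9FibF, TensorProduct.tmul_add, TensorProduct.tmul_neg]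
    have hw : ((h9FibF R B A' A).lTensor R') ((TensorProduct.prodRight R R R' B A').symm (x, y)) = 0 := by
      rw [hb]
      simp only [LinearMap.comp_apply, LinearEquiv.coe_coe, LinearEquiv.apply_symm_apply,
        LinearMap.coprod_apply, LinearMap.neg_apply]
      rw [hxy]; abel
    obtain ⟨z, hz⟩ := (hex' _).mp hw
    have hz' : (TensorProduct.prodRight R R R' B A') (((h9FibG R B' B A').lTensor R') z) = (x, y) := by
      rw [hz, LinearEquiv.apply_symm_apply]
    have ha' := fun z => congrArg (fun φ => φ z) ha
    simp only [LinearMap.comp_apply, LinearEquiv.coe_coe, LinearMap.prod_apply, Function.prod] at ha'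
    refine ⟨z, ?_, ?_⟩
    · rw [ha' z] at hz'
      simp only [hAlg]
      exact ⟨congrArg Prod.fst hz', congrArg Prod.snd hz'⟩
    · rintro z₂ ⟨h1, h2⟩
      rw [hAlg] at h1 h2
      apply hGinj'
      apply (TensorProduct.prodRight R R R' B A').injective
      rw [hz', ha' z₂, h1, h2]

end Groth.Agent.S17901
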