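import Groth.Statements.S17933
import Mathlib

set_option autoImplicit false
universe u
open MultCrv

namespace Groth.Agent.S17933

/-- Let R be a discrete valuation ring, n ≥ 1, A = R[X]/(X^n) with z the class of X, and M a finitely
generated A-module. Then M is torsion-free as an R-module if and only if the submodule M^(1) of
elements killed by z is a free R-module. (This is the statement at a closed point of the sheaf
statement: for a primitive multiple curve of multiplicity n the local ring at a closed point is of
the form R[X]/(X^n) with R the local ring of the reduced smooth curve, torsion-freeness is the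
absence of sections with finite support, and local freeness on the reduced curve is freeness of the
stalk; the row is stated for every discrete valuation ring R.) -/
theorem result (R : Type u) [CommRing R] [IsDomain R] [IsDiscreteValuationRing R] (n : ℕ) (hn : 1 ≤ n) (M : Type u) [AddCommGroup M] [Module (MultCrv.Rn R n) M] [Module R M] [IsScalarTower R (MultCrv.Rn R n) M] [Module.Finite (MultCrv.Rn R n) M] : Module.IsTorsionFree R M ↔ Module.Free R ↥(MultCrv.filt2 R n M 1) := by
  have hz : MultCrv.z R n ^ n = 0 := by
    rw [← map_pow, Ideal.Quotient.eq_zero_iff_mem]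
    exact Ideal.mem_span_singleton_self _
  have hfinA : Module.Finite R (MultCrv.Rn R n) :=
    (Polynomial.monic_X_pow n).finite_adjoinRoot
  have hfinM : Module.Finite R M := Module.Finite.trans (MultCrv.Rn R n) M
  constructor
  · intro htf
    have hN : IsNoetherian R M := isNoetherian_of_isNoetherianRing_of_finite R M
    have e : ↥((MultCrv.filt2 R n M 1).restrictScalars R) ≃ₗ[R] ↥(MultCrv.filt2 R n M 1) :=
      { toFun := fun x => ⟨x.1, x.2⟩
        invFun := fun x => ⟨x.1, x.2⟩
        map_add' := fun _ _ => rfl
        map_smul' := fun _ _ => rfl
        left_inv := fun _ => rfl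
        right_inv := fun _ => rfl }
    have hfin' : Module.Finite R ↥((MultCrv.filt2 R n M 1).restrictScalars R) := inferInstance
    have hfin : Module.Finite R ↥(MultCrv.filt2 R n M 1) := Module.Finite.equiv e
    have htf' : Module.IsTorsionFree R ↥(MultCrv.filt2 R n M 1) :=
      Function.Injective.moduleIsTorsionFree (Subtype.val) Subtype.val_injective (fun r m => rfl)
    exact Module.free_of_finite_type_torsion_free'
  · intro hfree
    have htf' : Module.IsTorsionFree R ↥(MultCrv.filt2 R n M 1) := inferInstance
    have key : ∀ (r : R), r ≠ 0 → ∀ k : ℕ, ∀ w : M, r • w = 0 → MultCrv.z R n ^ k • w = 0 → w = 0 := by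
      intro r hr k
      induction k with
      | zero => intro w _ hw; simpa using hw
      | succ k ih =>
        intro w hrw hw
        apply ih w hrw
        have hmem : MultCrv.z R n ^ k • w ∈ MultCrv.filt2 R n M 1 := by
          show _ ∈ Submodule.torsionBy _ _ _
          rw [Submodule.mem_torsionBy_iff, pow_one, smul_smul, ← pow_succ']
          exact hw
        have h0 : r • (⟨MultCrv.z R n ^ k • w, hmem⟩ : ↥(MultCrv.filt2 R n M 1)) = 0 := by
          apply Subtype.ext
          show r • (MultCrv.z R n ^ k • w) = 0
          rw [smul_comm, hrw, smul_zero]
        have h1 := (smul_eq_zero_iff_right hr).mp h0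
        exact congrArg Subtype.val h1
    refine ⟨fun r hr => ?_⟩
    have hr0 : r ≠ 0 := hr.ne_zero
    intro u u' huu'
    have h2 : r • (u - u') = 0 := by
      rw [smul_sub]; exact sub_eq_zero.mpr huu'
    have := key r hr0 n (u - u') h2 (by rw [hz]; exact zero_smul (MultCrv.Rn R n) (u - u'))
    exact sub_eq_zero.mp this

end Groth.Agent.S17933
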