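import Groth.Statements.S17934
import Mathlib

set_option autoImplicit false
universe u
open MultCrv

namespace Groth.Agent.S17934

/-- Let R be a discrete valuation ring, n ≥ 1, A = R[X]/(X^n) with z the class of X, and M a finitely
generated A-module that is torsion-free as an R-module. Then for 1 ≤ i ≤ n the graded piece
M^(i)/M^(i-1) of the second canonical filtration (M^(i) the elements killed by z^i) is a free
R-module. (Statement at a closed point of the sheaf statement on a primitive multiple curve of
multiplicity n, whose local rings are of the form R[X]/(X^n) with R the local ring of the reduced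
smooth curve; stated for every discrete valuation ring R.) -/
theorem result (R : Type u) [CommRing R] [IsDomain R] [IsDiscreteValuationRing R] (n : ℕ) (hn : 1 ≤ n) (M : Type u) [AddCommGroup M] [Module (MultCrv.Rn R n) M] [Module R M] [IsScalarTower R (MultCrv.Rn R n) M] [Module.Finite (MultCrv.Rn R n) M] [Module.IsTorsionFree R M] (i : ℕ) (hi : 1 ≤ i) (hin : i ≤ n) : Module.Free R (MultCrv.G2 R n M i) := by
  have hfinA : Module.Finite R (MultCrv.Rn R n) :=
    (Polynomial.monic_X_pow n).finite_adjoinRoot
  have hfinM : Module.Finite R M := Module.Finite.trans (MultCrv.Rn R n) M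
  have hN : IsNoetherian R M := isNoetherian_of_isNoetherianRing_of_finite R M
  have e : ↥((MultCrv.filt2 R n M i).restrictScalars R) ≃ₗ[R] ↥(MultCrv.filt2 R n M i) :=
    { toFun := fun x => ⟨x.1, x.2⟩
      invFun := fun x => ⟨x.1, x.2⟩
      map_add' := fun _ _ => rfl
      map_smul' := fun _ _ => rfl
      left_inv := fun _ => rfl
      right_inv := fun _ => rfl }
  have hfin' : Module.Finite R ↥((MultCrv.filt2 R n M i).restrictScalars R) := inferInstance
  have hfin : Module.Finite R ↥(MultCrv.filt2 R n M i) := Module.Finite.equiv e
  have hfinG : Module.Finite R (MultCrv.G2 R n M i) :=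
    Module.Finite.of_surjective
      ((Submodule.mkQ (Submodule.comap (MultCrv.filt2 R n M i).subtype
        (MultCrv.filt2 R n M (i - 1)))).restrictScalars R)
      (Submodule.mkQ_surjective _)
  have htf : Module.IsTorsionFree R (MultCrv.G2 R n M i) := by
    refine ⟨fun r hr => ?_⟩
    have hr0 : r ≠ 0 := hr.ne_zero
    have key : ∀ w : MultCrv.G2 R n M i, r • w = 0 → w = 0 := by
      intro w hw
      induction w using Submodule.Quotient.induction_on with
      | H u =>
        rw [← Submodule.Quotient.mk_smul, Submodule.Quotient.mk_eq_zero, Submodule.mem_comap] at hw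
        rw [Submodule.Quotient.mk_eq_zero, Submodule.mem_comap]
        have hw' : MultCrv.z R n ^ (i - 1) • (r • (u : M)) = 0 := by
          have : ((MultCrv.filt2 R n M i).subtype (r • u) : M) = r • (u : M) := rfl
          rw [this] at hw
          exact (Submodule.mem_torsionBy_iff _ _).mp hw
        rw [smul_comm] at hw'
        have := (smul_eq_zero_iff_right hr0).mp hw'
        exact (Submodule.mem_torsionBy_iff _ _).mpr this
    intro x y hxy
    have h2 : r • (x - y) = 0 := by
      rw [smul_sub]; exact sub_eq_zero.mpr hxy
    exact sub_eq_zero.mp (key _ h2)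
  exact Module.free_of_finite_type_torsion_free'

end Groth.Agent.S17934
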