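import Groth.Statements.S17962
import Mathlib

set_option autoImplicit false
open CategoryTheory CategoryTheory.Limits AlgebraicGeometry
universe u
open Hensel

namespace Groth.Agent.S17962

/-- Let i : X₀ ⟶ X be a closed immersion such that (X, X₀) is a henselian couple, i.e. for every finite
morphism g : Y ⟶ X every open-closed subset of Y ×_X X₀ is the inverse image under the first
projection of exactly one open-closed subset of Y. Then for every finite morphism h : Y ⟶ X the
couple (Y, Y ×_X X₀), with the first projection as closed immersion, is again henselian. -/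
theorem result {X X₀ : Scheme.{u}}
    (i : X₀ ⟶ X) [IsClosedImmersion i]
    (hX : ∀ (Y : Scheme.{u}) (g : Y ⟶ X), IsFinite g →
      ∀ V : Set ↥(pullback g (i)), IsClopen V →
        ∃! U : Set ↥Y, IsClopen U ∧ (pullback.fst g (i)).base ⁻¹' U = V)
    {Y : Scheme.{u}} (h : Y ⟶ X) [IsFinite h] :
    ∀ (Z : Scheme.{u}) (g : Z ⟶ Y), IsFinite g →
      ∀ V : Set ↥(pullback g (pullback.fst h i)), IsClopen V →
        ∃! U : Set ↥Z, IsClopen U ∧ (pullback.fst g (pullback.fst h i)).base ⁻¹' U = V := by
  intro Z g hg V hV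
  let e := CategoryTheory.Limits.pullbackRightPullbackFstIso h i g
  have he1 : e.hom ≫ CategoryTheory.Limits.pullback.fst (g ≫ h) i =
      CategoryTheory.Limits.pullback.fst g (CategoryTheory.Limits.pullback.fst h i) :=
    CategoryTheory.Limits.pullbackRightPullbackFstIso_hom_fst h i g
  have he2 : e.inv ≫ CategoryTheory.Limits.pullback.fst g (CategoryTheory.Limits.pullback.fst h i) =
      CategoryTheory.Limits.pullback.fst (g ≫ h) i :=
    CategoryTheory.Limits.pullbackRightPullbackFstIso_inv_fst h i g
  have hfin : AlgebraicGeometry.IsFinite (g ≫ h) := inferInstance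
  have hVc : IsClopen (e.inv.base ⁻¹' V) :=
    ⟨hV.1.preimage e.inv.continuous, hV.2.preimage e.inv.continuous⟩
  obtain ⟨U, ⟨hUc, hU⟩, huniq⟩ := hX Z (g ≫ h) hfin (e.inv.base ⁻¹' V) hVc
  have hinvhom : ∀ x, e.inv.base (e.hom.base x) = x := by
    intro x
    have : (e.hom ≫ e.inv).base x = x := by rw [e.hom_inv_id]; rfl
    simpa using this
  have hhominv : ∀ x, e.hom.base (e.inv.base x) = x := by
    intro x
    have : (e.inv ≫ e.hom).base x = x := by rw [e.inv_hom_id]; rfl
    simpa using this
  refine ⟨U, ⟨hUc, ?_⟩, ?_⟩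
  · rw [← he1]
    ext x
    have h1 : e.hom.base x ∈ (CategoryTheory.Limits.pullback.fst (g ≫ h) i).base ⁻¹' U ↔
        e.hom.base x ∈ e.inv.base ⁻¹' V := by rw [hU]
    simp only [Set.mem_preimage] at h1 ⊢
    rw [hinvhom] at h1
    simpa using h1
  · rintro U₂ ⟨hU₂c, hU₂⟩
    apply huniq
    refine ⟨hU₂c, ?_⟩
    rw [← he2, ← hU₂]
    ext x
    simp

end Groth.Agent.S17962
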