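import Groth.Statements.S17969
import Mathlib

set_option autoImplicit false
universe u
open scoped TensorProduct
open CAlg

namespace Groth.Agent.S17969

theorem h9_main {A : Type u} [CommRing A] [IsDomain A] [IsIntegrallyClosed A]
    (K : Type u) [Field K] [Algebra A K] [IsFractionRing A K]
    {B : Type u} [CommRing B] [Algebra A B] [Module.Finite A B] [NoZeroSMulDivisors A B]
    (x : B) (hx : Algebra.adjoin A {x} = ⊤) :
    ∃ P : Polynomial A, P.Monic ∧
      Polynomial.map (algebraMap A K) P =
        (LinearMap.mulLeft K ((1 : K) ⊗ₜ[A] x)).charpoly ∧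
      RingHom.ker (Polynomial.aeval x).toRingHom = Ideal.span {P} := by
  classical
  obtain ⟨ι, hι⟩ : ∃ ι : B →ₐ[A] K ⊗[A] B, ∀ b, ι b = (1 : K) ⊗ₜ[A] b :=
    ⟨Algebra.TensorProduct.includeRight, fun b => rfl⟩
  obtain ⟨y, hy⟩ : ∃ y : K ⊗[A] B, y = (1 : K) ⊗ₜ[A] x := ⟨_, rfl⟩
  have hinjK : Function.Injective (algebraMap A K) := IsFractionRing.injective A K
  have hloc : IsLocalizedModule (nonZeroDivisors A) (TensorProduct.mk A K B 1) :=
    (isLocalizedModule_iff_isBaseChange (nonZeroDivisors A) K _).mpr
      (TensorProduct.isBaseChange A B K)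
  have hιinj : ∀ b : B, (1 : K) ⊗ₜ[A] b = 0 → b = 0 := by
    intro b hb
    have h1 : (TensorProduct.mk A K B 1) b = 0 := hb
    rw [IsLocalizedModule.eq_zero_iff (nonZeroDivisors A)] at h1
    obtain ⟨c, hc⟩ := h1
    rw [Submonoid.smul_def] at hc
    rcases smul_eq_zero.mp hc with h2 | h2
    · exact absurd h2 (nonZeroDivisors.coe_ne_zero c)
    · exact h2
  have haev : ∀ Q : Polynomial A, Polynomial.aeval y (Q.map (algebraMap A K))
      = (1 : K) ⊗ₜ[A] (Polynomial.aeval x Q) := by
    intro Q
    rw [Polynomial.aeval_map_algebraMap, hy, ← hι, ← hι, Polynomial.aeval_algHom_apply]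
  have hint : IsIntegral K y := Algebra.IsIntegral.isIntegral y
  have hyt : Algebra.adjoin K {y} = ⊤ := by
    rw [eq_top_iff]
    have h1 : Algebra.adjoin A {x} ≤ ((Algebra.adjoin K {y}).restrictScalars A).comap ι := by
      apply Algebra.adjoin_le
      intro b hb
      rw [Set.mem_singleton_iff] at hb
      rw [hb]
      show ι x ∈ Algebra.adjoin K {y}
      rw [hι, ← hy]
      exact Algebra.subset_adjoin (Set.mem_singleton y)
    have h2 : ∀ b : B, (1 : K) ⊗ₜ[A] b ∈ Algebra.adjoin K {y} := by
      intro b
      have h3 : b ∈ Algebra.adjoin A {x} := by rw [hx]; exact Algebra.mem_top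
      have h4 := h1 h3
      rw [← hι]
      exact h4
    intro z _
    induction z using TensorProduct.induction_on with
    | zero => exact zero_mem _
    | tmul k b =>
      have h5 : k ⊗ₜ[A] b = k • ((1 : K) ⊗ₜ[A] b) := by
        rw [TensorProduct.smul_tmul', smul_eq_mul, mul_one]
      rw [h5]
      exact Subalgebra.smul_mem _ (h2 b) k
    | add z w hz hw => exact add_mem (hz Algebra.mem_top) (hw Algebra.mem_top)
  obtain ⟨pb, hgen⟩ : ∃ pb : PowerBasis K (K ⊗[A] B), pb.gen = y :=
    ⟨PowerBasis.ofAdjoinEqTop hint hyt, PowerBasis.ofAdjoinEqTop_gen hint hyt⟩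
  have hchar : (LinearMap.mulLeft K y).charpoly = minpoly K y := by
    rw [← LinearMap.charpoly_toMatrix (LinearMap.mulLeft K y) pb.basis, Algebra.toMatrix_lmul_eq]
    have h1 := charpoly_leftMulMatrix pb
    rw [hgen] at h1
    exact h1
  have hxint : IsIntegral A x := Algebra.IsIntegral.isIntegral x
  have hdvd : minpoly K y ∣ (minpoly A x).map (algebraMap A K) := by
    apply minpoly.dvd
    rw [haev, minpoly.aeval, TensorProduct.tmul_zero]
  obtain ⟨P, hP⟩ := IsIntegrallyClosed.eq_map_mul_C_of_dvd K (minpoly.monic hxint) hdvd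
  rw [(minpoly.monic hint).leadingCoeff, map_one, mul_one] at hP
  have hPmonic : P.Monic :=
    Polynomial.monic_of_injective hinjK (by rw [hP]; exact minpoly.monic hint)
  have hPx : Polynomial.aeval x P = 0 := by
    apply hιinj
    rw [← haev, hP, minpoly.aeval]
  refine ⟨P, hPmonic, by rw [hP, ← hy, hchar], ?_⟩
  apply le_antisymm
  · intro Q hQ
    have hQ0 : Polynomial.aeval x Q = 0 := hQ
    rw [Ideal.mem_span_singleton]
    rw [← Polynomial.modByMonic_eq_zero_iff_dvd hPmonic]
    by_contra hR
    have hdiv := Polynomial.modByMonic_add_div Q P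
    have hRx : Polynomial.aeval x (Q %ₘ P) = 0 := by
      have h1 := congrArg (Polynomial.aeval x) hdiv
      rw [map_add, map_mul, hPx, zero_mul, add_zero, hQ0] at h1
      exact h1
    have hRy : minpoly K y ∣ (Q %ₘ P).map (algebraMap A K) := by
      apply minpoly.dvd
      rw [haev, hRx, TensorProduct.tmul_zero]
    have hRne : (Q %ₘ P).map (algebraMap A K) ≠ 0 := by
      intro h0
      apply hR
      apply Polynomial.map_injective _ hinjK
      rw [h0, Polynomial.map_zero]
    have hd1 := Polynomial.degree_le_of_dvd hRy hRne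
    have hd2 := Polynomial.degree_modByMonic_lt Q hPmonic
    rw [← hP, Polynomial.degree_map_eq_of_injective hinjK,
      Polynomial.degree_map_eq_of_injective hinjK] at hd1
    exact absurd hd2 (not_lt.mpr hd1)
  · rw [Ideal.span_singleton_le_iff_mem]
    exact hPx

/-- Let A be an integrally closed domain with fraction field K and B a commutative A-algebra which is
finite and torsion-free as an A-module and generated as an A-algebra by a single element x. Let P be
the characteristic polynomial of multiplication by 1 ⊗ x on the finite free K-module K ⊗_A B. Then P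
has coefficients in A, namely P is the image of a monic polynomial over A, and the kernel of the
A-algebra map A[T] → B sending T to x is generated by that polynomial, so that B is A[T]/(P). -/
theorem result
    (A : Type u) [CommRing A] [IsDomain A] [IsIntegrallyClosed A]
    (B : Type u) [CommRing B] [Algebra A B] [Module.Finite A B] [NoZeroSMulDivisors A B]
    (x : B) (hx : Algebra.adjoin A {x} = ⊤) :
    ∃ P : Polynomial A, P.Monic ∧
      Polynomial.map (algebraMap A (FractionRing A)) P =
        (LinearMap.mulLeft (FractionRing A) ((1 : FractionRing A) ⊗ₜ[A] x)).charpoly ∧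
      RingHom.ker (Polynomial.aeval x).toRingHom = Ideal.span {P} := by
  exact h9_main (FractionRing A) x hx

end Groth.Agent.S17969
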