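import Groth.Statements.S17974
import Mathlib

set_option autoImplicit false
universe u
open Unram

namespace Groth.Agent.S17974

open scoped TensorProduct

/-- Let A be a commutative ring, B an unramified A-algebra (formally unramified and of finite type), C
an A-algebra, p a prime ideal of C, and u, v : B → C two A-algebra homomorphisms which agree after
composition with C → C/p. Then there is an element f of C not in p such that u and v agree after
composition with the localization map C → C[1/f]. -/
theorem result
    (A : Type u) [CommRing A] (B : Type u) [CommRing B] [Algebra A B]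
    [Algebra.FormallyUnramified A B] [Algebra.FiniteType A B]
    (C : Type u) [CommRing C] [Algebra A C] (p : Ideal C) [p.IsPrime]
    (u v : B →ₐ[A] C)
    (huv : (Ideal.Quotient.mk p).comp u.toRingHom = (Ideal.Quotient.mk p).comp v.toRingHom) :
    ∃ f : C, f ∉ p ∧
      (algebraMap C (Localization.Away f)).comp u.toRingHom =
        (algebraMap C (Localization.Away f)).comp v.toRingHom := by
  obtain ⟨t, ht1, ht2⟩ := Algebra.FormallyUnramified.iff_exists_tensorProduct.mp
    (inferInstance : Algebra.FormallyUnramified A B)
  obtain ⟨θ, hθ⟩ : ∃ θ : B ⊗[A] B →ₐ[A] C, ∀ a b, θ (a ⊗ₜ[A] b) = u a * v b :=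
    ⟨Algebra.TensorProduct.productMap u v, Algebra.TensorProduct.productMap_apply_tmul u v⟩
  refine ⟨θ t, ?_, ?_⟩
  · intro hmem
    have hw : ∀ b, Ideal.Quotient.mk p (u b) = Ideal.Quotient.mk p (v b) := fun b => RingHom.congr_fun huv b
    have key : ∀ z : B ⊗[A] B, Ideal.Quotient.mk p (θ z)
        = Ideal.Quotient.mk p (u (Algebra.TensorProduct.lmul' A z)) := by
      intro z
      induction z using TensorProduct.induction_on with
      | zero => simp
      | tmul a b =>
        rw [hθ, Algebra.TensorProduct.lmul'_apply_tmul, map_mul, map_mul, map_mul, hw b]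
      | add x y hx hy => rw [map_add, map_add, hx, hy, map_add, map_add, map_add]
    have hq : Ideal.Quotient.mk p (θ t) = 1 := by
      rw [key, ht2, map_one, map_one]
    rw [Ideal.Quotient.eq_zero_iff_mem.mpr hmem] at hq
    exact zero_ne_one hq
  · refine RingHom.ext (fun b => ?_)
    show algebraMap C _ (u b) = algebraMap C _ (v b)
    have h1 : (v b - u b) * θ t = 0 := by
      have h0 := congrArg θ (ht1 b)
      rw [map_mul, map_sub, hθ, hθ, map_one, map_one, one_mul, mul_one, map_zero] at h0
      exact h0
    have h2 := congrArg (algebraMap C (Localization.Away (θ t))) h1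
    rw [map_mul, map_zero, map_sub] at h2
    have hunit : IsUnit (algebraMap C (Localization.Away (θ t)) (θ t)) :=
      IsLocalization.Away.algebraMap_isUnit (θ t)
    have h3 := (hunit.mul_left_eq_zero).mp h2
    exact (sub_eq_zero.mp h3).symm

end Groth.Agent.S17974
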