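import Groth.Statements.S17975
import Mathlib

set_option autoImplicit false
universe u
open Hensel

namespace Groth.Agent.S17975

/-- Let A be a local ring with maximal ideal m and residue field k, C a commutative A-algebra which is
finitely generated as an A-module, Q₀ a monic polynomial of degree n over k, e an A-algebra
isomorphism from C/mC to k[T]/(Q₀), and x an element of C whose class is sent by e to the class of
T. Then x generates C as an A-algebra, and x is a root of a monic polynomial Q over A of degree n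
whose reduction modulo m equals Q₀. -/
theorem result
    (A : Type u) [CommRing A] [IsLocalRing A] (C : Type u) [CommRing C] [Algebra A C] [Module.Finite A C]
    (Q₀ : Polynomial (IsLocalRing.ResidueField A)) (hQ₀ : Q₀.Monic)
    (e : (C ⧸ Ideal.map (algebraMap A C) (IsLocalRing.maximalIdeal A)) ≃ₐ[A] AdjoinRoot Q₀)
    (x : C) (hx : e (Ideal.Quotient.mk (Ideal.map (algebraMap A C) (IsLocalRing.maximalIdeal A)) x) = AdjoinRoot.root Q₀) :
    Algebra.adjoin A {x} = ⊤ ∧
      ∃ Q : Polynomial A, Q.Monic ∧ Q.natDegree = Q₀.natDegree ∧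
        Polynomial.map (IsLocalRing.residue A) Q = Q₀ ∧ Polynomial.aeval x Q = 0 := by
  classical
  set n := Q₀.natDegree with hn
  have hE : ∀ G : Polynomial A, e (Ideal.Quotient.mk (Ideal.map (algebraMap A C) (IsLocalRing.maximalIdeal A)) (Polynomial.aeval x G)) =
      AdjoinRoot.mk Q₀ (G.map (IsLocalRing.residue A)) := by
    intro G
    have h0 : Ideal.Quotient.mk (Ideal.map (algebraMap A C) (IsLocalRing.maximalIdeal A)) (Polynomial.aeval x G) =
        Polynomial.aeval (Ideal.Quotient.mk (Ideal.map (algebraMap A C) (IsLocalRing.maximalIdeal A)) x) G :=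
      (Polynomial.aeval_algHom_apply (Ideal.Quotient.mkₐ A (Ideal.map (algebraMap A C) (IsLocalRing.maximalIdeal A))) x G).symm
    have h1 := Polynomial.aeval_algHom_apply e.toAlgHom (Ideal.Quotient.mk (Ideal.map (algebraMap A C) (IsLocalRing.maximalIdeal A)) x) G
    simp only [AlgEquiv.coe_toAlgHom] at h1
    rw [h0, ← h1, hx, ← Polynomial.aeval_map_algebraMap (IsLocalRing.ResidueField A),
      AdjoinRoot.aeval_eq]
    rfl
  let N₀ : Submodule A C := Submodule.span A (Set.range (fun i : Fin n => x ^ (i : ℕ)))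
  have haevalmem : ∀ G : Polynomial A, G.degree < (n : WithBot ℕ) → Polynomial.aeval x G ∈ N₀ := by
    intro G hG
    rw [Polynomial.aeval_def, Polynomial.eval₂_eq_sum, Polynomial.sum_def]
    refine Submodule.sum_mem _ (fun i hi => ?_)
    have hi' : i < n := by
      have h1 : (i : WithBot ℕ) ≤ G.degree := Polynomial.le_degree_of_mem_supp i hi
      exact_mod_cast lt_of_le_of_lt h1 hG
    rw [← Algebra.smul_def]
    exact Submodule.smul_mem _ _ (Submodule.subset_span ⟨⟨i, hi'⟩, rfl⟩)
  have hres_surj : Function.Surjective (IsLocalRing.residue A) := IsLocalRing.residue_surjective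
  have hcong : ∀ c : C, ∃ G : Polynomial A, G.degree < (n : WithBot ℕ) ∧
      c - Polynomial.aeval x G ∈ (Ideal.map (algebraMap A C) (IsLocalRing.maximalIdeal A)) := by
    intro c
    obtain ⟨g, hg⟩ := AdjoinRoot.mk_surjective (e (Ideal.Quotient.mk (Ideal.map (algebraMap A C) (IsLocalRing.maximalIdeal A)) c))
    have hg' : AdjoinRoot.mk Q₀ (g %ₘ Q₀) = e (Ideal.Quotient.mk (Ideal.map (algebraMap A C) (IsLocalRing.maximalIdeal A)) c) := by
      rw [← hg, AdjoinRoot.mk_eq_mk]
      have h3 := Polynomial.modByMonic_add_div g Q₀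
      refine ⟨-(g /ₘ Q₀), ?_⟩
      rw [mul_neg]
      nth_rewrite 2 [← h3]
      ring
    have hdeg : (g %ₘ Q₀).degree < (n : WithBot ℕ) := by
      have h4 := Polynomial.degree_modByMonic_lt g hQ₀
      rwa [Polynomial.degree_eq_natDegree hQ₀.ne_zero] at h4
    obtain ⟨G, hGmap, hGdeg⟩ := Polynomial.exists_degree_eq_of_mem_lifts
      (f := IsLocalRing.residue A) (p := g %ₘ Q₀)
      ((Polynomial.mem_lifts _).mpr (Polynomial.map_surjective _ hres_surj _))
    refine ⟨G, by rw [hGdeg]; exact hdeg, ?_⟩
    rw [← Ideal.Quotient.eq]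
    apply e.injective
    rw [← hg', hE G, hGmap]
  have hN₀ : N₀ = ⊤ := by
    rw [eq_top_iff]
    apply Submodule.le_of_le_smul_of_le_jacobson_bot (I := IsLocalRing.maximalIdeal A)
      Module.Finite.fg_top (IsLocalRing.maximalIdeal_le_jacobson ⊥)
    intro c _
    obtain ⟨G, hGdeg, hGc⟩ := hcong c
    have hsplit : c = Polynomial.aeval x G + (c - Polynomial.aeval x G) := by ring
    rw [hsplit]
    apply Submodule.add_mem_sup (haevalmem G hGdeg)
    rw [Ideal.smul_top_eq_map]
    exact hGc
  refine ⟨?_, ?_⟩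
  · rw [Algebra.eq_top_iff]
    intro c
    have hc : c ∈ N₀ := by rw [hN₀]; trivial
    have hle : N₀ ≤ Subalgebra.toSubmodule (Algebra.adjoin A {x}) := by
      apply Submodule.span_le.mpr
      rintro _ ⟨i, rfl⟩
      exact Subalgebra.pow_mem _ (Algebra.subset_adjoin (Set.mem_singleton x)) _
    exact hle hc
  · have hxn : x ^ n ∈ N₀ := by rw [hN₀]; trivial
    obtain ⟨a, ha⟩ := (Submodule.mem_span_range_iff_exists_fun A).mp hxn
    let R : Polynomial A := ∑ i : Fin n, Polynomial.C (a i) * Polynomial.X ^ (i : ℕ)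
    have hRdeg : R.degree < (n : WithBot ℕ) := Polynomial.degree_sum_fin_lt a
    let Q : Polynomial A := Polynomial.X ^ n - R
    have hQmonic : Q.Monic := Polynomial.monic_X_pow_sub hRdeg
    have hQdeg : Q.natDegree = n := by
      apply Polynomial.natDegree_eq_of_degree_eq_some
      rw [Polynomial.degree_sub_eq_left_of_degree_lt (by rwa [Polynomial.degree_X_pow]),
        Polynomial.degree_X_pow]
    have hQx : Polynomial.aeval x Q = 0 := by
      simp only [Q, R, map_sub, map_pow, Polynomial.aeval_X, map_sum, map_mul, Polynomial.aeval_C]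
      rw [← ha, sub_eq_zero]
      apply Finset.sum_congr rfl; intro i _
      rw [Algebra.smul_def]
    refine ⟨Q, hQmonic, hQdeg, ?_, hQx⟩
    have hroot : AdjoinRoot.mk Q₀ (Q.map (IsLocalRing.residue A)) = 0 := by
      rw [← hE Q, hQx, map_zero, map_zero]
    have hdvd : Q₀ ∣ Q.map (IsLocalRing.residue A) := AdjoinRoot.mk_eq_zero.mp hroot
    exact Polynomial.eq_of_monic_of_dvd_of_natDegree_le hQ₀ (hQmonic.map _) hdvd
      (by rw [hQmonic.natDegree_map, hQdeg])

end Groth.Agent.S17975
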