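import Groth.Statements.S17979
import Mathlib

set_option autoImplicit false
universe u
open Hensel

namespace Groth.Agent.S17979

/-- Let A be a local ring with residue field k and Q, R polynomials over A with Q monic. If the images
of Q and R in k[T] generate the unit ideal, then Q and R already generate the unit ideal of A[T]. -/
theorem result (A : Type u) [CommRing A] [IsLocalRing A]
    (Q R : Polynomial A) (hQ : Q.Monic)
    (h : IsCoprime (Polynomial.map (IsLocalRing.residue A) Q) (Polynomial.map (IsLocalRing.residue A) R)) :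
    IsCoprime Q R := by
  obtain ⟨ub, vb, huv⟩ := h
  obtain ⟨u, rfl⟩ := Polynomial.map_surjective (IsLocalRing.residue A) IsLocalRing.residue_surjective ub
  obtain ⟨v, rfl⟩ := Polynomial.map_surjective (IsLocalRing.residue A) IsLocalRing.residue_surjective vb
  set P := u * Q + v * R - 1 with hP
  have hPker : P ∈ RingHom.ker (Polynomial.mapRingHom (IsLocalRing.residue A)) := by
    rw [RingHom.mem_ker, hP]
    simp only [Polynomial.coe_mapRingHom, Polynomial.map_sub, Polynomial.map_add, Polynomial.map_mul, Polynomial.map_one]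
    rw [huv, sub_self]
  rw [Polynomial.ker_mapRingHom, IsLocalRing.ker_residue] at hPker
  let B := AdjoinRoot Q
  haveI : Module.Finite A B := hQ.finite_adjoinRoot
  let r : B := AdjoinRoot.mk Q R
  have hmkP : AdjoinRoot.mk Q P ∈ Ideal.map (algebraMap A B) (IsLocalRing.maximalIdeal A) := by
    have := Ideal.mem_map_of_mem (AdjoinRoot.mk Q) hPker
    rwa [Ideal.map_map] at this
  have hone : (1 : B) = AdjoinRoot.mk Q v * r - AdjoinRoot.mk Q P := by
    rw [hP]
    simp only [map_sub, map_add, map_mul, map_one, AdjoinRoot.mk_self, mul_zero, zero_add, r]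
    ring
  let N' : Submodule A B := (Ideal.span {r}).restrictScalars A
  have hle : (⊤ : Submodule A B) ≤ N' ⊔ (IsLocalRing.maximalIdeal A) • (⊤ : Submodule A B) := by
    intro b _
    have hb : b = (b * AdjoinRoot.mk Q v) * r - b * AdjoinRoot.mk Q P := by
      rw [mul_assoc, ← mul_sub, ← hone, mul_one]
    rw [hb]
    apply Submodule.sub_mem
    · apply Submodule.mem_sup_left
      change _ ∈ Ideal.span {r}
      exact Ideal.mul_mem_left _ _ (Ideal.subset_span rfl)
    · apply Submodule.mem_sup_right
      rw [Ideal.smul_top_eq_map]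
      change _ ∈ Ideal.map (algebraMap A B) (IsLocalRing.maximalIdeal A)
      exact Ideal.mul_mem_left _ _ hmkP
  have htop := Submodule.le_of_le_smul_of_le_jacobson_bot Module.Finite.fg_top
    (IsLocalRing.maximalIdeal_le_jacobson ⊥) hle
  have h1 : (1 : B) ∈ Ideal.span {r} := htop (Submodule.mem_top : (1 : B) ∈ ⊤)
  obtain ⟨s, hs⟩ := Ideal.mem_span_singleton'.mp h1
  obtain ⟨S, rfl⟩ := AdjoinRoot.mk_surjective s
  have : AdjoinRoot.mk Q (S * R - 1) = 0 := by
    rw [map_sub, map_mul, map_one, hs, sub_self]
  rw [AdjoinRoot.mk_eq_zero] at this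
  obtain ⟨c, hc⟩ := this
  refine ⟨-c, S, ?_⟩
  linear_combination hc

end Groth.Agent.S17979
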