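import Groth.Statements.S17981
import Mathlib

set_option autoImplicit false
universe u
open Hensel

namespace Groth.Agent.S17981

/-- Let A be a commutative ring, I an ideal contained in the Jacobson radical of A, and B a commutative
A-algebra which is finitely generated as an A-module. Then two idempotents of B with the same image
in B/IB are equal. -/
theorem result (A : Type u) [CommRing A] (I : Ideal A)
    (hI : I ≤ Ideal.jacobson ⊥) (B : Type u) [CommRing B] [Algebra A B] [Module.Finite A B] :
    Set.InjOn (Ideal.Quotient.mk (Ideal.map (algebraMap A B) I)) {e : B | IsIdempotentElem e} := by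
  intro e he f hf hef
  change IsIdempotentElem e at he; change IsIdempotentElem f at hf
  rw [Ideal.Quotient.eq] at hef
  set x := e - f with hx
  have hx3 : x * x * x = x := by
    have he' : e * e = e := he
    have hf' : f * f = f := hf
    rw [hx]
    linear_combination (e + 1 - 3 * f) * he' + (3 * e - f - 1) * hf'
  have hxI : x ∈ (I • ⊤ : Submodule A B) := by
    rw [Ideal.smul_top_eq_map]
    exact hef
  let N : Submodule A B := LinearMap.range (LinearMap.mulRight A x)
  have hNfg : N.FG := by
    have := (Module.Finite.fg_top (R := A) (M := B)).map (LinearMap.mulRight A x)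
    rwa [Submodule.map_top] at this
  have hmul : ∀ z ∈ (I • ⊤ : Submodule A B), ∀ n ∈ N, z * n ∈ I • N := by
    intro z hz
    refine Submodule.smul_induction_on hz ?_ ?_
    · intro a ha t _ n hn
      rw [smul_mul_assoc]
      apply Submodule.smul_mem_smul ha
      obtain ⟨y, rfl⟩ := hn
      exact ⟨t * y, by simp [mul_assoc]⟩
    · intro z₁ z₂ h₁ h₂ n hn
      rw [add_mul]
      exact Submodule.add_mem _ (h₁ n hn) (h₂ n hn)
  have hle : N ≤ I • N := by
    rintro _ ⟨y, rfl⟩
    have : (LinearMap.mulRight A x) y = x * (x * y * x) := by
      simp only [LinearMap.mulRight_apply]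
      linear_combination (-y) * hx3
    rw [this]
    exact hmul x hxI _ ⟨x * y, by simp⟩
  have hbot := Submodule.eq_bot_of_le_smul_of_le_jacobson_bot I N hNfg hle hI
  have hxN : x ∈ N := ⟨1, by simp⟩
  rw [hbot, Submodule.mem_bot] at hxN
  exact sub_eq_zero.mp hxN

end Groth.Agent.S17981
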