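import Groth.Statements.S18019
import Mathlib

set_option autoImplicit false
universe u
open ClassStk

namespace Groth.Agent.S18019

open Polynomial in
/-- Let R be an integral domain of characteristic 2 and let a be a nonzero element of R, so that x ↦ x +
a defines an R-algebra involution of the polynomial ring R[x] (an action of the group of order two).
A polynomial f is invariant, f(x + a) = f(x), if and only if f belongs to the R-subalgebra generated
by u = x (x + a); in other words the ring of invariants is the polynomial ring R[u]. -/
theorem result (R : Type u) [CommRing R] [IsDomain R]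
    [CharP R 2] (a : R) (ha : a ≠ 0) (f : Polynomial R) :
    f.comp (X + C a) = f ↔ f ∈ Algebra.adjoin R ({X * (X + C a)} : Set (Polynomial R)) := by
  have hu : (X * (X + C a) : R[X]).Monic := monic_X.mul (monic_X_add_C a)
  have hudeg : (X * (X + C a) : R[X]).natDegree = 2 := by
    rw [natDegree_mul X_ne_zero (X_add_C_ne_zero a), natDegree_X, natDegree_X_add_C]
  have hune : (X * (X + C a) : R[X]) ≠ 1 := by
    intro h
    rw [h, natDegree_one] at hudeg
    omega
  have hσu : (X * (X + C a) : R[X]).comp (X + C a) = X * (X + C a) := by
    rw [mul_comp, add_comp, X_comp, C_comp, add_assoc, ← C_add, CharTwo.add_self_eq_zero, C_0,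
      add_zero, mul_comm]
  constructor
  · intro hf
    obtain ⟨n, hn⟩ : ∃ n, f.natDegree = n := ⟨_, rfl⟩
    induction n using Nat.strong_induction_on generalizing f with
    | _ n ih =>
      have hdiv := modByMonic_add_div f (X * (X + C a))
      obtain ⟨q, hq⟩ : ∃ q, q = f /ₘ (X * (X + C a)) := ⟨_, rfl⟩
      obtain ⟨r, hr⟩ : ∃ r, r = f %ₘ (X * (X + C a)) := ⟨_, rfl⟩
      rw [← hq, ← hr] at hdiv
      have hr1 : r.natDegree ≤ 1 := by
        have h0 := natDegree_modByMonic_lt f hu hune
        rw [hudeg, ← hr] at h0
        omega
      obtain ⟨c, hc⟩ : ∃ c, c = r.coeff 1 := ⟨_, rfl⟩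
      obtain ⟨d, hd⟩ : ∃ d, d = r.coeff 0 := ⟨_, rfl⟩
      have hrc : r = C c * X + C d := by
        rw [hc, hd]
        exact eq_X_add_C_of_natDegree_le_one hr1
      have hσr : r.comp (X + C a) = C c * X + C (c * a + d) := by
        rw [hrc, add_comp, mul_comp, C_comp, X_comp, C_comp, C_add, C_mul]
        ring
      have hdegσr : (C c * X + C (c * a + d)).degree < (X * (X + C a) : R[X]).degree := by
        have h1 : (C c * X + C (c * a + d)).degree ≤ 1 := degree_linear_le
        have h2 : (X * (X + C a) : R[X]).degree = ((2 : ℕ) : WithBot ℕ) := by
          rw [degree_eq_natDegree hu.ne_zero, hudeg]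
        rw [h2]
        refine lt_of_le_of_lt h1 ?_
        exact_mod_cast (by norm_num : (1 : ℕ) < 2)
      have key : (C c * X + C (c * a + d)) + X * (X + C a) * q.comp (X + C a) = f := by
        calc (C c * X + C (c * a + d)) + X * (X + C a) * q.comp (X + C a)
            = (r + X * (X + C a) * q).comp (X + C a) := by rw [add_comp, mul_comp, hσu, hσr]
          _ = f.comp (X + C a) := by rw [hdiv]
          _ = f := hf
      have huniq := div_modByMonic_unique (f := f) (q.comp (X + C a)) (C c * X + C (c * a + d)) hu
        ⟨key, hdegσr⟩
      have hqσ : q.comp (X + C a) = q := huniq.1.symm.trans hq.symm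
      have h2 : C c * X + C d = C c * X + C (c * a + d) := hrc.symm.trans (hr.trans huniq.2)
      have h3 : d = c * a + d := C_injective (add_left_cancel h2)
      have hca : c * a = 0 := by
        have h4 : c * a + d = 0 + d := by rw [zero_add]; exact h3.symm
        exact add_right_cancel h4
      have hc0 : c = 0 := (mul_eq_zero.mp hca).resolve_right ha
      have hqS : q ∈ Algebra.adjoin R ({X * (X + C a)} : Set (Polynomial R)) := by
        by_cases hq0 : q = 0
        · rw [hq0]; exact Subalgebra.zero_mem _
        · have hnd : q.natDegree = f.natDegree - 2 := by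
            rw [hq, natDegree_divByMonic f hu, hudeg]
          have hf2 : 2 ≤ f.natDegree := by
            by_contra hlt
            push Not at hlt
            apply hq0
            rw [hq]
            apply (divByMonic_eq_zero_iff hu).mpr
            apply degree_lt_degree
            rw [hudeg]
            exact hlt
          exact ih (f.natDegree - 2) (by omega) q hqσ hnd
      have hfin : f = C d + X * (X + C a) * q := by
        rw [← hdiv, hrc, hc0]
        simp
      have hCd : C d ∈ Algebra.adjoin R ({X * (X + C a)} : Set (Polynomial R)) := by
        have h5 := Subalgebra.algebraMap_mem (Algebra.adjoin R ({X * (X + C a)} : Set (Polynomial R))) d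
        rwa [Polynomial.algebraMap_eq] at h5
      rw [hfin]
      exact Subalgebra.add_mem _ hCd (Subalgebra.mul_mem _ (Algebra.subset_adjoin rfl) hqS)
  · intro hf
    induction hf using Algebra.adjoin_induction with
    | mem x hx =>
      rw [Set.mem_singleton_iff] at hx
      rw [hx]
      exact hσu
    | algebraMap r => rw [Polynomial.algebraMap_eq, C_comp]
    | add x y _ _ hx hy => rw [add_comp, hx, hy]
    | mul x y _ _ hx hy => rw [mul_comp, hx, hy]

end Groth.Agent.S18019
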