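import Groth.Statements.S18020
import Mathlib

set_option autoImplicit false
open W4c5stacksedinertia

namespace Groth.Agent.S18020

theorem h9_card_of (G : Type) [Group G] [Finite G] :
    (W4c5stacksedinertia.Idx.of G).card = Nat.card G := by
  unfold W4c5stacksedinertia.Idx.card W4c5stacksedinertia.Idx.rep W4c5stacksedinertia.Idx.of
  have h := Quotient.mk_out (s := W4c5stacksedinertia.FinGrp.setoid) (W4c5stacksedinertia.FinGrp.of G)
  obtain ⟨e⟩ := h
  rw [Nat.card_congr e.toEquiv]
  show Nat.card (Fin (Nat.card G)) = Nat.card G
  simp

open W4c5stacksedinertia in
/-- In the rational vector space K with basis the isomorphism classes of finite groups (the class of a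
group standing for its classifying groupoid), the inertia operator, which sends the class of a
finite group to the sum over its conjugacy classes of the classes of the centralizers of
representatives, preserves the subspace spanned by the classes of groups of order at most `n`. -/
theorem result (n : ℕ) (v : K) (hv : v ∈ Kle n) :
    inertia v ∈ Kle n := by
  have hbasis : ∀ i : W4c5stacksedinertia.Idx, i.card ≤ n →
      W4c5stacksedinertia.inertiaROf 1 i.rep ∈ W4c5stacksedinertia.Kle n := by
    intro i hi
    unfold W4c5stacksedinertia.inertiaROf
    apply finsum_induction (p := fun x => x ∈ W4c5stacksedinertia.Kle n)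
    · exact Submodule.zero_mem _
    · intro x y hx hy; exact Submodule.add_mem _ hx hy
    · intro O
      unfold W4c5stacksedinertia.cl W4c5stacksedinertia.Kle
      apply Finsupp.single_mem_supported
      show (W4c5stacksedinertia.Idx.of _).card ≤ n
      rw [h9_card_of]
      refine le_trans ?_ hi
      exact Subgroup.card_le_card_group _
  unfold W4c5stacksedinertia.inertia W4c5stacksedinertia.inertiaR
  rw [Finsupp.linearCombination_apply]
  apply Submodule.sum_mem
  intro i hi
  apply Submodule.smul_mem
  apply hbasis
  have := (Finsupp.mem_supported ℚ v).mp hv
  exact this hi

end Groth.Agent.S18020
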