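import Groth.Statements.S18049
import Mathlib

set_option autoImplicit false
open STCI

namespace Groth.Agent.S18049

/-- For natural numbers 0 < k < N such that k does not divide N, ⌊N/k⌋ ≤ (N - k)/gcd(k, N); stated here
in the equivalent cleared form ⌊N/k⌋ · gcd(k, N) ≤ N - k. -/
theorem result (k N : ℕ) (hk : 0 < k) (hkN : k < N) (hndvd : ¬ k ∣ N) :
    N / k * Nat.gcd k N ≤ N - k := by
  obtain ⟨g, a, b, hg, hab, h1, h2⟩ := Nat.exists_coprime' (Nat.gcd_pos_of_pos_left N hk)
  have hgk : Nat.gcd k N = g := by
    rw [h1, h2, Nat.gcd_mul_right, hab.gcd_eq_one, one_mul]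
  rw [hgk]
  subst h1 h2
  have ha2 : 2 ≤ a := by
    rcases a with _ | _ | a
    · simp at hk
    · exfalso; apply hndvd; simp
    · omega
  have hab' : a < b := by
    by_contra hcon
    rw [not_lt] at hcon
    have : b * g ≤ a * g := Nat.mul_le_mul_right g hcon
    omega
  rw [Nat.mul_div_mul_right _ _ hg]
  have key : b / a + a ≤ b := by
    have hdm := Nat.div_add_mod b a
    have hr : 0 < b % a := by
      rcases Nat.eq_zero_or_pos (b % a) with h0 | h0
      · exfalso
        have hdvd : a ∣ b := Nat.dvd_of_mod_eq_zero h0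
        have : a ∣ Nat.gcd a b := Nat.dvd_gcd dvd_rfl hdvd
        rw [hab.gcd_eq_one] at this
        have := Nat.le_of_dvd one_pos this
        omega
      · exact h0
    have hq : 1 ≤ b / a := Nat.div_pos hab'.le (by omega)
    nlinarith
  calc b / a * g = (b/a) * g := rfl
    _ ≤ (b - a) * g := Nat.mul_le_mul_right g (by omega)
    _ = b * g - a * g := Nat.sub_mul b a g

end Groth.Agent.S18049
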