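import Groth.Statements.S18050
import Mathlib

set_option autoImplicit false
open STCI

namespace Groth.Agent.S18050

theorem h9_irem_ss (a b n : ℕ) : W4c5stcicurvesp3.irem a b (n + 2) =
    if W4c5stcicurvesp3.irem a b (n + 1) = 0 then 0
    else W4c5stcicurvesp3.irem a b n % W4c5stcicurvesp3.irem a b (n + 1) := by
  conv_lhs => rw [W4c5stcicurvesp3.irem]

theorem h9_idiv_ss (a b n : ℕ) : W4c5stcicurvesp3.idiv a b (n + 2) =
    if W4c5stcicurvesp3.irem a b (n + 1) = 0 then 0
    else W4c5stcicurvesp3.irem a b n / W4c5stcicurvesp3.irem a b (n + 1) := by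
  conv_lhs => rw [W4c5stcicurvesp3.idiv]

theorem h9_irem_shift (a b : ℕ) (hr : a % b ≠ 0) :
    ∀ n, W4c5stcicurvesp3.irem a b (n + 1) = W4c5stcicurvesp3.irem b (a % b) n ∧
      W4c5stcicurvesp3.irem a b (n + 2) = W4c5stcicurvesp3.irem b (a % b) (n + 1) := by
  intro n
  induction n with
  | zero =>
    refine ⟨?_, ?_⟩
    · simp [W4c5stcicurvesp3.irem]
    · simp [W4c5stcicurvesp3.irem, hr]
  | succ n ih =>
    refine ⟨ih.2, ?_⟩
    show W4c5stcicurvesp3.irem a b (n + 1 + 2) = W4c5stcicurvesp3.irem b (a % b) (n + 2)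
    rw [h9_irem_ss a b (n + 1), h9_irem_ss b (a % b) n]
    rw [show n + 1 + 1 = n + 2 from rfl, ih.2, ih.1]

theorem h9_idiv_shift (a b : ℕ) (hr : a % b ≠ 0) :
    ∀ n, W4c5stcicurvesp3.idiv a b (n + 2) = W4c5stcicurvesp3.idiv b (a % b) (n + 1) := by
  intro n
  rcases n with _ | n
  · simp [W4c5stcicurvesp3.idiv, W4c5stcicurvesp3.irem, hr]
  · show W4c5stcicurvesp3.idiv a b (n + 1 + 2) = W4c5stcicurvesp3.idiv b (a % b) (n + 2)
    rw [h9_idiv_ss a b (n + 1), h9_idiv_ss b (a % b) n]
    rw [show n + 1 + 1 = n + 2 from rfl, (h9_irem_shift a b hr n).2, (h9_irem_shift a b hr n).1]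

theorem h9_sum_Icc_eq_range (F : ℕ → ℕ) (t : ℕ) :
    ∑ i ∈ Finset.Icc 1 t, F i = ∑ i ∈ Finset.range t, F (i + 1) := by
  induction t with
  | zero => simp
  | succ t ih =>
    rw [Finset.sum_Icc_succ_top (by omega), ih, Finset.sum_range_succ]

theorem h9_euclid_main : ∀ (b a t : ℕ), 0 < b → b ≤ a → 0 < t →
    W4c5stcicurvesp3.irem a b t = 0 →
    (∀ i, 0 < i → i < t → W4c5stcicurvesp3.irem a b i ≠ 0) →
    (∑ i ∈ Finset.range t, W4c5stcicurvesp3.idiv a b (i + 1)) * Nat.gcd b a ≤ a := by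
  intro b
  induction b using Nat.strong_induction_on with
  | _ b ih =>
    intro a t hb hba ht hzero hmin
    by_cases hr : a % b = 0
    · have ht1 : t = 1 := by
        by_contra hne
        exact hmin 1 (by omega) (by omega) (by simpa [W4c5stcicurvesp3.irem] using hr)
      subst ht1
      have hdvd : b ∣ a := Nat.dvd_of_mod_eq_zero hr
      simp only [Finset.range_one, Finset.sum_singleton, W4c5stcicurvesp3.idiv]
      rw [Nat.gcd_eq_left hdvd, Nat.div_mul_cancel hdvd]
    · have ht2 : 2 ≤ t := by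
        by_contra hlt
        have : t = 1 := by omega
        subst this
        exact hr (by simpa [W4c5stcicurvesp3.irem] using hzero)
      obtain ⟨t', rfl⟩ : ∃ t', t = t' + 1 := ⟨t - 1, by omega⟩
      have hrpos : 0 < a % b := Nat.pos_of_ne_zero hr
      have hrlt : a % b < b := Nat.mod_lt _ hb
      have hIH := ih (a % b) hrlt b t' hrpos (le_of_lt hrlt) (by omega)
        (by rw [← (h9_irem_shift a b hr t').1]; exact hzero)
        (by
          intro i hi hit
          rw [← (h9_irem_shift a b hr i).1]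
          exact hmin (i + 1) (by omega) (by omega))
      rw [Finset.sum_range_succ']
      have hsum : ∑ i ∈ Finset.range t', W4c5stcicurvesp3.idiv a b (i + 1 + 1) =
          ∑ i ∈ Finset.range t', W4c5stcicurvesp3.idiv b (a % b) (i + 1) := by
        apply Finset.sum_congr rfl
        intro i _
        exact h9_idiv_shift a b hr i
      rw [hsum]
      have hg : Nat.gcd b a = Nat.gcd (a % b) b := Nat.gcd_rec b a
      rw [hg]
      set g := Nat.gcd (a % b) b with hgdef
      set S := ∑ i ∈ Finset.range t', W4c5stcicurvesp3.idiv b (a % b) (i + 1) with hS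
      have hgr : g ≤ a % b := Nat.le_of_dvd hrpos (Nat.gcd_dvd_left _ _)
      have hd : W4c5stcicurvesp3.idiv a b (0 + 1) = a / b := by simp [W4c5stcicurvesp3.idiv]
      rw [hd]
      have hd1 : 1 ≤ a / b := Nat.div_pos hba hb
      have hab : b * (a / b) + a % b = a := Nat.div_add_mod a b
      obtain ⟨d', hd'⟩ : ∃ d', a / b = d' + 1 := ⟨a / b - 1, by omega⟩
      rw [hd'] at hab ⊢
      have h1 : d' * g ≤ d' * b := Nat.mul_le_mul_left _ (by omega)
      nlinarith

open W4c5stcicurvesp3 in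
/-- Let k ≤ N be positive integers, let t be the least positive integer with rem_t(N, k) = 0, where
rem_0 = k, rem_1 = N mod k and rem_i is the remainder of rem_{i-2} by rem_{i-1} (iterated Euclidean
remainders), and let d_i be the corresponding iterated quotients (d_1 = ⌊N/k⌋, d_i =
⌊rem_{i-2}/rem_{i-1}⌋). Then d_1 + ⋯ + d_t ≤ N/gcd(k, N); stated in the cleared form (d_1 + ⋯ + d_t)
· gcd(k, N) ≤ N. -/
theorem result (k N t : ℕ) (hk : 0 < k) (hkN : k ≤ N) (ht : 0 < t)
    (hzero : irem N k t = 0) (hmin : ∀ i, 0 < i → i < t → irem N k i ≠ 0) :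
    (∑ i ∈ Finset.Icc 1 t, idiv N k i) * Nat.gcd k N ≤ N := by
  rw [h9_sum_Icc_eq_range]
  exact h9_euclid_main k N t hk hkN ht hzero hmin

end Groth.Agent.S18050
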