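import Groth.Statements.S18051
import Mathlib

set_option autoImplicit false
open STCI

namespace Groth.Agent.S18051

open W4c5stcicurvesp3 in
/-- Let k ≤ N/2 be positive integers and let r_i = rem_i(N, k), d_i = div_i(N, k) be the iterated
Euclidean remainders and quotients of (N, k) (r_0 = k, r_1 = N mod k, r_2 = r_0 mod r_1, d_1 =
⌊N/k⌋, d_2 = ⌊r_0/r_1⌋). If the least positive t with r_t = 0 satisfies t ≥ 3, i.e. r_1 ≠ 0 and r_2
≠ 0, then (r_0 - r_1)/d_1 + (r_1 - r_2)/(d_1 + d_2) + r_2/(d_1 + d_2 + 1) ≤ k²/N (in ℚ). -/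
theorem result (k N : ℕ) (hk : 0 < k) (hkN : 2 * k ≤ N)
    (h1 : irem N k 1 ≠ 0) (h2 : irem N k 2 ≠ 0) :
    ((irem N k 0 : ℚ) - irem N k 1) / (idiv N k 1)
      + ((irem N k 1 : ℚ) - irem N k 2) / ((idiv N k 1 : ℚ) + idiv N k 2)
      + (irem N k 2 : ℚ) / ((idiv N k 1 : ℚ) + idiv N k 2 + 1)
      ≤ (k : ℚ) ^ 2 / N := by
  have e0 : irem N k 0 = k := rfl
  have e1 : irem N k 1 = N % k := rfl
  have hr1 : N % k ≠ 0 := by rw [← e1]; exact h1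
  have e2 : irem N k 2 = k % (N % k) := by
    show (if irem N k 1 = 0 then 0 else irem N k 0 % irem N k 1) = _
    rw [if_neg h1, e0, e1]
  have f1 : idiv N k 1 = N / k := rfl
  have f2 : idiv N k 2 = k / (N % k) := by
    show (if irem N k 1 = 0 then 0 else irem N k 0 / irem N k 1) = _
    rw [if_neg h1, e0, e1]
  rw [e2] at h2
  rw [e0, e1, e2, f1, f2]
  obtain ⟨r1, hr1def⟩ : ∃ r1, r1 = N % k := ⟨_, rfl⟩
  rw [← hr1def] at hr1 h2 ⊢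
  obtain ⟨r2, hr2def⟩ : ∃ r2, r2 = k % r1 := ⟨_, rfl⟩
  obtain ⟨d1, hd1def⟩ : ∃ d1, d1 = N / k := ⟨_, rfl⟩
  obtain ⟨d2, hd2def⟩ : ∃ d2, d2 = k / r1 := ⟨_, rfl⟩
  rw [← hr2def] at h2 ⊢
  rw [← hd1def, ← hd2def]
  have hN : N = k * d1 + r1 := by rw [hd1def, hr1def]; exact (Nat.div_add_mod N k).symm
  have hkk : k = r1 * d2 + r2 := by rw [hd2def, hr2def]; exact (Nat.div_add_mod k r1).symm
  have hr2lt : r2 < r1 := by rw [hr2def]; exact Nat.mod_lt _ (Nat.pos_of_ne_zero hr1)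
  have hr1lt : r1 < k := by rw [hr1def]; exact Nat.mod_lt _ hk
  have hd1 : 2 ≤ d1 := by rw [hd1def]; exact (Nat.le_div_iff_mul_le hk).mpr hkN
  have hd2 : 1 ≤ d2 := by
    rw [hd2def]; exact Nat.div_pos hr1lt.le (Nat.pos_of_ne_zero hr1)
  obtain ⟨a, ha⟩ : ∃ a : ℚ, a = (d1 : ℚ) - 2 := ⟨_, rfl⟩
  obtain ⟨b, hb⟩ : ∃ b : ℚ, b = (d2 : ℚ) - 1 := ⟨_, rfl⟩
  obtain ⟨e, he⟩ : ∃ e : ℚ, e = (r1 : ℚ) - r2 := ⟨_, rfl⟩
  obtain ⟨r, hr⟩ : ∃ r : ℚ, r = (r2 : ℚ) := ⟨_, rfl⟩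
  have ha0 : 0 ≤ a := by
    rw [ha]; have h3 : (2 : ℚ) ≤ d1 := by exact_mod_cast hd1
    linarith
  have hb0 : 0 ≤ b := by
    rw [hb]; have h3 : (1 : ℚ) ≤ d2 := by exact_mod_cast hd2
    linarith
  have he0 : 0 ≤ e := by
    rw [he]; have h3 : (r2 : ℚ) ≤ r1 := by exact_mod_cast hr2lt.le
    linarith
  have hr0 : 0 < r := by
    rw [hr]; exact_mod_cast Nat.pos_of_ne_zero h2
  have hd1q : (d1 : ℚ) = a + 2 := by rw [ha]; ring
  have hd2q : (d2 : ℚ) = b + 1 := by rw [hb]; ring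
  have hr2q : (r2 : ℚ) = r := hr.symm
  have hr1q : (r1 : ℚ) = r + e := by rw [he, hr]; ring
  have hkq : (k : ℚ) = (r + e) * (b + 1) + r := by
    have h3 := congrArg (Nat.cast : ℕ → ℚ) hkk
    push_cast at h3
    rw [h3, hr1q, hd2q, hr2q]
  have hNq : (N : ℚ) = ((r + e) * (b + 1) + r) * (a + 2) + (r + e) := by
    have h3 := congrArg (Nat.cast : ℕ → ℚ) hN
    push_cast at h3
    rw [h3, hkq, hd1q, hr1q]
  rw [hNq, hkq, hd1q, hd2q, hr1q, hr2q]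
  have hA : (a + 2) ≠ 0 := by positivity
  have hB : (a + 2 + (b + 1)) ≠ 0 := by positivity
  have hC : (a + 2 + (b + 1) + 1) ≠ 0 := by positivity
  have hNpos : 0 < ((r + e) * (b + 1) + r) * (a + 2) + (r + e) := by positivity
  have hNne : ((r + e) * (b + 1) + r) * (a + 2) + (r + e) ≠ 0 := hNpos.ne'
  have key : ((r + e) * (b + 1) + r) ^ 2 / (((r + e) * (b + 1) + r) * (a + 2) + (r + e))
      - (((r + e) * (b + 1) + r - (r + e)) / (a + 2) + (r + e - r) / (a + 2 + (b + 1))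
        + r / (a + 2 + (b + 1) + 1))
      = (1 * a^2 * b^2 * e^2 + 2 * a^2 * b^2 * e * r + 1 * a^2 * b^2 * r^2 + 1 * a^2 * b * e^2 + 4 * a^2 * b * e * r + 3 * a^2 * b * r^2 + 1 * a^2 * e * r + 2 * a^2 * r^2 + 1 * a * b^3 * e^2 + 2 * a * b^3 * e * r + 1 * a * b^3 * r^2 + 6 * a * b^2 * e^2 + 13 * a * b^2 * e * r + 7 * a * b^2 * r^2 + 5 * a * b * e^2 + 19 * a * b * e * r + 14 * a * b * r^2 + 4 * a * e * r + 8 * a * r^2 + 1 * b^3 * e^2 + 2 * b^3 * e * r + 1 * b^3 * r^2 + 5 * b^2 * e^2 + 11 * b^2 * e * r + 6 * b^2 * r^2 + 4 * b * e^2 + 15 * b * e * r + 11 * b * r^2 + 2 * e * r + 6 * r^2)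
        / ((((r + e) * (b + 1) + r) * (a + 2) + (r + e)) * (a + 2) * (a + 2 + (b + 1))
          * (a + 2 + (b + 1) + 1)) := by
    field_simp
    ring
  have hnn : 0 ≤ ((r + e) * (b + 1) + r) ^ 2 / (((r + e) * (b + 1) + r) * (a + 2) + (r + e))
      - (((r + e) * (b + 1) + r - (r + e)) / (a + 2) + (r + e - r) / (a + 2 + (b + 1))
        + r / (a + 2 + (b + 1) + 1)) := by
    rw [key]; positivity
  linarith

end Groth.Agent.S18051
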