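import Groth.Statements.S18052
import Mathlib
import Groth.Agent.S18051

set_option autoImplicit false
open STCI

namespace Groth.Agent.S18052

theorem three_step (a b e r : ℚ) (ha : 0 ≤ a) (hb : 0 ≤ b) (he : 0 ≤ e) (hr : 0 ≤ r)
    (hre : 0 < r + e) :
    ((r + e) * (b + 1) + r - (r + e)) / (a + 2) + (r + e - r) / (a + 2 + (b + 1))
        + r / (a + 2 + (b + 1) + 1)
      ≤ ((r + e) * (b + 1) + r) ^ 2 / (((r + e) * (b + 1) + r) * (a + 2) + (r + e)) := by
  have hA : (a + 2) ≠ 0 := by positivity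
  have hB : (a + 2 + (b + 1)) ≠ 0 := by positivity
  have hC : (a + 2 + (b + 1) + 1) ≠ 0 := by positivity
  have hNpos : 0 < ((r + e) * (b + 1) + r) * (a + 2) + (r + e) := by
    have h3 : 0 ≤ ((r + e) * (b + 1) + r) * (a + 2) := by positivity
    linarith
  have hNne : ((r + e) * (b + 1) + r) * (a + 2) + (r + e) ≠ 0 := hNpos.ne'
  have key : ((r + e) * (b + 1) + r) ^ 2 / (((r + e) * (b + 1) + r) * (a + 2) + (r + e))
      - (((r + e) * (b + 1) + r - (r + e)) / (a + 2) + (r + e - r) / (a + 2 + (b + 1))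
        + r / (a + 2 + (b + 1) + 1))
      = (1 * a^2 * b^2 * e^2 + 2 * a^2 * b^2 * e * r + 1 * a^2 * b^2 * r^2 + 1 * a^2 * b * e^2 + 4 * a^2 * b * e * r + 3 * a^2 * b * r^2 + 1 * a^2 * e * r + 2 * a^2 * r^2 + 1 * a * b^3 * e^2 + 2 * a * b^3 * e * r + 1 * a * b^3 * r^2 + 6 * a * b^2 * e^2 + 13 * a * b^2 * e * r + 7 * a * b^2 * r^2 + 5 * a * b * e^2 + 19 * a * b * e * r + 14 * a * b * r^2 + 4 * a * e * r + 8 * a * r^2 + 1 * b^3 * e^2 + 2 * b^3 * e * r + 1 * b^3 * r^2 + 5 * b^2 * e^2 + 11 * b^2 * e * r + 6 * b^2 * r^2 + 4 * b * e^2 + 15 * b * e * r + 11 * b * r^2 + 2 * e * r + 6 * r^2)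
        / ((((r + e) * (b + 1) + r) * (a + 2) + (r + e)) * (a + 2) * (a + 2 + (b + 1))
          * (a + 2 + (b + 1) + 1)) := by
    field_simp
    ring
  have hnn : 0 ≤ ((r + e) * (b + 1) + r) ^ 2 / (((r + e) * (b + 1) + r) * (a + 2) + (r + e))
      - (((r + e) * (b + 1) + r - (r + e)) / (a + 2) + (r + e - r) / (a + 2 + (b + 1))
        + r / (a + 2 + (b + 1) + 1)) := by
    rw [key]
    exact div_nonneg (by positivity) (by positivity)
  linarith

theorem three_step_nat (k N d1 d2 r1 r2 : ℕ) (hN : N = k * d1 + r1) (hkk : k = r1 * d2 + r2)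
    (hd1 : 2 ≤ d1) (hd2 : 1 ≤ d2) (hr21 : r2 ≤ r1) (hr1 : 0 < r1) :
    ((k : ℚ) - r1) / d1 + ((r1 : ℚ) - r2) / ((d1 : ℚ) + d2) + (r2 : ℚ) / ((d1 : ℚ) + d2 + 1)
      ≤ (k : ℚ) ^ 2 / N := by
  obtain ⟨a, ha⟩ : ∃ a : ℚ, a = (d1 : ℚ) - 2 := ⟨_, rfl⟩
  obtain ⟨b, hb⟩ : ∃ b : ℚ, b = (d2 : ℚ) - 1 := ⟨_, rfl⟩
  obtain ⟨e, he⟩ : ∃ e : ℚ, e = (r1 : ℚ) - r2 := ⟨_, rfl⟩
  obtain ⟨r, hr⟩ : ∃ r : ℚ, r = (r2 : ℚ) := ⟨_, rfl⟩
  have ha0 : 0 ≤ a := by
    rw [ha]; have h3 : (2 : ℚ) ≤ d1 := by exact_mod_cast hd1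
    linarith
  have hb0 : 0 ≤ b := by
    rw [hb]; have h3 : (1 : ℚ) ≤ d2 := by exact_mod_cast hd2
    linarith
  have he0 : 0 ≤ e := by
    rw [he]; have h3 : (r2 : ℚ) ≤ r1 := by exact_mod_cast hr21
    linarith
  have hr0 : 0 ≤ r := by rw [hr]; exact Nat.cast_nonneg _
  have hre : 0 < r + e := by
    rw [he, hr]; have h3 : (0 : ℚ) < r1 := by exact_mod_cast hr1
    linarith
  have hd1q : (d1 : ℚ) = a + 2 := by rw [ha]; ring
  have hd2q : (d2 : ℚ) = b + 1 := by rw [hb]; ring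
  have hr2q : (r2 : ℚ) = r := hr.symm
  have hr1q : (r1 : ℚ) = r + e := by rw [he, hr]; ring
  have hkq : (k : ℚ) = (r + e) * (b + 1) + r := by
    have h3 := congrArg (Nat.cast : ℕ → ℚ) hkk
    push_cast at h3
    rw [h3, hr1q, hd2q, hr2q]
  have hNq : (N : ℚ) = ((r + e) * (b + 1) + r) * (a + 2) + (r + e) := by
    have h3 := congrArg (Nat.cast : ℕ → ℚ) hN
    push_cast at h3
    rw [h3, hkq, hd1q, hr1q]
  rw [hNq, hkq, hd1q, hd2q, hr1q, hr2q]
  exact three_step a b e r ha0 hb0 he0 hr0 hre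

open W4c5stcicurvesp3 in
theorem irem_antitone_succ (N k n : ℕ) (hn : 1 ≤ n) : irem N k (n + 1) ≤ irem N k n := by
  obtain ⟨n', rfl⟩ : ∃ n', n = n' + 1 := ⟨n - 1, by omega⟩
  show (if irem N k (n' + 1) = 0 then 0 else irem N k n' % irem N k (n' + 1))
    ≤ irem N k (n' + 1)
  split_ifs with h
  · exact Nat.zero_le _
  · exact (Nat.mod_lt _ (Nat.pos_of_ne_zero h)).le

theorem sum_range_add_three (F : ℕ → ℚ) (m : ℕ) :
    ∑ i ∈ Finset.range (m + 3), F i = F 0 + F 1 + ∑ i ∈ Finset.range (m + 1), F (i + 2) := by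
  have h : ∀ i, F (i + 1 + 1) = F (i + 2) := fun i => rfl
  rw [Finset.sum_range_succ', Finset.sum_range_succ']
  simp only [zero_add, h]
  ring

open W4c5stcicurvesp3 in
/-- Let k ≤ N/2 be positive integers, let r_i = rem_i(N, k) and d_i = div_i(N, k) be the iterated
Euclidean remainders and quotients of (N, k) (r_0 = k, r_1 = N mod k, …; d_1 = ⌊N/k⌋, d_i =
⌊r_{i-2}/r_{i-1}⌋), and let t be the least positive integer with r_t = 0. Then the sum over i = 0,
…, t - 1 of (r_i - r_{i+1})/(d_1 + ⋯ + d_{i+1}) is at most k²/N (in ℚ). -/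
theorem result (k N t : ℕ) (hk : 0 < k) (hkN : 2 * k ≤ N) (ht : 0 < t)
    (hzero : irem N k t = 0) (hmin : ∀ i, 0 < i → i < t → irem N k i ≠ 0) :
    ∑ i ∈ Finset.range t, ((irem N k i : ℚ) - irem N k (i + 1)) / (∑ j ∈ Finset.Icc 1 (i + 1), (idiv N k j : ℚ))
      ≤ (k : ℚ) ^ 2 / N := by
  have e0 : irem N k 0 = k := rfl
  have e1 : irem N k 1 = N % k := rfl
  have f1 : idiv N k 1 = N / k := rfl
  have hd1 : 2 ≤ N / k := (Nat.le_div_iff_mul_le hk).mpr hkN
  have hS1 : ∑ j ∈ Finset.Icc 1 1, (idiv N k j : ℚ) = (idiv N k 1 : ℚ) := by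
    rw [Finset.Icc_self, Finset.sum_singleton]
  have hS2 : ∑ j ∈ Finset.Icc 1 2, (idiv N k j : ℚ) = (idiv N k 1 : ℚ) + idiv N k 2 := by
    have h3 : Finset.Icc 1 2 = Finset.Icc 1 (1 + 1) := rfl
    rw [h3, Finset.sum_Icc_succ_top (by norm_num), Finset.Icc_self, Finset.sum_singleton]
  obtain ⟨F, hF⟩ : ∃ F : ℕ → ℚ, ∀ i, F i = ((irem N k i : ℚ) - irem N k (i + 1))
      / (∑ j ∈ Finset.Icc 1 (i + 1), (idiv N k j : ℚ)) := ⟨_, fun i => rfl⟩
  have hgoal : ∑ i ∈ Finset.range t, ((irem N k i : ℚ) - irem N k (i + 1))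
      / (∑ j ∈ Finset.Icc 1 (i + 1), (idiv N k j : ℚ)) = ∑ i ∈ Finset.range t, F i :=
    Finset.sum_congr rfl (fun i _ => (hF i).symm)
  rw [hgoal]
  have hF0 : F 0 = ((irem N k 0 : ℚ) - irem N k 1) / (idiv N k 1 : ℚ) := by
    rw [hF 0]; simp only [zero_add]; rw [hS1]
  have hF1 : F 1 = ((irem N k 1 : ℚ) - irem N k 2) / ((idiv N k 1 : ℚ) + idiv N k 2) := by
    rw [hF 1]; simp only [one_add_one_eq_two]; rw [hS2]
  have hNdiv : N = k * (N / k) + N % k := (Nat.div_add_mod N k).symm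
  by_cases ht1 : t = 1
  · subst ht1
    rw [Finset.sum_range_one, hF0, e0, hzero, f1]
    have h0 : N % k = 0 := by rw [← e1]; exact hzero
    have hNq : (N : ℚ) = (k : ℚ) * ((N / k : ℕ) : ℚ) := by
      have h3 : N = k * (N / k) := by rw [h0, add_zero] at hNdiv; exact hNdiv
      have h4 := congrArg (Nat.cast : ℕ → ℚ) h3
      push_cast at h4
      exact h4
    have hkq : (0 : ℚ) < k := by exact_mod_cast hk
    have hdq : (0 : ℚ) < ((N / k : ℕ) : ℚ) := by
      have h3 : 0 < N / k := by omega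
      exact_mod_cast h3
    rw [hNq]
    apply le_of_eq
    rw [Nat.cast_zero, sub_zero, div_eq_div_iff hdq.ne' (mul_pos hkq hdq).ne']
    ring
  · have h1 : irem N k 1 ≠ 0 := hmin 1 (by norm_num) (by omega)
    have hr1 : N % k ≠ 0 := by rw [← e1]; exact h1
    have e2 : irem N k 2 = k % (N % k) := by
      show (if irem N k 1 = 0 then 0 else irem N k 0 % irem N k 1) = _
      rw [if_neg h1, e0, e1]
    have f2 : idiv N k 2 = k / (N % k) := by
      show (if irem N k 1 = 0 then 0 else irem N k 0 / irem N k 1) = _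
      rw [if_neg h1, e0, e1]
    have hr1lt : N % k < k := Nat.mod_lt _ hk
    by_cases ht2 : t = 2
    · subst ht2
      rw [Finset.sum_range_succ, Finset.sum_range_one, hF0, hF1, e0, hzero, e1, f1, f2]
      have h3 := three_step_nat k N (N / k) (k / (N % k)) (N % k) 0 hNdiv
        (by
          have h4 : k % (N % k) = 0 := by rw [← e2]; exact hzero
          have h5 := (Nat.div_add_mod k (N % k)).symm
          rw [h4] at h5
          exact h5)
        hd1 (Nat.div_pos hr1lt.le (Nat.pos_of_ne_zero hr1)) (Nat.zero_le _)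
        (Nat.pos_of_ne_zero hr1)
      simpa using h3
    · obtain ⟨m, rfl⟩ : ∃ m, t = m + 3 := ⟨t - 3, by omega⟩
      have h2 : irem N k 2 ≠ 0 := hmin 2 (by norm_num) (by omega)
      have hres := Groth.Agent.S18051.result k N hk hkN h1 h2
      rw [sum_range_add_three]
      obtain ⟨D, hD⟩ : ∃ D : ℚ, D = (idiv N k 1 : ℚ) + idiv N k 2 + 1 := ⟨_, rfl⟩
      have hDpos : 0 < D := by
        rw [hD]
        have h3 : (0 : ℚ) ≤ (idiv N k 1 : ℚ) := Nat.cast_nonneg _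
        have h4 : (0 : ℚ) ≤ (idiv N k 2 : ℚ) := Nat.cast_nonneg _
        linarith
      have hd3 : 1 ≤ idiv N k (2 + 1) := by
        show 1 ≤ (if irem N k 2 = 0 then 0 else irem N k 1 / irem N k 2)
        rw [if_neg h2]
        exact Nat.div_pos (irem_antitone_succ N k 1 (le_refl 1)) (Nat.pos_of_ne_zero h2)
      have hS3 : ∑ j ∈ Finset.Icc 1 (2 + 1), (idiv N k j : ℚ)
          = (idiv N k 1 : ℚ) + idiv N k 2 + (idiv N k (2 + 1) : ℚ) := by
        rw [Finset.sum_Icc_succ_top (by norm_num), hS2]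
      obtain ⟨g, hg⟩ : ∃ g : ℕ → ℚ, ∀ i, g i = (irem N k (i + 2) : ℚ) := ⟨_, fun i => rfl⟩
      have htail : ∀ i ∈ Finset.range (m + 1), F (i + 2) ≤ (g i - g (i + 1)) / D := by
        intro i _
        rw [hF (i + 2), hg i, hg (i + 1)]
        have h5 : i + 1 + 2 = i + 2 + 1 := by omega
        rw [h5]
        have hnum : (0 : ℚ) ≤ (irem N k (i + 2) : ℚ) - irem N k (i + 2 + 1) := by
          have h6 := irem_antitone_succ N k (i + 2) (by omega)
          have h7 : (irem N k (i + 2 + 1) : ℚ) ≤ irem N k (i + 2) := by exact_mod_cast h6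
          linarith
        have hden : D ≤ ∑ j ∈ Finset.Icc 1 (i + 2 + 1), (idiv N k j : ℚ) := by
          have h6 : ∑ j ∈ Finset.Icc 1 (2 + 1), (idiv N k j : ℚ)
              ≤ ∑ j ∈ Finset.Icc 1 (i + 2 + 1), (idiv N k j : ℚ) :=
            Finset.sum_le_sum_of_subset_of_nonneg
              (Finset.Icc_subset_Icc (le_refl 1) (by omega))
              (fun j _ _ => Nat.cast_nonneg _)
          rw [hS3] at h6
          have h7 : (1 : ℚ) ≤ (idiv N k (2 + 1) : ℚ) := by exact_mod_cast hd3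
          rw [hD]; linarith
        exact div_le_div_of_nonneg_left hnum hDpos hden
      have hsum := Finset.sum_le_sum htail
      rw [← Finset.sum_div, Finset.sum_range_sub', hg 0, hg (m + 1)] at hsum
      have h8 : m + 1 + 2 = m + 3 := by omega
      rw [h8, hzero] at hsum
      simp only [zero_add, Nat.cast_zero, sub_zero] at hsum
      rw [hD] at hsum
      rw [hF0, hF1]
      linarith

end Groth.Agent.S18052
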