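import Groth.Statements.S18053
import Mathlib

set_option autoImplicit false
open STCI

namespace Groth.Agent.S18053

theorem arith_aux (n x y z T : ℕ) (c1 : 5 * x + 2 * n ≤ 45) (c2 : y ≤ x) (c3 : z ≤ y)
    (c4 : x + y + z + T + n ≤ 19) (c5 : T ≤ 16 * z)
    (c6 : 360 ≤ 15 * n + 30 * x + 10 * y + 5 * z + 3 * T) :
    n = 0 ∧ T = 0 ∧ ((x = 9 ∧ y = 8 ∧ z = 2) ∨ (x = 9 ∧ y = 9 ∧ z = 0)
      ∨ (x = 9 ∧ y = 9 ∧ z = 1)) := by
  have hx : x ≤ 9 := by omega
  have hn : n ≤ 19 := by omega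
  interval_cases x <;> interval_cases n <;> omega

/-- Let (p_k)_{k ≥ 1} be a sequence of nonnegative integers and n a nonnegative integer such that (i)
p_1 ≤ 9 - (2/5)n, (ii) p_1 ≥ p_2 ≥ p_3 ≥ ⋯, (iii) Σ_k p_k ≤ 19 - n, and (iv) n/4 + Σ_{k ≥ 1}
p_k/(k(k+1)) ≥ 6. Then n = 0 and (p_k) is one of (9, 8, 2), (9, 9), (9, 9, 1) (followed by zeros).
Here the sequence is indexed from 0 (so p 0 is p_1 and the weight of p k is 1/((k+1)(k+2))), (iii)
is stated for every partial sum, and the series in (iv) is the real sum Σ' over all k. -/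
theorem result (p : ℕ → ℕ) (n : ℕ)
    (h1 : (p 0 : ℝ) ≤ 9 - (2 / 5 : ℝ) * n) (h2 : Antitone p)
    (h3 : ∀ m : ℕ, ((∑ k ∈ Finset.range m, p k : ℕ) : ℝ) ≤ 19 - (n : ℝ))
    (h4 : (6 : ℝ) ≤ (n : ℝ) / 4 + ∑' k : ℕ, (p k : ℝ) / (((k : ℝ) + 1) * ((k : ℝ) + 2))) :
    n = 0 ∧ (p = (fun k => if k = 0 then 9 else if k = 1 then 8 else if k = 2 then 2 else 0)
      ∨ p = (fun k => if k = 0 then 9 else if k = 1 then 9 else 0)
      ∨ p = (fun k => if k = 0 then 9 else if k = 1 then 9 else if k = 2 then 1 else 0)) := by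
  have hsum19 : (∑ k ∈ Finset.range 19, p k) + n ≤ 19 := by
    have h5 := h3 19
    have h6 : (((∑ k ∈ Finset.range 19, p k) + n : ℕ) : ℝ) ≤ 19 := by
      push_cast at h5 ⊢; linarith
    exact_mod_cast h6
  have hsum20 : (∑ k ∈ Finset.range 20, p k) + n ≤ 19 := by
    have h5 := h3 20
    have h6 : (((∑ k ∈ Finset.range 20, p k) + n : ℕ) : ℝ) ≤ 19 := by
      push_cast at h5 ⊢; linarith
    exact_mod_cast h6
  have hp19 : p 19 = 0 := by
    have h5 : ∑ k ∈ Finset.range 20, p 19 ≤ ∑ k ∈ Finset.range 20, p k :=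
      Finset.sum_le_sum (fun k hk => h2 (by have := Finset.mem_range.mp hk; omega))
    rw [Finset.sum_const, Finset.card_range, smul_eq_mul] at h5
    omega
  have hpz : ∀ k, 19 ≤ k → p k = 0 := fun k hk => by
    have h5 := h2 hk
    omega
  obtain ⟨f, hf⟩ : ∃ f : ℕ → ℝ, ∀ k, f k = (p k : ℝ) / (((k : ℝ) + 1) * ((k : ℝ) + 2)) :=
    ⟨_, fun _ => rfl⟩
  have htsum : ∑' k : ℕ, (p k : ℝ) / (((k : ℝ) + 1) * ((k : ℝ) + 2))
      = ∑ k ∈ Finset.range 19, f k := by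
    have h5 : (fun k : ℕ => (p k : ℝ) / (((k : ℝ) + 1) * ((k : ℝ) + 2))) = f :=
      funext (fun k => (hf k).symm)
    rw [h5]
    apply tsum_eq_sum
    intro k hk
    rw [Finset.mem_range, not_lt] at hk
    rw [hf, hpz k hk]; simp
  rw [htsum] at h4
  have hr19 : Finset.range 19 = Finset.range (3 + 16) := rfl
  rw [hr19, Finset.sum_range_add] at h4 hsum19
  obtain ⟨T, hT⟩ : ∃ T : ℕ, T = ∑ i ∈ Finset.range 16, p (3 + i) := ⟨_, rfl⟩
  rw [← hT] at hsum19
  have hhead : ∑ k ∈ Finset.range 3, p k = p 0 + p 1 + p 2 := by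
    rw [Finset.sum_range_succ, Finset.sum_range_succ, Finset.sum_range_one]
  rw [hhead] at hsum19
  have hheadR : ∑ k ∈ Finset.range 3, f k = (p 0 : ℝ) / 2 + (p 1 : ℝ) / 6 + (p 2 : ℝ) / 12 := by
    rw [Finset.sum_range_succ, Finset.sum_range_succ, Finset.sum_range_one, hf 0, hf 1, hf 2]
    norm_num
  have htail : ∑ i ∈ Finset.range 16, f (3 + i) ≤ (T : ℝ) / 20 := by
    rw [hT]; push_cast; rw [Finset.sum_div]
    apply Finset.sum_le_sum
    intro i _
    rw [hf]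
    apply div_le_div_of_nonneg_left (Nat.cast_nonneg _) (by norm_num)
    have h5 : (0 : ℝ) ≤ (i : ℝ) := Nat.cast_nonneg i
    push_cast
    nlinarith
  rw [hheadR] at h4
  have c1 : 5 * p 0 + 2 * n ≤ 45 := by
    have h5 : ((5 * p 0 + 2 * n : ℕ) : ℝ) ≤ 45 := by push_cast; linarith
    exact_mod_cast h5
  have c2 : p 1 ≤ p 0 := h2 (by norm_num)
  have c3 : p 2 ≤ p 1 := h2 (by norm_num)
  have c5 : T ≤ 16 * p 2 := by
    rw [hT]
    have h5 := Finset.sum_le_card_nsmul (Finset.range 16) (fun i => p (3 + i)) (p 2)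
      (fun i _ => h2 (by omega))
    rw [Finset.card_range, smul_eq_mul] at h5
    exact h5
  have c6 : 360 ≤ 15 * n + 30 * p 0 + 10 * p 1 + 5 * p 2 + 3 * T := by
    have h5 : ((360 : ℕ) : ℝ) ≤ ((15 * n + 30 * p 0 + 10 * p 1 + 5 * p 2 + 3 * T : ℕ) : ℝ) := by
      push_cast; linarith
    exact_mod_cast h5
  have hfin : n = 0 ∧ T = 0 ∧ ((p 0 = 9 ∧ p 1 = 8 ∧ p 2 = 2) ∨ (p 0 = 9 ∧ p 1 = 9 ∧ p 2 = 0)
      ∨ (p 0 = 9 ∧ p 1 = 9 ∧ p 2 = 1)) :=
    arith_aux n (p 0) (p 1) (p 2) T c1 c2 c3 hsum19 c5 c6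
  obtain ⟨hn0, hT0, hcases⟩ := hfin
  refine ⟨hn0, ?_⟩
  have hT0' : ∀ i ∈ Finset.range 16, p (3 + i) = 0 := by
    rw [hT0] at hT
    exact Finset.sum_eq_zero_iff.mp hT.symm
  have hk3 : ∀ k, 3 ≤ k → p k = 0 := by
    intro k hk
    by_cases h19 : 19 ≤ k
    · exact hpz k h19
    · have h5 := hT0' (k - 3) (Finset.mem_range.mpr (by omega))
      rwa [show 3 + (k - 3) = k by omega] at h5
  rcases hcases with ⟨a, b, c⟩ | ⟨a, b, c⟩ | ⟨a, b, c⟩
  · left
    funext k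
    rcases k with _ | _ | _ | k
    · rw [if_pos rfl]; exact a
    · rw [if_neg (by omega), if_pos (by omega)]; exact b
    · rw [if_neg (by omega), if_neg (by omega), if_pos (by omega)]; exact c
    · rw [if_neg (by omega), if_neg (by omega), if_neg (by omega)]; exact hk3 _ (by omega)
  · right; left
    funext k
    rcases k with _ | _ | _ | k
    · rw [if_pos rfl]; exact a
    · rw [if_neg (by omega), if_pos (by omega)]; exact b
    · rw [if_neg (by omega), if_neg (by omega)]; exact c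
    · rw [if_neg (by omega), if_neg (by omega)]; exact hk3 _ (by omega)
  · right; right
    funext k
    rcases k with _ | _ | _ | k
    · rw [if_pos rfl]; exact a
    · rw [if_neg (by omega), if_pos (by omega)]; exact b
    · rw [if_neg (by omega), if_neg (by omega), if_pos (by omega)]; exact c
    · rw [if_neg (by omega), if_neg (by omega), if_neg (by omega)]; exact hk3 _ (by omega)

end Groth.Agent.S18053
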