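import Groth.Statements.S18054
import Mathlib

set_option autoImplicit false
open STCI

namespace Groth.Agent.S18054

/-- Let s, t, d, g be integers with t ≥ s ≥ 4, d ≥ 1, g ≥ 0 and d dividing st; put n = st/d and assume n
≥ 2; put r = d[n(s - 4) + t] + (2 - 2g)n and assume r ≤ (s/3)(2s² - 6s + 7) - 1. Then d ≤ g + 3.
(The bound is written cleared of the denominator 3; s(2s² - 6s + 7) is always divisible by 3, so
this is the same condition.) -/
theorem result (s t d g n : ℤ) (hs : 4 ≤ s) (hst : s ≤ t) (hd : 1 ≤ d) (hg : 0 ≤ g)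
    (hn : s * t = d * n) (hn2 : 2 ≤ n)
    (hr : 3 * (d * (n * (s - 4) + t) + (2 - 2 * g) * n) ≤ s * (2 * s ^ 2 - 6 * s + 7) - 3) :
    d ≤ g + 3 := by
  by_contra hcon
  push Not at hcon
  have hd4 : 0 ≤ d - 4 - g := by omega
  have e1 : d * (n * (s - 4) + t) = s * t * (s - 4) + d * t := by
    linear_combination (-(s - 4)) * hn
  have e2 : 10 * n - 2 * (s * t) ≤ (2 - 2 * g) * n := by
    have h := mul_nonneg hd4 (by omega : (0:ℤ) ≤ n)
    rw [hn]; nlinarith
  have h0 : 3 * (s * t * (s - 6) + d * t + 10 * n) ≤ 2 * s ^ 3 - 6 * s ^ 2 + 7 * s - 3 := by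
    rw [e1] at hr
    nlinarith
  have h1 : -8 ≤ s * (s - 6) := by nlinarith [mul_nonneg (by omega : (0:ℤ) ≤ s - 4) (by omega : (0:ℤ) ≤ s - 2)]
  have hB : 0 < d * (s * (s - 6)) + d ^ 2 + 10 * s := by
    have : d * (-8) ≤ d * (s * (s - 6)) := mul_le_mul_of_nonneg_left h1 (by omega)
    nlinarith [sq_nonneg (d - 4)]
  have hK0 : 3 * (t * (d * (s * (s - 6)) + d ^ 2 + 10 * s)) ≤ d * (2 * s ^ 3 - 6 * s ^ 2 + 7 * s - 3) := by
    have h2 := mul_le_mul_of_nonneg_left h0 (by omega : (0:ℤ) ≤ d)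
    have h3 : d * (3 * (s * t * (s - 6) + d * t + 10 * n)) =
        3 * (t * (d * (s * (s - 6)) + d ^ 2 + 10 * s)) := by
      linear_combination (-30) * hn
    rw [h3] at h2
    exact h2
  have hK : 3 * (s * (d * (s * (s - 6)) + d ^ 2 + 10 * s)) ≤ d * (2 * s ^ 3 - 6 * s ^ 2 + 7 * s - 3) := by
    have := mul_le_mul_of_nonneg_right hst hB.le
    linarith
  have hsq : 0 ≤ (6 * s * d + (s ^ 3 - 12 * s ^ 2 - 7 * s + 3)) ^ 2 := sq_nonneg _
  rcases le_or_gt 13 s with h13 | h13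
  · have h4 : 0 < s ^ 2 - 12 * s - 7 := by nlinarith
    have h5 : 0 < s * d * (s ^ 2 - 12 * s - 7) := by positivity
    nlinarith [sq_nonneg d, sq_nonneg s]
  · interval_cases s
    · -- s = 4 : d ∈ {6,7}
      have hd67 : 6 ≤ d ∧ d ≤ 7 := by
        constructor <;> nlinarith
      obtain ⟨h6, h7⟩ := hd67
      interval_cases d
      · have : t ≤ 4 := by linarith
        omega
      · have : t ≤ 4 := by linarith
        omega
    all_goals nlinarith

end Groth.Agent.S18054
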