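import Groth.Statements.S18055
import Mathlib

set_option autoImplicit false
open STCI

namespace Groth.Agent.S18055

/-- Let d ≥ 1, g ≥ 0 and 1 ≤ s ≤ t be integers with d dividing st, put n = st/d and r = d[n(s - 4) + t]
+ (2 - 2g)n, and assume n ≥ 2, r > 0 and (n - 1) divides r. Then s < 2d² and t < 2d⁴. This is the
statement about the degree data (d, g the degree and genus of the curve, s ≤ t the degrees of the
two surfaces) to which the published proof reduces the degree bound: there the divisibility and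
positivity express that r/(n - 1), the common value of the type numbers of the pair, is a positive
integer; the geometric hypotheses themselves are not part of this row. -/
theorem result (d g s t n : ℤ) (hd : 1 ≤ d) (hg : 0 ≤ g) (hs : 1 ≤ s) (hst : s ≤ t)
    (hn : s * t = d * n) (hn2 : 2 ≤ n)
    (hpos : 0 < d * (n * (s - 4) + t) + (2 - 2 * g) * n)
    (hdvd : (n - 1) ∣ d * (n * (s - 4) + t) + (2 - 2 * g) * n) :
    s < 2 * d ^ 2 ∧ t < 2 * d ^ 4 := by
  obtain ⟨q, hq⟩ := hdvd
  have hq1 : 1 ≤ q := by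
    by_contra hcon
    push Not at hcon
    have : q ≤ 0 := by omega
    have h1 : (n - 1) * q ≤ 0 := mul_nonpos_of_nonneg_of_nonpos (by omega) this
    omega
  set c := d * (s - 4) + 2 - 2 * g with hc
  set k := q - c with hk
  have hdt : 1 ≤ d * t := by nlinarith
  have hB0 : (n - 1) * k = c + d * t := by
    rw [hk, mul_sub, ← hq, hc]; ring
  have hA : 1 + d * t ≤ n * k := by
    have : n * k = (n - 1) * k + k := by ring
    rw [this, hB0, hk]; linarith
  have hB : (n - 1) * k ≤ d * (s + t - 4) + 2 := by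
    rw [hB0, hc]; nlinarith
  have hk1 : 1 ≤ k := by
    by_contra hcon
    push Not at hcon
    have : k ≤ 0 := by omega
    have h1 : n * k ≤ 0 := mul_nonpos_of_nonneg_of_nonpos (by omega) this
    omega
  have hn1k : n - 1 ≤ (n - 1) * k := by nlinarith
  have hs2 : s < 2 * d ^ 2 := by
    by_contra hcon
    push Not at hcon
    -- n ≥ 2 d t
    have h1 : d * (2 * d * t) ≤ d * n := by
      rw [← hn]; nlinarith
    have h2 : 2 * d * t ≤ n := le_of_mul_le_mul_left h1 (by omega)
    have h3 : d * (s + t - 4) + 2 ≤ 2 * d * t - 2 := by nlinarith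
    omega
  refine ⟨hs2, ?_⟩
  by_contra hcon
  push Not at hcon
  -- e = k s - d^2 ≥ 1
  have he : 1 ≤ k * s - d ^ 2 := by
    have h1 : s ≤ n * (k * s - d ^ 2) := by
      have : n * (k * s - d ^ 2) = (n * k) * s - d * (d * n) := by ring
      rw [this, ← hn]
      nlinarith
    by_contra hc2
    push Not at hc2
    have : k * s - d ^ 2 ≤ 0 := by omega
    have h1' : n * (k * s - d ^ 2) ≤ 0 := mul_nonpos_of_nonneg_of_nonpos (by omega) this
    omega
  set e := k * s - d ^ 2 with hedef
  have hks : k * s = d ^ 2 + e := by rw [hedef]; ring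
  have hstd : d ≤ s * t - d := by rw [hn]; nlinarith
  have hmain : e * (s * t - d) ≤ d ^ 2 * s ^ 2 - 4 * d ^ 2 * s + 2 * d * s + d ^ 3 := by
    have h1 : (d * s) * ((n - 1) * k) ≤ (d * s) * (d * (s + t - 4) + 2) :=
      mul_le_mul_of_nonneg_left hB (by positivity)
    have h2 : (d * s) * ((n - 1) * k) = (d * n - d) * (k * s) := by ring
    rw [h2, ← hn, hks] at h1
    nlinarith
  have h5 : s * t - d ≤ e * (s * t - d) := by nlinarith
  have h6 : 2 * d ^ 4 * s ≤ s * t := by nlinarith
  have hq0 : 0 ≤ d ^ 2 * s ^ 2 - 4 * d ^ 2 * s + 2 * d * s + d ^ 3 + d - 2 * d ^ 4 * s := by linarith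
  have h7 : 0 ≤ (s - 1) * (2 * d ^ 2 - 1 - s) := mul_nonneg (by omega) (by omega)
  have h8 : 0 ≤ d ^ 2 * ((s - 1) * (2 * d ^ 2 - 1 - s)) := mul_nonneg (by positivity) h7
  have h9 : (4 * d ^ 2 - 2 * d) * 1 ≤ (4 * d ^ 2 - 2 * d) * s := by
    apply mul_le_mul_of_nonneg_left hs; nlinarith
  have h10 : d ^ 3 ≤ d ^ 4 := by
    have : d ^ 4 = d ^ 3 * d := by ring
    rw [this]; nlinarith [pow_pos (by omega : 0 < d) 3]
  have h11 : d ≤ d ^ 2 := by nlinarith
  nlinarith

end Groth.Agent.S18055
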