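import Groth.Statements.S18121
import Mathlib

set_option autoImplicit false
universe u
open Pinch

namespace Groth.Agent.S18121

section pinch
variable {B : Type u} [CommRing B] (b : B)

local notation "gB" => (Polynomial.X ^ 2 - Polynomial.C b : Polynomial B)
local notation "Bz" => AdjoinRoot (Polynomial.X ^ 2 - Polynomial.C b : Polynomial B)
local notation "zz" => AdjoinRoot.root (Polynomial.X ^ 2 - Polynomial.C b : Polynomial B)
local notation "ww" => (MvPolynomial.X 0 ^ 2 - MvPolynomial.C b * MvPolynomial.X 1 ^ 2 : MvPolynomial (Fin 2) B)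
local notation "vv" => (MvPolynomial.X 1 : MvPolynomial (Fin 2) B)
local notation "uu" => (MvPolynomial.X 0 : MvPolynomial (Fin 2) B)

noncomputable def Psi : MvPolynomial (Fin 2) B →ₐ[B] Polynomial Bz :=
  MvPolynomial.aeval ![Polynomial.C zz * Polynomial.X, Polynomial.X]

theorem Psi_X0 : Psi b uu = Polynomial.C zz * Polynomial.X := by
  rw [Psi, MvPolynomial.aeval_X]; rfl

theorem Psi_X1 : Psi b vv = Polynomial.X := by
  rw [Psi, MvPolynomial.aeval_X]; rfl

theorem zz_sq : zz ^ 2 = algebraMap B Bz b := by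
  have h := AdjoinRoot.eval₂_root gB
  rw [Polynomial.eval₂_sub, Polynomial.eval₂_X_pow, Polynomial.eval₂_C, sub_eq_zero] at h
  rw [h, AdjoinRoot.algebraMap_eq]

theorem Psi_w : Psi b ww = 0 := by
  rw [map_sub, map_mul, map_pow, map_pow, Psi_X0, Psi_X1, mul_pow, ← Polynomial.C_pow, zz_sq,
    MvPolynomial.algHom_C, Polynomial.algebraMap_apply, sub_self]

theorem nf_exists (F : MvPolynomial (Fin 2) B) : ∃ F0 F1 : Polynomial B,
    F - (Polynomial.aeval vv F0 + uu * Polynomial.aeval vv F1) ∈ Ideal.span {ww} := by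
  induction F using MvPolynomial.induction_on with
  | C a =>
    refine ⟨Polynomial.C a, 0, ?_⟩
    rw [Polynomial.aeval_C, map_zero, mul_zero, add_zero, MvPolynomial.algebraMap_eq, sub_self]
    exact Ideal.zero_mem _
  | add p q hp hq =>
    obtain ⟨p0, p1, hp⟩ := hp
    obtain ⟨q0, q1, hq⟩ := hq
    refine ⟨p0 + q0, p1 + q1, ?_⟩
    have h : p + q - (Polynomial.aeval vv (p0 + q0) + uu * Polynomial.aeval vv (p1 + q1)) =
        (p - (Polynomial.aeval vv p0 + uu * Polynomial.aeval vv p1)) +
        (q - (Polynomial.aeval vv q0 + uu * Polynomial.aeval vv q1)) := by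
      rw [map_add, map_add]; ring
    rw [h]
    exact Ideal.add_mem _ hp hq
  | mul_X p n hp =>
    obtain ⟨p0, p1, hp⟩ := hp
    by_cases hn : n = 0
    · subst hn
      refine ⟨Polynomial.C b * Polynomial.X ^ 2 * p1, p0, ?_⟩
      have h : p * uu - (Polynomial.aeval vv (Polynomial.C b * Polynomial.X ^ 2 * p1) +
            uu * Polynomial.aeval vv p0) =
          (p - (Polynomial.aeval vv p0 + uu * Polynomial.aeval vv p1)) * uu +
            Polynomial.aeval vv p1 * ww := by
        rw [map_mul, map_mul, map_pow, Polynomial.aeval_C, Polynomial.aeval_X,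
          MvPolynomial.algebraMap_eq]
        ring
      rw [h]
      exact Ideal.add_mem _ (Ideal.mul_mem_right _ _ hp)
        (Ideal.mul_mem_left _ _ (Ideal.subset_span (Set.mem_singleton _)))
    · have hn1 : n = 1 := Fin.eq_one_of_ne_zero n hn
      subst hn1
      refine ⟨p0 * Polynomial.X, p1 * Polynomial.X, ?_⟩
      have h : p * vv - (Polynomial.aeval vv (p0 * Polynomial.X) +
            uu * Polynomial.aeval vv (p1 * Polynomial.X)) =
          (p - (Polynomial.aeval vv p0 + uu * Polynomial.aeval vv p1)) * vv := by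
        rw [map_mul, map_mul, Polynomial.aeval_X]; ring
      rw [h]
      exact Ideal.mul_mem_right _ _ hp

theorem gB_monic : (gB).Monic := Polynomial.monic_X_pow_sub_C b two_ne_zero

theorem gB_natDegree [Nontrivial B] : (gB).natDegree = 2 := Polynomial.natDegree_X_pow_sub_C

theorem lin_indep [Nontrivial B] (α α' : B)
    (h : algebraMap B Bz α + zz * algebraMap B Bz α' = 0) : α = 0 ∧ α' = 0 := by
  have hdeg : (gB).degree = 2 := by
    have := Polynomial.degree_X_pow_sub_C (R := B) (n := 2) (by norm_num) b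
    exact_mod_cast this
  obtain ⟨q, hq⟩ : ∃ q : Polynomial B, q = Polynomial.C α' * Polynomial.X + Polynomial.C α :=
    ⟨_, rfl⟩
  have hmk : AdjoinRoot.mk gB q = 0 := by
    rw [hq, map_add, map_mul, AdjoinRoot.mk_C, AdjoinRoot.mk_C, AdjoinRoot.mk_X,
      ← AdjoinRoot.algebraMap_eq]
    linear_combination h
  have hq0 : q = 0 := by
    by_contra hne
    refine AdjoinRoot.mk_ne_zero_of_degree_lt (gB_monic b) hne ?_ hmk
    rw [hdeg, hq]
    exact lt_of_le_of_lt Polynomial.degree_linear_le (by norm_num)
  have h0 : α = q.coeff 0 := by rw [hq]; simp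
  have h1 : α' = q.coeff 1 := by rw [hq]; simp
  rw [hq0, Polynomial.coeff_zero] at h0 h1
  exact ⟨h0, h1⟩

theorem exists_repr [Nontrivial B] (β : Bz) :
    ∃ α α' : B, β = algebraMap B Bz α + zz * algebraMap B Bz α' := by
  obtain ⟨q, rfl⟩ := AdjoinRoot.mk_surjective β
  have h1 : AdjoinRoot.mk gB q = AdjoinRoot.mk gB (q %ₘ gB) := by
    conv_lhs => rw [← Polynomial.modByMonic_add_div q gB]
    rw [map_add, map_mul, AdjoinRoot.mk_self, zero_mul, add_zero]
  have hne1 : gB ≠ 1 := by
    intro h
    have h2 := congrArg Polynomial.natDegree h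
    rw [gB_natDegree b, Polynomial.natDegree_one] at h2
    omega
  have h2 : (q %ₘ gB).natDegree ≤ 1 := by
    have h3 := Polynomial.natDegree_modByMonic_lt q (gB_monic b) hne1
    rw [gB_natDegree b] at h3
    omega
  obtain ⟨a, c, hac⟩ := Polynomial.exists_eq_X_add_C_of_natDegree_le_one h2
  refine ⟨c, a, ?_⟩
  rw [h1, hac, map_add, map_mul, AdjoinRoot.mk_C, AdjoinRoot.mk_C, AdjoinRoot.mk_X,
    ← AdjoinRoot.algebraMap_eq]
  ring

theorem ker_eq : RingHom.ker (Psi b).toRingHom = Ideal.span {ww} := by
  have hle : Ideal.span {ww} ≤ RingHom.ker (Psi b).toRingHom := by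
    rw [Ideal.span_le, Set.singleton_subset_iff]
    show ww ∈ RingHom.ker (Psi b).toRingHom
    rw [RingHom.mem_ker]
    exact Psi_w b
  apply le_antisymm _ hle
  intro F hF
  have hF' : Psi b F = 0 := RingHom.mem_ker.mp hF
  rcases subsingleton_or_nontrivial B with hB | hB
  · have h01 : (0 : MvPolynomial (Fin 2) B) = 1 := by
      rw [← MvPolynomial.C_0, ← MvPolynomial.C_1, Subsingleton.elim (0 : B) 1]
    rw [eq_zero_of_zero_eq_one h01 F]
    exact Ideal.zero_mem _
  obtain ⟨F0, F1, hnf⟩ := nf_exists b F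
  have hker : Psi b (F - (Polynomial.aeval vv F0 + uu * Polynomial.aeval vv F1)) = 0 :=
    RingHom.mem_ker.mp (hle hnf)
  have hΨnf : Psi b (Polynomial.aeval vv F0 + uu * Polynomial.aeval vv F1) =
      Polynomial.map (algebraMap B Bz) F0 +
        Polynomial.C zz * Polynomial.X * Polynomial.map (algebraMap B Bz) F1 := by
    rw [map_add, map_mul, Psi_X0, ← Polynomial.aeval_algHom_apply,
      ← Polynomial.aeval_algHom_apply, Psi_X1, Polynomial.aeval_X_left_eq_map,
      Polynomial.aeval_X_left_eq_map]
  have hzero : Polynomial.map (algebraMap B Bz) F0 +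
      Polynomial.C zz * Polynomial.X * Polynomial.map (algebraMap B Bz) F1 = 0 := by
    rw [← hΨnf]
    have h2 := hker
    rw [map_sub, hF', zero_sub, neg_eq_zero] at h2
    exact h2
  have hcoef : ∀ k, F0.coeff (k + 1) = 0 ∧ F1.coeff k = 0 := by
    intro k
    have h := congrArg (fun P => Polynomial.coeff P (k + 1)) hzero
    simp only [Polynomial.coeff_add, Polynomial.coeff_map, mul_assoc, Polynomial.coeff_C_mul,
      Polynomial.coeff_X_mul, Polynomial.coeff_zero] at h
    exact lin_indep b _ _ h
  have hc0 : F0.coeff 0 = 0 := by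
    have h := congrArg (fun P => Polynomial.coeff P 0) hzero
    simp only [Polynomial.coeff_add, Polynomial.coeff_map, mul_assoc, Polynomial.coeff_C_mul,
      Polynomial.coeff_X_mul_zero, mul_zero, add_zero, Polynomial.coeff_zero] at h
    have h' : algebraMap B Bz (F0.coeff 0) + zz * algebraMap B Bz 0 = 0 := by
      rw [map_zero, mul_zero, add_zero]; exact h
    exact (lin_indep b _ _ h').1
  have hF0 : F0 = 0 := by
    ext k
    cases k with
    | zero => rw [hc0, Polynomial.coeff_zero]
    | succ k => rw [(hcoef k).1, Polynomial.coeff_zero]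
  have hF1 : F1 = 0 := by
    ext k
    rw [(hcoef k).2, Polynomial.coeff_zero]
  rw [hF0, hF1, map_zero, mul_zero, add_zero, sub_zero] at hnf
  exact hnf

theorem mem_range (G : Polynomial Bz) (hG : ∃ c : B, G.coeff 0 = algebraMap B Bz c) :
    G ∈ (Psi b).range := by
  rcases subsingleton_or_nontrivial B with hB | hB
  · have h01 : (0 : Polynomial Bz) = 1 := by
      rw [← map_one (algebraMap B (Polynomial Bz)), Subsingleton.elim (1 : B) 0, map_zero]
    rw [eq_zero_of_zero_eq_one h01 G]
    exact Subalgebra.zero_mem _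
  obtain ⟨c, hc⟩ := hG
  have hXH : ∀ H : Polynomial Bz, Polynomial.X * H ∈ (Psi b).range := by
    intro H
    induction H using Polynomial.induction_on' with
    | add p q hp hq =>
      rw [mul_add]
      exact Subalgebra.add_mem _ hp hq
    | monomial k β =>
      obtain ⟨α, α', hβ⟩ := exists_repr b β
      apply (AlgHom.mem_range _).mpr
      refine ⟨MvPolynomial.C α * vv ^ (k + 1) + MvPolynomial.C α' * uu * vv ^ k, ?_⟩
      rw [map_add, map_mul, map_mul, map_mul, map_pow, map_pow, Psi_X0, Psi_X1,
        MvPolynomial.algHom_C, MvPolynomial.algHom_C, Polynomial.algebraMap_apply,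
        Polynomial.algebraMap_apply, hβ, ← Polynomial.C_mul_X_pow_eq_monomial, map_add, map_mul]
      ring
  rw [← Polynomial.divX_mul_X_add G, hc]
  apply Subalgebra.add_mem
  · rw [mul_comm]
    exact hXH _
  · exact (AlgHom.mem_range _).mpr ⟨MvPolynomial.C c, by
      rw [MvPolynomial.algHom_C, Polynomial.algebraMap_apply]⟩

end pinch

/-- Let B be a commutative ring, b an element of B, B' := B[z]/(z^2 - b) the rank-two B-algebra with z^2
= b, and Ψ : B[u, v] → B'[t] the B-algebra homomorphism with u ↦ z t and v ↦ t. Then the kernel of Ψ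
is the principal ideal generated by u^2 - b v^2, and a polynomial of B'[t] lies in the image of Ψ as
soon as its constant coefficient lies in B. Equivalently, B[u, v]/(u^2 - b v^2) is the fibre product
of B'[t] and B over B' (for t ↦ 0 and the inclusion of B): the pinching of Spec B' × 𝔸¹ along Spec
B' × {0} by the double cover Spec B' → Spec B is the hypersurface u^2 = b v^2 over B; for B = K[w]
and b = w this is the pinch point u^2 = v^2 w. -/
theorem result (B : Type u) [CommRing B] (b : B) :
    letI Ψ : MvPolynomial (Fin 2) B →ₐ[B] Polynomial (AdjoinRoot (Polynomial.X ^ 2 - Polynomial.C b)) :=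
      MvPolynomial.aeval
        ![Polynomial.C (AdjoinRoot.root (Polynomial.X ^ 2 - Polynomial.C b)) * Polynomial.X, Polynomial.X]
    RingHom.ker Ψ.toRingHom =
        Ideal.span {MvPolynomial.X 0 ^ 2 - MvPolynomial.C b * MvPolynomial.X 1 ^ 2} ∧
      ∀ G : Polynomial (AdjoinRoot (Polynomial.X ^ 2 - Polynomial.C b)),
        (∃ c : B, G.coeff 0 = algebraMap B (AdjoinRoot (Polynomial.X ^ 2 - Polynomial.C b)) c) →
          G ∈ Ψ.range := by
  exact ⟨ker_eq b, fun G hG => mem_range b G hG⟩

end Groth.Agent.S18121
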