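import Groth.Statements.S18122
import Mathlib

set_option autoImplicit false
universe u
open Pinch

namespace Groth.Agent.S18122

section pinchder
variable (K : Type u) [Field K] [NeZero (2 : K)]

local notation "SS" => MvPolynomial (Fin 2) K
local notation "xx" => (MvPolynomial.X 0 : MvPolynomial (Fin 2) K)
local notation "yy" => (MvPolynomial.X 1 : MvPolynomial (Fin 2) K)
local notation "RR" => Algebra.adjoin K ({xx ^ 2, xx * yy, yy} : Set (MvPolynomial (Fin 2) K))

theorem two_ne : (2 : SS) ≠ 0 := by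
  intro h0
  have h1 : MvPolynomial.C (2 : K) = (MvPolynomial.C 0 : SS) := by
    rw [map_ofNat, map_zero]; exact h0
  exact NeZero.ne (2 : K) (MvPolynomial.C_injective (Fin 2) K h1)

theorem hhalf : (2 : SS) * MvPolynomial.C (2⁻¹ : K) = 1 := by
  rw [← map_ofNat (MvPolynomial.C (σ := Fin 2) (R := K)) 2, ← map_mul,
    mul_inv_cancel₀ (NeZero.ne (2 : K)), map_one]

theorem x_not_dvd_y : ¬ (xx ∣ yy) := by
  rintro ⟨q, hq⟩
  have h := congrArg (MvPolynomial.eval ![(0 : K), 1]) hq
  rw [map_mul, MvPolynomial.eval_X, MvPolynomial.eval_X] at h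
  simp at h

theorem hX2 : xx ^ 2 ∈ RR := Algebra.subset_adjoin (Set.mem_insert _ _)
theorem hXY : xx * yy ∈ RR := Algebra.subset_adjoin (Set.mem_insert_of_mem _ (Set.mem_insert _ _))
theorem hY : yy ∈ RR :=
  Algebra.subset_adjoin (Set.mem_insert_of_mem _ (Set.mem_insert_of_mem _ (Set.mem_singleton _)))

theorem exist_f (δ : Derivation K RR SS) : ∃ f : SS,
    2 * xx * f = δ ⟨xx ^ 2, hX2 K⟩ ∧
    yy * f + xx * δ ⟨yy, hY K⟩ = δ ⟨xx * yy, hXY K⟩ := by
  obtain ⟨a, ha⟩ : ∃ a, a = δ ⟨xx * yy, hXY K⟩ := ⟨_, rfl⟩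
  obtain ⟨g, hg⟩ : ∃ g, g = δ ⟨yy, hY K⟩ := ⟨_, rfl⟩
  obtain ⟨c, hc⟩ : ∃ c, c = δ ⟨xx ^ 2, hX2 K⟩ := ⟨_, rfl⟩
  rw [← ha, ← hg, ← hc]
  have hsm : ∀ (r : RR) (s : SS), r • s = (r : SS) * s := fun r s => rfl
  have hrel : ((⟨xx * yy, hXY K⟩ : RR) * ⟨xx * yy, hXY K⟩) =
      (⟨xx ^ 2, hX2 K⟩ : RR) * (⟨yy, hY K⟩ * ⟨yy, hY K⟩) := by
    apply Subtype.ext
    show xx * yy * (xx * yy) = xx ^ 2 * (yy * yy)
    ring
  have h := congrArg δ hrel
  rw [Derivation.leibniz, Derivation.leibniz, Derivation.leibniz, ← ha, ← hg, ← hc] at h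
  simp only [hsm] at h
  have h2 : (xx * yy) * a + (xx * yy) * a = xx ^ 2 * (yy * g + yy * g) + (yy * yy) * c := h
  have h3 : 2 * xx * a = 2 * xx ^ 2 * g + yy * c := by
    apply mul_left_cancel₀ (MvPolynomial.X_ne_zero (1 : Fin 2) (R := K))
    linear_combination h2
  have hdvd : xx ∣ yy * c := ⟨2 * a - 2 * xx * g, by linear_combination -h3⟩
  rcases (MvPolynomial.X_prime (i := (0 : Fin 2)) (R := K)).dvd_or_dvd hdvd with hd | hd
  · exact absurd hd (x_not_dvd_y K)
  obtain ⟨hh, hch⟩ := hd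
  have h4 : yy * hh = 2 * (a - xx * g) := by
    apply mul_left_cancel₀ (MvPolynomial.X_ne_zero (0 : Fin 2) (R := K))
    rw [hch] at h3
    linear_combination -h3
  refine ⟨MvPolynomial.C (2⁻¹ : K) * hh, ?_, ?_⟩
  · rw [hch]
    linear_combination (xx * hh) * hhalf K
  · linear_combination (MvPolynomial.C (2⁻¹ : K)) * h4 + (a - xx * g) * hhalf K

theorem main (δ : Derivation K RR SS) :
    ∃! D : Derivation K SS SS, ∀ r : RR, D (r : SS) = δ r := by
  obtain ⟨f, hf1, hf2⟩ := exist_f K δ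
  obtain ⟨g, hg⟩ : ∃ g, g = δ ⟨yy, hY K⟩ := ⟨_, rfl⟩
  rw [← hg] at hf2
  obtain ⟨D, hD⟩ : ∃ D : Derivation K SS SS, D = MvPolynomial.mkDerivation K ![f, g] := ⟨_, rfl⟩
  have hDx : D xx = f := by rw [hD, MvPolynomial.mkDerivation_X]; rfl
  have hDy : D yy = g := by rw [hD, MvPolynomial.mkDerivation_X]; rfl
  have hsq : ∀ E : Derivation K SS SS, E (xx ^ 2) = 2 * xx * E xx := by
    intro E
    rw [pow_two, Derivation.leibniz, smul_eq_mul]
    ring
  have hxy : ∀ E : Derivation K SS SS, E (xx * yy) = xx * E yy + yy * E xx := by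
    intro E
    rw [Derivation.leibniz, smul_eq_mul, smul_eq_mul]
  refine ⟨D, ?_, ?_⟩
  · have hEq : Set.EqOn (D.compAlgebraMap RR) δ
        ((↑) ⁻¹' ({xx ^ 2, xx * yy, yy} : Set SS)) := by
      intro r hr
      have hr' : (r : SS) = xx ^ 2 ∨ (r : SS) = xx * yy ∨ (r : SS) = yy := by simpa using hr
      show D (r : SS) = δ r
      rcases hr' with h | h | h
      · have hr2 : r = ⟨xx ^ 2, hX2 K⟩ := Subtype.ext h
        rw [h, hr2, hsq, hDx, hf1]
      · have hr2 : r = ⟨xx * yy, hXY K⟩ := Subtype.ext h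
        rw [h, hr2, hxy, hDx, hDy, ← hf2]
        ring
      · have hr2 : r = ⟨yy, hY K⟩ := Subtype.ext h
        rw [h, hr2, hDy, hg]
    have hext := Derivation.ext_of_adjoin_eq_top _ Algebra.adjoin_adjoin_coe_preimage hEq
    intro r
    exact Derivation.congr_fun hext r
  · intro D' hD'
    apply MvPolynomial.derivation_ext
    intro i
    by_cases hi : i = 0
    · subst hi
      have h1 := hD' ⟨xx ^ 2, hX2 K⟩
      have h1' : D' (xx ^ 2) = δ ⟨xx ^ 2, hX2 K⟩ := h1
      rw [hsq, ← hf1] at h1'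
      rw [hDx]
      have h2x : (2 * xx : SS) ≠ 0 := mul_ne_zero (two_ne K) (MvPolynomial.X_ne_zero _)
      exact mul_left_cancel₀ h2x h1'
    · have hi1 : i = 1 := Fin.eq_one_of_ne_zero i hi
      subst hi1
      have h1 := hD' ⟨yy, hY K⟩
      have h1' : D' yy = δ ⟨yy, hY K⟩ := h1
      rw [hDy, hg]
      exact h1'

end pinchder

/-- Let K be a field in which 2 ≠ 0, S = K[x, y], and R ⊆ S the K-subalgebra generated by x^2, x y and
y; R is the coordinate ring of the pinch point u^2 = v^2 w (u = x y, v = y, w = x^2) and S is its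
normalization. Then restriction along R ⊆ S is a bijection from the K-derivations S → S onto the
K-derivations R → S: every K-derivation R → S extends uniquely to S. In sheaf terms, the natural
injective map from the tangent sheaf of the normalization to the dual of the pulled-back sheaf of
differentials of the pinch point is an isomorphism. (The text works over an algebraically closed
field of characteristic different from 2 and for every semi-smooth variety; only this model case is
stated, and the computation uses only 2 ≠ 0.) -/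
theorem result
    (K : Type u) [Field K] [NeZero (2 : K)] :
    letI R : Subalgebra K (MvPolynomial (Fin 2) K) :=
      Algebra.adjoin K {MvPolynomial.X 0 ^ 2, MvPolynomial.X 0 * MvPolynomial.X 1, MvPolynomial.X 1}
    ∀ δ : Derivation K R (MvPolynomial (Fin 2) K),
      ∃! D : Derivation K (MvPolynomial (Fin 2) K) (MvPolynomial (Fin 2) K),
        ∀ r : R, D (r : MvPolynomial (Fin 2) K) = δ r := by
  exact fun δ => main K δ

end Groth.Agent.S18122
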