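import Groth.Statements.S18123
import Mathlib

set_option autoImplicit false
universe u
open Pinch

namespace Groth.Agent.S18123

section pinchder2
variable (K : Type u) [Field K] [NeZero (2 : K)]

local notation "SS" => MvPolynomial (Fin 2) K
local notation "xx" => (MvPolynomial.X 0 : MvPolynomial (Fin 2) K)
local notation "yy" => (MvPolynomial.X 1 : MvPolynomial (Fin 2) K)
local notation "RR" => Algebra.adjoin K ({xx ^ 2, xx * yy, yy} : Set (MvPolynomial (Fin 2) K))
local notation "Ev" => AlgHom.range (Polynomial.aeval (R := K) (Polynomial.X ^ 2 : Polynomial K))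

noncomputable def ev : SS →ₐ[K] Polynomial K := MvPolynomial.aeval ![Polynomial.X, 0]

theorem ev_x : ev K xx = Polynomial.X := by rw [ev, MvPolynomial.aeval_X]; rfl

theorem ev_y : ev K yy = 0 := by rw [ev, MvPolynomial.aeval_X]; rfl

theorem hX2 : xx ^ 2 ∈ RR := Algebra.subset_adjoin (Set.mem_insert _ _)
theorem hXY : xx * yy ∈ RR := Algebra.subset_adjoin (Set.mem_insert_of_mem _ (Set.mem_insert _ _))
theorem hY : yy ∈ RR :=
  Algebra.subset_adjoin (Set.mem_insert_of_mem _ (Set.mem_insert_of_mem _ (Set.mem_singleton _)))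

theorem y_mul_mem (G : SS) : yy * G ∈ RR ∧ yy * xx * G ∈ RR := by
  induction G using MvPolynomial.induction_on with
  | C a =>
    constructor
    · have h : yy * MvPolynomial.C a = a • yy := by
        rw [Algebra.smul_def, MvPolynomial.algebraMap_eq, mul_comm]
      rw [h]
      exact Subalgebra.smul_mem _ (hY K) a
    · have h : yy * xx * MvPolynomial.C a = a • (xx * yy) := by
        rw [Algebra.smul_def, MvPolynomial.algebraMap_eq]; ring
      rw [h]
      exact Subalgebra.smul_mem _ (hXY K) a
  | add p q hp hq =>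
    constructor
    · rw [mul_add]; exact Subalgebra.add_mem _ hp.1 hq.1
    · rw [mul_add]; exact Subalgebra.add_mem _ hp.2 hq.2
  | mul_X p n hp =>
    by_cases hn : n = 0
    · subst hn
      constructor
      · have h : yy * (p * xx) = yy * xx * p := by ring
        rw [h]; exact hp.2
      · have h : yy * xx * (p * xx) = xx ^ 2 * (yy * p) := by ring
        rw [h]; exact Subalgebra.mul_mem _ (hX2 K) hp.1
    · have hn1 : n = 1 := Fin.eq_one_of_ne_zero n hn
      subst hn1
      constructor
      · have h : yy * (p * yy) = (yy * p) * yy := by ring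
        rw [h]; exact Subalgebra.mul_mem _ hp.1 (hY K)
      · have h : yy * xx * (p * yy) = (yy * xx * p) * yy := by ring
        rw [h]; exact Subalgebra.mul_mem _ hp.2 (hY K)

theorem decomp (F : SS) : ∃ (q : Polynomial K) (G : SS), F = Polynomial.aeval xx q + yy * G := by
  induction F using MvPolynomial.induction_on with
  | C a =>
    exact ⟨Polynomial.C a, 0, by
      rw [Polynomial.aeval_C, MvPolynomial.algebraMap_eq, mul_zero, add_zero]⟩
  | add p q hp hq =>
    obtain ⟨q1, G1, h1⟩ := hp
    obtain ⟨q2, G2, h2⟩ := hq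
    refine ⟨q1 + q2, G1 + G2, ?_⟩
    rw [map_add]
    linear_combination h1 + h2
  | mul_X p n hp =>
    obtain ⟨q1, G1, h1⟩ := hp
    by_cases hn : n = 0
    · subst hn
      refine ⟨q1 * Polynomial.X, G1 * xx, ?_⟩
      rw [map_mul, Polynomial.aeval_X]
      linear_combination xx * h1
    · have hn1 : n = 1 := Fin.eq_one_of_ne_zero n hn
      subst hn1
      refine ⟨0, Polynomial.aeval xx q1 + yy * G1, ?_⟩
      rw [map_zero]
      linear_combination yy * h1

theorem ev_decomp (q : Polynomial K) (G : SS) :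
    ev K (Polynomial.aeval xx q + yy * G) = q := by
  rw [map_add, map_mul, ev_y, zero_mul, add_zero, ← Polynomial.aeval_algHom_apply, ev_x,
    Polynomial.aeval_X_left_apply]

theorem R_le : RR ≤ Subalgebra.comap (ev K) Ev := by
  apply Algebra.adjoin_le
  intro F hF
  rcases hF with h | h | h
  · rw [h]
    show ev K (xx ^ 2) ∈ Ev
    rw [map_pow, ev_x]
    exact (AlgHom.mem_range _).mpr ⟨Polynomial.X, Polynomial.aeval_X _⟩
  · rw [h]
    show ev K (xx * yy) ∈ Ev
    rw [map_mul, ev_y, mul_zero]
    exact Subalgebra.zero_mem _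
  · have h' : F = yy := h
    rw [h']
    show ev K yy ∈ Ev
    rw [ev_y]
    exact Subalgebra.zero_mem _

theorem aeval_sq_eq_expand (p : Polynomial K) :
    Polynomial.aeval (Polynomial.X ^ 2 : Polynomial K) p = Polynomial.expand K 2 p := by
  rw [Polynomial.aeval_def, Polynomial.algebraMap_eq, ← Polynomial.coe_expand]

theorem even_odd_zero (q : Polynomial K) (h1 : q ∈ Ev) (h2 : Polynomial.X * q ∈ Ev) : q = 0 := by
  obtain ⟨p1, hp1⟩ := (AlgHom.mem_range _).mp h1
  obtain ⟨p2, hp2⟩ := (AlgHom.mem_range _).mp h2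
  rw [aeval_sq_eq_expand] at hp1 hp2
  ext n
  rw [Polynomial.coeff_zero]
  rcases Nat.even_or_odd n with hn | hn
  · have h3 : (Polynomial.X * q).coeff (n + 1) = 0 := by
      rw [← hp2, Polynomial.coeff_expand (by norm_num), if_neg]
      intro hd
      obtain ⟨k, hk⟩ := hn
      obtain ⟨m, hm⟩ := hd
      omega
    rw [Polynomial.coeff_X_mul] at h3
    exact h3
  · rw [← hp1, Polynomial.coeff_expand (by norm_num), if_neg]
    intro hd
    obtain ⟨k, hk⟩ := hn
    obtain ⟨m, hm⟩ := hd
    omega

theorem odd_form (q : Polynomial K) (h2 : Polynomial.X * q ∈ Ev) :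
    ∃ p : Polynomial K, q = Polynomial.X * Polynomial.aeval (Polynomial.X ^ 2 : Polynomial K) p := by
  obtain ⟨p2, hp2⟩ := (AlgHom.mem_range _).mp h2
  have hc0 : p2.coeff 0 = 0 := by
    have h : (Polynomial.aeval (Polynomial.X ^ 2 : Polynomial K) p2).coeff 0 =
        (Polynomial.X * q).coeff 0 := by rw [hp2]
    rw [aeval_sq_eq_expand, Polynomial.coeff_expand (by norm_num), if_pos (dvd_zero 2),
      Nat.zero_div, Polynomial.coeff_X_mul_zero] at h
    exact h
  obtain ⟨p3, hp3⟩ := Polynomial.X_dvd_iff.mpr hc0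
  refine ⟨p3, ?_⟩
  apply mul_left_cancel₀ (Polynomial.X_ne_zero (R := K))
  rw [← hp2, hp3, map_mul, Polynomial.aeval_X]
  ring

theorem hsq (D : Derivation K SS SS) : D (xx ^ 2) = 2 * xx * D xx := by
  rw [pow_two, Derivation.leibniz, smul_eq_mul]; ring

theorem hxy (D : Derivation K SS SS) : D (xx * yy) = xx * D yy + yy * D xx := by
  rw [Derivation.leibniz, smul_eq_mul, smul_eq_mul]

theorem fwd (D : Derivation K SS SS) (h : ∀ r ∈ RR, D r ∈ RR) :
    D yy ∈ Ideal.span {yy} ∧ ∃ (s : SS) (p : Polynomial K),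
      D xx = yy * s + xx * Polynomial.aeval (xx ^ 2) p := by
  obtain ⟨qg, Gg, hg⟩ := decomp K (D yy)
  obtain ⟨qf, Gf, hf⟩ := decomp K (D xx)
  have evg : ev K (D yy) = qg := by rw [hg, ev_decomp]
  have evf : ev K (D xx) = qf := by rw [hf, ev_decomp]
  have e1 : qg ∈ Ev := by
    rw [← evg]
    exact R_le K (h _ (hY K))
  have e2 : Polynomial.X * qg ∈ Ev := by
    have h1 : ev K (D (xx * yy)) ∈ Ev := R_le K (h _ (hXY K))
    have h2 : ev K (D (xx * yy)) = Polynomial.X * qg := by
      rw [hxy, map_add, map_mul, map_mul, ev_x, ev_y, evg, zero_mul, add_zero]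
    rw [← h2]
    exact h1
  have hqg : qg = 0 := even_odd_zero K qg e1 e2
  have e3 : Polynomial.X * qf ∈ Ev := by
    have h1 : ev K (D (xx ^ 2)) ∈ Ev := R_le K (h _ (hX2 K))
    have h2 : ev K (D (xx ^ 2)) = 2 * Polynomial.X * qf := by
      rw [hsq, map_mul, map_mul, ev_x, evf, map_ofNat]
    rw [h2] at h1
    have h3 := Subalgebra.smul_mem _ h1 (2⁻¹ : K)
    have h4 : (2⁻¹ : K) • ((2 : Polynomial K) * Polynomial.X * qf) = Polynomial.X * qf := by
      rw [mul_assoc, two_mul, ← two_smul K, smul_smul, inv_mul_cancel₀ (NeZero.ne (2 : K)),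
        one_smul]
    rw [h4] at h3
    exact h3
  obtain ⟨p, hp⟩ := odd_form K qf e3
  refine ⟨Ideal.mem_span_singleton.mpr ⟨Gg, by rw [hg, hqg, map_zero, zero_add]⟩, Gf, p, ?_⟩
  have h5 : Polynomial.aeval xx (Polynomial.aeval (Polynomial.X ^ 2 : Polynomial K) p) =
      Polynomial.aeval (xx ^ 2) p := by
    rw [← Polynomial.aeval_algHom_apply, map_pow, Polynomial.aeval_X]
  rw [hf, hp, map_mul, Polynomial.aeval_X, h5]
  ring

theorem bwd (D : Derivation K SS SS) (hy : D yy ∈ Ideal.span {yy})
    (hx : ∃ (s : SS) (p : Polynomial K), D xx = yy * s + xx * Polynomial.aeval (xx ^ 2) p) :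
    ∀ r ∈ RR, D r ∈ RR := by
  obtain ⟨t, ht⟩ := Ideal.mem_span_singleton.mp hy
  obtain ⟨s, p, hs⟩ := hx
  have hpe : Polynomial.aeval (xx ^ 2) p ∈ RR := by
    have h1 := Polynomial.aeval_subalgebra_coe p RR ⟨xx ^ 2, hX2 K⟩
    rw [← h1]
    exact (Polynomial.aeval (⟨xx ^ 2, hX2 K⟩ : RR) p).2
  intro r hr
  induction hr using Algebra.adjoin_induction with
  | mem F hF =>
    rcases hF with h | h | h
    · rw [h, hsq, hs]
      have h1 : 2 * xx * (yy * s + xx * Polynomial.aeval (xx ^ 2) p) =
          yy * (2 * xx * s) + 2 * (xx ^ 2 * Polynomial.aeval (xx ^ 2) p) := by ring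
      rw [h1]
      refine Subalgebra.add_mem _ (y_mul_mem K _).1 ?_
      rw [two_mul]
      exact Subalgebra.add_mem _ (Subalgebra.mul_mem _ (hX2 K) hpe)
        (Subalgebra.mul_mem _ (hX2 K) hpe)
    · rw [h, hxy, ht, hs]
      have h1 : xx * (yy * t) + yy * (yy * s + xx * Polynomial.aeval (xx ^ 2) p) =
          yy * (xx * t + yy * s + xx * Polynomial.aeval (xx ^ 2) p) := by ring
      rw [h1]
      exact (y_mul_mem K _).1
    · have h' : F = yy := h
      rw [h', ht]
      exact (y_mul_mem K _).1
  | algebraMap a =>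
    rw [Derivation.map_algebraMap]
    exact Subalgebra.zero_mem _
  | add a b ha hb iha ihb =>
    rw [map_add]
    exact Subalgebra.add_mem _ iha ihb
  | mul a b ha hb iha ihb =>
    rw [Derivation.leibniz, smul_eq_mul, smul_eq_mul]
    exact Subalgebra.add_mem _ (Subalgebra.mul_mem _ ha ihb) (Subalgebra.mul_mem _ hb iha)

end pinchder2

/-- Let K be a field in which 2 ≠ 0, S = K[x, y], and R ⊆ S the K-subalgebra generated by x^2, x y, y,
the coordinate ring of the pinch point with normalization S, obtained by gluing the plane along the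
line y = 0 via x ↦ -x. A K-derivation D of S maps R into R if and only if D(y) is a multiple of y
and D(x) = y s + x p(x^2) for some s in S and some polynomial p in one variable. Every K-derivation
R → S extends uniquely to S, and under this identification the derivations mapping R into R form the
image of the tangent sheaf of the pinch point in that of its normalization; so this image contains y
times all derivations of S, and modulo those it is spanned by the odd multiples x^(2k+1) ∂/∂x, the
part of the tangent sheaf of the line y = 0 invariant under x ↦ -x. (The text works over an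
algebraically closed field of characteristic different from 2; the computation uses only 2 ≠ 0.) -/
theorem result
    (K : Type u) [Field K] [NeZero (2 : K)]
    (D : Derivation K (MvPolynomial (Fin 2) K) (MvPolynomial (Fin 2) K)) :
    letI x : MvPolynomial (Fin 2) K := MvPolynomial.X 0
    letI y : MvPolynomial (Fin 2) K := MvPolynomial.X 1
    letI R : Subalgebra K (MvPolynomial (Fin 2) K) := Algebra.adjoin K {x ^ 2, x * y, y}
    (∀ r ∈ R, D r ∈ R) ↔
      (D y ∈ Ideal.span {y} ∧
        ∃ (s : MvPolynomial (Fin 2) K) (p : Polynomial K), D x = y * s + x * Polynomial.aeval (x ^ 2) p) := by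
  exact ⟨fwd K D, fun h => bwd K D h.1 h.2⟩

end Groth.Agent.S18123
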