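import Groth.Statements.S18125
import Mathlib

set_option autoImplicit false
universe u
open Pinch

namespace Groth.Agent.S18125

/-- Let K be a field in which 2 ≠ 0, n ≥ 0, S = K[u, v, w, t_1, …, t_n] (u, v, w the first three
variables), h = u^2 - v^2 w the equation of the pinch-point model, and Jac the ideal generated by h
and its three partial derivatives 2u, -2vw, -v^2, which cuts out the scheme-theoretic singular locus
of {h = 0}. Then the ideal (u, v) of the double locus is Jac + (v), and the colon ideal of Jac by
(v) is (u, v, w). Consequently (u, v)/Jac, the ideal of the double locus restricted to the singular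
locus, is an invertible sheaf on the pinch locus u = v = w = 0: it is free of rank one over K[t_1,
…, t_n] on the class of v. (The text states this for every semi-smooth variety and reduces to this
model; K algebraically closed is not needed for the model computation.) -/
theorem result
    (K : Type u) [Field K] [NeZero (2 : K)] (n : ℕ) :
    letI u : MvPolynomial (Fin (n + 3)) K := MvPolynomial.X 0
    letI v : MvPolynomial (Fin (n + 3)) K := MvPolynomial.X 1
    letI w : MvPolynomial (Fin (n + 3)) K := MvPolynomial.X 2
    letI Jac : Ideal (MvPolynomial (Fin (n + 3)) K) :=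
      Ideal.span {u ^ 2 - v ^ 2 * w, 2 * u, -(2 * v * w), -(v ^ 2)}
    Ideal.span {u, v} = Jac ⊔ Ideal.span {v} ∧ Jac.colon (Ideal.span {v}) = Ideal.span {u, v, w} := by
  set u : MvPolynomial (Fin (n + 3)) K := MvPolynomial.X 0 with hu_def
  set v : MvPolynomial (Fin (n + 3)) K := MvPolynomial.X 1 with hv_def
  set w : MvPolynomial (Fin (n + 3)) K := MvPolynomial.X 2 with hw_def
  set Jac : Ideal (MvPolynomial (Fin (n + 3)) K) :=
      Ideal.span {u ^ 2 - v ^ 2 * w, 2 * u, -(2 * v * w), -(v ^ 2)} with hJac
  have h2 : (2 : K) ≠ 0 := NeZero.ne 2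
  have hC2 : (MvPolynomial.C (2⁻¹ : K) : MvPolynomial (Fin (n + 3)) K) * 2 = 1 := by
    rw [show (2 : MvPolynomial (Fin (n + 3)) K) = MvPolynomial.C (2 : K) from (map_ofNat MvPolynomial.C 2).symm, ← MvPolynomial.C_mul,
      inv_mul_cancel₀ h2, MvPolynomial.C_1]
  have hJ1 : u ^ 2 - v ^ 2 * w ∈ Jac := Ideal.subset_span (by simp)
  have hJ2 : 2 * u ∈ Jac := Ideal.subset_span (by simp)
  have hJ3 : -(2 * v * w) ∈ Jac := Ideal.subset_span (by simp)
  have hJ4 : -(v ^ 2) ∈ Jac := Ideal.subset_span (by simp)
  have huJ : u ∈ Jac := by
    have : u = MvPolynomial.C (2⁻¹ : K) * (2 * u) := by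
      rw [← mul_assoc, hC2, one_mul]
    rw [this]; exact Ideal.mul_mem_left _ _ hJ2
  have hvwJ : v * w ∈ Jac := by
    have : v * w = - (MvPolynomial.C (2⁻¹ : K)) * (-(2 * v * w)) := by
      have : (MvPolynomial.C (2⁻¹ : K) : MvPolynomial (Fin (n + 3)) K) * (2 * v * w) = v * w := by
        rw [mul_assoc 2 v w, ← mul_assoc, hC2, one_mul]
      rw [neg_mul_neg, this]
    rw [this]; exact Ideal.mul_mem_left _ _ hJ3
  have hv2J : v ^ 2 ∈ Jac := by
    have := Jac.neg_mem hJ4
    simpa using this
  refine ⟨?_, ?_⟩
  · apply le_antisymm
    · rw [Ideal.span_le]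
      intro x hx
      rcases hx with rfl | rfl
      · exact Ideal.mem_sup_left huJ
      · exact Ideal.mem_sup_right (Ideal.subset_span rfl)
    · apply sup_le
      · rw [Ideal.span_le]
        intro x hx
        have hu : u ∈ Ideal.span {u, v} := Ideal.subset_span (by simp)
        have hv : v ∈ Ideal.span {u, v} := Ideal.subset_span (by simp)
        rcases hx with rfl | rfl | rfl | rfl
        · refine Ideal.sub_mem _ ?_ ?_
          · rw [pow_two]; exact Ideal.mul_mem_left _ _ hu
          · rw [pow_two, mul_assoc]; exact Ideal.mul_mem_right _ _ hv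
        · exact Ideal.mul_mem_left _ _ hu
        · refine neg_mem ?_
          rw [mul_assoc]; exact Ideal.mul_mem_left _ _ (Ideal.mul_mem_right _ _ hv)
        · refine neg_mem ?_
          rw [pow_two]; exact Ideal.mul_mem_left _ _ hv
      · rw [Ideal.span_le]
        intro x hx
        rcases hx with rfl
        exact Ideal.subset_span (by simp)
  · have h01 : (0 : Fin (n + 3)) ≠ 1 := by
      intro h; have := congrArg Fin.val h; simp at this
    have h12 : (1 : Fin (n + 3)) ≠ 2 := by
      intro h; have := congrArg Fin.val h
      rw [Fin.val_one, Fin.val_two] at this; omega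
    have h02 : (0 : Fin (n + 3)) ≠ 2 := by
      intro h; have := congrArg Fin.val h
      rw [Fin.val_zero, Fin.val_two] at this; omega
    apply le_antisymm
    · intro f hf
      rw [Ideal.mem_colon_span_singleton] at hf
      let φ : MvPolynomial (Fin (n + 3)) K →ₐ[K] MvPolynomial (Fin (n + 3)) K :=
        MvPolynomial.aeval (fun i => if i = 0 ∨ i = 1 ∨ i = 2 then 0 else MvPolynomial.X i)
      let ψ : MvPolynomial (Fin (n + 3)) K →ₐ[K] MvPolynomial (Fin (n + 3)) K :=
        MvPolynomial.aeval (fun i => if i = 0 ∨ i = 2 then 0 else MvPolynomial.X i)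
      have hφX : ∀ i, φ (MvPolynomial.X i) = if i = 0 ∨ i = 1 ∨ i = 2 then 0 else MvPolynomial.X i := by
        intro i; simp [φ]
      have hψX : ∀ i, ψ (MvPolynomial.X i) = if i = 0 ∨ i = 2 then 0 else MvPolynomial.X i := by
        intro i; simp [ψ]
      have hφψ : ∀ g, φ (ψ g) = φ g := by
        intro g
        induction g using MvPolynomial.induction_on with
        | C a => simp [φ, ψ]
        | add p q hp hq => simp [map_add, hp, hq]
        | mul_X p i hp =>
          rw [map_mul, map_mul, map_mul, hp]
          congr 1
          rw [hψX, hφX]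
          by_cases hi : i = 0 ∨ i = 2
          · rw [if_pos hi, if_pos (by tauto), map_zero]
          · rw [if_neg hi, hφX]
      have hdiff : ∀ g, g - φ g ∈ Ideal.span {u, v, w} := by
        intro g
        induction g using MvPolynomial.induction_on with
        | C a => simp [φ]
        | add p q hp hq =>
          have : p + q - φ (p + q) = (p - φ p) + (q - φ q) := by rw [map_add]; ring
          rw [this]; exact Ideal.add_mem _ hp hq
        | mul_X p i hp =>
          have : p * MvPolynomial.X i - φ (p * MvPolynomial.X i) =
              (p - φ p) * MvPolynomial.X i + φ p * (MvPolynomial.X i - φ (MvPolynomial.X i)) := by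
            rw [map_mul]; ring
          rw [this]
          refine Ideal.add_mem _ (Ideal.mul_mem_right _ _ hp) (Ideal.mul_mem_left _ _ ?_)
          rw [hφX]
          by_cases hi : i = 0 ∨ i = 1 ∨ i = 2
          · rw [if_pos hi, sub_zero]
            rcases hi with rfl | rfl | rfl
            · exact Ideal.subset_span (by simp [u])
            · exact Ideal.subset_span (by simp [v])
            · exact Ideal.subset_span (by simp [w])
          · rw [if_neg hi, sub_self]; exact Ideal.zero_mem _
      have hψu : ψ u = 0 := by rw [hu_def, hψX, if_pos (Or.inl rfl)]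
      have hψw : ψ w = 0 := by rw [hw_def, hψX, if_pos (Or.inr rfl)]
      have hψv : ψ v = v := by
        rw [hv_def, hψX, if_neg]
        rintro (h | h)
        · exact h01 h.symm
        · exact h12 h
      have hφv : φ v = 0 := by rw [hv_def, hφX, if_pos (Or.inr (Or.inl rfl))]
      have hψJ : Jac.map ψ ≤ Ideal.span {v ^ 2} := by
        rw [hJac, Ideal.map_span, Ideal.span_le]
        rintro _ ⟨x, hx, rfl⟩
        rcases hx with rfl | rfl | rfl | rfl
        · simp [hψu, hψw]
        · simp [hψu]
        · simp [hψw]
        · simp only [map_neg, map_pow, hψv, AlgHom.coe_toRingHom, SetLike.mem_coe]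
          exact neg_mem (Ideal.subset_span rfl)
      have h1 : ψ f * v ∈ Ideal.span {v ^ 2} := by
        have : ψ (f * v) ∈ Jac.map ψ := Ideal.mem_map_of_mem ψ hf
        rw [map_mul, hψv] at this
        exact hψJ this
      obtain ⟨g, hg⟩ := Ideal.mem_span_singleton'.mp h1
      have h2 : ψ f = g * v := by
        have hv0 : v ≠ 0 := MvPolynomial.X_ne_zero 1
        apply mul_right_cancel₀ hv0
        rw [← hg]; ring
      have h3 : φ f = 0 := by
        rw [← hφψ, h2, map_mul, hφv, mul_zero]
      have := hdiff f
      rw [h3, sub_zero] at this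
      exact this
    · rw [Ideal.span_le]
      intro x hx
      rcases hx with rfl | rfl | rfl
      all_goals rw [SetLike.mem_coe, Ideal.mem_colon_span_singleton]
      · exact Ideal.mul_mem_right _ _ huJ
      · rw [← pow_two]; exact hv2J
      · rw [mul_comm]; exact hvwJ

end Groth.Agent.S18125
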