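import Groth.Statements.S18127
import Mathlib

set_option autoImplicit false
universe u
open LocAlg

namespace Groth.Agent.S18127

/-- Let R be a local ring with maximal ideal m and algebraically closed residue field, and M an n × n
matrix over R whose reduction modulo m has rank at most r. Then the determinant of M lies in m^(n −
r). (The published setting is the local ring of germs of holomorphic functions at a point of a
complex manifold, where this says that the determinant vanishes to order at least n − r at a point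
where the matrix has rank at most r.) -/
theorem result
    {R : Type u} [CommRing R] [IsLocalRing R] [IsAlgClosed (IsLocalRing.ResidueField R)]
    {n : ℕ} (M : Matrix (Fin n) (Fin n) R) (r : ℕ)
    (hr : (M.map (IsLocalRing.residue R)).rank ≤ r) :
    M.det ∈ IsLocalRing.maximalIdeal R ^ (n - r) := by
  classical
  obtain ⟨Mb, hMb⟩ : ∃ Mb : Matrix (Fin n) (Fin n) (IsLocalRing.ResidueField R),
      Mb = M.map (IsLocalRing.residue R) := ⟨_, rfl⟩
  rw [← hMb] at hr
  obtain ⟨κ, a, hainj, hspan, hli⟩ :=
    exists_linearIndependent' (K := IsLocalRing.ResidueField R) Mb.col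
  haveI : Finite κ := Finite.of_injective a hainj
  haveI : Fintype κ := Fintype.ofFinite κ
  have hcard : Fintype.card κ ≤ r := by
    have h1 := finrank_span_eq_card hli
    rw [hspan, ← Matrix.rank_eq_finrank_span_cols] at h1
    omega
  obtain ⟨S, hS⟩ : ∃ S : Finset (Fin n), S = Finset.univ.image a := ⟨_, rfl⟩
  have hScard : S.card ≤ r := by
    rw [hS, Finset.card_image_of_injective _ hainj, Finset.card_univ]; exact hcard
  have hamem : ∀ c, a c ∈ S := by
    intro c; rw [hS]; exact Finset.mem_image_of_mem a (Finset.mem_univ c)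
  have hcoef : ∀ j : Fin n, ∃ lam : κ → R, ∀ l : Fin n,
      IsLocalRing.residue R (M l j - ∑ c, lam c * M l (a c)) = 0 := by
    intro j
    have hj : Mb.col j ∈ Submodule.span (IsLocalRing.ResidueField R)
        (Set.range (Mb.col ∘ a)) := by
      rw [hspan]; exact Submodule.subset_span ⟨j, rfl⟩
    obtain ⟨cb, hcb⟩ := (Submodule.mem_span_range_iff_exists_fun _).mp hj
    have hsurj : ∀ c : κ, ∃ x : R, IsLocalRing.residue R x = cb c :=
      fun c => IsLocalRing.residue_surjective _
    choose lam hlam using hsurj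
    refine ⟨lam, fun l => ?_⟩
    have h1 := congrFun hcb l
    simp only [Finset.sum_apply, Pi.smul_apply, Function.comp_apply, Matrix.col_apply,
      smul_eq_mul] at h1
    rw [map_sub, map_sum, sub_eq_zero]
    rw [hMb] at h1
    simp only [Matrix.map_apply] at h1
    rw [← h1]
    refine Finset.sum_congr rfl (fun c _ => ?_)
    rw [map_mul, hlam]
  choose lam hlam using hcoef
  obtain ⟨Lam, hLam⟩ : ∃ Lam : Matrix (Fin n) (Fin n) R, ∀ i j, Lam i j =
      if j ∈ S then 0 else ∑ c, if a c = i then lam j c else 0 :=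
    ⟨Matrix.of (fun i j => if j ∈ S then 0 else ∑ c, if a c = i then lam j c else 0),
      fun i j => rfl⟩
  have hLam0 : ∀ i j, i ∉ S → Lam i j = 0 := by
    intro i j hi
    rw [hLam]
    split_ifs
    · rfl
    · apply Finset.sum_eq_zero
      intro c _
      rw [if_neg]
      intro hac
      exact hi (hac ▸ hamem c)
  have hdetU : (1 - Lam).det = 1 := by
    rw [Matrix.twoBlockTriangular_det (1 - Lam) (fun i => i ∈ S)]
    · have hb1 : Matrix.toSquareBlockProp (1 - Lam) (fun i => i ∈ S) = 1 := by
        ext ⟨i, hi⟩ ⟨j, hj⟩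
        rw [Matrix.toSquareBlockProp_def, Matrix.of_apply, Matrix.sub_apply, hLam, if_pos hj,
          sub_zero]
        simp [Matrix.one_apply]
      have hb2 : Matrix.toSquareBlockProp (1 - Lam) (fun i => ¬ i ∈ S) = 1 := by
        ext ⟨i, hi⟩ ⟨j, hj⟩
        rw [Matrix.toSquareBlockProp_def, Matrix.of_apply, Matrix.sub_apply, hLam0 i j hi,
          sub_zero]
        simp [Matrix.one_apply]
      rw [hb1, hb2]
      have e1 := @Matrix.det_one {a // a ∈ S} _ (Subtype.fintype fun i => i ∈ S) R _
      have e2 := @Matrix.det_one {a // ¬ a ∈ S} _ (Subtype.fintype fun i => ¬ i ∈ S) R _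
      rw [e1, e2, mul_one]
    · intro i hi j hj
      rw [Matrix.sub_apply, hLam, if_pos hj, sub_zero, Matrix.one_apply_ne]
      rintro rfl
      exact hi hj
  have hN : ∀ l j, j ∉ S → (M * (1 - Lam)) l j ∈ IsLocalRing.maximalIdeal R := by
    intro l j hj
    rw [← IsLocalRing.residue_eq_zero_iff]
    have h1 : (M * (1 - Lam)) l j = M l j - ∑ c, lam j c * M l (a c) := by
      rw [Matrix.mul_sub, Matrix.mul_one, Matrix.sub_apply, Matrix.mul_apply]
      congr 1
      simp only [hLam, if_neg hj, Finset.mul_sum, mul_ite, mul_zero]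
      rw [Finset.sum_comm]
      refine Finset.sum_congr rfl (fun c _ => ?_)
      rw [Finset.sum_ite_eq]
      simp [mul_comm]
    rw [h1]; exact hlam j l
  have hdet : M.det = (M * (1 - Lam)).det := by rw [Matrix.det_mul, hdetU, mul_one]
  rw [hdet, Matrix.det_apply']
  refine Ideal.sum_mem _ (fun σ _ => Ideal.mul_mem_left _ _ ?_)
  rw [← Finset.prod_mul_prod_compl S]
  refine Ideal.mul_mem_left _ _ ?_
  have h1 : ∏ i ∈ Sᶜ, (M * (1 - Lam)) (σ i) i ∈ ∏ i ∈ Sᶜ, IsLocalRing.maximalIdeal R :=
    Ideal.prod_mem_prod (fun i hi => hN (σ i) i (Finset.mem_compl.mp hi))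
  rw [Finset.prod_const] at h1
  refine Ideal.pow_le_pow_right ?_ h1
  rw [Finset.card_compl, Fintype.card_fin]; omega

end Groth.Agent.S18127
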