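import Groth.Statements.S18156
import Mathlib

set_option autoImplicit false
universe u v
open CAlg

namespace Groth.Agent.S18156

/-- Let k be a field and A a regular local ring that is a k-algebra, with maximal ideal m and m-adic
completion Â. Then every k-derivation D of A into itself extends to a k-derivation D̂ of Â into
itself along the canonical map ρ : A → Â, in the sense that D̂(ρ(a)) = ρ(D(a)) for every a ∈ A. (The
source works throughout over an algebraically closed field of characteristic p; neither assumption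
enters this statement.) -/
theorem result
    (k : Type u) [Field k] (A : Type v) [CommRing A] [Algebra k A] [IsRegularLocalRing A]
    (D : Derivation k A A) :
    ∃ Dhat : Derivation k (AdicCompletion (IsLocalRing.maximalIdeal A) A)
        (AdicCompletion (IsLocalRing.maximalIdeal A) A),
      ∀ a : A, Dhat (algebraMap A (AdicCompletion (IsLocalRing.maximalIdeal A) A) a) =
        algebraMap A (AdicCompletion (IsLocalRing.maximalIdeal A) A) (D a) := by
  classical
  obtain ⟨I, hI⟩ : ∃ I : Ideal A, I = IsLocalRing.maximalIdeal A := ⟨_, rfl⟩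
  rw [← hI]
  have hDpow : ∀ n : ℕ, ∀ a ∈ I ^ (n + 1), D a ∈ I ^ n := by
    intro n
    induction n with
    | zero => intro a _; simp
    | succ n ih =>
      intro a ha
      rw [pow_succ] at ha
      refine Submodule.mul_induction_on ha ?_ ?_
      · intro x hx y hy
        rw [Derivation.leibniz, smul_eq_mul, smul_eq_mul]
        refine Ideal.add_mem _ (Ideal.mul_mem_right _ _ hx) ?_
        rw [pow_succ, mul_comm y (D x)]
        exact Ideal.mul_mem_mul (ih x hx) hy
      · intro x y hx hy
        rw [map_add]; exact Ideal.add_mem _ hx hy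
  have hmem : ∀ (n : ℕ) (a : A), a ∈ (I ^ n • ⊤ : Submodule A A) ↔ a ∈ I ^ n := by
    intro n a; rw [smul_eq_mul, Ideal.mul_top]
  have hDq : ∀ (n : ℕ) (a b : A),
      (Submodule.Quotient.mk a : A ⧸ (I ^ (n + 1) • ⊤ : Submodule A A)) = Submodule.Quotient.mk b →
      (Submodule.Quotient.mk (D a) : A ⧸ (I ^ n • ⊤ : Submodule A A)) =
        Submodule.Quotient.mk (D b) := by
    intro n a b h
    rw [Submodule.Quotient.eq] at h ⊢
    rw [hmem] at h ⊢
    rw [← map_sub]
    exact hDpow n _ h
  obtain ⟨rep, hrep⟩ : ∃ rep : AdicCompletion I A → ℕ → A,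
      ∀ x n, Submodule.Quotient.mk (rep x n) = x.val n := by
    have h1 : ∀ (x : AdicCompletion I A) (n : ℕ), ∃ a : A, Submodule.Quotient.mk a = x.val n :=
      fun x n => Submodule.Quotient.mk_surjective _ (x.val n)
    choose rep hrep using h1
    exact ⟨rep, hrep⟩
  obtain ⟨Dh, hDh⟩ : ∃ Dh : AdicCompletion I A → AdicCompletion I A,
      ∀ x n, (Dh x).val n = Submodule.Quotient.mk (D (rep x (n + 1))) := by
    refine ⟨fun x => ⟨fun n => Submodule.Quotient.mk (D (rep x (n + 1))), ?_⟩, fun x n => rfl⟩
    intro m n hmn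
    show AdicCompletion.transitionMap I A hmn (Submodule.Quotient.mk (D (rep x (n + 1)))) =
      Submodule.Quotient.mk (D (rep x (m + 1)))
    have h1 : (Submodule.Quotient.mk (rep x (n + 1)) :
        A ⧸ (I ^ (m + 1) • ⊤ : Submodule A A)) = Submodule.Quotient.mk (rep x (m + 1)) := by
      rw [hrep x (m + 1)]
      have h2 := x.property (Nat.succ_le_succ hmn)
      rw [← hrep x (n + 1)] at h2
      exact h2
    exact hDq m _ _ h1
  have KL : ∀ (x : AdicCompletion I A) (n : ℕ) (b : A),
      (Submodule.Quotient.mk b : A ⧸ (I ^ (n + 1) • ⊤ : Submodule A A)) = x.val (n + 1) →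
      (Dh x).val n = Submodule.Quotient.mk (D b) := by
    intro x n b h
    rw [hDh]
    exact hDq n _ _ (by rw [hrep, h])
  have hval : ∀ (x : AdicCompletion I A) (n : ℕ) (b : A),
      (Submodule.Quotient.mk b : A ⧸ (I ^ (n + 1) • ⊤ : Submodule A A)) = x.val (n + 1) →
      (Submodule.Quotient.mk b : A ⧸ (I ^ n • ⊤ : Submodule A A)) = x.val n := by
    intro x n b h
    have h2 := x.property (Nat.le_succ n)
    rw [← h] at h2
    exact h2
  obtain ⟨L, hL⟩ : ∃ L : AdicCompletion I A →ₗ[k] AdicCompletion I A, ∀ x, L x = Dh x := by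
    refine ⟨{ toFun := Dh, map_add' := ?_, map_smul' := ?_ }, fun x => rfl⟩
    · intro x y
      refine AdicCompletion.ext (fun n => ?_)
      have h1 : (Submodule.Quotient.mk (rep x (n+1) + rep y (n+1)) :
          A ⧸ (I ^ (n+1) • ⊤ : Submodule A A)) = (x + y).val (n+1) := by
        rw [AdicCompletion.val_add_apply, ← hrep x (n+1), ← hrep y (n+1)]; rfl
      rw [KL _ n _ h1, AdicCompletion.val_add_apply, hDh, hDh, map_add]; rfl
    · intro c x
      refine AdicCompletion.ext (fun n => ?_)
      have h1 : (Submodule.Quotient.mk (c • rep x (n+1)) :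
          A ⧸ (I ^ (n+1) • ⊤ : Submodule A A)) = (c • x).val (n+1) := by
        rw [AdicCompletion.val_smul_apply, ← hrep x (n+1)]; rfl
      rw [KL _ n _ h1, RingHom.id_apply, AdicCompletion.val_smul_apply, hDh, Derivation.map_smul]; rfl
  refine ⟨Derivation.mk' L ?_, ?_⟩
  · intro x y
    refine AdicCompletion.ext (fun n => ?_)
    rw [hL, hL, hL]
    have h1 : (Submodule.Quotient.mk (rep x (n+1) * rep y (n+1)) :
        A ⧸ (I ^ (n+1) • ⊤ : Submodule A A)) = (x * y).val (n+1) := by
      rw [AdicCompletion.val_mul, ← hrep x (n+1), ← hrep y (n+1)]; rfl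
    have hx := hval x n _ (hrep x (n+1))
    have hy := hval y n _ (hrep y (n+1))
    rw [KL _ n _ h1, AdicCompletion.val_add_apply, Derivation.leibniz]
    have e1 : (x • Dh y).val n = x.val n * (Dh y).val n := by
      rfl
    have e2 : (y • Dh x).val n = y.val n * (Dh x).val n := by
      rfl
    rw [e1, e2, hDh y, hDh x, ← hx, ← hy]
    rfl
  · intro a
    refine AdicCompletion.ext (fun n => ?_)
    show (L (algebraMap A (AdicCompletion I A) a)).val n = _
    rw [hL]
    have h1 : (Submodule.Quotient.mk a : A ⧸ (I ^ (n+1) • ⊤ : Submodule A A)) =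
        (algebraMap A (AdicCompletion I A) a).val (n+1) := rfl
    rw [KL _ n _ h1]
    rfl

end Groth.Agent.S18156
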