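import Groth.Statements.S18181
import Mathlib
import Groth.Agent.Lib.lead.FF17
-- import your own Groth.Agent.* helpers here

set_option autoImplicit false
open FunFld

namespace Groth.Agent.S18181
open FunFld Groth.Agent.Lib.lead.FF Groth.Agent.Lib.lead.FF2 Groth.Agent.Lib.lead.FF4 Groth.Agent.Lib.lead.FF5 Groth.Agent.Lib.lead.FF6 Groth.Agent.Lib.lead.FF7 Groth.Agent.Lib.lead.FF8 Groth.Agent.Lib.lead.FF9 Groth.Agent.Lib.lead.FF10 Groth.Agent.Lib.lead.FF11 Groth.Agent.Lib.lead.FF12 Groth.Agent.Lib.lead.FF13 Groth.Agent.Lib.lead.FF14 Groth.Agent.Lib.lead.FF15 Groth.Agent.Lib.lead.FF16 Groth.Agent.Lib.lead.FF17 Groth.Agent.Lib.lead.Wr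


/-- Let `k` be an algebraically closed field of characteristic zero and `K/k` a function field of one
variable (the function field of a smooth projective curve over `k`). A `g^r_d` is a divisor `D` of
degree `d` with a subspace `V ⊆ L(D)` of dimension `r + 1`; for a place `P` and `n ≥ 0`, `V(-nP) = V
∩ L(D - nP)` is the space of members vanishing to order at least `n` at `P`, so `dim V(-nP)` counts
the vanishing orders `m_0 < ⋯ < m_r` of `V` at `P` that are at least `n`, and the weight of `V` at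
`P` is `∑_{n=1}^{d} dim V(-nP) - r(r+1)/2`. Aspects `(D_Y, V_Y)` on `K_Y` and `(D_Z, V_Z)` on `K_Z`
of a limit `g^r_d` on two components meeting in a node (a place `P` of `K_Y` and a place `Q` of
`K_Z`) are compatible there when `m_i(V_Y, P) + m_{r-i}(V_Z, Q) = d` for every `i`, equivalently
`dim V_Y(-nP) + dim V_Z(-(d+1-n)Q) = r + 1` for `0 ≤ n ≤ d + 1`. A backbone is a chain of rational
components `Z_0, …, Z_N` (function fields `K_i` of genus `0`), `Z_i` meeting `Z_{i+1}` in a node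
given by a place `B_i` of `K_i` and a place `A_{i+1}` of `K_{i+1}`, the two node places `A_i ≠ B_i`
of an inner component being distinct; each `Z_i` carries an aspect `(D_i, V_i)` of a limit `g^r_d`
and consecutive aspects are compatible at the nodes. A set `T` of indices marks the components
carrying a tail: for `i ∈ T` the aspect `V_i` has at least a cusp (`dim V_i(-2Q_i) ≥ r`) at a
further place `Q_i` of `K_i`, distinct from the node places of `Z_i`. (In the source these are the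
backbone components of a flag curve to which a chain of rational curves ending in an elliptic tail
is attached, `T` has `g` elements, and the cusp is forced by that chain.) Then for an inner backbone
component `Z_i` with `i ∈ T` the weight of its aspect at the place `Q_i` where the tail is attached
is at most `(r+1)(d-r) - r · |T ∖ {i}|` (in the source: `(r+1)(d-r) - r(g-1)`), that is `∑_{n=1}^{d}
dim V_i(-nQ_i) + r · |T ∖ {i}| + r(r+1)/2 ≤ (r+1)d`. (The source states this for curves over the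
complex numbers.) -/
theorem result
    (k : Type*) [Field k] [IsAlgClosed k] [CharZero k]
    (N : ℕ) (Z : Fin (N + 1) → Type*) [∀ i, Field (Z i)] [∀ i, Algebra k (Z i)]
    (hZ : ∀ i, FunFld.IsFunctionField k (Z i)) (hrat : ∀ i, FunFld.genus k (Z i) = 0)
    (d r : ℕ) (D : ∀ i, FunFld.Divisor k (Z i)) (hD : ∀ i, (D i).deg = d)
    (V : ∀ i, Submodule k (Z i)) (hV : ∀ i, V i ≤ FunFld.L (D i))
    (hVr : ∀ i, Module.finrank k ↥(V i) = r + 1)
    (A B : ∀ i, FunFld.Place k (Z i))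
    (hAB : ∀ i : Fin (N + 1), 0 < (i : ℕ) → (i : ℕ) < N → A i ≠ B i)
    (hcomp : ∀ (l : Fin N) (m : ℕ), m ≤ d + 1 →
      Module.finrank k ↥((V l.castSucc) ⊓ FunFld.L ((D l.castSucc) - Finsupp.single (B l.castSucc) ((m : ℤ)))) +
        Module.finrank k ↥((V l.succ) ⊓ FunFld.L ((D l.succ) - Finsupp.single (A l.succ) ((d : ℤ) + 1 - m))) = r + 1)
    (T : Finset (Fin (N + 1))) (Q : ∀ i, FunFld.Place k (Z i))
    (hQA : ∀ i ∈ T, 0 < (i : ℕ) → Q i ≠ A i) (hQB : ∀ i ∈ T, (i : ℕ) < N → Q i ≠ B i)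
    (hcusp : ∀ i ∈ T, r ≤ Module.finrank k ↥((V i) ⊓ FunFld.L ((D i) - Finsupp.single (Q i) ((2 : ℤ)))))
    (i : Fin (N + 1)) (hiT : i ∈ T) (hi0 : 0 < (i : ℕ)) (hiN : (i : ℕ) < N) :
    (∑ n ∈ Finset.range d, Module.finrank k ↥((V i) ⊓ FunFld.L ((D i) - Finsupp.single (Q i) ((n : ℤ) + 1)))) +
      r * (T.erase i).card + r * (r + 1) / 2 ≤ (r + 1) * d := by
  classical
  have heven : 2 * (r * (r + 1) / 2) = r * (r + 1) :=
    Nat.two_mul_div_two_of_even (Nat.even_mul_succ_self r)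
  obtain ⟨iv, hiv⟩ := i
  obtain ⟨j, rfl⟩ : ∃ j, iv = j + 1 := ⟨iv - 1, by simp only [] at hi0; omega⟩
  have hjN : j + 1 < N := hiN
  have hN : 0 < N := by omega
  have hpre := backbone_prefix N hN Z hZ hrat d r D hD V hV hVr A B hAB hcomp T Q hQA hQB hcusp
    j hiv
  have hsuf := backbone_suffix N Z hZ hrat d r D hD V hV hVr A B hAB hcomp T Q hQA hQB hcusp
    (N - (j + 1) - 1) (j + 1) hjN (by omega)
  have hAB' := hAB ⟨j + 1, hiv⟩ (Nat.succ_pos j) hjN
  have hQA' := hQA ⟨j + 1, hiv⟩ hiT (Nat.succ_pos j)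
  have hQB' := hQB ⟨j + 1, hiv⟩ hiT hjN
  have hcard := card_erase_split T (j + 1) hiv
  obtain ⟨cA, hcA⟩ : ∃ c, c = (T.filter (fun x : Fin (N + 1) => (x : ℕ) < j + 1)).card := ⟨_, rfl⟩
  obtain ⟨cB, hcB⟩ : ∃ c, c = (T.filter (fun x : Fin (N + 1) => j + 1 < (x : ℕ))).card := ⟨_, rfl⟩
  rw [mul_assoc, ← hcA] at hpre
  rw [mul_assoc, ← hcB] at hsuf
  rw [← hcA, ← hcB] at hcard
  have hb := list_bound (hZ ⟨j + 1, hiv⟩) (hrat _) d r (D ⟨j + 1, hiv⟩) (hD _) (V ⟨j + 1, hiv⟩)
    (hV _) (hVr _) (Q ⟨j + 1, hiv⟩) [(A ⟨j + 1, hiv⟩, cA), (B ⟨j + 1, hiv⟩, cB)]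
    (by simp [hAB']) (by simp [hQA', hQB'])
    (by
      intro x hx
      simp only [List.mem_cons, List.not_mem_nil, or_false] at hx
      rcases hx with rfl | rfl
      · exact hpre
      · exact hsuf)
  have hE : (List.map Prod.snd [(A ⟨j + 1, hiv⟩, cA), (B ⟨j + 1, hiv⟩, cB)]).sum =
      (T.erase ⟨j + 1, hiv⟩).card := by
    simp only [List.map_cons, List.map_nil, List.sum_cons, List.sum_nil]
    omega
  rw [hE] at hb
  have hgoal : wt (V ⟨j + 1, hiv⟩) (D ⟨j + 1, hiv⟩) (Q ⟨j + 1, hiv⟩) d +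
      r * (T.erase ⟨j + 1, hiv⟩).card + r * (r + 1) / 2 ≤ (r + 1) * d := by omega
  exact hgoal

end Groth.Agent.S18181
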