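import Groth.Statements.S18183
import Mathlib
import Groth.Agent.Lib.lead.FF17
-- import your own Groth.Agent.* helpers here

set_option autoImplicit false
open FunFld

namespace Groth.Agent.S18183
open FunFld Groth.Agent.Lib.lead.FF Groth.Agent.Lib.lead.FF2 Groth.Agent.Lib.lead.FF4 Groth.Agent.Lib.lead.FF5 Groth.Agent.Lib.lead.FF6 Groth.Agent.Lib.lead.FF7 Groth.Agent.Lib.lead.FF8 Groth.Agent.Lib.lead.FF9 Groth.Agent.Lib.lead.FF10 Groth.Agent.Lib.lead.FF11 Groth.Agent.Lib.lead.FF12 Groth.Agent.Lib.lead.FF13 Groth.Agent.Lib.lead.FF14 Groth.Agent.Lib.lead.FF15 Groth.Agent.Lib.lead.FF16 Groth.Agent.Lib.lead.FF17 Groth.Agent.Lib.lead.Wr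


/-- Let `k` be an algebraically closed field of characteristic zero and `K/k` a function field of one
variable (the function field of a smooth projective curve over `k`). A `g^r_d` is a divisor `D` of
degree `d` with a subspace `V ⊆ L(D)` of dimension `r + 1`; for a place `P` and `n ≥ 0`, `V(-nP) = V
∩ L(D - nP)` is the space of members vanishing to order at least `n` at `P`, so `dim V(-nP)` counts
the vanishing orders `m_0 < ⋯ < m_r` of `V` at `P` that are at least `n`, and the weight of `V` at
`P` is `∑_{n=1}^{d} dim V(-nP) - r(r+1)/2`. Aspects `(D_Y, V_Y)` on `K_Y` and `(D_Z, V_Z)` on `K_Z`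
of a limit `g^r_d` on two components meeting in a node (a place `P` of `K_Y` and a place `Q` of
`K_Z`) are compatible there when `m_i(V_Y, P) + m_{r-i}(V_Z, Q) = d` for every `i`, equivalently
`dim V_Y(-nP) + dim V_Z(-(d+1-n)Q) = r + 1` for `0 ≤ n ≤ d + 1`. A backbone is a chain of rational
components `Z_0, …, Z_N` (function fields `K_i` of genus `0`), `Z_i` meeting `Z_{i+1}` in a node
given by a place `B_i` of `K_i` and a place `A_{i+1}` of `K_{i+1}`, the two node places `A_i ≠ B_i`
of an inner component being distinct; each `Z_i` carries an aspect `(D_i, V_i)` of a limit `g^r_d`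
and consecutive aspects are compatible at the nodes. A set `T` of indices marks the components
carrying a tail: for `i ∈ T` the aspect `V_i` has at least a cusp (`dim V_i(-2Q_i) ≥ r`) at a
further place `Q_i` of `K_i`, distinct from the node places of `Z_i`. (In the source these are the
backbone components of a flag curve to which a chain of rational curves ending in an elliptic tail
is attached, `T` has `g` elements, and the cusp is forced by that chain.) Let `Q'` be a place of
some `Z_i` other than its node places and other than `Q_i` when `i ∈ T`. Then `w(V_i, Q') ≤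
(r+1)(d-r) - r · |T|`, that is `∑_{j=1}^{d} dim V_i(-jQ') + r · |T| + r(r+1) ≤ (r+1)d + r(r+1)/2`.
Hence, when `|T| = g` and the moving-point Brill–Noether number `ρ = 1 + g - (r+1)(g+r-d) - ∑(m_i -
i)` is `≤ 0`, a point with vanishing sequence `(m_i)`, whose weight is then at least `(r+1)(d-r) -
rg + 1`, cannot lie on a backbone component away from the nodes; the source states this as: the
limit of the ramification point lies on an elliptic tail. (The printed argument bounds such weights
only by `(r+1)(d-r) - r(g-1)`; the sharper bound here also uses that the aspect has weight at least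
`r` at a cusp.) (The source states this for curves over the complex numbers.) -/
theorem result
    (k : Type*) [Field k] [IsAlgClosed k] [CharZero k]
    (N : ℕ) (Z : Fin (N + 1) → Type*) [∀ i, Field (Z i)] [∀ i, Algebra k (Z i)]
    (hZ : ∀ i, FunFld.IsFunctionField k (Z i)) (hrat : ∀ i, FunFld.genus k (Z i) = 0)
    (d r : ℕ) (D : ∀ i, FunFld.Divisor k (Z i)) (hD : ∀ i, (D i).deg = d)
    (V : ∀ i, Submodule k (Z i)) (hV : ∀ i, V i ≤ FunFld.L (D i))
    (hVr : ∀ i, Module.finrank k ↥(V i) = r + 1)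
    (A B : ∀ i, FunFld.Place k (Z i))
    (hAB : ∀ i : Fin (N + 1), 0 < (i : ℕ) → (i : ℕ) < N → A i ≠ B i)
    (hcomp : ∀ (l : Fin N) (m : ℕ), m ≤ d + 1 →
      Module.finrank k ↥((V l.castSucc) ⊓ FunFld.L ((D l.castSucc) - Finsupp.single (B l.castSucc) ((m : ℤ)))) +
        Module.finrank k ↥((V l.succ) ⊓ FunFld.L ((D l.succ) - Finsupp.single (A l.succ) ((d : ℤ) + 1 - m))) = r + 1)
    (T : Finset (Fin (N + 1))) (Q : ∀ i, FunFld.Place k (Z i))
    (hQA : ∀ i ∈ T, 0 < (i : ℕ) → Q i ≠ A i) (hQB : ∀ i ∈ T, (i : ℕ) < N → Q i ≠ B i)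
    (hcusp : ∀ i ∈ T, r ≤ Module.finrank k ↥((V i) ⊓ FunFld.L ((D i) - Finsupp.single (Q i) ((2 : ℤ)))))
    (i : Fin (N + 1)) (Q' : FunFld.Place k (Z i)) (hQ'A : 0 < (i : ℕ) → Q' ≠ A i)
    (hQ'B : (i : ℕ) < N → Q' ≠ B i) (hQ'Q : i ∈ T → Q' ≠ Q i) :
    (∑ j ∈ Finset.range d, Module.finrank k ↥((V i) ⊓ FunFld.L ((D i) - Finsupp.single Q' ((j : ℤ) + 1)))) + r * T.card + r * (r + 1) ≤
      (r + 1) * d + r * (r + 1) / 2 := by
  classical
  have heven : 2 * (r * (r + 1) / 2) = r * (r + 1) :=
    Nat.two_mul_div_two_of_even (Nat.even_mul_succ_self r)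
  obtain ⟨iv, hiv⟩ := i
  obtain ⟨cA, hcA⟩ : ∃ c, c = (T.filter (fun x : Fin (N + 1) => (x : ℕ) < iv)).card := ⟨_, rfl⟩
  obtain ⟨cB, hcB⟩ : ∃ c, c = (T.filter (fun x : Fin (N + 1) => iv < (x : ℕ))).card := ⟨_, rfl⟩
  have hcard := card_erase_split T iv hiv
  rw [← hcA, ← hcB] at hcard
  have hT : T.card = cA + cB + (if (⟨iv, hiv⟩ : Fin (N + 1)) ∈ T then 1 else 0) := by
    rw [Finset.card_erase_eq_ite] at hcard
    split_ifs at hcard ⊢ with h
    · have := Finset.card_pos.2 ⟨_, h⟩
      omega
    · omega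
  have zA : ¬ 0 < iv → cA = 0 := by
    intro h
    rw [hcA, Finset.card_eq_zero, Finset.filter_eq_empty_iff]
    intro x _
    omega
  have zB : ¬ iv < N → cB = 0 := by
    intro h
    rw [hcB, Finset.card_eq_zero, Finset.filter_eq_empty_iff]
    intro x _
    have := x.2
    omega
  have fA : 0 < iv → r * (r + 1) + 2 * (r * cA) ≤
      2 * wt (V ⟨iv, hiv⟩) (D ⟨iv, hiv⟩) (A ⟨iv, hiv⟩) d := by
    intro h0
    obtain ⟨j, rfl⟩ : ∃ j, iv = j + 1 := ⟨iv - 1, by omega⟩
    have hN : 0 < N := by omega
    have hpre := backbone_prefix N hN Z hZ hrat d r D hD V hV hVr A B hAB hcomp T Q hQA hQB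
      hcusp j hiv
    rw [mul_assoc, ← hcA] at hpre
    exact hpre
  have fB : iv < N → r * (r + 1) + 2 * (r * cB) ≤
      2 * wt (V ⟨iv, hiv⟩) (D ⟨iv, hiv⟩) (B ⟨iv, hiv⟩) d := by
    intro hlt
    have hsuf := backbone_suffix N Z hZ hrat d r D hD V hV hVr A B hAB hcomp T Q hQA hQB hcusp
      (N - iv - 1) iv hlt (by omega)
    rw [mul_assoc, ← hcB] at hsuf
    exact hsuf
  have fQ : (⟨iv, hiv⟩ : Fin (N + 1)) ∈ T → r * (r + 1) + 2 * (r * 1) ≤
      2 * wt (V ⟨iv, hiv⟩) (D ⟨iv, hiv⟩) (Q ⟨iv, hiv⟩) d := by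
    intro hT'
    have h := wt_ge_cusp (hZ ⟨iv, hiv⟩) d r (D _) (hD _) (V _) (hV _) (hVr _) (Q ⟨iv, hiv⟩)
      (hcusp _ hT')
    rw [mul_one]
    exact h
  have key : ∀ l : List (FunFld.Place k (Z ⟨iv, hiv⟩) × ℕ), (l.map Prod.fst).Nodup →
      Q' ∉ l.map Prod.fst →
      (∀ x ∈ l, r * (r + 1) + 2 * (r * x.2) ≤ 2 * wt (V ⟨iv, hiv⟩) (D ⟨iv, hiv⟩) x.1 d) →
      (l.map Prod.snd).sum = T.card →
      wt (V ⟨iv, hiv⟩) (D ⟨iv, hiv⟩) Q' d + r * T.card + r * (r + 1) ≤
        (r + 1) * d + r * (r + 1) / 2 := by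
    intro l h1 h2 h3 h4
    have hb := list_bound (hZ ⟨iv, hiv⟩) (hrat _) d r (D _) (hD _) (V _) (hV _) (hVr _) Q' l
      h1 h2 h3
    rw [h4] at hb
    omega
  by_cases h0 : 0 < iv <;> by_cases hN' : iv < N <;>
    by_cases hT' : (⟨iv, hiv⟩ : Fin (N + 1)) ∈ T
  · rw [if_pos hT'] at hT
    exact key [(A ⟨iv, hiv⟩, cA), (B ⟨iv, hiv⟩, cB), (Q ⟨iv, hiv⟩, 1)]
      (by simp [hAB ⟨iv, hiv⟩ h0 hN', (hQA ⟨iv, hiv⟩ hT' h0).symm, (hQB ⟨iv, hiv⟩ hT' hN').symm])
      (by simp [hQ'A h0, hQ'B hN', hQ'Q hT'])
      (by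
        intro x hx
        simp only [List.mem_cons, List.not_mem_nil, or_false] at hx
        rcases hx with rfl | rfl | rfl
        exacts [fA h0, fB hN', fQ hT'])
      (by
        simp only [List.map_cons, List.map_nil, List.sum_cons, List.sum_nil]
        omega)
  · rw [if_neg hT'] at hT
    exact key [(A ⟨iv, hiv⟩, cA), (B ⟨iv, hiv⟩, cB)]
      (by simp [hAB ⟨iv, hiv⟩ h0 hN'])
      (by simp [hQ'A h0, hQ'B hN'])
      (by
        intro x hx
        simp only [List.mem_cons, List.not_mem_nil, or_false] at hx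
        rcases hx with rfl | rfl
        exacts [fA h0, fB hN'])
      (by
        simp only [List.map_cons, List.map_nil, List.sum_cons, List.sum_nil]
        omega)
  · have hzB := zB hN'
    rw [if_pos hT'] at hT
    exact key [(A ⟨iv, hiv⟩, cA), (Q ⟨iv, hiv⟩, 1)]
      (by simp [(hQA ⟨iv, hiv⟩ hT' h0).symm])
      (by simp [hQ'A h0, hQ'Q hT'])
      (by
        intro x hx
        simp only [List.mem_cons, List.not_mem_nil, or_false] at hx
        rcases hx with rfl | rfl
        exacts [fA h0, fQ hT'])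
      (by
        simp only [List.map_cons, List.map_nil, List.sum_cons, List.sum_nil]
        omega)
  · have hzB := zB hN'
    rw [if_neg hT'] at hT
    exact key [(A ⟨iv, hiv⟩, cA)]
      (by simp)
      (by simp [hQ'A h0])
      (by
        intro x hx
        simp only [List.mem_cons, List.not_mem_nil, or_false] at hx
        rcases hx with rfl
        exacts [fA h0])
      (by
        simp only [List.map_cons, List.map_nil, List.sum_cons, List.sum_nil]
        omega)
  · have hzA := zA h0
    rw [if_pos hT'] at hT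
    exact key [(B ⟨iv, hiv⟩, cB), (Q ⟨iv, hiv⟩, 1)]
      (by simp [(hQB ⟨iv, hiv⟩ hT' hN').symm])
      (by simp [hQ'B hN', hQ'Q hT'])
      (by
        intro x hx
        simp only [List.mem_cons, List.not_mem_nil, or_false] at hx
        rcases hx with rfl | rfl
        exacts [fB hN', fQ hT'])
      (by
        simp only [List.map_cons, List.map_nil, List.sum_cons, List.sum_nil]
        omega)
  · have hzA := zA h0
    rw [if_neg hT'] at hT
    exact key [(B ⟨iv, hiv⟩, cB)]
      (by simp)
      (by simp [hQ'B hN'])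
      (by
        intro x hx
        simp only [List.mem_cons, List.not_mem_nil, or_false] at hx
        rcases hx with rfl
        exacts [fB hN'])
      (by
        simp only [List.map_cons, List.map_nil, List.sum_cons, List.sum_nil]
        omega)
  · have hzA := zA h0
    have hzB := zB hN'
    rw [if_pos hT'] at hT
    exact key [(Q ⟨iv, hiv⟩, 1)]
      (by simp)
      (by simp [hQ'Q hT'])
      (by
        intro x hx
        simp only [List.mem_cons, List.not_mem_nil, or_false] at hx
        rcases hx with rfl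
        exacts [fQ hT'])
      (by
        simp only [List.map_cons, List.map_nil, List.sum_cons, List.sum_nil]
        omega)
  · have hzA := zA h0
    have hzB := zB hN'
    rw [if_neg hT'] at hT
    exact key []
      (by simp)
      (by simp)
      (by
        intro x hx
        simp at hx)
      (by
        simp only [List.map_cons, List.map_nil, List.sum_cons, List.sum_nil]
        omega)

end Groth.Agent.S18183
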