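import Groth.Statements.S18188
import Mathlib

set_option autoImplicit false
universe u
open OrbRR

namespace Groth.Agent.S18188

section rs
variable {K : Type u} [Field K]

theorem sum_Ioo_eq (N : ℕ) (hN : 0 < N) (f : ℕ → K) :
    ∑ i ∈ Finset.Ioo 0 N, f i = ∑ i ∈ Finset.range N, f i - f 0 := by
  rw [← Nat.Ico_zero_eq_range, ← Finset.Ioo_insert_left hN, Finset.sum_insert (by simp)]
  ring

theorem geom_zero (N : ℕ) (x : K) (hx : x ^ N = 1) (hx1 : x ≠ 1) :
    ∑ i ∈ Finset.range N, x ^ i = 0 := by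
  have h := geom_sum_mul x N
  rw [hx, sub_self] at h
  rcases mul_eq_zero.mp h with h | h
  · exact h
  · exact absurd (sub_eq_zero.mp h) hx1

theorem main (h6 : (6 : K) ≠ 0) (N j : ℕ) (hj : j < N) (ζ : K) (hζ : IsPrimitiveRoot ζ N) :
    ∑ i ∈ Finset.Ioo 0 N, ζ ^ (i * j) / (2 - ζ ^ i - (ζ ^ i)⁻¹) =
      (j : K) * ((j : K) - (N : K)) / 2 + ((N : K) ^ 2 - 1) / 12 := by
  have hN : 0 < N := by omega
  have h2 : (2 : K) ≠ 0 := fun h => h6 (by rw [show (6 : K) = 2 * 3 by norm_num, h, zero_mul])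
  have h3 : (3 : K) ≠ 0 := fun h => h6 (by rw [show (6 : K) = 2 * 3 by norm_num, h, mul_zero])
  have h4 : (4 : K) ≠ 0 := by rw [show (4 : K) = 2 * 2 by norm_num]; exact mul_ne_zero h2 h2
  have h12 : (12 : K) ≠ 0 := by rw [show (12 : K) = 2 * 6 by norm_num]; exact mul_ne_zero h2 h6
  haveI : NeZero N := ⟨by omega⟩
  have hNK : (N : K) ≠ 0 := (hζ.neZero').out
  have hζ0 : ζ ≠ 0 := hζ.ne_zero (by omega)
  have hζN : ζ ^ N = 1 := hζ.pow_eq_one
  have hden : ∀ i ∈ Finset.Ioo 0 N, (2 - ζ ^ i - (ζ ^ i)⁻¹ : K) ≠ 0 := by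
    intro i hi
    rw [Finset.mem_Ioo] at hi
    have hz1 : ζ ^ i ≠ 1 := hζ.pow_ne_one_of_pos_of_lt (by omega) hi.2
    have hz0 : ζ ^ i ≠ 0 := pow_ne_zero _ hζ0
    intro h
    have h5 : (ζ ^ i - 1) ^ 2 = 0 := by
      have : (2 - ζ ^ i - (ζ ^ i)⁻¹) * ζ ^ i = 0 := by rw [h, zero_mul]
      rw [sub_mul, sub_mul, inv_mul_cancel₀ hz0] at this
      linear_combination -this
    exact hz1 (sub_eq_zero.mp ((pow_eq_zero_iff (two_ne_zero)).mp h5))
  obtain ⟨S, hS⟩ : ∃ S : ℕ → K, S = fun m =>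
      ∑ i ∈ Finset.Ioo 0 N, ζ ^ (i * m) / (2 - ζ ^ i - (ζ ^ i)⁻¹) := ⟨_, rfl⟩
  obtain ⟨r, hr⟩ : ∃ r : ℕ → K, r = fun m : ℕ =>
      (m : K) * ((m : K) - (N : K)) / 2 + ((N : K) ^ 2 - 1) / 12 := ⟨_, rfl⟩
  have hSapp : ∀ m, S m = ∑ i ∈ Finset.Ioo 0 N, ζ ^ (i * m) / (2 - ζ ^ i - (ζ ^ i)⁻¹) :=
    fun m => by rw [hS]
  have hrapp : ∀ m : ℕ, r m = (m : K) * ((m : K) - (N : K)) / 2 + ((N : K) ^ 2 - 1) / 12 :=
    fun m => by rw [hr]
  have hS2 : ∀ l, l + 1 < N → S (l + 2) + S l - 2 * S (l + 1) = 1 := by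
    intro l hl
    rw [hSapp, hSapp, hSapp, Finset.mul_sum, ← Finset.sum_add_distrib, ← Finset.sum_sub_distrib]
    have hterm : ∀ i ∈ Finset.Ioo 0 N, ζ ^ (i * (l + 2)) / (2 - ζ ^ i - (ζ ^ i)⁻¹) +
        ζ ^ (i * l) / (2 - ζ ^ i - (ζ ^ i)⁻¹) -
        2 * (ζ ^ (i * (l + 1)) / (2 - ζ ^ i - (ζ ^ i)⁻¹)) = - (ζ ^ (l + 1)) ^ i := by
      intro i hi
      have hd := hden i hi
      have hz0 : ζ ^ i ≠ 0 := pow_ne_zero _ hζ0
      have hsw : (ζ ^ (l + 1)) ^ i = (ζ ^ i) ^ (l + 1) := by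
        rw [← pow_mul, ← pow_mul, mul_comm]
      rw [hsw]
      simp only [pow_mul]
      generalize ζ ^ i = z at hd hz0 ⊢
      rw [← add_div, mul_div_assoc', ← sub_div, div_eq_iff hd]
      have h7 : z⁻¹ * z = 1 := inv_mul_cancel₀ hz0
      linear_combination (-(z ^ l)) * h7
    rw [Finset.sum_congr rfl hterm, Finset.sum_neg_distrib, sum_Ioo_eq N hN,
      geom_zero N _ ?_ ?_]
    · simp
    · rw [← pow_mul, mul_comm, pow_mul, hζN, one_pow]
    · exact hζ.pow_ne_one_of_pos_of_lt (by omega) hl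
  have hSN : S N = S 0 := by
    rw [hSapp, hSapp]
    refine Finset.sum_congr rfl fun i _ => ?_
    rw [mul_comm i N, pow_mul, hζN, one_pow, mul_zero, pow_zero]
  have hr2 : ∀ l : ℕ, r (l + 2) + r l - 2 * r (l + 1) = 1 := by
    intro l
    rw [hrapp, hrapp, hrapp]
    push_cast
    field_simp
    ring
  have hrN : r N = r 0 := by
    rw [hrapp, hrapp]; push_cast; ring
  obtain ⟨T, hT⟩ : ∃ T : ℕ → K, T = fun m => S m - r m := ⟨_, rfl⟩
  have hTapp : ∀ m, T m = S m - r m := fun m => by rw [hT]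
  have hT2 : ∀ l, l + 1 < N → T (l + 2) = 2 * T (l + 1) - T l := by
    intro l hl
    rw [hTapp, hTapp, hTapp]
    linear_combination hS2 l hl - hr2 l
  have hTN : T N = T 0 := by rw [hTapp, hTapp, hSN, hrN]
  have hlin : ∀ m, m + 1 ≤ N → T m = T 0 + (m : K) * (T 1 - T 0) ∧
      T (m + 1) = T 0 + ((m + 1 : ℕ) : K) * (T 1 - T 0) := by
    intro m
    induction m with
    | zero =>
      intro _
      constructor
      · push_cast; ring
      · simp only [zero_add, Nat.cast_one, one_mul]; ring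
    | succ m ih =>
      intro hm
      obtain ⟨ih1, ih2⟩ := ih (by omega)
      refine ⟨ih2, ?_⟩
      have h5 := hT2 m (by omega)
      show T (m + 2) = _
      rw [h5, ih1, ih2]
      push_cast
      ring
  have hδ : T 1 - T 0 = 0 := by
    have h := (hlin (N - 1) (by omega)).2
    have e : N - 1 + 1 = N := by omega
    rw [e, hTN] at h
    have h6' : (N : K) * (T 1 - T 0) = 0 := by linear_combination -h
    rcases mul_eq_zero.mp h6' with h7 | h7
    · exact absurd h7 hNK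
    · exact h7
  have hconst : ∀ m, m < N → T m = T 0 := by
    intro m hm
    rw [(hlin m (by omega)).1, hδ, mul_zero, add_zero]
  have hsumS : ∑ m ∈ Finset.range N, S m = 0 := by
    rw [Finset.sum_congr rfl (fun m _ => hSapp m), Finset.sum_comm]
    refine Finset.sum_eq_zero fun i hi => ?_
    rw [← Finset.sum_div]
    have h8 : ∑ m ∈ Finset.range N, ζ ^ (i * m) = 0 := by
      simp only [pow_mul]
      rw [Finset.mem_Ioo] at hi
      exact geom_zero N _ (by rw [← pow_mul, mul_comm, pow_mul, hζN, one_pow])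
        (hζ.pow_ne_one_of_pos_of_lt (by omega) hi.2)
    rw [h8, zero_div]
  have hsumr_gen : ∀ n : ℕ, ∑ m ∈ Finset.range n, r m =
      (n : K) * ((n : K) - 1) * (2 * (n : K) - 1) / 12 - (N : K) * (n : K) * ((n : K) - 1) / 4 +
        ((N : K) ^ 2 - 1) / 12 * (n : K) := by
    intro n
    induction n with
    | zero => simp
    | succ n ih =>
      rw [Finset.sum_range_succ, ih, hrapp]
      push_cast
      field_simp
      ring
  have hsumr : ∑ m ∈ Finset.range N, r m = 0 := by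
    rw [hsumr_gen]
    field_simp
    ring
  have hsumT : ∑ m ∈ Finset.range N, T m = 0 := by
    rw [Finset.sum_congr rfl (fun m _ => hTapp m), Finset.sum_sub_distrib, hsumS, hsumr, sub_zero]
  have hT0 : T 0 = 0 := by
    rw [Finset.sum_congr rfl (fun m hm => hconst m (Finset.mem_range.mp hm)), Finset.sum_const,
      Finset.card_range, nsmul_eq_mul] at hsumT
    rcases mul_eq_zero.mp hsumT with h | h
    · exact absurd h hNK
    · exact h
  have hfin := hconst j hj
  rw [hT0, hTapp, sub_eq_zero, hSapp, hrapp] at hfin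
  exact hfin

end rs

/-- Let K be a field in which 6 ≠ 0, let j < N be natural numbers (so N ≥ 1), and let ζ ∈ K be a
primitive N-th root of unity. Then the sum over i = 1, …, N − 1 of ζ^{ij} / (2 − ζ^i − ζ^{−i})
equals j(j − N)/2 + (N² − 1)/12. (The published setting is characteristic zero; the identity is
stated here over any field of characteristic different from 2 and 3, where the published proof
applies unchanged: a field containing a primitive N-th root of unity has characteristic prime to N,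
and each denominator 2 − ζ^i − ζ^{−i} = −(1 − ζ^i)²/ζ^i with 0 < i < N is nonzero. In
characteristics 2 and 3 the right-hand side has no meaning.) -/
theorem result (K : Type u) [Field K] (h6 : (6 : K) ≠ 0)
    (N j : ℕ) (hj : j < N) (ζ : K) (hζ : IsPrimitiveRoot ζ N) :
    ∑ i ∈ Finset.Ioo 0 N, ζ ^ (i * j) / (2 - ζ ^ i - (ζ ^ i)⁻¹) =
      (j : K) * ((j : K) - (N : K)) / 2 + ((N : K) ^ 2 - 1) / 12 := by
  exact main h6 N j hj ζ hζ

end Groth.Agent.S18188
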