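import Groth.Statements.S18189
import Mathlib
import Groth.Agent.Lib.helper9.Circulant

set_option autoImplicit false
open OrbRR

namespace Groth.Agent.S18189

/-- Let N ≥ 1 be a natural number, let ζ ∈ ℂ be a primitive N-th root of unity, and put f(i) = i(i −
N)/2 + (N² − 1)/12 for 0 ≤ i < N. For every natural number m the complex number ε_m = (1/N)
∑_{i=0}^{N−1} f(i) ζ^{mi}, an eigenvalue of the symmetric circulant N × N matrix with (i, j) entry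
f(j − i)/N, is real and nonnegative. -/
theorem result (N : ℕ) (hN : 0 < N) (ζ : ℂ)
    (hζ : IsPrimitiveRoot ζ N) (m : ℕ) :
    (∑ i ∈ Finset.range N,
        ((i : ℂ) * ((i : ℂ) - (N : ℂ)) / 2 + ((N : ℂ) ^ 2 - 1) / 12) / (N : ℂ) * ζ ^ (m * i)).im = 0 ∧
    0 ≤ (∑ i ∈ Finset.range N,
        ((i : ℂ) * ((i : ℂ) - (N : ℂ)) / 2 + ((N : ℂ) ^ 2 - 1) / 12) / (N : ℂ) * ζ ^ (m * i)).re := by
  obtain ⟨n, rfl⟩ : ∃ n, N = n + 1 := ⟨N - 1, by omega⟩
  set c : ℝ := (((n + 1 : ℕ) : ℝ) - 1) / 2 with hc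
  let W : ZMod (n + 1) → ℂ := fun x => (((x.val : ℝ) - c : ℝ) : ℂ)
  let Z : ZMod (n + 1) → ℂ := fun x => ζ ^ (m * x.val)
  have hζN : ζ ^ (n + 1) = 1 := hζ.pow_eq_one
  have hZadd : ∀ x y, Z (x + y) = Z x * Z y := by
    intro x y
    simp only [Z]
    rw [ZMod.val_add, ← pow_add, ← mul_add, pow_mul, pow_mul ζ m (x.val + y.val)]
    exact (pow_eq_pow_mod _ (by rw [← pow_mul, mul_comm, pow_mul, hζN, one_pow])).symm
  have hZ0 : Z 0 = 1 := by simp [Z]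
  have hZnorm : ∀ x, ‖Z x‖ = 1 := by
    intro x; simp only [Z]; rw [norm_pow, hζ.norm'_eq_one (by omega), one_pow]
  have hZneg : ∀ x, Z (-x) = (starRingEnd ℂ) (Z x) := by
    intro x
    have h1 : Z (-x) * Z x = 1 := by rw [← hZadd, neg_add_cancel, hZ0]
    have h2 : (starRingEnd ℂ) (Z x) * Z x = 1 := by
      rw [mul_comm, Complex.mul_conj, Complex.normSq_eq_norm_sq, hZnorm]; simp
    have hne : Z x ≠ 0 := by intro h; rw [h, mul_zero] at h1; exact zero_ne_one h1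
    exact mul_right_cancel₀ hne (h1.trans h2.symm)
  set S : ℂ := ∑ t, W t * Z t with hS
  have hconjS : (starRingEnd ℂ) S = ∑ s, W s * Z (-s) := by
    rw [hS, map_sum]; apply Finset.sum_congr rfl; intro s _
    rw [map_mul, hZneg]; congr 1; simp only [W]; exact Complex.conj_ofReal _
  have hmain : ∀ d : ZMod (n + 1), (((n + 1 : ℕ) : ℂ)) * (((d.val : ℂ)) * ((d.val : ℂ) - ((n + 1 : ℕ) : ℂ)) / 2
      + (((n + 1 : ℕ) : ℂ) ^ 2 - 1) / 12) = ∑ s, W (s + d) * W s := by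
    intro d
    have := congrArg (fun x : ℝ => (x : ℂ)) (H9Circ.autocorr_zmod n d)
    rw [Complex.ofReal_sum] at this
    simp only [W]
    rw [show (∑ s : ZMod (n + 1), (((((s + d).val : ℝ) - c : ℝ)) : ℂ) * ((((s.val : ℝ) - c : ℝ)) : ℂ)) =
      ∑ s : ZMod (n + 1), (((((s + d).val : ℝ) - c) * ((s.val : ℝ) - c) : ℝ) : ℂ) by
        apply Finset.sum_congr rfl; intro s _; rw [Complex.ofReal_mul]]
    rw [this]
    push_cast
    ring
  have hsum : ∑ d, (∑ s, W (s + d) * W s) * Z d = S * (starRingEnd ℂ) S := by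
    rw [hconjS, hS, Finset.sum_mul_sum]
    simp_rw [Finset.sum_mul]
    rw [Finset.sum_comm]
    rw [Finset.sum_comm (s := (Finset.univ : Finset (ZMod (n + 1)))) (t := (Finset.univ : Finset (ZMod (n + 1))))
      (f := fun t s => W t * Z t * (W s * Z (-s)))]
    apply Finset.sum_congr rfl
    intro s _
    apply Fintype.sum_equiv (Equiv.addLeft s)
    intro d
    simp only [Equiv.coe_addLeft]
    have : Z d = Z (s + d) * Z (-s) := by rw [← hZadd]; congr 1; ring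
    rw [this]; ring
  have hE : (∑ i ∈ Finset.range (n + 1),
        ((i : ℂ) * ((i : ℂ) - ((n + 1 : ℕ) : ℂ)) / 2 + (((n + 1 : ℕ) : ℂ) ^ 2 - 1) / 12) / ((n + 1 : ℕ) : ℂ) * ζ ^ (m * i)) =
      ((Complex.normSq S / ((n + 1 : ℕ) : ℝ) ^ 2 : ℝ) : ℂ) := by
    rw [← Fin.sum_univ_eq_sum_range (fun i : ℕ =>
      ((i : ℂ) * ((i : ℂ) - ((n + 1 : ℕ) : ℂ)) / 2 + (((n + 1 : ℕ) : ℂ) ^ 2 - 1) / 12) / ((n + 1 : ℕ) : ℂ) * ζ ^ (m * i)) (n + 1)]
    have hNne : (((n + 1 : ℕ) : ℂ)) ≠ 0 := by exact_mod_cast (Nat.succ_ne_zero n)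
    have h1 : ∀ d : ZMod (n + 1), (((d.val : ℂ)) * ((d.val : ℂ) - ((n + 1 : ℕ) : ℂ)) / 2
      + (((n + 1 : ℕ) : ℂ) ^ 2 - 1) / 12) / ((n + 1 : ℕ) : ℂ) * ζ ^ (m * d.val) =
        ((∑ s, W (s + d) * W s) * Z d) / (((n + 1 : ℕ) : ℂ)) ^ 2 := by
      intro d
      rw [← hmain d]
      simp only [Z]
      field_simp
    have h2 : (∑ d : ZMod (n + 1), (((d.val : ℂ)) * ((d.val : ℂ) - ((n + 1 : ℕ) : ℂ)) / 2
      + (((n + 1 : ℕ) : ℂ) ^ 2 - 1) / 12) / ((n + 1 : ℕ) : ℂ) * ζ ^ (m * d.val)) =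
        (S * (starRingEnd ℂ) S) / (((n + 1 : ℕ) : ℂ)) ^ 2 := by
      rw [← hsum, Finset.sum_div]
      exact Finset.sum_congr rfl (fun d _ => h1 d)
    rw [Complex.mul_conj] at h2
    rw [Complex.ofReal_div, Complex.ofReal_pow, Complex.ofReal_natCast]
    exact h2
  rw [hE]
  refine ⟨Complex.ofReal_im _, ?_⟩
  rw [Complex.ofReal_re]
  exact div_nonneg (Complex.normSq_nonneg _) (by positivity)

end Groth.Agent.S18189
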