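import Groth.Statements.S18190
import Mathlib

set_option autoImplicit false
open OrbRR

namespace Groth.Agent.S18190

theorem h9_sum_quad (n : ℕ) (a b : ℝ) :
    ∑ s ∈ Finset.range n, (((s : ℝ) + a) * ((s : ℝ) + b)) =
      (n : ℝ) * ((n : ℝ) - 1) * (2 * (n : ℝ) - 1) / 6 + (a + b) * ((n : ℝ) * ((n : ℝ) - 1) / 2)
        + a * b * (n : ℝ) := by
  induction n with
  | zero => simp
  | succ n ih =>
    rw [Finset.sum_range_succ, ih]
    push_cast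
    ring

theorem h9_autocorr (D E : ℕ) (hE : 0 < E) :
    ∑ s ∈ Finset.range (D + E),
      ((((s + D) % (D + E) : ℕ) : ℝ) - (((D + E : ℕ) : ℝ) - 1) / 2) *
        ((s : ℝ) - (((D + E : ℕ) : ℝ) - 1) / 2) =
    ((D + E : ℕ) : ℝ) * (((D : ℝ) * ((D : ℝ) - ((D + E : ℕ) : ℝ))) / 2
      + (((D + E : ℕ) : ℝ) ^ 2 - 1) / 12) := by
  have hsplit := Finset.sum_range_add_sum_Ico (fun s : ℕ =>
      ((((s + D) % (D + E) : ℕ) : ℝ) - (((D + E : ℕ) : ℝ) - 1) / 2) *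
        ((s : ℝ) - (((D + E : ℕ) : ℝ) - 1) / 2)) (show E ≤ D + E by omega)
  rw [← hsplit]
  have h1 : ∑ s ∈ Finset.range E,
      ((((s + D) % (D + E) : ℕ) : ℝ) - (((D + E : ℕ) : ℝ) - 1) / 2) *
        ((s : ℝ) - (((D + E : ℕ) : ℝ) - 1) / 2) =
      ∑ s ∈ Finset.range E, (((s : ℝ) + ((D : ℝ) - (((D + E : ℕ) : ℝ) - 1) / 2)) *
        ((s : ℝ) + (- ((((D + E : ℕ) : ℝ) - 1) / 2)))) := by
    apply Finset.sum_congr rfl
    intro s hs
    have hs' : s < E := Finset.mem_range.mp hs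
    rw [Nat.mod_eq_of_lt (by omega)]
    push_cast
    ring
  have h2 : ∑ s ∈ Finset.Ico E (D + E),
      ((((s + D) % (D + E) : ℕ) : ℝ) - (((D + E : ℕ) : ℝ) - 1) / 2) *
        ((s : ℝ) - (((D + E : ℕ) : ℝ) - 1) / 2) =
      ∑ i ∈ Finset.range D, (((i : ℝ) + (- ((((D + E : ℕ) : ℝ) - 1) / 2))) *
        ((i : ℝ) + ((E : ℝ) - (((D + E : ℕ) : ℝ) - 1) / 2))) := by
    rw [Finset.sum_Ico_eq_sum_range]
    rw [show D + E - E = D by omega]
    apply Finset.sum_congr rfl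
    intro i hi
    have hi' : i < D := Finset.mem_range.mp hi
    have : (E + i + D) % (D + E) = i := by
      rw [show E + i + D = i + (D + E) by ring, Nat.add_mod_right, Nat.mod_eq_of_lt (by omega)]
    rw [this]
    push_cast
    ring
  rw [h1, h2, h9_sum_quad, h9_sum_quad]
  push_cast
  ring

/-- Let N ≥ 1 and let f : ℤ/Nℤ → ℚ be f(x) = x(x − N)/2 + (N² − 1)/12, where x is read as its
representative with 0 ≤ x < N. The real N × N matrix indexed by ℤ/Nℤ whose (i, j) entry is f(j −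
i)/N, a symmetric circulant matrix, is positive semidefinite. -/
theorem result (N : ℕ) [NeZero N] :
    (Matrix.of fun i j : ZMod N =>
        ((((j - i).val : ℝ) * (((j - i).val : ℝ) - (N : ℝ))) / 2 + ((N : ℝ) ^ 2 - 1) / 12) / (N : ℝ)).PosSemidef := by
  obtain ⟨n, rfl⟩ : ∃ n, N = n + 1 := ⟨N - 1, by have := NeZero.ne N; omega⟩
  let B : Matrix (ZMod (n + 1)) (ZMod (n + 1)) ℝ := Matrix.of fun i t =>
    ((((t - i).val : ℝ)) - (((n + 1 : ℕ) : ℝ) - 1) / 2) / ((n + 1 : ℕ) : ℝ)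
  have hM : (Matrix.of fun i j : ZMod (n + 1) =>
        ((((j - i).val : ℝ) * (((j - i).val : ℝ) - ((n + 1 : ℕ) : ℝ))) / 2
          + (((n + 1 : ℕ) : ℝ) ^ 2 - 1) / 12) / ((n + 1 : ℕ) : ℝ)) = B * Matrix.conjTranspose B := by
    ext i j
    simp only [Matrix.of_apply, Matrix.mul_apply, Matrix.conjTranspose_apply, star_trivial, B]
    set d := j - i with hd
    have hDlt : d.val < n + 1 := ZMod.val_lt d
    have hre : ∑ t : ZMod (n + 1),
        ((((t - i).val : ℝ)) - (((n + 1 : ℕ) : ℝ) - 1) / 2) / ((n + 1 : ℕ) : ℝ) *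
          (((((t - j).val : ℝ)) - (((n + 1 : ℕ) : ℝ) - 1) / 2) / ((n + 1 : ℕ) : ℝ)) =
        ∑ s : ZMod (n + 1),
        ((((s + d).val : ℝ)) - (((n + 1 : ℕ) : ℝ) - 1) / 2) / ((n + 1 : ℕ) : ℝ) *
          (((((s).val : ℝ)) - (((n + 1 : ℕ) : ℝ) - 1) / 2) / ((n + 1 : ℕ) : ℝ)) := by
      symm
      apply Fintype.sum_equiv (Equiv.addRight j)
      intro s
      simp only [Equiv.coe_addRight]
      rw [show s + j - i = s + d by rw [hd]; ring, add_sub_cancel_right]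
    rw [hre]
    have hfin : ∑ s : ZMod (n + 1),
        ((((s + d).val : ℝ)) - (((n + 1 : ℕ) : ℝ) - 1) / 2) / ((n + 1 : ℕ) : ℝ) *
          (((((s).val : ℝ)) - (((n + 1 : ℕ) : ℝ) - 1) / 2) / ((n + 1 : ℕ) : ℝ)) =
        ∑ s ∈ Finset.range (n + 1),
          (((((s + d.val) % (n + 1) : ℕ) : ℝ)) - (((n + 1 : ℕ) : ℝ) - 1) / 2) / ((n + 1 : ℕ) : ℝ) *
          (((((s : ℕ) : ℝ)) - (((n + 1 : ℕ) : ℝ) - 1) / 2) / ((n + 1 : ℕ) : ℝ)) := by
      rw [← Fin.sum_univ_eq_sum_range (fun s : ℕ =>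
          (((((s + d.val) % (n + 1) : ℕ) : ℝ)) - (((n + 1 : ℕ) : ℝ) - 1) / 2) / ((n + 1 : ℕ) : ℝ) *
          (((((s : ℕ) : ℝ)) - (((n + 1 : ℕ) : ℝ) - 1) / 2) / ((n + 1 : ℕ) : ℝ))) (n + 1)]
      apply Finset.sum_congr rfl
      intro s _
      rw [ZMod.val_add]
      rfl
    rw [hfin]
    obtain ⟨E, hE⟩ : ∃ E, n + 1 = d.val + E := ⟨n + 1 - d.val, by omega⟩
    have hEpos : 0 < E := by omega
    have hac := h9_autocorr d.val E hEpos
    rw [← hE] at hac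
    have hNpos : (0 : ℝ) < ((n + 1 : ℕ) : ℝ) := by positivity
    have hsum : ∑ s ∈ Finset.range (n + 1),
          (((((s + d.val) % (n + 1) : ℕ) : ℝ)) - (((n + 1 : ℕ) : ℝ) - 1) / 2) / ((n + 1 : ℕ) : ℝ) *
          (((((s : ℕ) : ℝ)) - (((n + 1 : ℕ) : ℝ) - 1) / 2) / ((n + 1 : ℕ) : ℝ)) =
        (∑ s ∈ Finset.range (n + 1),
          (((((s + d.val) % (n + 1) : ℕ) : ℝ)) - (((n + 1 : ℕ) : ℝ) - 1) / 2) *
          (((((s : ℕ) : ℝ)) - (((n + 1 : ℕ) : ℝ) - 1) / 2))) / (((n + 1 : ℕ) : ℝ) * ((n + 1 : ℕ) : ℝ)) := by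
      rw [Finset.sum_div]
      apply Finset.sum_congr rfl
      intro s _
      field_simp
    rw [hsum, hac]
    field_simp
  rw [hM]
  exact Matrix.posSemidef_self_mul_conjTranspose B

end Groth.Agent.S18190
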