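import Groth.Statements.S18292
import Mathlib

set_option autoImplicit false
universe v₁ u₁
open CategoryTheory MonoidalCategory CartesianMonoidalCategory MonObj Opposite
open Magnet Magnet.MonAct

namespace Groth.Agent.S18292

/-- Let A be a monoid object of a cartesian monoidal category acting on objects B, X₁, X₂, X₃ and P, let
f₁ : X₁ → X₂ and f₃ : X₃ → X₂ be equivariant, and let p₁ : P → X₁, p₃ : P → X₃ be equivariant
morphisms making P the fibre product X₁ ×_{X₂} X₃ (in the source A = A(M)_S acts on S-spaces, B =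
A(N)_S for a magnet N, and the fibre product carries its canonical action). Then attractors commute
with this fibre product: the square of functors T ↦ (equivariant maps B × T → ·) induced by p₁, p₃,
f₁, f₃ is cartesian, (X₁ ×_{X₂} X₃)^N = X₁^N ×_{X₂^N} X₃^N. -/
theorem result {C : Type u₁} [Category.{v₁} C] [CartesianMonoidalCategory C]
    {A B X₁ X₂ X₃ P : C} [MonObj A] (ρ : Magnet.MonAct A B) (a₁ : Magnet.MonAct A X₁) (a₂ : Magnet.MonAct A X₂)
    (a₃ : Magnet.MonAct A X₃) (aP : Magnet.MonAct A P) (f₁ : X₁ ⟶ X₂) (f₃ : X₃ ⟶ X₂) (p₁ : P ⟶ X₁) (p₃ : P ⟶ X₃)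
    (hsq : IsPullback p₁ p₃ f₁ f₃) (hf₁ : Magnet.MonAct.IsEquivariant a₁ a₂ f₁)
    (hf₃ : Magnet.MonAct.IsEquivariant a₃ a₂ f₃) (hp₁ : Magnet.MonAct.IsEquivariant aP a₁ p₁)
    (hp₃ : Magnet.MonAct.IsEquivariant aP a₃ p₃) :
    IsPullback (Magnet.MonAct.eqvHom.postcomp ρ p₁ hp₁) (Magnet.MonAct.eqvHom.postcomp ρ p₃ hp₃)
      (Magnet.MonAct.eqvHom.postcomp ρ f₁ hf₁) (Magnet.MonAct.eqvHom.postcomp ρ f₃ hf₃) := by
  apply IsPullback.of_forall_isPullback_app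
  intro T
  rw [CategoryTheory.Limits.Types.isPullback_iff]
  refine ⟨?_, ?_, ?_⟩
  · refine ConcreteCategory.hom_ext _ _ fun φ => Subtype.ext ?_
    show (φ.1 ≫ p₁) ≫ f₁ = (φ.1 ≫ p₃) ≫ f₃
    rw [Category.assoc, Category.assoc, hsq.w]
  · rintro φ φ' ⟨h1, h3⟩
    have h1' : φ.1 ≫ p₁ = φ'.1 ≫ p₁ := congrArg Subtype.val h1
    have h3' : φ.1 ≫ p₃ = φ'.1 ≫ p₃ := congrArg Subtype.val h3
    exact Subtype.ext (hsq.hom_ext h1' h3')
  · intro φ₁ φ₃ h
    have h' : φ₁.1 ≫ f₁ = φ₃.1 ≫ f₃ := congrArg Subtype.val h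
    have hmem : Magnet.MonAct.IsEquivariant (ρ.prod (Magnet.MonAct.trivial A (unop T))) aP
        (hsq.lift φ₁.1 φ₃.1 h') := by
      have e1 := φ₁.2
      have e3 := φ₃.2
      unfold Magnet.MonAct.IsEquivariant at e1 e3 hp₁ hp₃ ⊢
      apply hsq.hom_ext
      · have e : (A ◁ hsq.lift φ₁.1 φ₃.1 h') ≫ (A ◁ p₁) = A ◁ φ₁.1 := by
          rw [← MonoidalCategory.whiskerLeft_comp, hsq.lift_fst]
        simp only [Category.assoc, IsPullback.lift_fst, e1, hp₁]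
        rw [reassoc_of% e]
      · have e : (A ◁ hsq.lift φ₁.1 φ₃.1 h') ≫ (A ◁ p₃) = A ◁ φ₃.1 := by
          rw [← MonoidalCategory.whiskerLeft_comp, hsq.lift_snd]
        simp only [Category.assoc, IsPullback.lift_snd, e3, hp₃]
        rw [reassoc_of% e]
    refine ⟨⟨hsq.lift φ₁.1 φ₃.1 h', hmem⟩, Subtype.ext ?_, Subtype.ext ?_⟩
    · exact hsq.lift_fst _ _ _
    · exact hsq.lift_snd _ _ _

end Groth.Agent.S18292
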