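import Groth.Statements.S18296
import Mathlib

set_option autoImplicit false
universe v₁ u₁
open CategoryTheory MonoidalCategory CartesianMonoidalCategory MonObj Opposite
open Magnet Magnet.MonAct

namespace Groth.Agent.S18296

/-- Let A be a monoid object of a cartesian monoidal category acting on B, Y and Z, and let A act
componentwise on Y × Z (in the source A = A(M)_S acts on S-spaces and B = A(N)_S for a magnet N).
Then (Y × Z)^N = Y^N × Z^N: for every T, an equivariant map B × T → Y × Z is the same as a pair of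
equivariant maps to Y and to Z, the bijection being given by the two projections. -/
theorem result {C : Type u₁} [Category.{v₁} C] [CartesianMonoidalCategory C]
    {A B Y Z : C} [MonObj A] (ρ : Magnet.MonAct A B) (a : Magnet.MonAct A Y) (b : Magnet.MonAct A Z) (T : Cᵒᵖ) :
    Function.Bijective (fun φ : (Magnet.MonAct.eqvHom ρ (a.prod b)).obj T =>
      ((Magnet.MonAct.eqvHom.postcomp ρ (fst Y Z) (Magnet.MonAct.isEquivariant_prod_fst a b)).app T φ,
        (Magnet.MonAct.eqvHom.postcomp ρ (snd Y Z) (Magnet.MonAct.isEquivariant_prod_snd a b)).app T φ)) := by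
  constructor
  · intro φ φ' h
    have h1 : φ.1 ≫ fst Y Z = φ'.1 ≫ fst Y Z := congrArg (fun p => p.1.1) h
    have h2 : φ.1 ≫ snd Y Z = φ'.1 ≫ snd Y Z := congrArg (fun p => p.2.1) h
    exact Subtype.ext (CartesianMonoidalCategory.hom_ext _ _ h1 h2)
  · rintro ⟨φ₁, φ₂⟩
    have h1 := φ₁.2
    have h2 := φ₂.2
    rw [Magnet.MonAct.mem_eqvHom_iff] at h1 h2
    have hmem : Magnet.MonAct.IsEquivariant (ρ.prod (Magnet.MonAct.trivial A (unop T))) (a.prod b)
        (lift φ₁.1 φ₂.1) := by
      rw [Magnet.MonAct.mem_eqvHom_iff]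
      intro T' g c t
      rw [comp_lift, comp_lift, Magnet.MonAct.lift_prod_act, h1 T' g c t, h2 T' g c t]
    refine ⟨⟨lift φ₁.1 φ₂.1, hmem⟩, ?_⟩
    refine Prod.ext (Subtype.ext ?_) (Subtype.ext ?_)
    · exact lift_fst _ _
    · exact lift_snd _ _

end Groth.Agent.S18296
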