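import Groth.Statements.S18370
import Mathlib

set_option autoImplicit false
universe u
open CategoryTheory CategoryTheory.Limits MonoidalCategory CartesianMonoidalCategory MonObj GrpObj AlgebraicGeometry
open GrpSch

namespace Groth.Agent.S18370

/-- Let S be a scheme and G a commutative S-group scheme which is killed by a natural number n, i.e. the
n-th power map of G is the trivial homomorphism, and let n = a·b with a and b coprime. If i_a : G_a
→ G and i_b : G_b → G are scheme-theoretic kernels of the a-th and b-th power maps of G, then the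
morphism G_a ×_S G_b → G sending (x, y) to i_a(x)·i_b(y) is an isomorphism of S-schemes. (The
published statement assumes n ≠ 0; the case n = 0, where {a, b} = {0, 1} and one kernel is all of G
while the other is trivial, is included here.) -/
theorem result {S : Scheme.{u}} (G Ga Gb : Over S)
    [GrpObj G] [IsCommMonObj G] (n a b : ℕ) (hn : n = a * b) (hab : Nat.Coprime a b)
    (hG : (𝟙 G) ^ n = 1)
    (ia : Ga ⟶ G) (hia : AlgGrp.IsKernel ia ((𝟙 G) ^ a))
    (ib : Gb ⟶ G) (hib : AlgGrp.IsKernel ib ((𝟙 G) ^ b)) :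
    IsIso ((fst Ga Gb ≫ ia) * (snd Ga Gb ≫ ib)) := by
  obtain ⟨u, v, huv⟩ : ∃ u v : ℤ, (a : ℤ) * u + (b : ℤ) * v = 1 := by
    have h := Int.gcd_eq_gcd_ab a b
    refine ⟨Int.gcdA a b, Int.gcdB a b, ?_⟩
    rw [← h]
    have : Int.gcd (a : ℤ) (b : ℤ) = 1 := by
      rw [Int.gcd_natCast_natCast]; exact hab
    rw [this]; rfl
  have hia1 : ia ^ a = 1 := by
    have h := hia.w
    rw [MonObj.comp_pow, Category.comp_id] at h
    rw [h, Hom.one_def]
  have hib1 : ib ^ b = 1 := by
    have h := hib.w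
    rw [MonObj.comp_pow, Category.comp_id] at h
    rw [h, Hom.one_def]
  have hGz : ∀ z : ℤ, (𝟙 G) ^ ((n : ℤ) * z) = 1 := by
    intro z
    rw [zpow_mul, zpow_natCast, hG, one_zpow]
  have hψa_cond : ((𝟙 G) ^ ((b : ℤ) * v)) ≫ ((𝟙 G) ^ a) = toUnit G ≫ η[G] := by
    rw [MonObj.comp_pow, Category.comp_id, ← Hom.one_def, ← zpow_natCast, ← zpow_mul]
    have : (b : ℤ) * v * a = (n : ℤ) * v := by rw [hn]; push_cast; ring
    rw [this, hGz]
  have hψb_cond : ((𝟙 G) ^ ((a : ℤ) * u)) ≫ ((𝟙 G) ^ b) = toUnit G ≫ η[G] := by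
    rw [MonObj.comp_pow, Category.comp_id, ← Hom.one_def, ← zpow_natCast, ← zpow_mul]
    have : (a : ℤ) * u * b = (n : ℤ) * u := by rw [hn]; push_cast; ring
    rw [this, hGz]
  let ψa : G ⟶ Ga := hia.lift _ _ hψa_cond
  have hψa : ψa ≫ ia = (𝟙 G) ^ ((b : ℤ) * v) := hia.lift_fst _ _ _
  let ψb : G ⟶ Gb := hib.lift _ _ hψb_cond
  have hψb : ψb ≫ ib = (𝟙 G) ^ ((a : ℤ) * u) := hib.lift_fst _ _ _
  have h1 : lift ψa ψb ≫ ((fst Ga Gb ≫ ia) * (snd Ga Gb ≫ ib)) = 𝟙 G := by
    rw [MonObj.comp_mul, lift_fst_assoc, lift_snd_assoc, hψa, hψb, ← zpow_add, add_comm, huv,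
      zpow_one]
  have e1a : (fst Ga Gb ≫ ia) ^ a = 1 := by
    rw [← MonObj.comp_pow, hia1, MonObj.comp_one]
  have e1b : (snd Ga Gb ≫ ib) ^ b = 1 := by
    rw [← MonObj.comp_pow, hib1, MonObj.comp_one]
  have h2 : ((fst Ga Gb ≫ ia) * (snd Ga Gb ≫ ib)) ≫ lift ψa ψb = 𝟙 _ := by
    apply CartesianMonoidalCategory.hom_ext
    · rw [Category.assoc, lift_fst, Category.id_comp]
      apply hia.hom_ext
      · rw [Category.assoc, hψa, GrpObj.comp_zpow, Category.comp_id, mul_zpow]
        have e1 : (snd Ga Gb ≫ ib) ^ ((b : ℤ) * v) = 1 := by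
          rw [zpow_mul, zpow_natCast, e1b, one_zpow]
        have e2 : (fst Ga Gb ≫ ia) ^ ((b : ℤ) * v) = fst Ga Gb ≫ ia := by
          have : (b : ℤ) * v = 1 - a * u := by linarith
          rw [this, zpow_sub, zpow_one, zpow_mul, zpow_natCast, e1a, one_zpow, inv_one, _root_.mul_one]
        rw [e1, e2, _root_.mul_one]
      · exact toUnit_unique _ _
    · rw [Category.assoc, lift_snd, Category.id_comp]
      apply hib.hom_ext
      · rw [Category.assoc, hψb, GrpObj.comp_zpow, Category.comp_id, mul_zpow]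
        have e1 : (fst Ga Gb ≫ ia) ^ ((a : ℤ) * u) = 1 := by
          rw [zpow_mul, zpow_natCast, e1a, one_zpow]
        have e2 : (snd Ga Gb ≫ ib) ^ ((a : ℤ) * u) = snd Ga Gb ≫ ib := by
          have : (a : ℤ) * u = 1 - b * v := by linarith
          rw [this, zpow_sub, zpow_one, zpow_mul, zpow_natCast, e1b, one_zpow, inv_one, _root_.mul_one]
        rw [e1, e2, _root_.one_mul]
      · exact toUnit_unique _ _
  exact ⟨lift ψa ψb, h2, h1⟩

end Groth.Agent.S18370
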