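import Groth.Statements.S18383
import Mathlib

set_option autoImplicit false
universe u
open CategoryTheory CategoryTheory.Limits MonoidalCategory CartesianMonoidalCategory MonObj GrpObj AlgebraicGeometry
open GrpSch

namespace Groth.Agent.S18383

universe v₁ u₁

lemma isPullback_whiskerRight_fst {C : Type u₁} [Category.{v₁} C] [CartesianMonoidalCategory C]
    {X Y : C} (f : X ⟶ Y) (Z : C) :
    IsPullback (f ▷ Z) (fst X Z) (fst Y Z) f := by
  refine ⟨⟨by simp⟩, ⟨PullbackCone.IsLimit.mk _ (fun s => lift s.snd (s.fst ≫ snd Y Z)) ?_ ?_ ?_⟩⟩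
  · intro s
    apply CartesianMonoidalCategory.hom_ext
    · simp [s.condition]
    · simp
  · intro s
    simp
  · intro s m h1 h2
    apply CartesianMonoidalCategory.hom_ext
    · simpa using h2
    · simp [← h1]

lemma shear_isIso {C : Type u₁} [Category.{v₁} C] [CartesianMonoidalCategory C]
    (H : C) [GrpObj H] : IsIso (lift μ[H] (snd H H)) := by
  refine ⟨⟨lift (fst H H * (snd H H)⁻¹) (snd H H), ?_, ?_⟩⟩
  · rw [comp_lift, lift_snd, MonObj.comp_mul, GrpObj.comp_inv, lift_fst, lift_snd,
      MonObj.mul_eq_mul, mul_inv_cancel_right, lift_fst_snd]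
  · rw [comp_lift, lift_snd, MonObj.mul_eq_mul, MonObj.comp_mul, lift_fst, lift_snd,
      inv_mul_cancel_right, lift_fst_snd]

/-- Let S be a scheme, H an S-group scheme and i : G → H a homomorphism of S-group schemes which is a
closed immersion (G a closed subgroup scheme of H). Then the left-translation action of G on H is
strictly free: the S-morphism G ×_S H → H ×_S H, (g, h) ↦ (i(g)·h, h), is a closed immersion. -/
theorem result {S : Scheme.{u}} (G H : Over S)
    [GrpObj G] [GrpObj H] (i : G ⟶ H) [IsMonHom i] [IsClosedImmersion i.left] :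
    IsClosedImmersion (CartesianMonoidalCategory.lift ((i ▷ H) ≫ μ[H]) (snd G H)).left := by
  have h1 : CartesianMonoidalCategory.lift ((i ▷ H) ≫ μ[H]) (snd G H)
      = (i ▷ H) ≫ CartesianMonoidalCategory.lift μ[H] (snd H H) := by
    rw [comp_lift, whiskerRight_snd]
  rw [h1, Over.comp_left]
  haveI hiso : IsIso (CartesianMonoidalCategory.lift μ[H] (snd H H)) := shear_isIso H
  haveI : IsIso (CartesianMonoidalCategory.lift μ[H] (snd H H)).left :=
    inferInstanceAs (IsIso ((Over.forget S).map (CartesianMonoidalCategory.lift μ[H] (snd H H))))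
  have hsq := (isPullback_whiskerRight_fst i H).map (Over.forget S)
  haveI : IsClosedImmersion (i ▷ H).left :=
    MorphismProperty.of_isPullback (P := @IsClosedImmersion) hsq.flip
      (inferInstance : IsClosedImmersion i.left)
  infer_instance

end Groth.Agent.S18383
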