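import Groth.Statements.S18386
import Mathlib

set_option autoImplicit false
universe u
open LVCorr

namespace Groth.Agent.S18386

open AlgebraicGeometry in
/-- Let X be a connected Noetherian scheme and I a quasi-coherent sheaf of ideals on X, different from
the structure sheaf, such that I^k = I^(k+1) for some natural number k. Then I^k = 0. -/
theorem result (X : Scheme.{u}) [AlgebraicGeometry.IsNoetherian X]
    [ConnectedSpace X] (I : X.IdealSheafData) (hI : I ≠ ⊤) (k : ℕ)
    (h : I ^ k = I ^ (k + 1)) : I ^ k = ⊥ := by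
  have key : ∀ U : X.affineOpens, ∃ r : Γ(X, U.1), r - 1 ∈ I.ideal U ∧
      ∀ n ∈ I.ideal U ^ k, r * n = 0 := by
    intro U
    haveI : IsNoetherianRing Γ(X, U.1) := IsLocallyNoetherian.component_noetherian U
    have hfg : (I.ideal U ^ k).FG := IsNoetherian.noetherian _
    have hle : I.ideal U ^ k ≤ I.ideal U • (I.ideal U ^ k) := by
      have h1 := congrArg (fun J : X.IdealSheafData => J.ideal U) h
      change I.ideal U ^ k = I.ideal U ^ (k + 1) at h1
      rw [smul_eq_mul, ← pow_succ']
      exact h1.le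
    obtain ⟨r, hr1, hr2⟩ :=
      Submodule.exists_sub_one_mem_and_smul_eq_zero_of_fg_of_le_smul (I.ideal U) (I.ideal U ^ k)
        hfg hle
    exact ⟨r, hr1, fun n hn => by simpa using hr2 n hn⟩
  have hmem : ∀ (U : X.affineOpens) (r : Γ(X, U.1)), r - 1 ∈ I.ideal U →
      ∀ x ∈ U.1, x ∈ I.support → x ∈ X.basicOpen r := by
    intro U r hr x hxU hxS
    rw [Scheme.IdealSheafData.mem_support_iff_of_mem hxU, Scheme.mem_zeroLocus_iff] at hxS
    have h1 : x ∉ X.basicOpen (r - 1) := hxS _ hr
    have h2 : x ∈ X.basicOpen (1 : Γ(X, U.1)) := by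
      rw [Scheme.basicOpen_one]; exact hxU
    rw [Scheme.mem_basicOpen _ _ x hxU] at h1 h2 ⊢
    have h3 : X.presheaf.germ U.1 x hxU r + (-(X.presheaf.germ U.1 x hxU (r - 1))) = 1 := by
      rw [map_sub, map_one]; ring
    rcases IsLocalRing.isUnit_or_isUnit_of_add_one h3 with h4 | h4
    · exact h4
    · exact absurd (by have h5 := h4.neg; rwa [neg_neg] at h5) h1
  have hopen : IsOpen (I.support : Set X) := by
    rw [isOpen_iff_forall_mem_open]
    intro x hx
    obtain ⟨_, ⟨U, hU, rfl⟩, hxU, -⟩ :=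
      X.isBasis_affineOpens.exists_subset_of_mem_open (Set.mem_univ x) isOpen_univ
    obtain ⟨r, hr1, hr2⟩ := key ⟨U, hU⟩
    refine ⟨X.basicOpen r, ?_, (X.basicOpen r).2, hmem ⟨U, hU⟩ r hr1 x hxU hx⟩
    intro y hyr
    have hyU : y ∈ U := X.basicOpen_le _ hyr
    change y ∈ I.support
    rw [Scheme.IdealSheafData.mem_support_iff_of_mem (U := ⟨U, hU⟩) hyU, Scheme.mem_zeroLocus_iff]
    intro f hf hyf
    have hyfk : y ∈ X.basicOpen (f ^ k) := by
      rw [Scheme.mem_basicOpen _ _ y hyU] at hyf ⊢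
      rw [map_pow]
      exact hyf.pow k
    have h5 : y ∈ X.basicOpen (r * f ^ k) := by
      rw [Scheme.basicOpen_mul]; exact ⟨hyr, hyfk⟩
    rw [hr2 _ (Ideal.pow_mem_pow hf k), Scheme.basicOpen_zero] at h5
    exact h5
  have hclopen : IsClopen (I.support : Set X) := ⟨I.support.isClosed, hopen⟩
  rcases isClopen_iff.mp hclopen with hS | hS
  · exfalso
    apply hI
    apply (Scheme.IdealSheafData.support_eq_bot_iff I).mp
    apply TopologicalSpace.Closeds.ext
    simpa using hS
  · apply Scheme.IdealSheafData.ext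
    funext U
    change I.ideal U ^ k = ⊥
    rw [eq_bot_iff]
    intro n hn
    rw [Ideal.mem_bot]
    obtain ⟨r, hr1, hr2⟩ := key U
    refine TopCat.Presheaf.section_ext X.sheaf U.1 n 0 (fun x hx => ?_)
    have hxS : x ∈ I.support := by
      change x ∈ (I.support : Set X)
      rw [hS]; trivial
    have hu := (Scheme.mem_basicOpen _ _ x hx).mp (hmem U r hr1 x hx hxS)
    have hz : X.presheaf.germ U.1 x hx r * X.presheaf.germ U.1 x hx n = 0 := by
      rw [← map_mul, hr2 n hn, map_zero]
    have := hu.mul_right_eq_zero.mp hz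
    change X.presheaf.germ U.1 x hx n = X.presheaf.germ U.1 x hx 0
    rw [this, map_zero]

end Groth.Agent.S18386
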