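import Groth.Statements.S18389
import Mathlib

set_option autoImplicit false
universe u
open LVCorr

namespace Groth.Agent.S18389

open AlgebraicGeometry CategoryTheory in
/-- Let j : C → C̄ be an open immersion with dense image and jX : X → X̄ an open immersion, and let c₁ :
C → X and c̄₁ : C̄ → X̄ satisfy j followed by c̄₁ equals c₁ followed by jX, with c̄₁ separated. Let
U be an open subset of X such that c₁⁻¹(U) is dense in C and the restriction c₁⁻¹(U) → U of c₁ is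
proper. Then c̄₁⁻¹(jX(U)) = j(c₁⁻¹(U)) as open subsets of C̄. (In the source all schemes are
separated of finite type over a field, C̄ and X̄ are compactifications of a correspondence and of X,
so that c̄₁ is automatically separated.) -/
theorem result {C Cb X Xb : Scheme.{u}}
    (j : C ⟶ Cb) [IsOpenImmersion j] (hj : DenseRange j.base)
    (jX : X ⟶ Xb) [IsOpenImmersion jX] (c₁ : C ⟶ X) (cb₁ : Cb ⟶ Xb) [IsSeparated cb₁]
    (h : j ≫ cb₁ = c₁ ≫ jX) (U : X.Opens) (hU : Dense ((c₁ ⁻¹ᵁ U : C.Opens) : Set C))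
    [IsProper (c₁ ∣_ U)] :
    cb₁ ⁻¹ᵁ (jX ''ᵁ U) = j ''ᵁ (c₁ ⁻¹ᵁ U) := by
  obtain ⟨W, hW⟩ : ∃ W : Cb.Opens, W = cb₁ ⁻¹ᵁ (jX ''ᵁ U) := ⟨_, rfl⟩
  obtain ⟨V, hV⟩ : ∃ V : C.Opens, V = c₁ ⁻¹ᵁ U := ⟨_, rfl⟩
  have hsqpt : ∀ x : C, cb₁ (j x) = jX (c₁ x) := by
    intro x
    have h2 := congrArg (fun g : C ⟶ Xb => g x) h
    simpa using h2
  have hVW : ∀ x : C, x ∈ V → j x ∈ W := by
    intro x hx
    rw [hW]
    change cb₁ (j x) ∈ jX ''ᵁ U
    rw [hsqpt x]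
    rw [hV] at hx
    exact ⟨c₁ x, hx, rfl⟩
  have hgW : Set.range (V.ι ≫ j) ⊆ Set.range W.ι := by
    rw [Scheme.Opens.range_ι]
    rintro _ ⟨x, rfl⟩
    exact hVW x.1 x.2
  obtain ⟨j', hj'⟩ : ∃ j' : V.toScheme ⟶ W.toScheme, j' ≫ W.ι = V.ι ≫ j :=
    ⟨IsOpenImmersion.lift W.ι (V.ι ≫ j) hgW, IsOpenImmersion.lift_fac _ _ _⟩
  have hWu : Set.range (W.ι ≫ cb₁) ⊆ Set.range (U.ι ≫ jX) := by
    rintro _ ⟨w, rfl⟩
    have h1 : (W.ι w) ∈ cb₁ ⁻¹ᵁ (jX ''ᵁ U) := hW ▸ w.2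
    obtain ⟨y, hy, hy'⟩ := h1
    exact ⟨⟨y, hy⟩, hy'⟩
  obtain ⟨fW, hfW⟩ : ∃ fW : W.toScheme ⟶ U.toScheme, fW ≫ (U.ι ≫ jX) = W.ι ≫ cb₁ :=
    ⟨IsOpenImmersion.lift (U.ι ≫ jX) (W.ι ≫ cb₁) hWu, IsOpenImmersion.lift_fac _ _ _⟩
  subst hV
  have hcomp : j' ≫ fW = c₁ ∣_ U := by
    rw [← cancel_mono (U.ι ≫ jX), Category.assoc, hfW, ← Category.assoc, hj', Category.assoc, h,
      ← Category.assoc, ← Category.assoc, morphismRestrict_ι]
  haveI : IsSeparated (fW ≫ (U.ι ≫ jX)) := by rw [hfW]; infer_instance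
  haveI : IsSeparated fW := IsSeparated.of_comp fW (U.ι ≫ jX)
  haveI : IsProper (j' ≫ fW) := by rw [hcomp]; infer_instance
  haveI : IsProper j' := IsProper.of_comp j' fW
  have hcl : IsClosed (Set.range j') := j'.isClosedMap.isClosed_range
  have hpt : ∀ x : (c₁ ⁻¹ᵁ U : C.Opens), W.ι (j' x) = j x.1 := by
    intro x
    have h2 := congrArg (fun g : (c₁ ⁻¹ᵁ U).toScheme ⟶ Cb => g x) hj'
    simpa using h2
  have hrange : Set.range j' = W.ι ⁻¹' (j '' ((c₁ ⁻¹ᵁ U : C.Opens) : Set C)) := by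
    ext w
    constructor
    · rintro ⟨x, rfl⟩
      exact ⟨x.1, x.2, (hpt x).symm⟩
    · rintro ⟨x, hxV, hx⟩
      refine ⟨⟨x, hxV⟩, ?_⟩
      apply W.ι.isOpenEmbedding.injective
      rw [hpt ⟨x, hxV⟩, hx]
  have hdense : Dense (Set.range j') := by
    rw [hrange]
    exact (hj.dense_image j.continuous hU).preimage W.ι.isOpenEmbedding.isOpenMap
  have huniv : Set.range j' = Set.univ := by
    rw [← hcl.closure_eq]; exact hdense.closure_eq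
  rw [← hW]
  apply le_antisymm
  · intro w hw
    have h1 : (⟨w, hw⟩ : W) ∈ Set.range j' := by rw [huniv]; trivial
    obtain ⟨x, hx⟩ := h1
    refine ⟨x.1, x.2, ?_⟩
    have h3 := hpt x
    have h4 : W.ι (j' x) = w := by rw [hx]; rfl
    exact h3.symm.trans h4
  · rintro w ⟨x, hxV, rfl⟩
    exact hVW x hxV

end Groth.Agent.S18389
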