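import Groth.Statements.S18390
import Mathlib

set_option autoImplicit false
universe u
open LVCorr

namespace Groth.Agent.S18390

theorem h9_sup_pow_le {A : Type*} [CommRing A] (K1 K2 I : Ideal A) (N1 N2 : ℕ)
    (h1 : K1 ≤ I) (h2 : K2 ≤ I) (hN1 : K1 ^ N1 ≤ I ^ (N1 + 1)) (hN2 : K2 ^ N2 ≤ I ^ (N2 + 1)) :
    (K1 ⊔ K2) ^ (N1 + N2) ≤ I ^ (N1 + N2 + 1) := by
  rw [← Ideal.add_eq_sup, add_pow, Ideal.sum_eq_sup]
  apply Finset.sup_le
  intro m hm
  have hm' : m ≤ N1 + N2 := by
    have := Finset.mem_range.mp hm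
    omega
  refine le_trans Ideal.mul_le_left ?_
  by_cases hc : N1 ≤ m
  · have e1 : K1 ^ m = K1 ^ N1 * K1 ^ (m - N1) := by
      rw [← pow_add]; congr 1; omega
    have e2 : I ^ (N1 + N2 + 1) = I ^ (N1 + 1) * I ^ (m - N1) * I ^ (N1 + N2 - m) := by
      rw [← pow_add, ← pow_add]; congr 1; omega
    rw [e1, e2]
    exact Ideal.mul_mono (Ideal.mul_mono hN1 (Ideal.pow_right_mono h1 _)) (Ideal.pow_right_mono h2 _)
  · have hc2 : N2 ≤ N1 + N2 - m := by omega
    have e1 : K2 ^ (N1 + N2 - m) = K2 ^ N2 * K2 ^ (N1 + N2 - m - N2) := by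
      rw [← pow_add]; congr 1; omega
    have e2 : I ^ (N1 + N2 + 1) = I ^ m * (I ^ (N2 + 1) * I ^ (N1 + N2 - m - N2)) := by
      rw [← pow_add, ← pow_add]; congr 1; omega
    rw [e1, e2]
    exact Ideal.mul_mono (Ideal.pow_right_mono h1 _) (Ideal.mul_mono hN2 (Ideal.pow_right_mono h2 _))

/-- In the affine, ring-theoretic form which its proof establishes. Let φ : A' → A be a ring
homomorphism, I' a finitely generated ideal of A' and I an ideal of A containing the image of I'.
Then some power I'^k is mapped into I^(k+1) if and only if for every n ≥ 1 and every a ∈ I'^n there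
is a k with φ(a)^k ∈ I^(nk+1). (Geometrically, for a morphism f : (X, Z) → (X', Z') of pairs with Z
a closed subscheme of the preimage of Z', the normal cone of Z in X is the spectrum of the
associated graded algebra of I, and the second condition says that the induced map of normal cones
sends the normal cone of Z set-theoretically into the zero section Z'; the source states the
equivalence in that language.) -/
theorem result (A' A : Type u) [CommRing A'] [CommRing A]
    (φ : A' →+* A) (I' : Ideal A') (hI' : I'.FG) (I : Ideal A) (hle : I'.map φ ≤ I) :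
    (∃ k : ℕ, (I' ^ k).map φ ≤ I ^ (k + 1)) ↔
      ∀ n : ℕ, 1 ≤ n → ∀ a ∈ I' ^ n, ∃ k : ℕ, 1 ≤ k ∧ φ a ^ k ∈ I ^ (n * k + 1) := by
  constructor
  · rintro ⟨k, hk⟩ n hn a ha
    rcases Nat.eq_zero_or_pos k with rfl | hkpos
    · have : I = ⊤ := by
        rw [pow_zero, Ideal.one_eq_top, Ideal.map_top] at hk
        simpa using hk
      refine ⟨1, le_refl _, ?_⟩
      rw [this, Ideal.top_pow]
      trivial
    · refine ⟨k, hkpos, ?_⟩
      have h1 : a ^ k ∈ (I' ^ k) ^ n := by
        rw [← pow_mul, mul_comm, pow_mul]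
        exact Ideal.pow_mem_pow ha k
      have h2 : φ (a ^ k) ∈ ((I' ^ k) ^ n).map φ := Ideal.mem_map_of_mem φ h1
      rw [Ideal.map_pow] at h2
      have h3 : (Ideal.map φ (I' ^ k)) ^ n ≤ (I ^ (k + 1)) ^ n := Ideal.pow_right_mono hk n
      have h4 := h3 h2
      rw [← pow_mul] at h4
      rw [← map_pow]
      refine Ideal.pow_le_pow_right ?_ h4
      nlinarith
  · intro h
    have h1 := h 1 (le_refl _)
    simp only [pow_one, one_mul] at h1
    clear h
    revert hle h1
    refine Submodule.fg_induction (motive := fun (J : Ideal A') _ => J.map φ ≤ I →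
      (∀ a ∈ J, ∃ k : ℕ, 1 ≤ k ∧ φ a ^ k ∈ I ^ (k + 1)) → ∃ k : ℕ, (J ^ k).map φ ≤ I ^ (k + 1))
      ?_ ?_ I' hI'
    · intro x hx hall
      obtain ⟨k, hk1, hk⟩ := hall x (Submodule.mem_span_singleton_self x)
      refine ⟨k, ?_⟩
      change Ideal.map φ ((Ideal.span {x}) ^ k) ≤ _
      rw [Ideal.span_singleton_pow, Ideal.map_span, Set.image_singleton, Ideal.span_singleton_le_iff_mem,
        map_pow]
      exact hk
    · intro J1 J2 _ _ ih1 ih2 hle hall
      have hle' : Ideal.map φ J1 ⊔ Ideal.map φ J2 ≤ I := by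
        rw [← Ideal.map_sup]; exact hle
      obtain ⟨N1, hN1⟩ := ih1 (le_trans le_sup_left hle') (fun a ha => hall a (Ideal.mem_sup_left ha))
      obtain ⟨N2, hN2⟩ := ih2 (le_trans le_sup_right hle') (fun a ha => hall a (Ideal.mem_sup_right ha))
      refine ⟨N1 + N2, ?_⟩
      rw [Ideal.map_pow, Ideal.map_sup]
      rw [Ideal.map_pow] at hN1 hN2
      exact h9_sup_pow_le _ _ _ _ _ (le_trans le_sup_left hle') (le_trans le_sup_right hle') hN1 hN2

end Groth.Agent.S18390
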