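import Groth.Statements.S18392
import Mathlib

set_option autoImplicit false
universe u
open LVCorr

namespace Groth.Agent.S18392

/-- Let A be a normal (integrally closed) Noetherian domain and z an element of A such that the radical
of (z) is prime. Then for every non-empty open subset V of Spec A contained in the basic open set
D(z) (that is, every non-empty open subset of Spec A[1/z]) there is an element x of A, not in the
radical of (z), such that the basic open set D(xz) = Spec A[1/xz] is contained in V. -/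
theorem result (A : Type u) [CommRing A]
    [IsDomain A] [IsNoetherianRing A] [IsIntegrallyClosed A] (z : A)
    (hz : (Ideal.span {z}).radical.IsPrime) (V : Set (PrimeSpectrum A)) (hV : IsOpen V)
    (hVz : V ⊆ (PrimeSpectrum.basicOpen z : Set (PrimeSpectrum A))) (hne : V.Nonempty) :
    ∃ x : A, x ∉ (Ideal.span {z}).radical ∧
      ((PrimeSpectrum.basicOpen (x * z) : TopologicalSpace.Opens (PrimeSpectrum A)) :
        Set (PrimeSpectrum A)) ⊆ V := by
  classical
  have hzP : z ∈ (Ideal.span {z}).radical := Ideal.le_radical (Ideal.subset_span rfl)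
  obtain ⟨I, hI⟩ := (PrimeSpectrum.isClosed_iff_zeroLocus_ideal Vᶜ).mp hV.isClosed_compl
  have hIP : I ≤ (Ideal.span {z}).radical := by
    have hPmem : (⟨(Ideal.span {z}).radical, hz⟩ : PrimeSpectrum A) ∈ Vᶜ := by
      intro hPV
      have h1 := hVz hPV
      rw [SetLike.mem_coe, PrimeSpectrum.mem_basicOpen] at h1
      exact h1 hzP
    rw [hI, PrimeSpectrum.mem_zeroLocus] at hPmem
    exact hPmem
  have hIbot : I ≠ ⊥ := by
    rintro rfl
    obtain ⟨v, hv⟩ := hne
    have h1 : v ∈ Vᶜ := by rw [hI]; simp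
    exact h1 hv
  have hPmin : (Ideal.span {z}).radical ∈ (Ideal.span {z}).minimalPrimes := by
    refine ⟨⟨hz, Ideal.le_radical⟩, ?_⟩
    rintro q ⟨hq, hzq⟩ _
    exact (hq.radical_le_iff).mpr hzq
  have hP1 : (Ideal.span {z}).radical.height ≤ 1 :=
    Ideal.height_le_one_of_isPrincipal_of_mem_minimalPrimes _ _ hPmin
  have hfin : I.minimalPrimes.Finite := Ideal.finite_minimalPrimes_of_isNoetherianRing A I
  let S' : Finset (Ideal A) := hfin.toFinset.filter (fun Q => z ∉ Q)
  have hnotle : ¬ (S'.inf id ≤ (Ideal.span {z}).radical) := by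
    intro hle
    obtain ⟨Q, hQS, hQP⟩ := (hz.inf_le').mp hle
    rw [Finset.mem_filter, Set.Finite.mem_toFinset] at hQS
    obtain ⟨hQmin, hzQ⟩ := hQS
    have hQprime : Q.IsPrime := hQmin.1.1
    have hQP' : Q ≤ (Ideal.span {z}).radical := hQP
    have hlt : Q < (Ideal.span {z}).radical :=
      lt_of_le_of_ne hQP' (by intro h; rw [h] at hzQ; exact hzQ hzP)
    have hQ0 : Q.height = 0 := by
      have h1 : Q.height + 1 ≤ 1 := le_trans (Ideal.height_add_one_le_of_lt_of_isPrime hlt) hP1
      by_contra hne0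
      have h2 : (1 : ℕ∞) ≤ Q.height := Order.one_le_iff_ne_zero.mpr hne0
      have h3 : (1 : ℕ∞) + 1 ≤ 1 := le_trans (add_le_add h2 le_rfl) h1
      exact absurd h3 (by norm_num)
    have hQbot : Q = ⊥ := Ideal.height_eq_zero_iff_eq_bot.mp hQ0
    apply hIbot
    rw [eq_bot_iff, ← hQbot]
    exact hQmin.1.2
  obtain ⟨x, hxS, hxP⟩ := SetLike.not_le_iff_exists.mp hnotle
  refine ⟨x, hxP, ?_⟩
  intro q hq
  rw [SetLike.mem_coe, PrimeSpectrum.mem_basicOpen] at hq
  by_contra hqV
  have hq' : q ∈ PrimeSpectrum.zeroLocus (I : Set A) := by rw [← hI]; exact hqV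
  rw [PrimeSpectrum.mem_zeroLocus] at hq'
  obtain ⟨Q, hQmin, hQq⟩ := Ideal.exists_minimalPrimes_le (show I ≤ q.asIdeal from hq')
  apply hq
  by_cases hzQ : z ∈ Q
  · exact q.asIdeal.mul_mem_left x (hQq hzQ)
  · have hxQ : x ∈ Q := by
      have h1 : S'.inf id ≤ Q := Finset.inf_le (f := id)
        (by rw [Finset.mem_filter, Set.Finite.mem_toFinset]; exact ⟨hQmin, hzQ⟩)
      exact h1 hxS
    exact q.asIdeal.mul_mem_right z (hQq hxQ)

end Groth.Agent.S18392
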