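import Groth.Statements.S18393
import Mathlib

set_option autoImplicit false
universe u v
open LVCorr

namespace Groth.Agent.S18393

/-- Stated for the underlying continuous maps. Let c₁, c₂ : C → X be continuous maps with C a Noetherian
topological space, let Z be a closed subset of X and B the closure in C of c₂⁻¹(Z) ∖ c₁⁻¹(Z). Call Z
locally invariant when every point x of Z has an open neighbourhood U such that every y in C with
c₂(y) ∈ Z ∩ U and c₁(y) ∈ U satisfies c₁(y) ∈ Z. Then Z is locally invariant if and only if for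
every irreducible subset T of B the closures of c₁(T) and of c₂(T) in X are disjoint. (The source
states this for a correspondence c = (c₁, c₂) : C → X × X of separated schemes of finite type over
an algebraically closed field and for the irreducible components of B; the condition for all
irreducible subsets of B is the same condition.) -/
theorem result {C : Type u} {X : Type v}
    [TopologicalSpace C] [TopologicalSpace X] [TopologicalSpace.NoetherianSpace C]
    (c₁ c₂ : C → X) (hc₁ : Continuous c₁) (hc₂ : Continuous c₂) (Z : Set X) (hZ : IsClosed Z) :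
    (∀ x ∈ Z, ∃ U : Set X, IsOpen U ∧ x ∈ U ∧
        ∀ y : C, c₂ y ∈ Z → c₂ y ∈ U → c₁ y ∈ U → c₁ y ∈ Z) ↔
      ∀ T : Set C, T ⊆ closure (c₂ ⁻¹' Z \ c₁ ⁻¹' Z) → IsIrreducible T →
        closure (c₁ '' T) ∩ closure (c₂ '' T) = ∅ := by
  classical
  set W : Set C := c₂ ⁻¹' Z \ c₁ ⁻¹' Z with hW
  have hBZ : closure W ⊆ c₂ ⁻¹' Z := by
    apply closure_minimal
    · intro y hy; exact hy.1
    · exact hZ.preimage hc₂
  constructor
  · intro h T hTB hT
    rw [Set.eq_empty_iff_forall_notMem]
    rintro x ⟨hx1, hx2⟩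
    have hxZ : x ∈ Z := by
      have : closure (c₂ '' T) ⊆ Z := by
        apply closure_minimal _ hZ
        rintro _ ⟨y, hy, rfl⟩
        exact hBZ (hTB hy)
      exact this hx2
    obtain ⟨U, hUo, hxU, hU⟩ := h x hxZ
    obtain ⟨z₁, hz₁U, y₁, hy₁T, rfl⟩ := mem_closure_iff.mp hx1 U hUo hxU
    obtain ⟨z₂, hz₂U, y₂, hy₂T, rfl⟩ := mem_closure_iff.mp hx2 U hUo hxU
    obtain ⟨y, hyT, hy1, hy2⟩ := hT.2 (c₁ ⁻¹' U) (c₂ ⁻¹' U) (hUo.preimage hc₁) (hUo.preimage hc₂)
      ⟨y₁, hy₁T, hz₁U⟩ ⟨y₂, hy₂T, hz₂U⟩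
    have hyB : y ∈ closure W := hTB hyT
    obtain ⟨y', ⟨hy'1, hy'2⟩, hy'W⟩ := mem_closure_iff.mp hyB (c₁ ⁻¹' U ∩ c₂ ⁻¹' U)
      ((hUo.preimage hc₁).inter (hUo.preimage hc₂)) ⟨hy1, hy2⟩
    exact hy'W.2 (hU y' hy'W.1 hy'2 hy'1)
  · intro h x hxZ
    obtain ⟨S, hSf, hSc, hSi, hSU⟩ :=
      TopologicalSpace.NoetherianSpace.exists_finite_set_isClosed_irreducible (isClosed_closure : IsClosed (closure W))
    have hTsub : ∀ T ∈ S, T ⊆ closure W := by
      intro T hT
      rw [hSU]
      exact Set.subset_sUnion_of_mem hT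
    let Uf : Set C → Set X := fun T =>
      if x ∈ closure (c₁ '' T) then (closure (c₂ '' T))ᶜ else (closure (c₁ '' T))ᶜ
    refine ⟨⋂ T ∈ S, Uf T, ?_, ?_, ?_⟩
    · apply hSf.isOpen_biInter
      intro T _
      simp only [Uf]
      split_ifs
      · exact isClosed_closure.isOpen_compl
      · exact isClosed_closure.isOpen_compl
    · simp only [Set.mem_iInter]
      intro T hT
      simp only [Uf]
      split_ifs with hx1
      · intro hx2
        have := h T (hTsub T hT) (hSi T hT)
        rw [Set.eq_empty_iff_forall_notMem] at this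
        exact this x ⟨hx1, hx2⟩
      · exact hx1
    · intro y hy2Z hy2U hy1U
      by_contra hc
      have hyW : y ∈ W := ⟨hy2Z, hc⟩
      have hyB : y ∈ closure W := subset_closure hyW
      rw [hSU] at hyB
      obtain ⟨T, hT, hyT⟩ := hyB
      have h1 : c₁ y ∈ closure (c₁ '' T) := subset_closure ⟨y, hyT, rfl⟩
      have h2 : c₂ y ∈ closure (c₂ '' T) := subset_closure ⟨y, hyT, rfl⟩
      simp only [Set.mem_iInter] at hy2U hy1U
      have a1 := hy1U T hT
      have a2 := hy2U T hT
      simp only [Uf] at a1 a2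
      split_ifs at a1 a2 with hx1
      · exact a2 h2
      · exact a1 h1

end Groth.Agent.S18393
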