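import Groth.Statements.S18404
import Mathlib

set_option autoImplicit false
universe u
open Cubic

namespace Groth.Agent.S18404

theorem h9_hesse_aux (k x y z a b c : ℂ) (hk : k ^ 3 ≠ 1)
    (hH : x ^ 3 + y ^ 3 + z ^ 3 - 3 * k * x * y * z = 0)
    (hL : (x ^ 2 - k * y * z) * a + (y ^ 2 - k * x * z) * b + (z ^ 2 - k * x * y) * c = 0)
    (hM : x * a ^ 2 + y * b ^ 2 + z * c ^ 2 - k * (z * a * b + y * a * c + x * b * c) = 0)
    (hu : x * b - y * a ≠ 0) : x * y * z = 0 := by
  have key : (x * b - y * a) ^ 2 * (216 * (1 - k ^ 3) * (x * y * z)) = 0 := by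
    linear_combination ((x * b - y * a) ^ 2 * 54 * k ^ 2 + 6 * (2 * (3 * (x * a ^ 2 + y * b ^ 2 + z * c ^ 2 - k * (z * a * b + y * a * c + x * b * c))) * (6 * z) - (-3 * k * y * a - 3 * k * x * b + 6 * z * c) ^ 2)) * hH + (-6 * (2 * (3 * ((x ^ 2 - k * y * z) * a + (y ^ 2 - k * x * z) * b + (z ^ 2 - k * x * y) * c)) * (6 * z) - 2 * (-3 * k * y * a - 3 * k * x * b + 6 * z * c) * (6 * z ^ 2 - 6 * k * x * y))) * hL + (-6 * (6 * z ^ 2 - 6 * k * x * y) ^ 2) * hM
  have hk' : (1 : ℂ) - k ^ 3 ≠ 0 := fun h => hk (by linear_combination -h)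
  rcases mul_eq_zero.mp key with h | h
  · exact absurd (pow_eq_zero_iff (n := 2) (by norm_num) |>.mp h) hu
  · rcases mul_eq_zero.mp h with h | h
    · rcases mul_eq_zero.mp h with h | h
      · norm_num at h
      · exact absurd h hk'
    · exact h

theorem h9_hesse_back (k : ℂ) (v w : Fin 3 → ℂ) (c γ : ℂ) (i j l : Fin 3)
    (hform : ∀ u : Fin 3 → ℂ, MvPolynomial.eval u (HesseCubic.form k) =
      u i ^ 3 + u j ^ 3 + u l ^ 3 - 3 * k * (u i * u j * u l))
    (hc : c ≠ 0) (hγ : γ ^ 3 = 1) (hvi : v i = 0) (hvj : v j = c) (hvl : v l = -(c * γ))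
    (hwi : w i = 1) (hwj : w j = -(k * γ)) (hwl : w l = 0) :
    LinearIndependent ℂ ![v, w] ∧
      ∀ t : ℂ, MvPolynomial.eval (v + t • w) (HesseCubic.form k) =
        t ^ 3 * MvPolynomial.eval w (HesseCubic.form k) := by
  constructor
  · rw [LinearIndependent.pair_iff]
    intro s t hst
    have ei := congrFun hst i
    have ej := congrFun hst j
    simp only [Pi.add_apply, Pi.smul_apply, smul_eq_mul, Pi.zero_apply, hvi, hvj, hwi, hwj] at ei ej
    have ht : t = 0 := by linear_combination ei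
    have hs : s * c = 0 := by rw [ht] at ej; linear_combination ej
    exact ⟨(mul_eq_zero.mp hs).resolve_right hc, ht⟩
  · intro t
    rw [hform, hform]
    simp only [Pi.add_apply, Pi.smul_apply, smul_eq_mul, hvi, hvj, hvl, hwi, hwj, hwl]
    linear_combination (-c ^ 3) * hγ

theorem h9_hesse_gamma (y z : ℂ) (hsum : y ^ 3 + z ^ 3 = 0) (hy : y ≠ 0) :
    ∃ γ : ℂ, γ ^ 3 = 1 ∧ z = y * (-γ) := by
  refine ⟨-z / y, ?_, ?_⟩
  · rw [div_pow, div_eq_iff (pow_ne_zero 3 hy)]
    linear_combination (-1 : ℂ) * hsum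
  · field_simp

open MvPolynomial in
/-- Let k ∈ ℂ with k³ ≠ 1 and let h = X₀³ + X₁³ + X₂³ − 3k·X₀X₁X₂ be the Hesse cubic. For a nonzero
vector v with h(v) = 0, the corresponding point is a flex of the plane curve of h — some line
through it meets the curve there with multiplicity three, i.e. there is a vector w linearly
independent from v with h(v + t·w) = t³·h(w) for every t — exactly when v is a scalar multiple of
one of the nine vectors (0, 1, −γ), (−γ, 0, 1), (1, −γ, 0) with γ³ = 1. -/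
theorem result (k : ℂ) (hk : k ^ 3 ≠ 1) (v : Fin 3 → ℂ) (hv : v ≠ 0)
    (hCv : eval v (HesseCubic.form k) = 0) :
    (∃ w : Fin 3 → ℂ, LinearIndependent ℂ ![v, w] ∧
        ∀ t : ℂ, eval (v + t • w) (HesseCubic.form k) = t ^ 3 * eval w (HesseCubic.form k)) ↔
      ∃ γ c : ℂ, γ ^ 3 = 1 ∧ (v = c • ![0, 1, -γ] ∨ v = c • ![-γ, 0, 1] ∨ v = c • ![1, -γ, 0]) := by
  have heval : ∀ u : Fin 3 → ℂ, MvPolynomial.eval u (HesseCubic.form k) =
      u 0 ^ 3 + u 1 ^ 3 + u 2 ^ 3 - 3 * k * (u 0 * u 1 * u 2) := by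
    intro u
    simp [HesseCubic.form]
  have hfun : ∀ f : Fin 3 → ℂ, f 0 = 0 → f 1 = 0 → f 2 = 0 → f = 0 := by
    intro f h0 h1 h2
    ext i
    fin_cases i
    · exact h0
    · exact h1
    · exact h2
  have hfun2 : ∀ f g : Fin 3 → ℂ, f 0 = g 0 → f 1 = g 1 → f 2 = g 2 → f = g := by
    intro f g h0 h1 h2
    ext i
    fin_cases i
    · exact h0
    · exact h1
    · exact h2
  rw [heval] at hCv
  constructor
  · rintro ⟨w, hli, hw⟩
    have h1 := hw 1
    have hm1 := hw (-1)
    rw [heval, heval] at h1 hm1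
    simp only [Pi.add_apply, Pi.smul_apply, smul_eq_mul] at h1 hm1
    have hL : (v 0 ^ 2 - k * v 1 * v 2) * w 0 + (v 1 ^ 2 - k * v 0 * v 2) * w 1 +
        (v 2 ^ 2 - k * v 0 * v 1) * w 2 = 0 := by
      linear_combination (1 / 6 : ℂ) * h1 - (1 / 6 : ℂ) * hm1
    have hM : v 0 * w 0 ^ 2 + v 1 * w 1 ^ 2 + v 2 * w 2 ^ 2 -
        k * (v 2 * w 0 * w 1 + v 1 * w 0 * w 2 + v 0 * w 1 * w 2) = 0 := by
      linear_combination (1 / 6 : ℂ) * h1 + (1 / 6 : ℂ) * hm1 - (1 / 3 : ℂ) * hCv
    have hminor : v 0 * w 1 - v 1 * w 0 ≠ 0 ∨ v 0 * w 2 - v 2 * w 0 ≠ 0 ∨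
        v 1 * w 2 - v 2 * w 1 ≠ 0 := by
      by_contra hcon
      rw [not_or, not_or, not_not, not_not, not_not] at hcon
      obtain ⟨h01, h02, h12⟩ := hcon
      have hp := LinearIndependent.pair_iff.mp hli
      apply hv
      have e0 : v 0 = 0 := by
        have h := (hp (w 0) (-(v 0)) (by
          apply hfun
          · simp only [Pi.add_apply, Pi.smul_apply, smul_eq_mul]; ring
          · simp only [Pi.add_apply, Pi.smul_apply, smul_eq_mul]; linear_combination -h01
          · simp only [Pi.add_apply, Pi.smul_apply, smul_eq_mul]; linear_combination -h02)).2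
        exact neg_eq_zero.mp h
      have e1 : v 1 = 0 := by
        have h := (hp (w 1) (-(v 1)) (by
          apply hfun
          · simp only [Pi.add_apply, Pi.smul_apply, smul_eq_mul]; linear_combination h01
          · simp only [Pi.add_apply, Pi.smul_apply, smul_eq_mul]; ring
          · simp only [Pi.add_apply, Pi.smul_apply, smul_eq_mul]; linear_combination -h12)).2
        exact neg_eq_zero.mp h
      have e2 : v 2 = 0 := by
        have h := (hp (w 2) (-(v 2)) (by
          apply hfun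
          · simp only [Pi.add_apply, Pi.smul_apply, smul_eq_mul]; linear_combination h02
          · simp only [Pi.add_apply, Pi.smul_apply, smul_eq_mul]; linear_combination h12
          · simp only [Pi.add_apply, Pi.smul_apply, smul_eq_mul]; ring)).2
        exact neg_eq_zero.mp h
      exact hfun v e0 e1 e2
    have hxyz : v 0 * v 1 * v 2 = 0 := by
      rcases hminor with h | h | h
      · exact h9_hesse_aux k (v 0) (v 1) (v 2) (w 0) (w 1) (w 2) hk
          (by linear_combination hCv) hL hM h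
      · have := h9_hesse_aux k (v 0) (v 2) (v 1) (w 0) (w 2) (w 1) hk
          (by linear_combination hCv) (by linear_combination hL) (by linear_combination hM) h
        linear_combination this
      · have := h9_hesse_aux k (v 1) (v 2) (v 0) (w 1) (w 2) (w 0) hk
          (by linear_combination hCv) (by linear_combination hL) (by linear_combination hM) h
        linear_combination this
    rcases mul_eq_zero.mp hxyz with h01 | h2
    · rcases mul_eq_zero.mp h01 with h0 | h1
      · have hsum : v 1 ^ 3 + v 2 ^ 3 = 0 := by rw [h0] at hCv; linear_combination hCv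
        have hy : v 1 ≠ 0 := by
          intro h1
          have h2 : v 2 = 0 := by
            have h3 : v 2 ^ 3 = 0 := by rw [h1] at hsum; linear_combination hsum
            exact pow_eq_zero_iff (n := 3) (by norm_num) |>.mp h3
          exact hv (hfun v h0 h1 h2)
        obtain ⟨γ, hγ, hz⟩ := h9_hesse_gamma (v 1) (v 2) hsum hy
        refine ⟨γ, v 1, hγ, Or.inl ?_⟩
        apply hfun2
        · rw [h0]; simp
        · simp
        · rw [hz]; simp
      · have hsum : v 2 ^ 3 + v 0 ^ 3 = 0 := by rw [h1] at hCv; linear_combination hCv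
        have hy : v 2 ≠ 0 := by
          intro h2
          have h0 : v 0 = 0 := by
            have h3 : v 0 ^ 3 = 0 := by rw [h2] at hsum; linear_combination hsum
            exact pow_eq_zero_iff (n := 3) (by norm_num) |>.mp h3
          exact hv (hfun v h0 h1 h2)
        obtain ⟨γ, hγ, hz⟩ := h9_hesse_gamma (v 2) (v 0) hsum hy
        refine ⟨γ, v 2, hγ, Or.inr (Or.inl ?_)⟩
        apply hfun2
        · rw [hz]; simp
        · rw [h1]; simp
        · simp
    · have hsum : v 0 ^ 3 + v 1 ^ 3 = 0 := by rw [h2] at hCv; linear_combination hCv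
      have hy : v 0 ≠ 0 := by
        intro h0
        have h1 : v 1 = 0 := by
          have h3 : v 1 ^ 3 = 0 := by rw [h0] at hsum; linear_combination hsum
          exact pow_eq_zero_iff (n := 3) (by norm_num) |>.mp h3
        exact hv (hfun v h0 h1 h2)
      obtain ⟨γ, hγ, hz⟩ := h9_hesse_gamma (v 0) (v 1) hsum hy
      refine ⟨γ, v 0, hγ, Or.inr (Or.inr ?_)⟩
      apply hfun2
      · simp
      · rw [hz]; simp
      · rw [h2]; simp
  · rintro ⟨γ, c, hγ, hcase⟩
    have hc : c ≠ 0 := by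
      rintro rfl
      apply hv
      rcases hcase with h | h | h <;> simp [h]
    rcases hcase with h | h | h
    · obtain ⟨w, hw0, hw1, hw2⟩ : ∃ w : Fin 3 → ℂ, w 0 = 1 ∧ w 1 = -(k * γ) ∧ w 2 = 0 :=
        ⟨![1, -(k * γ), 0], by simp, by simp, by simp⟩
      exact ⟨w, h9_hesse_back k v w c γ 0 1 2 (fun u => heval u) hc hγ
        (by rw [h]; simp) (by rw [h]; simp) (by rw [h]; simp) hw0 hw1 hw2⟩
    · obtain ⟨w, hw0, hw1, hw2⟩ : ∃ w : Fin 3 → ℂ, w 0 = 0 ∧ w 1 = 1 ∧ w 2 = -(k * γ) :=
        ⟨![0, 1, -(k * γ)], by simp, by simp, by simp⟩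
      exact ⟨w, h9_hesse_back k v w c γ 1 2 0 (fun u => by rw [heval u]; ring) hc hγ
        (by rw [h]; simp) (by rw [h]; simp) (by rw [h]; simp) hw1 hw2 hw0⟩
    · obtain ⟨w, hw0, hw1, hw2⟩ : ∃ w : Fin 3 → ℂ, w 0 = -(k * γ) ∧ w 1 = 0 ∧ w 2 = 1 :=
        ⟨![-(k * γ), 0, 1], by simp, by simp, by simp⟩
      exact ⟨w, h9_hesse_back k v w c γ 2 0 1 (fun u => by rw [heval u]; ring) hc hγ
        (by rw [h]; simp) (by rw [h]; simp) (by rw [h]; simp) hw2 hw0 hw1⟩

end Groth.Agent.S18404
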