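import Groth.Statements.S18429
import Mathlib

set_option autoImplicit false
universe u
open SpinCurv

namespace Groth.Agent.S18429

/-- Let n ≥ 1 and r ≥ 2 be integers and let e_0, …, e_{nr} be integers with e_0 = e_{nr} = 0 (the
coefficients of a chain of nr - 1 exceptional curves joining two non-exceptional components with
coefficient zero) such that at every interior index 1 ≤ j ≤ nr - 1 the second difference e_{j-1} - 2
e_j + e_{j+1} (the degree of the divisor Σ e_i E_i on the j-th curve of the chain) is divisible by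
r. Then there are integers e'_0, …, e'_{nr}, with e'_j ≡ e_j modulo r for every interior j, with
e'_0 = e'_{nr} = 0 and every e'_j ≤ 0, whose second differences at the interior indices are each 0
or r, and are nonzero at no two distinct interior indices. -/
theorem result (n r : ℕ) (hn : 1 ≤ n) (hr : 2 ≤ r)
    (e : ℕ → ℤ) (he0 : e 0 = 0) (henr : e (n * r) = 0)
    (hdiv : ∀ j : ℕ, 1 ≤ j → j < n * r → (r : ℤ) ∣ e (j - 1) - 2 * e j + e (j + 1)) :
    ∃ e' : ℕ → ℤ, e' 0 = 0 ∧ e' (n * r) = 0 ∧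
      (∀ j : ℕ, 1 ≤ j → j < n * r → (r : ℤ) ∣ e' j - e j) ∧
      (∀ j : ℕ, j ≤ n * r → e' j ≤ 0) ∧
      (∀ j : ℕ, 1 ≤ j → j < n * r →
        (e' (j - 1) - 2 * e' j + e' (j + 1) = 0 ∨ e' (j - 1) - 2 * e' j + e' (j + 1) = r)) ∧
      (∀ j j' : ℕ, 1 ≤ j → j < n * r → 1 ≤ j' → j' < n * r →
        e' (j - 1) - 2 * e' j + e' (j + 1) ≠ 0 → e' (j' - 1) - 2 * e' j' + e' (j' + 1) ≠ 0 → j = j') := by
  have hrpos : (0 : ℤ) < (r : ℤ) := by exact_mod_cast (by omega : 0 < r)
  -- e j ≡ j * e 1 mod r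
  have hlin : ∀ j : ℕ, j ≤ n * r → (r : ℤ) ∣ e j - (j : ℤ) * e 1 := by
    intro j
    induction j using Nat.strong_induction_on with
    | _ j ih =>
      intro hj
      rcases j with _ | _ | j
      · simp [he0]
      · simp
      · have h1 := ih (j + 1) (by omega) (by omega)
        have h0 := ih j (by omega) (by omega)
        have h2 := hdiv (j + 1) (by omega) (by omega)
        simp only [Nat.add_sub_cancel] at h2
        have : e (j + 1 + 1) - ((j + 1 + 1 : ℕ) : ℤ) * e 1 =
            (e j - 2 * e (j + 1) + e (j + 1 + 1)) + 2 * (e (j + 1) - ((j + 1 : ℕ) : ℤ) * e 1)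
              - (e j - (j : ℤ) * e 1) := by
          push_cast; ring
        rw [this]
        exact dvd_sub (dvd_add h2 (Dvd.dvd.mul_left h1 2)) h0
  set a : ℤ := (- e 1) % (r : ℤ) with ha
  have ha0 : 0 ≤ a := Int.emod_nonneg _ (ne_of_gt hrpos)
  have har : a < r := Int.emod_lt_of_pos _ hrpos
  have hamod : (r : ℤ) ∣ a + e 1 := by
    have : (r : ℤ) ∣ (- e 1) - a := by
      refine ⟨(- e 1) / (r : ℤ), ?_⟩
      have := Int.emod_add_mul_ediv (- e 1) (r : ℤ)
      rw [ha]; linarith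
    have h2 : a + e 1 = - ((- e 1) - a) := by ring
    rw [h2]; exact (dvd_neg).mpr this
  set j0 : ℤ := (n : ℤ) * ((r : ℤ) - a) with hj0
  have hj0pos : 0 ≤ j0 := mul_nonneg (by positivity) (by linarith)
  let m : ℕ → ℤ := fun j => max 0 ((j : ℤ) - j0)
  have key : ∀ j : ℕ, 1 ≤ j →
      ((- a * ((j - 1 : ℕ) : ℤ) + (r : ℤ) * m (j - 1)) - 2 * (- a * (j : ℤ) + (r : ℤ) * m j)
        + (- a * ((j + 1 : ℕ) : ℤ) + (r : ℤ) * m (j + 1)) = 0 ∧ (j : ℤ) ≠ j0) ∨
      ((- a * ((j - 1 : ℕ) : ℤ) + (r : ℤ) * m (j - 1)) - 2 * (- a * (j : ℤ) + (r : ℤ) * m j)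
        + (- a * ((j + 1 : ℕ) : ℤ) + (r : ℤ) * m (j + 1)) = r ∧ (j : ℤ) = j0) := by
    intro j hj
    obtain ⟨i, rfl⟩ := Nat.exists_eq_add_of_le' hj
    simp only [Nat.add_sub_cancel]
    have hsd : (- a * (i : ℤ) + (r : ℤ) * m i) - 2 * (- a * ((i + 1 : ℕ) : ℤ) + (r : ℤ) * m (i + 1))
        + (- a * ((i + 1 + 1 : ℕ) : ℤ) + (r : ℤ) * m (i + 1 + 1)) =
        (r : ℤ) * (m i - 2 * m (i + 1) + m (i + 1 + 1)) := by
      push_cast; ring
    rw [hsd]
    simp only [m]
    push_cast
    rcases lt_trichotomy ((i : ℤ) + 1) j0 with h | h | h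
    · left
      refine ⟨?_, ne_of_lt h⟩
      rw [max_eq_left (by linarith), max_eq_left (by linarith), max_eq_left (by linarith)]
      ring
    · right
      refine ⟨?_, h⟩
      rw [max_eq_left (by linarith), max_eq_left (by linarith), max_eq_right (by linarith)]
      rw [← h]; ring
    · left
      refine ⟨?_, ne_of_gt h⟩
      rw [max_eq_right (by linarith), max_eq_right (by linarith), max_eq_right (by linarith)]
      ring
  refine ⟨fun j => - a * (j : ℤ) + (r : ℤ) * m j, ?_, ?_, ?_, ?_, ?_⟩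
  · simp only [m]
    have : max (0 : ℤ) (((0 : ℕ) : ℤ) - j0) = 0 := by
      apply max_eq_left; push_cast; linarith
    rw [this]; simp
  · simp only [m]
    have : max (0 : ℤ) (((n * r : ℕ) : ℤ) - j0) = (n : ℤ) * a := by
      rw [hj0]; push_cast
      rw [max_eq_right]
      · ring
      · have : (0 : ℤ) ≤ (n : ℤ) * a := mul_nonneg (by positivity) ha0
        linarith
    rw [this]; push_cast; ring
  · intro j hj1 hj2
    have h1 := hlin j (le_of_lt hj2)
    have : - a * (j : ℤ) + (r : ℤ) * m j - e j =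
        (r : ℤ) * m j - (e j - (j : ℤ) * e 1) - (j : ℤ) * (a + e 1) := by ring
    show (r : ℤ) ∣ - a * (j : ℤ) + (r : ℤ) * m j - e j
    rw [this]
    exact dvd_sub (dvd_sub (dvd_mul_right _ _) h1) (Dvd.dvd.mul_left hamod _)
  · intro j hj
    show - a * (j : ℤ) + (r : ℤ) * m j ≤ 0
    simp only [m]
    have hjle : (j : ℤ) ≤ (n : ℤ) * (r : ℤ) := by exact_mod_cast hj
    rcases le_total ((j : ℤ) - j0) 0 with h | h
    · rw [max_eq_left h]
      have : 0 ≤ a * (j : ℤ) := mul_nonneg ha0 (by positivity)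
      linarith
    · rw [max_eq_right h, hj0]
      have : - a * (j : ℤ) + (r : ℤ) * ((j : ℤ) - (n : ℤ) * ((r : ℤ) - a)) =
          - (((r : ℤ) - a) * ((n : ℤ) * (r : ℤ) - (j : ℤ))) := by ring
      rw [this]
      have : 0 ≤ ((r : ℤ) - a) * ((n : ℤ) * (r : ℤ) - (j : ℤ)) :=
        mul_nonneg (by linarith) (by linarith)
      linarith
  refine ⟨?_, ?_⟩
  · intro j hj1 hj2
    rcases key j hj1 with h | h
    · left; exact h.1
    · right; exact h.1
  · intro j j' hj1 hj2 hj1' hj2' hne hne'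
    have h1 : (j : ℤ) = j0 := by
      rcases key j hj1 with h | h
      · exact absurd h.1 hne
      · exact h.2
    have h2 : (j' : ℤ) = j0 := by
      rcases key j' hj1' with h | h
      · exact absurd h.1 hne'
      · exact h.2
    exact_mod_cast h1.trans h2.symm

end Groth.Agent.S18429
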