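import Groth.Statements.S18431
import Mathlib

set_option autoImplicit false
universe u
open SpinCurv

namespace Groth.Agent.S18431

/-- Let R be a Noetherian local ring in which the natural number r is invertible and let ξ, ζ ∈ R
satisfy ξ^r = 1 and ζ^r = 1. Then either ξ = ζ, or ξ - ζ is a unit of R. (Consequently an element of
R annihilated by ξ - ζ is zero unless ξ = ζ. In the published setting R is moreover complete; the
step does not use completeness.) -/
theorem result (R : Type u) [CommRing R] [IsNoetherianRing R] [IsLocalRing R]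
    (r : ℕ) (hr : IsUnit (r : R)) (ξ ζ : R) (hξ : ξ ^ r = 1) (hζ : ζ ^ r = 1) :
    ξ = ζ ∨ IsUnit (ξ - ζ) := by
  by_cases hu : IsUnit (ξ - ζ)
  · exact Or.inr hu
  left
  have hr0 : r ≠ 0 := by
    rintro rfl
    simp at hr
  have hmem : IsLocalRing.residue R (ξ - ζ) = 0 := by
    rw [IsLocalRing.residue_eq_zero_iff]
    exact hu
  have heq : IsLocalRing.residue R ξ = IsLocalRing.residue R ζ := by
    rw [map_sub, sub_eq_zero] at hmem
    exact hmem
  have hgeom := geom_sum₂_mul ξ ζ r
  rw [hξ, hζ, sub_self] at hgeom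
  set S := ∑ i ∈ Finset.range r, ξ ^ i * ζ ^ (r - 1 - i) with hS
  have hSunit : IsUnit S := by
    rw [← IsLocalRing.residue_ne_zero_iff_isUnit]
    rw [hS, map_sum]
    have : ∀ i ∈ Finset.range r, IsLocalRing.residue R (ξ ^ i * ζ ^ (r - 1 - i)) = (IsLocalRing.residue R ζ) ^ (r - 1) := by
      intro i hi
      rw [Finset.mem_range] at hi
      rw [map_mul, map_pow, map_pow, heq, ← pow_add]
      congr 1
      omega
    rw [Finset.sum_congr rfl this, Finset.sum_const, Finset.card_range, nsmul_eq_mul]
    apply mul_ne_zero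
    · have := (IsLocalRing.residue_ne_zero_iff_isUnit (r : R)).mpr hr
      simpa using this
    · apply pow_ne_zero
      have hζu : IsUnit ζ := IsUnit.of_pow_eq_one hζ hr0
      exact (IsLocalRing.residue_ne_zero_iff_isUnit ζ).mpr hζu
  have := hSunit.mul_right_eq_zero.mp hgeom
  exact sub_eq_zero.mp this

end Groth.Agent.S18431
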