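import Groth.Statements.S18435
import Mathlib

set_option autoImplicit false
universe u
open SpinCurv

namespace Groth.Agent.S18435

section node
variable (k : Type u) [Field k]

local notation "SS" => MvPolynomial (Fin 2) k
local notation "xx" => (MvPolynomial.X 0 : MvPolynomial (Fin 2) k)
local notation "yy" => (MvPolynomial.X 1 : MvPolynomial (Fin 2) k)
local notation "II" => Ideal.span {(MvPolynomial.X 0 * MvPolynomial.X 1 - MvPolynomial.C 0 : MvPolynomial (Fin 2) k)}
local notation "AA" => MvPolynomial (Fin 2) k ⧸ Ideal.span {(MvPolynomial.X 0 * MvPolynomial.X 1 - MvPolynomial.C 0 : MvPolynomial (Fin 2) k)}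

noncomputable def e2 : SS →ₐ[k] Polynomial k := MvPolynomial.aeval ![0, Polynomial.X]

theorem e2_x : e2 k xx = 0 := by rw [e2, MvPolynomial.aeval_X]; rfl
theorem e2_y : e2 k yy = Polynomial.X := by rw [e2, MvPolynomial.aeval_X]; rfl

theorem e2_I : ∀ a ∈ II, e2 k a = 0 := by
  intro a ha
  obtain ⟨c, rfl⟩ := Ideal.mem_span_singleton'.mp ha
  rw [MvPolynomial.C_0, sub_zero, map_mul, map_mul, e2_x, zero_mul, mul_zero]

noncomputable def φ2 : AA →ₐ[k] Polynomial k := Ideal.Quotient.liftₐ II (e2 k) (e2_I k)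

theorem φ2_mk (F : SS) : φ2 k (Ideal.Quotient.mk II F) = e2 k F := rfl

theorem decomp2 (F : SS) : ∃ (q1 q2 : Polynomial k) (G : SS),
    F = Polynomial.aeval xx q1 + yy * Polynomial.aeval yy q2 + xx * yy * G := by
  induction F using MvPolynomial.induction_on with
  | C a =>
    exact ⟨Polynomial.C a, 0, 0, by
      rw [Polynomial.aeval_C, MvPolynomial.algebraMap_eq, map_zero, mul_zero, mul_zero, add_zero,
        add_zero]⟩
  | add p q hp hq =>
    obtain ⟨a1, a2, G1, h1⟩ := hp
    obtain ⟨b1, b2, G2, h2⟩ := hq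
    refine ⟨a1 + b1, a2 + b2, G1 + G2, ?_⟩
    rw [map_add, map_add]
    linear_combination h1 + h2
  | mul_X p n hp =>
    obtain ⟨a1, a2, G1, h1⟩ := hp
    by_cases hn : n = 0
    · subst hn
      refine ⟨a1 * Polynomial.X, 0, Polynomial.aeval yy a2 + G1 * xx, ?_⟩
      rw [map_mul, Polynomial.aeval_X, map_zero, mul_zero, add_zero]
      linear_combination xx * h1
    · have hn1 : n = 1 := Fin.eq_one_of_ne_zero n hn
      subst hn1
      refine ⟨0, Polynomial.C (a1.coeff 0) + a2 * Polynomial.X,
        Polynomial.aeval xx (Polynomial.divX a1) + G1 * yy, ?_⟩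
      have ha1 : Polynomial.aeval xx a1 =
          Polynomial.aeval xx (Polynomial.divX a1) * xx + MvPolynomial.C (a1.coeff 0) := by
        conv_lhs => rw [← Polynomial.divX_mul_X_add a1]
        rw [map_add, map_mul, Polynomial.aeval_X, Polynomial.aeval_C, MvPolynomial.algebraMap_eq]
      rw [map_zero, zero_add, map_add, map_mul, Polynomial.aeval_X, Polynomial.aeval_C,
        MvPolynomial.algebraMap_eq]
      linear_combination yy * h1 + yy * ha1


theorem ann_y (h : AA) (hh : Ideal.Quotient.mk II yy * h = 0) :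
    ∃ q : Polynomial k, q.coeff 0 = 0 ∧ h = Ideal.Quotient.mk II (Polynomial.aeval xx q) := by
  obtain ⟨F, rfl⟩ := Ideal.Quotient.mk_surjective h
  obtain ⟨q1, q2, G, hF⟩ := decomp2 k F
  have hP : Ideal.Quotient.mk II F =
      Ideal.Quotient.mk II (Polynomial.aeval xx q1 + yy * Polynomial.aeval yy q2) := by
    rw [Ideal.Quotient.eq, hF]
    have h3 : Polynomial.aeval xx q1 + yy * Polynomial.aeval yy q2 + xx * yy * G -
        (Polynomial.aeval xx q1 + yy * Polynomial.aeval yy q2) =
        G * (xx * yy - MvPolynomial.C 0) := by rw [MvPolynomial.C_0]; ring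
    rw [h3]
    exact Ideal.mul_mem_left _ _ (Ideal.subset_span (Set.mem_singleton _))
  have he2 : e2 k (Polynomial.aeval xx q1 + yy * Polynomial.aeval yy q2) =
      Polynomial.C (q1.coeff 0) + Polynomial.X * q2 := by
    rw [map_add, map_mul, ← Polynomial.aeval_algHom_apply, ← Polynomial.aeval_algHom_apply, e2_x,
      e2_y, Polynomial.aeval_X_left_apply, ← Polynomial.coeff_zero_eq_aeval_zero',
      Polynomial.algebraMap_eq]
  have h2 := congrArg (φ2 k) hh
  rw [map_mul, map_zero (φ2 k), hP, φ2_mk, φ2_mk, e2_y, he2] at h2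
  have h3 : Polynomial.C (q1.coeff 0) + Polynomial.X * q2 = 0 :=
    (mul_eq_zero.mp h2).resolve_left Polynomial.X_ne_zero
  have hq10 : q1.coeff 0 = 0 := by
    have h4 := congrArg (fun r => Polynomial.coeff r 0) h3
    simpa using h4
  have hq2 : q2 = 0 := by
    ext n
    have h4 := congrArg (fun r => Polynomial.coeff r (n + 1)) h3
    simp only [Polynomial.coeff_add, Polynomial.coeff_C_succ, Polynomial.coeff_X_mul,
      zero_add, Polynomial.coeff_zero] at h4
    rw [h4, Polynomial.coeff_zero]
  refine ⟨q1, hq10, ?_⟩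
  rw [hP, hq2, map_zero (Polynomial.aeval yy), mul_zero, add_zero]

theorem hom_mk_aeval {L : Type*} [CommRing L] [Algebra k L] (ψ : AA →ₐ[k] L) (q : Polynomial k) :
    ψ (Ideal.Quotient.mk II (Polynomial.aeval xx q)) =
      Polynomial.aeval (ψ (Ideal.Quotient.mk II xx)) q := by
  have h := Polynomial.aeval_algHom_apply (ψ.comp (Ideal.Quotient.mkₐ k II)) xx q
  exact h.symm

theorem aeval_T1 (q : Polynomial k) :
    Polynomial.aeval (LaurentPolynomial.T 1 : LaurentPolynomial k) q = Polynomial.toLaurent q := by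
  have h : Polynomial.aeval (LaurentPolynomial.T 1 : LaurentPolynomial k) =
      Polynomial.toLaurentAlg := by
    apply Polynomial.algHom_ext
    rw [Polynomial.aeval_X, Polynomial.toLaurentAlg_apply, Polynomial.toLaurent_X]
  rw [h, Polynomial.toLaurentAlg_apply]

theorem aeval_Tneg1 (q : Polynomial k) :
    Polynomial.aeval (LaurentPolynomial.T (-1) : LaurentPolynomial k) q =
      LaurentPolynomial.invert (Polynomial.toLaurent q) := by
  have h : Polynomial.aeval (LaurentPolynomial.T (-1) : LaurentPolynomial k) =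
      (LaurentPolynomial.invert (R := k)).toAlgHom.comp Polynomial.toLaurentAlg := by
    apply Polynomial.algHom_ext
    rw [Polynomial.aeval_X, AlgHom.comp_apply, Polynomial.toLaurentAlg_apply,
      Polynomial.toLaurent_X]
    exact (LaurentPolynomial.invert_T 1).symm
  rw [h]; rfl

theorem coeffL_neg (f : Polynomial k) (z : ℤ) (hz : z < 0) :
    (Polynomial.toLaurent f).coeff z = 0 := by
  rw [LaurentPolynomial.coeff_toLaurent]
  apply Finsupp.mapDomain_of_notMem_range
  rintro ⟨n, hn⟩
  have h : (n : ℤ) = z := hn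
  omega

theorem coeffL_nat (f : Polynomial k) (n : ℕ) :
    (Polynomial.toLaurent f).coeff (n : ℤ) = f.coeff n := by
  rw [LaurentPolynomial.coeff_toLaurent]
  rcases f with ⟨p⟩
  exact Finsupp.mapDomain_apply Nat.castEmbedding.injective p.coeff n

theorem main (gU : AA →ₐ[k] LaurentPolynomial k)
    (hgUs : gU (Ideal.Quotient.mk II xx) = LaurentPolynomial.T 1)
    (gV : AA →ₐ[k] LaurentPolynomial k)
    (hgVt : gV (Ideal.Quotient.mk II xx) = LaurentPolynomial.T (-1))
    (g f : AA) (hsec : gU g = LaurentPolynomial.T 1 * gV f)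
    (h1 : Ideal.Quotient.mk II yy * g = 0) (h2 : Ideal.Quotient.mk II yy * f = 0) :
    g = 0 ∧ f = 0 := by
  obtain ⟨q, hq0, rfl⟩ := ann_y k g h1
  obtain ⟨p, hp0, rfl⟩ := ann_y k f h2
  rw [hom_mk_aeval, hom_mk_aeval, hgUs, hgVt, aeval_T1, aeval_Tneg1] at hsec
  obtain ⟨b, rfl⟩ := Polynomial.X_dvd_iff.mpr hp0
  rw [map_mul, Polynomial.toLaurent_X, map_mul, LaurentPolynomial.invert_T, ← mul_assoc,
    ← LaurentPolynomial.T_add, show (1 : ℤ) + -1 = 0 by norm_num, LaurentPolynomial.T_zero,
    one_mul] at hsec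
  have hq : q = 0 := by
    ext n
    rw [Polynomial.coeff_zero]
    cases n with
    | zero => exact hq0
    | succ n =>
      rw [← coeffL_nat, hsec, LaurentPolynomial.invert_apply]
      exact coeffL_neg k b _ (by push_cast; omega)
  rw [hq, map_zero Polynomial.toLaurent] at hsec
  have hb : b = 0 := by
    have h3 : Polynomial.toLaurent b = 0 := by
      have h4 := hsec.symm
      rwa [EmbeddingLike.map_eq_zero_iff] at h4
    exact Polynomial.toLaurent_eq_zero.mp h3
  constructor
  · rw [hq, map_zero (Polynomial.aeval xx), map_zero (Ideal.Quotient.mk II)]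
  · rw [hb, mul_zero, map_zero (Polynomial.aeval xx), map_zero (Ideal.Quotient.mk II)]

end node

/-- Let k be a field and A = k[x, y]/(xy) the node, with the two affine charts U = Spec k[s, y]/(sy) and
V = Spec k[t, x]/(tx) of the curve obtained by the (p, q)-construction with p = q = 0, glued along
k[s, s⁻¹] by t = s⁻¹ (y ↦ 0 from U, x ↦ 0 from V), and with A → O(U) given by x ↦ 0, y ↦ y and A →
O(V) by x ↦ x, y ↦ 0. A global section of O(1) is a pair (g, f) with g = s f on U ∩ V. If such a
pair is annihilated by both x and y (acting through the two restriction maps), then g = 0 and f = 0;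
so the module of global sections of O(1) has no nonzero element killed by the maximal ideal (x, y),
i.e. its direct image on the node is torsion-free there. All three coordinate rings are written as
the quotient of the polynomial ring in two variables by the product of the variables, and the four
restriction homomorphisms are k-algebra maps pinned by their values on generators. (The published
proof reduces the torsion-freeness of the direct image of O(1), for general R, p, q, to exactly this
case of a field with p = q = 0.) -/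
theorem result (k : Type u) [Field k]
    (rU : SpinCurv.PolyNodeRing k 0 →ₐ[k] SpinCurv.PolyNodeRing k 0)
    (hrUx : rU (SpinCurv.PolyNodeRing.x k 0) = 0)
    (hrUy : rU (SpinCurv.PolyNodeRing.y k 0) = SpinCurv.PolyNodeRing.y k 0)
    (rV : SpinCurv.PolyNodeRing k 0 →ₐ[k] SpinCurv.PolyNodeRing k 0)
    (hrVx : rV (SpinCurv.PolyNodeRing.x k 0) = SpinCurv.PolyNodeRing.y k 0)
    (hrVy : rV (SpinCurv.PolyNodeRing.y k 0) = 0)
    (gU : SpinCurv.PolyNodeRing k 0 →ₐ[k] LaurentPolynomial k)
    (hgUs : gU (SpinCurv.PolyNodeRing.x k 0) = LaurentPolynomial.T 1)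
    (hgUy : gU (SpinCurv.PolyNodeRing.y k 0) = 0)
    (gV : SpinCurv.PolyNodeRing k 0 →ₐ[k] LaurentPolynomial k)
    (hgVt : gV (SpinCurv.PolyNodeRing.x k 0) = LaurentPolynomial.T (-1))
    (hgVx : gV (SpinCurv.PolyNodeRing.y k 0) = 0)
    (g f : SpinCurv.PolyNodeRing k 0) (hsec : gU g = LaurentPolynomial.T 1 * gV f)
    (hx : rU (SpinCurv.PolyNodeRing.x k 0) * g = 0 ∧ rV (SpinCurv.PolyNodeRing.x k 0) * f = 0)
    (hy : rU (SpinCurv.PolyNodeRing.y k 0) * g = 0 ∧ rV (SpinCurv.PolyNodeRing.y k 0) * f = 0) :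
    g = 0 ∧ f = 0 := by
  have h1 : SpinCurv.PolyNodeRing.y k 0 * g = 0 := by rw [← hrUy]; exact hy.1
  have h2 : SpinCurv.PolyNodeRing.y k 0 * f = 0 := by rw [← hrVx]; exact hx.2
  exact main k gU hgUs gV hgVt g f hsec h1 h2

end Groth.Agent.S18435
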