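import Groth.Statements.S18457
import Mathlib

set_option autoImplicit false
open Finset
open Surf

namespace Groth.Agent.S18457

/-- In the Picard lattice of the plane blown up at n ≤ 8 points, with basis h, e_1, …, e_n, form h² = 1,
e_i² = −1, all other products 0, and anticanonical class D = 3h − Σ e_i, let d·h − Σ a_i e_i be a
class with all a_i ≥ 0 (the class of the strict transform of a degree-d plane curve having
multiplicity a_i at the i-th point) which is a (−2)-class orthogonal to D, that is d² − Σ a_i² = −2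
and 3d = Σ a_i. Then one of the following holds: d = 1 and every a_i is 0 or 1 with exactly three
equal to 1; d = 2 and every a_i is 0 or 1 with exactly six equal to 1; d = 3, n = 8, and one a_i
equals 2 while the remaining seven equal 1. The published statement is geometric: under the
general-position hypotheses on the points, no smooth rational curve on the blown-up plane is
orthogonal to D; this row is the lattice enumeration its proof carries out (a line through three of
the points, a conic through six, a cubic through all eight and singular at one). -/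
theorem result (n : ℕ) (hn : n ≤ 8)
    (d : ℤ) (a : Fin n → ℤ) (ha : ∀ i, 0 ≤ a i)
    (hsq : d ^ 2 - ∑ i, (a i) ^ 2 = -2) (hK : 3 * d = ∑ i, a i) :
    (d = 1 ∧ (∀ i, a i = 0 ∨ a i = 1) ∧ (Finset.univ.filter (fun i => a i = 1)).card = 3) ∨
      (d = 2 ∧ (∀ i, a i = 0 ∨ a i = 1) ∧ (Finset.univ.filter (fun i => a i = 1)).card = 6) ∨
      (d = 3 ∧ n = 8 ∧ ∃ j, a j = 2 ∧ ∀ i, i ≠ j → a i = 1) := by
  classical
  obtain ⟨S1, hS1⟩ : ∃ S1 : ℤ, S1 = ∑ i, a i := ⟨_, rfl⟩
  obtain ⟨S2, hS2⟩ : ∃ S2 : ℤ, S2 = ∑ i, (a i) ^ 2 := ⟨_, rfl⟩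
  rw [← hS2] at hsq
  rw [← hS1] at hK
  have hnZ : (n : ℤ) ≤ 8 := by exact_mod_cast hn
  have hS1nn : 0 ≤ S1 := by rw [hS1]; exact Finset.sum_nonneg (fun i _ => ha i)
  have hd0 : 0 ≤ d := by omega
  have hCS : S1 ^ 2 ≤ (n : ℤ) * S2 := by
    rw [hS1, hS2]
    have := sq_sum_le_card_mul_sum_sq (s := (Finset.univ : Finset (Fin n))) (f := a)
    simpa using this
  have hd4 : d ≤ 4 := by
    have h1 : S2 = d ^ 2 + 2 := by linarith
    have h2 : S1 = 3 * d := hK.symm
    rw [h1, h2] at hCS
    have h3 : (n : ℤ) * (d ^ 2 + 2) ≤ 8 * (d ^ 2 + 2) := by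
      apply mul_le_mul_of_nonneg_right hnZ; positivity
    have h4 : d ^ 2 ≤ 16 := by nlinarith
    nlinarith
  have hT : ∑ i, a i * (a i - 1) = S2 - S1 := by
    rw [hS1, hS2, ← Finset.sum_sub_distrib]
    refine Finset.sum_congr rfl (fun i _ => by ring)
  have hTnn : ∀ i, 0 ≤ a i * (a i - 1) := by
    intro i
    have := ha i
    rcases (by omega : a i = 0 ∨ 1 ≤ a i) with h | h
    · rw [h]; norm_num
    · apply mul_nonneg this; omega
  have h01 : S2 - S1 = 0 → (∀ i, a i = 0 ∨ a i = 1) ∧
      ((Finset.univ.filter (fun i => a i = 1)).card : ℤ) = S1 := by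
    intro h0
    rw [← hT] at h0
    have h1 := (Finset.sum_eq_zero_iff_of_nonneg (fun i _ => hTnn i)).mp h0
    have h2 : ∀ i, a i = 0 ∨ a i = 1 := by
      intro i
      have := h1 i (Finset.mem_univ i)
      rcases mul_eq_zero.mp this with h | h
      · left; exact h
      · right; omega
    refine ⟨h2, ?_⟩
    rw [hS1, Finset.card_filter]
    push_cast
    refine Finset.sum_congr rfl (fun i _ => ?_)
    rcases h2 i with h | h
    · rw [h]; simp
    · rw [h]; simp
  have hd_cases : d = 0 ∨ d = 1 ∨ d = 2 ∨ d = 3 ∨ d = 4 := by omega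
  rcases hd_cases with rfl | rfl | rfl | rfl | rfl
  · exfalso
    have h1 : S1 = 0 := by omega
    have h2 : S2 = 2 := by norm_num at hsq; linarith
    rw [hS1] at h1
    have h3 := (Finset.sum_eq_zero_iff_of_nonneg (fun i _ => ha i)).mp h1
    have h4 : S2 = 0 := by
      rw [hS2]
      apply Finset.sum_eq_zero
      intro i hi
      rw [h3 i hi]; norm_num
    omega
  · left
    have h1 : S1 = 3 := by omega
    have h2 : S2 = 3 := by norm_num at hsq; linarith
    obtain ⟨h3, h4⟩ := h01 (by omega)
    refine ⟨rfl, h3, ?_⟩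
    rw [h1] at h4; exact_mod_cast h4
  · right; left
    have h1 : S1 = 6 := by omega
    have h2 : S2 = 6 := by norm_num at hsq; linarith
    obtain ⟨h3, h4⟩ := h01 (by omega)
    refine ⟨rfl, h3, ?_⟩
    rw [h1] at h4; exact_mod_cast h4
  · right; right
    have h1 : S1 = 9 := by omega
    have h2 : S2 = 11 := by norm_num at hsq; linarith
    have hex : ∃ j, 2 ≤ a j := by
      by_contra hne
      push Not at hne
      have h0 : ∑ i, a i * (a i - 1) = 0 := by
        apply Finset.sum_eq_zero
        intro i _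
        have h1 := ha i
        have h2 := hne i
        rcases (by omega : a i = 0 ∨ a i = 1) with h | h <;> rw [h] <;> norm_num
      omega
    obtain ⟨j, hj⟩ := hex
    have hsplit : ∑ i, a i * (a i - 1) =
        a j * (a j - 1) + ∑ i ∈ Finset.univ.erase j, a i * (a i - 1) :=
      (Finset.add_sum_erase Finset.univ (fun i => a i * (a i - 1)) (Finset.mem_univ j)).symm
    have hrest_nn : 0 ≤ ∑ i ∈ Finset.univ.erase j, a i * (a i - 1) :=
      Finset.sum_nonneg (fun i _ => hTnn i)
    have htj : a j * (a j - 1) ≤ 2 := by linarith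
    have haj2 : a j ≤ 2 := by nlinarith
    have haj : a j = 2 := le_antisymm haj2 hj
    have hrest0 : ∑ i ∈ Finset.univ.erase j, a i * (a i - 1) = 0 := by
      rw [haj] at hsplit; linarith
    have h01' : ∀ i ∈ Finset.univ.erase j, a i = 0 ∨ a i = 1 := by
      intro i hi
      have := (Finset.sum_eq_zero_iff_of_nonneg (fun i _ => hTnn i)).mp hrest0 i hi
      rcases mul_eq_zero.mp this with h | h
      · left; exact h
      · right; omega
    have hsum1 : S1 = a j + ∑ i ∈ Finset.univ.erase j, a i := by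
      rw [hS1]; exact (Finset.add_sum_erase Finset.univ a (Finset.mem_univ j)).symm
    have h7 : ∑ i ∈ Finset.univ.erase j, a i = 7 := by omega
    have hcard : (Finset.univ.erase j).card = n - 1 := by
      rw [Finset.card_erase_of_mem (Finset.mem_univ j), Finset.card_univ, Fintype.card_fin]
    have hsum3 : ∑ i ∈ Finset.univ.erase j, (1 - a i) = ((n - 1 : ℕ) : ℤ) - 7 := by
      rw [Finset.sum_sub_distrib, h7, Finset.sum_const, hcard]; simp
    have hnn3 : ∀ i ∈ Finset.univ.erase j, 0 ≤ 1 - a i := by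
      intro i hi; rcases h01' i hi with h | h <;> rw [h] <;> norm_num
    have h8 : 0 ≤ ((n - 1 : ℕ) : ℤ) - 7 := by rw [← hsum3]; exact Finset.sum_nonneg hnn3
    have hn8 : n = 8 := by omega
    have hzero3 : ∑ i ∈ Finset.univ.erase j, (1 - a i) = 0 := by rw [hsum3]; omega
    refine ⟨rfl, hn8, j, haj, ?_⟩
    intro i hij
    have hi : i ∈ Finset.univ.erase j := Finset.mem_erase.mpr ⟨hij, Finset.mem_univ i⟩
    have := (Finset.sum_eq_zero_iff_of_nonneg hnn3).mp hzero3 i hi
    omega
  · exfalso
    have h1 : S1 = 12 := by omega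
    have h2 : S2 = 18 := by norm_num at hsq; linarith
    have hodd : ∀ i, 1 ≤ (2 * a i - 3) ^ 2 := by
      intro i
      rcases (by omega : 2 * a i - 3 ≤ -1 ∨ 1 ≤ 2 * a i - 3) with h | h <;> nlinarith
    have hsumq : ∑ i, (2 * a i - 3) ^ 2 = 4 * S2 - 12 * S1 + 9 * n := by
      rw [hS1, hS2]
      have : ∀ i, (2 * a i - 3) ^ 2 = 4 * (a i) ^ 2 - 12 * a i + 9 := fun i => by ring
      simp only [this, Finset.sum_add_distrib, Finset.sum_sub_distrib, ← Finset.mul_sum,
        Finset.sum_const, Finset.card_univ, Fintype.card_fin, nsmul_eq_mul]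
      ring
    have hge : (n : ℤ) ≤ ∑ i, (2 * a i - 3) ^ 2 := by
      calc (n : ℤ) = ∑ i : Fin n, (1 : ℤ) := by simp
        _ ≤ _ := Finset.sum_le_sum (fun i _ => hodd i)
    omega

end Groth.Agent.S18457
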