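import Groth.Statements.S18465
import Mathlib

set_option autoImplicit false
universe u v w x
open WildLef

namespace Groth.Agent.S18465

/-- Let f : G₁ → G₂ be a homomorphism of groups, ρ : G₂ → Γ a homomorphism with finite image G, and A a
nontrivial commutative ring. Let G₂ act on the group algebra A[G] through ρ followed by the left
regular representation, and G₁ through f. If the elements of A[G] fixed by G₁ coincide with those
fixed by G₂, then ρ ∘ f and ρ have the same image. (The published statement has Γ a general linear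
group GL_r(A); over the zero ring that group is trivial, so requiring A nontrivial and allowing any
target group loses nothing.) -/
theorem result
    {G₁ : Type u} {G₂ : Type v} {Γ : Type w} [Group G₁] [Group G₂] [Group Γ]
    (f : G₁ →* G₂) (ρ : G₂ →* Γ) [Finite ρ.range] (A : Type x) [CommRing A] [Nontrivial A]
    (h : {x : MonoidAlgebra A ρ.range | ∀ g : G₁, MonoidAlgebra.of A ρ.range (ρ.rangeRestrict (f g)) * x = x} =
      {x : MonoidAlgebra A ρ.range | ∀ g : G₂, MonoidAlgebra.of A ρ.range (ρ.rangeRestrict g) * x = x}) :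
    (ρ.comp f).range = ρ.range := by
  classical
  obtain ⟨H, hH⟩ : ∃ H : Subgroup ρ.range, H = (ρ.rangeRestrict.comp f).range := ⟨_, rfl⟩
  obtain ⟨x, hx⟩ : ∃ x : MonoidAlgebra A ρ.range, x = MonoidAlgebra.ofCoeff
      (Finsupp.equivFunOnFinite.symm (fun γ => if γ ∈ H then (1:A) else 0)) := ⟨_, rfl⟩
  have hxc : ∀ γ, x.coeff γ = if γ ∈ H then (1:A) else 0 := by
    intro γ; rw [hx]; simp
  have hmem : x ∈ {x : MonoidAlgebra A ρ.range | ∀ g : G₁,
      MonoidAlgebra.of A ρ.range (ρ.rangeRestrict (f g)) * x = x} := by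
    change ∀ g : G₁, MonoidAlgebra.of A ρ.range (ρ.rangeRestrict (f g)) * x = x
    intro g
    apply MonoidAlgebra.ext
    ext γ
    rw [MonoidAlgebra.of_apply, MonoidAlgebra.coeff_single_mul_apply, one_mul, hxc, hxc]
    have hg : ρ.rangeRestrict (f g) ∈ H := by rw [hH]; exact ⟨g, rfl⟩
    have : (ρ.rangeRestrict (f g))⁻¹ * γ ∈ H ↔ γ ∈ H := by
      constructor
      · intro h1; have := H.mul_mem hg h1; simpa using this
      · intro h1; exact H.mul_mem (H.inv_mem hg) h1
    simp only [this]
  rw [h] at hmem
  apply le_antisymm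
  · rintro _ ⟨g, rfl⟩; exact ⟨f g, rfl⟩
  · rintro _ ⟨g, rfl⟩
    have h1 : MonoidAlgebra.of A ρ.range (ρ.rangeRestrict g) * x = x := hmem g
    have h2 : (MonoidAlgebra.of A ρ.range (ρ.rangeRestrict g) * x).coeff (ρ.rangeRestrict g)
        = x.coeff (ρ.rangeRestrict g) := by rw [h1]
    rw [MonoidAlgebra.of_apply, MonoidAlgebra.coeff_single_mul_apply, one_mul, hxc, hxc,
      inv_mul_cancel, if_pos H.one_mem] at h2
    by_cases hg : ρ.rangeRestrict g ∈ H
    · rw [hH] at hg
      obtain ⟨g1, hg1⟩ := hg
      refine ⟨g1, ?_⟩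
      have := congrArg Subtype.val hg1
      simpa using this
    · rw [if_neg hg] at h2
      exact absurd h2 one_ne_zero

end Groth.Agent.S18465
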