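import Groth.Statements.S18467
import Mathlib

set_option autoImplicit false
universe u
open Hopf

namespace Groth.Agent.S18467

/-- Let p be a prime and R a commutative ring containing an element u with u(p − 1) = 1, and let χ be a
homomorphism from the group of units of ℤ/p to the group of units of R such that χ(m) − 1 is a unit
of R for every m ≠ 1. For 0 ≤ i < p − 1 put e_i = u · Σ_m χ(m)^{−i} [m] in the group algebra
R[(ℤ/p)ˣ]. Then the e_i are idempotents, e_i e_j = 0 for i ≠ j, and Σ_i e_i = 1. (The published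
statement is for algebras over the subring of the p-adic integers generated over ℤ by the values of
the Teichmüller character χ and by 1/(p(p − 1)); the hypotheses on R and χ here are the properties
of that situation which the computation uses, so the row is stated for every such pair.) -/
theorem result
    (p : ℕ) [Fact p.Prime] (R : Type u) [CommRing R] (u : R) (hu : u * ((p - 1 : ℕ) : R) = 1)
    (χ : (ZMod p)ˣ →* Rˣ) (hχ : ∀ m : (ZMod p)ˣ, m ≠ 1 → IsUnit ((χ m : R) - 1)) :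
    CompleteOrthogonalIdempotents (fun i : Fin (p - 1) =>
      u • ∑ m : (ZMod p)ˣ, ((χ m⁻¹ : Rˣ) : R) ^ (i : ℕ) • MonoidAlgebra.of R (ZMod p)ˣ m) := by
  classical
  obtain ⟨c, hc⟩ : ∃ c : (ZMod p)ˣ → R, c = fun m => ((χ m : Rˣ) : R) := ⟨_, rfl⟩
  have c_mul : ∀ m n, c (m * n) = c m * c n := by intro m n; rw [hc]; simp
  have c_one : c 1 = 1 := by rw [hc]; simp
  have c_pow : ∀ (m : (ZMod p)ˣ) (n : ℕ), c (m ^ n) = c m ^ n := by intro m n; rw [hc]; simp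
  have c_inv : ∀ m, c m⁻¹ * c m = 1 := by intro m; rw [← c_mul, inv_mul_cancel, c_one]
  have hχ' : ∀ m : (ZMod p)ˣ, m ≠ 1 → IsUnit (c m - 1) := by
    intro m hm; rw [hc]; exact hχ m hm
  have hcard : Fintype.card (ZMod p)ˣ = p - 1 := ZMod.card_units p
  have hS_eq : ∀ i : ℕ, ∑ m : (ZMod p)ˣ, c m⁻¹ ^ i * c m ^ i = ((p - 1 : ℕ) : R) := by
    intro i
    have : ∀ m : (ZMod p)ˣ, c m⁻¹ ^ i * c m ^ i = 1 := by
      intro m; rw [← mul_pow, c_inv, one_pow]
    simp only [this, Finset.sum_const, Finset.card_univ, hcard, nsmul_eq_mul, mul_one]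
  obtain ⟨g, hg⟩ := IsCyclic.exists_generator (α := (ZMod p)ˣ)
  have hord : orderOf g = p - 1 := by
    rw [orderOf_eq_card_of_forall_mem_zpowers hg, Nat.card_eq_fintype_card, hcard]
  have hS_ne : ∀ i j : ℕ, i < p - 1 → j < p - 1 → i ≠ j →
      ∑ m : (ZMod p)ˣ, c m⁻¹ ^ i * c m ^ j = 0 := by
    intro i j hi hj hij
    obtain ⟨S, hSdef⟩ : ∃ S, S = ∑ m : (ZMod p)ˣ, c m⁻¹ ^ i * c m ^ j := ⟨_, rfl⟩
    rw [← hSdef]
    have h1 : c (g⁻¹ ^ i * g ^ j) * S = S := by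
      have e1 : ∑ m : (ZMod p)ˣ, c (g * m)⁻¹ ^ i * c (g * m) ^ j = S := by
        rw [hSdef]
        exact Equiv.sum_comp (Equiv.mulLeft g) (fun m => c m⁻¹ ^ i * c m ^ j)
      have e2 : ∑ m : (ZMod p)ˣ, c (g * m)⁻¹ ^ i * c (g * m) ^ j = c (g⁻¹ ^ i * g ^ j) * S := by
        rw [hSdef, Finset.mul_sum]
        refine Finset.sum_congr rfl (fun m _ => ?_)
        simp only [c_mul, c_pow, mul_inv_rev, mul_pow]
        ring
      rw [← e2, e1]
    have hne : g⁻¹ ^ i * g ^ j ≠ 1 := by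
      intro h0
      have h3 : g ^ j = g ^ i := by
        have h4 := congrArg (fun y => g ^ i * y) h0
        simp only [mul_one] at h4
        rw [← mul_assoc, inv_pow, mul_inv_cancel, one_mul] at h4
        exact h4
      have h5 := pow_injOn_Iio_orderOf (x := g) (by rw [hord]; exact hj) (by rw [hord]; exact hi) h3
      exact hij h5.symm
    have h6 : (c (g⁻¹ ^ i * g ^ j) - 1) * S = 0 := by rw [sub_mul, one_mul, h1, sub_self]
    exact ((hχ' _ hne).mul_right_eq_zero).mp h6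
  have hprod : ∀ i j : ℕ, (∑ m : (ZMod p)ˣ, c m⁻¹ ^ i • MonoidAlgebra.of R (ZMod p)ˣ m) *
      (∑ m : (ZMod p)ˣ, c m⁻¹ ^ j • MonoidAlgebra.of R (ZMod p)ˣ m) =
      (∑ m : (ZMod p)ˣ, c m⁻¹ ^ i * c m ^ j) •
        ∑ k : (ZMod p)ˣ, c k⁻¹ ^ j • MonoidAlgebra.of R (ZMod p)ˣ k := by
    intro i j
    have step1 : ∀ m : (ZMod p)ˣ, ∑ n : (ZMod p)ˣ, (c m⁻¹ ^ i • MonoidAlgebra.of R (ZMod p)ˣ m) *
        (c n⁻¹ ^ j • MonoidAlgebra.of R (ZMod p)ˣ n) =
        ∑ k : (ZMod p)ˣ, (c m⁻¹ ^ i * c m ^ j) • (c k⁻¹ ^ j • MonoidAlgebra.of R (ZMod p)ˣ k) := by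
      intro m
      refine (Equiv.sum_comp (Equiv.mulLeft m⁻¹) (fun n => (c m⁻¹ ^ i • MonoidAlgebra.of R (ZMod p)ˣ m) *
        (c n⁻¹ ^ j • MonoidAlgebra.of R (ZMod p)ˣ n))).symm.trans ?_
      refine Finset.sum_congr rfl (fun k _ => ?_)
      show (c m⁻¹ ^ i • MonoidAlgebra.of R (ZMod p)ˣ m) *
        (c (m⁻¹ * k)⁻¹ ^ j • MonoidAlgebra.of R (ZMod p)ˣ (m⁻¹ * k)) = _
      rw [smul_mul_smul_comm, ← map_mul, mul_inv_cancel_left, smul_smul]
      congr 1
      simp only [c_mul, mul_inv_rev, inv_inv, mul_pow]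
      ring
    rw [Finset.sum_mul_sum, Finset.sum_smul]
    refine Finset.sum_congr rfl (fun m _ => ?_)
    rw [step1 m, Finset.smul_sum]
  have hu' : u * u * ((p - 1 : ℕ) : R) = u := by rw [mul_assoc, hu, mul_one]
  have hgeo : ∀ m : (ZMod p)ˣ, m ≠ 1 → ∑ i : Fin (p - 1), c m⁻¹ ^ (i : ℕ) = 0 := by
    intro m hm
    have hm' : m⁻¹ ≠ 1 := by simpa using hm
    rw [Fin.sum_univ_eq_sum_range (fun i => c m⁻¹ ^ i) (p - 1)]
    have h3 := mul_geom_sum (c m⁻¹) (p - 1)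
    rw [← c_pow, ZMod.units_pow_card_sub_one_eq_one, c_one, sub_self] at h3
    exact ((hχ' _ hm').mul_right_eq_zero).mp h3
  have key : CompleteOrthogonalIdempotents (fun i : Fin (p - 1) =>
      u • ∑ m : (ZMod p)ˣ, c m⁻¹ ^ (i : ℕ) • MonoidAlgebra.of R (ZMod p)ˣ m) := by
    refine ⟨⟨?_, ?_⟩, ?_⟩
    · intro i
      show (u • ∑ m : (ZMod p)ˣ, c m⁻¹ ^ (i : ℕ) • MonoidAlgebra.of R (ZMod p)ˣ m) *
        (u • ∑ m : (ZMod p)ˣ, c m⁻¹ ^ (i : ℕ) • MonoidAlgebra.of R (ZMod p)ˣ m) = _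
      rw [smul_mul_smul_comm, hprod, hS_eq, smul_smul, hu']
    · intro i j hij
      show (u • ∑ m : (ZMod p)ˣ, c m⁻¹ ^ (i : ℕ) • MonoidAlgebra.of R (ZMod p)ˣ m) *
        (u • ∑ m : (ZMod p)ˣ, c m⁻¹ ^ (j : ℕ) • MonoidAlgebra.of R (ZMod p)ˣ m) = 0
      rw [smul_mul_smul_comm, hprod, hS_ne i j i.2 j.2 (fun h => hij (Fin.ext h)), zero_smul,
        smul_zero]
    · show ∑ i : Fin (p - 1), u • ∑ m : (ZMod p)ˣ, c m⁻¹ ^ (i : ℕ) • MonoidAlgebra.of R (ZMod p)ˣ m = 1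
      rw [← Finset.smul_sum, Finset.sum_comm]
      have hm1 : ∀ m : (ZMod p)ˣ, ∑ i : Fin (p - 1), c m⁻¹ ^ (i : ℕ) • MonoidAlgebra.of R (ZMod p)ˣ m =
          (if m = 1 then ((p - 1 : ℕ) : R) else 0) • MonoidAlgebra.of R (ZMod p)ˣ m := by
        intro m
        rw [← Finset.sum_smul]
        congr 1
        split_ifs with hm
        · subst hm
          simp [c_one]
        · exact hgeo m hm
      rw [Finset.sum_congr rfl (fun m _ => hm1 m)]
      simp only [ite_smul, zero_smul, Finset.sum_ite_eq', Finset.mem_univ, if_true]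
      rw [smul_smul, hu, one_smul, map_one]
  subst hc
  exact key

end Groth.Agent.S18467
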