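import Groth.Statements.S18470
import Mathlib

set_option autoImplicit false
universe u v
open OortTate

namespace Groth.Agent.S18470

/-- Let R be a commutative ring and A a commutative Hopf algebra over R which is finitely generated and
projective as an R-module (a finite locally free group scheme G = Spec A, not assumed commutative),
and let A^D = Hom_R(A, R) be the dual algebra with its Hopf structure (the Cartier dual when A is
cocommutative), whose counit is evaluation at 1. Then restriction of linear forms to the
augmentation ideal I = ker ε_A of A is a bijection from the augmentation ideal of A^D onto the dual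
module Hom_R(I, R): the dual of the augmentation ideal of G is the augmentation ideal of the dual.
The published statement is for a group scheme of order p over a Λ_p-algebra; the argument uses only
the splitting A = R·1 ⊕ ker ε. -/
theorem result
    (R : Type u) [CommRing R] (A : Type v) [CommRing A] [HopfAlgebra R A]
    [Module.Finite R A] [Module.Projective R A] :
    Function.Bijective (fun f : LinearMap.ker (Bialgebra.counitAlgHom R (CartDual.D R A)).toLinearMap =>
      ((CartDual.toDual R A) (f : CartDual.D R A)).comp
        (LinearMap.ker (Bialgebra.counitAlgHom R A).toLinearMap).subtype) := by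
  classical
  obtain ⟨E, hE⟩ : ∃ E : A →ₐ[R] R, E = Bialgebra.counitAlgHom R A := ⟨_, rfl⟩
  rw [← hE]
  have hmemD : ∀ f : CartDual.D R A,
      f ∈ LinearMap.ker (Bialgebra.counitAlgHom R (CartDual.D R A)).toLinearMap ↔
        f.ofConv 1 = 0 := by
    intro f
    rw [LinearMap.mem_ker]
    rfl
  have hker : ∀ a : A, a - E a • (1:A) ∈ LinearMap.ker E.toLinearMap := by
    intro a
    rw [LinearMap.mem_ker]
    show E (a - E a • (1:A)) = 0
    rw [map_sub, map_smul, map_one, smul_eq_mul, mul_one, sub_self]
  constructor
  · rintro ⟨f, hf⟩ ⟨g, hg⟩ hfg
    apply Subtype.ext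
    show f = g
    have hf1 := (hmemD f).mp hf
    have hg1 := (hmemD g).mp hg
    have h3 : f.ofConv = g.ofConv := by
      refine LinearMap.ext (fun a => ?_)
      have h1 := LinearMap.congr_fun hfg ⟨_, hker a⟩
      simp only [LinearMap.comp_apply, Submodule.subtype_apply, CartDual.toDual_apply] at h1
      rw [map_sub, map_sub, map_smul, map_smul, hf1, hg1, smul_zero, sub_zero, sub_zero] at h1
      exact h1
    exact WithConv.ofConv_injective h3
  · intro h
    obtain ⟨P, hP⟩ : ∃ P : A →ₗ[R] LinearMap.ker E.toLinearMap,
        ∀ a, (P a : A) = a - E a • (1:A) :=
      ⟨LinearMap.codRestrict _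
        (LinearMap.id - (LinearMap.toSpanSingleton R A 1).comp E.toLinearMap)
        (by
          intro a
          have h1 := hker a
          simpa [LinearMap.toSpanSingleton_apply] using h1),
        fun a => by simp [LinearMap.toSpanSingleton_apply]⟩
    refine ⟨⟨WithConv.toConv (h.comp P), ?_⟩, ?_⟩
    · rw [hmemD]
      show h (P 1) = 0
      have h1 : P 1 = 0 := by
        apply Subtype.ext
        rw [hP]; simp
      rw [h1, map_zero]
    · refine LinearMap.ext (fun a => ?_)
      show h (P a) = h a
      congr 1
      apply Subtype.ext
      rw [hP]
      have h1 := a.2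
      rw [LinearMap.mem_ker] at h1
      have h2 : E (a : A) = 0 := h1
      rw [h2, zero_smul, sub_zero]

end Groth.Agent.S18470
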