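import Groth.Statements.S18479
import Mathlib

set_option autoImplicit false
universe u v
open scoped TensorProduct
open OortTate

namespace Groth.Agent.S18479

/-- Let R be a commutative ring and A a commutative Hopf algebra over R whose augmentation ideal ker ε
is a free R-module of rank one with generator x (this is the situation of a group scheme of order 2
over a local ring: A free of rank 2, so ker ε is free of rank 1). Then there are a, b ∈ R with x² =
a·x, Δ(x) = x ⊗ 1 + 1 ⊗ x + b·(x ⊗ x), and ab = −2; thus A is the Hopf algebra R[T]/(T² − aT) with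
comultiplication T ↦ T ⊗ 1 + 1 ⊗ T + b T ⊗ T. (The copy works over a Noetherian local ring to get
freeness; the computation uses only that ker ε is free on x.) -/
theorem result
    (R : Type u) [CommRing R] (A : Type v) [CommRing A] [HopfAlgebra R A]
    (x : A) (hx : Bialgebra.counitAlgHom R A x = 0)
    (hgen : ∀ f : A, Bialgebra.counitAlgHom R A f = 0 → ∃ r : R, f = r • x)
    (hfree : ∀ r : R, r • x = 0 → r = 0) :
    ∃ a b : R, x * x = a • x ∧
      Bialgebra.comulAlgHom R A x = x ⊗ₜ[R] 1 + 1 ⊗ₜ[R] x + b • (x ⊗ₜ[R] x) ∧ a * b = -2 := by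
  classical
  obtain ⟨ε, hε⟩ : ∃ ε : A →ₗ[R] R, ε = Coalgebra.counit := ⟨_, rfl⟩
  have hεE : ∀ f, Bialgebra.counitAlgHom R A f = ε f := by intro f; rw [hε]; rfl
  have hε1 : ε 1 = 1 := by rw [← hεE, map_one]
  have hεx : ε x = 0 := by rw [← hεE]; exact hx
  have hex : ∀ f : A, ∃ r : R, f - ε f • (1 : A) = r • x := by
    intro f
    apply hgen
    rw [hεE, map_sub, map_smul, hε1, smul_eq_mul, mul_one, sub_self]
  choose π0 hπ0 using hex
  have huniq : ∀ r s : R, r • x = s • x → r = s := by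
    intro r s h
    have : (r - s) • x = 0 := by rw [sub_smul, h, sub_self]
    exact sub_eq_zero.mp (hfree _ this)
  obtain ⟨π, hπ⟩ : ∃ π : A →ₗ[R] R, ∀ f, π f = π0 f := by
    refine ⟨{ toFun := π0, map_add' := ?_, map_smul' := ?_ }, fun f => rfl⟩
    · intro f g
      apply huniq
      rw [← hπ0, add_smul, ← hπ0, ← hπ0, map_add, add_smul]
      abel
    · intro c f
      apply huniq
      have h2 := hπ0 f
      rw [RingHom.id_apply, ← hπ0, map_smul, smul_assoc c (π0 f) x, ← h2]
      module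
  have hdec : ∀ f : A, f = ε f • (1 : A) + π f • x := by
    intro f; rw [hπ, ← hπ0]; abel
  have hπx : π x = 1 := by
    apply huniq
    have := hdec x
    rw [hεx, zero_smul, zero_add] at this
    rw [one_smul]; exact this.symm
  have hπ1 : π 1 = 0 := by
    apply huniq
    have := hdec 1
    rw [hε1, one_smul] at this
    rw [zero_smul]
    exact left_eq_add.mp this
  obtain ⟨pair, hpair⟩ : ∃ pair : (A →ₗ[R] R) → (A →ₗ[R] R) → (A ⊗[R] A →ₗ[R] R),
      ∀ φ χ f g, pair φ χ (f ⊗ₜ[R] g) = φ f * χ g :=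
    ⟨fun φ χ => (LinearMap.mul' R R).comp (TensorProduct.map φ χ), fun φ χ f g => by simp⟩
  have hpairε : ∀ (φ : A →ₗ[R] R) (a : A), pair ε φ (Coalgebra.comul a) = φ a := by
    intro φ a
    have h1 : pair ε φ = ((LinearMap.mul' R R).comp (TensorProduct.map LinearMap.id φ)).comp
        (ε.rTensor A) := by
      apply TensorProduct.ext'
      intro f g
      rw [hpair]; simp
    rw [h1, LinearMap.comp_apply, hε, Coalgebra.rTensor_counit_comul]
    simp
  have hpairε' : ∀ (φ : A →ₗ[R] R) (a : A), pair φ ε (Coalgebra.comul a) = φ a := by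
    intro φ a
    have h1 : pair φ ε = ((LinearMap.mul' R R).comp (TensorProduct.map φ LinearMap.id)).comp
        (ε.lTensor A) := by
      apply TensorProduct.ext'
      intro f g
      rw [hpair]; simp
    rw [h1, LinearMap.comp_apply, hε, Coalgebra.lTensor_counit_comul]
    simp
  have hdec2 : ∀ z : A ⊗[R] A, z = pair ε ε z • ((1:A) ⊗ₜ[R] (1:A)) + pair π ε z • (x ⊗ₜ[R] (1:A))
      + pair ε π z • ((1:A) ⊗ₜ[R] x) + pair π π z • (x ⊗ₜ[R] x) := by
    intro z
    induction z using TensorProduct.induction_on with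
    | zero => simp
    | tmul f g =>
      rw [hpair, hpair, hpair, hpair]
      conv_lhs => rw [hdec f, hdec g]
      rw [TensorProduct.add_tmul, TensorProduct.tmul_add, TensorProduct.tmul_add,
        TensorProduct.smul_tmul_smul, TensorProduct.smul_tmul_smul, TensorProduct.smul_tmul_smul,
        TensorProduct.smul_tmul_smul]
      abel
    | add z w hz hw =>
      conv_lhs => rw [hz, hw]
      simp only [map_add, add_smul]
      abel
  obtain ⟨a, ha⟩ : ∃ a : R, x * x = a • x := hgen (x * x) (by rw [map_mul, hx, mul_zero])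
  obtain ⟨Δx, hΔx⟩ : ∃ Δx, Δx = Coalgebra.comul (R := R) x := ⟨_, rfl⟩
  obtain ⟨b, hb⟩ : ∃ b, b = pair π π Δx := ⟨_, rfl⟩
  have hΔ : Δx = x ⊗ₜ[R] (1:A) + (1:A) ⊗ₜ[R] x + b • (x ⊗ₜ[R] x) := by
    have h := hdec2 Δx
    have e1 : pair ε ε Δx = 0 := by rw [hΔx, hpairε, hεx]
    have e2 : pair π ε Δx = 1 := by rw [hΔx, hpairε', hπx]
    have e3 : pair ε π Δx = 1 := by rw [hΔx, hpairε, hπx]
    rw [e1, e2, e3, ← hb, zero_smul, zero_add, one_smul, one_smul] at h
    exact h
  have hD : Bialgebra.comulAlgHom R A x = Δx := by rw [hΔx]; rfl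
  have hmul : Δx * Δx = a • Δx := by
    rw [← hD, ← map_mul, ha, map_smul]
  have hsq : a * b = a * a * (b * b) + 2 + 4 * (a * b) := by
    have h := congrArg (pair π π) hmul
    rw [map_smul, ← hb, smul_eq_mul] at h
    have hexp : Δx * Δx = a • (x ⊗ₜ[R] (1:A)) + a • ((1:A) ⊗ₜ[R] x) +
        (a * a * (b * b) + 2 + 4 * (a * b)) • (x ⊗ₜ[R] x) := by
      rw [hΔ]
      obtain ⟨P, hP⟩ : ∃ P, P = x ⊗ₜ[R] (1:A) := ⟨_, rfl⟩
      obtain ⟨Q, hQ⟩ : ∃ Q, Q = (1:A) ⊗ₜ[R] x := ⟨_, rfl⟩
      obtain ⟨T, hT⟩ : ∃ T, T = x ⊗ₜ[R] x := ⟨_, rfl⟩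
      have hPP : P * P = a • P := by
        rw [hP, Algebra.TensorProduct.tmul_mul_tmul, ha, mul_one, ← TensorProduct.smul_tmul']
      have hQQ : Q * Q = a • Q := by
        rw [hQ, Algebra.TensorProduct.tmul_mul_tmul, ha, mul_one, TensorProduct.tmul_smul]
      have hPQ : P * Q = T := by
        rw [hP, hQ, hT, Algebra.TensorProduct.tmul_mul_tmul, mul_one, one_mul]
      have hPT : P * T = a • T := by
        rw [hP, hT, Algebra.TensorProduct.tmul_mul_tmul, ha, one_mul, ← TensorProduct.smul_tmul']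
      have hQT : Q * T = a • T := by
        rw [hQ, hT, Algebra.TensorProduct.tmul_mul_tmul, ha, one_mul, TensorProduct.tmul_smul]
      have hTT : T * T = (a * a) • T := by
        rw [hT, Algebra.TensorProduct.tmul_mul_tmul, ha, TensorProduct.smul_tmul_smul]
      rw [← hP, ← hQ, ← hT]
      have hexp2 : (P + Q + b • T) * (P + Q + b • T) = P * P + Q * Q + (b * b) • (T * T) +
          (2:R) • (P * Q) + (2 * b) • (P * T) + (2 * b) • (Q * T) := by
        simp only [Algebra.smul_def, map_mul, map_ofNat]; ring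
      rw [hexp2, hPP, hQQ, hPQ, hPT, hQT, hTT]
      module
    rw [hexp, map_add, map_add, map_smul, map_smul, map_smul, hpair, hpair, hpair, hπx, hπ1] at h
    simp only [smul_eq_mul] at h
    linear_combination (-1 : R) * h
  obtain ⟨S, hS⟩ : ∃ S : A →ₗ[R] A, S = HopfAlgebra.antipode R := ⟨_, rfl⟩
  have hanti := HopfAlgebra.mul_antipode_rTensor_comul_apply (R := R) x
  rw [← hΔx, ← hS, hΔ] at hanti
  simp only [map_add, map_smul, LinearMap.rTensor_tmul, LinearMap.mul'_apply] at hanti
  have hS1 : S 1 = 1 := by rw [hS]; exact HopfAlgebra.antipode_one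
  have hcx : Coalgebra.counit (R := R) x = 0 := by rw [← hε]; exact hεx
  rw [hS1, hcx, map_zero, mul_one, one_mul] at hanti
  obtain ⟨s0, hs0⟩ : ∃ s0, s0 = ε (S x) := ⟨_, rfl⟩
  obtain ⟨c, hc⟩ : ∃ c, c = π (S x) := ⟨_, rfl⟩
  have hSx : S x = s0 • (1:A) + c • x := by rw [hs0, hc]; exact hdec (S x)
  rw [hSx] at hanti
  have h5 : s0 • (1:A) + (c + 1 + b * s0 + a * b * c) • x = 0 := by
    have e : s0 • (1:A) + (c + 1 + b * s0 + a * b * c) • x =
        s0 • (1:A) + c • x + x + b • ((s0 • (1:A) + c • x) * x) := by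
      rw [add_mul, smul_mul_assoc, one_mul, smul_mul_assoc, ha]
      module
    rw [e]; exact hanti
  have hs00 : s0 = 0 := by
    have := congrArg ε h5
    rw [map_add, map_smul, map_smul, hε1, hεx, map_zero] at this
    simpa using this
  rw [hs00, zero_smul, zero_add, mul_zero, add_zero] at h5
  have h6 : c + 1 + a * b * c = 0 := hfree _ h5
  refine ⟨a, b, ha, ?_, ?_⟩
  · rw [hD]; exact hΔ
  · have h7 : (a * b + 1) * (a * b + 2) = 0 := by linear_combination (-1 : R) * hsq
    have h8 : (-c) * (a * b + 1) = 1 := by linear_combination (-1 : R) * h6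
    have h9 : a * b + 2 = 0 := by
      calc a * b + 2 = ((-c) * (a * b + 1)) * (a * b + 2) := by rw [h8, one_mul]
        _ = (-c) * ((a * b + 1) * (a * b + 2)) := by ring
        _ = 0 := by rw [h7, mul_zero]
    linear_combination h9

end Groth.Agent.S18479
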