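import Groth.Statements.S18480
import Mathlib

set_option autoImplicit false
universe u v
open scoped TensorProduct
open OortTate

namespace Groth.Agent.S18480

theorem exists_coord (R : Type u) [CommRing R] (A : Type v) [CommRing A] [HopfAlgebra R A]
    (x : A) (hx : Bialgebra.counitAlgHom R A x = 0)
    (hgen : ∀ f : A, Bialgebra.counitAlgHom R A f = 0 → ∃ r : R, f = r • x)
    (hfree : ∀ r : R, r • x = 0 → r = 0) :
    ∃ π : A →ₗ[R] R, π x = 1 ∧ π 1 = 0 ∧
      ∀ f : A, f = (Bialgebra.counitAlgHom R A f) • (1 : A) + π f • x := by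
  classical
  obtain ⟨E, hE⟩ : ∃ E : A →ₐ[R] R, E = Bialgebra.counitAlgHom R A := ⟨_, rfl⟩
  rw [← hE] at hx hgen ⊢
  have hex : ∀ f : A, ∃ r : R, f - E f • (1 : A) = r • x := by
    intro f
    apply hgen
    rw [map_sub, map_smul, map_one, smul_eq_mul, mul_one, sub_self]
  choose π0 hπ0 using hex
  have huniq : ∀ r s : R, r • x = s • x → r = s := by
    intro r s h
    have : (r - s) • x = 0 := by rw [sub_smul, h, sub_self]
    exact sub_eq_zero.mp (hfree _ this)
  obtain ⟨π, hπ⟩ : ∃ π : A →ₗ[R] R, ∀ f, π f = π0 f := by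
    refine ⟨{ toFun := π0, map_add' := ?_, map_smul' := ?_ }, fun f => rfl⟩
    · intro f g
      apply huniq
      rw [← hπ0, add_smul, ← hπ0, ← hπ0, map_add, add_smul]
      abel
    · intro c f
      apply huniq
      have h2 := hπ0 f
      rw [RingHom.id_apply, ← hπ0, map_smul, smul_assoc c (π0 f) x, ← h2]
      module
  have hdec : ∀ f : A, f = E f • (1 : A) + π f • x := by
    intro f; rw [hπ, ← hπ0]; abel
  refine ⟨π, ?_, ?_, hdec⟩
  · apply huniq
    have := hdec x
    rw [hx, zero_smul, zero_add] at this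
    rw [one_smul]; exact this.symm
  · apply huniq
    have := hdec 1
    rw [map_one, one_smul] at this
    rw [zero_smul]
    exact left_eq_add.mp this

theorem hom_of (R : Type u) [CommRing R] (A : Type v) [CommRing A] [HopfAlgebra R A]
    (x : A) (hx : Bialgebra.counitAlgHom R A x = 0)
    (hgen : ∀ f : A, Bialgebra.counitAlgHom R A f = 0 → ∃ r : R, f = r • x)
    (hfree : ∀ r : R, r • x = 0 → r = 0) (a : R) (hxa : x * x = a • x)
    (A' : Type v) [CommRing A'] [HopfAlgebra R A']
    (x' : A') (hx' : Bialgebra.counitAlgHom R A' x' = 0) (a' : R) (hxa' : x' * x' = a' • x')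
    (s : R) (hs : a * s = s * s * a') :
    ∃ f : A →ₐ[R] A', f x = s • x' ∧
      ∀ z, Bialgebra.counitAlgHom R A' (f z) = Bialgebra.counitAlgHom R A z := by
  classical
  obtain ⟨π, hπx, hπ1, hdec⟩ := exists_coord R A x hx hgen hfree
  obtain ⟨E, hE⟩ : ∃ E : A →ₐ[R] R, E = Bialgebra.counitAlgHom R A := ⟨_, rfl⟩
  rw [← hE] at hx hdec ⊢
  have hπmul : ∀ f g : A, π (f * g) = E f * π g + E g * π f + a * (π f * π g) := by
    intro f g
    have h1 : f * g = (E f * E g) • (1:A) +
        (E f * π g + E g * π f + a * (π f * π g)) • x := by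
      conv_lhs => rw [hdec f, hdec g]
      rw [add_mul, mul_add, mul_add, smul_mul_smul_comm, smul_mul_smul_comm,
        smul_mul_smul_comm, smul_mul_smul_comm, one_mul, mul_one, one_mul, hxa]
      module
    have h2 := congrArg π h1
    rw [map_add, map_smul, map_smul, hπ1, hπx, smul_eq_mul, smul_eq_mul, mul_zero, zero_add,
      mul_one] at h2
    exact h2
  obtain ⟨F, hF⟩ : ∃ F : A →ₗ[R] A', ∀ z, F z = E z • (1:A') + (s * π z) • x' := by
    refine ⟨{ toFun := fun z => E z • (1:A') + (s * π z) • x', map_add' := ?_, map_smul' := ?_ },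
      fun z => rfl⟩
    · intro y z
      simp only [map_add, mul_add, add_smul]
      abel
    · intro c z
      simp only [map_smul, smul_eq_mul, RingHom.id_apply]
      module
  have hF1 : F 1 = 1 := by
    rw [hF, map_one, hπ1, mul_zero, zero_smul, add_zero, one_smul]
  have hFmul : ∀ f g, F (f * g) = F f * F g := by
    intro f g
    have hsc : s * (E f * π g + E g * π f + a * (π f * π g)) =
        E f * (s * π g) + (s * π f) * E g + (s * π f) * (s * π g) * a' := by
      linear_combination (π f * π g) * hs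
    rw [hF, hF, hF, map_mul, hπmul, hsc, add_mul, mul_add, mul_add, smul_mul_smul_comm,
      smul_mul_smul_comm, smul_mul_smul_comm, smul_mul_smul_comm, one_mul, mul_one, one_mul, hxa']
    module
  refine ⟨AlgHom.ofLinearMap F hF1 hFmul, ?_, ?_⟩
  · show F x = s • x'
    rw [hF, hx, zero_smul, zero_add, hπx, mul_one]
  · intro z
    show Bialgebra.counitAlgHom R A' (F z) = E z
    rw [hF, map_add, map_smul, map_smul, map_one, hx', smul_zero, add_zero, smul_eq_mul, mul_one]

/-- Let R be a commutative ring and let A and A' be commutative Hopf algebras over R whose augmentation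
ideals are free of rank one with generators x and x', with constants a, b and a', b' ∈ R such that
x² = a x, Δ(x) = x ⊗ 1 + 1 ⊗ x + b x ⊗ x and x'² = a' x', Δ(x') = x' ⊗ 1 + 1 ⊗ x' + b' x' ⊗ x' (the
group schemes of order two G_{a,b} and G_{a',b'}). Then A and A' are isomorphic as bialgebras over R
(G_{a,b} ≅ G_{a',b'} as group schemes) if and only if there is a unit s of R with a = a'·s and b' =
b·s. -/
theorem result
    (R : Type u) [CommRing R] (A : Type v) [CommRing A] [HopfAlgebra R A]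
    (x : A) (hx : Bialgebra.counitAlgHom R A x = 0)
    (hgen : ∀ f : A, Bialgebra.counitAlgHom R A f = 0 → ∃ r : R, f = r • x)
    (hfree : ∀ r : R, r • x = 0 → r = 0)
    (a b : R) (hxa : x * x = a • x)
    (hxb : Bialgebra.comulAlgHom R A x = x ⊗ₜ[R] 1 + 1 ⊗ₜ[R] x + b • (x ⊗ₜ[R] x))
    (A' : Type v) [CommRing A'] [HopfAlgebra R A']
    (x' : A') (hx' : Bialgebra.counitAlgHom R A' x' = 0)
    (hgen' : ∀ f : A', Bialgebra.counitAlgHom R A' f = 0 → ∃ r : R, f = r • x')
    (hfree' : ∀ r : R, r • x' = 0 → r = 0)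
    (a' b' : R) (hxa' : x' * x' = a' • x')
    (hxb' : Bialgebra.comulAlgHom R A' x' = x' ⊗ₜ[R] 1 + 1 ⊗ₜ[R] x' + b' • (x' ⊗ₜ[R] x')) :
    Nonempty (A ≃ₐc[R] A') ↔ ∃ s : Rˣ, a = a' * (s : R) ∧ b' = b * (s : R) := by
  classical
  obtain ⟨π, hπx, hπ1, hdec⟩ := exists_coord R A x hx hgen hfree
  obtain ⟨π', hπx', hπ1', hdec'⟩ := exists_coord R A' x' hx' hgen' hfree'
  constructor
  · rintro ⟨φ⟩
    have hEφ : ∀ z, Bialgebra.counitAlgHom R A' (φ z) = Bialgebra.counitAlgHom R A z := by
      intro z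
      exact CoalgHomClass.counit_comp_apply φ z
    have hEφs : ∀ z, Bialgebra.counitAlgHom R A (φ.symm z) = Bialgebra.counitAlgHom R A' z := by
      intro z
      exact CoalgHomClass.counit_comp_apply φ.symm z
    obtain ⟨s, hs⟩ := hgen' (φ x) (by rw [hEφ, hx])
    obtain ⟨t, ht⟩ := hgen (φ.symm x') (by rw [hEφs, hx'])
    have hst : s * t = 1 := by
      have h1 : φ.symm (φ x) = x := φ.symm_apply_apply x
      rw [hs, map_smul, ht, smul_smul] at h1
      have h2 : (s * t - 1) • x = 0 := by rw [sub_smul, one_smul, h1, sub_self]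
      exact sub_eq_zero.mp (hfree _ h2)
    have has : a * s = s * s * a' := by
      have h1 : φ (x * x) = φ x * φ x := map_mul φ x x
      rw [hxa, map_smul, hs, smul_mul_smul_comm, hxa', smul_smul, smul_smul] at h1
      have h2 : (a * s - s * s * a') • x' = 0 := by rw [sub_smul, h1, sub_self]
      exact sub_eq_zero.mp (hfree' _ h2)
    have hbs : b * (s * s) = s * b' := by
      obtain ⟨pair, hpair⟩ : ∃ pair : A' ⊗[R] A' →ₗ[R] R,
          ∀ f g, pair (f ⊗ₜ[R] g) = π' f * π' g :=
        ⟨(LinearMap.mul' R R).comp (TensorProduct.map π' π'), fun f g => by simp⟩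
      have h1 : TensorProduct.map (φ : A →ₗ[R] A') (φ : A →ₗ[R] A') (Coalgebra.comul x) =
          Coalgebra.comul (φ x) := CoalgHomClass.map_comp_comul_apply φ x
      have hcx : Coalgebra.comul (R := R) x = x ⊗ₜ[R] 1 + 1 ⊗ₜ[R] x + b • (x ⊗ₜ[R] x) := hxb
      have hcx' : Coalgebra.comul (R := R) x' = x' ⊗ₜ[R] 1 + 1 ⊗ₜ[R] x' + b' • (x' ⊗ₜ[R] x') :=
        hxb'
      rw [hcx, hs, map_smul, hcx'] at h1
      simp only [map_add, map_smul, TensorProduct.map_tmul] at h1
      have hφx : (φ : A →ₗ[R] A') x = s • x' := hs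
      have hφ1 : (φ : A →ₗ[R] A') 1 = 1 := map_one φ
      rw [hφx, hφ1] at h1
      have h2 := congrArg pair h1
      simp only [map_add, map_smul, hpair, hπx', hπ1', smul_eq_mul] at h2
      linear_combination h2
    have hts : t * s = 1 := by rw [mul_comm]; exact hst
    refine ⟨⟨s, t, hst, hts⟩, ?_, ?_⟩
    · show a = a' * s
      calc a = a * (s * t) := by rw [hst, mul_one]
        _ = (a * s) * t := by ring
        _ = (s * s * a') * t := by rw [has]
        _ = a' * s * (s * t) := by ring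
        _ = a' * s := by rw [hst, mul_one]
    · show b' = b * s
      calc b' = (t * s) * b' := by rw [hts, one_mul]
        _ = t * (s * b') := by ring
        _ = t * (b * (s * s)) := by rw [hbs]
        _ = b * s * (s * t) := by ring
        _ = b * s := by rw [hst, mul_one]
  · rintro ⟨s, has, hbs⟩
    have hs1 : a * (s : R) = (s : R) * (s : R) * a' := by rw [has]; ring
    have hs2 : a' * ((s⁻¹ : Rˣ) : R) = ((s⁻¹ : Rˣ) : R) * ((s⁻¹ : Rˣ) : R) * a := by
      rw [has]
      have h3 : ((s⁻¹ : Rˣ) : R) * (s : R) = 1 := Units.inv_mul s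
      linear_combination (-(a' * ((s⁻¹ : Rˣ) : R))) * h3
    obtain ⟨f, hfx, hfE⟩ := hom_of R A x hx hgen hfree a hxa A' x' hx' a' hxa' (s : R) hs1
    obtain ⟨g, hgx, hgE⟩ := hom_of R A' x' hx' hgen' hfree' a' hxa' A x hx a hxa
      ((s⁻¹ : Rˣ) : R) hs2
    have hgf : ∀ z, g (f z) = z := by
      intro z
      conv_lhs => rw [hdec z]
      rw [map_add, map_smul, map_smul, map_one, hfx, map_add, map_smul, map_smul, map_one,
        map_smul, hgx, smul_smul (s : R) ((s⁻¹ : Rˣ) : R) x, Units.mul_inv, one_smul]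
      exact (hdec z).symm
    have hfg : ∀ z, f (g z) = z := by
      intro z
      conv_lhs => rw [hdec' z]
      rw [map_add, map_smul, map_smul, map_one, hgx, map_add, map_smul, map_smul, map_one,
        map_smul, hfx, smul_smul ((s⁻¹ : Rˣ) : R) (s : R) x', Units.inv_mul, one_smul]
      exact (hdec' z).symm
    obtain ⟨e, he⟩ : ∃ e : A ≃ₐ[R] A', ∀ z, e z = f z :=
      ⟨AlgEquiv.ofAlgHom f g (AlgHom.ext hfg) (AlgHom.ext hgf), fun z => rfl⟩
    refine ⟨BialgEquiv.ofAlgEquiv e ?_ ?_⟩
    · refine AlgHom.ext (fun z => ?_)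
      show Bialgebra.counitAlgHom R A' (e z) = _
      rw [he]; exact hfE z
    · refine AlgHom.ext (fun z => ?_)
      obtain ⟨Φ₁, hΦ₁⟩ : ∃ Φ₁ : A →ₐ[R] A' ⊗[R] A', Φ₁ =
          (Algebra.TensorProduct.map (e : A →ₐ[R] A') (e : A →ₐ[R] A')).comp
            (Bialgebra.comulAlgHom R A) := ⟨_, rfl⟩
      obtain ⟨Φ₂, hΦ₂⟩ : ∃ Φ₂ : A →ₐ[R] A' ⊗[R] A', Φ₂ =
          (Bialgebra.comulAlgHom R A').comp (e : A →ₐ[R] A') := ⟨_, rfl⟩
      rw [← hΦ₁, ← hΦ₂]
      have hx12 : Φ₁ x = Φ₂ x := by
        rw [hΦ₁, hΦ₂, AlgHom.comp_apply, AlgHom.comp_apply, hxb]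
        have hex : (e : A →ₐ[R] A') x = (s : R) • x' := by
          show e x = _
          rw [he]; exact hfx
        have he1 : (e : A →ₐ[R] A') 1 = 1 := map_one _
        rw [map_add, map_add, map_smul, Algebra.TensorProduct.map_tmul,
          Algebra.TensorProduct.map_tmul, Algebra.TensorProduct.map_tmul, hex, he1, map_smul, hxb',
          hbs, ← TensorProduct.smul_tmul', TensorProduct.tmul_smul, TensorProduct.smul_tmul_smul]
        module
      conv_lhs => rw [hdec z]
      conv_rhs => rw [hdec z]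
      rw [map_add, map_smul, map_smul, map_one, map_add, map_smul, map_smul, map_one, hx12]

end Groth.Agent.S18480
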