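import Groth.Statements.S18490
import Mathlib

set_option autoImplicit false
universe u
open CategoryTheory CategoryTheory.Limits AlgebraicGeometry
open FlatMor

namespace Groth.Agent.S18490

lemma flat_of_retract_ringHom {R B C : Type u} [CommRing R] [CommRing B] [CommRing C]
    (ψ : R →+* B) (π : B →+* C) (σ : C →+* B) (hσπ : σ.comp π = RingHom.id B)
    (hflat : (π.comp ψ).Flat) : ψ.Flat := by
  letI := ψ.toAlgebra
  letI := (π.comp ψ).toAlgebra
  have hC : Module.Flat R C := hflat
  let i : B →ₗ[R] C :=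
    { toFun := π
      map_add' := map_add π
      map_smul' := fun r b => by
        simp only [Algebra.smul_def, RingHom.id_apply, map_mul]
        rfl }
  let ret : C →ₗ[R] B :=
    { toFun := σ
      map_add' := map_add σ
      map_smul' := fun r c => by
        simp only [Algebra.smul_def, RingHom.id_apply, map_mul]
        congr 1
        exact RingHom.congr_fun hσπ (ψ r) }
  have : Module.Flat R B :=
    Module.Flat.of_retract i ret (by ext b; exact RingHom.congr_fun hσπ b)
  exact this

lemma pt_of_section {X Z : Scheme.{u}} (s : X ⟶ Z) (p : Z ⟶ X) (hsp : s ≫ p = 𝟙 X) (x : X) :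
    p (s x) = x := by
  have h := congrArg (fun g : X ⟶ X => g x) hsp
  simpa using h

lemma flat_of_section {X Z S : Scheme.{u}} (s : X ⟶ Z) (p : Z ⟶ X) (f : X ⟶ S)
    (hsp : s ≫ p = 𝟙 X) (hfl : Flat (p ≫ f)) : Flat f := by
  rw [Flat.iff_flat_stalkMap] at hfl ⊢
  have claim : ∀ x : X, (f.stalkMap (p (s x))).hom.Flat := by
    intro x
    have h1 := hfl (s x)
    rw [Scheme.Hom.stalkMap_comp] at h1
    have h2 := Scheme.Hom.stalkMap_congr_hom (s ≫ p) (𝟙 X) hsp x
    rw [Scheme.Hom.stalkMap_comp, Scheme.Hom.stalkMap_id] at h2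
    obtain ⟨e, he⟩ : ∃ e : X.presheaf.stalk (p (s x)) ≅ X.presheaf.stalk x,
        p.stalkMap (s x) ≫ s.stalkMap x = e.hom := ⟨_, h2.trans (Category.comp_id _)⟩
    have h3 : p.stalkMap (s x) ≫ (s.stalkMap x ≫ e.inv) = 𝟙 _ := by
      rw [← Category.assoc, he, Iso.hom_inv_id]
    refine flat_of_retract_ringHom (f.stalkMap (p (s x))).hom (p.stalkMap (s x)).hom
      (s.stalkMap x ≫ e.inv).hom ?_ h1
    rw [← CommRingCat.hom_comp, h3]
    rfl
  intro x
  exact Eq.subst (motive := fun y => (f.stalkMap y).hom.Flat) (pt_of_section s p hsp x) (claim x)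

lemma qc_of_section {X Z S : Scheme.{u}} (s : X ⟶ Z) (p : Z ⟶ X) (f : X ⟶ S)
    (hsp : s ≫ p = 𝟙 X) (hqc : QuasiCompact (p ≫ f)) : QuasiCompact f := by
  constructor
  intro U hU hU'
  have h1 := hqc.isCompact_preimage U hU hU'
  have h2 : f ⁻¹' U = p '' ((p ≫ f) ⁻¹' U) := by
    ext x
    constructor
    · intro hx
      refine ⟨s x, ?_, pt_of_section s p hsp x⟩
      change f (p (s x)) ∈ U
      rw [pt_of_section s p hsp x]
      exact hx
    · rintro ⟨z, hz, rfl⟩
      exact hz
  rw [h2]
  exact h1.image p.continuous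

/-- Let f : X → S and g : Y → S be morphisms of schemes and suppose that g has a section y : S → Y. If
the structure morphism X ×_S Y → S (first projection followed by f) is quasi-compact, then so is f;
likewise for locally of finite type, for separated, and for flat. (Finite type, also listed in the
source, is the conjunction of the first two.) -/
theorem result {X Y S : Scheme.{u}} (f : X ⟶ S) (g : Y ⟶ S)
    (y : S ⟶ Y) (hy : y ≫ g = 𝟙 S) :
    (QuasiCompact (pullback.fst f g ≫ f) → QuasiCompact f) ∧
    (LocallyOfFiniteType (pullback.fst f g ≫ f) → LocallyOfFiniteType f) ∧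
    (IsSeparated (pullback.fst f g ≫ f) → IsSeparated f) ∧
    (Flat (pullback.fst f g ≫ f) → Flat f) := by
  have hcond : 𝟙 X ≫ f = (f ≫ y) ≫ g := by
    rw [Category.id_comp, Category.assoc, hy, Category.comp_id]
  obtain ⟨s, hs⟩ : ∃ s : X ⟶ pullback f g, s ≫ pullback.fst f g = 𝟙 X :=
    ⟨pullback.lift (𝟙 X) (f ≫ y) hcond, pullback.lift_fst _ _ _⟩
  have hf : s ≫ (pullback.fst f g ≫ f) = f := by
    rw [← Category.assoc, hs, Category.id_comp]
  refine ⟨fun h => qc_of_section s _ f hs h, fun h => ?_, fun h => ?_,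
    fun h => flat_of_section s _ f hs h⟩
  · haveI : LocallyOfFiniteType (s ≫ pullback.fst f g) := by rw [hs]; infer_instance
    haveI : LocallyOfFiniteType s := locallyOfFiniteType_of_comp s (pullback.fst f g)
    rw [← hf]
    infer_instance
  · haveI : Mono s := mono_of_mono_fac hs
    rw [← hf]
    infer_instance

end Groth.Agent.S18490
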