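import Groth.Statements.S18519
import Mathlib
import Groth.Agent.Lib.helper6.BrauerBasics
import Groth.Agent.Lib.helper6.BrauerBasics2
import Groth.Agent.Lib.helper6.CSASplit
import Groth.Agent.Lib.helper6.FiniteDescent

set_option autoImplicit false
universe u
open scoped TensorProduct
open Brauer

namespace Groth.Agent.S18519

/-- For a field K with maximal abelian extension K_ab, cd(K_ab) ≤ 1 if and only if for every etale
K-algebra E the restriction map Br(E) ⟶ Br(E ⊗_K K_ab) is trivial; the same holds with the maximal
solvable extension. Stated here for an arbitrary separable algebraic extension F of K in place of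
K_ab (the published lemma takes for F the maximal abelian or the maximal solvable extension of K;
this row allows any separable algebraic extension), with cd(F) ≤ 1 unfolded by the Brauer-group
criterion (every finite separable extension of F has trivial Brauer group) and with etale algebras
replaced by their field factors: (a) every finite-dimensional central division algebra over a finite
separable extension F′ of F is F′ itself; if and only if (b) for every finite separable extension E
of K, every finite-dimensional central division algebra D over E and every field M containing E and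
F compatibly over K, the base change M ⊗_E D is isomorphic over M to a matrix algebra over M. -/
theorem result
    (K F : Type u) [Field K] [Field F] [Algebra K F] [Algebra.IsSeparable K F] :
    (∀ (F' : Type u) [Field F'] [Algebra F F'] [FiniteDimensional F F'] [Algebra.IsSeparable F F']
        (D : Type u) [DivisionRing D] [Algebra F' D] [Algebra.IsCentral F' D] [FiniteDimensional F' D],
        Module.finrank F' D = 1) ↔
    (∀ (E : Type u) [Field E] [Algebra K E] [FiniteDimensional K E] [Algebra.IsSeparable K E]
        (D : Type u) [DivisionRing D] [Algebra E D] [Algebra.IsCentral E D] [FiniteDimensional E D]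
        (M : Type u) [Field M] [Algebra K M] [Algebra E M] [Algebra F M] [IsScalarTower K E M]
        [IsScalarTower K F M],
        ∃ n : ℕ, Nonempty ((M ⊗[E] D) ≃ₐ[M] Matrix (Fin n) (Fin n) M)) := by
  classical
  constructor
  · intro ha E _ _ _ _ D _ _ _ _ M _ _ _ _ _ _
    obtain ⟨θ, hθ⟩ := Field.exists_primitive_element K E
    let ι : E →ₐ[K] M := IsScalarTower.toAlgHom K E M
    have hθint : IsIntegral F (ι θ) := by
      have h1 : IsIntegral K θ := Algebra.IsIntegral.isIntegral θ
      have h2 : IsIntegral K (ι θ) := h1.map ι
      exact h2.tower_top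
    have hθsep : IsSeparable F (ι θ) := by
      have h1 : IsSeparable K θ := Algebra.IsSeparable.isSeparable K θ
      have h2 : IsSeparable K (ι θ) := by
        unfold IsSeparable at h1 ⊢
        rw [minpoly.algHom_eq ι ι.injective θ]
        exact h1
      exact h2.tower_top F
    let F' : IntermediateField F M := IntermediateField.adjoin F {ι θ}
    haveI hfd : FiniteDimensional F F' := IntermediateField.adjoin.finiteDimensional hθint
    haveI hsep : Algebra.IsSeparable F F' :=
      (IntermediateField.isSeparable_adjoin_simple_iff_isSeparable F M).mpr hθsep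
    have hmem : ∀ e : E, ι e ∈ F' := by
      intro e
      have h1 : IntermediateField.adjoin K {θ} ≤ (F'.restrictScalars K).comap ι := by
        rw [IntermediateField.adjoin_simple_le_iff]
        show ι θ ∈ F'.restrictScalars K
        exact IntermediateField.mem_adjoin_simple_self F (ι θ)
      have h2 : e ∈ IntermediateField.adjoin K {θ} := by
        rw [hθ]
        exact IntermediateField.mem_top
      exact h1 h2
    let j : E →+* F' :=
      { toFun := fun e => ⟨ι e, hmem e⟩
        map_one' := Subtype.ext (map_one ι)
        map_mul' := fun x y => Subtype.ext (map_mul ι x y)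
        map_zero' := Subtype.ext (map_zero ι)
        map_add' := fun x y => Subtype.ext (map_add ι x y) }
    letI algEF' : Algebra E F' := j.toAlgebra
    haveI tow : IsScalarTower E F' M := IsScalarTower.of_algebraMap_eq (fun e => rfl)
    haveI : IsSimpleRing (F' ⊗[E] D) := H6CSA.simple_tensor (K := E) (L := F') (A := D)
    haveI : Algebra.IsCentral F' (F' ⊗[E] D) := H6CSA.central_tensor (K := E) (L := F') (A := D)
    haveI : Module.Finite F' (F' ⊗[E] D) := inferInstance
    haveI : IsArtinianRing (F' ⊗[E] D) := IsArtinianRing.of_finite F' _
    obtain ⟨n, hn, D', instD', algD', finD', ⟨e1⟩⟩ :=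
      IsSimpleRing.exists_algEquiv_matrix_divisionRing_finite F' (F' ⊗[E] D)
    haveI : Algebra.IsCentral F' (Matrix (Fin n) (Fin n) D') :=
      H6CSA.central_of_algEquiv (F := F') e1
    haveI : Algebra.IsCentral F' D' := H6Br.central_of_matrix_central (k := F') (D := D') n
    have h1 : Module.finrank F' D' = 1 := ha F' D'
    have hbij : Function.Bijective (Algebra.ofId F' D') := by
      have hinj : Function.Injective (Algebra.ofId F' D') := (algebraMap F' D').injective
      refine ⟨hinj, ?_⟩
      have hdim : Module.finrank F' F' = Module.finrank F' D' := by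
        rw [h1, Module.finrank_self]
      exact (LinearMap.injective_iff_surjective_of_finrank_eq_finrank
        (f := (Algebra.ofId F' D').toLinearMap) hdim).mp hinj
    let e2 : F' ≃ₐ[F'] D' := AlgEquiv.ofBijective (Algebra.ofId F' D') hbij
    let e3 : (F' ⊗[E] D) ≃ₐ[F'] Matrix (Fin n) (Fin n) F' :=
      e1.trans (e2.symm.mapMatrix (m := Fin n))
    obtain ⟨c1⟩ := H6Br2.cancel_baseChange (k := E) (K := F') (L := M) D
    let c2 : M ⊗[F'] (F' ⊗[E] D) ≃ₐ[M] M ⊗[F'] Matrix (Fin n) (Fin n) F' :=
      Algebra.TensorProduct.congr (AlgEquiv.refl : M ≃ₐ[M] M) e3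
    obtain ⟨c3⟩ := H6Br.baseChange_matrix_equiv (k := F') M F' n
    let c4 : Matrix (Fin n) (Fin n) (M ⊗[F'] F') ≃ₐ[M] Matrix (Fin n) (Fin n) M :=
      (Algebra.TensorProduct.rid F' M M).mapMatrix
    exact ⟨n, ⟨c1.symm.trans (c2.trans (c3.trans c4))⟩⟩
  · intro hb F' _ _ _ _ D _ _ _ _
    letI algKF' : Algebra K F' := ((algebraMap F F').comp (algebraMap K F)).toAlgebra
    haveI towKFF' : IsScalarTower K F F' := IsScalarTower.of_algebraMap_eq (fun _ => rfl)
    haveI sepKF' : Algebra.IsSeparable K F' :=
      Algebra.IsSeparable.trans (F := K) (E := F) (K := F')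
    let b : Module.Basis (Fin (Module.finrank F' D)) F' D := Module.finBasis F' D
    let T : Set F' :=
      (Set.range fun p : Fin (Module.finrank F' D) × Fin (Module.finrank F' D) ×
          Fin (Module.finrank F' D) => b.repr (b p.1 * b p.2.1) p.2.2) ∪
        (Set.range fun l : Fin (Module.finrank F' D) => b.repr 1 l)
    have hTfin : T.Finite := (Set.finite_range _).union (Set.finite_range _)
    haveI : Finite T := hTfin.to_subtype
    let E : IntermediateField K F' := IntermediateField.adjoin K T
    haveI fdE : FiniteDimensional K E :=
      IntermediateField.finiteDimensional_adjoin (fun x _ => Algebra.IsIntegral.isIntegral x)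
    haveI sepE : Algebra.IsSeparable K E := Algebra.isSeparable_tower_bot_of_isSeparable K E F'
    have hTE : ∀ x ∈ T, x ∈ E := fun x hx => IntermediateField.subset_adjoin K T hx
    obtain ⟨D₀, instD₀, algD₀, finD₀, ⟨ψ⟩⟩ := H6FD.exists_descent (K := K) b E
      (fun i j l => hTE _ (Or.inl ⟨(i, j, l), rfl⟩)) (fun l => hTE _ (Or.inr ⟨l, rfl⟩))
    haveI : Algebra.IsCentral F' (F' ⊗[E] D₀) := H6CSA.central_of_algEquiv (F := F') ψ.symm
    haveI : Algebra.IsCentral E D₀ := H6CSA.central_of_tensor (K := E) (L := F') (A := D₀)
    obtain ⟨n, ⟨e⟩⟩ := hb E D₀ F'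
    let g : D ≃ₐ[F'] Matrix (Fin n) (Fin n) F' := ψ.symm.trans e
    have hn1 : n = 1 := by
      rcases Nat.lt_trichotomy n 1 with h | h | h
      · exfalso
        have h0 : n = 0 := by omega
        subst h0
        have h01 : (0 : D) = 1 := g.injective (Subsingleton.elim _ _)
        exact zero_ne_one h01
      · exact h
      · exfalso
        have hne01 : (⟨0, by omega⟩ : Fin n) ≠ ⟨1, by omega⟩ := by
          intro h'
          have := congrArg Fin.val h'
          simp at this
        have hx2 : g.symm (Matrix.single (⟨0, by omega⟩ : Fin n) (⟨1, by omega⟩ : Fin n) (1 : F')) *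
            g.symm (Matrix.single (⟨0, by omega⟩ : Fin n) (⟨1, by omega⟩ : Fin n) (1 : F')) = 0 := by
          rw [← map_mul, Matrix.single_mul_single_of_ne _ _ _ _ hne01.symm _, map_zero]
        have hx0 := mul_self_eq_zero.mp hx2
        have h3 : Matrix.single (⟨0, by omega⟩ : Fin n) (⟨1, by omega⟩ : Fin n) (1 : F') = 0 := by
          have := congrArg g hx0
          rwa [AlgEquiv.apply_symm_apply, map_zero] at this
        have h4 := congrFun (congrFun h3 ⟨0, by omega⟩) ⟨1, by omega⟩
        rw [Matrix.single_apply_same] at h4
        exact one_ne_zero h4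
    subst hn1
    rw [g.toLinearEquiv.finrank_eq]
    simp [Module.finrank_matrix]

end Groth.Agent.S18519
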