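import Groth.Statements.S18539
import Mathlib

set_option autoImplicit false
universe u v w
open CAlg

namespace Groth.Agent.S18539

/-- For a commutative ring R, R-modules M and N and elements r₁, r₂ of R such that r₁ is a
non-zero-divisor on N and r₂ is a non-zero-divisor on N/r₁N, the element r₁ is a non-zero-divisor on
the module Hom_R(M, N) and r₂ is a non-zero-divisor on Hom_R(M, N)/r₁Hom_R(M, N). (Weak regularity
on both sides: no condition that the quotient by (r₁, r₂) is nonzero, which would fail for M = 0.) -/
theorem result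
    (R : Type u) [CommRing R] (M : Type v) (N : Type w)
    [AddCommGroup M] [Module R M] [AddCommGroup N] [Module R N]
    (r₁ r₂ : R) (h : RingTheory.Sequence.IsWeaklyRegular N [r₁, r₂]) :
    RingTheory.Sequence.IsWeaklyRegular (M →ₗ[R] N) [r₁, r₂] := by
  rw [RingTheory.Sequence.isWeaklyRegular_cons_iff, RingTheory.Sequence.isWeaklyRegular_cons_iff] at h ⊢
  obtain ⟨h1, h2, -⟩ := h
  rw [isSMulRegular_iff_right_eq_zero_of_smul] at h1 h2
  refine ⟨?_, ?_, RingTheory.Sequence.IsWeaklyRegular.nil _ _⟩
  · rw [isSMulRegular_iff_right_eq_zero_of_smul]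
    intro φ hφ
    ext m
    apply h1
    have := congrArg (fun ψ : M →ₗ[R] N => ψ m) hφ
    simpa using this
  · rw [isSMulRegular_iff_right_eq_zero_of_smul]
    intro x hx
    obtain ⟨φ, rfl⟩ := Submodule.Quotient.mk_surjective _ x
    rw [← Submodule.Quotient.mk_smul, Submodule.Quotient.mk_eq_zero,
      Submodule.mem_smul_pointwise_iff_exists] at hx
    obtain ⟨χ, -, hχ⟩ := hx
    have hex : ∀ m : M, ∃ n : N, r₁ • n = φ m := by
      intro m
      have h0 : r₂ • (Submodule.Quotient.mk (φ m) : QuotSMulTop r₁ N) = 0 := by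
        rw [← Submodule.Quotient.mk_smul, Submodule.Quotient.mk_eq_zero,
          Submodule.mem_smul_pointwise_iff_exists]
        refine ⟨χ m, trivial, ?_⟩
        have := congrArg (fun ψ : M →ₗ[R] N => ψ m) hχ
        simpa using this
      have := h2 _ h0
      rw [Submodule.Quotient.mk_eq_zero, Submodule.mem_smul_pointwise_iff_exists] at this
      obtain ⟨n, -, hn⟩ := this
      exact ⟨n, hn⟩
    choose ψ₀ hψ₀ using hex
    have hinj : ∀ a b : N, r₁ • a = r₁ • b → a = b := by
      intro a b hab
      have : r₁ • (a - b) = 0 := by rw [smul_sub, hab, sub_self]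
      exact sub_eq_zero.mp (h1 _ this)
    let ψ : M →ₗ[R] N :=
      { toFun := ψ₀
        map_add' := by
          intro a b
          apply hinj
          rw [smul_add, hψ₀, hψ₀, hψ₀, map_add]
        map_smul' := by
          intro c a
          apply hinj
          rw [RingHom.id_apply, smul_comm, hψ₀, hψ₀, map_smul] }
    rw [Submodule.Quotient.mk_eq_zero, Submodule.mem_smul_pointwise_iff_exists]
    refine ⟨ψ, trivial, ?_⟩
    ext m
    simp [ψ, hψ₀]

end Groth.Agent.S18539
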