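import Groth.Statements.S18544
import Mathlib

set_option autoImplicit false
universe u
open CAlg

namespace Groth.Agent.S18544

theorem h9_mulpoly (F : Type*) [Field F] [Infinite F] (q : Polynomial F)
    (hmul : ∀ t s : F, q.eval (t * s) = q.eval t * q.eval s) (h1 : q.eval 1 = 1) :
    ∃ m : ℕ, ∀ t : F, q.eval t = t ^ m := by
  have hq0 : q ≠ 0 := by
    intro h
    rw [h, Polynomial.eval_zero] at h1
    exact zero_ne_one h1
  have hc : q.coeff q.natDegree ≠ 0 := by
    rw [Polynomial.coeff_natDegree]
    exact Polynomial.leadingCoeff_ne_zero.mpr hq0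
  refine ⟨q.natDegree, fun s => ?_⟩
  have hpoly : q.comp (Polynomial.C s * Polynomial.X) = Polynomial.C (q.eval s) * q := by
    apply Polynomial.funext
    intro t
    rw [Polynomial.eval_comp, Polynomial.eval_mul, Polynomial.eval_C, Polynomial.eval_X,
      Polynomial.eval_mul, Polynomial.eval_C, hmul]
  have h2 := congrArg (fun r => r.coeff q.natDegree) hpoly
  simp only [Polynomial.comp_C_mul_X_coeff, Polynomial.coeff_C_mul] at h2
  have h3 : q.coeff q.natDegree * s ^ q.natDegree = q.coeff q.natDegree * q.eval s := by
    rw [h2, mul_comm]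
  exact (mul_left_cancel₀ hc h3).symm

theorem h9_family (F : Type*) [Field F] {ι : Type*} (N : MvPolynomial ι F)
    (G : ι → Polynomial F) :
    ∃ q : Polynomial F, ∀ t : F, q.eval t = MvPolynomial.eval (fun a => (G a).eval t) N := by
  refine ⟨MvPolynomial.aeval G N, fun t => ?_⟩
  have h' : Polynomial.eval t (MvPolynomial.eval₂ (algebraMap F (Polynomial F)) G N)
      = MvPolynomial.eval₂ ((Polynomial.evalRingHom t).comp (algebraMap F (Polynomial F)))
          (⇑(Polynomial.evalRingHom t) ∘ G) N :=
    MvPolynomial.eval₂_comp_left (Polynomial.evalRingHom t) (algebraMap F (Polynomial F)) G N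
  rw [MvPolynomial.aeval_def, h']
  have hid : (Polynomial.evalRingHom t).comp (algebraMap F (Polynomial F)) = RingHom.id F := by
    ext a
    simp
  rw [hid, MvPolynomial.eval₂_id]
  rfl

/-- Let F be an algebraically closed field of characteristic zero, n a natural number, and N a nonzero
polynomial over F in the n² matrix entries whose evaluation on n × n matrices is multiplicative,
N(xy) = N(x)·N(y) for all x, y (a norm form on the matrix algebra M_n(F) over F). Then N is a
natural power of the determinant: for some m, N(x) = det(x)^m for every matrix x. The published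
statement concerns norm forms of any central simple algebra over a subfield; this row is the case of
the full matrix algebra over an algebraically closed field, which is the case its proof treats. -/
theorem result (F : Type u) [Field F] [IsAlgClosed F]
    [CharZero F] (n : ℕ) (N : MvPolynomial (Fin n × Fin n) F) (hN : N ≠ 0)
    (hmul : ∀ x y : Matrix (Fin n) (Fin n) F,
      MvPolynomial.eval (fun ij : Fin n × Fin n => (x * y) ij.1 ij.2) N =
        MvPolynomial.eval (fun ij : Fin n × Fin n => x ij.1 ij.2) N * MvPolynomial.eval (fun ij : Fin n × Fin n => y ij.1 ij.2) N) :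
    ∃ m : ℕ, ∀ x : Matrix (Fin n) (Fin n) F,
      MvPolynomial.eval (fun ij : Fin n × Fin n => x ij.1 ij.2) N = x.det ^ m := by
  classical
  haveI : Infinite F := inferInstance
  obtain ⟨ev, hev⟩ : ∃ ev : Matrix (Fin n) (Fin n) F → F,
      ev = fun x => MvPolynomial.eval (fun ij : Fin n × Fin n => x ij.1 ij.2) N := ⟨_, rfl⟩
  have hevx : ∀ x, ev x = MvPolynomial.eval (fun ij : Fin n × Fin n => x ij.1 ij.2) N :=
    fun x => by rw [hev]
  have hm : ∀ x y, ev (x * y) = ev x * ev y := by
    intro x y
    rw [hevx, hevx, hevx]
    exact hmul x y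
  have h1 : ev 1 = 1 := by
    have h11 : ev 1 * ev 1 = ev 1 := by rw [← hm, mul_one]
    rcases eq_or_ne (ev 1) 0 with h0 | h0
    · exfalso
      apply hN
      apply MvPolynomial.funext
      intro x
      rw [map_zero]
      have hx := hm (Matrix.of fun i j => x (i, j)) 1
      rw [mul_one, h0, mul_zero, hevx] at hx
      have hfun : (fun ij : Fin n × Fin n => (Matrix.of fun i j => x (i, j)) ij.1 ij.2) = x := by
        funext ij
        rfl
      rw [hfun] at hx
      exact hx
    · exact mul_left_cancel₀ h0 (by rw [h11, mul_one])
  have htr : ∀ (i j : Fin n), i ≠ j → ∀ c : F, ev (Matrix.transvection i j c) = 1 := by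
    intro i j hij c
    obtain ⟨q, hq⟩ := h9_family F N (fun ab : Fin n × Fin n =>
      Polynomial.C ((1 : Matrix (Fin n) (Fin n) F) ab.1 ab.2)
        + if i = ab.1 ∧ j = ab.2 then Polynomial.X else 0)
    have hq' : ∀ t, q.eval t = ev (Matrix.transvection i j t) := by
      intro t
      rw [hq, hevx]
      congr 2
      funext ab
      rw [Polynomial.eval_add, Polynomial.eval_C, Matrix.transvection, Matrix.add_apply,
        Matrix.single_apply]
      split_ifs <;> simp
    have hunit : q * q.comp (-Polynomial.X) = 1 := by
      apply Polynomial.funext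
      intro t
      rw [Polynomial.eval_mul, Polynomial.eval_comp, Polynomial.eval_neg, Polynomial.eval_X,
        Polynomial.eval_one, hq', hq', ← hm, Matrix.transvection_mul_transvection_same i j hij,
        add_neg_cancel, Matrix.transvection_zero, h1]
    have hqu : IsUnit q := IsUnit.of_mul_eq_one _ hunit
    obtain ⟨r, _, hr⟩ := Polynomial.isUnit_iff.mp hqu
    have h2 : q.eval c = q.eval 0 := by rw [← hr, Polynomial.eval_C, Polynomial.eval_C]
    rw [← hq', h2, hq', Matrix.transvection_zero, h1]
  have hD : ∀ i : Fin n, ∃ m : ℕ, ∀ t : F,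
      ev (Matrix.diagonal (Function.update (fun _ => (1 : F)) i t)) = t ^ m := by
    intro i
    obtain ⟨q, hq⟩ := h9_family F N (fun ab : Fin n × Fin n =>
      if ab.1 = ab.2 then (if ab.1 = i then Polynomial.X else 1) else 0)
    have hq' : ∀ t, q.eval t = ev (Matrix.diagonal (Function.update (fun _ => (1 : F)) i t)) := by
      intro t
      rw [hq, hevx]
      congr 2
      funext ab
      rw [Matrix.diagonal_apply]
      by_cases h : ab.1 = ab.2
      · rw [if_pos h, if_pos h]
        by_cases h2 : ab.1 = i
        · rw [if_pos h2, Polynomial.eval_X, h2, Function.update_self]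
        · rw [if_neg h2, Polynomial.eval_one, Function.update_of_ne h2]
      · rw [if_neg h, if_neg h, Polynomial.eval_zero]
    have hone : Function.update (fun _ => (1 : F)) i 1 = fun _ => 1 := by
      funext a
      by_cases ha : a = i
      · rw [ha, Function.update_self]
      · rw [Function.update_of_ne ha]
    obtain ⟨m, hm'⟩ := h9_mulpoly F q (fun t s => by
        rw [hq', hq', hq', ← hm, Matrix.diagonal_mul_diagonal]
        congr 2
        funext a
        by_cases ha : a = i
        · rw [ha, Function.update_self, Function.update_self, Function.update_self]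
        · rw [Function.update_of_ne ha, Function.update_of_ne ha, Function.update_of_ne ha,
            mul_one])
      (by rw [hq', hone, Matrix.diagonal_one]; exact h1)
    exact ⟨m, fun t => by rw [← hq', hm']⟩
  choose mD hmD using hD
  have hmeq : ∀ i j : Fin n, mD i = mD j := by
    intro i j
    by_cases hij : i = j
    · rw [hij]
    obtain ⟨σ, hσ⟩ : ∃ σ : Equiv.Perm (Fin n), σ = Equiv.swap i j := ⟨_, rfl⟩
    have hPP : (σ.toPEquiv.toMatrix : Matrix (Fin n) (Fin n) F) * σ.symm.toPEquiv.toMatrix = 1 := by
      rw [← PEquiv.toMatrix_trans, ← Equiv.toPEquiv_trans, Equiv.self_trans_symm,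
        Equiv.toPEquiv_refl, PEquiv.toMatrix_refl]
    have hconj : ∀ t : F, (σ.toPEquiv.toMatrix : Matrix (Fin n) (Fin n) F)
        * Matrix.diagonal (Function.update (fun _ => (1 : F)) i t) * σ.symm.toPEquiv.toMatrix
        = Matrix.diagonal (Function.update (fun _ => (1 : F)) j t) := by
      intro t
      rw [PEquiv.toMatrix_toPEquiv_mul, PEquiv.mul_toMatrix_toPEquiv, Matrix.submatrix_submatrix]
      have h3 : (Matrix.diagonal (Function.update (fun _ => (1 : F)) i t)).submatrix
          (⇑σ ∘ id) (id ∘ ⇑σ.symm.symm)
          = (Matrix.diagonal (Function.update (fun _ => (1 : F)) i t)).submatrix ⇑σ ⇑σ := rfl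
      rw [h3, Matrix.submatrix_diagonal_equiv]
      congr 1
      funext a
      show Function.update (fun _ => (1 : F)) i t (σ a) = Function.update (fun _ => (1 : F)) j t a
      rw [hσ]
      by_cases ha : a = j
      · rw [ha, Equiv.swap_apply_right, Function.update_self, Function.update_self]
      · rw [Function.update_of_ne ha, Function.update_of_ne]
        intro h
        apply ha
        have h4 := congrArg (Equiv.swap i j) h
        rwa [Equiv.swap_apply_self, Equiv.swap_apply_left] at h4
    have hevt : ∀ t : F, t ^ mD i = t ^ mD j := by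
      intro t
      have h5 : ev (σ.toPEquiv.toMatrix : Matrix (Fin n) (Fin n) F)
          * ev (σ.symm.toPEquiv.toMatrix : Matrix (Fin n) (Fin n) F) = 1 := by
        rw [← hm, hPP, h1]
      rw [← hmD i t, ← hmD j t, ← hconj t, hm, hm]
      calc ev (Matrix.diagonal (Function.update (fun _ => (1 : F)) i t))
          = (ev (σ.toPEquiv.toMatrix : Matrix (Fin n) (Fin n) F)
              * ev (σ.symm.toPEquiv.toMatrix : Matrix (Fin n) (Fin n) F))
            * ev (Matrix.diagonal (Function.update (fun _ => (1 : F)) i t)) := by
            rw [h5, one_mul]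
        _ = _ := by ring
    have hpoly : (Polynomial.X : Polynomial F) ^ mD i = Polynomial.X ^ mD j :=
      Polynomial.funext (fun t => by
        rw [Polynomial.eval_pow, Polynomial.eval_pow, Polynomial.eval_X]
        exact hevt t)
    have h6 := congrArg Polynomial.natDegree hpoly
    rwa [Polynomial.natDegree_X_pow, Polynomial.natDegree_X_pow] at h6
  have hdiag : ∀ (m : ℕ), (∀ i, mD i = m) → ∀ D : Fin n → F,
      ev (Matrix.diagonal D) = (Matrix.diagonal D).det ^ m := by
    intro m hmm D
    have hs : ∀ s : Finset (Fin n),
        ev (Matrix.diagonal (fun i => if i ∈ s then D i else 1)) = ∏ i ∈ s, D i ^ m := by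
      intro s
      induction s using Finset.induction_on with
      | empty =>
        rw [Finset.prod_empty]
        have h7 : (fun i : Fin n => if i ∈ (∅ : Finset (Fin n)) then D i else (1 : F))
            = fun _ => 1 := by
          funext i
          rw [if_neg (Finset.notMem_empty i)]
        rw [h7, Matrix.diagonal_one]
        exact h1
      | insert a s ha ih =>
        rw [Finset.prod_insert ha, ← ih, ← hmm a, ← hmD a (D a), ← hm,
          Matrix.diagonal_mul_diagonal]
        congr 2
        funext i
        by_cases hia : i = a
        · rw [hia, Function.update_self, if_pos (Finset.mem_insert_self a s), if_neg ha, mul_one]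
        · rw [Function.update_of_ne hia, one_mul]
          by_cases his : i ∈ s
          · rw [if_pos his, if_pos (Finset.mem_insert_of_mem his)]
          · rw [if_neg his, if_neg]
            intro h
            rcases Finset.mem_insert.mp h with h | h
            · exact hia h
            · exact his h
    have h8 := hs Finset.univ
    have h9 : (fun i : Fin n => if i ∈ (Finset.univ : Finset (Fin n)) then D i else (1 : F)) = D := by
      funext i
      rw [if_pos (Finset.mem_univ i)]
    rw [h9] at h8
    rw [h8, Matrix.det_diagonal, Finset.prod_pow]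
  by_cases hn : Nonempty (Fin n)
  · obtain ⟨i₀⟩ := hn
    refine ⟨mD i₀, fun x => ?_⟩
    rw [← hevx]
    apply Matrix.diagonal_transvection_induction (fun M => ev M = M.det ^ mD i₀) x
    · intro D _
      exact hdiag (mD i₀) (fun i => hmeq i i₀) D
    · intro t
      show ev t.toMatrix = t.toMatrix.det ^ mD i₀
      rw [t.det, one_pow]
      exact htr t.i t.j t.hij t.c
    · intro A B hA hB
      show ev (A * B) = (A * B).det ^ mD i₀
      rw [hm, hA, hB, Matrix.det_mul, mul_pow]
  · refine ⟨0, fun x => ?_⟩
    rw [pow_zero, ← hevx]
    haveI : IsEmpty (Fin n) := not_nonempty_iff.mp hn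
    have h10 : x = 1 := Subsingleton.elim _ _
    rw [h10, h1]

end Groth.Agent.S18544
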