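import Groth.Statements.S18546
import Mathlib

set_option autoImplicit false
open scoped TensorProduct
universe u v
open GalCoh

namespace Groth.Agent.S18546

/-- Let G be a group acting linearly on a vector space V of dimension 2 over the field 𝔽₂ with two
elements. Then the short exact sequence of G-modules 0 → V → S²V → Λ²V → 0 (v ↦ v·v, x·y ↦ x ∧ y)
splits G-equivariantly. Here, for a vector space V over the field with two elements carrying a
linear action ρ of a group G, write N_a ⊆ V ⊗ V for the span of the tensors v ⊗ v and N_s ⊆ N_a for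
the span of the tensors x ⊗ y + y ⊗ x, so that S²V = (V ⊗ V)/N_s, Λ²V = (V ⊗ V)/N_a and the
surjection S²V → Λ²V, x·y ↦ x ∧ y, is G-equivariant for the diagonal action; a G-equivariant linear
section of this surjection is the same thing as a G-stable subspace W of V ⊗ V with W ∩ N_a = N_s
and W + N_a = V ⊗ V, which is how the splitting is stated. (The source has the absolute Galois group
of a field acting continuously; any group is allowed here.) -/
theorem result (G : Type u) [Group G] (V : Type v)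
    [AddCommGroup V] [Module (ZMod 2) V] (hV : Module.finrank (ZMod 2) V = 2)
    (ρ : Representation (ZMod 2) G V) :
    ∃ W : Submodule (ZMod 2) (V ⊗[ZMod 2] V),
      (∀ g : G, ∀ w ∈ W, ρ.tprod ρ g w ∈ W) ∧
      W ⊓ Submodule.span (ZMod 2) (Set.range fun v : V => v ⊗ₜ[ZMod 2] v) =
        Submodule.span (ZMod 2) (Set.range fun p : V × V => p.1 ⊗ₜ[ZMod 2] p.2 + p.2 ⊗ₜ[ZMod 2] p.1) ∧
      W ⊔ Submodule.span (ZMod 2) (Set.range fun v : V => v ⊗ₜ[ZMod 2] v) = ⊤ := by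
  classical
  have hsq : ∀ a : ZMod 2, a * a = a := by decide
  have htwo : ∀ a : ZMod 2, a + a = 0 := by decide
  obtain ⟨qf, hqf⟩ : ∃ qf : (V →ₗ[ZMod 2] ZMod 2) → (V ⊗[ZMod 2] V →ₗ[ZMod 2] ZMod 2),
      ∀ ξ x y, qf ξ (x ⊗ₜ[ZMod 2] y) = ξ x * ξ y :=
    ⟨fun ξ => (LinearMap.mul' (ZMod 2) (ZMod 2)).comp (TensorProduct.map ξ ξ),
      fun ξ x y => by simp⟩
  obtain ⟨Na, hNa⟩ : ∃ Na, Na = Submodule.span (ZMod 2)
    (Set.range fun v : V => v ⊗ₜ[ZMod 2] v) := ⟨_, rfl⟩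
  obtain ⟨Ns, hNs⟩ : ∃ Ns, Ns = Submodule.span (ZMod 2)
    (Set.range fun p : V × V => p.1 ⊗ₜ[ZMod 2] p.2 + p.2 ⊗ₜ[ZMod 2] p.1) := ⟨_, rfl⟩
  rw [← hNa, ← hNs]
  have hsym_mem : ∀ x y : V, x ⊗ₜ[ZMod 2] y + y ⊗ₜ[ZMod 2] x ∈ Ns := by
    intro x y; rw [hNs]; exact Submodule.subset_span ⟨(x, y), rfl⟩
  have hdiag_mem : ∀ v : V, v ⊗ₜ[ZMod 2] v ∈ Na := by
    intro v; rw [hNa]; exact Submodule.subset_span ⟨v, rfl⟩
  have hNsNa : Ns ≤ Na := by
    rw [hNs]
    refine Submodule.span_le.mpr ?_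
    rintro _ ⟨⟨x, y⟩, rfl⟩
    show x ⊗ₜ[ZMod 2] y + y ⊗ₜ[ZMod 2] x ∈ Na
    have : x ⊗ₜ[ZMod 2] y + y ⊗ₜ[ZMod 2] x =
        (x + y) ⊗ₜ[ZMod 2] (x + y) - x ⊗ₜ[ZMod 2] x - y ⊗ₜ[ZMod 2] y := by
      rw [TensorProduct.add_tmul, TensorProduct.tmul_add, TensorProduct.tmul_add]; abel
    rw [this]
    exact Na.sub_mem (Na.sub_mem (hdiag_mem _) (hdiag_mem _)) (hdiag_mem _)
  haveI : Module.Finite (ZMod 2) V := Module.finite_of_finrank_pos (by rw [hV]; norm_num)
  obtain ⟨b⟩ : Nonempty (Module.Basis (Fin 2) (ZMod 2) V) :=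
    ⟨Module.finBasisOfFinrankEq (ZMod 2) V hV⟩
  obtain ⟨W, hW⟩ : ∃ W : Submodule (ZMod 2) (V ⊗[ZMod 2] V), ∀ B, B ∈ W ↔
      ∀ ξ η : V →ₗ[ZMod 2] ZMod 2, ξ ≠ 0 → η ≠ 0 → qf ξ B = qf η B :=
    ⟨{ carrier := {B | ∀ ξ η : V →ₗ[ZMod 2] ZMod 2, ξ ≠ 0 → η ≠ 0 → qf ξ B = qf η B}
       add_mem' := by
         intro a c ha hc ξ η hξ hη
         rw [map_add, map_add, ha ξ η hξ hη, hc ξ η hξ hη]
       zero_mem' := by intro ξ η _ _; rw [map_zero, map_zero]
       smul_mem' := by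
         intro c a ha ξ η hξ hη
         rw [map_smul, map_smul, ha ξ η hξ hη] }, fun B => Iff.rfl⟩
  refine ⟨W, ?_, ?_, ?_⟩
  · intro g w hw
    rw [hW] at hw ⊢
    intro ξ η hξ hη
    have hcomp : ∀ ζ : V →ₗ[ZMod 2] ZMod 2, ∀ z, qf ζ (ρ.tprod ρ g z) = qf (ζ.comp (ρ g)) z := by
      intro ζ z
      induction z using TensorProduct.induction_on with
      | zero => simp
      | tmul x y => rw [Representation.tprod_apply, TensorProduct.map_tmul, hqf, hqf]; rfl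
      | add a c ha hc => rw [map_add, map_add, map_add, ha, hc]
    have hne : ∀ ζ : V →ₗ[ZMod 2] ZMod 2, ζ ≠ 0 → ζ.comp (ρ g) ≠ 0 := by
      intro ζ hζ h0
      apply hζ
      refine LinearMap.ext (fun x => ?_)
      have h1 : ρ g (ρ g⁻¹ x) = x := by
        rw [← Module.End.mul_apply, ← map_mul, mul_inv_cancel, map_one, Module.End.one_apply]
      have h2 := LinearMap.congr_fun h0 (ρ g⁻¹ x)
      rw [LinearMap.comp_apply, h1] at h2
      rw [h2]; rfl
    rw [hcomp, hcomp]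
    exact hw _ _ (hne ξ hξ) (hne η hη)
  · apply le_antisymm
    · rintro B ⟨hBW, hBNa⟩
      have hP : ∀ B ∈ Na, ∃ s : V, (∀ ξ : V →ₗ[ZMod 2] ZMod 2, qf ξ B = ξ s) ∧
          B - s ⊗ₜ[ZMod 2] s ∈ Ns := by
        intro B hB
        rw [hNa] at hB
        refine Submodule.span_induction (p := fun B _ => ∃ s : V,
          (∀ ξ : V →ₗ[ZMod 2] ZMod 2, qf ξ B = ξ s) ∧ B - s ⊗ₜ[ZMod 2] s ∈ Ns) ?_ ?_ ?_ ?_ hB
        · rintro _ ⟨v, rfl⟩
          refine ⟨v, fun ξ => ?_, ?_⟩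
          · show qf ξ (v ⊗ₜ[ZMod 2] v) = ξ v
            rw [hqf, hsq]
          · show v ⊗ₜ[ZMod 2] v - v ⊗ₜ[ZMod 2] v ∈ Ns
            rw [sub_self]; exact Ns.zero_mem
        · exact ⟨0, fun ξ => by rw [map_zero, map_zero],
            by rw [TensorProduct.zero_tmul, sub_zero]; exact Ns.zero_mem⟩
        · intro a c _ _ ha hc
          obtain ⟨s1, h1, h1'⟩ := ha
          obtain ⟨s2, h2, h2'⟩ := hc
          refine ⟨s1 + s2, fun ξ => by rw [map_add, map_add, h1, h2], ?_⟩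
          have : a + c - (s1 + s2) ⊗ₜ[ZMod 2] (s1 + s2) =
              (a - s1 ⊗ₜ[ZMod 2] s1) + (c - s2 ⊗ₜ[ZMod 2] s2) -
                (s1 ⊗ₜ[ZMod 2] s2 + s2 ⊗ₜ[ZMod 2] s1) := by
            rw [TensorProduct.add_tmul, TensorProduct.tmul_add, TensorProduct.tmul_add]; abel
          rw [this]
          exact Ns.sub_mem (Ns.add_mem h1' h2') (hsym_mem _ _)
        · intro r a _ ha
          obtain ⟨s1, h1, h1'⟩ := ha
          refine ⟨r • s1, fun ξ => by rw [map_smul, map_smul, h1], ?_⟩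
          have : r • a - (r • s1) ⊗ₜ[ZMod 2] (r • s1) = r • (a - s1 ⊗ₜ[ZMod 2] s1) := by
            rw [TensorProduct.smul_tmul_smul, hsq, smul_sub]
          rw [this]
          exact Ns.smul_mem r h1'
      obtain ⟨s, hs, hs'⟩ := hP B hBNa
      have hs0 : s = 0 := by
        have e10 : b.coord 0 (b 0) = 1 := by simp [Module.Basis.coord_apply]
        have e21 : b.coord 1 (b 1) = 1 := by simp [Module.Basis.coord_apply]
        have e20 : b.coord 1 (b 0) = 0 := by simp [Module.Basis.coord_apply]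
        have hξ1 : b.coord 0 ≠ 0 := by intro h; rw [h] at e10; simp at e10
        have hξ2 : b.coord 1 ≠ 0 := by intro h; rw [h] at e21; simp at e21
        have hξ3 : b.coord 0 + b.coord 1 ≠ 0 := by
          intro h
          have := LinearMap.congr_fun h (b 0)
          rw [LinearMap.add_apply, e10, e20] at this
          simp at this
        have h13 := (hW B).mp hBW _ _ hξ1 hξ3
        have h23 := (hW B).mp hBW _ _ hξ2 hξ3
        rw [hs, hs, LinearMap.add_apply] at h13 h23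
        have c2 : b.coord 1 s = 0 := by linear_combination (-1 : ZMod 2) * h13
        have c1 : b.coord 0 s = 0 := by linear_combination (-1 : ZMod 2) * h23
        apply b.ext_elem
        intro i
        fin_cases i
        · simpa [Module.Basis.coord_apply] using c1
        · simpa [Module.Basis.coord_apply] using c2
      rw [hs0, TensorProduct.zero_tmul, sub_zero] at hs'
      exact hs'
    · refine le_inf ?_ hNsNa
      rw [hNs]
      refine Submodule.span_le.mpr ?_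
      rintro _ ⟨⟨x, y⟩, rfl⟩
      show x ⊗ₜ[ZMod 2] y + y ⊗ₜ[ZMod 2] x ∈ W
      rw [hW]
      intro ξ η _ _
      rw [map_add, map_add, hqf, hqf, hqf, hqf, mul_comm (ξ y), htwo, mul_comm (η y), htwo]
  · rw [eq_top_iff]
    intro z hz
    clear hz
    have hM : b 0 ⊗ₜ[ZMod 2] b 0 + b 0 ⊗ₜ[ZMod 2] b 1 + b 1 ⊗ₜ[ZMod 2] b 1 ∈ W := by
      rw [hW]
      have key : ∀ ξ : V →ₗ[ZMod 2] ZMod 2, ξ ≠ 0 →
          qf ξ (b 0 ⊗ₜ[ZMod 2] b 0 + b 0 ⊗ₜ[ZMod 2] b 1 + b 1 ⊗ₜ[ZMod 2] b 1) = 1 := by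
        intro ξ hξ
        rw [map_add, map_add, hqf, hqf, hqf]
        have hne : ¬ (ξ (b 0) = 0 ∧ ξ (b 1) = 0) := by
          rintro ⟨h0, h1⟩
          apply hξ
          apply b.ext
          intro i
          fin_cases i
          · simpa using h0
          · simpa using h1
        have hdec : ∀ a c : ZMod 2, ¬ (a = 0 ∧ c = 0) → a * a + a * c + c * c = 1 := by decide
        exact hdec _ _ hne
      intro ξ η hξ hη
      rw [key ξ hξ, key η hη]
    have hmem : ∀ i j : Fin 2, b i ⊗ₜ[ZMod 2] b j ∈ W ⊔ Na := by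
      have h00 : b 0 ⊗ₜ[ZMod 2] b 0 ∈ W ⊔ Na := Submodule.mem_sup_right (hdiag_mem _)
      have h11 : b 1 ⊗ₜ[ZMod 2] b 1 ∈ W ⊔ Na := Submodule.mem_sup_right (hdiag_mem _)
      have h01 : b 0 ⊗ₜ[ZMod 2] b 1 ∈ W ⊔ Na := by
        have : b 0 ⊗ₜ[ZMod 2] b 1 = (b 0 ⊗ₜ[ZMod 2] b 0 + b 0 ⊗ₜ[ZMod 2] b 1 +
            b 1 ⊗ₜ[ZMod 2] b 1) - b 0 ⊗ₜ[ZMod 2] b 0 - b 1 ⊗ₜ[ZMod 2] b 1 := by abel
        rw [this]
        exact (W ⊔ Na).sub_mem ((W ⊔ Na).sub_mem (Submodule.mem_sup_left hM) h00) h11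
      have h10 : b 1 ⊗ₜ[ZMod 2] b 0 ∈ W ⊔ Na := by
        have : b 1 ⊗ₜ[ZMod 2] b 0 = (b 0 ⊗ₜ[ZMod 2] b 1 + b 1 ⊗ₜ[ZMod 2] b 0) -
            b 0 ⊗ₜ[ZMod 2] b 1 := by abel
        rw [this]
        exact (W ⊔ Na).sub_mem (Submodule.mem_sup_right (hNsNa (hsym_mem _ _))) h01
      intro i j
      fin_cases i <;> fin_cases j
      · exact h00
      · exact h01
      · exact h10
      · exact h11
    induction z using TensorProduct.induction_on with
    | zero => exact (W ⊔ Na).zero_mem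
    | tmul x y =>
      rw [← b.sum_repr x, ← b.sum_repr y, TensorProduct.sum_tmul]
      refine (W ⊔ Na).sum_mem (fun i _ => ?_)
      rw [TensorProduct.tmul_sum]
      refine (W ⊔ Na).sum_mem (fun j _ => ?_)
      rw [TensorProduct.smul_tmul_smul]
      exact (W ⊔ Na).smul_mem _ (hmem i j)
    | add a c ha hc => exact (W ⊔ Na).add_mem ha hc

end Groth.Agent.S18546
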