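import Groth.Statements.S18548
import Mathlib

set_option autoImplicit false
open scoped TensorProduct
universe u v w
open GalCoh

namespace Groth.Agent.S18548

/-- Let G be a group acting linearly on a vector space V over the field 𝔽₂ with two elements, and
suppose V is a permutation module: G permutes the vectors of some basis of V. Then the short exact
sequence of G-modules 0 → V → S²V → Λ²V → 0 (v ↦ v·v, x·y ↦ x ∧ y) splits G-equivariantly. Here, for
a vector space V over the field with two elements carrying a linear action ρ of a group G, write N_a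
⊆ V ⊗ V for the span of the tensors v ⊗ v and N_s ⊆ N_a for the span of the tensors x ⊗ y + y ⊗ x,
so that S²V = (V ⊗ V)/N_s, Λ²V = (V ⊗ V)/N_a and the surjection S²V → Λ²V, x·y ↦ x ∧ y, is
G-equivariant for the diagonal action; a G-equivariant linear section of this surjection is the same
thing as a G-stable subspace W of V ⊗ V with W ∩ N_a = N_s and W + N_a = V ⊗ V, which is how the
splitting is stated. (The source has the absolute Galois group of a field acting continuously; any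
group and any basis index set are allowed here.) -/
theorem result (G : Type u) [Group G] (V : Type v)
    [AddCommGroup V] [Module (ZMod 2) V] (ρ : Representation (ZMod 2) G V)
    (ι : Type w) (b : Module.Basis ι (ZMod 2) V) (hb : ∀ g : G, ∀ i : ι, ∃ j : ι, ρ g (b i) = b j) :
    ∃ W : Submodule (ZMod 2) (V ⊗[ZMod 2] V),
      (∀ g : G, ∀ w ∈ W, ρ.tprod ρ g w ∈ W) ∧
      W ⊓ Submodule.span (ZMod 2) (Set.range fun v : V => v ⊗ₜ[ZMod 2] v) =
        Submodule.span (ZMod 2) (Set.range fun p : V × V => p.1 ⊗ₜ[ZMod 2] p.2 + p.2 ⊗ₜ[ZMod 2] p.1) ∧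
      W ⊔ Submodule.span (ZMod 2) (Set.range fun v : V => v ⊗ₜ[ZMod 2] v) = ⊤ := by
  classical
  obtain ⟨T, hT⟩ : ∃ T : Module.Basis (ι × ι) (ZMod 2) (V ⊗[ZMod 2] V),
      ∀ i j, T (i, j) = b i ⊗ₜ[ZMod 2] b j :=
    ⟨b.tensorProduct b, fun i j => Module.Basis.tensorProduct_apply b b i j⟩
  obtain ⟨W, hWdef⟩ : ∃ W : Submodule (ZMod 2) (V ⊗[ZMod 2] V),
      W = Submodule.span (ZMod 2) (T '' {p : ι × ι | p.1 ≠ p.2}) := ⟨_, rfl⟩
  obtain ⟨Dg, hDdef⟩ : ∃ Dg : Submodule (ZMod 2) (V ⊗[ZMod 2] V),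
      Dg = Submodule.span (ZMod 2) (T '' {p : ι × ι | p.1 = p.2}) := ⟨_, rfl⟩
  obtain ⟨Na, hNa⟩ : ∃ Na : Submodule (ZMod 2) (V ⊗[ZMod 2] V),
      Na = Submodule.span (ZMod 2) (Set.range fun v : V => v ⊗ₜ[ZMod 2] v) := ⟨_, rfl⟩
  obtain ⟨Ns, hNs⟩ : ∃ Ns : Submodule (ZMod 2) (V ⊗[ZMod 2] V),
      Ns = Submodule.span (ZMod 2)
        (Set.range fun p : V × V => p.1 ⊗ₜ[ZMod 2] p.2 + p.2 ⊗ₜ[ZMod 2] p.1) := ⟨_, rfl⟩
  have hWmem : ∀ i j, i ≠ j → b i ⊗ₜ[ZMod 2] b j ∈ W := by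
    intro i j hij
    rw [hWdef, ← hT]
    exact Submodule.subset_span ⟨(i, j), hij, rfl⟩
  have hDmem : ∀ i, b i ⊗ₜ[ZMod 2] b i ∈ Dg := by
    intro i
    rw [hDdef, ← hT]
    exact Submodule.subset_span ⟨(i, i), rfl, rfl⟩
  have hNamem : ∀ v : V, v ⊗ₜ[ZMod 2] v ∈ Na := by
    intro v
    rw [hNa]
    exact Submodule.subset_span ⟨v, rfl⟩
  have hNsmem : ∀ x y : V, x ⊗ₜ[ZMod 2] y + y ⊗ₜ[ZMod 2] x ∈ Ns := by
    intro x y
    rw [hNs]
    exact Submodule.subset_span ⟨(x, y), rfl⟩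
  have hdisj : Disjoint W Dg := by
    rw [hWdef, hDdef]
    refine T.linearIndependent.disjoint_span_image ?_
    rw [Set.disjoint_left]
    intro p hp hp'
    exact hp hp'
  have hadd : ∀ x : V ⊗[ZMod 2] V, x + x = 0 := by
    intro x
    rw [← two_smul (ZMod 2) x]
    have h2 : (2 : ZMod 2) = 0 := by decide
    rw [h2, zero_smul]
  have hΦ : ∀ t : V ⊗[ZMod 2] V, t + (TensorProduct.comm (ZMod 2) V V) t ∈ W := by
    intro t
    obtain ⟨Φ, hΦdef⟩ : ∃ Φ : (V ⊗[ZMod 2] V) →ₗ[ZMod 2] (V ⊗[ZMod 2] V),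
        ∀ t, Φ t = t + (TensorProduct.comm (ZMod 2) V V) t :=
      ⟨(LinearMap.id : (V ⊗[ZMod 2] V) →ₗ[ZMod 2] (V ⊗[ZMod 2] V))
        + (TensorProduct.comm (ZMod 2) V V).toLinearMap, fun t => rfl⟩
    have hcomap : (⊤ : Submodule (ZMod 2) (V ⊗[ZMod 2] V)) ≤ W.comap Φ := by
      rw [← T.span_eq, Submodule.span_le]
      rintro _ ⟨⟨i, j⟩, rfl⟩
      show Φ (T (i, j)) ∈ W
      rw [hΦdef, hT, TensorProduct.comm_tmul]
      by_cases hij : i = j
      · rw [hij, hadd]; exact W.zero_mem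
      · exact W.add_mem (hWmem i j hij) (hWmem j i (Ne.symm hij))
    have h1 : Φ t ∈ W := hcomap (Submodule.mem_top : t ∈ ⊤)
    rwa [hΦdef] at h1
  have hNsW : Ns ≤ W := by
    rw [hNs, Submodule.span_le]
    rintro _ ⟨⟨x, y⟩, rfl⟩
    have h1 := hΦ (x ⊗ₜ[ZMod 2] y)
    rwa [TensorProduct.comm_tmul] at h1
  have hNsNa : Ns ≤ Na := by
    rw [hNs, Submodule.span_le]
    rintro _ ⟨⟨x, y⟩, rfl⟩
    have h1 : x ⊗ₜ[ZMod 2] y + y ⊗ₜ[ZMod 2] x
        = (x + y) ⊗ₜ[ZMod 2] (x + y) - x ⊗ₜ[ZMod 2] x - y ⊗ₜ[ZMod 2] y := by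
      rw [TensorProduct.add_tmul, TensorProduct.tmul_add, TensorProduct.tmul_add]; abel
    show x ⊗ₜ[ZMod 2] y + y ⊗ₜ[ZMod 2] x ∈ Na
    rw [h1]
    exact Na.sub_mem (Na.sub_mem (hNamem _) (hNamem _)) (hNamem _)
  have hNaLe : Na ≤ Ns ⊔ Dg := by
    rw [hNa, Submodule.span_le]
    rintro _ ⟨v, rfl⟩
    show v ⊗ₜ[ZMod 2] v ∈ Ns ⊔ Dg
    have hv : v ∈ Submodule.span (ZMod 2) (Set.range b) := by rw [b.span_eq]; trivial
    induction hv using Submodule.span_induction with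
    | mem x hx =>
      obtain ⟨i, rfl⟩ := hx
      exact Submodule.mem_sup_right (hDmem i)
    | zero => rw [TensorProduct.zero_tmul]; exact Submodule.zero_mem _
    | add x y _ _ ihx ihy =>
      have h1 : (x + y) ⊗ₜ[ZMod 2] (x + y)
          = x ⊗ₜ[ZMod 2] x + y ⊗ₜ[ZMod 2] y + (x ⊗ₜ[ZMod 2] y + y ⊗ₜ[ZMod 2] x) := by
        rw [TensorProduct.add_tmul, TensorProduct.tmul_add, TensorProduct.tmul_add]; abel
      rw [h1]
      exact Submodule.add_mem _ (Submodule.add_mem _ ihx ihy)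
        (Submodule.mem_sup_left (hNsmem x y))
    | smul c x _ ih =>
      rw [TensorProduct.smul_tmul_smul]
      exact Submodule.smul_mem _ _ ih
  refine ⟨W, ?_, ?_, ?_⟩
  · intro g z hz
    rw [Representation.tprod_apply]
    have hle : W ≤ W.comap (TensorProduct.map (ρ g) (ρ g)) := by
      conv_lhs => rw [hWdef]
      rw [Submodule.span_le]
      rintro _ ⟨⟨i, j⟩, hij, rfl⟩
      show TensorProduct.map (ρ g) (ρ g) (T (i, j)) ∈ W
      rw [hT, TensorProduct.map_tmul]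
      obtain ⟨i', hi'⟩ := hb g i
      obtain ⟨j', hj'⟩ := hb g j
      rw [hi', hj']
      apply hWmem
      intro hij'
      apply hij
      have h1 : ρ g (b i) = ρ g (b j) := by rw [hi', hj', hij']
      have h2 : b i = b j := by
        have h3 := congrArg (ρ g⁻¹) h1
        rwa [Representation.inv_self_apply, Representation.inv_self_apply] at h3
      exact b.injective h2
    exact hle hz
  · rw [← hNa, ← hNs]
    apply le_antisymm
    · rintro z ⟨hzW, hzNa⟩
      obtain ⟨s, hs, d, hd, hsd⟩ := Submodule.mem_sup.mp (hNaLe hzNa)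
      have hdW : d ∈ W := by
        have h1 : d = z - s := by rw [← hsd]; abel
        rw [h1]; exact W.sub_mem hzW (hNsW hs)
      have hd0 : d = 0 := Submodule.disjoint_def.mp hdisj d hdW hd
      rw [← hsd, hd0, add_zero]; exact hs
    · exact le_inf hNsW hNsNa
  · rw [← hNa, eq_top_iff, ← T.span_eq, Submodule.span_le]
    rintro _ ⟨⟨i, j⟩, rfl⟩
    show T (i, j) ∈ W ⊔ Na
    rw [hT]
    by_cases hij : i = j
    · rw [hij]; exact Submodule.mem_sup_right (hNamem _)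
    · exact Submodule.mem_sup_left (hWmem i j hij)

end Groth.Agent.S18548
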