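import Groth.Statements.S18549
import Mathlib
import Groth.Agent.S18548

set_option autoImplicit false
open scoped TensorProduct
universe u v
open GalCoh

namespace Groth.Agent.S18549

theorem exists_perm_basis_of_invol (V : Type v) [AddCommGroup V] [Module (ZMod 2) V]
    (s : V →ₗ[ZMod 2] V) (hs : ∀ x, s (s x) = x) :
    ∃ (ι : Type v) (b : Module.Basis ι (ZMod 2) V), ∀ i, ∃ j, s (b i) = b j := by
  classical
  have hadd : ∀ y : V, y + y = 0 := by
    intro y
    rw [← two_smul (ZMod 2) y]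
    have h2 : (2 : ZMod 2) = 0 := by decide
    rw [h2, zero_smul]
  obtain ⟨N, hN⟩ : ∃ N : V →ₗ[ZMod 2] V, ∀ x, N x = s x - x :=
    ⟨s - LinearMap.id, fun x => rfl⟩
  have hNN : ∀ x, N (N x) = 0 := by
    intro x
    rw [hN, hN, map_sub, hs]
    have h1 : x - s x - (s x - x) = (x + x) - (s x + s x) := by abel
    rw [h1, hadd, hadd, sub_zero]
  obtain ⟨K, hK⟩ : ∃ K : Submodule (ZMod 2) V, K = LinearMap.ker N := ⟨_, rfl⟩
  obtain ⟨R, hR⟩ : ∃ R : Submodule (ZMod 2) V, R = LinearMap.range N := ⟨_, rfl⟩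
  have hRK : R ≤ K := by
    rw [hR, hK]
    rintro _ ⟨x, rfl⟩
    exact LinearMap.mem_ker.mpr (hNN x)
  obtain ⟨C, hC⟩ := Submodule.exists_isCompl K
  obtain ⟨D', hD'⟩ := Submodule.exists_isCompl R
  obtain ⟨D, hDdef⟩ : ∃ D : Submodule (ZMod 2) V, D = D' ⊓ K := ⟨_, rfl⟩
  have hDK : D ≤ K := by rw [hDdef]; exact inf_le_right
  have hRD : ∀ x, x ∈ R → x ∈ D → x = 0 := by
    intro x hxR hxD
    rw [hDdef] at hxD
    exact Submodule.disjoint_def.mp hD'.disjoint x hxR hxD.1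
  have hKC : ∀ x, x ∈ K → x ∈ C → x = 0 :=
    fun x hxK hxC => Submodule.disjoint_def.mp hC.disjoint x hxK hxC
  have hKsplit : ∀ k ∈ K, ∃ r ∈ R, ∃ d ∈ D, r + d = k := by
    intro k hk
    have h1 : k ∈ R ⊔ D' := by rw [hD'.sup_eq_top]; trivial
    obtain ⟨r, hr, d, hd, hrd⟩ := Submodule.mem_sup.mp h1
    refine ⟨r, hr, d, ?_, hrd⟩
    rw [hDdef]
    refine ⟨hd, ?_⟩
    have h2 : d = k - r := by rw [← hrd]; abel
    rw [h2]; exact K.sub_mem hk (hRK hr)
  have hKfix : ∀ k ∈ K, s k = k := by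
    intro k hk
    rw [hK, LinearMap.mem_ker, hN, sub_eq_zero] at hk
    exact hk
  obtain ⟨e, he⟩ : ∃ e : ((C × C) × D) →ₗ[ZMod 2] V,
      ∀ c₁ c₂ : C, ∀ d : D, e ((c₁, c₂), d) = (c₁ : V) + s (c₂ : V) + (d : V) :=
    ⟨(C.subtype.coprod (s.comp C.subtype)).coprod D.subtype, fun c₁ c₂ d => by
      simp [LinearMap.coprod_apply]⟩
  have hinj : Function.Injective e := by
    rw [← LinearMap.ker_eq_bot, LinearMap.ker_eq_bot']
    rintro ⟨⟨c₁, c₂⟩, d⟩ h0
    rw [he] at h0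
    have hNc : N (c₂ : V) ∈ R := by rw [hR]; exact ⟨_, rfl⟩
    have hk : N (c₂ : V) + (d : V) ∈ K := K.add_mem (hRK hNc) (hDK d.2)
    have hsum : ((c₁ : V) + (c₂ : V)) + (N (c₂ : V) + (d : V)) = 0 := by
      rw [hN, ← h0]; abel
    have hc : (c₁ : V) + (c₂ : V) ∈ C := C.add_mem c₁.2 c₂.2
    have hcK : (c₁ : V) + (c₂ : V) ∈ K := by
      have h1 : (c₁ : V) + (c₂ : V) = -(N (c₂ : V) + (d : V)) :=
        eq_neg_of_add_eq_zero_left hsum
      rw [h1]; exact K.neg_mem hk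
    have hc0 : (c₁ : V) + (c₂ : V) = 0 := hKC _ hcK hc
    have hk0 : N (c₂ : V) + (d : V) = 0 := by rw [hc0, zero_add] at hsum; exact hsum
    have hNcD : N (c₂ : V) ∈ D := by
      have h1 : N (c₂ : V) = -(d : V) := eq_neg_of_add_eq_zero_left hk0
      rw [h1]; exact D.neg_mem d.2
    have hNc0 : N (c₂ : V) = 0 := hRD _ hNc hNcD
    have hd0 : (d : V) = 0 := by rw [hNc0, zero_add] at hk0; exact hk0
    have hc₂K : (c₂ : V) ∈ K := by rw [hK]; exact LinearMap.mem_ker.mpr hNc0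
    have hc₂0 : (c₂ : V) = 0 := hKC _ hc₂K c₂.2
    have hc₁0 : (c₁ : V) = 0 := by rw [hc₂0, add_zero] at hc0; exact hc0
    have e1 : c₁ = 0 := Subtype.ext hc₁0
    have e2 : c₂ = 0 := Subtype.ext hc₂0
    have e3 : d = 0 := Subtype.ext hd0
    rw [e1, e2, e3]; rfl
  have hsurj : Function.Surjective e := by
    intro x
    have hx : x ∈ K ⊔ C := by rw [hC.sup_eq_top]; trivial
    obtain ⟨k, hk, c, hc, hkc⟩ := Submodule.mem_sup.mp hx
    obtain ⟨r, hr, d, hd, hrd⟩ := hKsplit k hk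
    rw [hR] at hr
    obtain ⟨x', rfl⟩ := hr
    have hx' : x' ∈ K ⊔ C := by rw [hC.sup_eq_top]; trivial
    obtain ⟨k', hk', c', hc', hkc'⟩ := Submodule.mem_sup.mp hx'
    have hNx' : N x' = s c' - c' := by
      rw [← hkc', map_add]
      have h1 : N k' = 0 := by rw [hK] at hk'; exact LinearMap.mem_ker.mp hk'
      rw [h1, zero_add, hN]
    refine ⟨((⟨c - c', C.sub_mem hc hc'⟩, ⟨c', hc'⟩), ⟨d, hd⟩), ?_⟩
    rw [he]
    show (c - c') + s c' + d = x
    rw [← hkc, ← hrd, hNx']; abel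
  obtain ⟨E, hE⟩ : ∃ E : ((C × C) × D) ≃ₗ[ZMod 2] V, ∀ z, E z = e z :=
    ⟨LinearEquiv.ofBijective e ⟨hinj, hsurj⟩, fun z => rfl⟩
  obtain ⟨bC, -⟩ : ∃ bC : Module.Basis (Module.Basis.ofVectorSpaceIndex (ZMod 2) C) (ZMod 2) C,
      True := ⟨Module.Basis.ofVectorSpace (ZMod 2) C, trivial⟩
  obtain ⟨bD, -⟩ : ∃ bD : Module.Basis (Module.Basis.ofVectorSpaceIndex (ZMod 2) D) (ZMod 2) D,
      True := ⟨Module.Basis.ofVectorSpace (ZMod 2) D, trivial⟩
  obtain ⟨B, hBdef⟩ : ∃ B : Module.Basis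
      ((Module.Basis.ofVectorSpaceIndex (ZMod 2) C ⊕ Module.Basis.ofVectorSpaceIndex (ZMod 2) C)
        ⊕ Module.Basis.ofVectorSpaceIndex (ZMod 2) D) (ZMod 2) V,
      B = ((bC.prod bC).prod bD).map E := ⟨_, rfl⟩
  have hB1 : ∀ a, B (Sum.inl (Sum.inl a)) = (bC a : V) := by
    intro a
    have h1 : ((bC.prod bC).prod bD) (Sum.inl (Sum.inl a)) = ((bC a, 0), 0) := by
      simp [Module.Basis.prod_apply]
    rw [hBdef, Module.Basis.map_apply, h1, hE, he]; simp
  have hB2 : ∀ a, B (Sum.inl (Sum.inr a)) = s (bC a : V) := by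
    intro a
    have h1 : ((bC.prod bC).prod bD) (Sum.inl (Sum.inr a)) = ((0, bC a), 0) := by
      simp [Module.Basis.prod_apply]
    rw [hBdef, Module.Basis.map_apply, h1, hE, he]; simp
  have hB3 : ∀ j, B (Sum.inr j) = (bD j : V) := by
    intro j
    have h1 : ((bC.prod bC).prod bD) (Sum.inr j) = ((0, 0), bD j) := by
      simp [Module.Basis.prod_apply]
      rfl
    rw [hBdef, Module.Basis.map_apply, h1, hE, he]; simp
  refine ⟨_, B, ?_⟩
  rintro ((a | a) | j)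
  · exact ⟨Sum.inl (Sum.inr a), by rw [hB1, hB2]⟩
  · exact ⟨Sum.inl (Sum.inl a), by rw [hB2, hB1, hs]⟩
  · exact ⟨Sum.inr j, by rw [hB3, hKfix _ (hDK (bD j).2)]⟩

/-- Over the real numbers, that is for the group G = Gal(ℂ/ℝ) of order 2 acting linearly on a
finite-dimensional vector space V over the field 𝔽₂ with two elements, the short exact sequence of
G-modules 0 → V → S²V → Λ²V → 0 (v ↦ v·v, x·y ↦ x ∧ y) splits G-equivariantly. Here, for a vector
space V over the field with two elements carrying a linear action ρ of a group G, write N_a ⊆ V ⊗ V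
for the span of the tensors v ⊗ v and N_s ⊆ N_a for the span of the tensors x ⊗ y + y ⊗ x, so that
S²V = (V ⊗ V)/N_s, Λ²V = (V ⊗ V)/N_a and the surjection S²V → Λ²V, x·y ↦ x ∧ y, is G-equivariant for
the diagonal action; a G-equivariant linear section of this surjection is the same thing as a
G-stable subspace W of V ⊗ V with W ∩ N_a = N_s and W + N_a = V ⊗ V, which is how the splitting is
stated. (G is any group of order 2 here; V is taken finite-dimensional, the case covered by the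
structure theory of finitely generated modules over 𝔽₂[G] that the argument uses.) -/
theorem result (G : Type u) [Group G] (hG : Nat.card G = 2)
    (V : Type v) [AddCommGroup V] [Module (ZMod 2) V] [Module.Finite (ZMod 2) V]
    (ρ : Representation (ZMod 2) G V) :
    ∃ W : Submodule (ZMod 2) (V ⊗[ZMod 2] V),
      (∀ g : G, ∀ w ∈ W, ρ.tprod ρ g w ∈ W) ∧
      W ⊓ Submodule.span (ZMod 2) (Set.range fun v : V => v ⊗ₜ[ZMod 2] v) =
        Submodule.span (ZMod 2) (Set.range fun p : V × V => p.1 ⊗ₜ[ZMod 2] p.2 + p.2 ⊗ₜ[ZMod 2] p.1) ∧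
      W ⊔ Submodule.span (ZMod 2) (Set.range fun v : V => v ⊗ₜ[ZMod 2] v) = ⊤ := by
  obtain ⟨σ, hσ1, hσu⟩ := (Nat.card_eq_two_iff' (1 : G)).mp hG
  have hσ2 : σ * σ = 1 := by
    by_contra h
    have h1 : σ * σ = σ := hσu _ h
    have h2 : σ = 1 := mul_left_cancel (a := σ) (by rw [h1, mul_one])
    exact hσ1 h2
  obtain ⟨ι, b, hb⟩ := exists_perm_basis_of_invol V (ρ σ) (fun x => by
    rw [← Module.End.mul_apply, ← map_mul, hσ2, map_one, Module.End.one_apply])
  refine Groth.Agent.S18548.result G V ρ ι b (fun g i => ?_)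
  by_cases hg : g = 1
  · exact ⟨i, by rw [hg, map_one, Module.End.one_apply]⟩
  · rw [hσu g hg]; exact hb i

end Groth.Agent.S18549
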