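import Groth.Statements.S18560
import Mathlib

set_option autoImplicit false
universe u v
open PtQuiv

namespace Groth.Agent.S18560

/-- Let K be a field and s i ∈ K² (i in a finite index type) nonzero vectors, regarded as a
representation of the quiver with a central vertex carrying the plane and one vertex per i carrying
a line that maps to the plane by 1 ↦ s i. For a weight θ in the hypersimplex (0 ≤ θ i ≤ 1, Σ θ i =
2, central weight -1) the representation is θ-semistable if and only if, for every vector v, the
indices i with s i on the line K ∙ v have total weight at most 1. (The published statement is over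
an algebraically closed field, assumes semistability for some interior weight instead of s i ≠ 0,
and phrases the bound through the classes of pairwise proportional s i; any field is allowed here.
Its further assertion that the bounding walls, where the total weight of one proportionality class
equals 1, do not meet in the interior of the hypersimplex is not part of this row.) -/
theorem result (K : Type u) [Field K] (ι : Type v) [Fintype ι]
    (s : ι → (Fin 2 → K)) (hs : ∀ i, s i ≠ 0) (θ : ι → ℚ) (h0 : ∀ i, 0 ≤ θ i)
    (h1 : ∀ i, θ i ≤ 1) (h2 : ∑ i, θ i = 2) :
    PtQuiv.QSemistable (-1) θ s ↔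
      ∀ (J : Finset ι) (v : Fin 2 → K), (∀ i ∈ J, s i ∈ K ∙ v) → ∑ i ∈ J, θ i ≤ 1 := by
  classical
  constructor
  · rintro ⟨-, h⟩ J v hJ
    have h3 := h (K ∙ v) J hJ
    unfold PtQuiv.QWt at h3
    have h4 : Module.finrank K (K ∙ v) ≤ 1 := by
      refine (finrank_span_le_card ({v} : Set (Fin 2 → K))).trans ?_
      simp
    have h5 : (Module.finrank K (K ∙ v) : ℚ) ≤ 1 := by exact_mod_cast h4
    linarith
  · intro h
    refine ⟨by rw [h2]; norm_num, ?_⟩
    intro L I hLI
    unfold PtQuiv.QWt
    have hle : Module.finrank K L ≤ 2 := by
      have h3 : Module.finrank K L ≤ Module.finrank K (Fin 2 → K) := Submodule.finrank_le L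
      simpa using h3
    have hcases : Module.finrank K L = 0 ∨ Module.finrank K L = 1 ∨ Module.finrank K L = 2 := by
      omega
    rcases hcases with h' | h' | h'
    · have hbot : L = ⊥ := Submodule.finrank_eq_zero.mp h'
      have hI : I = ∅ := by
        apply Finset.eq_empty_of_forall_notMem
        intro i hi
        have h3 := hLI i hi
        rw [hbot, Submodule.mem_bot] at h3
        exact hs i h3
      rw [h', hI]; simp
    · obtain ⟨v, hv0, hv⟩ := finrank_eq_one_iff'.mp h'
      have h3 := h I (v : Fin 2 → K) (by
        intro i hi
        obtain ⟨c, hc⟩ := hv ⟨s i, hLI i hi⟩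
        rw [Submodule.mem_span_singleton]
        refine ⟨c, ?_⟩
        have h4 := congrArg Subtype.val hc
        simpa using h4)
      rw [h']; push_cast; linarith
    · have h3 : ∑ i ∈ I, θ i ≤ ∑ i, θ i :=
        Finset.sum_le_univ_sum_of_nonneg h0
      rw [h']; push_cast; linarith

end Groth.Agent.S18560
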