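import Groth.Statements.S18561
import Mathlib

set_option autoImplicit false
universe u v
open PtQuiv

namespace Groth.Agent.S18561

/-- Let K be a field and s i ∈ K² (i in a finite index type) nonzero vectors, regarded as a
representation of the quiver with a central vertex carrying the plane and one vertex per i carrying
a line mapping to the plane by 1 ↦ s i. Then the representation is stable for some weight of the
hypersimplex (0 ≤ θ i ≤ 1, Σ θ i = 2, central weight -1) if and only if the s i fall into at least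
three proportionality classes, i.e. three of them are pairwise non-proportional. (The published
statement is over an algebraically closed field and assumes semistability for some interior weight
instead of s i ≠ 0; any field is allowed here. Its further assertions, that the set of semistability
weights is full-dimensional exactly in this case and is a wall otherwise, are not part of this row.) -/
theorem result (K : Type u) [Field K] (ι : Type v)
    [Fintype ι] (s : ι → (Fin 2 → K)) (hs : ∀ i, s i ≠ 0) :
    (∃ θ : ι → ℚ, (∀ i, 0 ≤ θ i) ∧ (∀ i, θ i ≤ 1) ∧ ∑ i, θ i = 2 ∧ PtQuiv.QStable (-1) θ s) ↔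
      ∃ i j k : ι, s i ∉ K ∙ s j ∧ s j ∉ K ∙ s k ∧ s i ∉ K ∙ s k := by
  classical
  have hsymm : ∀ x y : Fin 2 → K, x ≠ 0 → x ∈ K ∙ y → y ∈ K ∙ x := by
    intro x y hx hxy
    obtain ⟨c, rfl⟩ := Submodule.mem_span_singleton.mp hxy
    have hc : c ≠ 0 := by rintro rfl; exact hx (zero_smul _ _)
    exact Submodule.mem_span_singleton.mpr
      ⟨c⁻¹, by rw [smul_smul, inv_mul_cancel₀ hc, one_smul]⟩
  have hline : ∀ (L : Submodule K (Fin 2 → K)), Module.finrank K L = 1 →
      ∀ x y, x ∈ L → y ∈ L → y ≠ 0 → x ∈ K ∙ y := by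
    intro L hL x y hx hy hy0
    obtain ⟨v, hv0, hv⟩ := finrank_eq_one_iff'.mp hL
    obtain ⟨c, hc⟩ := hv ⟨x, hx⟩
    obtain ⟨d, hd⟩ := hv ⟨y, hy⟩
    have hc' : c • (v : Fin 2 → K) = x := by
      have h3 := congrArg Subtype.val hc; simpa using h3
    have hd' : d • (v : Fin 2 → K) = y := by
      have h3 := congrArg Subtype.val hd; simpa using h3
    have hd0 : d ≠ 0 := by rintro rfl; exact hy0 (by rw [← hd', zero_smul])
    refine Submodule.mem_span_singleton.mpr ⟨c * d⁻¹, ?_⟩
    rw [← hd', ← hc', smul_smul, mul_assoc, inv_mul_cancel₀ hd0, mul_one]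
  have hspan1 : ∀ v : Fin 2 → K, v ≠ 0 → Module.finrank K (K ∙ v) = 1 :=
    fun v hv => finrank_span_singleton hv
  constructor
  · rintro ⟨θ, h0, h1, h2, ⟨hss_tot, hss⟩, hst⟩
    by_contra hno
    have hno' : ∀ i j k, s i ∉ K ∙ s j → s j ∉ K ∙ s k → s i ∈ K ∙ s k := by
      intro i j k h1' h2'
      by_contra h3
      exact hno ⟨i, j, k, h1', h2', h3⟩
    have hne : Nonempty ι := by
      by_contra hempty
      haveI : IsEmpty ι := not_nonempty_iff.mp hempty
      rw [Finset.univ_eq_empty, Finset.sum_empty] at h2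
      norm_num at h2
    obtain ⟨i₀⟩ := hne
    have hlineW : ∀ (v : Fin 2 → K) (hv : v ≠ 0) (I : Finset ι),
        (∀ l ∈ I, s l ∈ K ∙ v) → ∑ l ∈ I, θ l ≤ 1 := by
      intro v hv I hI
      have h3 := hss (K ∙ v) I hI
      unfold PtQuiv.QWt at h3
      rw [hspan1 v hv] at h3
      push_cast at h3
      linarith
    have hlineS : ∀ (v : Fin 2 → K) (hv : v ≠ 0) (I : Finset ι),
        (∀ l ∈ I, s l ∈ K ∙ v) → ∑ l ∈ I, θ l ≠ 1 := by
      intro v hv I hI hsum
      have hw : PtQuiv.QWt K (-1) θ (K ∙ v) I = 0 := by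
        unfold PtQuiv.QWt; rw [hspan1 v hv, hsum]; norm_num
      rcases hst (K ∙ v) I hI hw with ⟨hL, -⟩ | ⟨hL, -⟩
      · exact hv (Submodule.span_singleton_eq_bot.mp hL)
      · have h4 : Module.finrank K (K ∙ v) = 2 := by rw [hL, finrank_top]; simp
        rw [hspan1 v hv] at h4
        exact absurd h4 (by norm_num)
    by_cases hall : ∀ l, s l ∈ K ∙ s i₀
    · have h3 := hlineW (s i₀) (hs i₀) Finset.univ (fun l _ => hall l)
      rw [h2] at h3
      norm_num at h3
    · obtain ⟨j₀, hj₀⟩ := not_forall.mp hall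
      have hi₀j₀ : s i₀ ∉ K ∙ s j₀ := fun h => hj₀ (hsymm _ _ (hs i₀) h)
      have hcls : ∀ l, s l ∉ K ∙ s i₀ → s l ∈ K ∙ s j₀ := by
        intro l hl
        by_contra hl2
        have h4 : s j₀ ∉ K ∙ s l := fun h => hl2 (hsymm _ _ (hs j₀) h)
        have h5 := hno' i₀ j₀ l hi₀j₀ h4
        exact hl (hsymm _ _ (hs i₀) h5)
      have hI1 := hlineW (s i₀) (hs i₀) (Finset.univ.filter (fun l => s l ∈ K ∙ s i₀))
        (fun l hl => (Finset.mem_filter.mp hl).2)
      have hI2 := hlineW (s j₀) (hs j₀) (Finset.univ.filter (fun l => ¬ s l ∈ K ∙ s i₀))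
        (fun l hl => hcls l (Finset.mem_filter.mp hl).2)
      have hsum := Finset.sum_filter_add_sum_filter_not Finset.univ
        (fun l => s l ∈ K ∙ s i₀) θ
      rw [h2] at hsum
      have hI1eq : ∑ l ∈ Finset.univ.filter (fun l => s l ∈ K ∙ s i₀), θ l = 1 := by linarith
      exact hlineS (s i₀) (hs i₀) _ (fun l hl => (Finset.mem_filter.mp hl).2) hI1eq
  · rintro ⟨i, j, k, hij, hjk, hik⟩
    have hne_ij : i ≠ j := by
      rintro rfl; exact hij (Submodule.mem_span_singleton_self _)
    have hne_jk : j ≠ k := by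
      rintro rfl; exact hjk (Submodule.mem_span_singleton_self _)
    have hne_ik : i ≠ k := by
      rintro rfl; exact hik (Submodule.mem_span_singleton_self _)
    have hji : s j ∉ K ∙ s i := fun h => hij (hsymm _ _ (hs j) h)
    have hkj : s k ∉ K ∙ s j := fun h => hjk (hsymm _ _ (hs k) h)
    have hki : s k ∉ K ∙ s i := fun h => hik (hsymm _ _ (hs k) h)
    obtain ⟨T, hT⟩ : ∃ T : Finset ι, T = {i, j, k} := ⟨_, rfl⟩
    have hiT : i ∈ T := by rw [hT]; simp
    have hjT : j ∈ T := by rw [hT]; simp
    have hkT : k ∈ T := by rw [hT]; simp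
    have hTcard : T.card = 3 := by
      rw [hT, Finset.card_insert_of_notMem, Finset.card_insert_of_notMem,
        Finset.card_singleton]
      · simpa using hne_jk
      · simp [hne_ij, hne_ik]
    obtain ⟨N, hN⟩ : ∃ N : ℚ, N = (Fintype.card ι : ℚ) := ⟨_, rfl⟩
    have hN3 : 3 ≤ N := by
      rw [hN]
      have h3 : T.card ≤ Fintype.card ι := Finset.card_le_univ T
      rw [hTcard] at h3
      exact_mod_cast h3
    have hNpos : 0 < N := by linarith
    obtain ⟨β, hβ⟩ : ∃ β : ℚ, β = 1 / (4 * N) := ⟨_, rfl⟩
    have hβpos : 0 < β := by rw [hβ]; exact div_pos one_pos (by linarith)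
    have hNβ : N * β = 1 / 4 := by rw [hβ]; field_simp
    obtain ⟨α, hα⟩ : ∃ α : ℚ, α = (2 - (N - 3) * β) / 3 := ⟨_, rfl⟩
    have hmβ_nn : 0 ≤ (N - 3) * β := mul_nonneg (by linarith) hβpos.le
    have hmβ_lt : (N - 3) * β < 1 / 4 := by nlinarith
    have hα_gt : 1 / 2 < α := by rw [hα]; linarith
    have hα_le : α ≤ 1 := by rw [hα]; linarith
    have hβ_le : β ≤ 1 := by nlinarith
    obtain ⟨θ, hθ⟩ : ∃ θ : ι → ℚ, θ = fun l => if l ∈ T then α else β := ⟨_, rfl⟩
    have hθT : ∀ l ∈ T, θ l = α := fun l hl => by rw [hθ]; simp [hl]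
    have hθnT : ∀ l, l ∉ T → θ l = β := fun l hl => by rw [hθ]; simp [hl]
    have hθpos : ∀ l, 0 < θ l := by
      intro l
      by_cases hl : l ∈ T
      · rw [hθT l hl]; linarith
      · rw [hθnT l hl]; exact hβpos
    have hθle : ∀ l, θ l ≤ 1 := by
      intro l
      by_cases hl : l ∈ T
      · rw [hθT l hl]; exact hα_le
      · rw [hθnT l hl]; exact hβ_le
    have hsum : ∑ l, θ l = 2 := by
      rw [hθ, Finset.sum_ite, Finset.sum_const, Finset.sum_const, nsmul_eq_mul, nsmul_eq_mul]
      have hc1 : (Finset.univ.filter (fun l => l ∈ T)).card = 3 := by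
        rw [Finset.filter_mem_eq_inter, Finset.univ_inter, hTcard]
      have hc2 : ((Finset.univ.filter (fun l => ¬ l ∈ T)).card : ℚ) = N - 3 := by
        have h3 := Finset.card_filter_add_card_filter_not (s := (Finset.univ : Finset ι))
          (fun l => l ∈ T)
        rw [hc1, Finset.card_univ] at h3
        have h4 := congrArg (Nat.cast : ℕ → ℚ) h3
        push_cast at h4
        rw [hN]; linarith
      rw [hc1, hc2, hα]; push_cast; ring
    have hpair : ∀ (I : Finset ι) (x y : ι), x ≠ y → x ∉ I → y ∉ I →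
        ∑ l ∈ I, θ l + θ x + θ y ≤ 2 := by
      intro I x y hxy hx hy
      have h3 : ∑ l ∈ insert x (insert y I), θ l ≤ ∑ l, θ l :=
        Finset.sum_le_univ_sum_of_nonneg (fun l => (hθpos l).le)
      rw [Finset.sum_insert (by simp [hxy, hx]), Finset.sum_insert hy, hsum] at h3
      linarith
    have hθi : θ i = α := hθT i hiT
    have hθj : θ j = α := hθT j hjT
    have hθk : θ k = α := hθT k hkT
    have key : ∀ (L : Submodule K (Fin 2 → K)) (I : Finset ι), PtQuiv.QSubrep s L I →
        (PtQuiv.QWt K (-1) θ L I ≤ 0 ∧ (PtQuiv.QWt K (-1) θ L I = 0 →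
          (L = ⊥ ∧ I = ∅) ∨ (L = ⊤ ∧ I = Finset.univ))) := by
      intro L I hI
      unfold PtQuiv.QWt
      have hle : Module.finrank K L ≤ 2 := by
        have h3 : Module.finrank K L ≤ Module.finrank K (Fin 2 → K) := Submodule.finrank_le L
        simpa using h3
      have hcases : Module.finrank K L = 0 ∨ Module.finrank K L = 1
          ∨ Module.finrank K L = 2 := by omega
      rcases hcases with hn | hn | hn
      · have hbot : L = ⊥ := Submodule.finrank_eq_zero.mp hn
        have hIe : I = ∅ := by
          apply Finset.eq_empty_of_forall_notMem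
          intro l hl
          have h3 := hI l hl
          rw [hbot, Submodule.mem_bot] at h3
          exact hs l h3
        rw [hn, hIe]
        refine ⟨by simp, fun _ => Or.inl ⟨hbot, rfl⟩⟩
      · have hlt : ∑ l ∈ I, θ l < 1 := by
          by_cases hiI : i ∈ I
          · have hjI : j ∉ I := fun h =>
              hji (hline L hn (s j) (s i) (hI j h) (hI i hiI) (hs i))
            have hkI : k ∉ I := fun h =>
              hki (hline L hn (s k) (s i) (hI k h) (hI i hiI) (hs i))
            have h3 := hpair I j k hne_jk hjI hkI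
            rw [hθj, hθk] at h3
            linarith
          · by_cases hjI : j ∈ I
            · have hkI : k ∉ I := fun h =>
                hkj (hline L hn (s k) (s j) (hI k h) (hI j hjI) (hs j))
              have h3 := hpair I i k hne_ik hiI hkI
              rw [hθi, hθk] at h3
              linarith
            · have h3 := hpair I i j hne_ij hiI hjI
              rw [hθi, hθj] at h3
              linarith
        rw [hn]
        push_cast
        refine ⟨by linarith, fun h => ?_⟩
        exfalso; linarith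
      · have htop : L = ⊤ := by
          apply Submodule.eq_top_of_finrank_eq
          rw [hn]; simp
        have hIle : ∑ l ∈ I, θ l ≤ 2 := by
          rw [← hsum]
          exact Finset.sum_le_univ_sum_of_nonneg (fun l => (hθpos l).le)
        rw [hn]
        push_cast
        refine ⟨by linarith, fun h => Or.inr ⟨htop, ?_⟩⟩
        rw [Finset.eq_univ_iff_forall]
        intro l
        by_contra hl
        have h3 : ∑ m ∈ insert l I, θ m ≤ ∑ m, θ m :=
          Finset.sum_le_univ_sum_of_nonneg (fun m => (hθpos m).le)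
        rw [Finset.sum_insert hl, hsum] at h3
        have h4 := hθpos l
        linarith
    refine ⟨θ, fun l => (hθpos l).le, hθle, hsum, ⟨⟨by rw [hsum]; norm_num, ?_⟩, ?_⟩⟩
    · intro L I hI; exact (key L I hI).1
    · intro L I hI hw; exact (key L I hI).2 hw

end Groth.Agent.S18561
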