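import Groth.Statements.S18562
import Mathlib
import Groth.Agent.Lib.helper9.PtQuivLib

set_option autoImplicit false
universe u v
open PtQuiv

namespace Groth.Agent.S18562

/-- Let K be a field, κ a finite index type with a ≠ b, and s i ∈ K² a representation of the quiver with
a central vertex carrying the plane and one vertex per i : κ carrying a line mapping to the plane by
1 ↦ s i. Let θ be a weight of the hypersimplex (0 ≤ θ i ≤ 1, Σ θ i = 2, central weight -1) with 1 <
θ a + θ b < 2, and put c = 1 / (2 - θ a - θ b). Then s is θ-semistable if and only if s a, s b are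
linearly independent and, writing every other s i = t i 0 • s a + t i 1 • s b, the representation t
of the quiver with two one-dimensional sinks p₀, p₁ and one one-dimensional source per i ≠ a, b
(arrow to p_j given by t i j) is semistable for the weight c (θ a - 1) at p₀, c (θ b - 1) at p₁ and
c θ i at the sources. (The published statement is about representations over a base scheme, with
(semi)stability tested on geometric fibres, that is over algebraically closed fields; this row
states the fibrewise content over an arbitrary field.) -/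
theorem result (K : Type u) [Field K]
    (κ : Type v) [Fintype κ] [DecidableEq κ] (a b : κ) (hab : a ≠ b) (s : κ → (Fin 2 → K))
    (θ : κ → ℚ) (h0 : ∀ i, 0 ≤ θ i) (h1 : ∀ i, θ i ≤ 1) (h2 : ∑ i, θ i = 2)
    (hθ : 1 < θ a + θ b) (hθ' : θ a + θ b < 2) :
    PtQuiv.QSemistable (-1) θ s ↔
      (LinearIndependent K ![s a, s b] ∧
        ∀ t : {i : κ // i ≠ a ∧ i ≠ b} → (Fin 2 → K),
          (∀ i, s i.1 = t i 0 • s a + t i 1 • s b) →
            PtQuiv.PSemistable ![(2 - θ a - θ b)⁻¹ * (θ a - 1), (2 - θ a - θ b)⁻¹ * (θ b - 1)]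
              (fun i : {i : κ // i ≠ a ∧ i ≠ b} => (2 - θ a - θ b)⁻¹ * θ i.1) t) := by
  classical
  obtain ⟨c, hcdef⟩ : ∃ c : ℚ, c = (2 - θ a - θ b)⁻¹ := ⟨_, rfl⟩
  rw [← hcdef]
  have hS'pos : 0 < 2 - θ a - θ b := by linarith
  have hc : 0 < c := by rw [hcdef]; exact inv_pos.mpr hS'pos
  have hcS : c * (2 - θ a - θ b) = 1 := by rw [hcdef]; exact inv_mul_cancel₀ hS'pos.ne'
  have hsum' : ∑ i : {i : κ // i ≠ a ∧ i ≠ b}, θ i.1 = 2 - θ a - θ b := by
    have h3 := H9PQ.sum_split a b hab θ Finset.univ
    rw [Finset.subtype_univ, h2] at h3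
    simp only [Finset.mem_univ, if_true] at h3
    linarith
  constructor
  · rintro ⟨-, hsub⟩
    have hLI : LinearIndependent K ![s a, s b] := by
      by_contra hnLI
      have hne : Fintype.card (Fin 2) ≠ (Set.range ![s a, s b]).finrank K :=
        fun h => hnLI (linearIndependent_iff_card_eq_finrank_span.mpr h)
      have hle : (Set.range ![s a, s b]).finrank K ≤ Fintype.card (Fin 2) :=
        finrank_range_le_card _
      rw [Fintype.card_fin] at hne hle
      have hle1 : Module.finrank K (Submodule.span K (Set.range ![s a, s b])) ≤ 1 := by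
        have h3 : (Set.range ![s a, s b]).finrank K
            = Module.finrank K (Submodule.span K (Set.range ![s a, s b])) := rfl
        omega
      have hq := hsub (Submodule.span K (Set.range ![s a, s b])) {a, b} (by
        intro i hi
        rw [Finset.mem_insert, Finset.mem_singleton] at hi
        rcases hi with rfl | rfl
        · exact Submodule.subset_span ⟨0, rfl⟩
        · exact Submodule.subset_span ⟨1, rfl⟩)
      unfold PtQuiv.QWt at hq
      rw [Finset.sum_pair hab] at hq
      have hle1' : (Module.finrank K (Submodule.span K (Set.range ![s a, s b])) : ℚ) ≤ 1 := by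
        exact_mod_cast hle1
      linarith
    refine ⟨hLI, fun t ht => ?_⟩
    refine ⟨?_, fun U I' hUI => ?_⟩
    · rw [Fin.sum_univ_two, ← Finset.mul_sum, hsum']
      simp only [Matrix.cons_val_zero, Matrix.cons_val_one]
      have h3 : c * (θ a - 1) + c * (θ b - 1) + c * (2 - θ a - θ b) = 0 := by ring
      exact h3
    · rw [H9PQ.pwt_eq c (θ a - 1) (θ b - 1) (fun i : {i : κ // i ≠ a ∧ i ≠ b} => θ i.1) U I']
      obtain ⟨L, hLdef⟩ : ∃ L : Submodule K (Fin 2 → K),
          L = (U 0).map (LinearMap.toSpanSingleton K (Fin 2 → K) (s a))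
            ⊔ (U 1).map (LinearMap.toSpanSingleton K (Fin 2 → K) (s b)) := ⟨_, rfl⟩
      obtain ⟨I, hIdef⟩ : ∃ I : Finset κ,
          I = (I'.map ⟨Subtype.val, Subtype.val_injective⟩
            ∪ (if (1 : K) ∈ U 0 then {a} else ∅)) ∪ (if (1 : K) ∈ U 1 then {b} else ∅) :=
        ⟨_, rfl⟩
      have hmemI : ∀ i, i ∈ I ↔ ((∃ j ∈ I', (j : κ) = i) ∨ ((1 : K) ∈ U 0 ∧ i = a)
          ∨ ((1 : K) ∈ U 1 ∧ i = b)) := by
        intro i
        rw [hIdef, Finset.mem_union, Finset.mem_union, Finset.mem_map]
        constructor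
        · rintro ((⟨j, hj, hji⟩ | h) | h)
          · exact Or.inl ⟨j, hj, hji⟩
          · split_ifs at h with he
            · exact Or.inr (Or.inl ⟨he, Finset.mem_singleton.mp h⟩)
            · exact absurd h (Finset.notMem_empty _)
          · split_ifs at h with he
            · exact Or.inr (Or.inr ⟨he, Finset.mem_singleton.mp h⟩)
            · exact absurd h (Finset.notMem_empty _)
        · rintro (⟨j, hj, hji⟩ | ⟨he, hi⟩ | ⟨he, hi⟩)
          · exact Or.inl (Or.inl ⟨j, hj, hji⟩)
          · exact Or.inl (Or.inr (by rw [if_pos he]; exact Finset.mem_singleton.mpr hi))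
          · exact Or.inr (by rw [if_pos he]; exact Finset.mem_singleton.mpr hi)
      have hsubrep : PtQuiv.QSubrep s L I := by
        intro i hi
        rw [hLdef]
        rcases (hmemI i).mp hi with ⟨j, hj, rfl⟩ | ⟨he, rfl⟩ | ⟨he, rfl⟩
        · rw [ht j]
          exact Submodule.add_mem _ (Submodule.mem_sup_left ⟨t j 0, hUI j hj 0, rfl⟩)
            (Submodule.mem_sup_right ⟨t j 1, hUI j hj 1, rfl⟩)
        · exact Submodule.mem_sup_left ⟨1, he, by simp⟩
        · exact Submodule.mem_sup_right ⟨1, he, by simp⟩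
      have hq := hsub L I hsubrep
      unfold PtQuiv.QWt at hq
      have hfin : Module.finrank K L ≤ Module.finrank K (U 0) + Module.finrank K (U 1) := by
        rw [hLdef]
        refine (Submodule.finrank_add_le_finrank_add_finrank _ _).trans ?_
        exact Nat.add_le_add (Submodule.finrank_map_le _ _) (Submodule.finrank_map_le _ _)
      have hfin' : (Module.finrank K L : ℚ)
          ≤ (Module.finrank K (U 0) : ℚ) + (Module.finrank K (U 1) : ℚ) := by
        exact_mod_cast hfin
      have hsplit := H9PQ.sum_split a b hab θ I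
      have hsubt : I.subtype (fun i => i ≠ a ∧ i ≠ b) = I' := by
        ext j
        rw [Finset.mem_subtype, hmemI]
        constructor
        · rintro (⟨j', hj', hjj'⟩ | ⟨_, hja⟩ | ⟨_, hjb⟩)
          · have h3 : j' = j := Subtype.ext hjj'
            rw [← h3]; exact hj'
          · exact absurd hja j.2.1
          · exact absurd hjb j.2.2
        · intro hj; exact Or.inl ⟨j, hj, rfl⟩
      have haI : a ∈ I ↔ (1 : K) ∈ U 0 := by
        rw [hmemI]
        constructor
        · rintro (⟨j, _, hja⟩ | ⟨he, _⟩ | ⟨_, hab'⟩)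
          · exact absurd hja j.2.1
          · exact he
          · exact absurd hab' hab
        · intro he; exact Or.inr (Or.inl ⟨he, rfl⟩)
      have hbI : b ∈ I ↔ (1 : K) ∈ U 1 := by
        rw [hmemI]
        constructor
        · rintro (⟨j, _, hjb⟩ | ⟨_, hba⟩ | ⟨he, _⟩)
          · exact absurd hjb j.2.2
          · exact absurd hba hab.symm
          · exact he
        · intro he; exact Or.inr (Or.inr ⟨he, rfl⟩)
      rw [hsubt] at hsplit
      have hia : (if a ∈ I then θ a else 0) = (Module.finrank K (U 0) : ℚ) * θ a := by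
        rcases H9PQ.finrank_sub_K K (U 0) with ⟨e0, -, d0⟩ | ⟨e0, -, d0⟩
        · rw [if_pos (haI.mpr e0), d0]; simp
        · rw [if_neg (fun h => e0 (haI.mp h)), d0]; simp
      have hib : (if b ∈ I then θ b else 0) = (Module.finrank K (U 1) : ℚ) * θ b := by
        rcases H9PQ.finrank_sub_K K (U 1) with ⟨e1, -, d1⟩ | ⟨e1, -, d1⟩
        · rw [if_pos (hbI.mpr e1), d1]; simp
        · rw [if_neg (fun h => e1 (hbI.mp h)), d1]; simp
      rw [hia, hib] at hsplit
      have hX : (θ a - 1) * (Module.finrank K (U 0) : ℚ)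
          + (θ b - 1) * (Module.finrank K (U 1) : ℚ) + ∑ i ∈ I', θ i.1 ≤ 0 := by
        linarith
      have h3 := mul_le_mul_of_nonneg_left hX hc.le
      rwa [mul_zero] at h3
  · rintro ⟨hLI, hP⟩
    have hcard : Fintype.card (Fin 2) = Module.finrank K (Fin 2 → K) := by simp
    obtain ⟨B, hB⟩ : ∃ B : Module.Basis (Fin 2) K (Fin 2 → K), ⇑B = ![s a, s b] :=
      ⟨basisOfLinearIndependentOfCardEqFinrank hLI hcard,
        coe_basisOfLinearIndependentOfCardEqFinrank hLI hcard⟩
    have hB0 : B 0 = s a := by rw [hB]; rfl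
    have hB1 : B 1 = s b := by rw [hB]; rfl
    obtain ⟨t, htdef⟩ : ∃ t : {i : κ // i ≠ a ∧ i ≠ b} → (Fin 2 → K),
        ∀ i j, t i j = B.repr (s i.1) j := ⟨fun i j => B.repr (s i.1) j, fun i j => rfl⟩
    have ht : ∀ i, s i.1 = t i 0 • s a + t i 1 • s b := by
      intro i
      have h3 := B.sum_repr (s i.1)
      rw [Fin.sum_univ_two, hB0, hB1] at h3
      rw [htdef, htdef]; exact h3.symm
    obtain ⟨-, hPsub⟩ := hP t ht
    refine ⟨by rw [h2]; norm_num, fun L I hLI' => ?_⟩
    unfold PtQuiv.QWt
    obtain ⟨U, hUdef⟩ : ∃ U : Fin 2 → Submodule K K, ∀ j, U j = L.map (B.coord j) :=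
      ⟨fun j => L.map (B.coord j), fun j => rfl⟩
    have hPs : PtQuiv.PSubrep t U (I.subtype (fun i => i ≠ a ∧ i ≠ b)) := by
      intro i hi j
      rw [hUdef, htdef]
      exact ⟨s i.1, hLI' i.1 (Finset.mem_subtype.mp hi), by rw [Module.Basis.coord_apply]⟩
    have hp := hPsub U _ hPs
    rw [H9PQ.pwt_eq c (θ a - 1) (θ b - 1) (fun i : {i : κ // i ≠ a ∧ i ≠ b} => θ i.1) U] at hp
    have hX : (θ a - 1) * (Module.finrank K (U 0) : ℚ)
        + (θ b - 1) * (Module.finrank K (U 1) : ℚ)
        + ∑ i ∈ I.subtype (fun i => i ≠ a ∧ i ≠ b), θ i.1 ≤ 0 :=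
      le_of_mul_le_mul_left (by rw [mul_zero]; exact hp) hc
    have hsplit := H9PQ.sum_split a b hab θ I
    have hc00 : B.coord 0 (s a) = 1 := by
      rw [← hB0, Module.Basis.coord_apply, Module.Basis.repr_self, Finsupp.single_eq_same]
    have hc10 : B.coord 1 (s a) = 0 := by
      rw [← hB0, Module.Basis.coord_apply, Module.Basis.repr_self,
        Finsupp.single_eq_of_ne (by decide)]
    have hc01 : B.coord 0 (s b) = 0 := by
      rw [← hB1, Module.Basis.coord_apply, Module.Basis.repr_self,
        Finsupp.single_eq_of_ne (by decide)]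
    have hc11 : B.coord 1 (s b) = 1 := by
      rw [← hB1, Module.Basis.coord_apply, Module.Basis.repr_self, Finsupp.single_eq_same]
    have haU : a ∈ I → (1 : K) ∈ U 0 := fun ha => by
      rw [hUdef]; exact ⟨s a, hLI' a ha, hc00⟩
    have hbU : b ∈ I → (1 : K) ∈ U 1 := fun hb => by
      rw [hUdef]; exact ⟨s b, hLI' b hb, hc11⟩
    have hle2 : (Module.finrank K L : ℚ) ≤ 2 := by
      have h3 : Module.finrank K L ≤ Module.finrank K (Fin 2 → K) := Submodule.finrank_le L
      have h4 : Module.finrank K L ≤ 2 := by simpa using h3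
      exact_mod_cast h4
    have hnn : (0 : ℚ) ≤ (Module.finrank K L : ℚ) := Nat.cast_nonneg _
    have hI'le : ∑ i ∈ I.subtype (fun i => i ≠ a ∧ i ≠ b), θ i.1 ≤ 2 - θ a - θ b := by
      rw [← hsum']
      exact Finset.sum_le_univ_sum_of_nonneg (fun i => h0 i.1)
    have G1 : ∀ j : Fin 2, (1 : K) ∈ U j → (1 : ℚ) ≤ (Module.finrank K L : ℚ) := by
      intro j hj
      rw [hUdef] at hj
      obtain ⟨v, hv, hv1⟩ := hj
      have hne : Module.finrank K L ≠ 0 := by
        intro h0'
        have hbot : L = ⊥ := Submodule.finrank_eq_zero.mp h0'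
        rw [hbot] at hv
        have hv0 : v = 0 := (Submodule.mem_bot K).mp hv
        rw [hv0, map_zero] at hv1
        exact zero_ne_one hv1
      have h3 : 1 ≤ Module.finrank K L := Nat.one_le_iff_ne_zero.mpr hne
      exact_mod_cast h3
    have G2a : (1 : K) ∈ U 1 → a ∈ I → (2 : ℚ) ≤ (Module.finrank K L : ℚ) := by
      intro he1 ha
      rw [hUdef] at he1
      obtain ⟨v, hv, hv1⟩ := he1
      have h3 := H9PQ.two_le_finrank_of L (s a) v (hLI' a ha) hv (B.coord 0) (B.coord 1)
        hc00 hc10 hv1
      exact_mod_cast h3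
    have G2b : (1 : K) ∈ U 0 → b ∈ I → (2 : ℚ) ≤ (Module.finrank K L : ℚ) := by
      intro he0 hb
      rw [hUdef] at he0
      obtain ⟨v, hv, hv1⟩ := he0
      have h3 := H9PQ.two_le_finrank_of L (s b) v (hLI' b hb) hv (B.coord 1) (B.coord 0)
        hc11 hc01 hv1
      exact_mod_cast h3
    obtain ⟨ia, hia⟩ : ∃ ia : ℚ, ia = if a ∈ I then θ a else 0 := ⟨_, rfl⟩
    obtain ⟨ib, hib⟩ : ∃ ib : ℚ, ib = if b ∈ I then θ b else 0 := ⟨_, rfl⟩
    rw [← hia, ← hib] at hsplit
    have hia_le : ia ≤ θ a := by
      rw [hia]; split_ifs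
      · exact le_refl _
      · exact h0 a
    have hib_le : ib ≤ θ b := by
      rw [hib]; split_ifs
      · exact le_refl _
      · exact h0 b
    have hia0 : a ∉ I → ia = 0 := fun h => by rw [hia, if_neg h]
    have hib0 : b ∉ I → ib = 0 := fun h => by rw [hib, if_neg h]
    have hθa := h0 a
    have hθb := h0 b
    rcases H9PQ.finrank_sub_K K (U 0) with ⟨e0, -, d0⟩ | ⟨e0, -, d0⟩ <;>
    rcases H9PQ.finrank_sub_K K (U 1) with ⟨e1, -, d1⟩ | ⟨e1, -, d1⟩
    · rw [d0, d1] at hX
      have hn1 := G1 0 e0
      by_cases ha : a ∈ I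
      · have hn2 := G2a e1 ha
        linarith
      · by_cases hb : b ∈ I
        · have hn2 := G2b e0 hb
          linarith
        · have h5 := hia0 ha
          have h6 := hib0 hb
          linarith
    · rw [d0, d1] at hX
      have hn1 := G1 0 e0
      have h6 := hib0 (fun hb => e1 (hbU hb))
      push_cast at hX
      linarith
    · rw [d0, d1] at hX
      have hn1 := G1 1 e1
      have h5 := hia0 (fun ha => e0 (haU ha))
      push_cast at hX
      linarith
    · rw [d0, d1] at hX
      have h5 := hia0 (fun ha => e0 (haU ha))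
      have h6 := hib0 (fun hb => e1 (hbU hb))
      push_cast at hX
      linarith

end Groth.Agent.S18562
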