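import Groth.Statements.S18563
import Mathlib
import Groth.Agent.Lib.helper9.PtQuivLib2
import Groth.Agent.S18562

set_option autoImplicit false
universe u v
open PtQuiv

namespace Groth.Agent.S18563

/-- Let K be a field, κ a finite index type with a ≠ b, and s i ∈ K² a representation of the quiver with
a central vertex carrying the plane and one vertex per i : κ carrying a line mapping to the plane by
1 ↦ s i. Let θ be a weight of the hypersimplex (0 ≤ θ i ≤ 1, Σ θ i = 2, central weight -1) with 1 <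
θ a + θ b < 2, and put c = 1 / (2 - θ a - θ b). Then s is θ-stable if and only if s a, s b are
linearly independent and, writing every other s i = t i 0 • s a + t i 1 • s b, the representation t
of the quiver with two one-dimensional sinks p₀, p₁ and one one-dimensional source per i ≠ a, b
(arrow to p_j given by t i j) is stable for the weight c (θ a - 1) at p₀, c (θ b - 1) at p₁ and c θ
i at the sources. (The published statement is about representations over a base scheme, with
(semi)stability tested on geometric fibres, that is over algebraically closed fields; this row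
states the fibrewise content over an arbitrary field.) -/
theorem result (K : Type u) [Field K]
    (κ : Type v) [Fintype κ] [DecidableEq κ] (a b : κ) (hab : a ≠ b) (s : κ → (Fin 2 → K))
    (θ : κ → ℚ) (h0 : ∀ i, 0 ≤ θ i) (h1 : ∀ i, θ i ≤ 1) (h2 : ∑ i, θ i = 2)
    (hθ : 1 < θ a + θ b) (hθ' : θ a + θ b < 2) :
    PtQuiv.QStable (-1) θ s ↔
      (LinearIndependent K ![s a, s b] ∧
        ∀ t : {i : κ // i ≠ a ∧ i ≠ b} → (Fin 2 → K),
          (∀ i, s i.1 = t i 0 • s a + t i 1 • s b) →
            PtQuiv.PStable ![(2 - θ a - θ b)⁻¹ * (θ a - 1), (2 - θ a - θ b)⁻¹ * (θ b - 1)]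
              (fun i : {i : κ // i ≠ a ∧ i ≠ b} => (2 - θ a - θ b)⁻¹ * θ i.1) t) := by
  classical
  have hsemi := Groth.Agent.S18562.result K κ a b hab s θ h0 h1 h2 hθ hθ'
  obtain ⟨c, hcdef⟩ : ∃ c : ℚ, c = (2 - θ a - θ b)⁻¹ := ⟨_, rfl⟩
  rw [← hcdef] at hsemi ⊢
  have hS'pos : 0 < 2 - θ a - θ b := by linarith
  have hc : 0 < c := by rw [hcdef]; exact inv_pos.mpr hS'pos
  have hsum' : ∑ i : {i : κ // i ≠ a ∧ i ≠ b}, θ i.1 = 2 - θ a - θ b := by
    have h3 := H9PQ.sum_split a b hab θ Finset.univ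
    rw [Finset.subtype_univ, h2] at h3
    simp only [Finset.mem_univ, if_true] at h3
    linarith
  have hθa_pos : 0 < θ a := by linarith [h1 b]
  have hθb_pos : 0 < θ b := by linarith [h1 a]
  have hbot0 : ∀ j : Fin 2, ¬ ((1 : K) ∈ (⊥ : Fin 2 → Submodule K K) j) := by
    intro j hj
    have h3 : (1 : K) ∈ (⊥ : Submodule K K) := hj
    exact one_ne_zero ((Submodule.mem_bot K).mp h3)
  have htop1 : ∀ j : Fin 2, (1 : K) ∈ (⊤ : Fin 2 → Submodule K K) j := by
    intro j
    show (1 : K) ∈ (⊤ : Submodule K K)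
    exact Submodule.mem_top
  constructor
  · rintro ⟨hss, hst⟩
    obtain ⟨hLI, hPss⟩ := hsemi.mp hss
    refine ⟨hLI, fun t ht => ⟨hPss t ht, fun U I' hUI hw => ?_⟩⟩
    rw [H9PQ.pwt_eq c (θ a - 1) (θ b - 1) (fun i : {i : κ // i ≠ a ∧ i ≠ b} => θ i.1) U I'] at hw
    have hX : (θ a - 1) * (Module.finrank K (U 0) : ℚ)
        + (θ b - 1) * (Module.finrank K (U 1) : ℚ) + ∑ i ∈ I', θ i.1 = 0 :=
      (mul_eq_zero.mp hw).resolve_left hc.ne'
    obtain ⟨L, I, hsub, hfin, hsubt, haI, hbI⟩ := H9PQ.fwd_data a b hab s t ht U I' hUI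
    have hq := hss.2 L I hsub
    unfold PtQuiv.QWt at hq
    have hfin' : (Module.finrank K L : ℚ)
        ≤ (Module.finrank K (U 0) : ℚ) + (Module.finrank K (U 1) : ℚ) := by
      exact_mod_cast hfin
    have hsplit := H9PQ.sum_split a b hab θ I
    rw [hsubt] at hsplit
    have hia : (if a ∈ I then θ a else 0) = (Module.finrank K (U 0) : ℚ) * θ a := by
      rcases H9PQ.finrank_sub_K K (U 0) with ⟨e0, -, d0⟩ | ⟨e0, -, d0⟩
      · rw [if_pos (haI.mpr e0), d0]; simp
      · rw [if_neg (fun h => e0 (haI.mp h)), d0]; simp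
    have hib : (if b ∈ I then θ b else 0) = (Module.finrank K (U 1) : ℚ) * θ b := by
      rcases H9PQ.finrank_sub_K K (U 1) with ⟨e1, -, d1⟩ | ⟨e1, -, d1⟩
      · rw [if_pos (hbI.mpr e1), d1]; simp
      · rw [if_neg (fun h => e1 (hbI.mp h)), d1]; simp
    rw [hia, hib] at hsplit
    have hq0 : PtQuiv.QWt K (-1) θ L I = 0 := by
      unfold PtQuiv.QWt
      linarith
    rcases hst L I hsub hq0 with ⟨-, hI⟩ | ⟨-, hI⟩
    · left
      have ha : a ∉ I := by rw [hI]; exact Finset.notMem_empty a
      have hb : b ∉ I := by rw [hI]; exact Finset.notMem_empty b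
      have hU0 : U 0 = ⊥ := by
        rcases H9PQ.finrank_sub_K K (U 0) with ⟨e0, -, -⟩ | ⟨-, hU, -⟩
        · exact absurd (haI.mpr e0) ha
        · exact hU
      have hU1 : U 1 = ⊥ := by
        rcases H9PQ.finrank_sub_K K (U 1) with ⟨e1, -, -⟩ | ⟨-, hU, -⟩
        · exact absurd (hbI.mpr e1) hb
        · exact hU
      refine ⟨funext (Fin.forall_fin_two.mpr ⟨hU0, hU1⟩), ?_⟩
      rw [← hsubt, hI]
      rfl
    · right
      have ha : a ∈ I := by rw [hI]; exact Finset.mem_univ a
      have hb : b ∈ I := by rw [hI]; exact Finset.mem_univ b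
      have hU0 : U 0 = ⊤ := by
        rcases H9PQ.finrank_sub_K K (U 0) with ⟨-, hU, -⟩ | ⟨e0, -, -⟩
        · exact hU
        · exact absurd (haI.mp ha) e0
      have hU1 : U 1 = ⊤ := by
        rcases H9PQ.finrank_sub_K K (U 1) with ⟨-, hU, -⟩ | ⟨e1, -, -⟩
        · exact hU
        · exact absurd (hbI.mp hb) e1
      refine ⟨funext (Fin.forall_fin_two.mpr ⟨hU0, hU1⟩), ?_⟩
      rw [← hsubt, hI, Finset.subtype_univ]
  · rintro ⟨hLI, hP⟩
    have hss : PtQuiv.QSemistable (-1) θ s :=
      hsemi.mpr ⟨hLI, fun t ht => (hP t ht).1⟩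
    refine ⟨hss, fun L I hLI' hw => ?_⟩
    have hcard : Fintype.card (Fin 2) = Module.finrank K (Fin 2 → K) := by simp
    obtain ⟨B, hB⟩ : ∃ B : Module.Basis (Fin 2) K (Fin 2 → K), ⇑B = ![s a, s b] :=
      ⟨basisOfLinearIndependentOfCardEqFinrank hLI hcard,
        coe_basisOfLinearIndependentOfCardEqFinrank hLI hcard⟩
    have hB0 : B 0 = s a := by rw [hB]; rfl
    have hB1 : B 1 = s b := by rw [hB]; rfl
    obtain ⟨t, htdef⟩ : ∃ t : {i : κ // i ≠ a ∧ i ≠ b} → (Fin 2 → K),
        ∀ i j, t i j = B.repr (s i.1) j := ⟨fun i j => B.repr (s i.1) j, fun i j => rfl⟩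
    have ht : ∀ i, s i.1 = t i 0 • s a + t i 1 • s b := by
      intro i
      have h3 := B.sum_repr (s i.1)
      rw [Fin.sum_univ_two, hB0, hB1] at h3
      rw [htdef, htdef]; exact h3.symm
    obtain ⟨hPss, hPst⟩ := hP t ht
    obtain ⟨U, hPs, haU, hbU, G1, G2a, G2b⟩ :=
      H9PQ.bwd_data a b s B hB0 hB1 t htdef L I hLI'
    have hp := hPss.2 U _ hPs
    rw [H9PQ.pwt_eq c (θ a - 1) (θ b - 1) (fun i : {i : κ // i ≠ a ∧ i ≠ b} => θ i.1) U] at hp
    have hX : (θ a - 1) * (Module.finrank K (U 0) : ℚ)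
        + (θ b - 1) * (Module.finrank K (U 1) : ℚ)
        + ∑ i ∈ I.subtype (fun i => i ≠ a ∧ i ≠ b), θ i.1 ≤ 0 :=
      le_of_mul_le_mul_left (by rw [mul_zero]; exact hp) hc
    have hPst' : (θ a - 1) * (Module.finrank K (U 0) : ℚ)
        + (θ b - 1) * (Module.finrank K (U 1) : ℚ)
        + ∑ i ∈ I.subtype (fun i => i ≠ a ∧ i ≠ b), θ i.1 = 0 →
        (U = ⊥ ∧ I.subtype (fun i => i ≠ a ∧ i ≠ b) = ∅) ∨
          (U = ⊤ ∧ I.subtype (fun i => i ≠ a ∧ i ≠ b) = Finset.univ) := by
      intro hX0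
      refine hPst U _ hPs ?_
      rw [H9PQ.pwt_eq c (θ a - 1) (θ b - 1) (fun i : {i : κ // i ≠ a ∧ i ≠ b} => θ i.1) U,
        hX0, mul_zero]
    unfold PtQuiv.QWt at hw
    have hsplit := H9PQ.sum_split a b hab θ I
    have hle2N : Module.finrank K L ≤ 2 := by
      have h3 : Module.finrank K L ≤ Module.finrank K (Fin 2 → K) := Submodule.finrank_le L
      simpa using h3
    have hle2 : (Module.finrank K L : ℚ) ≤ 2 := by exact_mod_cast hle2N
    have hnn : (0 : ℚ) ≤ (Module.finrank K L : ℚ) := Nat.cast_nonneg _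
    have hI'le : ∑ i ∈ I.subtype (fun i => i ≠ a ∧ i ≠ b), θ i.1 ≤ 2 - θ a - θ b := by
      rw [← hsum']
      exact Finset.sum_le_univ_sum_of_nonneg (fun i => h0 i.1)
    have G1' : ∀ j : Fin 2, (1 : K) ∈ U j → (1 : ℚ) ≤ (Module.finrank K L : ℚ) := by
      intro j hj
      have h3 := G1 j hj
      exact_mod_cast h3
    obtain ⟨ia, hia⟩ : ∃ ia : ℚ, ia = if a ∈ I then θ a else 0 := ⟨_, rfl⟩
    obtain ⟨ib, hib⟩ : ∃ ib : ℚ, ib = if b ∈ I then θ b else 0 := ⟨_, rfl⟩
    rw [← hia, ← hib] at hsplit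
    have hia_le : ia ≤ θ a := by
      rw [hia]; split_ifs
      · exact le_refl _
      · exact h0 a
    have hib_le : ib ≤ θ b := by
      rw [hib]; split_ifs
      · exact le_refl _
      · exact h0 b
    have hia0 : a ∉ I → ia = 0 := fun h => by rw [hia, if_neg h]
    have hib0 : b ∉ I → ib = 0 := fun h => by rw [hib, if_neg h]
    have hθa := h0 a
    have hθb := h0 b
    rcases H9PQ.finrank_sub_K K (U 0) with ⟨e0, -, d0⟩ | ⟨e0, -, d0⟩ <;>
    rcases H9PQ.finrank_sub_K K (U 1) with ⟨e1, -, d1⟩ | ⟨e1, -, d1⟩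
    · have d0q : (Module.finrank K (U 0) : ℚ) = 1 := by rw [d0]; norm_num
      have d1q : (Module.finrank K (U 1) : ℚ) = 1 := by rw [d1]; norm_num
      rw [d0q, d1q] at hX hPst'
      have hn1 := G1' 0 e0
      by_cases hab' : a ∈ I ∨ b ∈ I
      · have hn2N : 2 ≤ Module.finrank K L := hab'.elim (G2a e1) (G2b e0)
        have hn2 : (2 : ℚ) ≤ (Module.finrank K L : ℚ) := by exact_mod_cast hn2N
        have hia_eq : ia = θ a := by linarith
        have hib_eq : ib = θ b := by linarith
        have haI : a ∈ I := by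
          by_contra h
          have h5 := hia0 h
          linarith
        have hbI : b ∈ I := by
          by_contra h
          have h5 := hib0 h
          linarith
        rcases hPst' (by linarith) with ⟨hU, -⟩ | ⟨-, hI'⟩
        · exact absurd (hU ▸ e0) (hbot0 0)
        · right
          refine ⟨?_, ?_⟩
          · apply Submodule.eq_top_of_finrank_eq
            rw [← hcard, Fintype.card_fin]
            omega
          · rw [Finset.eq_univ_iff_forall]
            intro i
            by_cases hia' : i = a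
            · rw [hia']; exact haI
            · by_cases hib' : i = b
              · rw [hib']; exact hbI
              · have h5 : (⟨i, hia', hib'⟩ : {i : κ // i ≠ a ∧ i ≠ b})
                    ∈ I.subtype (fun i => i ≠ a ∧ i ≠ b) := by
                  rw [hI']; exact Finset.mem_univ _
                exact Finset.mem_subtype.mp h5
      · have hna : a ∉ I := fun h => hab' (Or.inl h)
        have hnb : b ∉ I := fun h => hab' (Or.inr h)
        have h5 := hia0 hna
        have h6 := hib0 hnb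
        exfalso
        linarith
    · have d0q : (Module.finrank K (U 0) : ℚ) = 1 := by rw [d0]; norm_num
      have d1q : (Module.finrank K (U 1) : ℚ) = 0 := by rw [d1]; norm_num
      rw [d0q, d1q] at hX hPst'
      have hn1 := G1' 0 e0
      have h6 := hib0 (fun hb => e1 (hbU hb))
      exfalso
      rcases hPst' (by linarith) with ⟨hU, -⟩ | ⟨hU, -⟩
      · exact absurd (hU ▸ e0) (hbot0 0)
      · exact e1 (hU ▸ htop1 1)
    · have d0q : (Module.finrank K (U 0) : ℚ) = 0 := by rw [d0]; norm_num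
      have d1q : (Module.finrank K (U 1) : ℚ) = 1 := by rw [d1]; norm_num
      rw [d0q, d1q] at hX hPst'
      have hn1 := G1' 1 e1
      have h5 := hia0 (fun ha => e0 (haU ha))
      exfalso
      rcases hPst' (by linarith) with ⟨hU, -⟩ | ⟨hU, -⟩
      · exact absurd (hU ▸ e1) (hbot0 1)
      · exact e0 (hU ▸ htop1 0)
    · have d0q : (Module.finrank K (U 0) : ℚ) = 0 := by rw [d0]; norm_num
      have d1q : (Module.finrank K (U 1) : ℚ) = 0 := by rw [d1]; norm_num
      rw [d0q, d1q] at hX hPst'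
      have hna : a ∉ I := fun ha => e0 (haU ha)
      have hnb : b ∉ I := fun hb => e1 (hbU hb)
      have h5 := hia0 hna
      have h6 := hib0 hnb
      rcases hPst' (by linarith) with ⟨-, hI'⟩ | ⟨hU, -⟩
      · left
        refine ⟨?_, ?_⟩
        · apply Submodule.finrank_eq_zero.mp
          have h7 : (Module.finrank K L : ℚ) = 0 := by linarith
          exact_mod_cast h7
        · apply Finset.eq_empty_of_forall_notMem
          intro i hi
          by_cases hia' : i = a
          · exact hna (hia' ▸ hi)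
          · by_cases hib' : i = b
            · exact hnb (hib' ▸ hi)
            · have h7 : (⟨i, hia', hib'⟩ : {i : κ // i ≠ a ∧ i ≠ b})
                  ∈ I.subtype (fun i => i ≠ a ∧ i ≠ b) := Finset.mem_subtype.mpr hi
              rw [hI'] at h7
              exact absurd h7 (Finset.notMem_empty _)
      · exact absurd (hU ▸ htop1 0) e0

end Groth.Agent.S18563
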