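import Groth.Statements.S18589
import Mathlib

set_option autoImplicit false
open CAlg

namespace Groth.Agent.S18589

/-- For a prime p and every natural number n, the n-th Witt addition polynomial over the integers (the
polynomial S_n with (x + y)_n = S_n(x_0, y_0, …, x_n, y_n) for p-typical Witt vectors x, y) is
weighted homogeneous of weighted degree p ^ n for the grading in which the variables x_i and y_i
have weight p ^ i. -/
theorem result (p : ℕ) [Fact p.Prime] (n : ℕ) :
    MvPolynomial.IsWeightedHomogeneous (fun i : Fin 2 × ℕ => p ^ i.2) (WittVector.wittAdd p n) (p ^ n) := by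
  have hp : p.Prime := Fact.out
  induction n using Nat.strong_induction_on with
  | _ n ih =>
    have hprop := wittStructureInt_prop p
      (MvPolynomial.X 0 + MvPolynomial.X 1 : MvPolynomial (Fin 2) ℤ) n
    have hL : MvPolynomial.bind₁ (wittStructureInt p (MvPolynomial.X 0 + MvPolynomial.X 1 : MvPolynomial (Fin 2) ℤ))
        (wittPolynomial p ℤ n) =
        ∑ i ∈ Finset.range (n + 1), MvPolynomial.C ((p : ℤ) ^ i) * (WittVector.wittAdd p i) ^ p ^ (n - i) := by
      rw [wittPolynomial_eq_sum_C_mul_X_pow, map_sum]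
      apply Finset.sum_congr rfl
      intro i _
      simp only [map_mul, map_pow, MvPolynomial.bind₁_C_right, MvPolynomial.bind₁_X_right]
      try rfl
    have hR : MvPolynomial.bind₁ (fun i : Fin 2 => MvPolynomial.rename (Prod.mk i) (wittPolynomial p ℤ n))
        (MvPolynomial.X 0 + MvPolynomial.X 1 : MvPolynomial (Fin 2) ℤ) =
        ∑ i ∈ Finset.range (n + 1), MvPolynomial.C ((p : ℤ) ^ i) * MvPolynomial.X ((0 : Fin 2), i) ^ p ^ (n - i) +
        ∑ i ∈ Finset.range (n + 1), MvPolynomial.C ((p : ℤ) ^ i) * MvPolynomial.X ((1 : Fin 2), i) ^ p ^ (n - i) := by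
      rw [map_add, MvPolynomial.bind₁_X_right, MvPolynomial.bind₁_X_right,
        wittPolynomial_eq_sum_C_mul_X_pow, map_sum, map_sum]
      congr 1
      · apply Finset.sum_congr rfl
        intro i _
        simp only [map_mul, map_pow, MvPolynomial.rename_C, MvPolynomial.rename_X]
      · apply Finset.sum_congr rfl
        intro i _
        simp only [map_mul, map_pow, MvPolynomial.rename_C, MvPolynomial.rename_X]
    rw [hL, hR, Finset.sum_range_succ] at hprop
    have e : MvPolynomial.C ((p : ℤ) ^ n) * WittVector.wittAdd p n =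
        (∑ i ∈ Finset.range (n + 1), MvPolynomial.C ((p : ℤ) ^ i) * MvPolynomial.X ((0 : Fin 2), i) ^ p ^ (n - i) +
        ∑ i ∈ Finset.range (n + 1), MvPolynomial.C ((p : ℤ) ^ i) * MvPolynomial.X ((1 : Fin 2), i) ^ p ^ (n - i)) -
        ∑ i ∈ Finset.range n, MvPolynomial.C ((p : ℤ) ^ i) * (WittVector.wittAdd p i) ^ p ^ (n - i) := by
      rw [← hprop, Nat.sub_self, pow_zero, pow_one]
      ring
    have hX : ∀ b : Fin 2, MvPolynomial.IsWeightedHomogeneous (fun i : Fin 2 × ℕ => p ^ i.2)
        (∑ i ∈ Finset.range (n + 1), MvPolynomial.C ((p : ℤ) ^ i) * MvPolynomial.X (b, i) ^ p ^ (n - i) :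
          MvPolynomial (Fin 2 × ℕ) ℤ) (p ^ n) := by
      intro b
      apply MvPolynomial.IsWeightedHomogeneous.sum
      intro i hi
      have hi' : i ≤ n := by have := Finset.mem_range.mp hi; omega
      have h1 := ((MvPolynomial.isWeightedHomogeneous_X (R := ℤ) (fun i : Fin 2 × ℕ => p ^ i.2) (b, i)).pow
        (p ^ (n - i))).C_mul ((p : ℤ) ^ i)
      have e1 : p ^ (n - i) • ((fun i : Fin 2 × ℕ => p ^ i.2) (b, i)) = p ^ n := by
        simp only [smul_eq_mul, ← pow_add]
        rw [Nat.sub_add_cancel hi']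
      rw [e1] at h1
      exact h1
    have hS : MvPolynomial.IsWeightedHomogeneous (fun i : Fin 2 × ℕ => p ^ i.2)
        (∑ i ∈ Finset.range n, MvPolynomial.C ((p : ℤ) ^ i) * (WittVector.wittAdd p i) ^ p ^ (n - i))
        (p ^ n) := by
      apply MvPolynomial.IsWeightedHomogeneous.sum
      intro i hi
      have hi' : i < n := Finset.mem_range.mp hi
      have h1 := ((ih i hi').pow (p ^ (n - i))).C_mul ((p : ℤ) ^ i)
      have e1 : p ^ (n - i) • (p ^ i) = p ^ n := by
        simp only [smul_eq_mul, ← pow_add]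
        rw [Nat.sub_add_cancel hi'.le]
      rw [e1] at h1
      exact h1
    have hmain : MvPolynomial.IsWeightedHomogeneous (fun i : Fin 2 × ℕ => p ^ i.2)
        (MvPolynomial.C ((p : ℤ) ^ n) * WittVector.wittAdd p n) (p ^ n) := by
      rw [e]
      exact ((hX 0).add (hX 1)).sub hS
    intro d hd
    apply hmain
    rw [MvPolynomial.coeff_C_mul]
    exact mul_ne_zero (pow_ne_zero _ (Nat.cast_ne_zero.mpr hp.ne_zero)) hd

end Groth.Agent.S18589
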