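import Groth.Statements.S18590
import Mathlib
import Groth.Agent.S18589

set_option autoImplicit false
universe u
open CAlg

namespace Groth.Agent.S18590

open MvPolynomial in
lemma h9_wittRatMul_whom (p : ℕ) [hp : Fact p.Prime] (n : ℕ) :
    MvPolynomial.IsWeightedHomogeneous (fun i : Fin 2 × ℕ => if i.1 = 1 then p ^ i.2 else 0)
      (wittStructureRat p (X 0 * X 1 : MvPolynomial (Fin 2) ℚ) n) (p ^ n) := by
  induction n using Nat.strong_induction_on with
  | _ n ih =>
    rw [wittStructureRat_rec]
    apply MvPolynomial.IsWeightedHomogeneous.C_mul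
    apply MvPolynomial.IsWeightedHomogeneous.sub
    · have hW : ∀ b : Fin 2, MvPolynomial.IsWeightedHomogeneous
          (fun i : Fin 2 × ℕ => if i.1 = 1 then p ^ i.2 else 0)
          (rename (fun i => (b, i)) (wittPolynomial p ℚ n)) (if b = 1 then p ^ n else 0) := by
        intro b
        rw [wittPolynomial_eq_sum_C_mul_X_pow, map_sum]
        apply MvPolynomial.IsWeightedHomogeneous.sum
        intro i hi
        rw [map_mul, rename_C]
        apply MvPolynomial.IsWeightedHomogeneous.C_mul
        rw [map_pow, rename_X]
        have h1 := (MvPolynomial.isWeightedHomogeneous_X (R := ℚ)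
          (fun i : Fin 2 × ℕ => if i.1 = 1 then p ^ i.2 else 0) (b, i)).pow (p ^ (n - i))
        have h2 : p ^ (n - i) • (if ((b, i) : Fin 2 × ℕ).1 = 1 then p ^ ((b, i) : Fin 2 × ℕ).2 else 0) =
            (if b = 1 then p ^ n else 0) := by
          by_cases hb : b = 1
          · simp only [hb, if_true]
            rw [smul_eq_mul, ← pow_add]
            congr 1
            have := Finset.mem_range.1 hi
            omega
          · simp [hb]
        rw [h2] at h1
        exact h1
      rw [map_mul, bind₁_X_right, bind₁_X_right]
      have := (hW 0).mul (hW 1)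
      simpa using this
    · apply MvPolynomial.IsWeightedHomogeneous.sum
      intro i hi
      apply MvPolynomial.IsWeightedHomogeneous.C_mul
      have h1 := (ih i (Finset.mem_range.1 hi)).pow (p ^ (n - i))
      have h2 : p ^ (n - i) • p ^ i = p ^ n := by
        rw [smul_eq_mul, ← pow_add]
        congr 1
        have := Finset.mem_range.1 hi
        omega
      rw [h2] at h1
      exact h1

lemma h9_wittMul_whom (p : ℕ) [Fact p.Prime] (n : ℕ) :
    MvPolynomial.IsWeightedHomogeneous (fun i : Fin 2 × ℕ => if i.1 = 1 then p ^ i.2 else 0)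
      (WittVector.wittMul p n) (p ^ n) := by
  intro d hd
  have h := h9_wittRatMul_whom p n
  have hmap : MvPolynomial.map (Int.castRingHom ℚ) (WittVector.wittMul p n) =
      wittStructureRat p (MvPolynomial.X 0 * MvPolynomial.X 1 : MvPolynomial (Fin 2) ℚ) n := by
    rw [WittVector.wittMul, map_wittStructureInt]
    simp
  apply h
  rw [← hmap, MvPolynomial.coeff_map]
  simpa using hd

lemma h9_aeval_mem {A K σ : Type*} [CommRing A] [CommRing K] [Algebra A K]
    (N : ℕ → Submodule A K) [SetLike.GradedMonoid N]
    (w : σ → ℕ) (f : σ → K) (hf : ∀ i, f i ∈ N (w i)) (P : MvPolynomial σ ℤ) (m : ℕ)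
    (hP : MvPolynomial.IsWeightedHomogeneous w P m) : MvPolynomial.aeval f P ∈ N m := by
  rw [MvPolynomial.aeval_def, MvPolynomial.eval₂_eq]
  apply Submodule.sum_mem
  intro d hd
  have hc : MvPolynomial.coeff d P ≠ 0 := MvPolynomial.mem_support_iff.1 hd
  have hw : Finsupp.weight w d = m := hP hc
  have hprod : ∏ i ∈ d.support, f i ^ d i ∈ N m := by
    rw [← hw, Finsupp.weight_apply, Finsupp.sum]
    exact SetLike.prod_pow_mem_graded N w f d (fun k _ => hf k)
  rw [← Algebra.smul_def]
  exact zsmul_mem hprod _

/-- Let p be a prime, A a commutative ring, K a commutative A-algebra of characteristic p and M_0, M_1,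
M_2, … A-submodules of K with M_i · M_j ⊆ M_(i+j) for all i, j. Then the subset of the ring W(K) of
p-typical Witt vectors consisting of the vectors whose n-th coordinate lies in M_(p^n) for every n
is closed under addition and under multiplication by the image of W(A) under W of the structure map;
in other words it is a W(A)-submodule of W(K). (The published statement is the case of an integral
normal noetherian scheme X of characteristic p with function field K, an affine open subset U with
coordinate ring A, and M_k the module of sections over U of the divisorial sheaf of k·D for a real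
Weil divisor D on X; these form such a multiplicative family, and the subset is then the module of
sections over U of the Witt divisorial sheaf of D inside W(K). Only the two stated properties of
that family enter.) -/
theorem result
    (p : ℕ) [Fact p.Prime] (A K : Type u) [CommRing A] [CommRing K] [Algebra A K] [CharP K p]
    (M : ℕ → Submodule A K)
    (hmul : ∀ (i j : ℕ) (a b : K), a ∈ M i → b ∈ M j → a * b ∈ M (i + j)) :
    (∀ φ ψ : WittVector p K, (∀ n : ℕ, φ.coeff n ∈ M (p ^ n)) → (∀ n : ℕ, ψ.coeff n ∈ M (p ^ n)) →
        ∀ n : ℕ, (φ + ψ).coeff n ∈ M (p ^ n)) ∧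
      (∀ (x : WittVector p A) (φ : WittVector p K), (∀ n : ℕ, φ.coeff n ∈ M (p ^ n)) →
        ∀ n : ℕ, (WittVector.map (algebraMap A K) x * φ).coeff n ∈ M (p ^ n)) := by
  have hp0 : ∀ n : ℕ, p ^ n ≠ 0 := fun n => pow_ne_zero n (Fact.out : p.Prime).ne_zero
  let N : ℕ → Submodule A K := fun j => if j = 0 then 1 else M j
  have hN0 : N 0 = 1 := by simp [N]
  have hNpos : ∀ j, j ≠ 0 → N j = M j := fun j hj => by simp [N, hj]
  have : SetLike.GradedMonoid N :=
    { one_mem := by rw [hN0]; exact Submodule.one_le.1 le_rfl
      mul_mem := by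
        intro i j x y hx hy
        by_cases hi : i = 0
        · subst hi
          rw [hN0, Submodule.mem_one] at hx
          obtain ⟨a, rfl⟩ := hx
          rw [zero_add, ← Algebra.smul_def]
          exact Submodule.smul_mem _ _ hy
        · by_cases hj : j = 0
          · subst hj
            rw [hN0, Submodule.mem_one] at hy
            obtain ⟨a, rfl⟩ := hy
            rw [add_zero, mul_comm, ← Algebra.smul_def]
            exact Submodule.smul_mem _ _ hx
          · rw [hNpos i hi] at hx
            rw [hNpos j hj] at hy
            rw [hNpos (i + j) (by omega)]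
            exact hmul i j x y hx hy }
  constructor
  · intro φ ψ hφ hψ n
    rw [WittVector.add_coeff, WittVector.peval, ← hNpos (p ^ n) (hp0 n)]
    apply h9_aeval_mem N (fun i : Fin 2 × ℕ => p ^ i.2) _ _ _ _ (Groth.Agent.S18589.result p n)
    rintro ⟨b, i⟩
    rw [hNpos _ (hp0 i)]
    fin_cases b
    · exact hφ i
    · exact hψ i
  · intro x φ hφ n
    rw [WittVector.mul_coeff, WittVector.peval, ← hNpos (p ^ n) (hp0 n)]
    apply h9_aeval_mem N (fun i : Fin 2 × ℕ => if i.1 = 1 then p ^ i.2 else 0) _ _ _ _
      (h9_wittMul_whom p n)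
    rintro ⟨b, i⟩
    fin_cases b
    · change (WittVector.map (algebraMap A K) x).coeff i ∈ N (if ((0 : Fin 2) = 1) then p ^ i else 0)
      rw [if_neg (by decide), hN0, WittVector.map_coeff]
      exact Submodule.mem_one.2 ⟨_, rfl⟩
    · change φ.coeff i ∈ N (if ((1 : Fin 2) = 1) then p ^ i else 0)
      rw [if_pos rfl, hNpos _ (hp0 i)]
      exact hφ i

end Groth.Agent.S18590
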