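import Groth.Statements.S18591
import Mathlib

set_option autoImplicit false
universe v u
open W4c5suslinpi1ab

namespace Groth.Agent.S18591

open CategoryTheory MonoidalCategory Functor.LaxMonoidal Functor.OplaxMonoidal in
theorem adj_projR {C : Type u} [Category.{v} C] [MonoidalCategory C] {D : Type u} [Category.{v} D]
    [MonoidalCategory D] {L : C ⥤ D} {R : D ⥤ C} (adj : L ⊣ R) [L.OplaxMonoidal] [R.LaxMonoidal]
    [adj.IsMonoidal] (A : D) (B : C) :
    L.map (W4c5suslinpi1ab.projR adj A B) ≫ adj.counit.app (A ⊗ L.obj B) =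
      δ L (R.obj A) B ≫ (adj.counit.app A ▷ L.obj B) := by
  unfold W4c5suslinpi1ab.projR
  have h1 := δ_natural_right_assoc L (R.obj A) (adj.unit.app B)
    (adj.counit.app A ⊗ₘ adj.counit.app (L.obj B))
  dsimp only [Functor.id_obj, Functor.comp_obj] at h1
  rw [L.map_comp, Category.assoc, adj.map_μ_comp_counit_app_tensor, ← h1,
    MonoidalCategory.tensorHom_def', ← MonoidalCategory.whiskerLeft_comp_assoc, adj.left_triangle_components,
    MonoidalCategory.whiskerLeft_id, Category.id_comp]

open CategoryTheory MonoidalCategory Functor.LaxMonoidal Functor.OplaxMonoidal in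
theorem adj_projL {C : Type u} [Category.{v} C] [MonoidalCategory C] {D : Type u} [Category.{v} D]
    [MonoidalCategory D] {L : C ⥤ D} {R : D ⥤ C} (adj : L ⊣ R) [L.OplaxMonoidal] [R.LaxMonoidal]
    [adj.IsMonoidal] (A : C) (B : D) :
    L.map (W4c5suslinpi1ab.projL adj A B) ≫ adj.counit.app (L.obj A ⊗ B) =
      δ L A (R.obj B) ≫ (L.obj A ◁ adj.counit.app B) := by
  unfold W4c5suslinpi1ab.projL
  have h1 := δ_natural_left_assoc L (adj.unit.app A) (R.obj B)
    (adj.counit.app (L.obj A) ⊗ₘ adj.counit.app B)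
  dsimp only [Functor.id_obj, Functor.comp_obj] at h1
  rw [L.map_comp, Category.assoc, adj.map_μ_comp_counit_app_tensor, ← h1,
    MonoidalCategory.tensorHom_def, ← MonoidalCategory.comp_whiskerRight_assoc, adj.left_triangle_components,
    MonoidalCategory.id_whiskerRight, Category.id_comp]

open CategoryTheory MonoidalCategory Functor.LaxMonoidal Functor.OplaxMonoidal in
/-- In a square of adjunctions between monoidal categories — fL ⊣ fR from the base S₀ to Y₁, pL ⊣ pR
from Y₁ to X (both left adjoints oplax monoidal, right adjoints with the induced lax structure), qL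
⊣ qR from Y₂ to X, a functor gR : Y₂ ⥤ S₀ and a natural transformation ν : qR ⋙ gR ⟶ pR ⋙ fR from
which the base change fL gR ⟶ pR qL is built, the adjoint under the composite adjunction fL ⋙ pL ⊣
pR ⋙ fR of the exterior product fR A ⊗ gR B ⟶ fR pR (pL A ⊗ qL B) is the oplax comparison map of fL
⋙ pL followed by (pL of the counit of adjf at A) ⊗ (pL of the base change at B, then the counit of
adjp at qL B). (The published statement assumes symmetric monoidal categories and monoidal pullbacks
and writes the domain of this map as a tensor product of pullbacks; here only oplax left adjoints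
are assumed and the oplax comparison map is kept explicit.) -/
theorem result {S₀ : Type u} [Category.{v} S₀] [MonoidalCategory S₀]
    {Y₁ : Type u} [Category.{v} Y₁] [MonoidalCategory Y₁]
    {Y₂ : Type u} [Category.{v} Y₂] [MonoidalCategory Y₂]
    {X : Type u} [Category.{v} X] [MonoidalCategory X]
    {fL : S₀ ⥤ Y₁} {fR : Y₁ ⥤ S₀} (adjf : fL ⊣ fR) [fL.OplaxMonoidal] [fR.LaxMonoidal]
    [adjf.IsMonoidal] {gR : Y₂ ⥤ S₀}
    {pL : Y₁ ⥤ X} {pR : X ⥤ Y₁} (adjp : pL ⊣ pR) [pL.OplaxMonoidal] [pR.LaxMonoidal]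
    [adjp.IsMonoidal] {qL : Y₂ ⥤ X} {qR : X ⥤ Y₂} (adjq : qL ⊣ qR)
    (ν : qR ⋙ gR ⟶ pR ⋙ fR) (A : Y₁) (B : Y₂) :
    ((adjf.comp adjp).homEquiv _ _).symm (W4c5suslinpi1ab.extProd adjf adjp adjq ν A B) =
      δ (fL ⋙ pL) (fR.obj A) (gR.obj B) ≫
        (pL.map (adjf.counit.app A) ⊗ₘ
          (pL.map ((W4c5suslinpi1ab.bcMor adjf adjq ν).app B) ≫ adjp.counit.app (qL.obj B))) := by
  have s1 : fL.map (W4c5suslinpi1ab.extProd adjf adjp adjq ν A B) ≫
      adjf.counit.app (pR.obj (pL.obj A ⊗ qL.obj B)) =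
      δ fL (fR.obj A) (gR.obj B) ≫ (adjf.counit.app A ▷ fL.obj (gR.obj B)) ≫
        (A ◁ (W4c5suslinpi1ab.bcMor adjf adjq ν).app B) ≫
        W4c5suslinpi1ab.projL adjp A (qL.obj B) := by
    have h := adj_projR adjf A (gR.obj B)
    unfold W4c5suslinpi1ab.extProd
    have h2 := adjf.counit_naturality (W4c5suslinpi1ab.projL adjp A (qL.obj B))
    have h3 := adjf.counit_naturality_assoc (A ◁ (W4c5suslinpi1ab.bcMor adjf adjq ν).app B)
      (W4c5suslinpi1ab.projL adjp A (qL.obj B))
    dsimp only [Functor.id_obj, Functor.comp_obj] at h2 h3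
    rw [fL.map_comp, Category.assoc, fL.map_comp, Category.assoc, h2, h3, reassoc_of% h]
  rw [Adjunction.homEquiv_counit, Adjunction.comp_counit_app, Functor.comp_map,
    ← pL.map_comp_assoc, s1]
  rw [pL.map_comp, pL.map_comp, pL.map_comp, Category.assoc, Category.assoc, Category.assoc,
    adj_projL adjp A (qL.obj B)]
  have h4 := δ_natural_right_assoc pL A ((W4c5suslinpi1ab.bcMor adjf adjq ν).app B)
    (pL.obj A ◁ adjp.counit.app (qL.obj B))
  dsimp only [Functor.id_obj, Functor.comp_obj] at h4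
  rw [← h4]
  have h5 := δ_natural_left_assoc pL (adjf.counit.app A) (fL.obj (gR.obj B))
    (pL.obj A ◁ pL.map ((W4c5suslinpi1ab.bcMor adjf adjq ν).app B) ≫
      pL.obj A ◁ adjp.counit.app (qL.obj B))
  dsimp only [Functor.id_obj, Functor.comp_obj] at h5
  rw [← h5, comp_δ, MonoidalCategory.tensorHom_def, MonoidalCategory.whiskerLeft_comp,
    Category.assoc]
  rfl

end Groth.Agent.S18591
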