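import Groth.Statements.S18598
import Mathlib

set_option autoImplicit false
universe u
open SSRed

namespace Groth.Agent.S18598

theorem natCast_dvd_of (O : Type u) [CommRing O] [IsDomain O] [CharZero O]
    (a b : ℕ) (ha : ∀ p : ℕ, p.Prime → p ∣ a → ¬ IsUnit (p : O)) (hb : b ≠ 0)
    (h : (a : O) ∣ (b : O)) : a ∣ b := by
  obtain ⟨x, hx⟩ := h
  have ha0 : a ≠ 0 := by
    rintro rfl
    rw [Nat.cast_zero, zero_mul, Nat.cast_eq_zero] at hx
    exact hb hx
  obtain ⟨a', b', hcop, ha', hb'⟩ := Nat.exists_coprime a b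
  have hg0 : (Nat.gcd a b : O) ≠ 0 := by
    rw [Nat.cast_ne_zero]
    exact (Nat.gcd_pos_of_pos_left _ (Nat.pos_of_ne_zero ha0)).ne'
  have h1 : (b' : O) = (a' : O) * x := by
    have h0 : ((b' * Nat.gcd a b : ℕ) : O) = ((a' * Nat.gcd a b : ℕ) : O) * x := by
      rw [← hb', ← ha']; exact hx
    push_cast at h0
    have h2 : (b' : O) * (Nat.gcd a b : O) = ((a' : O) * x) * (Nat.gcd a b : O) := by
      rw [h0]; ring
    exact mul_right_cancel₀ hg0 h2
  obtain ⟨u, v, huv⟩ := Nat.isCoprime_iff_coprime.mpr hcop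
  have huv' : (u : O) * (a' : O) + (v : O) * (b' : O) = 1 := by
    have := congrArg (Int.cast : ℤ → O) huv
    push_cast at this
    exact this
  have hunit : IsUnit (a' : O) := by
    refine isUnit_iff_exists_inv.mpr ⟨(u : O) + (v : O) * x, ?_⟩
    rw [← huv', h1]; ring
  have ha1 : a' = 1 := by
    by_contra hne
    obtain ⟨q, hq, hqa⟩ := Nat.exists_prime_and_dvd hne
    have hqa2 : q ∣ a := by
      rw [ha']; exact dvd_mul_of_dvd_left hqa _
    have hqO : (q : O) ∣ (a' : O) := by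
      obtain ⟨c, hc⟩ := hqa
      exact ⟨(c : O), by rw [hc]; push_cast; rfl⟩
    exact ha q hq hqa2 (isUnit_of_dvd_unit hqO hunit)
  have hag : a = Nat.gcd a b := by
    rw [ha1, one_mul] at ha'; exact ha'
  calc a = Nat.gcd a b := hag
    _ ∣ b := Nat.gcd_dvd_right a b

theorem arith_aux (n m p k j : ℕ) (hnj : n = p ^ j) (hmp : m = p ^ (k + 1)) (hp : p.Prime) (hj2 : j ≤ 2)
    (hje : j * (p ^ k * (p - 1)) ≤ 2) :
    n = 1 ∨ (n = 2 ∧ (m = 2 ∨ m = 4)) ∨ (n = 4 ∧ m = 2) ∨ (n = 3 ∧ m = 3) := by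
  subst hnj hmp
  have hp2 : 2 ≤ p := hp.two_le
  rcases Nat.eq_zero_or_pos j with hj0 | hjpos
  · left; rw [hj0, pow_zero]
  · have hpk : 1 ≤ p ^ k := Nat.one_le_pow _ _ (by omega)
    have h3 : p ^ k * (p - 1) ≤ 2 := by
      calc p ^ k * (p - 1) = 1 * (p ^ k * (p - 1)) := (one_mul _).symm
        _ ≤ j * (p ^ k * (p - 1)) := Nat.mul_le_mul_right _ hjpos
        _ ≤ 2 := hje
    have hp3 : p ≤ 3 := by
      have : 1 * (p - 1) ≤ p ^ k * (p - 1) := Nat.mul_le_mul_right _ hpk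
      omega
    have hpk2 : p ^ k ≤ 2 := by
      have : p ^ k * 1 ≤ p ^ k * (p - 1) := Nat.mul_le_mul_left _ (by omega)
      omega
    have hk : k < p ^ k := Nat.lt_pow_self hp.one_lt
    have hk1 : k ≤ 1 := by omega
    clear hpk h3 hpk2 hk hp
    interval_cases p <;> interval_cases k <;> interval_cases j <;> revert hje <;> decide

/-- Let O be a commutative integral domain of characteristic zero, n a positive integer such that no
prime number dividing n is a unit in O, and α an element of O of finite multiplicative order such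
that (α − 1)² is divisible by n in O. Then α = 1 if n ≥ 5, α² = 1 if n = 4, α³ = 1 if n = 3, and α⁴
= 1 if n = 2. -/
theorem result (O : Type u) [CommRing O] [IsDomain O] [CharZero O]
    (n : ℕ) (hn : 0 < n) (hO : ∀ p : ℕ, p.Prime → p ∣ n → ¬ IsUnit (p : O))
    (α : O) (hα : IsOfFinOrder α) (h : (n : O) ∣ (α - 1) ^ 2) :
    (5 ≤ n → α = 1) ∧ (n = 4 → α ^ 2 = 1) ∧ (n = 3 → α ^ 3 = 1) ∧ (n = 2 → α ^ 4 = 1) := by
  obtain ⟨m, hm⟩ : ∃ m, m = orderOf α := ⟨_, rfl⟩
  have hmpos : 0 < m := by rw [hm]; exact hα.orderOf_pos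
  have hprim : IsPrimitiveRoot α m := by rw [hm]; exact IsPrimitiveRoot.orderOf α
  have hpow : α ^ m = 1 := hprim.pow_eq_one
  by_cases hm1 : m = 1
  · have hα1 : α = 1 := by rw [hm1, pow_one] at hpow; exact hpow
    refine ⟨fun _ => hα1, fun _ => by rw [hα1, one_pow], fun _ => by rw [hα1, one_pow],
      fun _ => by rw [hα1, one_pow]⟩
  haveI : NeZero m := ⟨hmpos.ne'⟩
  have hcyc : Polynomial.cyclotomic m O
      = ∏ μ ∈ primitiveRoots m O, (Polynomial.X - Polynomial.C μ) :=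
    Polynomial.cyclotomic_eq_prod_X_sub_primitiveRoots hprim
  have heval : (Polynomial.cyclotomic m O).eval 1 = ∏ μ ∈ primitiveRoots m O, (1 - μ) := by
    rw [hcyc, Polynomial.eval_prod]
    refine Finset.prod_congr rfl (fun μ _ => ?_)
    simp
  obtain ⟨e, he⟩ : ∃ e, e = Nat.totient m := ⟨_, rfl⟩
  have he0 : e ≠ 0 := by rw [he]; exact (Nat.totient_pos.mpr hmpos).ne'
  have hdvd1 : (1 - α) ^ e ∣ (Polynomial.cyclotomic m O).eval 1 := by
    rw [heval, he, ← hprim.card_primitiveRoots, ← Finset.prod_const]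
    refine Finset.prod_dvd_prod_of_dvd _ _ (fun μ hμ => ?_)
    have hμ' : IsPrimitiveRoot μ m := (mem_primitiveRoots hmpos).mp hμ
    obtain ⟨i, _, hi⟩ := hprim.eq_pow_of_pow_eq_one hμ'.pow_eq_one
    rw [← hi]
    have := sub_dvd_pow_sub_pow (1 : O) α i
    rwa [one_pow] at this
  -- general consequence
  have hgen : ∀ c : ℕ, c ≠ 0 → (Polynomial.cyclotomic m O).eval 1 = (c : O) → n ^ e ∣ c ^ 2 := by
    intro c hc0 hc
    have hdvd2 : ((n ^ e : ℕ) : O) ∣ ((c ^ 2 : ℕ) : O) := by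
      push_cast
      calc (n : O) ^ e ∣ ((α - 1) ^ 2) ^ e := pow_dvd_pow_of_dvd h e
        _ = ((1 - α) ^ e) ^ 2 := by
          rw [show (α - 1) ^ 2 = (1 - α) ^ 2 by ring, ← pow_mul, ← pow_mul, mul_comm]
        _ ∣ (c : O) ^ 2 := pow_dvd_pow_of_dvd (hc ▸ hdvd1) 2
    refine natCast_dvd_of O (n ^ e) (c ^ 2) (fun q hq hqn => ?_) (pow_ne_zero _ hc0) hdvd2
    exact hO q hq (hq.dvd_of_dvd_pow hqn)
  have fin : n = 1 ∨ (n = 2 ∧ (m = 2 ∨ m = 4)) ∨ (n = 4 ∧ m = 2) ∨ (n = 3 ∧ m = 3) := by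
    by_cases hpp : ∃ p k : ℕ, p.Prime ∧ m = p ^ (k + 1)
    · obtain ⟨p, k, hp, hmp⟩ := hpp
      haveI := Fact.mk hp
      have hev : (Polynomial.cyclotomic m O).eval 1 = (p : O) := by
        rw [hmp]; exact Polynomial.eval_one_cyclotomic_prime_pow k
      have hN := hgen p hp.ne_zero hev
      have hn_dvd : n ∣ p ^ 2 := dvd_trans (dvd_pow_self n he0) hN
      obtain ⟨j, hj2, hnj⟩ := (Nat.dvd_prime_pow hp).mp hn_dvd
      have hje : j * (p ^ k * (p - 1)) ≤ 2 := by
        have he' : e = p ^ k * (p - 1) := by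
          rw [he, hmp]; exact Nat.totient_prime_pow_succ hp k
        rw [hnj, ← pow_mul, he'] at hN
        exact (Nat.pow_dvd_pow_iff_le_right hp.one_lt).mp hN
      exact arith_aux n m p k j hnj hmp hp hj2 hje
    · left
      have hev : (Polynomial.cyclotomic m O).eval 1 = ((1 : ℕ) : O) := by
        rw [Nat.cast_one]
        refine Polynomial.eval_one_cyclotomic_not_prime_pow (fun {p} hp k hk => ?_)
        rcases k with _ | k
        · rw [pow_zero] at hk; exact hm1 hk.symm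
        · exact hpp ⟨p, k, hp, hk.symm⟩
      have hN := hgen 1 one_ne_zero hev
      rw [one_pow, Nat.dvd_one, Nat.pow_eq_one] at hN
      rcases hN with h1 | h0
      · exact h1
      · exact absurd h0 he0
  refine ⟨fun h5 => ?_, fun h4 => ?_, fun h3 => ?_, fun h2 => ?_⟩
  · exfalso; omega
  · have h2m : m = 2 := by omega
    rw [h2m] at hpow; exact hpow
  · have h3m : m = 3 := by omega
    rw [h3m] at hpow; exact hpow
  · have h24 : m = 2 ∨ m = 4 := by omega
    rcases h24 with h | h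
    · rw [h] at hpow; rw [show 4 = 2 * 2 from rfl, pow_mul, hpow, one_pow]
    · rw [h] at hpow; exact hpow

end Groth.Agent.S18598
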