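import Groth.Statements.S18614
import Mathlib

set_option autoImplicit false
universe u v
open LinTop

namespace Groth.Agent.S18614

theorem cont_of_le_ker (k : Type u) (M : Type v) [Field k] [TopologicalSpace k] [DiscreteTopology k]
    [AddCommGroup M] [Module k M] [TopologicalSpace M] [IsTopologicalAddGroup M]
    (f : M →ₗ[k] k) (U : Submodule k M) (hU : (U : Set M) ∈ nhds (0 : M))
    (hf : ∀ u ∈ U, f u = 0) : Continuous f := by
  refine continuous_of_continuousAt_zero f ?_
  intro s hs
  rw [map_zero] at hs
  have h0 : (0 : k) ∈ s := mem_of_mem_nhds hs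
  refine Filter.mem_map.mpr (Filter.mem_of_superset hU (fun u hu => ?_))
  show f u ∈ s
  rw [hf u hu]; exact h0

/-- Let k be a field carrying the discrete topology and M a separated topological k-module with a
k-linear topology (the open k-submodules form a basis of neighbourhoods of zero and M is a
topological additive group). For a closed submodule M₁, the perpendicular of the perpendicular of
M₁, both taken with respect to the pairing of M with its continuous dual (the continuous k-linear
maps M → k), is M₁ itself: an element killed by every continuous functional vanishing on M₁ belongs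
to M₁. -/
theorem result (k : Type u) (M : Type v) [Field k]
    [TopologicalSpace k] [DiscreteTopology k] [AddCommGroup M] [Module k M] [TopologicalSpace M]
    [IsTopologicalAddGroup M] [IsLinearTopology k M] [T2Space M]
    (M₁ : Submodule k M) (hM₁ : IsClosed (M₁ : Set M)) (x : M)
    (hx : ∀ φ : M →L[k] k, (∀ m ∈ M₁, φ m = 0) → φ x = 0) : x ∈ M₁ := by
  by_contra hxM
  have hopen : IsOpen ((M₁ : Set M)ᶜ) := hM₁.isOpen_compl
  have hnh : (M₁ : Set M)ᶜ ∈ nhds x := hopen.mem_nhds hxM
  have hnh0 : {u : M | x + u ∈ (M₁ : Set M)ᶜ} ∈ nhds (0 : M) := by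
    have hc : ContinuousAt (fun u : M => x + u) 0 :=
      (continuous_const.add continuous_id).continuousAt
    have h1 : (M₁ : Set M)ᶜ ∈ nhds ((fun u : M => x + u) 0) := by
      show (M₁ : Set M)ᶜ ∈ nhds (x + 0)
      rw [add_zero]; exact hnh
    exact hc h1
  obtain ⟨U, hU, hUsub⟩ := (IsLinearTopology.hasBasis_submodule k).mem_iff.mp hnh0
  have hxp : x ∉ M₁ ⊔ U := by
    intro hmem
    obtain ⟨m, hm, u, hu, hmu⟩ := Submodule.mem_sup.mp hmem
    have h1 : x + (-u) ∈ (M₁ : Set M)ᶜ := hUsub (U.neg_mem hu)
    apply h1
    have h2 : x + -u = m := by rw [← hmu]; abel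
    rw [h2]; exact hm
  obtain ⟨f, hfx, hfp⟩ := Submodule.exists_dual_map_eq_bot_of_notMem hxp inferInstance
  have hfz : ∀ y ∈ M₁ ⊔ U, f y = 0 := by
    intro y hy
    have h3 : f y ∈ (M₁ ⊔ U).map f := Submodule.mem_map_of_mem hy
    rw [hfp] at h3
    exact (Submodule.mem_bot k).mp h3
  have hcont : Continuous f :=
    cont_of_le_ker k M f U hU (fun u hu => hfz u (Submodule.mem_sup_right hu))
  exact hfx (hx ⟨f, hcont⟩ (fun m hm => hfz m (Submodule.mem_sup_left hm)))

end Groth.Agent.S18614
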