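import Groth.Statements.S18615
import Mathlib

set_option autoImplicit false
universe u v
open LinTop

namespace Groth.Agent.S18615

theorem cont_of_le_ker (k : Type u) (M : Type v) [Field k] [TopologicalSpace k] [DiscreteTopology k]
    [AddCommGroup M] [Module k M] [TopologicalSpace M] [IsTopologicalAddGroup M]
    (f : M →ₗ[k] k) (U : Submodule k M) (hU : (U : Set M) ∈ nhds (0 : M))
    (hf : ∀ u ∈ U, f u = 0) : Continuous f := by
  refine continuous_of_continuousAt_zero f ?_
  intro s hs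
  rw [map_zero] at hs
  have h0 : (0 : k) ∈ s := mem_of_mem_nhds hs
  refine Filter.mem_map.mpr (Filter.mem_of_superset hU (fun u hu => ?_))
  show f u ∈ s
  rw [hf u hu]; exact h0

/-- Let k be a field carrying the discrete topology and M a separated topological k-module with a
k-linear topology (open k-submodules form a basis of neighbourhoods of zero, M a topological
additive group). For closed submodules M₁ ⊆ M₂ there is a short exact sequence 0 → M₂^⊥ → M₁^⊥ →
(M₂/M₁)^* → 0 of plain k-modules, where ⊥ denotes the annihilator in the continuous dual of M and *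
the continuous dual. Stated here as its one non-formal part, surjectivity on the right: every
continuous functional on M₂ (subspace topology) that vanishes on M₁ is the restriction of a
continuous functional on M vanishing on M₁ (continuous functionals on M₂/M₁ being the continuous
functionals on M₂ that kill M₁). -/
theorem result (k : Type u) (M : Type v) [Field k]
    [TopologicalSpace k] [DiscreteTopology k] [AddCommGroup M] [Module k M] [TopologicalSpace M]
    [IsTopologicalAddGroup M] [IsLinearTopology k M] [T2Space M]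
    (M₁ M₂ : Submodule k M) (h₁₂ : M₁ ≤ M₂) (hM₁ : IsClosed (M₁ : Set M))
    (hM₂ : IsClosed (M₂ : Set M)) (ψ : M₂ →L[k] k)
    (hψ : ∀ m : M₂, (m : M) ∈ M₁ → ψ m = 0) :
    ∃ φ : M →L[k] k, (∀ m ∈ M₁, φ m = 0) ∧ ∀ m : M₂, φ (m : M) = ψ m := by
  have hopen : IsOpen (ψ ⁻¹' ({0} : Set k)) := (isOpen_discrete _).preimage ψ.continuous
  obtain ⟨V, hVo, hVeq⟩ := isOpen_induced_iff.mp hopen
  have hV0 : (0 : M) ∈ V := by
    have h1 : (0 : M₂) ∈ (Subtype.val ⁻¹' V : Set M₂) := by rw [hVeq]; simp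
    exact h1
  obtain ⟨U, hU, hUV⟩ := (IsLinearTopology.hasBasis_submodule k).mem_iff.mp (hVo.mem_nhds hV0)
  have hUψ : ∀ m : M₂, (m : M) ∈ U → ψ m = 0 := by
    intro m hm
    have h1 : m ∈ (Subtype.val ⁻¹' V : Set M₂) := hUV hm
    rw [hVeq] at h1
    exact h1
  obtain ⟨T, hT⟩ : ∃ T : (M₂ × U) →ₗ[k] M, ∀ m u, T (m, u) = (m : M) + (u : M) :=
    ⟨M₂.subtype.coprod U.subtype, fun m u => by rw [LinearMap.coprod_apply]; rfl⟩
  obtain ⟨F, hF⟩ : ∃ F : (M₂ × U) →ₗ[k] k, ∀ m u, F (m, u) = ψ m :=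
    ⟨(ψ : M₂ →ₗ[k] k).comp (LinearMap.fst k M₂ U), fun m u => rfl⟩
  have hFmem : F ∈ (LinearMap.ker T).dualAnnihilator := by
    rw [Submodule.mem_dualAnnihilator]
    rintro ⟨m, u⟩ hmu
    rw [LinearMap.mem_ker, hT] at hmu
    rw [hF]
    apply hUψ
    have h1 : (m : M) = -(u : M) := eq_neg_of_add_eq_zero_left hmu
    rw [h1]; exact U.neg_mem u.2
  rw [← LinearMap.range_dualMap_eq_dualAnnihilator_ker] at hFmem
  obtain ⟨g, hg⟩ := hFmem
  have hgT : ∀ z, g (T z) = F z := fun z => by rw [← hg, LinearMap.dualMap_apply]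
  have hgM₂ : ∀ m : M₂, g (m : M) = ψ m := by
    intro m
    have h1 := hgT (m, 0)
    rw [hT, hF] at h1
    rw [← h1]; congr 1; simp
  have hgU : ∀ u ∈ U, g u = 0 := by
    intro u hu
    have h1 := hgT (0, ⟨u, hu⟩)
    rw [hT, hF, map_zero] at h1
    rw [← h1]; congr 1; simp
  have hcont : Continuous g := cont_of_le_ker k M g U hU hgU
  refine ⟨⟨g, hcont⟩, fun m hm => ?_, fun m => hgM₂ m⟩
  exact (hgM₂ ⟨m, h₁₂ hm⟩).trans (hψ ⟨m, h₁₂ hm⟩ hm)

end Groth.Agent.S18615
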