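import Groth.Statements.S18617
import Mathlib

set_option autoImplicit false
universe u
open LocRes

namespace Groth.Agent.S18617

/-- The published statement is that, for a complete separated linearly topologized commutative algebra K
over a field of characteristic zero, the separated de Rham complex of K tensored with the exterior
algebra on symbols α_1, ..., α_n maps quasi-isomorphically to the separated de Rham complex of the
iterated Laurent series ring K((t_1, ..., t_n)), α_i going to dlog t_i; this row is the case K = k
and n = 1, unpacked: over a field k of characteristic 0, a formal Laurent series f in k((t)) has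
term-by-term derivative zero if and only if it is the constant series on its coefficient of degree
0, and a Laurent series g is the derivative of some Laurent series if and only if its residue (the
coefficient of t⁻¹) vanishes; so H⁰ of the complex k((t)) → k((t)) dt is k and H¹ is the line
spanned by the class of dt/t, on which the residue is 1. -/
theorem result (k : Type u) [Field k] [CharZero k] :
    (∀ f : LaurentSeries k, LocRes.D k f = 0 ↔ f = HahnSeries.C (f.coeff 0)) ∧
      ∀ g : LaurentSeries k, (∃ f : LaurentSeries k, LocRes.D k f = g) ↔ LocRes.res k g = 0 := by
  refine ⟨?_, ?_⟩
  · intro f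
    constructor
    · intro h
      ext n
      by_cases hn : n = 0
      · subst hn
        simp
      · have h1 : (LocRes.D k f).coeff (n - 1) = 0 := by rw [h]; rfl
        rw [LocRes.D_coeff, sub_add_cancel, zsmul_eq_mul] at h1
        have hn' : ((n : ℤ) : k) ≠ 0 := Int.cast_ne_zero.mpr hn
        have h2 : f.coeff n = 0 := (mul_eq_zero.mp h1).resolve_left hn'
        rw [h2]
        have : (HahnSeries.C (f.coeff 0) : HahnSeries ℤ k).coeff n = 0 := by
          rw [HahnSeries.C_apply, HahnSeries.coeff_single_of_ne hn]
        rw [this]
    · intro h
      rw [h]
      exact LocRes.derivative_C k _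
  · intro g
    constructor
    · rintro ⟨f, rfl⟩
      rw [LocRes.res_apply, LocRes.D_coeff]
      simp
    · intro hres
      rw [LocRes.res_apply] at hres
      have hpwo : (Function.support (fun n : ℤ => if n = 0 then (0 : k) else g.coeff (n - 1) / (n : k))).IsPWO := by
        apply (g.isPWO_support.image_of_monotone (f := fun m : ℤ => m + 1) (by intro a b hab; simpa using hab)).mono
        intro n hn
        simp only [Function.mem_support, ne_eq] at hn
        by_cases h0 : n = 0
        · simp [h0] at hn
        · rw [if_neg h0] at hn
          refine ⟨n - 1, ?_, by ring⟩
          simp only [HahnSeries.mem_support, ne_eq]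
          intro hz
          apply hn
          rw [hz, zero_div]
      refine ⟨⟨fun n : ℤ => if n = 0 then (0 : k) else g.coeff (n - 1) / (n : k), hpwo⟩, ?_⟩
      ext n
      rw [LocRes.D_coeff]
      show (n + 1) • (if n + 1 = 0 then (0 : k) else g.coeff (n + 1 - 1) / ((n + 1 : ℤ) : k)) = g.coeff n
      by_cases hn : n + 1 = 0
      · rw [if_pos hn, smul_zero]
        have : n = -1 := by omega
        rw [this, hres]
      · rw [if_neg hn, zsmul_eq_mul, add_sub_cancel_right]
        have hn' : ((n + 1 : ℤ) : k) ≠ 0 := Int.cast_ne_zero.mpr hn
        field_simp

end Groth.Agent.S18617
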