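import Groth.Statements.S18791
import Mathlib

set_option autoImplicit false
universe u v w x
open TorusGr

namespace Groth.Agent.S18791

/-- Let `φ : B → A` be a degree-preserving homomorphism of commutative algebras over a field `k` graded
by an additive commutative group `M` (for `M` the character group of a split torus, an equivariant
morphism `Spec A → Spec B`), and let `m` be a maximal ideal of `A` containing all homogeneous
elements of non-zero degree (a fixed point). Then the ideal of those `b` whose image is zero in the
local ring `A_m` is homogeneous: the homogeneous (weight) components of such a `b` again die in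
`A_m`. Since `A_m` embeds in its completion when `A` is Noetherian, these are the elements of `B`
that die in the completed local ring. (The published lemma asserts moreover that, for `B = k[Y_1, …,
Y_d]` mapping the `Y_i` to semi-invariant lifts of a basis of `m/m²`, the kernel of the induced
surjection of completions `k[[Y]] → Â_m` is generated by semi-invariant polynomials; generation of
that kernel by polynomials can fail, so only the statement about polynomial elements of the kernel
is recorded here. The published statement has `M ≅ ℤ^r` (a split torus) and `B` the polynomial ring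
on the lifts; here `M` is any additive commutative group and `B` any `M`-graded `k`-algebra.) -/
theorem result
    {k : Type u} [Field k] {M : Type v} [AddCommGroup M] [DecidableEq M]
    {A : Type w} [CommRing A] [Algebra k A] (𝒜 : M → Submodule k A) [GradedAlgebra 𝒜]
    {B : Type x} [CommRing B] [Algebra k B] (ℬ : M → Submodule k B) [GradedAlgebra ℬ]
    (φ : B →ₐ[k] A) (hφ : ∀ i : M, ∀ b ∈ ℬ i, φ b ∈ 𝒜 i)
    (m : Ideal A) [m.IsMaximal] (hfix : ∀ i : M, i ≠ 0 → ∀ a ∈ 𝒜 i, a ∈ m) :
    (RingHom.ker ((algebraMap A (Localization.AtPrime m)).comp (φ : B →+* A))).IsHomogeneous ℬ := by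
  classical
  intro i b hb
  rw [RingHom.mem_ker, RingHom.comp_apply] at hb ⊢
  rw [IsLocalization.map_eq_zero_iff m.primeCompl] at hb ⊢
  obtain ⟨⟨s, hs⟩, hsb⟩ := hb
  have hsb' : s * φ b = 0 := hsb
  set D := (DirectSum.decompose ℬ b).support with hD
  by_cases hi : i ∈ D
  swap
  · have h0 : (DirectSum.decompose ℬ b i : B) = 0 := by
      rw [DFinsupp.notMem_support_iff] at hi
      rw [hi]; rfl
    refine ⟨1, ?_⟩
    rw [h0]; simp
  · let vv : D → A := fun d => φ (DirectSum.decompose ℬ b (d : M) : B)
    have hv : ∀ d : D, vv d ∈ 𝒜 (d : M) := fun d => hφ d _ (SetLike.coe_mem _)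
    have hsum : φ b = ∑ d : D, vv d := by
      conv_lhs => rw [← DirectSum.sum_support_decompose ℬ b]
      rw [map_sum]
      exact (Finset.sum_coe_sort D (fun d => φ (DirectSum.decompose ℬ b d : B))).symm
    let L : Matrix D D A := fun c d => (DirectSum.decompose 𝒜 s ((c : M) - (d : M)) : A)
    have hLv : L.mulVec vv = 0 := by
      funext c
      simp only [Matrix.mulVec, dotProduct, Pi.zero_apply, L]
      have h1 : ∀ d : D, (DirectSum.decompose 𝒜 s ((c : M) - (d : M)) : A) * vv d =
          GradedRing.proj 𝒜 (c : M) (s * vv d) := by
        intro d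
        have := DirectSum.coe_decompose_mul_add_of_right_mem 𝒜 (a := s) (i := (c : M) - (d : M)) (hv d)
        rw [sub_add_cancel] at this
        rw [GradedRing.proj_apply]
        exact this.symm
      rw [Finset.sum_congr rfl (fun d _ => h1 d), ← map_sum, ← Finset.mul_sum, ← hsum, hsb', map_zero]
    have hdet : L.det • vv = 0 := by
      have h2 := congrArg (fun w => (Matrix.adjugate L).mulVec w) hLv
      simp only [Matrix.mulVec_mulVec, Matrix.adjugate_mul, Matrix.mulVec_zero] at h2
      rwa [Matrix.smul_mulVec, Matrix.one_mulVec] at h2
    have hdetm : L.det ∉ m := by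
      intro hmem
      have hπ : Ideal.Quotient.mk m L.det = 0 := Ideal.Quotient.eq_zero_iff_mem.mpr hmem
      rw [RingHom.map_det] at hπ
      have hLdiag : (Ideal.Quotient.mk m).mapMatrix L =
          Matrix.diagonal (fun _ => Ideal.Quotient.mk m (DirectSum.decompose 𝒜 s 0 : A)) := by
        ext c d
        simp only [RingHom.mapMatrix_apply, Matrix.map_apply, Matrix.diagonal_apply, L]
        by_cases hcd : c = d
        · subst hcd; rw [if_pos rfl, sub_self]
        · rw [if_neg hcd, Ideal.Quotient.eq_zero_iff_mem]
          apply hfix _ _ _ (SetLike.coe_mem _)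
          intro h; apply hcd; exact Subtype.ext (sub_eq_zero.mp h)
      rw [hLdiag, Matrix.det_diagonal, Finset.prod_const] at hπ
      have hcard : (Finset.univ : Finset D).card ≠ 0 := by
        rw [Finset.card_ne_zero]
        exact ⟨⟨i, hi⟩, Finset.mem_univ _⟩
      have hfield : IsDomain (A ⧸ m) := (Ideal.Quotient.isDomain_iff_prime m).mpr inferInstance
      have hs0 : Ideal.Quotient.mk m (DirectSum.decompose 𝒜 s 0 : A) = 0 :=
        (pow_eq_zero_iff hcard).mp hπ
      have hs0m : (DirectSum.decompose 𝒜 s 0 : A) ∈ m := Ideal.Quotient.eq_zero_iff_mem.mp hs0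
      apply hs
      show s ∈ m
      rw [← DirectSum.sum_support_decompose 𝒜 s]
      apply Ideal.sum_mem
      intro j _
      by_cases hj : j = 0
      · subst hj; exact hs0m
      · exact hfix j hj _ (SetLike.coe_mem _)
    refine ⟨⟨L.det, hdetm⟩, ?_⟩
    have h3 := congrFun hdet ⟨i, hi⟩
    simpa [vv] using h3

end Groth.Agent.S18791
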