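import Groth.Statements.S18794
import Mathlib
import Groth.Agent.Lib.helper9.BasisCoord

set_option autoImplicit false
universe u v w
open scoped TensorProduct
open DefMod

namespace Groth.Agent.S18794

section h9irr
open scoped TensorProduct

universe x y

variable (K : Type u) [Field K] (D : Type v) [Ring D] [Algebra K D]
  (E : Type w) [AddCommGroup E] [Module K E] [Module D E] [IsScalarTower K D E]

/-- irreducibility of the base change -/
def Irr (L : Type x) [Field L] [Algebra K L] : Prop :=
  Nontrivial (L ⊗[K] E) ∧ ∀ N : Submodule L (L ⊗[K] E),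
    (∀ (d : D) (x : L ⊗[K] E), x ∈ N → (DistribSMul.toLinearMap K E d).baseChange L x ∈ N) →
      N = ⊥ ∨ N = ⊤

variable {K} {L : Type x} [Field L] [Algebra K L] {M : Type y} [Field M] [Algebra K M]
  (ι : L →ₐ[K] M)

noncomputable def jj : L ⊗[K] E →ₗ[K] M ⊗[K] E := (ι.toLinearMap).rTensor E

theorem jj_tmul (l : L) (e : E) : jj E ι (l ⊗ₜ[K] e) = ι l ⊗ₜ[K] e := rfl

theorem jj_smul (l : L) (z : L ⊗[K] E) : jj E ι (l • z) = ι l • jj E ι z := by
  induction z using TensorProduct.induction_on with
  | zero => simp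
  | tmul a e =>
    rw [TensorProduct.smul_tmul', jj_tmul, jj_tmul, TensorProduct.smul_tmul', smul_eq_mul, smul_eq_mul,
      map_mul]
  | add a b ha hb => rw [smul_add, map_add, ha, hb, map_add, smul_add]

variable {D}

theorem jj_d (d : D) (z : L ⊗[K] E) :
    jj E ι ((DistribSMul.toLinearMap K E d).baseChange L z)
      = (DistribSMul.toLinearMap K E d).baseChange M (jj E ι z) := by
  induction z using TensorProduct.induction_on with
  | zero => simp
  | tmul a e => rfl
  | add a b ha hb => rw [map_add, map_add, ha, hb, map_add, map_add]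

theorem jj_injective : Function.Injective (jj E ι) :=
  Module.Flat.rTensor_preserves_injective_linearMap _
    (show Function.Injective ι.toLinearMap from ι.toRingHom.injective)

variable (D)

include ι in
theorem irr_descend (h : Irr K D E M) : Irr K D E L := by
  obtain ⟨hnt, hirr⟩ := h
  have hE : Nontrivial E := by
    by_contra hne
    rw [not_nontrivial_iff_subsingleton] at hne
    have hall : ∀ z : M ⊗[K] E, z = 0 := by
      intro z
      induction z using TensorProduct.induction_on with
      | zero => rfl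
      | tmul a e => rw [Subsingleton.elim e 0, TensorProduct.tmul_zero]
      | add a b ha hb => rw [ha, hb, add_zero]
    obtain ⟨z, hz⟩ := exists_ne (0 : M ⊗[K] E)
    exact hz (hall z)
  obtain ⟨e0, he0⟩ := exists_ne (0 : E)
  refine ⟨⟨⟨(1 : L) ⊗ₜ[K] e0, 0, fun h => he0 (H9BC.tmul_injective E (1 : L) one_ne_zero e0 h)⟩⟩, ?_⟩
  intro N hN
  by_contra hcon
  push Not at hcon
  obtain ⟨hbot, htop⟩ := hcon
  have hst : ∀ (d : D) (x : M ⊗[K] E), x ∈ Submodule.span M (jj E ι '' (N : Set (L ⊗[K] E))) →
      (DistribSMul.toLinearMap K E d).baseChange M x ∈ Submodule.span M (jj E ι '' (N : Set (L ⊗[K] E))) := by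
    intro d x hx
    induction hx using Submodule.span_induction with
    | mem x h =>
      obtain ⟨n, hn, rfl⟩ := h
      rw [← jj_d]
      exact Submodule.subset_span ⟨_, hN d n hn, rfl⟩
    | zero => rw [map_zero]; exact Submodule.zero_mem _
    | add x y _ _ hx hy => rw [map_add]; exact Submodule.add_mem _ hx hy
    | smul c x _ hx => rw [map_smul]; exact Submodule.smul_mem _ c hx
  rcases hirr _ hst with h | h
  · obtain ⟨n, hn, hn0⟩ := Submodule.exists_mem_ne_zero_of_ne_bot hbot
    have h1 : jj E ι n ∈ Submodule.span M (jj E ι '' (N : Set (L ⊗[K] E))) :=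
      Submodule.subset_span ⟨n, hn, rfl⟩
    rw [h, Submodule.mem_bot] at h1
    exact hn0 (jj_injective E ι (by rw [h1, map_zero]))
  · obtain ⟨ℓ, hℓ0, hℓ⟩ := Submodule.exists_le_ker_of_lt_top N (lt_top_iff_ne_top.mpr htop)
    obtain ⟨l0, hl0⟩ : ∃ l0 : E →ₗ[K] M, ∀ e, l0 e = ι (ℓ ((1 : L) ⊗ₜ[K] e)) :=
      ⟨ι.toLinearMap ∘ₗ (ℓ.restrictScalars K) ∘ₗ (TensorProduct.mk K L E 1), fun e => rfl⟩
    have hℓ' : ∀ z, (l0.liftBaseChange M) (jj E ι z) = ι (ℓ z) := by
      intro z
      induction z using TensorProduct.induction_on with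
      | zero => simp
      | tmul a e =>
        have h2 : a ⊗ₜ[K] e = a • ((1 : L) ⊗ₜ[K] e) := by
          rw [TensorProduct.smul_tmul', smul_eq_mul, mul_one]
        rw [jj_tmul, LinearMap.liftBaseChange_tmul, hl0, h2, map_smul, smul_eq_mul, smul_eq_mul, map_mul]
      | add a b ha hb => rw [map_add, map_add, ha, hb, map_add, map_add]
    have hle : Submodule.span M (jj E ι '' (N : Set (L ⊗[K] E))) ≤ LinearMap.ker (l0.liftBaseChange M) := by
      rw [Submodule.span_le]
      rintro _ ⟨n, hn, rfl⟩
      rw [SetLike.mem_coe, LinearMap.mem_ker, hℓ']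
      have := hℓ hn
      rw [LinearMap.mem_ker] at this
      rw [this, map_zero]
    rw [h] at hle
    apply hℓ0
    refine LinearMap.ext (fun z => ?_)
    have h3 : (l0.liftBaseChange M) (jj E ι z) = 0 := by
      have := hle (Submodule.mem_top : jj E ι z ∈ (⊤ : Submodule M (M ⊗[K] E)))
      rwa [LinearMap.mem_ker] at this
    rw [hℓ'] at h3
    rw [LinearMap.zero_apply]
    exact (map_eq_zero_iff ι ι.toRingHom.injective).mp h3

theorem irr_closure
    (h : ∀ (L : Type u) [Field L] [Algebra K L] [FiniteDimensional K L], Irr K D E L) :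
    Irr K D E (AlgebraicClosure K) := by
  classical
  have hE : Nontrivial E := by
    obtain ⟨hnt, _⟩ := h K
    exact (TensorProduct.lid K E).symm.toEquiv.nontrivial
  obtain ⟨e0, he0⟩ := exists_ne (0 : E)
  refine ⟨⟨⟨(1 : AlgebraicClosure K) ⊗ₜ[K] e0, 0,
    fun h => he0 (H9BC.tmul_injective E (1 : AlgebraicClosure K) one_ne_zero e0 h)⟩⟩, ?_⟩
  intro N hN
  by_cases hbot : N = ⊥
  · exact Or.inl hbot
  right
  obtain ⟨x, hxN, hx0⟩ := Submodule.exists_mem_ne_zero_of_ne_bot hbot
  obtain ⟨S, hS⟩ := TensorProduct.exists_finset x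
  haveI : Finite ((S.image Prod.fst : Finset (AlgebraicClosure K)) : Set (AlgebraicClosure K)) :=
    (Finset.finite_toSet _).to_subtype
  obtain ⟨L, hL⟩ : ∃ L : IntermediateField K (AlgebraicClosure K),
      L = IntermediateField.adjoin K ((S.image Prod.fst : Finset (AlgebraicClosure K)) : Set (AlgebraicClosure K)) :=
    ⟨_, rfl⟩
  haveI : FiniteDimensional K L := by
    rw [hL]
    exact IntermediateField.finiteDimensional_adjoin (fun a _ => Algebra.IsIntegral.isIntegral a)
  have hmem : ∀ i ∈ S, i.1 ∈ L := by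
    intro i hi
    rw [hL]
    exact IntermediateField.subset_adjoin K _ (Finset.mem_coe.mpr (Finset.mem_image_of_mem Prod.fst hi))
  obtain ⟨z, hz⟩ : ∃ z : L ⊗[K] E, jj E L.val z = x := by
    refine ⟨∑ i ∈ S.attach, (⟨i.1.1, hmem i.1 i.2⟩ : L) ⊗ₜ[K] i.1.2, ?_⟩
    rw [map_sum, hS]
    rw [← Finset.sum_attach S (fun i => i.1 ⊗ₜ[K] i.2)]
    refine Finset.sum_congr rfl (fun i _ => ?_)
    rw [jj_tmul]
    rfl
  obtain ⟨NL, hNL⟩ : ∃ NL : Submodule L (L ⊗[K] E), ∀ y, y ∈ NL ↔ jj E L.val y ∈ N :=
    ⟨{ carrier := {y | jj E L.val y ∈ N}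
       add_mem' := by
         intro a b ha hb
         simp only [Set.mem_ofPred_eq, map_add] at *
         exact N.add_mem ha hb
       zero_mem' := by simp
       smul_mem' := by
         intro c y hy
         simp only [Set.mem_ofPred_eq, jj_smul] at *
         exact N.smul_mem _ hy }, fun y => Iff.rfl⟩
  have hst : ∀ (d : D) (y : L ⊗[K] E), y ∈ NL → (DistribSMul.toLinearMap K E d).baseChange L y ∈ NL := by
    intro d y hy
    rw [hNL] at hy ⊢
    rw [jj_d]
    exact hN d _ hy
  rcases (h L).2 NL hst with h1 | h1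
  · exfalso
    have hzN : z ∈ NL := by rw [hNL, hz]; exact hxN
    rw [h1, Submodule.mem_bot] at hzN
    rw [hzN, map_zero] at hz
    exact hx0 hz.symm
  · have h1e : ∀ e : E, (1 : AlgebraicClosure K) ⊗ₜ[K] e ∈ N := by
      intro e
      have h2 : (1 : L) ⊗ₜ[K] e ∈ NL := by rw [h1]; exact Submodule.mem_top
      rw [hNL, jj_tmul, map_one] at h2
      exact h2
    rw [eq_top_iff]
    intro y hy
    clear hy
    induction y using TensorProduct.induction_on with
    | zero => exact N.zero_mem
    | tmul a e =>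
      have h2 : a ⊗ₜ[K] e = a • ((1 : AlgebraicClosure K) ⊗ₜ[K] e) := by
        rw [TensorProduct.smul_tmul', smul_eq_mul, mul_one]
      rw [h2]
      exact N.smul_mem a (h1e e)
    | add a b ha hb => exact N.add_mem ha hb

end h9irr

/-- Let E be a left module over an associative algebra D over a field K of characteristic zero. For a
field extension L of K, the base change L ⊗_K E is a module over L ⊗_K D, i.e. an L-vector space
with a commuting action of D; call it irreducible when it is nonzero and its only L-subspaces stable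
under every element of D are 0 and the whole space. Then E is absolutely irreducible (its base
change to an algebraic closure of K is irreducible) if and only if L ⊗_K E is irreducible for every
finite extension L of K. (Finite extensions are taken in the universe of K.) -/
theorem result
    {K : Type u} [Field K] [CharZero K]
    {D : Type v} [Ring D] [Algebra K D]
    {E : Type w} [AddCommGroup E] [Module K E] [Module D E] [IsScalarTower K D E] :
    (Nontrivial (AlgebraicClosure K ⊗[K] E) ∧ ∀ N : Submodule (AlgebraicClosure K) (AlgebraicClosure K ⊗[K] E), (∀ (d : D) (x : AlgebraicClosure K ⊗[K] E), x ∈ N → (DistribSMul.toLinearMap K E d).baseChange (AlgebraicClosure K) x ∈ N) → N = ⊥ ∨ N = ⊤) ↔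
      ∀ (L : Type u) [Field L] [Algebra K L] [FiniteDimensional K L],
        (Nontrivial (L ⊗[K] E) ∧ ∀ N : Submodule (L) (L ⊗[K] E), (∀ (d : D) (x : L ⊗[K] E), x ∈ N → (DistribSMul.toLinearMap K E d).baseChange (L) x ∈ N) → N = ⊥ ∨ N = ⊤) := by
  constructor
  · intro h L _ _ _
    exact irr_descend D E (IsAlgClosed.lift : L →ₐ[K] AlgebraicClosure K) h
  · intro h
    exact irr_closure D E h

end Groth.Agent.S18794
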