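import Groth.Statements.S18795
import Mathlib
import Groth.Agent.Lib.helper9.BasisCoord

set_option autoImplicit false
universe u v w
open scoped TensorProduct
open DefMod

namespace Groth.Agent.S18795

theorem exists_eigen {L : Type*} [Field L] [IsAlgClosed L] {V : Type*} [AddCommGroup V] [Module L V]
    (ψ : Module.End L V) : ∀ (n : ℕ) (q : Polynomial L), q.natDegree = n → q ≠ 0 → ∀ x : V, x ≠ 0 →
      Polynomial.aeval ψ q x = 0 → ∃ μ : L, ∃ y : V, y ≠ 0 ∧ ψ y = μ • y := by
  intro n
  induction n using Nat.strong_induction_on with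
  | _ n ih =>
    intro q hn hq x hx hqx
    by_cases hdeg : q.degree = 0
    · obtain ⟨c, hc⟩ : ∃ c, q = Polynomial.C c := ⟨q.coeff 0, Polynomial.eq_C_of_degree_eq_zero hdeg⟩
      have hc0 : c ≠ 0 := by
        rintro rfl
        exact hq (by rw [hc, map_zero])
      rw [hc, Polynomial.aeval_C, Module.algebraMap_end_apply] at hqx
      exact absurd ((smul_eq_zero.mp hqx).resolve_left hc0) hx
    · obtain ⟨μ, hμ⟩ := IsAlgClosed.exists_root q hdeg
      have hfac : (Polynomial.X - Polynomial.C μ) * (q /ₘ (Polynomial.X - Polynomial.C μ)) = q :=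
        Polynomial.mul_divByMonic_eq_iff_isRoot.mpr hμ
      obtain ⟨q', hq'def⟩ : ∃ q', q' = q /ₘ (Polynomial.X - Polynomial.C μ) := ⟨_, rfl⟩
      rw [← hq'def] at hfac
      have hq' : q' ≠ 0 := by
        intro h
        rw [h, mul_zero] at hfac
        exact hq hfac.symm
      have hdeg' : q'.natDegree < n := by
        rw [← hn, ← hfac, Polynomial.natDegree_mul (Polynomial.X_sub_C_ne_zero μ) hq',
          Polynomial.natDegree_X_sub_C]
        omega
      by_cases hy : Polynomial.aeval ψ q' x = 0
      · exact ih _ hdeg' q' rfl hq' x hx hy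
      · refine ⟨μ, Polynomial.aeval ψ q' x, hy, ?_⟩
        have h3 : Polynomial.aeval ψ q x
            = (ψ - algebraMap L (Module.End L V) μ) (Polynomial.aeval ψ q' x) := by
          rw [← hfac, map_mul, map_sub, Polynomial.aeval_X, Polynomial.aeval_C]
          rfl
        rw [h3, LinearMap.sub_apply, Module.algebraMap_end_apply, sub_eq_zero] at hqx
        exact hqx

/-- Let E be a left module over an associative algebra D over a field K of characteristic zero. Assume
that the D-linear endomorphisms of E form a finite-dimensional K-vector space, that E has a finite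
presentation over D, and that E is absolutely irreducible: its base change K̄ ⊗_K E to an algebraic
closure K̄ of K is nonzero and its only K̄-subspaces stable under every element of D are 0 and the
whole space. Then End_D(E) = K: every D-linear endomorphism of E is multiplication by a scalar from
K. -/
theorem result
    {K : Type u} [Field K] [CharZero K]
    {D : Type v} [Ring D] [Algebra K D]
    {E : Type w} [AddCommGroup E] [Module K E] [Module D E] [IsScalarTower K D E]
    [Module.Finite K (E →ₗ[D] E)] [Module.FinitePresentation D E]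
    (habs : (Nontrivial (AlgebraicClosure K ⊗[K] E) ∧ ∀ N : Submodule (AlgebraicClosure K) (AlgebraicClosure K ⊗[K] E), (∀ (d : D) (x : AlgebraicClosure K ⊗[K] E), x ∈ N → (DistribSMul.toLinearMap K E d).baseChange (AlgebraicClosure K) x ∈ N) → N = ⊥ ∨ N = ⊤))
    (φ : E →ₗ[D] E) : ∃ c : K, ∀ x : E, φ x = c • x := by
  classical
  obtain ⟨hnt, hirr⟩ := habs
  obtain ⟨rs, hrs⟩ : ∃ rs : Module.End D E →ₐ[K] Module.End K E, ∀ f, rs f = f.restrictScalars K :=
    ⟨{ toFun := fun f => f.restrictScalars K
       map_one' := rfl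
       map_mul' := fun _ _ => rfl
       map_zero' := rfl
       map_add' := fun _ _ => rfl
       commutes' := fun c => rfl }, fun f => rfl⟩
  obtain ⟨m, hm_monic, hm⟩ := IsIntegral.of_finite K (φ : Module.End D E)
  obtain ⟨ψ, hψ⟩ : ∃ ψ : Module.End (AlgebraicClosure K) (AlgebraicClosure K ⊗[K] E),
      ψ = (φ.restrictScalars K).baseChange (AlgebraicClosure K) := ⟨_, rfl⟩
  have hψ' : ψ = ((Module.End.baseChangeHom K (AlgebraicClosure K) E).comp rs) φ := by
    rw [hψ, AlgHom.comp_apply, hrs]
    rfl
  have h1 : Polynomial.aeval ψ m = 0 := by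
    rw [hψ', Polynomial.aeval_algHom_apply, Polynomial.aeval_def, hm, map_zero]
  have h2 : Polynomial.aeval ψ (m.map (algebraMap K (AlgebraicClosure K))) = 0 := by
    rw [Polynomial.aeval_map_algebraMap]
    exact h1
  obtain ⟨x0, hx0⟩ := exists_ne (0 : AlgebraicClosure K ⊗[K] E)
  obtain ⟨μ, y, hy0, hy⟩ := exists_eigen ψ _ (m.map (algebraMap K (AlgebraicClosure K))) rfl
    (hm_monic.map _).ne_zero x0 hx0 (by rw [h2, LinearMap.zero_apply])
  -- commutation with D
  have hcomm : ∀ (d : D) (x : AlgebraicClosure K ⊗[K] E),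
      ψ ((DistribSMul.toLinearMap K E d).baseChange (AlgebraicClosure K) x)
        = (DistribSMul.toLinearMap K E d).baseChange (AlgebraicClosure K) (ψ x) := by
    intro d x
    have h3 : ψ ∘ₗ (DistribSMul.toLinearMap K E d).baseChange (AlgebraicClosure K)
        = (DistribSMul.toLinearMap K E d).baseChange (AlgebraicClosure K) ∘ₗ ψ := by
      rw [hψ, ← LinearMap.baseChange_comp, ← LinearMap.baseChange_comp]
      congr 1
      ext e
      simp
    exact LinearMap.congr_fun h3 x
  have hN := hirr (LinearMap.ker (ψ - μ • (1 : Module.End (AlgebraicClosure K) (AlgebraicClosure K ⊗[K] E))))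
    (by
      intro d x hx
      rw [LinearMap.mem_ker, LinearMap.sub_apply, LinearMap.smul_apply, Module.End.one_apply, sub_eq_zero] at hx ⊢
      rw [hcomm, hx, map_smul])
  have hall : ∀ x, ψ x = μ • x := by
    rcases hN with hN | hN
    · exfalso
      have hmem : y ∈ LinearMap.ker (ψ - μ • (1 : Module.End (AlgebraicClosure K) (AlgebraicClosure K ⊗[K] E))) := by
        rw [LinearMap.mem_ker, LinearMap.sub_apply, LinearMap.smul_apply, Module.End.one_apply, sub_eq_zero]
        exact hy
      rw [hN, Submodule.mem_bot] at hmem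
      exact hy0 hmem
    · intro x
      have hmem : x ∈ LinearMap.ker (ψ - μ • (1 : Module.End (AlgebraicClosure K) (AlgebraicClosure K ⊗[K] E))) := by
        rw [hN]; exact Submodule.mem_top
      rw [LinearMap.mem_ker, LinearMap.sub_apply, LinearMap.smul_apply, Module.End.one_apply, sub_eq_zero] at hmem
      exact hmem
  -- descend to K via coordinates
  have h10 : (Module.Basis.ofVectorSpace K (AlgebraicClosure K)).repr 1 ≠ 0 := by
    intro h0
    exact one_ne_zero ((Module.Basis.ofVectorSpace K (AlgebraicClosure K)).repr.map_eq_zero_iff.mp h0)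
  obtain ⟨β, hβ⟩ := Finsupp.ne_iff.mp h10
  rw [Finsupp.zero_apply] at hβ
  refine ⟨((Module.Basis.ofVectorSpace K (AlgebraicClosure K)).repr 1 β)⁻¹ *
    (Module.Basis.ofVectorSpace K (AlgebraicClosure K)).repr μ β, fun e => ?_⟩
  have h4 := hall ((1 : AlgebraicClosure K) ⊗ₜ[K] e)
  rw [hψ, LinearMap.baseChange_tmul, TensorProduct.smul_tmul', smul_eq_mul, mul_one] at h4
  have h5 := congrArg (H9BC.cf E β) h4
  rw [H9BC.cf_tmul, H9BC.cf_tmul] at h5
  rw [mul_smul, ← h5, smul_smul, inv_mul_cancel₀ hβ, one_smul]
  rfl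

end Groth.Agent.S18795
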