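import Groth.Statements.S18796
import Mathlib
import Groth.Agent.Lib.helper9.BasisCoord

set_option autoImplicit false
universe u v w w' u'
open scoped TensorProduct
open DefMod

namespace Groth.Agent.S18796

/-- Let K be a field of characteristic zero, D an associative K-algebra, E a left D-module that is
finitely presented over D, F a left D-module and P a commutative K-algebra. The canonical P-linear
map Φ : P ⊗_K Hom_D(E, F) → Hom_P(P ⊗_K E, P ⊗_K F), determined by p ⊗ f ↦ p · (1_P ⊗ f), is
injective, and its image consists exactly of the P-linear maps that commute with the action of every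
element of D; in other words Φ identifies P ⊗_K Hom_D(E, F) with the module of homomorphisms P ⊗_K E
→ P ⊗_K F over P ⊗_K D. The map Φ is pinned here by its values on pure tensors. -/
theorem result
    {K : Type u} [Field K] [CharZero K]
    {D : Type v} [Ring D] [Algebra K D]
    {E : Type w} [AddCommGroup E] [Module K E] [Module D E] [IsScalarTower K D E]
    [Module.FinitePresentation D E]
    {F : Type w'} [AddCommGroup F] [Module K F] [Module D F] [IsScalarTower K D F]
    (P : Type u') [CommRing P] [Algebra K P]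
    (Φ : P ⊗[K] (E →ₗ[D] F) →ₗ[P] (P ⊗[K] E →ₗ[P] P ⊗[K] F))
    (hΦ : ∀ (p : P) (f : E →ₗ[D] F), Φ (p ⊗ₜ[K] f) = p • (f.restrictScalars K).baseChange P) :
    Function.Injective Φ ∧
      ∀ g : P ⊗[K] E →ₗ[P] P ⊗[K] F,
        g ∈ LinearMap.range Φ ↔
          ∀ d : D, g ∘ₗ (DistribSMul.toLinearMap K E d).baseChange P =
            (DistribSMul.toLinearMap K F d).baseChange P ∘ₗ g := by
  classical
  have hpf : ∀ (p : P) (f : E →ₗ[D] F) (e : E), Φ (p ⊗ₜ[K] f) (1 ⊗ₜ[K] e) = p ⊗ₜ[K] f e := by
    intro p f e
    rw [hΦ]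
    simp [TensorProduct.smul_tmul']
  have hN : ∀ (t : P ⊗[K] (E →ₗ[D] F)) (β : Module.Basis.ofVectorSpaceIndex K P) (e : E),
      (H9BC.cf (E →ₗ[D] F) β t) e = H9BC.cf F β (Φ t (1 ⊗ₜ[K] e)) := by
    intro t β e
    induction t using TensorProduct.induction_on with
    | zero => simp
    | tmul p f =>
      rw [hpf, H9BC.cf_tmul, H9BC.cf_tmul]
      rfl
    | add x y hx hy =>
      rw [map_add, LinearMap.add_apply, hx, hy, map_add, LinearMap.add_apply, map_add]
  refine ⟨?_, ?_⟩
  · refine (injective_iff_map_eq_zero Φ).mpr (fun t ht => ?_)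
    apply H9BC.eq_zero_of_cf
    intro β
    ext e
    rw [hN, ht]
    simp
  · intro g
    rw [LinearMap.mem_range]
    constructor
    · rintro ⟨t, rfl⟩ d
      induction t using TensorProduct.induction_on with
      | zero => simp
      | tmul p f =>
        rw [hΦ, LinearMap.smul_comp, LinearMap.comp_smul, ← LinearMap.baseChange_comp,
          ← LinearMap.baseChange_comp]
        congr 2
        ext x
        simp
      | add x y hx hy => rw [map_add, LinearMap.add_comp, LinearMap.comp_add, hx, hy]
    · intro hg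
      have hg' : ∀ (d : D) (y : P ⊗[K] E), g ((DistribSMul.toLinearMap K E d).baseChange P y) =
          (DistribSMul.toLinearMap K F d).baseChange P (g y) := fun d y => LinearMap.congr_fun (hg d) y
      obtain ⟨G, hG⟩ : ∃ G : Module.Basis.ofVectorSpaceIndex K P → (E →ₗ[D] F),
          ∀ β e, G β e = H9BC.cf F β (g (1 ⊗ₜ[K] e)) := by
        refine ⟨fun β => { toFun := fun e => H9BC.cf F β (g (1 ⊗ₜ[K] e)), map_add' := ?_, map_smul' := ?_ },
          fun β e => rfl⟩
        · intro e e'
          rw [TensorProduct.tmul_add, map_add, map_add]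
        · intro d e
          have h1 : (1 : P) ⊗ₜ[K] (d • e) = (DistribSMul.toLinearMap K E d).baseChange P (1 ⊗ₜ[K] e) := by
            rw [LinearMap.baseChange_tmul]; rfl
          rw [h1, hg']
          exact H9BC.cf_map (DistribSMul.toLinearMap K F d) β (g (1 ⊗ₜ[K] e))
      obtain ⟨S, hS⟩ := (Module.Finite.fg_top : (⊤ : Submodule D E).FG)
      have hfin : ∀ e : E, ∃ Te : Finset (Module.Basis.ofVectorSpaceIndex K P),
          ∀ β, β ∉ Te → H9BC.cf F β (g (1 ⊗ₜ[K] e)) = 0 := fun e => H9BC.cf_fin F _
      choose Te hTe using hfin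
      have hGT : ∀ β, β ∉ S.biUnion Te → G β = 0 := by
        intro β hβ
        apply LinearMap.ext_on hS
        intro e he
        rw [hG, LinearMap.zero_apply]
        apply hTe
        intro hmem
        exact hβ (Finset.mem_biUnion.mpr ⟨e, Finset.mem_coe.mp he, hmem⟩)
      refine ⟨∑ β ∈ S.biUnion Te, (Module.Basis.ofVectorSpace K P) β ⊗ₜ[K] G β, ?_⟩
      apply TensorProduct.AlgebraTensorModule.ext
      intro p e
      have hpe : p ⊗ₜ[K] e = p • ((1 : P) ⊗ₜ[K] e) := by
        rw [TensorProduct.smul_tmul', smul_eq_mul, mul_one]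
      rw [hpe, map_smul, map_smul]
      congr 1
      rw [map_sum, LinearMap.sum_apply]
      have h2 := H9BC.cf_sum F (g (1 ⊗ₜ[K] e)) (S.biUnion Te)
        (fun β hβ => by rw [← hG, hGT β hβ, LinearMap.zero_apply])
      refine Eq.trans ?_ h2.symm
      refine Finset.sum_congr rfl (fun β _ => ?_)
      rw [hpf, hG]

end Groth.Agent.S18796
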