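import Groth.Statements.S18797
import Mathlib

set_option autoImplicit false
universe u v w
open DefMod

namespace Groth.Agent.S18797

/-- Let K be a field of characteristic zero, O a commutative K-algebra with a K-linear derivation ∂, and
E a finite free O-module equipped with a K-linear map ∂_E satisfying the Leibniz rule ∂_E(a e) =
∂(a) e + a ∂_E(e) (a differential module). The induced derivation on End_O(E) sends φ to ∂_E ∘ φ − φ
∘ ∂_E, which is again O-linear; the trace End_O(E) → O is compatible with the two derivations:
tr(∂_E ∘ φ − φ ∘ ∂_E) = ∂(tr φ). Here the O-linear map ψ = ∂_E ∘ φ − φ ∘ ∂_E is given by its values.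
(The published lemma also asserts that the trace is split surjective and that it respects commutator
brackets; the split surjectivity fails for E = 0 over a nonzero ring and holds only in positive
rank, and neither clause is restated.) -/
theorem result
    {K : Type u} [Field K] [CharZero K]
    {O : Type v} [CommRing O] [Algebra K O] (δ : Derivation K O O)
    {E : Type w} [AddCommGroup E] [Module O E] [Module K E] [IsScalarTower K O E]
    [Module.Free O E] [Module.Finite O E]
    (δE : E →ₗ[K] E) (hδE : ∀ (a : O) (e : E), δE (a • e) = δ a • e + a • δE e)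
    (φ ψ : E →ₗ[O] E) (hψ : ∀ e : E, ψ e = δE (φ e) - φ (δE e)) :
    LinearMap.trace O E ψ = δ (LinearMap.trace O E φ) := by
  classical
  let b := Module.Free.chooseBasis O E
  set N : Module.Free.ChooseBasisIndex O E → Module.Free.ChooseBasisIndex O E → O :=
    fun j i => b.repr (δE (b i)) j with hN
  set A : Module.Free.ChooseBasisIndex O E → Module.Free.ChooseBasisIndex O E → O :=
    fun j k => b.repr (φ (b k)) j with hA
  have claim1 : ∀ (v : E) j, b.repr (δE v) j = δ (b.repr v j) + ∑ i, b.repr v i * N j i := by
    intro v j
    conv_lhs => rw [← b.sum_repr v]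
    rw [map_sum]
    simp_rw [hδE]
    rw [map_sum, Finsupp.finsetSum_apply]
    simp only [map_add, map_smul, Finsupp.add_apply, Finsupp.smul_apply, smul_eq_mul,
      Module.Basis.repr_self, Finsupp.single_apply]
    rw [Finset.sum_add_distrib]
    congr 1
    simp
  have claim2 : ∀ (v : E) j, b.repr (φ v) j = ∑ k, b.repr v k * A j k := by
    intro v j
    conv_lhs => rw [← b.sum_repr v]
    rw [map_sum, map_sum, Finsupp.finsetSum_apply]
    simp only [map_smul, Finsupp.smul_apply, smul_eq_mul]
    rfl
  have htr : ∀ f : E →ₗ[O] E, LinearMap.trace O E f = ∑ j, b.repr (f (b j)) j := by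
    intro f
    rw [LinearMap.trace_eq_matrix_trace O b f, Matrix.trace]
    simp [LinearMap.toMatrix_apply]
  rw [htr ψ, htr φ, map_sum]
  simp_rw [hψ, map_sub, Finsupp.sub_apply, claim1, claim2]
  have hone : ∀ x j, ∑ k, ((Finsupp.single x (1:O) : _ →₀ O) k) * A j k = A j x := by
    intro x j
    simp [Finsupp.single_apply]
  simp only [Module.Basis.repr_self, hone]
  rw [Finset.sum_sub_distrib, Finset.sum_add_distrib]
  have hswap : ∑ x, ∑ x_1, A x_1 x * N x x_1 = ∑ j, ∑ k, b.repr (δE (b j)) k * A j k := by
    rw [Finset.sum_comm]
    apply Finset.sum_congr rfl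
    intro i _
    apply Finset.sum_congr rfl
    intro j _
    simp only [hN]
    ring
  rw [hswap]
  ring

end Groth.Agent.S18797
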