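import Groth.Statements.S18802
import Mathlib

set_option autoImplicit false
universe u v w w' w''
open DefMod

namespace Groth.Agent.S18802

theorem aux
    {K : Type u} [Field K]
    {D : Type v} [Ring D] [Algebra K D]
    {E : Type w} [AddCommGroup E] [Module K E] [Module D E] [IsScalarTower K D E]
    {F : Type w'} [AddCommGroup F] [Module K F] [Module D F] [IsScalarTower K D F]
    {Q : Type w''} [AddCommGroup Q] [Module D Q] [Module K Q] [IsScalarTower K D Q]
    (i : F →ₗ[D] Q) (p : Q →ₗ[D] E) (hi : Function.Injective i) (hp : Function.Surjective p)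
    (hex : Function.Exact i p) :
    ∃ (s : D →ₗ[K] E →ₗ[K] F) (hs : W4c6defoisocp1.IsHomDerivation s) (Φ : Q ≃ₗ[D] W4c6defoisocp1.TwistExt s hs),
      (∀ f : F, Φ (i f) = W4c6defoisocp1.TwistExt.inl f) ∧ ∀ q : Q, W4c6defoisocp1.TwistExt.snd (Φ q) = p q := by
  obtain ⟨σ, hσ⟩ := (p.restrictScalars K).exists_rightInverse_of_surjective
    (LinearMap.range_eq_top.mpr (show Function.Surjective (p.restrictScalars K) from hp))
  obtain ⟨ρ0, hρ0⟩ := (i.restrictScalars K).exists_leftInverse_of_injective
    (LinearMap.ker_eq_bot.mpr (show Function.Injective (i.restrictScalars K) from hi))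
  have hσp : ∀ e, p (σ e) = e := fun e => LinearMap.congr_fun hσ e
  have hρ0i : ∀ f, ρ0 (i f) = f := fun f => LinearMap.congr_fun hρ0 f
  obtain ⟨ρ, hρ⟩ : ∃ ρ : Q →ₗ[K] F, ∀ q, ρ q = ρ0 (q - σ (p q)) :=
    ⟨ρ0 ∘ₗ (LinearMap.id - σ ∘ₗ p.restrictScalars K), fun q => rfl⟩
  have hpi : ∀ f, p (i f) = 0 := fun f => (hex (i f)).mpr ⟨f, rfl⟩
  have P1 : ∀ f, ρ (i f) = f := by
    intro f
    rw [hρ, hpi, map_zero, sub_zero, hρ0i]
  have P2 : ∀ q, i (ρ q) = q - σ (p q) := by
    intro q
    have h0 : p (q - σ (p q)) = 0 := by rw [map_sub, hσp, sub_self]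
    obtain ⟨f, hf⟩ := (hex _).mp h0
    rw [hρ, ← hf, hρ0i]
  have P4 : ∀ e, ρ (σ e) = 0 := by
    intro e
    rw [hρ, hσp, sub_self, map_zero]
  obtain ⟨s, hs_def⟩ : ∃ s : D →ₗ[K] E →ₗ[K] F, ∀ a e, s a e = ρ (a • σ e) :=
    ⟨LinearMap.mk₂ K (fun a e => ρ (a • σ e))
      (fun a a' e => by rw [add_smul, map_add])
      (fun c a e => by rw [smul_assoc, map_smul])
      (fun a e e' => by rw [map_add, smul_add, map_add])
      (fun c a e => by rw [map_smul σ, smul_comm a c, map_smul]), fun a e => rfl⟩
  have hs : W4c6defoisocp1.IsHomDerivation s := by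
    intro a b e
    apply hi
    rw [hs_def, hs_def, hs_def, map_add, i.map_smul, P2, P2, P2]
    simp only [map_smul, hσp, mul_smul, smul_sub]
    abel
  have hΦsmul : ∀ (a : D) (q : Q), ρ (a • q) = a • ρ q + s a (p q) := by
    intro a q
    apply hi
    rw [map_add, i.map_smul, hs_def, P2, P2, P2]
    simp only [map_smul, hσp, smul_sub]
    abel
  obtain ⟨Φ0, hΦ0⟩ : ∃ Φ0 : Q →ₗ[D] W4c6defoisocp1.TwistExt s hs,
      ∀ q, W4c6defoisocp1.TwistExt.val (Φ0 q) = (ρ q, p q) :=
    ⟨{ toFun := fun q => W4c6defoisocp1.TwistExt.mk (ρ q, p q)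
       map_add' := fun q q' => W4c6defoisocp1.TwistExt.ext (by simp) (by simp)
       map_smul' := fun a q => W4c6defoisocp1.TwistExt.ext (by simpa using hΦsmul a q) (by simp) },
      fun q => rfl⟩
  have inj : Function.Injective Φ0 := by
    refine (injective_iff_map_eq_zero Φ0).mpr (fun q hq => ?_)
    have h1 : ρ q = 0 := by
      have := congrArg (fun x => (W4c6defoisocp1.TwistExt.val x).1) hq
      simpa [hΦ0] using this
    have h2 : p q = 0 := by
      have := congrArg (fun x => (W4c6defoisocp1.TwistExt.val x).2) hq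
      simpa [hΦ0] using this
    have h3 := P2 q
    rw [h1, h2, map_zero, map_zero, sub_zero] at h3
    exact h3.symm
  have surj : Function.Surjective Φ0 := by
    intro x
    refine ⟨i (W4c6defoisocp1.TwistExt.val x).1 + σ (W4c6defoisocp1.TwistExt.val x).2, ?_⟩
    apply W4c6defoisocp1.TwistExt.ext
    · rw [hΦ0]
      show ρ (i _ + σ _) = _
      rw [map_add, P1, P4, add_zero]
    · rw [hΦ0]
      show p (i _ + σ _) = _
      rw [map_add, hpi, hσp, zero_add]
  refine ⟨s, hs, LinearEquiv.ofBijective Φ0 ⟨inj, surj⟩, ?_, ?_⟩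
  · intro f
    rw [LinearEquiv.ofBijective_apply]
    apply W4c6defoisocp1.TwistExt.ext
    · rw [hΦ0, W4c6defoisocp1.TwistExt.val_inl]
      exact P1 f
    · rw [hΦ0, W4c6defoisocp1.TwistExt.val_inl]
      exact hpi f
  · intro q
    rw [LinearEquiv.ofBijective_apply, W4c6defoisocp1.TwistExt.snd_apply, hΦ0]

/-- Let K be a field of characteristic zero, D an associative K-algebra and E, F left D-modules. A
K-linear map s : D → Hom_K(E, F) with s(ab)(e) = a s(b)(e) + s(a)(b e) (a derivation into the
bimodule Hom_K(E, F), i.e. a Hochschild 1-cocycle) defines the twisted sum F ⊕_s E = F × E with a ·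
(f, e) = (a f + s(a) e, a e), an extension of E by F. Every extension of left D-modules 0 → F → Q →
E → 0 arises this way: there are such an s and a D-linear isomorphism Q ≅ F ⊕_s E carrying the given
map F → Q to the inclusion f ↦ (f, 0) and compatible with the two projections onto E. (Together with
the splitting criterion this identifies derivations modulo principal derivations with Ext¹_D(E, F);
the compatibility of that identification with addition and scalars is not restated.) -/
theorem result
    {K : Type u} [Field K] [CharZero K]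
    {D : Type v} [Ring D] [Algebra K D]
    {E : Type w} [AddCommGroup E] [Module K E] [Module D E] [IsScalarTower K D E]
    {F : Type w'} [AddCommGroup F] [Module K F] [Module D F] [IsScalarTower K D F]
    {Q : Type w''} [AddCommGroup Q] [Module D Q]
    (i : F →ₗ[D] Q) (p : Q →ₗ[D] E) (hi : Function.Injective i) (hp : Function.Surjective p)
    (hex : Function.Exact i p) :
    ∃ (s : D →ₗ[K] E →ₗ[K] F) (hs : W4c6defoisocp1.IsHomDerivation s) (Φ : Q ≃ₗ[D] W4c6defoisocp1.TwistExt s hs),
      (∀ f : F, Φ (i f) = W4c6defoisocp1.TwistExt.inl f) ∧ ∀ q : Q, W4c6defoisocp1.TwistExt.snd (Φ q) = p q := by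
  letI : Module K Q := Module.compHom Q (algebraMap K D)
  haveI : IsScalarTower K D Q := ⟨fun c d q => by
    show (c • d) • q = algebraMap K D c • (d • q)
    rw [Algebra.smul_def, mul_smul]⟩
  exact aux i p hi hp hex

end Groth.Agent.S18802
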