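import Groth.Statements.S18803
import Mathlib

set_option autoImplicit false
universe u v w w'
open DefMod

namespace Groth.Agent.S18803

/-- Let K be a field of characteristic zero, D an associative K-algebra, E and F left D-modules, and s :
D → Hom_K(E, F) a K-linear map with s(ab)(e) = a s(b)(e) + s(a)(b e). The twisted sum F ⊕_s E (that
is F × E with a · (f, e) = (a f + s(a) e, a e)) is a trivial extension of E by F — there is a
D-linear isomorphism F ⊕_s E ≅ F × E with the direct-sum module structure, carrying the inclusion f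
↦ (f, 0) to itself and compatible with the second projections — if and only if s is principal:
s(a)(e) = a σ(e) − σ(a e) for some K-linear σ : E → F (a Hochschild 1-coboundary). -/
theorem result
    {K : Type u} [Field K] [CharZero K]
    {D : Type v} [Ring D] [Algebra K D]
    {E : Type w} [AddCommGroup E] [Module K E] [Module D E] [IsScalarTower K D E]
    {F : Type w'} [AddCommGroup F] [Module K F] [Module D F] [IsScalarTower K D F]
    (s : D →ₗ[K] E →ₗ[K] F) (hs : W4c6defoisocp1.IsHomDerivation s) :
    (∃ Ψ : W4c6defoisocp1.TwistExt s hs ≃ₗ[D] F × E,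
        (∀ f : F, Ψ (W4c6defoisocp1.TwistExt.inl f) = (f, 0)) ∧ ∀ x : W4c6defoisocp1.TwistExt s hs, (Ψ x).2 = W4c6defoisocp1.TwistExt.snd x) ↔
      W4c6defoisocp1.IsPrincipal s := by
  constructor
  · rintro ⟨Ψ, hΨ1, hΨ2⟩
    have hmk : ∀ (c : K) (e : E), (algebraMap K D c) • (W4c6defoisocp1.TwistExt.mk (0, e) : W4c6defoisocp1.TwistExt s hs)
        = W4c6defoisocp1.TwistExt.mk (0, c • e) := by
      intro c e
      apply W4c6defoisocp1.TwistExt.ext
      · simp only [W4c6defoisocp1.TwistExt.val_smul, W4c6defoisocp1.TwistExt.val_mk, smul_zero, zero_add]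
        rw [Algebra.algebraMap_eq_smul_one, map_smul, W4c6defoisocp1.TwistExt.map_one_eq_zero hs]
        simp
      · simp only [W4c6defoisocp1.TwistExt.val_smul, W4c6defoisocp1.TwistExt.val_mk]
        exact algebraMap_smul D c e
    obtain ⟨σ, hσ⟩ : ∃ σ : E →ₗ[K] F, ∀ e, σ e = (Ψ (W4c6defoisocp1.TwistExt.mk (0, e))).1 :=
      ⟨{ toFun := fun e => (Ψ (W4c6defoisocp1.TwistExt.mk (0, e))).1
         map_add' := fun e e' => by
           have h0 : (W4c6defoisocp1.TwistExt.mk (0, e + e') : W4c6defoisocp1.TwistExt s hs)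
               = W4c6defoisocp1.TwistExt.mk (0, e) + W4c6defoisocp1.TwistExt.mk (0, e') :=
             W4c6defoisocp1.TwistExt.ext (by simp) (by simp)
           rw [h0, map_add]
           rfl
         map_smul' := fun c e => by
           rw [RingHom.id_apply, ← hmk, map_smul]
           show (algebraMap K D c • Ψ _).1 = c • _
           rw [Prod.smul_fst, algebraMap_smul] }, fun e => rfl⟩
    refine ⟨σ, fun a e => ?_⟩
    have h1 : a • (W4c6defoisocp1.TwistExt.mk (0, e) : W4c6defoisocp1.TwistExt s hs)
        = W4c6defoisocp1.TwistExt.inl (s a e) + W4c6defoisocp1.TwistExt.mk (0, a • e) :=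
      W4c6defoisocp1.TwistExt.ext (by simp) (by simp)
    have h2 := congrArg (fun y => (Ψ y).1) h1
    simp only [map_smul, map_add, hΨ1, Prod.smul_fst, Prod.fst_add] at h2
    rw [hσ, hσ, h2]
    abel
  · rintro ⟨σ, hσ⟩
    obtain ⟨Ψ, hΨ⟩ : ∃ Ψ : W4c6defoisocp1.TwistExt s hs ≃ₗ[D] F × E,
        ∀ x, Ψ x = ((W4c6defoisocp1.TwistExt.val x).1 + σ (W4c6defoisocp1.TwistExt.val x).2,
          (W4c6defoisocp1.TwistExt.val x).2) :=
      ⟨{ toFun := fun x => ((W4c6defoisocp1.TwistExt.val x).1 + σ (W4c6defoisocp1.TwistExt.val x).2,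
            (W4c6defoisocp1.TwistExt.val x).2)
         map_add' := fun x y => Prod.ext
           (by simp only [W4c6defoisocp1.TwistExt.val_add, Prod.fst_add, Prod.snd_add, map_add]; abel)
           (by simp)
         map_smul' := fun a x => Prod.ext
           (by simp only [W4c6defoisocp1.TwistExt.val_smul, RingHom.id_apply, Prod.smul_fst, hσ, smul_add]; abel)
           (by simp)
         invFun := fun y => W4c6defoisocp1.TwistExt.mk (y.1 - σ y.2, y.2)
         left_inv := fun x => W4c6defoisocp1.TwistExt.ext (by simp) (by simp)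
         right_inv := fun y => Prod.ext (by simp) (by simp) }, fun x => rfl⟩
    refine ⟨Ψ, fun f => ?_, fun x => ?_⟩
    · rw [hΨ, W4c6defoisocp1.TwistExt.val_inl]
      simp
    · rw [hΨ, W4c6defoisocp1.TwistExt.snd_apply]

end Groth.Agent.S18803
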