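import Groth.Statements.S18806
import Mathlib

set_option autoImplicit false
universe u v v' w w' x
open TensorProduct
open HopfRep

namespace Groth.Agent.S18806

/-- Let k be a field, i : C → D an injective morphism of k-coalgebras and V a right D-comodule with
coaction ρ : V → V ⊗ D. If ρ(v) lies in the image of V ⊗ C → V ⊗ D (induced by i) for every v, then
V comes from a C-comodule: there is a C-comodule structure on V whose coaction, followed by V ⊗ C →
V ⊗ D, is ρ. (The source states this for left comodules over the coordinate bialgebras of an affine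
monoid scheme over k and of its group of units, assumed open and schematically dense, and uses that
assumption only through the injectivity of the restriction map of coordinate rings; the row is the
right-comodule mirror image for any injective coalgebra map. The converse direction is immediate.) -/
theorem result (k : Type u) [Field k]
    (C : Type v) [AddCommGroup C] [Module k C] [Coalgebra k C]
    (D : Type v') [AddCommGroup D] [Module k D] [Coalgebra k D]
    (i : C →ₗc[k] D) (hi : Function.Injective i)
    (V : Type w) [AddCommGroup V] [Module k V] [HopfRep.Comod k D V]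
    (h : ∀ v : V, HopfRep.Comod.coact (k := k) (A := D) v ∈ LinearMap.range ((i : C →ₗ[k] D).lTensor V)) :
    ∃ c : HopfRep.Comod k C V,
      (i : C →ₗ[k] D).lTensor V ∘ₗ c.coact = HopfRep.Comod.coact (k := k) (A := D) := by
  let ρD : V →ₗ[k] V ⊗[k] D := HopfRep.Comod.coact (k := k) (A := D)
  let iL : C →ₗ[k] D := (i : C →ₗ[k] D)
  have hiV : Function.Injective (iL.lTensor V) :=
    Module.Flat.lTensor_preserves_injective_linearMap _ hi
  let e := LinearEquiv.ofInjective (iL.lTensor V) hiV
  let ρ : V →ₗ[k] V ⊗[k] C := e.symm.toLinearMap ∘ₗ ρD.codRestrict (LinearMap.range (iL.lTensor V)) h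
  have hρ : iL.lTensor V ∘ₗ ρ = ρD := by
    ext v
    simp only [ρ, LinearMap.comp_apply, LinearEquiv.coe_coe]
    have := e.apply_symm_apply (ρD.codRestrict (LinearMap.range (iL.lTensor V)) h v)
    have h2 := congrArg Subtype.val this
    simpa [e] using h2
  have hnat : (TensorProduct.assoc k V D D).toLinearMap ∘ₗ TensorProduct.map (iL.lTensor V) iL =
      (TensorProduct.map iL iL).lTensor V ∘ₗ (TensorProduct.assoc k V C C).toLinearMap := by
    ext v c c'
    simp
  have hJ : Function.Injective ((TensorProduct.map iL iL).lTensor V) := by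
    apply Module.Flat.lTensor_preserves_injective_linearMap
    have : TensorProduct.map iL iL = iL.rTensor D ∘ₗ iL.lTensor C := by
      ext c c'
      simp
    rw [this]
    exact (Module.Flat.rTensor_preserves_injective_linearMap _ hi).comp
      (Module.Flat.lTensor_preserves_injective_linearMap _ hi)
  have h3 : TensorProduct.map iL iL ∘ₗ (CoalgebraStruct.comul (R := k) (A := C)) =
      (CoalgebraStruct.comul (R := k) (A := D)) ∘ₗ iL := i.map_comp_comul
  have h4 : (CoalgebraStruct.counit (R := k) (A := D)) ∘ₗ iL =
      (CoalgebraStruct.counit (R := k) (A := C)) := i.counit_comp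
  refine ⟨{ coact := ρ, coassoc := ?_, counit_comp := ?_ }, hρ⟩
  · apply LinearMap.ext
    intro v
    apply hJ
    have h1 : (iL.lTensor V ∘ₗ ρ).rTensor D ∘ₗ iL.lTensor V =
        TensorProduct.map (iL.lTensor V) iL ∘ₗ ρ.rTensor C := by
      ext v c
      simp
    have h1' : TensorProduct.map (iL.lTensor V) iL ∘ₗ ρ.rTensor C = ρD.rTensor D ∘ₗ iL.lTensor V := by
      rw [← h1, hρ]
    have hD := HopfRep.Comod.coassoc (k := k) (A := D) (V := V)
    have key : (TensorProduct.map iL iL).lTensor V ∘ₗ
          ((TensorProduct.assoc k V C C).toLinearMap ∘ₗ ρ.rTensor C ∘ₗ ρ) =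
        (TensorProduct.map iL iL).lTensor V ∘ₗ
          ((CoalgebraStruct.comul (R := k) (A := C)).lTensor V ∘ₗ ρ) := by
      calc (TensorProduct.map iL iL).lTensor V ∘ₗ
            ((TensorProduct.assoc k V C C).toLinearMap ∘ₗ ρ.rTensor C ∘ₗ ρ)
          = ((TensorProduct.map iL iL).lTensor V ∘ₗ (TensorProduct.assoc k V C C).toLinearMap) ∘ₗ
              ρ.rTensor C ∘ₗ ρ := by simp only [LinearMap.comp_assoc]
        _ = (TensorProduct.assoc k V D D).toLinearMap ∘ₗ
              (TensorProduct.map (iL.lTensor V) iL ∘ₗ ρ.rTensor C) ∘ₗ ρ := by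
            rw [← hnat]; simp only [LinearMap.comp_assoc]
        _ = (TensorProduct.assoc k V D D).toLinearMap ∘ₗ ρD.rTensor D ∘ₗ (iL.lTensor V ∘ₗ ρ) := by
            rw [h1']; simp only [LinearMap.comp_assoc]
        _ = (TensorProduct.assoc k V D D).toLinearMap ∘ₗ ρD.rTensor D ∘ₗ ρD := by
            rw [hρ]
        _ = (CoalgebraStruct.comul (R := k) (A := D)).lTensor V ∘ₗ ρD := hD
        _ = (CoalgebraStruct.comul (R := k) (A := D) ∘ₗ iL).lTensor V ∘ₗ ρ := by
            rw [← hρ, LinearMap.lTensor_comp]; simp only [LinearMap.comp_assoc]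
        _ = (TensorProduct.map iL iL).lTensor V ∘ₗ
              ((CoalgebraStruct.comul (R := k) (A := C)).lTensor V ∘ₗ ρ) := by
            rw [← h3, LinearMap.lTensor_comp]; simp only [LinearMap.comp_assoc]
    exact congrArg (fun g => g v) key
  · have hD := HopfRep.Comod.counit_comp (k := k) (A := D) (V := V)
    rw [← h4, LinearMap.lTensor_comp, LinearMap.comp_assoc, hρ]
    exact hD

end Groth.Agent.S18806
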