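import Groth.Statements.S18808
import Mathlib

set_option autoImplicit false
universe u v v' w w' x
open TensorProduct
open HopfRep

namespace Groth.Agent.S18808

lemma h9_mem_range_rTensor_iff {k : Type*} [Field k] {V : Type*} [AddCommGroup V] [Module k V]
    {E : Type*} [AddCommGroup E] [Module k E] {κ : Type*} [DecidableEq κ] (𝒞 : Module.Basis κ k E)
    (W : Submodule k V) (t : V ⊗[k] E) :
    t ∈ LinearMap.range (W.subtype.rTensor E) ↔
      ∀ b, TensorProduct.equivFinsuppOfBasisRight 𝒞 t b ∈ W := by
  constructor
  · rintro ⟨s, rfl⟩ b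
    induction s using TensorProduct.induction_on with
    | zero => simp
    | tmul w d =>
      simp only [LinearMap.rTensor_tmul, Submodule.subtype_apply,
        TensorProduct.equivFinsuppOfBasisRight_apply_tmul_apply]
      exact W.smul_mem _ w.2
    | add x y hx hy =>
      simp only [map_add, Finsupp.add_apply]
      exact W.add_mem hx hy
  · intro h
    have ht : t = (TensorProduct.equivFinsuppOfBasisRight 𝒞).symm
        (TensorProduct.equivFinsuppOfBasisRight 𝒞 t) := by simp
    rw [ht, TensorProduct.equivFinsuppOfBasisRight_symm_apply, Finsupp.sum]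
    apply Submodule.sum_mem
    intro b _
    exact ⟨(⟨_, h b⟩ : W) ⊗ₜ 𝒞 b, by simp⟩

lemma h9_mem_range_rTensor_sInf {k : Type*} [Field k] {V : Type*} [AddCommGroup V] [Module k V]
    (E : Type*) [AddCommGroup E] [Module k E]
    (S : Set (Submodule k V)) (t : V ⊗[k] E)
    (h : ∀ K ∈ S, t ∈ LinearMap.range (K.subtype.rTensor E)) :
    t ∈ LinearMap.range ((sInf S).subtype.rTensor E) := by
  classical
  let 𝒞 := Module.Basis.ofVectorSpace k E
  rw [h9_mem_range_rTensor_iff 𝒞]
  intro b
  rw [Submodule.mem_sInf]
  intro K hK
  exact (h9_mem_range_rTensor_iff 𝒞 K t).1 (h K hK) b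

/-- Let k be a field, i : C → D an injective morphism of k-coalgebras and V a right D-comodule with
coaction ρ. Call a D-subcomodule K of V admissible when the induced coaction of V/K, namely ρ
followed by the projection V ⊗ D → (V/K) ⊗ D, takes all its values in the image of (V/K) ⊗ C → (V/K)
⊗ D (so that V/K comes from a C-comodule). Then there is a least admissible D-subcomodule of V: V
has a largest quotient D-comodule coming from C, through which every D-comodule map from V to a
comodule coming from C factors. (The source states this for left comodules over the coordinate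
bialgebras of an affine monoid scheme and its open schematically dense group of units, as the
existence of a universal map from a representation of the unit group to a representation of the
monoid; it uses that assumption only through the injectivity of the restriction map.) -/
theorem result (k : Type u) [Field k]
    (C : Type v) [AddCommGroup C] [Module k C] [Coalgebra k C]
    (D : Type v') [AddCommGroup D] [Module k D] [Coalgebra k D]
    (i : C →ₗc[k] D) (hi : Function.Injective i)
    (V : Type w) [AddCommGroup V] [Module k V] [HopfRep.Comod k D V] :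
    ∃ K : Submodule k V, HopfRep.IsSubcomod (k := k) (A := D) K ∧
      (∀ v : V, K.mkQ.rTensor D (HopfRep.Comod.coact (k := k) (A := D) v) ∈
        LinearMap.range ((i : C →ₗ[k] D).lTensor (V ⧸ K))) ∧
      ∀ K' : Submodule k V, HopfRep.IsSubcomod (k := k) (A := D) K' →
        (∀ v : V, K'.mkQ.rTensor D (HopfRep.Comod.coact (k := k) (A := D) v) ∈
          LinearMap.range ((i : C →ₗ[k] D).lTensor (V ⧸ K'))) → K ≤ K' := by
  let q := (LinearMap.range (i : C →ₗ[k] D)).mkQ
  have hex : Function.Exact (i : C →ₗ[k] D) q := LinearMap.exact_map_mkQ_range _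
  have hq : Function.Surjective q := Submodule.mkQ_surjective _
  have hA : ∀ (K : Submodule k V) (t : V ⊗[k] D),
      (K.mkQ.rTensor D t ∈ LinearMap.range ((i : C →ₗ[k] D).lTensor (V ⧸ K))) ↔
      (q.lTensor V t ∈ LinearMap.range (K.subtype.rTensor (D ⧸ LinearMap.range (i : C →ₗ[k] D)))) := by
    intro K t
    have e1 := lTensor_exact (V ⧸ K) hex hq
    have e2 := rTensor_exact (D ⧸ LinearMap.range (i : C →ₗ[k] D))
      (LinearMap.exact_subtype_mkQ K) (Submodule.mkQ_surjective K)
    rw [← (LinearMap.exact_iff.1 e1), ← (LinearMap.exact_iff.1 e2), LinearMap.mem_ker,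
      LinearMap.mem_ker, ← LinearMap.comp_apply, ← LinearMap.comp_apply,
      LinearMap.lTensor_comp_rTensor, LinearMap.rTensor_comp_lTensor]
  let S : Set (Submodule k V) := {K' | HopfRep.IsSubcomod (k := k) (A := D) K' ∧
    ∀ v : V, K'.mkQ.rTensor D (HopfRep.Comod.coact (k := k) (A := D) v) ∈
      LinearMap.range ((i : C →ₗ[k] D).lTensor (V ⧸ K'))}
  refine ⟨sInf S, ?_, ?_, ?_⟩
  · intro w hw
    apply h9_mem_range_rTensor_sInf
    intro K' hK'
    exact hK'.1 w ((Submodule.mem_sInf.1 hw) K' hK')
  · intro v
    rw [hA]
    apply h9_mem_range_rTensor_sInf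
    intro K' hK'
    exact (hA K' _).1 (hK'.2 v)
  · intro K' h1 h2
    exact sInf_le ⟨h1, h2⟩

end Groth.Agent.S18808
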