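import Groth.Statements.S18809
import Mathlib

set_option autoImplicit false
universe u v v' w w' x
open TensorProduct
open HopfRep

namespace Groth.Agent.S18809

/-- Let k be a field and i : C → D an injective morphism of k-coalgebras. If every right D-comodule is
semisimple (every subcomodule has a complementary subcomodule), then every right C-comodule is
semisimple. (The source states this for the coordinate bialgebras of an affine monoid scheme over k
and of its open schematically dense group of units, through the injectivity of the restriction map,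
with semisimple meaning that every representation is a sum of irreducible subrepresentations;
D-comodules are quantified in the universe of the given C-comodule.) -/
theorem result (k : Type u) [Field k]
    (C : Type v) [AddCommGroup C] [Module k C] [Coalgebra k C]
    (D : Type v') [AddCommGroup D] [Module k D] [Coalgebra k D]
    (i : C →ₗc[k] D) (hi : Function.Injective i)
    (hD : ∀ (W : Type w) [AddCommGroup W] [Module k W] [HopfRep.Comod k D W], HopfRep.IsSemisimpleComod k D W)
    (V : Type w) [AddCommGroup V] [Module k V] [HopfRep.Comod k C V] :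
    HopfRep.IsSemisimpleComod k C V := by
  let ρ : V →ₗ[k] V ⊗[k] C := HopfRep.Comod.coact (k := k) (A := C)
  let iL : C →ₗ[k] D := (i : C →ₗ[k] D)
  have hnat : (TensorProduct.assoc k V D D).toLinearMap ∘ₗ TensorProduct.map (iL.lTensor V) iL =
      (TensorProduct.map iL iL).lTensor V ∘ₗ (TensorProduct.assoc k V C C).toLinearMap := by
    ext v c c'
    simp
  letI instD : HopfRep.Comod k D V :=
    { coact := iL.lTensor V ∘ₗ ρ
      coassoc := by
        have h1 : (iL.lTensor V ∘ₗ ρ).rTensor D ∘ₗ iL.lTensor V =
            TensorProduct.map (iL.lTensor V) iL ∘ₗ ρ.rTensor C := by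
          ext v c
          simp
        have h2 := HopfRep.Comod.coassoc (k := k) (A := C) (V := V)
        have h3 : TensorProduct.map iL iL ∘ₗ (CoalgebraStruct.comul (R := k) (A := C)) =
            (CoalgebraStruct.comul (R := k) (A := D)) ∘ₗ iL := i.map_comp_comul
        calc (TensorProduct.assoc k V D D).toLinearMap ∘ₗ (iL.lTensor V ∘ₗ ρ).rTensor D ∘ₗ (iL.lTensor V ∘ₗ ρ)
            = (TensorProduct.assoc k V D D).toLinearMap ∘ₗ
                ((iL.lTensor V ∘ₗ ρ).rTensor D ∘ₗ iL.lTensor V) ∘ₗ ρ := by
              simp only [LinearMap.comp_assoc]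
          _ = ((TensorProduct.assoc k V D D).toLinearMap ∘ₗ TensorProduct.map (iL.lTensor V) iL) ∘ₗ
                ρ.rTensor C ∘ₗ ρ := by
              rw [h1]; simp only [LinearMap.comp_assoc]
          _ = (TensorProduct.map iL iL).lTensor V ∘ₗ
                ((TensorProduct.assoc k V C C).toLinearMap ∘ₗ ρ.rTensor C ∘ₗ ρ) := by
              rw [hnat]; simp only [LinearMap.comp_assoc]
          _ = (TensorProduct.map iL iL).lTensor V ∘ₗ
                ((CoalgebraStruct.comul (R := k) (A := C)).lTensor V ∘ₗ ρ) := by
              rw [h2]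
          _ = (TensorProduct.map iL iL ∘ₗ (CoalgebraStruct.comul (R := k) (A := C))).lTensor V ∘ₗ ρ := by
              rw [LinearMap.lTensor_comp]; simp only [LinearMap.comp_assoc]
          _ = (CoalgebraStruct.comul (R := k) (A := D)).lTensor V ∘ₗ (iL.lTensor V ∘ₗ ρ) := by
              rw [h3, LinearMap.lTensor_comp]; simp only [LinearMap.comp_assoc]
      counit_comp := by
        have h3 : (CoalgebraStruct.counit (R := k) (A := D)) ∘ₗ iL =
            (CoalgebraStruct.counit (R := k) (A := C)) := i.counit_comp
        have h2 := HopfRep.Comod.counit_comp (k := k) (A := C) (V := V)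
        rw [← LinearMap.comp_assoc, ← LinearMap.lTensor_comp, h3]
        exact h2 }
  intro W hW
  -- W is a D-subcomodule
  have hWD : HopfRep.IsSubcomod (k := k) (A := D) W := by
    intro w hw
    obtain ⟨t, ht⟩ := hW w hw
    show (iL.lTensor V ∘ₗ ρ) w ∈ _
    rw [LinearMap.comp_apply]
    show iL.lTensor V (HopfRep.Comod.coact (k := k) (A := C) w) ∈ _
    rw [← ht]
    refine ⟨iL.lTensor W t, ?_⟩
    rw [← LinearMap.comp_apply, ← LinearMap.comp_apply]
    congr 1
    ext x c
    simp
  obtain ⟨W', hW', hcompl⟩ := hD V W hWD
  refine ⟨W', ?_, hcompl⟩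
  -- W' is a C-subcomodule, by injectivity
  intro w hw
  have hex : Function.Exact (W'.subtype.rTensor C) (W'.mkQ.rTensor C) :=
    rTensor_exact C (LinearMap.exact_subtype_mkQ W') (Submodule.mkQ_surjective W')
  rw [LinearMap.mem_range]
  apply (hex _).mp
  have hinj : Function.Injective (iL.lTensor (V ⧸ W')) :=
    Module.Flat.lTensor_preserves_injective_linearMap _ hi
  apply hinj
  rw [map_zero]
  have hcomm : iL.lTensor (V ⧸ W') ∘ₗ W'.mkQ.rTensor C =
      W'.mkQ.rTensor D ∘ₗ iL.lTensor V := by
    ext v c
    simp
  have h1 := congrArg (fun g => g (HopfRep.Comod.coact (k := k) (A := C) w)) hcomm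
  simp only [LinearMap.comp_apply] at h1
  rw [h1]
  obtain ⟨t, ht⟩ := hW' w hw
  have ht' : iL.lTensor V (HopfRep.Comod.coact (k := k) (A := C) w) = W'.subtype.rTensor D t := ht.symm
  rw [ht', ← LinearMap.comp_apply, ← LinearMap.rTensor_comp]
  have : W'.mkQ ∘ₗ W'.subtype = 0 := by
    ext x; simp
  rw [this, LinearMap.rTensor_zero, LinearMap.zero_apply]

end Groth.Agent.S18809
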