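import Groth.Statements.S18810
import Mathlib
import Groth.Agent.Lib.helper9.ComodHom

set_option autoImplicit false
universe u v v' w w' x
open TensorProduct
open HopfRep

namespace Groth.Agent.S18810

/-- Let k be a field, C a k-coalgebra, V a right C-comodule and (S_j) a family of simple C-comodules
which are pairwise non-isomorphic (for j ≠ j' no k-linear isomorphism S_j ≃ S_j' commutes with the
coactions). For each j let V[j] be the isotypic component of type S_j: the sum of the images of all
comodule maps S_j → V (equivalently of all simple subcomodules of V isomorphic to S_j, a nonzero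
such map being injective). Then the family j ↦ V[j] is independent, so that the socle of V is the
direct sum of its isotypic components. (The source states this for representations of an affine
monoid scheme over k, i.e. left comodules over its coordinate bialgebra; the row is the
right-comodule form over any coalgebra.) -/
theorem result (k : Type u) [Field k]
    (C : Type v) [AddCommGroup C] [Module k C] [Coalgebra k C]
    (V : Type w) [AddCommGroup V] [Module k V] [HopfRep.Comod k C V]
    {ι : Type x} (S : ι → Type w') [∀ j, AddCommGroup (S j)] [∀ j, Module k (S j)]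
    [∀ j, HopfRep.Comod k C (S j)] (hS : ∀ j, HopfRep.IsSimpleComod k C (S j))
    (hne : ∀ j j', j ≠ j' → ∀ e : S j ≃ₗ[k] S j', ¬ Hoch.IsComodHom C (e : S j →ₗ[k] S j')) :
    iSupIndep (fun j => ⨆ f : {f : S j →ₗ[k] V // Hoch.IsComodHom C f}, LinearMap.range f.1) := by
  intro j
  rw [disjoint_iff]
  by_contra hI0
  set Wj : ι → Submodule k V := fun j =>
    ⨆ f : {f : S j →ₗ[k] V // Hoch.IsComodHom C f}, LinearMap.range f.1 with hWj
  have hWsub : ∀ j, HopfRep.IsSubcomod (k := k) (A := C) (Wj j) := fun j =>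
    H9Comod.isSubcomod_iSup _ (fun f => H9Comod.isSubcomod_range f.2)
  set Y : Submodule k V := ⨆ (j') (_ : j' ≠ j), Wj j' with hY
  have hYsub : HopfRep.IsSubcomod (k := k) (A := C) Y :=
    H9Comod.isSubcomod_iSup _ (fun j' => H9Comod.isSubcomod_iSup _ (fun _ => hWsub j'))
  let c : H9Comod.subL k C V := ⟨Wj j, hWsub j⟩
  let I : H9Comod.subL k C V := ⟨Wj j ⊓ Y, H9Comod.isSubcomod_inf (hWsub j) hYsub⟩
  have hIc : I ≤ c := by
    change Wj j ⊓ Y ≤ Wj j
    exact inf_le_left
  have hatoms : sSup {a | a ≤ c ∧ IsAtom a} = c :=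
    H9Comod.sSup_atoms_le_eq_of_iSup_range (fun _ : {f : S j →ₗ[k] V // Hoch.IsComodHom C f} => S j)
      (fun _ => hS j) (fun f => f.1) (fun f => f.2) c rfl
  obtain ⟨s, -, hdisj, hsup, -⟩ := exists_sSupIndep_disjoint_sSup_atoms I c hIc hatoms
  set G' : H9Comod.subL k C V := sSup s with hG'
  have hIG : (Wj j ⊓ Y) ⊓ (G' : Submodule k V) = ⊥ := by
    have := disjoint_iff.1 hdisj
    exact congrArg Subtype.val this
  have hsupIG : (Wj j ⊓ Y) ⊔ (G' : Submodule k V) = Wj j := by
    have := congrArg Subtype.val hsup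
    exact this
  have hexf : ∃ f : {f : S j →ₗ[k] V // Hoch.IsComodHom C f},
      ¬ LinearMap.range f.1 ≤ (G' : Submodule k V) := by
    by_contra hcon
    push Not at hcon
    have h1 : Wj j ≤ (G' : Submodule k V) := iSup_le hcon
    apply hI0
    rw [← hIG]
    exact (inf_eq_left.2 (le_trans inf_le_left h1)).symm
  obtain ⟨f, hfG⟩ := hexf
  let cq : HopfRep.Comod k C (V ⧸ (G' : Submodule k V)) :=
    ComodSub.Comod.quot inferInstance (G' : Submodule k V) G'.2
  let q : V →ₗ[k] V ⧸ (G' : Submodule k V) := (G' : Submodule k V).mkQ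
  have hq : Hoch.IsComodHom C q := ComodSub.isComodHom_mkQ _ _ _
  have hu : Hoch.IsComodHom C (q ∘ₗ f.1) := H9Comod.isComodHom_comp f.2 hq
  have hu0 : q ∘ₗ f.1 ≠ 0 := by
    intro h0
    apply hfG
    rintro _ ⟨z, rfl⟩
    have := LinearMap.congr_fun h0 z
    simpa [q] using this
  -- index type for the other isotypic components
  let ι' := Σ j' : {j' : ι // j' ≠ j}, {f' : S j'.1 →ₗ[k] V // Hoch.IsComodHom C f'}
  have hYle : Y ≤ Submodule.comap q (⨆ i : ι', LinearMap.range (q ∘ₗ i.2.1)) := by
    apply iSup_le; intro j'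
    apply iSup_le; intro hj'
    apply iSup_le; intro f'
    rintro _ ⟨z, rfl⟩
    exact Submodule.mem_iSup_of_mem (⟨⟨j', hj'⟩, f'⟩ : ι') ⟨z, rfl⟩
  have hle : LinearMap.range (q ∘ₗ f.1) ≤ ⨆ i : ι', LinearMap.range (q ∘ₗ i.2.1) := by
    rintro _ ⟨z, rfl⟩
    have h1 : f.1 z ∈ (Wj j ⊓ Y) ⊔ (G' : Submodule k V) := by
      rw [hsupIG]
      exact Submodule.mem_iSup_of_mem f ⟨z, rfl⟩
    obtain ⟨a, ha, b, hb, hab⟩ := Submodule.mem_sup.1 h1
    have hqb : q b = 0 := by simpa [q] using hb
    have : (q ∘ₗ f.1) z = q a := by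
      simp only [LinearMap.comp_apply]
      rw [← hab, map_add, hqb, add_zero]
    rw [this]
    exact hYle ha.2
  obtain ⟨i, e, he⟩ := H9Comod.exists_iso_of_range_le_iSup_range (hS j) hu hu0
    (fun i : ι' => S i.1.1) (fun i => hS i.1.1) (fun i => q ∘ₗ i.2.1)
    (fun i => H9Comod.isComodHom_comp i.2.2 hq) hle
  exact hne j i.1.1 (Ne.symm i.1.2) e he

end Groth.Agent.S18810
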