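import Groth.Statements.S18812
import Mathlib

set_option autoImplicit false
universe u v w
open TensorProduct
open HopfRep

namespace Groth.Agent.S18812

namespace H9Int

open TensorProduct

section Gen
variable {k : Type u} [Field k] {A : Type v} [CommRing A] [Algebra k A]

/-- x ⊗ a ↦ x ⊗ (f a * b) -/
noncomputable def K (V : Type w) [AddCommGroup V] [Module k V] (f : A →ₗ[k] A) (b : A) :
    V ⊗[k] A →ₗ[k] V ⊗[k] A :=
  ((LinearMap.mul k A).flip b ∘ₗ f).lTensor V

variable {V : Type w} [AddCommGroup V] [Module k V]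

theorem K_tmul (f : A →ₗ[k] A) (b : A) (x : V) (a : A) :
    K V f b (x ⊗ₜ[k] a) = x ⊗ₜ[k] (f a * b) := by
  simp [K]
  rw [mul_comm]

theorem K_add (f : A →ₗ[k] A) (b b' : A) (t : V ⊗[k] A) :
    K V f (b + b') t = K V f b t + K V f b' t := by
  simp [K, map_add, LinearMap.add_comp, LinearMap.lTensor_add]

theorem K_zero (f : A →ₗ[k] A) (t : V ⊗[k] A) : K V f 0 t = 0 := by
  simp [K]

theorem K_id_one (t : V ⊗[k] A) : K V LinearMap.id (1 : A) t = t := by
  induction t using TensorProduct.induction_on with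
  | zero => simp
  | tmul x a => simp [K_tmul]
  | add t₁ t₂ h₁ h₂ => rw [map_add, h₁, h₂]

theorem K_smul_one (c : k) (t : V ⊗[k] A) : K V LinearMap.id (c • (1 : A)) t = c • t := by
  induction t using TensorProduct.induction_on with
  | zero => simp
  | tmul x a =>
    rw [K_tmul, LinearMap.id_apply, mul_smul_comm, mul_one, TensorProduct.tmul_smul]
  | add t₁ t₂ h₁ h₂ => rw [map_add, h₁, h₂, smul_add]

theorem rid_K_mem (W : Submodule k V) (α : A →ₗ[k] k) (f : A →ₗ[k] A) (b : A) (s : W ⊗[k] A) :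
    TensorProduct.rid k V (α.lTensor V (K V f b (W.subtype.rTensor A s))) ∈ W := by
  induction s using TensorProduct.induction_on with
  | zero => simp
  | tmul w a =>
    simp only [LinearMap.rTensor_tmul, Submodule.subtype_apply, K_tmul, LinearMap.lTensor_tmul,
      TensorProduct.rid_tmul]
    exact W.smul_mem _ w.2
  | add s₁ s₂ h₁ h₂ =>
    simp only [map_add]
    exact W.add_mem h₁ h₂

/-- x ⊗ e ↦ x ⊗ (e * d) on V ⊗ (A ⊗ A) -/
noncomputable def Q (V : Type w) [AddCommGroup V] [Module k V] (d : A ⊗[k] A) :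
    V ⊗[k] (A ⊗[k] A) →ₗ[k] V ⊗[k] (A ⊗[k] A) :=
  ((LinearMap.mul k (A ⊗[k] A)).flip d).lTensor V

theorem Q_add (d d' : A ⊗[k] A) (u : V ⊗[k] (A ⊗[k] A)) :
    Q V (d + d') u = Q V d u + Q V d' u := by
  simp [Q, map_add, LinearMap.lTensor_add]

theorem Q_zero (u : V ⊗[k] (A ⊗[k] A)) : Q V (0 : A ⊗[k] A) u = 0 := by
  simp [Q]

end Gen

section Comod
variable {k : Type u} [Field k] {A : Type v} [CommRing A] [HopfAlgebra k A]
variable (V : Type w) [AddCommGroup V] [Module k V] [HopfRep.Comod k A V]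

local notation "ρV" => HopfRep.Comod.coact (k := k) (A := A) (V := V)

theorem coassoc_apply (v : V) :
    (TensorProduct.assoc k V A A) ((ρV).rTensor A (ρV v)) =
      (Coalgebra.comul (R := k) (A := A)).lTensor V (ρV v) :=
  LinearMap.congr_fun (HopfRep.Comod.coassoc (k := k) (A := A) (V := V)) v

theorem counit_apply (v : V) :
    (Coalgebra.counit (R := k) (A := A)).lTensor V (ρV v) = v ⊗ₜ[k] (1 : k) :=
  LinearMap.congr_fun (HopfRep.Comod.counit_comp (k := k) (A := A) (V := V)) v

noncomputable def Θ (f : A →ₗ[k] A) : V ⊗[k] A →ₗ[k] V ⊗[k] A :=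
  (LinearMap.mul' k A ∘ₗ f.rTensor A).lTensor V ∘ₗ (TensorProduct.assoc k V A A).toLinearMap ∘ₗ
    (ρV).rTensor A

theorem Θ_tmul (f : A →ₗ[k] A) (v : V) (b : A) : Θ V f (v ⊗ₜ[k] b) = K V f b (ρV v) := by
  have key : ∀ t : V ⊗[k] A, (LinearMap.mul' k A ∘ₗ f.rTensor A).lTensor V
      ((TensorProduct.assoc k V A A) (t ⊗ₜ[k] b)) = K V f b t := by
    intro t
    induction t using TensorProduct.induction_on with
    | zero => simp
    | tmul x a => simp [K_tmul]
    | add t₁ t₂ h₁ h₂ => simp only [TensorProduct.add_tmul, map_add, h₁, h₂]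
  rw [Θ]
  simp only [LinearMap.comp_apply, LinearMap.rTensor_tmul, LinearEquiv.coe_coe]
  exact key _

noncomputable def conv (g f : A →ₗ[k] A) : A →ₗ[k] A :=
  LinearMap.mul' k A ∘ₗ TensorProduct.map g f ∘ₗ Coalgebra.comul

theorem Θ_comp_tmul (g f : A →ₗ[k] A) (v : V) (b : A) :
    Θ V g (Θ V f (v ⊗ₜ[k] b)) = K V (conv g f) b (ρV v) := by
  rw [Θ_tmul]
  have stepA : ∀ t : V ⊗[k] A, Θ V g (K V f b t) =
      ((LinearMap.mul k A).flip b ∘ₗ LinearMap.mul' k A ∘ₗ TensorProduct.map g f).lTensor V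
        ((TensorProduct.assoc k V A A) ((ρV).rTensor A t)) := by
    intro t
    induction t using TensorProduct.induction_on with
    | zero => simp
    | tmul x a =>
      rw [K_tmul, Θ_tmul, LinearMap.rTensor_tmul]
      have inner : ∀ s : V ⊗[k] A, K V g (f a * b) s =
          ((LinearMap.mul k A).flip b ∘ₗ LinearMap.mul' k A ∘ₗ TensorProduct.map g f).lTensor V
            ((TensorProduct.assoc k V A A) (s ⊗ₜ[k] a)) := by
        intro s
        induction s using TensorProduct.induction_on with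
        | zero => simp
        | tmul y c =>
          simp [K_tmul]
          congr 1
          ring
        | add s₁ s₂ h₁ h₂ => simp only [TensorProduct.add_tmul, map_add, h₁, h₂]
      exact inner _
    | add t₁ t₂ h₁ h₂ => simp only [map_add, h₁, h₂]
  rw [stepA, coassoc_apply]
  have e : K V (conv g f) b =
      ((LinearMap.mul k A).flip b ∘ₗ LinearMap.mul' k A ∘ₗ TensorProduct.map g f).lTensor V ∘ₗ
        (Coalgebra.comul (R := k) (A := A)).lTensor V := by
    rw [← LinearMap.lTensor_comp]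
    rfl
  rw [e]
  rfl

theorem K_unit (v : V) (b : A) :
    K V (Algebra.linearMap k A ∘ₗ Coalgebra.counit) b (ρV v) = v ⊗ₜ[k] b := by
  have key : ∀ t : V ⊗[k] A, K V (Algebra.linearMap k A ∘ₗ Coalgebra.counit) b t =
      (LinearMap.toSpanSingleton k A b).lTensor V
        ((Coalgebra.counit (R := k) (A := A)).lTensor V t) := by
    intro t
    induction t using TensorProduct.induction_on with
    | zero => simp
    | tmul x a => simp [K_tmul, Algebra.smul_def]
    | add t₁ t₂ h₁ h₂ => simp only [map_add, h₁, h₂]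
  rw [key, counit_apply]
  simp

theorem conv_antipode_id : conv (HopfAlgebra.antipode k (A := A)) (LinearMap.id : A →ₗ[k] A) =
    Algebra.linearMap k A ∘ₗ Coalgebra.counit :=
  HopfAlgebra.mul_antipode_rTensor_comul

theorem conv_id_antipode : conv (LinearMap.id : A →ₗ[k] A) (HopfAlgebra.antipode k (A := A)) =
    Algebra.linearMap k A ∘ₗ Coalgebra.counit :=
  HopfAlgebra.mul_antipode_lTensor_comul

theorem ΨΦ (t : V ⊗[k] A) :
    Θ V (HopfAlgebra.antipode k (A := A)) (Θ V LinearMap.id t) = t := by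
  induction t using TensorProduct.induction_on with
  | zero => simp
  | tmul v b => rw [Θ_comp_tmul, conv_antipode_id, K_unit]
  | add t₁ t₂ h₁ h₂ => simp only [map_add, h₁, h₂]

theorem ΦΨ (t : V ⊗[k] A) :
    Θ V LinearMap.id (Θ V (HopfAlgebra.antipode k (A := A)) t) = t := by
  induction t using TensorProduct.induction_on with
  | zero => simp
  | tmul v b => rw [Θ_comp_tmul, conv_id_antipode, K_unit]
  | add t₁ t₂ h₁ h₂ => simp only [map_add, h₁, h₂]

noncomputable def r (α : A →ₗ[k] k) : V ⊗[k] A →ₗ[k] V :=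
  (TensorProduct.rid k V).toLinearMap ∘ₗ α.lTensor V ∘ₗ Θ V (HopfAlgebra.antipode k (A := A))

theorem r_Φ (α : A →ₗ[k] k) (t : V ⊗[k] A) :
    r V α (Θ V LinearMap.id t) = TensorProduct.rid k V (α.lTensor V t) := by
  simp only [r, LinearMap.comp_apply, LinearEquiv.coe_coe, ΨΦ]

theorem r_K (α : A →ₗ[k] k) (v : V) (b : A) :
    r V α (K V LinearMap.id b (ρV v)) = α b • v := by
  rw [← Θ_tmul, r_Φ]
  simp

theorem r_coact (α : A →ₗ[k] k) (h1 : α 1 = 1) (v : V) : r V α (ρV v) = v := by
  have h := r_K V α v 1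
  rw [K_id_one, h1, one_smul] at h
  exact h

theorem inv_apply (α : A →ₗ[k] k)
    (hα : @Hoch.IsComodHom k _ A _ _ _ A _ _ _ k _ _ (HopfRep.Comod.trivial k A k) α) (a : A) :
    TensorProduct.lid k A (α.rTensor A (Coalgebra.comul (R := k) a)) = α a • (1 : A) := by
  have h := LinearMap.congr_fun hα a
  have h' : (α a) ⊗ₜ[k] (1 : A) = α.rTensor A (Coalgebra.comul (R := k) a) := h
  rw [← h']
  simp

theorem comul_K (a : A) (t : V ⊗[k] A) :
    (Coalgebra.comul (R := k) (A := A)).lTensor V (K V LinearMap.id a t) =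
      Q V (Coalgebra.comul (R := k) a) ((Coalgebra.comul (R := k) (A := A)).lTensor V t) := by
  induction t using TensorProduct.induction_on with
  | zero => simp
  | tmul x c =>
    simp [K_tmul, Q, Bialgebra.comul_mul]
    rw [mul_comm]
  | add t₁ t₂ h₁ h₂ => simp only [map_add, h₁, h₂]

theorem G_pure (α : A →ₗ[k] k) (a' a'' : A) (w : V ⊗[k] A) :
    (r V α).rTensor A ((TensorProduct.assoc k V A A).symm (Q V (a' ⊗ₜ[k] a'')
      ((TensorProduct.assoc k V A A) ((ρV).rTensor A w)))) = K V LinearMap.id (α a' • a'') w := by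
  induction w using TensorProduct.induction_on with
  | zero => simp
  | tmul x c =>
    rw [LinearMap.rTensor_tmul]
    have inner : ∀ s : V ⊗[k] A, (r V α).rTensor A ((TensorProduct.assoc k V A A).symm
        (Q V (a' ⊗ₜ[k] a'') ((TensorProduct.assoc k V A A) (s ⊗ₜ[k] c)))) =
        (r V α (K V LinearMap.id a' s)) ⊗ₜ[k] (c * a'') := by
      intro s
      induction s using TensorProduct.induction_on with
      | zero => simp
      | tmul y e =>
        simp [Q, K_tmul]
        rw [mul_comm a' e, mul_comm a'' c]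
      | add s₁ s₂ h₁ h₂ => simp only [TensorProduct.add_tmul, map_add, h₁, h₂]
    rw [inner, r_K, K_tmul, LinearMap.id_apply, mul_smul_comm, TensorProduct.tmul_smul,
      TensorProduct.smul_tmul']
  | add w₁ w₂ h₁ h₂ => simp only [map_add, h₁, h₂]

theorem G_gen (α : A →ₗ[k] k) (d : A ⊗[k] A) (w : V ⊗[k] A) :
    (r V α).rTensor A ((TensorProduct.assoc k V A A).symm (Q V d
      ((TensorProduct.assoc k V A A) ((ρV).rTensor A w)))) =
      K V LinearMap.id (TensorProduct.lid k A (α.rTensor A d)) w := by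
  induction d using TensorProduct.induction_on with
  | zero => simp [Q_zero, K_zero]
  | tmul a' a'' =>
    rw [G_pure]
    simp
  | add d₁ d₂ h₁ h₂ => simp only [Q_add, map_add, h₁, h₂, K_add]

theorem r_comod (α : A →ₗ[k] k)
    (hα : @Hoch.IsComodHom k _ A _ _ _ A _ _ _ k _ _ (HopfRep.Comod.trivial k A k) α)
    (t : V ⊗[k] A) :
    ρV (r V α t) = (r V α).rTensor A ((TensorProduct.assoc k V A A).symm
      ((Coalgebra.comul (R := k) (A := A)).lTensor V t)) := by
  rw [← ΦΨ V t]
  generalize Θ V (HopfAlgebra.antipode k (A := A)) t = s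
  induction s using TensorProduct.induction_on with
  | zero => simp
  | tmul v a =>
    rw [r_Φ, Θ_tmul, comul_K, ← coassoc_apply, G_gen, inv_apply α hα, K_smul_one]
    simp
  | add s₁ s₂ h₁ h₂ => simp only [map_add, h₁, h₂]

theorem P_comod (α : A →ₗ[k] k)
    (hα : @Hoch.IsComodHom k _ A _ _ _ A _ _ _ k _ _ (HopfRep.Comod.trivial k A k) α)
    (e : V →ₗ[k] V) (v : V) :
    ρV ((r V α ∘ₗ e.rTensor A ∘ₗ ρV) v) = (r V α ∘ₗ e.rTensor A ∘ₗ ρV).rTensor A (ρV v) := by
  have c1 : ∀ t : V ⊗[k] A, (Coalgebra.comul (R := k) (A := A)).lTensor V (e.rTensor A t) =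
      e.rTensor (A ⊗[k] A) ((Coalgebra.comul (R := k) (A := A)).lTensor V t) := by
    intro t
    induction t using TensorProduct.induction_on with
    | zero => simp
    | tmul x c => simp
    | add t₁ t₂ h₁ h₂ => simp only [map_add, h₁, h₂]
  have c2 : (TensorProduct.assoc k V A A).symm.toLinearMap ∘ₗ e.rTensor (A ⊗[k] A) ∘ₗ
      (TensorProduct.assoc k V A A).toLinearMap = (e.rTensor A).rTensor A := by
    apply TensorProduct.ext_threefold
    intro x c a
    simp
  have c2' := LinearMap.congr_fun c2 ((ρV).rTensor A (ρV v))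
  simp only [LinearMap.comp_apply, LinearEquiv.coe_coe] at c2'
  rw [LinearMap.comp_apply, LinearMap.comp_apply, r_comod V α hα, c1, ← coassoc_apply, c2',
    LinearMap.rTensor_comp_apply, LinearMap.rTensor_comp_apply]

theorem main (α : A →ₗ[k] k)
    (hα : @Hoch.IsComodHom k _ A _ _ _ A _ _ _ k _ _ (HopfRep.Comod.trivial k A k) α)
    (h1 : α 1 = 1) : HopfRep.IsSemisimpleComod k A V := by
  intro W hW
  obtain ⟨W'', hc⟩ := Submodule.exists_isCompl W
  have hπW : ∀ w : W, Submodule.projectionOnto W W'' hc (w : V) = w :=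
    fun w => Submodule.projectionOnto_apply_left hc w
  generalize Submodule.projectionOnto W W'' hc = π at hπW
  have hes : (W.subtype ∘ₗ π) ∘ₗ W.subtype = W.subtype := by
    ext x
    simp [hπW]
  have hrW : ∀ s : W ⊗[k] A, r V α (W.subtype.rTensor A s) ∈ W := by
    intro s
    induction s using TensorProduct.induction_on with
    | zero => simp
    | tmul w b =>
      rw [LinearMap.rTensor_tmul]
      show TensorProduct.rid k V (α.lTensor V (Θ V (HopfAlgebra.antipode k (A := A))
        (W.subtype w ⊗ₜ[k] b))) ∈ W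
      rw [Θ_tmul]
      obtain ⟨s', hs'⟩ := hW (W.subtype w) w.2
      rw [← hs']
      exact rid_K_mem W α _ b s'
    | add s₁ s₂ h₁ h₂ =>
      rw [map_add, map_add]
      exact W.add_mem h₁ h₂
  have hPmem : ∀ v : V, (r V α ∘ₗ (W.subtype ∘ₗ π).rTensor A ∘ₗ ρV) v ∈ W := by
    intro v
    rw [LinearMap.comp_apply, LinearMap.comp_apply, LinearMap.rTensor_comp_apply]
    exact hrW _
  have hPW : ∀ w ∈ W, (r V α ∘ₗ (W.subtype ∘ₗ π).rTensor A ∘ₗ ρV) w = w := by
    intro w hw
    obtain ⟨s', hs'⟩ := hW w hw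
    rw [LinearMap.comp_apply, LinearMap.comp_apply, ← hs', ← LinearMap.rTensor_comp_apply, hes, hs',
      r_coact V α h1]
  have hP'W : ∀ w : W, (r V α ∘ₗ (W.subtype ∘ₗ π).rTensor A ∘ₗ ρV).codRestrict W hPmem (w : V) = w := by
    intro w
    apply Subtype.ext
    rw [LinearMap.codRestrict_apply]
    exact hPW w w.2
  refine ⟨LinearMap.ker ((r V α ∘ₗ (W.subtype ∘ₗ π).rTensor A ∘ₗ ρV).codRestrict W hPmem), ?_,
    LinearMap.isCompl_of_proj hP'W⟩
  intro v hv
  rw [LinearMap.mem_ker] at hv
  have hv0 : (r V α ∘ₗ (W.subtype ∘ₗ π).rTensor A ∘ₗ ρV) v = 0 := by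
    have h2 := congrArg Subtype.val hv
    rw [LinearMap.codRestrict_apply] at h2
    exact h2
  have hz : (r V α ∘ₗ (W.subtype ∘ₗ π).rTensor A ∘ₗ ρV).rTensor A (ρV v) = 0 := by
    rw [← P_comod V α hα, hv0, map_zero]
  have hfac : (r V α ∘ₗ (W.subtype ∘ₗ π).rTensor A ∘ₗ ρV) =
      W.subtype ∘ₗ (r V α ∘ₗ (W.subtype ∘ₗ π).rTensor A ∘ₗ ρV).codRestrict W hPmem := by
    ext x
    simp
  have hinj : Function.Injective (W.subtype.rTensor A) :=
    Module.Flat.rTensor_preserves_injective_linearMap W.subtype W.injective_subtype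
  have hz' : ((r V α ∘ₗ (W.subtype ∘ₗ π).rTensor A ∘ₗ ρV).codRestrict W hPmem).rTensor A (ρV v) = 0 := by
    apply hinj
    rw [← LinearMap.rTensor_comp_apply, ← hfac, hz, map_zero]
  have hex := rTensor_exact A
    (LinearMap.exact_subtype_ker_map ((r V α ∘ₗ (W.subtype ∘ₗ π).rTensor A ∘ₗ ρV).codRestrict W hPmem))
    (fun w => ⟨(w : V), hP'W w⟩)
  obtain ⟨y, hy⟩ := (hex (ρV v)).mp hz'
  exact ⟨y, hy⟩

end Comod

end H9Int

/-- Let k be a field and A a commutative Hopf algebra over k, the coordinate ring of an affine group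
scheme G. Suppose the inclusion of constants k → A splits as a map of G-representations: there is a
k-linear map α : A → k which is a comodule map from the regular comodule A to the trivial comodule k
and satisfies α(1) = 1. Then every A-comodule, of any dimension, is semisimple: every subcomodule
has a complementary subcomodule. (The source works with left comodules; this is the right-comodule
form. The converse implication is the easy one and is not part of this row.) -/
theorem result (k : Type u) [Field k] (A : Type v) [CommRing A] [HopfAlgebra k A]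
    (α : A →ₗ[k] k) (hα : @Hoch.IsComodHom k _ A _ _ _ A _ _ _ k _ _ (HopfRep.Comod.trivial k A k) α)
    (h1 : α 1 = 1)
    (V : Type w) [AddCommGroup V] [Module k V] [HopfRep.Comod k A V] :
    HopfRep.IsSemisimpleComod k A V := by
  exact H9Int.main V α hα h1

end Groth.Agent.S18812
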