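import Groth.Statements.S18814
import Mathlib
import Groth.Agent.Lib.helper9.ComodHom

set_option autoImplicit false
universe u v v' w w'
open TensorProduct
open HopfRep

namespace Groth.Agent.S18814

/-- Let k be a field, C and D commutative bialgebras over k (coordinate rings of affine monoid schemes M
and N) and V a k-vector space carrying a right C-comodule structure with coaction ρ_C : V → V ⊗ C
and a right D-comodule structure with coaction ρ_D : V → V ⊗ D which commute: (ρ_C ⊗ id_D) ∘ ρ_D and
(ρ_D ⊗ id_C) ∘ ρ_C agree in V ⊗ C ⊗ D after reassociating and swapping the last two factors (the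
actions of M and N on V commute). Assume V is semisimple as a D-comodule. Then for every simple
D-comodule S the isotypic component of V of type S, the sum of the images of all D-comodule maps S →
V, is a C-subcomodule of V. (The source works with left comodules; this is the right-comodule form.) -/
theorem result (k : Type u) [Field k]
    (C : Type v) [CommRing C] [Bialgebra k C] (D : Type v') [CommRing D] [Bialgebra k D]
    (V : Type w) [AddCommGroup V] [Module k V] [HopfRep.Comod k C V] [HopfRep.Comod k D V]
    (hcomm : (TensorProduct.assoc k V C D).toLinearMap ∘ₗ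
        (HopfRep.Comod.coact (k := k) (A := C) (V := V)).rTensor D ∘ₗ HopfRep.Comod.coact (k := k) (A := D) =
      (TensorProduct.comm k D C).toLinearMap.lTensor V ∘ₗ (TensorProduct.assoc k V D C).toLinearMap ∘ₗ
        (HopfRep.Comod.coact (k := k) (A := D) (V := V)).rTensor C ∘ₗ HopfRep.Comod.coact (k := k) (A := C))
    (hV : HopfRep.IsSemisimpleComod k D V)
    (S : Type w') [AddCommGroup S] [Module k S] [HopfRep.Comod k D S] (hS : HopfRep.IsSimpleComod k D S) :
    HopfRep.IsSubcomod (k := k) (A := C)
      (⨆ f : {f : S →ₗ[k] V // Hoch.IsComodHom D f}, LinearMap.range f.1) := by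
  classical
  set VS := ⨆ f : {f : S →ₗ[k] V // Hoch.IsComodHom D f}, LinearMap.range f.1 with hVS
  let ρC := HopfRep.Comod.coact (k := k) (A := C) (V := V)
  let ρD := HopfRep.Comod.coact (k := k) (A := D) (V := V)
  let Tφ : (C →ₗ[k] k) → (V →ₗ[k] V) := fun φ =>
    (TensorProduct.rid k V).toLinearMap ∘ₗ φ.lTensor V ∘ₗ ρC
  have hT : ∀ φ, Hoch.IsComodHom D (Tφ φ) := by
    intro φ
    apply LinearMap.ext; intro v
    have key : ∀ (t : V ⊗[k] D) (c : C),
        ((TensorProduct.rid k V).toLinearMap ∘ₗ φ.lTensor V).rTensor D
          ((TensorProduct.assoc k V C D).symm ((TensorProduct.comm k D C).toLinearMap.lTensor V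
            (TensorProduct.assoc k V D C (t ⊗ₜ c)))) = φ c • t := by
      intro t c
      induction t using TensorProduct.induction_on with
      | zero => simp
      | tmul v d => simp [TensorProduct.smul_tmul']
      | add x y hx hy => simp only [TensorProduct.add_tmul, map_add, hx, hy, smul_add]
    have key2 : ∀ (x : V ⊗[k] C),
        ((TensorProduct.rid k V).toLinearMap ∘ₗ φ.lTensor V).rTensor D
          ((TensorProduct.assoc k V C D).symm ((TensorProduct.comm k D C).toLinearMap.lTensor V
            (TensorProduct.assoc k V D C (ρD.rTensor C x)))) =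
        ρD ((TensorProduct.rid k V) (φ.lTensor V x)) := by
      intro x
      induction x using TensorProduct.induction_on with
      | zero => simp
      | tmul v c =>
        rw [LinearMap.rTensor_tmul, key]
        simp
      | add x y hx hy => simp only [map_add, hx, hy]
    have hc := LinearMap.congr_fun hcomm v
    simp only [LinearMap.comp_apply, LinearEquiv.coe_coe] at hc
    have hc' : (ρC.rTensor D) (ρD v) = (TensorProduct.assoc k V C D).symm
        ((TensorProduct.comm k D C).toLinearMap.lTensor V
          (TensorProduct.assoc k V D C ((ρD.rTensor C) (ρC v)))) := by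
      rw [← hc, LinearEquiv.symm_apply_apply]
    change ρD (Tφ φ v) = (Tφ φ).rTensor D (ρD v)
    have h3 : (Tφ φ).rTensor D =
        (((TensorProduct.rid k V).toLinearMap ∘ₗ φ.lTensor V).rTensor D) ∘ₗ (ρC.rTensor D) := by
      rw [← LinearMap.rTensor_comp]; rfl
    have h4 : (Tφ φ).rTensor D (ρD v) =
        (((TensorProduct.rid k V).toLinearMap ∘ₗ φ.lTensor V).rTensor D) ((ρC.rTensor D) (ρD v)) := by
      rw [h3]; rfl
    rw [h4, hc', key2]
    rfl
  have hstab : ∀ φ, ∀ v ∈ VS, Tφ φ v ∈ VS := by
    intro φ v hv
    have hle : VS ≤ Submodule.comap (Tφ φ) VS := by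
      apply iSup_le; intro f
      rintro _ ⟨z, rfl⟩
      exact Submodule.mem_iSup_of_mem
        (⟨Tφ φ ∘ₗ f.1, H9Comod.isComodHom_comp f.2 (hT φ)⟩ :
          {f : S →ₗ[k] V // Hoch.IsComodHom D f}) ⟨z, rfl⟩
    exact hle hv
  intro v hv
  let 𝒞 := Module.Basis.ofVectorSpace k C
  rw [H9Comod.mem_range_rTensor_iff 𝒞]
  intro b
  rw [TensorProduct.equivFinsuppOfBasisRight_apply]
  exact hstab (𝒞.coord b) v hv

end Groth.Agent.S18814
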