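import Groth.Statements.S18821
import Mathlib

set_option autoImplicit false
universe u
open CategoryTheory MonoidalCategory CartesianMonoidalCategory MonObj AlgebraicGeometry
open AlgGrp

namespace Groth.Agent.S18821

/-- Let k be a commutative ring and M a monoid k-scheme (a monoid object in k-schemes). Then the group
k-functor of units T ↦ M(T)^× is representable by a k-scheme: there are a k-scheme G and a
monomorphism i : G → M such that, for every k-scheme T, a T-valued point of M factors through i if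
and only if it is invertible in the monoid M(T). If moreover M is affine then G is affine. -/
theorem result (k : Type u) [CommRing k]
    (M : Over (Spec (CommRingCat.of k))) [MonObj M] :
    ∃ (G : Over (Spec (CommRingCat.of k))) (i : G ⟶ M), Mono i ∧
      (∀ (T : Over (Spec (CommRingCat.of k))) (m : T ⟶ M), (∃ g : T ⟶ G, g ≫ i = m) ↔ IsUnit m) ∧
      (IsAffine M.left → IsAffine G.left) := by
  obtain ⟨m2, hm2⟩ : ∃ m2 : M ⊗ M ⟶ M ⊗ M,
      m2 = lift μ[M] (lift (snd M M) (fst M M) ≫ μ[M]) := ⟨_, rfl⟩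
  obtain ⟨e2, he2⟩ : ∃ e2 : 𝟙_ (Over (Spec (CommRingCat.of k))) ⟶ M ⊗ M,
      e2 = lift η[M] η[M] := ⟨_, rfl⟩
  have hmul : ∀ {T : Over (Spec (CommRingCat.of k))} (p : T ⟶ M ⊗ M),
      p ≫ μ[M] = (p ≫ fst M M) * (p ≫ snd M M) := by
    intro T p
    rw [Hom.mul_def, ← comp_lift, lift_fst_snd, Category.comp_id]
  have hmul' : ∀ {T : Over (Spec (CommRingCat.of k))} (p : T ⟶ M ⊗ M),
      p ≫ lift (snd M M) (fst M M) ≫ μ[M] = (p ≫ snd M M) * (p ≫ fst M M) := by
    intro T p
    rw [Hom.mul_def, ← Category.assoc, comp_lift]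
  have hm2fst : m2 ≫ fst M M = μ[M] := by rw [hm2, lift_fst]
  have hm2snd : m2 ≫ snd M M = lift (snd M M) (fst M M) ≫ μ[M] := by rw [hm2, lift_snd]
  have he2fst : e2 ≫ fst M M = η[M] := by rw [he2, lift_fst]
  have he2snd : e2 ≫ snd M M = η[M] := by rw [he2, lift_snd]
  have hone : ∀ {T : Over (Spec (CommRingCat.of k))} (t : T ⟶ 𝟙_ _), t ≫ η[M] = (1 : T ⟶ M) := by
    intro T t; rw [toUnit_unique t (toUnit T), Hom.one_def]
  have hc := Limits.pullback.condition (f := m2) (g := e2)
  have hab : ∀ {T : Over (Spec (CommRingCat.of k))} (g : T ⟶ Limits.pullback m2 e2),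
      (g ≫ Limits.pullback.fst m2 e2 ≫ fst M M) * (g ≫ Limits.pullback.fst m2 e2 ≫ snd M M) = 1 := by
    intro T g
    have h3 := hmul (g ≫ Limits.pullback.fst m2 e2)
    simp only [Category.assoc] at h3
    rw [← h3, ← hm2fst]
    calc g ≫ Limits.pullback.fst m2 e2 ≫ m2 ≫ fst M M
        = g ≫ (Limits.pullback.fst m2 e2 ≫ m2) ≫ fst M M := by simp only [Category.assoc]
      _ = g ≫ (Limits.pullback.snd m2 e2 ≫ e2) ≫ fst M M := by rw [hc]
      _ = (g ≫ Limits.pullback.snd m2 e2) ≫ η[M] := by simp only [Category.assoc, he2fst]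
      _ = 1 := hone _
  have hba : ∀ {T : Over (Spec (CommRingCat.of k))} (g : T ⟶ Limits.pullback m2 e2),
      (g ≫ Limits.pullback.fst m2 e2 ≫ snd M M) * (g ≫ Limits.pullback.fst m2 e2 ≫ fst M M) = 1 := by
    intro T g
    have h3 := hmul' (g ≫ Limits.pullback.fst m2 e2)
    simp only [Category.assoc] at h3
    rw [← h3, ← hm2snd]
    calc g ≫ Limits.pullback.fst m2 e2 ≫ m2 ≫ snd M M
        = g ≫ (Limits.pullback.fst m2 e2 ≫ m2) ≫ snd M M := by simp only [Category.assoc]
      _ = g ≫ (Limits.pullback.snd m2 e2 ≫ e2) ≫ snd M M := by rw [hc]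
      _ = (g ≫ Limits.pullback.snd m2 e2) ≫ η[M] := by simp only [Category.assoc, he2snd]
      _ = 1 := hone _
  refine ⟨Limits.pullback m2 e2, Limits.pullback.fst m2 e2 ≫ fst M M, ⟨?_⟩, ?_, ?_⟩
  · intro T g₁ g₂ h
    apply Limits.pullback.hom_ext
    · apply CartesianMonoidalCategory.hom_ext
      · simpa only [Category.assoc] using h
      · rw [Category.assoc, Category.assoc]
        have h1 := hba g₁
        have h2 := hab g₂
        rw [h] at h1
        exact left_inv_eq_right_inv h1 h2
    · exact toUnit_unique _ _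
  · intro T m
    constructor
    · rintro ⟨g, rfl⟩
      exact ⟨⟨g ≫ Limits.pullback.fst m2 e2 ≫ fst M M, g ≫ Limits.pullback.fst m2 e2 ≫ snd M M,
        hab g, hba g⟩, rfl⟩
    · rintro ⟨u, rfl⟩
      have hw : lift (u : T ⟶ M) ((u⁻¹ : (T ⟶ M)ˣ) : T ⟶ M) ≫ m2 = toUnit T ≫ e2 := by
        apply CartesianMonoidalCategory.hom_ext
        · rw [Category.assoc, Category.assoc, hm2fst, he2fst, hmul, lift_fst, lift_snd, hone,
            Units.mul_inv]
        · rw [Category.assoc, Category.assoc, hm2snd, he2snd, hmul', lift_fst, lift_snd, hone,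
            Units.inv_mul]
      refine ⟨Limits.pullback.lift _ _ hw, ?_⟩
      rw [Limits.pullback.lift_fst_assoc, lift_fst]
  · intro hM
    have hpb := (IsPullback.of_hasPullback m2 e2).map (Over.forget _)
    haveI h1 : IsAffine (M ⊗ M).left := by
      show IsAffine (Limits.pullback M.hom M.hom); infer_instance
    haveI h2 : IsAffine (𝟙_ (Over (Spec (CommRingCat.of k)))).left := by
      show IsAffine (Spec (CommRingCat.of k)); infer_instance
    haveI : IsAffine ((Over.forget (Spec (CommRingCat.of k))).obj (M ⊗ M)) := h1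
    haveI : IsAffine ((Over.forget (Spec (CommRingCat.of k))).obj
      (𝟙_ (Over (Spec (CommRingCat.of k))))) := h2
    exact IsAffine.of_isIso hpb.isoPullback.hom

end Groth.Agent.S18821
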