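import Groth.Statements.S18824
import Mathlib

set_option autoImplicit false
universe u
open CategoryTheory MonoidalCategory CartesianMonoidalCategory MonObj AlgebraicGeometry
open AlgGrp

namespace Groth.Agent.S18824

open CategoryTheory MonoidalCategory CartesianMonoidalCategory MonObj AlgebraicGeometry in
lemma exists_preimage_of_isPullback {P X Y Z : Scheme.{u}} {fst : P ⟶ X} {snd : P ⟶ Y}
    {f : X ⟶ Z} {g : Y ⟶ Z} (h : IsPullback fst snd f g) (x : X) (y : Y) (e : f x = g y) :
    ∃ p : P, fst p = x ∧ snd p = y := by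
  obtain ⟨z, hz1, hz2⟩ := Scheme.Pullback.exists_preimage_pullback x y e
  refine ⟨h.isoPullback.inv z, ?_, ?_⟩
  · rw [← Scheme.Hom.comp_apply, IsPullback.isoPullback_inv_fst]; exact hz1
  · rw [← Scheme.Hom.comp_apply, IsPullback.isoPullback_inv_snd]; exact hz2

/-- Let k be a field, G a locally algebraic group over k (a group k-scheme locally of finite type)
acting on a k-scheme X through a : G ×_k X → X, and U an open subset of X. Let G·U ⊆ X be the image
under a of G ×_k U (the preimage of U under the projection). Then G·U is open in X, contains U, is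
G-stable in the sense that a maps G ×_k (G·U) into G·U, and is the smallest such set: every G-stable
open subset of X containing U contains G·U. -/
theorem result (k : Type u) [Field k]
    (G X : Over (Spec (CommRingCat.of k))) [GrpObj G] [LocallyOfFiniteType G.hom] (a : AlgGrp.Action G X)
    (U : Set ↥X.left) (hU : IsOpen U) :
    IsOpen (a.act.left.base '' ((CartesianMonoidalCategory.snd G X).left.base ⁻¹' U)) ∧
      U ⊆ a.act.left.base '' ((CartesianMonoidalCategory.snd G X).left.base ⁻¹' U) ∧
      a.act.left.base '' ((CartesianMonoidalCategory.snd G X).left.base ⁻¹'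
          (a.act.left.base '' ((CartesianMonoidalCategory.snd G X).left.base ⁻¹' U))) ⊆
        a.act.left.base '' ((CartesianMonoidalCategory.snd G X).left.base ⁻¹' U) ∧
      ∀ W : Set ↥X.left, IsOpen W → U ⊆ W →
        a.act.left.base '' ((CartesianMonoidalCategory.snd G X).left.base ⁻¹' W) ⊆ W →
          a.act.left.base '' ((CartesianMonoidalCategory.snd G X).left.base ⁻¹' U) ⊆ W := by
  have hone : ∀ (T : Over (Spec (CommRingCat.of k))) (x : T ⟶ X),
      lift (1 : T ⟶ G) x ≫ a.act = x := by
    intro T x
    have h1 : lift (1 : T ⟶ G) x = lift (toUnit T) x ≫ (η[G] ▷ X) := by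
      rw [lift_whiskerRight, Hom.one_def]
    rw [h1, Category.assoc, a.one_act, lift_leftUnitor_hom]
  have hmul : ∀ (T : Over (Spec (CommRingCat.of k))) (g h : T ⟶ G) (x : T ⟶ X),
      lift (g * h) x ≫ a.act = lift g (lift h x ≫ a.act) ≫ a.act := by
    intro T g h x
    have h1 : lift (g * h) x = lift (lift g h) x ≫ (μ[G] ▷ X) := by
      rw [lift_whiskerRight, Hom.mul_def]
    rw [h1, Category.assoc, a.mul_act, lift_lift_associator_hom_assoc, lift_whiskerLeft_assoc]
  let c : G ⊗ X ⟶ G ⊗ X := lift (fst G X) (lift (fst G X) (snd G X) ≫ a.act)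
  let c' : G ⊗ X ⟶ G ⊗ X := lift (fst G X) (lift (fst G X)⁻¹ (snd G X) ≫ a.act)
  have hcc' : c ≫ c' = 𝟙 _ := by
    apply CartesianMonoidalCategory.hom_ext
    · simp [c, c']
    · simp only [c, c', Category.assoc, lift_snd, comp_lift_assoc, GrpObj.comp_inv, lift_fst,
        Category.id_comp]
      rw [← hmul, inv_mul_cancel, hone]
  have hc'c : c' ≫ c = 𝟙 _ := by
    apply CartesianMonoidalCategory.hom_ext
    · simp [c, c']
    · simp only [c, c', Category.assoc, lift_snd, comp_lift_assoc, lift_fst,
        Category.id_comp]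
      rw [← hmul, mul_inv_cancel, hone]
  haveI : IsIso c := ⟨c', hcc', hc'c⟩
  have hact : a.act = c ≫ snd G X := by
    simp only [c, lift_snd, lift_fst_snd, Category.id_comp]
  haveI h2 : IsIso c.left := (Over.forget _).map_isIso c
  haveI : UniversallyOpen G.hom := inferInstance
  haveI h3 : UniversallyOpen (snd G X).left := by
    rw [Over.snd_left]; infer_instance
  haveI huo : UniversallyOpen a.act.left := by
    rw [hact, Over.comp_left]; infer_instance
  have hopen : IsOpenMap a.act.left := Scheme.Hom.isOpenMap _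
  -- the set O
  have hmono : ∀ A B : Set ↥X.left, A ⊆ B →
      a.act.left.base '' ((snd G X).left.base ⁻¹' A) ⊆ a.act.left.base '' ((snd G X).left.base ⁻¹' B) :=
    fun A B hAB => Set.image_mono (Set.preimage_mono hAB)
  refine ⟨?_, ?_, ?_, ?_⟩
  · exact hopen _ (hU.preimage (snd G X).left.continuous)
  · intro x hx
    let e : X ⟶ G ⊗ X := lift (toUnit X ≫ η[G]) (𝟙 X)
    have he1 : e ≫ snd G X = 𝟙 X := lift_snd _ _
    have he2 : e ≫ a.act = 𝟙 X := by
      have := hone X (𝟙 X)
      rwa [Hom.one_def] at this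
    refine ⟨e.left x, ?_, ?_⟩
    · show (snd G X).left (e.left x) ∈ U
      rw [← Scheme.Hom.comp_apply, ← Over.comp_left, he1]; exact hx
    · show a.act.left (e.left x) = x
      rw [← Scheme.Hom.comp_apply, ← Over.comp_left, he2]; rfl
  · rintro _ ⟨p, ⟨p', hp'U, hp'⟩, rfl⟩
    -- hp' : act p' = snd p ; hp'U : snd p' ∈ U
    have hA : IsPullback (G ◁ a.act).left (snd G (G ⊗ X)).left (snd G X).left a.act.left := by
      have t : IsPullback (Limits.pullback.fst G.hom X.hom) (Limits.pullback.snd G.hom X.hom)
          G.hom X.hom := IsPullback.of_hasPullback _ _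
      have s : IsPullback (Limits.pullback.fst G.hom (G ⊗ X).hom)
          (Limits.pullback.snd G.hom (G ⊗ X).hom) G.hom (G ⊗ X).hom := IsPullback.of_hasPullback _ _
      have e1 : (G ◁ a.act).left ≫ Limits.pullback.fst G.hom X.hom =
          Limits.pullback.fst G.hom (G ⊗ X).hom := Over.whiskerLeft_left_fst _
      have e2 : a.act.left ≫ X.hom = (G ⊗ X).hom := Over.w a.act
      have s' : IsPullback ((G ◁ a.act).left ≫ Limits.pullback.fst G.hom X.hom)
          (Limits.pullback.snd G.hom (G ⊗ X).hom) G.hom (a.act.left ≫ X.hom) := by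
        rw [e1, e2]; exact s
      exact IsPullback.of_right s' (Over.whiskerLeft_left_snd _) t
    obtain ⟨r, hr1, hr2⟩ := exists_preimage_of_isPullback hA p p' hp'.symm
    let m : G ⊗ (G ⊗ X) ⟶ G ⊗ X := (α_ G G X).inv ≫ (μ[G] ▷ X)
    have hm1 : m ≫ a.act = (G ◁ a.act) ≫ a.act := by
      simp only [m, Category.assoc, a.mul_act, Iso.inv_hom_id_assoc]
    have hm2 : m ≫ snd G X = snd G (G ⊗ X) ≫ snd G X := by
      simp [m]
    refine ⟨m.left r, ?_, ?_⟩
    · show (snd G X).left (m.left r) ∈ U
      rw [← Scheme.Hom.comp_apply, ← Over.comp_left, hm2, Over.comp_left, Scheme.Hom.comp_apply,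
        hr2]
      exact hp'U
    · show a.act.left (m.left r) = a.act.left p
      rw [← Scheme.Hom.comp_apply, ← Over.comp_left, hm1, Over.comp_left, Scheme.Hom.comp_apply,
        hr1]
  · intro W hW hUW hWst
    exact (hmono U W hUW).trans hWst

end Groth.Agent.S18824
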