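import Groth.Statements.S18827
import Mathlib
import Groth.Agent.Lib.helper9.ComodHom

set_option autoImplicit false
universe u v w
open TensorProduct
open HopfRep

namespace Groth.Agent.S18827

/-- Let k be a field, C a k-coalgebra, V a right C-comodule which is semisimple (every subcomodule has a
complementary subcomodule, which over a field is the same as being the sum of its simple
subcomodules) and W a subcomodule of V. Then the subcomodule W with its induced structure and the
quotient comodule V/W are again semisimple. (The source states this for representations of an affine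
monoid scheme over k.) -/
theorem result (k : Type u) [Field k]
    (C : Type v) [AddCommGroup C] [Module k C] [Coalgebra k C]
    (V : Type w) [AddCommGroup V] [Module k V] [c : HopfRep.Comod k C V] (hV : HopfRep.IsSemisimpleComod k C V)
    (W : Submodule k V) (hW : HopfRep.IsSubcomod (k := k) (A := C) W) :
    @HopfRep.IsSemisimpleComod k C _ _ _ _ ↥W _ _ (ComodSub.Comod.restr c W hW) ∧
      @HopfRep.IsSemisimpleComod k C _ _ _ _ (V ⧸ W) _ _ (ComodSub.Comod.quot c W hW) := by
  constructor
  · letI cW : HopfRep.Comod k C ↥W := ComodSub.Comod.restr c W hW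
    have hsub : Hoch.IsComodHom C W.subtype := ComodSub.isComodHom_subtype c W hW
    intro U hU
    obtain ⟨Z, hZ, hc⟩ := hV (U.map W.subtype) (H9Comod.isSubcomod_map hsub hU)
    refine ⟨Z.comap W.subtype, H9Comod.isSubcomod_comap hsub hZ, ?_⟩
    rw [isCompl_iff, disjoint_iff, codisjoint_iff] at hc ⊢
    constructor
    · rw [eq_bot_iff]
      intro x hx
      have h1 : (x : V) ∈ U.map W.subtype ⊓ Z := ⟨⟨x, hx.1, rfl⟩, hx.2⟩
      rw [hc.1] at h1
      exact Subtype.ext (by simpa using h1)
    · rw [eq_top_iff]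
      intro x _
      have h1 : (x : V) ∈ U.map W.subtype ⊔ Z := by rw [hc.2]; trivial
      obtain ⟨a, ⟨u, hu, rfl⟩, z, hz, hsum⟩ := Submodule.mem_sup.1 h1
      have hzW : z ∈ W := by
        have : z = (x : V) - (u : V) := by rw [← hsum]; simp
        rw [this]; exact W.sub_mem x.2 u.2
      exact Submodule.mem_sup.2 ⟨u, hu, ⟨z, hzW⟩, hz, Subtype.ext hsum⟩
  · letI cQ : HopfRep.Comod k C (V ⧸ W) := ComodSub.Comod.quot c W hW
    have hq : Hoch.IsComodHom C W.mkQ := ComodSub.isComodHom_mkQ c W hW
    intro U hU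
    obtain ⟨Z, hZ, hc⟩ := hV (U.comap W.mkQ) (H9Comod.isSubcomod_comap hq hU)
    refine ⟨Z.map W.mkQ, H9Comod.isSubcomod_map hq hZ, ?_⟩
    rw [isCompl_iff, disjoint_iff, codisjoint_iff] at hc ⊢
    constructor
    · rw [eq_bot_iff]
      rintro y ⟨hyU, ⟨z, hz, rfl⟩⟩
      have h1 : z ∈ U.comap W.mkQ ⊓ Z := ⟨hyU, hz⟩
      rw [hc.1] at h1
      have : z = 0 := by simpa using h1
      simp [this]
    · rw [eq_top_iff]
      intro y _
      obtain ⟨v, rfl⟩ := W.mkQ_surjective y
      have h1 : v ∈ U.comap W.mkQ ⊔ Z := by rw [hc.2]; trivial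
      obtain ⟨a, ha, z, hz, rfl⟩ := Submodule.mem_sup.1 h1
      rw [map_add]
      exact Submodule.add_mem_sup ha ⟨z, hz, rfl⟩

end Groth.Agent.S18827
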