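import Groth.Statements.S18829
import Mathlib
import Groth.Agent.S18812

set_option autoImplicit false
universe u
open scoped TensorProduct
open HopfRep

namespace Groth.Agent.S18829

/-- coefficient at the identity -/
noncomputable def h9c1 (K : Type*) (G : Type*) [Field K] [Monoid G] : MonoidAlgebra K G →ₗ[K] K where
  toFun y := y.coeff 1
  map_add' := by intro x y; simp
  map_smul' := by intro c x; simp

theorem h9c1_inv (K : Type*) (G : Type*) [Field K] [Monoid G] :
    (h9c1 K G).rTensor (MonoidAlgebra K G) ∘ₗ Coalgebra.comul =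
      (TensorProduct.mk K K (MonoidAlgebra K G)).flip 1 ∘ₗ h9c1 K G := by
  classical
  ext g
  simp only [LinearMap.comp_apply, MonoidAlgebra.lsingle_apply, MonoidAlgebra.comul_single,
    CommSemiring.comul_apply, TensorProduct.map_tmul, LinearMap.rTensor_tmul, LinearMap.flip_apply,
    TensorProduct.mk_apply]
  by_cases hg : g = 1
  · subst hg
    rfl
  · have h0 : h9c1 K G (MonoidAlgebra.single g (1 : K)) = 0 := by
      show (MonoidAlgebra.single g (1 : K)).coeff 1 = 0
      rw [MonoidAlgebra.coeff_single, Finsupp.single_eq_of_ne (Ne.symm hg)]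
    rw [h0, TensorProduct.zero_tmul, TensorProduct.zero_tmul]

theorem h9_integral_of_monoidAlg (k K A : Type u) [Field k] [Field K] [Algebra k K]
    [CommRing A] [HopfAlgebra k A] (G : Type) [Monoid G]
    (e : (K ⊗[k] A) ≃ₐc[K] MonoidAlgebra K G) :
    ∃ α : A →ₗ[k] k,
      (@Hoch.IsComodHom k _ A _ _ _ A _ _ _ k _ _ (HopfRep.Comod.trivial k A k) α) ∧ α 1 = 1 := by
  -- the K-linear integral on K ⊗ A
  set αK : (K ⊗[k] A) →ₗ[K] K := h9c1 K G ∘ₗ (SemilinearMapClass.semilinearMap e : (K ⊗[k] A) →ₗ[K] MonoidAlgebra K G) with hαK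
  have hinvB : ∀ x : K ⊗[k] A, αK.rTensor (K ⊗[k] A) (Coalgebra.comul (R := K) x) =
      αK x ⊗ₜ[K] (1 : K ⊗[k] A) := by
    intro x
    have P1 : ∀ t : (K ⊗[k] A) ⊗[K] (K ⊗[k] A),
        (SemilinearMapClass.semilinearMap e.symm : MonoidAlgebra K G →ₗ[K] (K ⊗[k] A)).lTensor K
          ((h9c1 K G).rTensor (MonoidAlgebra K G)
            (TensorProduct.map (SemilinearMapClass.semilinearMap e : (K ⊗[k] A) →ₗ[K] MonoidAlgebra K G)
              (SemilinearMapClass.semilinearMap e : (K ⊗[k] A) →ₗ[K] MonoidAlgebra K G) t)) = αK.rTensor (K ⊗[k] A) t := by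
      intro t
      induction t using TensorProduct.induction_on with
      | zero => simp
      | tmul b₁ b₂ => simp [hαK]
      | add t₁ t₂ h₁ h₂ => simp only [map_add, h₁, h₂]
    have hco := LinearMap.congr_fun (CoalgHomClass.map_comp_comul e) x
    simp only [LinearMap.comp_apply] at hco
    rw [← P1, hco]
    have hk := LinearMap.congr_fun (h9c1_inv K G) (e x)
    simp only [LinearMap.comp_apply, LinearMap.flip_apply, TensorProduct.mk_apply] at hk
    have hk' : (h9c1 K G).rTensor (MonoidAlgebra K G)
        (Coalgebra.comul (R := K) ((SemilinearMapClass.semilinearMap e : (K ⊗[k] A) →ₗ[K] MonoidAlgebra K G) x)) =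
        h9c1 K G (e x) ⊗ₜ[K] (1 : MonoidAlgebra K G) := hk
    rw [hk']
    simp [hαK]
  -- a k-linear retraction of k → K
  obtain ⟨lam, hlam⟩ := LinearMap.exists_leftInverse_of_injective (Algebra.linearMap k K)
    (LinearMap.ker_eq_bot.mpr (algebraMap k K).injective)
  have hlam1 : lam 1 = 1 := by
    have h := LinearMap.congr_fun hlam 1
    simpa using h
  set β : A →ₗ[k] K := (αK.restrictScalars k) ∘ₗ (TensorProduct.mk k K A 1) with hβ
  have hβa : ∀ a : A, β a = αK ((1 : K) ⊗ₜ[k] a) := fun a => rfl
  have sub : ∀ d : A ⊗[k] A, TensorProduct.lid K (K ⊗[k] A) (αK.rTensor (K ⊗[k] A)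
      (TensorProduct.AlgebraTensorModule.tensorTensorTensorComm k K k K K K A A
        (((1 : K) ⊗ₜ[K] (1 : K)) ⊗ₜ[k] d))) = β.rTensor A d := by
    intro d
    induction d using TensorProduct.induction_on with
    | zero => simp
    | tmul a₁ a₂ =>
      simp only [TensorProduct.AlgebraTensorModule.tensorTensorTensorComm_tmul,
        LinearMap.rTensor_tmul, TensorProduct.lid_tmul, hβa, TensorProduct.smul_tmul',
        smul_eq_mul, mul_one]
    | add d₁ d₂ h₁ h₂ => simp only [TensorProduct.tmul_add, map_add, h₁, h₂]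
  have claimC : ∀ a : A, β.rTensor A (Coalgebra.comul (R := k) a) = β a ⊗ₜ[k] (1 : A) := by
    intro a
    rw [← sub]
    have h2 := hinvB ((1 : K) ⊗ₜ[k] a)
    rw [TensorProduct.comul_tmul, CommSemiring.comul_apply] at h2
    rw [h2, TensorProduct.lid_tmul, hβa, Algebra.TensorProduct.one_def, TensorProduct.smul_tmul',
      smul_eq_mul, mul_one]
  refine ⟨lam ∘ₗ β, ?_, ?_⟩
  · apply LinearMap.ext
    intro a
    show (lam ∘ₗ β) a ⊗ₜ[k] (1 : A) = (lam ∘ₗ β).rTensor A (Coalgebra.comul (R := k) a)
    rw [LinearMap.rTensor_comp_apply, claimC, LinearMap.rTensor_tmul, LinearMap.comp_apply]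
  · rw [LinearMap.comp_apply, hβa, ← Algebra.TensorProduct.one_def]
    have h3 : αK (1 : K ⊗[k] A) = 1 := by
      simp only [hαK, LinearMap.comp_apply]
      have h4 : (SemilinearMapClass.semilinearMap e : (K ⊗[k] A) →ₗ[K] MonoidAlgebra K G) 1 = 1 := map_one e
      rw [h4]
      show (1 : MonoidAlgebra K G).coeff 1 = 1
      rw [MonoidAlgebra.one_def, MonoidAlgebra.coeff_single, Finsupp.single_eq_same]
    rw [h3, hlam1]

/-- Let k be a field and A a finitely generated commutative Hopf algebra over k, the coordinate ring of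
an affine algebraic group T. Suppose T is a torus: for some algebraically closed field extension K
of k the base change K ⊗_k A is isomorphic as a K-bialgebra to the group algebra over K of a free
abelian group ℤ^n (T_K is a split torus of rank n). Then T is linearly reductive in the sense that
every finite-dimensional A-comodule is semisimple. (The source's definition of a torus asks for such
an isomorphism over every algebraically closed extension; one suffices for the printed argument. The
source's notion of a linearly reductive algebraic group also includes smoothness of T over k, which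
this row does not assert.) -/
theorem result (k K A : Type u) [Field k] [Field K]
    [Algebra k K] [IsAlgClosed K] [CommRing A] [HopfAlgebra k A] [Algebra.FiniteType k A] (n : ℕ)
    (e : (K ⊗[k] A) ≃ₐc[K] MonoidAlgebra K (Multiplicative (Fin n → ℤ))) :
    HopfRep.IsLinearlyReductive k A := by
  obtain ⟨α, hα, h1⟩ := h9_integral_of_monoidAlg k K A (Multiplicative (Fin n → ℤ)) e
  intro V _ _ _ _
  exact Groth.Agent.S18812.H9Int.main V α hα h1

end Groth.Agent.S18829
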