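import Groth.Statements.S18834
import Mathlib
import Groth.Agent.Lib.helper9.Reynolds

set_option autoImplicit false
universe u
open TensorProduct
open GIT

namespace Groth.Agent.S18834

section inv
variable {k : Type u} [Field k] {A : Type u} [CommRing A] [Bialgebra k A]
  {R : Type u} [CommRing R] [Algebra k R] [HopfRep.Comod k A R] [GLin.IsCoactAlg k A R]

theorem mulLeft_comodHom (a : R) (ha : a ∈ GLin.invariants k A R) :
    Hoch.IsComodHom A (LinearMap.mulLeft k a) := by
  apply LinearMap.ext
  intro r
  simp only [LinearMap.comp_apply, LinearMap.mulLeft_apply]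
  rw [GLin.IsCoactAlg.coact_mul, (GLin.mem_invariants_iff k A R a).mp ha]
  generalize HopfRep.Comod.coact (k := k) (A := A) r = t
  induction t using TensorProduct.induction_on with
  | zero => simp
  | tmul x b =>
    rw [Algebra.TensorProduct.tmul_mul_tmul, one_mul, LinearMap.rTensor_tmul,
      LinearMap.mulLeft_apply]
  | add x y hx hy => rw [mul_add, map_add, hx, hy]

theorem main (hG : HopfRep.IsLinearlyReductive k A) (I : Ideal (GLin.invariants k A R)) :
    Ideal.comap (GLin.invariants k A R).val.toRingHom
        (Ideal.map (GLin.invariants k A R).val.toRingHom I) = I := by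
  apply le_antisymm _ Ideal.le_comap_map
  intro f hf
  rw [Ideal.mem_comap] at hf
  obtain ⟨E, hE1, hE2, hE3⟩ := H9Rey.exists_reynolds (V := R) hG
  have hfix : ∀ x : R, x ∈ HopfRep.fixedPts k A R ↔ x ∈ GLin.invariants k A R := fun x => Iff.rfl
  have hcomm : ∀ (a : R), a ∈ GLin.invariants k A R → ∀ r, E (a * r) = a * E r := by
    intro a ha r
    have h := H9Rey.reynolds_comm hG E hE1 hE2 hE3 E hE1 hE2 hE3 (LinearMap.mulLeft k a)
      (mulLeft_comodHom a ha)
    have h2 := LinearMap.congr_fun h r
    simpa using h2
  have hEmem : ∀ r, E r ∈ GLin.invariants k A R := fun r =>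
    (hfix _).mp ((hE3 _).mp (by rw [← LinearMap.comp_apply, hE2]))
  have hP : ∀ x ∈ Ideal.map (GLin.invariants k A R).val.toRingHom I,
      ∀ r : R, ∃ y ∈ I, (y : R) = E (r * x) := by
    intro x hx
    rw [Ideal.map] at hx
    induction hx using Submodule.span_induction with
    | mem x h =>
      obtain ⟨a, haI, rfl⟩ := h
      intro r
      refine ⟨a * ⟨E r, hEmem r⟩, I.mul_mem_right _ haI, ?_⟩
      show ((a * ⟨E r, hEmem r⟩ : GLin.invariants k A R) : R) = E (r * (a : R))
      rw [mul_comm r, hcomm _ a.2]
      rfl
    | zero =>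
      intro r
      exact ⟨0, I.zero_mem, by simp⟩
    | add x y _ _ ihx ihy =>
      intro r
      obtain ⟨y1, hy1, e1⟩ := ihx r
      obtain ⟨y2, hy2, e2⟩ := ihy r
      exact ⟨y1 + y2, I.add_mem hy1 hy2, by rw [mul_add, map_add, ← e1, ← e2]; rfl⟩
    | smul s x _ ih =>
      intro r
      obtain ⟨y, hy, e⟩ := ih (r * s)
      exact ⟨y, hy, by rw [e, smul_eq_mul, mul_assoc]⟩
  obtain ⟨y, hy, e⟩ := hP _ hf 1
  have e' : (y : R) = (f : R) := by
    rw [e, one_mul]
    exact (hE3 _).mpr ((hfix _).mpr f.2)
  have h3 : y = f := Subtype.ext e'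
  rw [← h3]
  exact hy

end inv

/-- Let k be an algebraically closed field of characteristic zero, G = Spec A a linearly reductive
affine group over k (A a commutative Hopf algebra whose finite-dimensional comodules are semisimple)
acting on an affine k-scheme Spec R of finite type (a multiplicative coaction of A on R), and R^G
the ring of invariants. Then for every ideal I of R^G the ideal I·R of R generated by I satisfies
(I·R) ∩ R^G = I. (The section also assumes Spec R irreducible; that hypothesis plays no role here
and is not carried.) -/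
theorem result (k : Type u) [Field k] [IsAlgClosed k] [CharZero k]
    (A : Type u) [CommRing A] [HopfAlgebra k A] (hG : HopfRep.IsLinearlyReductive k A)
    (R : Type u) [CommRing R] [Algebra k R] [Algebra.FiniteType k R]
    [HopfRep.Comod k A R] [GLin.IsCoactAlg k A R]
    (I : Ideal (GLin.invariants k A R)) :
    Ideal.comap (GLin.invariants k A R).val.toRingHom
        (Ideal.map (GLin.invariants k A R).val.toRingHom I) = I := by
  exact main hG I

end Groth.Agent.S18834
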