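import Groth.Statements.S18861
import Mathlib

set_option autoImplicit false
universe u
open CategoryTheory MonoidalCategory CartesianMonoidalCategory MonObj GrpObj AlgebraicGeometry
open AlgGrp

namespace Groth.Agent.S18861

/-- Let S be a scheme and G a group scheme over S acting on an S-scheme X, with action morphism G ×_S X
→ X. If G → S is surjective, resp. flat, resp. affine, resp. proper, resp. finite, resp. smooth,
then so is the action morphism. (The source works over a field, where G → S is automatically
faithfully flat, with G and X of finite type, and concludes that the action morphism is faithfully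
flat, and smooth, affine, proper or finite when G is; the base and the finiteness conditions play no
role.) -/
theorem result {S : Scheme.{u}} {G X : Over S} [GrpObj G]
    (a : AlgGrp.Action G X) :
    (Surjective G.hom → Surjective a.act.left) ∧ (Flat G.hom → Flat a.act.left) ∧
      (IsAffineHom G.hom → IsAffineHom a.act.left) ∧ (IsProper G.hom → IsProper a.act.left) ∧
      (IsFinite G.hom → IsFinite a.act.left) ∧ (Smooth G.hom → Smooth a.act.left) := by
  have hone : ∀ (T : Over S) (x : T ⟶ X),
      lift (1 : T ⟶ G) x ≫ a.act = x := by
    intro T x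
    have h1 : lift (1 : T ⟶ G) x = lift (toUnit T) x ≫ (η[G] ▷ X) := by
      rw [lift_whiskerRight, Hom.one_def]
    rw [h1, Category.assoc, a.one_act, lift_leftUnitor_hom]
  have hmul : ∀ (T : Over S) (g h : T ⟶ G) (x : T ⟶ X),
      lift (g * h) x ≫ a.act = lift g (lift h x ≫ a.act) ≫ a.act := by
    intro T g h x
    have h1 : lift (g * h) x = lift (lift g h) x ≫ (μ[G] ▷ X) := by
      rw [lift_whiskerRight, Hom.mul_def]
    rw [h1, Category.assoc, a.mul_act, lift_lift_associator_hom_assoc, lift_whiskerLeft_assoc]
  let c : G ⊗ X ⟶ G ⊗ X := lift (fst G X) (lift (fst G X) (snd G X) ≫ a.act)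
  let c' : G ⊗ X ⟶ G ⊗ X := lift (fst G X) (lift (fst G X)⁻¹ (snd G X) ≫ a.act)
  have hcc' : c ≫ c' = 𝟙 _ := by
    apply CartesianMonoidalCategory.hom_ext
    · simp [c, c']
    · simp only [c, c', Category.assoc, lift_snd, comp_lift_assoc, GrpObj.comp_inv, lift_fst,
        Category.id_comp]
      rw [← hmul, inv_mul_cancel, hone]
  have hc'c : c' ≫ c = 𝟙 _ := by
    apply CartesianMonoidalCategory.hom_ext
    · simp [c, c']
    · simp only [c, c', Category.assoc, lift_snd, comp_lift_assoc, lift_fst,
        Category.id_comp]
      rw [← hmul, mul_inv_cancel, hone]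
  haveI : IsIso c := ⟨c', hcc', hc'c⟩
  have hact : a.act = c ≫ snd G X := by
    simp only [c, lift_snd, lift_fst_snd, Category.id_comp]
  haveI h2 : IsIso c.left := (Over.forget _).map_isIso c
  have hsnd : (snd G X).left = Limits.pullback.snd G.hom X.hom := Over.snd_left
  have key : ∀ (P : MorphismProperty Scheme.{u}) [P.IsStableUnderBaseChange] [P.RespectsIso],
      P G.hom → P a.act.left := by
    intro P _ _ h
    rw [hact, Over.comp_left, hsnd, P.cancel_left_of_respectsIso]
    exact MorphismProperty.pullback_snd _ _ h
  exact ⟨key @Surjective, key @Flat, key @IsAffineHom, key @IsProper, key @IsFinite, key @Smooth⟩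

end Groth.Agent.S18861
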