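import Groth.Statements.S18864
import Mathlib

set_option autoImplicit false
universe u v w
open HopfRep

namespace Groth.Agent.S18864

/-- Let k be a field and G = lim G_i a pro-algebraic group scheme over k, so that G = Spec A with A the
direct limit of the Hopf algebras A_i of the affine group schemes G_i of finite type; assume
moreover that the maps A_i → A are injective, so that A is the directed union of the A_i, here given
as injective bialgebra maps A_i → A with directed, jointly covering images. Then every homomorphism
from G to an affine group scheme H = Spec B of finite type over k factors through some projection G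
→ G_i: every bialgebra map f : B → A with B finitely generated as a k-algebra is the composite of
A_i → A with a bialgebra map B → A_i for some i. (The published statement allows arbitrary
transition maps in the system; this row assumes each A_i → A injective, the case the printed
argument treats. The source also states the pro-finite variant with H finite, which is the case of
finite-dimensional A_i and B; finite generation of the A_i is not used.) -/
theorem result (k : Type u) [Field k]
    (A : Type v) [CommRing A] [HopfAlgebra k A] {ι : Type v} (Aι : ι → Type v)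
    [∀ i, CommRing (Aι i)] [∀ i, HopfAlgebra k (Aι i)] (emb : ∀ i, Aι i →ₐc[k] A)
    (hinj : ∀ i, Function.Injective (emb i))
    (hdir : ∀ i j, ∃ l, Set.range (emb i) ⊆ Set.range (emb l) ∧ Set.range (emb j) ⊆ Set.range (emb l))
    (hcov : ∀ a : A, ∃ i, a ∈ Set.range (emb i))
    (B : Type w) [CommRing B] [HopfAlgebra k B] [Algebra.FiniteType k B] (f : B →ₐc[k] A) :
    ∃ (i : ι) (g : B →ₐc[k] Aι i), (emb i).comp g = f := by
  classical
  obtain ⟨s, hs⟩ := (Algebra.FiniteType.out : (⊤ : Subalgebra k B).FG)
  have key : ∀ t : Finset B, ∃ l, ∀ b ∈ t, f b ∈ Set.range (emb l) := by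
    intro t
    induction t using Finset.induction_on with
    | empty =>
      obtain ⟨i, _⟩ := hcov 0
      exact ⟨i, by simp⟩
    | insert a t ha ih =>
      obtain ⟨l1, h1⟩ := ih
      obtain ⟨l2, h2⟩ := hcov (f a)
      obtain ⟨l, hl1, hl2⟩ := hdir l1 l2
      refine ⟨l, ?_⟩
      intro b hb
      rcases Finset.mem_insert.mp hb with rfl | hb
      · exact hl2 h2
      · exact hl1 (h1 b hb)
  obtain ⟨l, hl⟩ := key s
  have hrange : ∀ b : B, (f : B →ₐ[k] A) b ∈ ((emb l : Aι l →ₐ[k] A)).range := by
    intro b
    have hb : b ∈ Algebra.adjoin k (s : Set B) := by rw [hs]; trivial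
    have hle : Algebra.adjoin k (s : Set B) ≤
        ((emb l : Aι l →ₐ[k] A).range).comap (f : B →ₐ[k] A) := by
      apply Algebra.adjoin_le
      intro b hb
      obtain ⟨x, hx⟩ := hl b hb
      exact ⟨x, hx⟩
    exact hle hb
  have hinj' : Function.Injective ((emb l : Aι l →ₐ[k] A)) := hinj l
  let g₀ : B →ₐ[k] Aι l :=
    ((AlgEquiv.ofInjective (emb l : Aι l →ₐ[k] A) hinj').symm : _ →ₐ[k] Aι l).comp
      ((f : B →ₐ[k] A).codRestrict _ hrange)
  have hg₀ : ∀ b, emb l (g₀ b) = f b := by
    intro b
    have := (AlgEquiv.ofInjective (emb l : Aι l →ₐ[k] A) hinj').apply_symm_apply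
      ((f : B →ₐ[k] A).codRestrict _ hrange b)
    have h2 := congrArg Subtype.val this
    rw [AlgEquiv.ofInjective_apply] at h2
    exact h2
  have hc : (Bialgebra.counitAlgHom k (Aι l)).comp g₀ = Bialgebra.counitAlgHom k B := by
    ext b
    have h1 : Coalgebra.counit (R := k) (emb l (g₀ b)) = Coalgebra.counit (R := k) (g₀ b) :=
      CoalgHomClass.counit_comp_apply (emb l) (g₀ b)
    have h2 : Coalgebra.counit (R := k) (f b) = Coalgebra.counit (R := k) b :=
      CoalgHomClass.counit_comp_apply f b
    simp only [AlgHom.comp_apply, Bialgebra.counitAlgHom_apply]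
    rw [← h1, hg₀, h2]
  have hm : (Algebra.TensorProduct.map g₀ g₀).comp (Bialgebra.comulAlgHom k B) =
      (Bialgebra.comulAlgHom k (Aι l)).comp g₀ := by
    ext b
    have hinjT : Function.Injective (TensorProduct.map (emb l : Aι l →ₗ[k] A) (emb l : Aι l →ₗ[k] A)) :=
      TensorProduct.map_injective_of_flat_flat _ _ (hinj l) (hinj l)
    apply hinjT
    have h1 : TensorProduct.map (emb l : Aι l →ₗ[k] A) (emb l : Aι l →ₗ[k] A)
        (Coalgebra.comul (R := k) (g₀ b)) = Coalgebra.comul (R := k) (emb l (g₀ b)) :=
      CoalgHomClass.map_comp_comul_apply (emb l) (g₀ b)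
    have h2 : TensorProduct.map (f : B →ₗ[k] A) (f : B →ₗ[k] A)
        (Coalgebra.comul (R := k) b) = Coalgebra.comul (R := k) (f b) :=
      CoalgHomClass.map_comp_comul_apply f b
    simp only [AlgHom.comp_apply, Bialgebra.comulAlgHom_apply]
    rw [h1, hg₀, ← h2]
    have h3 : (TensorProduct.map (emb l : Aι l →ₗ[k] A) (emb l : Aι l →ₗ[k] A)) ∘ₗ
        (TensorProduct.map g₀.toLinearMap g₀.toLinearMap) =
        TensorProduct.map (f : B →ₗ[k] A) (f : B →ₗ[k] A) := by
      rw [← TensorProduct.map_comp]
      congr 1 <;> (ext b; exact hg₀ b)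
    rw [← h3]
    rfl
  refine ⟨l, BialgHom.ofAlgHom g₀ hc hm, ?_⟩
  ext b
  exact hg₀ b

end Groth.Agent.S18864
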