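import Groth.Statements.S18884
import Mathlib

set_option autoImplicit false
universe v u w
open CategoryTheory CategoryTheory.Limits
open Desc

namespace Groth.Agent.S18884

/-- Let C be a category with pullbacks equipped with a class W of morphisms, the covers, stable under
base change and under composition. An abelian cosheaf is a functor F : C ⥤ Ab such that for every
cover π : Y ⟶ X the map F(π) is surjective and its kernel is the image of F(p₁) − F(p₂), where p₁,
p₂ : Y ×_X Y ⟶ Y are the two projections. If D is a full subcategory of C such that every object of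
C is the target of a cover whose source lies in D, then the restriction functor from the full
subcategory of abelian cosheaves in C ⥤ Ab to D ⥤ Ab is full and faithful. -/
theorem result {C : Type u} [Category.{v} C]
    [HasPullbacks C] (W : MorphismProperty C) [W.IsStableUnderBaseChange] [W.IsStableUnderComposition]
    (D : ObjectProperty C) (hD : ∀ X : C, ∃ (Y : C) (π : Y ⟶ X), W π ∧ D Y) :
    (ObjectProperty.ι (fun F : C ⥤ AddCommGrpCat.{w} =>
        ∀ ⦃Y X : C⦄ (π : Y ⟶ X), W π → Function.Surjective (F.map π).hom ∧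
          (F.map π).hom.ker = ((F.map (pullback.fst π π)).hom - (F.map (pullback.snd π π)).hom).range) ⋙
      (Functor.whiskeringLeft D.FullSubcategory C AddCommGrpCat.{w}).obj D.ι).Full ∧
    (ObjectProperty.ι (fun F : C ⥤ AddCommGrpCat.{w} =>
        ∀ ⦃Y X : C⦄ (π : Y ⟶ X), W π → Function.Surjective (F.map π).hom ∧
          (F.map π).hom.ker = ((F.map (pullback.fst π π)).hom - (F.map (pullback.snd π π)).hom).range) ⋙
      (Functor.whiskeringLeft D.FullSubcategory C AddCommGrpCat.{w}).obj D.ι).Faithful := by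
  have hcomp : ∀ (F : C ⥤ AddCommGrpCat.{w}) {X Y Z : C} (f : X ⟶ Y) (g : Y ⟶ Z) (x : F.obj X),
      (F.map (f ≫ g)).hom x = (F.map g).hom ((F.map f).hom x) := by
    intro F X Y Z f g x
    rw [F.map_comp]
    rfl
  refine ⟨?_, ?_⟩
  · constructor
    intro F G τ
    have τnat : ∀ {Z Y : C} (hZ : D Z) (hY : D Y) (h : Z ⟶ Y) (z : F.obj.obj Z),
        (τ.app ⟨Y, hY⟩).hom ((F.obj.map h).hom z) =
          (G.obj.map h).hom ((τ.app ⟨Z, hZ⟩).hom z) := by
      intro Z Y hZ hY h z
      have e := τ.naturality (ObjectProperty.homMk h : (⟨Z, hZ⟩ : D.FullSubcategory) ⟶ ⟨Y, hY⟩)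
      exact congrArg (fun m => m.hom z) e
    have keyA : ∀ {Y X : C} (π : Y ⟶ X) (hW : W π) (hY : D Y),
        ∃ a : F.obj.obj X →+ G.obj.obj X, ∀ y : F.obj.obj Y,
          a ((F.obj.map π).hom y) = (G.obj.map π).hom ((τ.app ⟨Y, hY⟩).hom y) := by
      intro Y X π hW hY
      obtain ⟨hsurj, hker⟩ := F.property π hW
      have hle : (F.obj.map π).hom.ker ≤
          (((G.obj.map π).hom).comp (τ.app ⟨Y, hY⟩).hom).ker := by
        intro y hy
        rw [hker] at hy
        obtain ⟨z, rfl⟩ := hy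
        obtain ⟨Z, ρ, hρ, hZ⟩ := hD (pullback π π)
        obtain ⟨z', rfl⟩ := (F.property ρ hρ).1 z
        rw [AddMonoidHom.mem_ker, AddMonoidHom.comp_apply, AddMonoidHom.sub_apply,
          ← hcomp F.obj ρ (pullback.fst π π), ← hcomp F.obj ρ (pullback.snd π π), map_sub,
          τnat hZ hY, τnat hZ hY, map_sub, ← hcomp G.obj, ← hcomp G.obj,
          Category.assoc, Category.assoc, pullback.condition, sub_self]
      refine ⟨(F.obj.map π).hom.liftOfRightInverse (Function.surjInv hsurj)
        (Function.rightInverse_surjInv hsurj) ⟨_, hle⟩, fun y => ?_⟩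
      exact AddMonoidHom.liftOfRightInverse_comp_apply _ _ _ ⟨_, hle⟩ y
    have keyB : ∀ {Y X Y' X' : C} (π : Y ⟶ X) (hW : W π) (hY : D Y) (π' : Y' ⟶ X')
        (hW' : W π') (hY' : D Y') (f : X ⟶ X')
        (a : F.obj.obj X →+ G.obj.obj X) (a' : F.obj.obj X' →+ G.obj.obj X')
        (ha : ∀ y : F.obj.obj Y,
          a ((F.obj.map π).hom y) = (G.obj.map π).hom ((τ.app ⟨Y, hY⟩).hom y))
        (ha' : ∀ y : F.obj.obj Y',
          a' ((F.obj.map π').hom y) = (G.obj.map π').hom ((τ.app ⟨Y', hY'⟩).hom y))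
        (x : F.obj.obj X), (G.obj.map f).hom (a x) = a' ((F.obj.map f).hom x) := by
      intro Y X Y' X' π hW hY π' hW' hY' f a a' ha ha' x
      obtain ⟨Z, ρ, hρ, hZ⟩ := hD (pullback (π ≫ f) π')
      have hq1 : W (pullback.fst (π ≫ f) π') := MorphismProperty.pullback_fst _ _ hW'
      obtain ⟨y, rfl⟩ := (F.property π hW).1 x
      obtain ⟨y', rfl⟩ := (F.property (pullback.fst (π ≫ f) π') hq1).1 y
      obtain ⟨z, rfl⟩ := (F.property ρ hρ).1 y'
      have hmor : (ρ ≫ pullback.fst (π ≫ f) π') ≫ π ≫ f = (ρ ≫ pullback.snd (π ≫ f) π') ≫ π' := by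
        rw [Category.assoc, Category.assoc, pullback.condition]
      have L : (G.obj.map f).hom (a ((F.obj.map π).hom
            ((F.obj.map (pullback.fst (π ≫ f) π')).hom ((F.obj.map ρ).hom z)))) =
          (G.obj.map ((ρ ≫ pullback.fst (π ≫ f) π') ≫ π ≫ f)).hom ((τ.app ⟨Z, hZ⟩).hom z) := by
        rw [ha, ← hcomp F.obj ρ (pullback.fst (π ≫ f) π'), τnat hZ hY, ← hcomp G.obj π f,
          ← hcomp G.obj (ρ ≫ pullback.fst (π ≫ f) π') (π ≫ f)]
      have R : a' ((F.obj.map f).hom ((F.obj.map π).hom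
            ((F.obj.map (pullback.fst (π ≫ f) π')).hom ((F.obj.map ρ).hom z)))) =
          (G.obj.map ((ρ ≫ pullback.snd (π ≫ f) π') ≫ π')).hom ((τ.app ⟨Z, hZ⟩).hom z) := by
        rw [← hcomp F.obj ρ (pullback.fst (π ≫ f) π'), ← hcomp F.obj π f,
          ← hcomp F.obj (ρ ≫ pullback.fst (π ≫ f) π') (π ≫ f), hmor,
          hcomp F.obj (ρ ≫ pullback.snd (π ≫ f) π') π', ha', τnat hZ hY',
          ← hcomp G.obj (ρ ≫ pullback.snd (π ≫ f) π') π']
      rw [L, R, hmor]
    choose Yc πc hWc hDc using hD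
    choose a ha using fun X => keyA (πc X) (hWc X) (hDc X)
    obtain ⟨α, hα⟩ : ∃ α : F.obj ⟶ G.obj, ∀ (X : C) (x : F.obj.obj X),
        (α.app X).hom x = a X x := by
      refine ⟨{ app := fun X => AddCommGrpCat.ofHom (a X)
                naturality := ?_ }, fun X x => rfl⟩
      intro X X' f
      refine AddCommGrpCat.hom_ext (AddMonoidHom.ext fun x => ?_)
      show a X' ((F.obj.map f).hom x) = (G.obj.map f).hom (a X x)
      exact (keyB (πc X) (hWc X) (hDc X) (πc X') (hWc X') (hDc X') f (a X) (a X')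
        (ha X) (ha X') x).symm
    refine ⟨ObjectProperty.homMk α, ?_⟩
    apply NatTrans.ext
    funext d
    refine AddCommGrpCat.hom_ext (AddMonoidHom.ext fun x => ?_)
    show (α.app d.obj).hom x = (τ.app d).hom x
    rw [hα]
    obtain ⟨y, rfl⟩ := (F.property (πc d.obj) (hWc d.obj)).1 x
    rw [ha]
    exact (τnat (hDc d.obj) d.property (πc d.obj) y).symm
  · constructor
    intro F G α β h
    apply ObjectProperty.hom_ext
    apply NatTrans.ext
    funext X
    refine AddCommGrpCat.hom_ext (AddMonoidHom.ext fun x => ?_)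
    obtain ⟨Y, π, hπ, hY⟩ := hD X
    obtain ⟨y, rfl⟩ := (F.property π hπ).1 x
    have hnat : ∀ (γ : F ⟶ G), (γ.hom.app X).hom ((F.obj.map π).hom y) =
        (G.obj.map π).hom ((γ.hom.app Y).hom y) := by
      intro γ
      exact congrArg (fun m => m.hom y) (γ.hom.naturality π)
    have hY' : α.hom.app Y = β.hom.app Y := by
      have := congrArg (fun t => t.app ⟨Y, hY⟩) h
      exact this
    show (α.hom.app X).hom _ = (β.hom.app X).hom _
    rw [hnat α, hnat β, hY']

end Groth.Agent.S18884
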