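import Groth.Statements.S18887
import Mathlib

set_option autoImplicit false
universe u v
open DblCov

namespace Groth.Agent.S18887

/-- Let A be a commutative ring in which 2 is invertible and B a commutative A-algebra which is free of
rank 2 as an A-module and whose trace form tr : B → A has kernel free of rank 1 over A. Then σ(b) =
tr(b) − b defines an A-algebra endomorphism σ of B with σ ≠ id and σ ∘ σ = id, and the elements
fixed by σ are exactly the image of A in B. -/
theorem result {A : Type u} {B : Type v} [CommRing A] [CommRing B]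
    [Algebra A B] (h2 : IsUnit (2 : A)) [Module.Free A B] [Module.Finite A B]
    (hrk : Module.finrank A B = 2)
    [Module.Free A (LinearMap.ker (Algebra.trace A B))]
    (hker : Module.finrank A (LinearMap.ker (Algebra.trace A B)) = 1) :
    ∃ σ : B →ₐ[A] B, (∀ b : B, σ b = algebraMap A B (Algebra.trace A B b) - b) ∧
      σ ≠ AlgHom.id A B ∧ σ.comp σ = AlgHom.id A B ∧
      ∀ b : B, σ b = b ↔ b ∈ Set.range (algebraMap A B) := by
  classical
  haveI hntA : Nontrivial A := by
    by_contra hA
    rw [not_nontrivial_iff_subsingleton] at hA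
    have h1 : Module.finrank A B = 1 := Module.finrank_subsingleton
    omega
  haveI hntB : Nontrivial B := Module.nontrivial_of_finrank_pos (R := A) (by rw [hrk]; norm_num)
  haveI hntK : Nontrivial (LinearMap.ker (Algebra.trace A B)) :=
    Module.nontrivial_of_finrank_pos (R := A) (by rw [hker]; norm_num)
  obtain ⟨⟨w, hw⟩, hw0⟩ := exists_ne (0 : LinearMap.ker (Algebra.trace A B))
  obtain ⟨t, ht⟩ : ∃ t : B →ₗ[A] A, t = Algebra.trace A B := ⟨_, rfl⟩
  have htw : t w = 0 := by rw [ht]; exact LinearMap.mem_ker.mp hw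
  have hw0' : w ≠ 0 := fun h => hw0 (Subtype.ext h)
  have t_alg : ∀ a : A, t (algebraMap A B a) = 2 * a := by
    intro a; rw [ht, Algebra.trace_algebraMap, hrk]; simp
  have t1 : t 1 = 2 := by have := t_alg 1; rwa [map_one, mul_one] at this
  -- Cayley–Hamilton
  have hCH : ∀ x : B, ∃ d : A, x * x - t x • x + d • (1 : B) = 0 := by
    intro x
    obtain ⟨b⟩ : Nonempty (Module.Basis (Fin 2) A B) := ⟨Module.finBasisOfFinrankEq A B hrk⟩
    obtain ⟨L, hL⟩ : ∃ L : B →ₗ[A] B, L = Algebra.lmul A B x := ⟨_, rfl⟩
    have h1 := LinearMap.aeval_self_charpoly L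
    rw [← LinearMap.charpoly_toMatrix L b, Matrix.charpoly_fin_two] at h1
    rw [← LinearMap.trace_eq_matrix_trace A b L] at h1
    have htr : LinearMap.trace A B L = t x := by rw [ht, hL, Algebra.trace_apply]
    rw [htr] at h1
    refine ⟨(LinearMap.toMatrix b b L).det, ?_⟩
    have hLa : ∀ y, L y = x * y := by intro y; rw [hL]; rfl
    have h3 : (L ^ 2 - algebraMap A (Module.End A B) (t x) * L +
        algebraMap A (Module.End A B) (LinearMap.toMatrix b b L).det) 1 = 0 := by
      have h4 := h1
      simp only [map_add, map_sub, map_mul, map_pow, Polynomial.aeval_X, Polynomial.aeval_C] at h4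
      rw [h4]; rfl
    rw [LinearMap.add_apply, LinearMap.sub_apply, pow_two, Module.End.mul_apply,
      Module.End.mul_apply, Module.algebraMap_end_apply, Module.algebraMap_end_apply, hLa, hLa,
      mul_one] at h3
    exact h3
  have hpol : ∀ x y : B, (2:A) • (x * y) - t x • y - t y • x +
      (t x * t y - t (x * y)) • (1 : B) = 0 := by
    intro x y
    obtain ⟨dx, hx⟩ := hCH x
    obtain ⟨dy, hy⟩ := hCH y
    obtain ⟨dxy, hxy⟩ := hCH (x + y)
    have e1 : (2:A) • (x * y) - t x • y - t y • x + (dxy - dx - dy) • (1 : B) = 0 := by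
      have hexp : (x + y) * (x + y) = x * x + y * y + (2:A) • (x * y) := by
        rw [two_smul]; ring
      have e0 : (2:A) • (x * y) - t x • y - t y • x + (dxy - dx - dy) • (1 : B) =
          ((x + y) * (x + y) - t (x + y) • (x + y) + dxy • (1 : B)) -
          (x * x - t x • x + dx • (1 : B)) - (y * y - t y • y + dy • (1 : B)) := by
        rw [hexp, map_add]
        module
      rw [e0, hx, hy, hxy]; simp
    have e2 := congrArg t e1
    simp only [map_add, map_sub, map_smul, map_zero, smul_eq_mul, t1] at e2
    have e3 : (dxy - dx - dy) = t x * t y - t (x * y) := by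
      have e4 : (2:A) * ((dxy - dx - dy) - (t x * t y - t (x * y))) = 0 := by
        linear_combination e2
      exact sub_eq_zero.mp ((h2.mul_right_eq_zero).mp e4)
    rw [e3] at e1; exact e1
  obtain ⟨f, hf⟩ : ∃ f : B →ₗ[A] B, f = (Algebra.linearMap A B).comp t - LinearMap.id := ⟨_, rfl⟩
  have hfa : ∀ b, f b = algebraMap A B (t b) - b := by intro b; rw [hf]; rfl
  have f_one : f 1 = 1 := by rw [hfa, t1, map_ofNat]; norm_num
  have f_mul : ∀ x y, f (x * y) = f x * f y := by
    intro x y
    rw [hfa, hfa, hfa]
    have h := hpol x y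
    simp only [Algebra.smul_def, map_sub, map_mul, map_ofNat, mul_one] at h
    linear_combination (-1 : B) * h
  subst ht
  refine ⟨AlgHom.ofLinearMap f f_one f_mul, ?_, ?_, ?_, ?_⟩
  · intro b
    exact hfa b
  · intro hσ
    have h5 : f w = w := by
      have := congrArg (fun φ : B →ₐ[A] B => φ w) hσ
      simpa using this
    rw [hfa, htw, map_zero, zero_sub] at h5
    have h2w : (2:A) • w = 0 := by
      rw [two_smul]; nth_rewrite 1 [← h5]; exact neg_add_cancel w
    exact hw0' ((h2.smul_eq_zero).mp h2w)
  · refine AlgHom.ext (fun b => ?_)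
    show f (f b) = b
    rw [hfa (f b), hfa b, map_sub, t_alg, two_mul, add_sub_cancel_right, sub_sub_cancel]
  · intro b
    show f b = b ↔ _
    rw [hfa]
    constructor
    · intro h
      obtain ⟨u2, hu2⟩ := h2
      refine ⟨↑u2⁻¹ * Algebra.trace A B b, ?_⟩
      have h' : algebraMap A B (Algebra.trace A B b) = (u2 : A) • b := by
        rw [hu2, two_smul]; rw [sub_eq_iff_eq_add] at h; exact h
      rw [map_mul, h', ← Algebra.smul_def, smul_smul, Units.inv_mul, one_smul]
    · rintro ⟨a, rfl⟩
      rw [t_alg, two_mul, map_add, add_sub_cancel_right]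

end Groth.Agent.S18887
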