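import Groth.Statements.S18888
import Mathlib

set_option autoImplicit false
universe u v w
open CAlg

namespace Groth.Agent.S18888

/-- Let A be a unique factorisation domain in which 2 is invertible, with fraction field K, and let L ⊇
K be a quadratic extension field (of degree 2 over K) containing an element y ∉ K whose square is a
squarefree element d of A. Then the integral closure of A in L equals the A-subalgebra A[y]
generated by y. -/
theorem result {A : Type u} {K : Type v} {L : Type w}
    [CommRing A] [IsDomain A] [UniqueFactorizationMonoid A] [Field K] [Algebra A K] [IsFractionRing A K]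
    [Field L] [Algebra K L] [Algebra A L] [IsScalarTower A K L]
    (h2 : IsUnit (2 : A)) (hL : Module.finrank K L = 2)
    (d : A) (hd : Squarefree d) (y : L) (hy : y * y = algebraMap A L d)
    (hyK : y ∉ Set.range (algebraMap K L)) :
    integralClosure A L = Algebra.adjoin A {y} := by
  classical
  haveI : FiniteDimensional K L := Module.finite_of_finrank_pos (by rw [hL]; norm_num)
  have hALK : ∀ a : A, algebraMap A L a = algebraMap K L (algebraMap A K a) :=
    fun a => IsScalarTower.algebraMap_apply A K L a
  have hinjKL : Function.Injective (algebraMap K L) := (algebraMap K L).injective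
  have hinjAK : Function.Injective (algebraMap A K) := IsFractionRing.injective A K
  have hli : LinearIndependent K ![(1:L), y] := by
    rw [LinearIndependent.pair_iff]
    intro s t hst
    have ht : t = 0 := by
      by_contra ht
      apply hyK
      refine ⟨-s / t, ?_⟩
      rw [Algebra.smul_def, Algebra.smul_def, mul_one] at hst
      have htL : algebraMap K L t ≠ 0 := fun h => ht (hinjKL (by rw [h, map_zero]))
      rw [map_div₀, map_neg, div_eq_iff htL]
      linear_combination (-1 : L) * hst
    refine ⟨?_, ht⟩
    rw [ht, zero_smul, add_zero] at hst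
    rcases smul_eq_zero.mp hst with h | h
    · exact h
    · exact absurd h one_ne_zero
  obtain ⟨bs, hbs⟩ : ∃ bs : Module.Basis (Fin 2) K L, ⇑bs = ![(1:L), y] :=
    ⟨basisOfLinearIndependentOfCardEqFinrank hli (by rw [hL]; rfl),
      coe_basisOfLinearIndependentOfCardEqFinrank _ _⟩
  have hdecomp : ∀ z : L, ∃ a b : K, z = algebraMap K L a + algebraMap K L b * y := by
    intro z
    refine ⟨bs.repr z 0, bs.repr z 1, ?_⟩
    conv_lhs => rw [← bs.sum_repr z]
    rw [Fin.sum_univ_two, hbs]
    simp [Algebra.smul_def]
  have hyint : IsIntegral A y := by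
    refine ⟨Polynomial.X ^ 2 - Polynomial.C d, Polynomial.monic_X_pow_sub_C _ two_ne_zero, ?_⟩
    simp only [Polynomial.eval₂_sub, Polynomial.eval₂_pow, Polynomial.eval₂_X, Polynomial.eval₂_C]
    rw [sq, hy, sub_self]
  apply le_antisymm
  · intro z hz
    have hzint : IsIntegral A z := hz
    obtain ⟨a, b, hzab⟩ := hdecomp z
    suffices h : (∃ a₀ : A, algebraMap A K a₀ = a) ∧ (∃ b₀ : A, algebraMap A K b₀ = b) by
      obtain ⟨⟨a₀, ha₀⟩, ⟨b₀, hb₀⟩⟩ := h
      rw [hzab, ← ha₀, ← hb₀, ← hALK, ← hALK]
      exact Subalgebra.add_mem _ (Subalgebra.algebraMap_mem _ _)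
        (Subalgebra.mul_mem _ (Subalgebra.algebraMap_mem _ _)
          (Algebra.subset_adjoin (Set.mem_singleton y)))
    by_cases hb : b = 0
    · subst hb
      rw [map_zero, zero_mul, add_zero] at hzab
      refine ⟨?_, ⟨0, map_zero _⟩⟩
      rw [hzab] at hzint
      have h3 : IsIntegral A a := (isIntegral_algebraMap_iff hinjKL).mp hzint
      exact IsIntegrallyClosed.isIntegral_iff.mp h3
    · obtain ⟨d', hd'⟩ : ∃ d' : K, d' = algebraMap A K d := ⟨_, rfl⟩
      have hyd : y * y = algebraMap K L d' := by rw [hy, hALK, hd']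
      obtain ⟨c1, hc1⟩ : ∃ c1 : K, c1 = -(2 * a) := ⟨_, rfl⟩
      obtain ⟨c0, hc0⟩ : ∃ c0 : K, c0 = a * a - d' * (b * b) := ⟨_, rfl⟩
      obtain ⟨q, hq⟩ : ∃ q : Polynomial K, q = Polynomial.C 1 * Polynomial.X ^ 2 +
        Polynomial.C c1 * Polynomial.X + Polynomial.C c0 := ⟨_, rfl⟩
      have hqdeg : q.natDegree = 2 := by
        rw [hq]; exact Polynomial.natDegree_quadratic one_ne_zero
      have hqmonic : q.Monic := by
        rw [Polynomial.Monic, hq, Polynomial.leadingCoeff_quadratic one_ne_zero]
      have hqz : Polynomial.aeval z q = 0 := by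
        rw [hq, hzab]
        simp only [map_add, map_mul, Polynomial.aeval_C, Polynomial.aeval_X, map_pow, map_one,
          one_mul]
        rw [hc1, hc0]
        simp only [map_neg, map_mul, map_sub, map_ofNat]
        linear_combination (algebraMap K L b) ^ 2 * hyd
      have hznotK : z ∉ (algebraMap K L).range := by
        rintro ⟨w, hw⟩
        apply hyK
        refine ⟨(w - a) / b, ?_⟩
        have hbL : algebraMap K L b ≠ 0 := fun h => hb (hinjKL (by rw [h, map_zero]))
        rw [map_div₀, map_sub, div_eq_iff hbL, hw, hzab]; ring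
      have hzintK : IsIntegral K z := IsIntegral.of_finite K z
      have hmdeg : (minpoly K z).natDegree = 2 := by
        apply le_antisymm
        · have h3 := minpoly.natDegree_le (A := K) z
          rw [hL] at h3; exact h3
        · exact (minpoly.two_le_natDegree_iff hzintK).mpr hznotK
      have hmq : q = minpoly K z :=
        Polynomial.eq_of_monic_of_dvd_of_natDegree_le (minpoly.monic hzintK) hqmonic
          (minpoly.dvd K z hqz) (by rw [hqdeg, hmdeg])
      have hmA := minpoly.isIntegrallyClosed_eq_field_fractions' K hzint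
      have hcoef1 : c1 = algebraMap A K ((minpoly A z).coeff 1) := by
        have h3 := congrArg (fun p => Polynomial.coeff p 1) (hmq.trans hmA)
        simp only [Polynomial.coeff_map] at h3
        rw [← h3, hq]
        simp [Polynomial.coeff_C, Polynomial.coeff_X_pow]
      have hcoef0 : c0 = algebraMap A K ((minpoly A z).coeff 0) := by
        have h3 := congrArg (fun p => Polynomial.coeff p 0) (hmq.trans hmA)
        simp only [Polynomial.coeff_map] at h3
        rw [← h3, hq]
        simp [Polynomial.coeff_X, Polynomial.coeff_C, Polynomial.coeff_X_pow]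
      obtain ⟨u2, hu2⟩ := h2
      have h2K : (2 : K) = algebraMap A K (u2 : A) := by
        rw [hu2]; exact (map_ofNat (algebraMap A K) 2).symm
      have ha : ∃ a₀ : A, algebraMap A K a₀ = a := by
        refine ⟨-(↑u2⁻¹ : A) * (minpoly A z).coeff 1, ?_⟩
        rw [map_mul, ← hcoef1, hc1, map_neg]
        have h3 : algebraMap A K (↑u2⁻¹ : A) * 2 = 1 := by
          rw [h2K, ← map_mul, Units.inv_mul, map_one]
        linear_combination a * h3
      obtain ⟨a₀, ha₀⟩ := ha
      refine ⟨⟨a₀, ha₀⟩, ?_⟩
      obtain ⟨c', hc'⟩ : ∃ c' : A, c' = a₀ * a₀ - (minpoly A z).coeff 0 := ⟨_, rfl⟩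
      have hdb2 : d' * (b * b) = algebraMap A K c' := by
        rw [hc', map_sub, map_mul, ha₀, ← hcoef0, hc0]; ring
      have hsq : (d' * b) ^ 2 = algebraMap A K (d * c') := by
        rw [map_mul, ← hdb2, ← hd']; ring
      have hint : IsIntegral A (d' * b) := by
        refine ⟨Polynomial.X ^ 2 - Polynomial.C (d * c'),
          Polynomial.monic_X_pow_sub_C _ two_ne_zero, ?_⟩
        simp only [Polynomial.eval₂_sub, Polynomial.eval₂_pow, Polynomial.eval₂_X,
          Polynomial.eval₂_C]
        rw [hsq, sub_self]
      obtain ⟨e, he⟩ := IsIntegrallyClosed.isIntegral_iff.mp hint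
      have he2 : e ^ 2 = d * c' := by
        apply hinjAK
        rw [map_pow, he, hsq]
      have hde : d ∣ e := (hd.dvd_pow_iff_dvd two_ne_zero).mp ⟨c', he2⟩
      obtain ⟨e', he'⟩ := hde
      refine ⟨e', ?_⟩
      have hd0 : d' ≠ 0 := by
        rw [hd']
        intro h
        exact hd.ne_zero (hinjAK (by rw [h, map_zero]))
      apply mul_left_cancel₀ hd0
      rw [← he, he', map_mul, hd']
  · exact Algebra.adjoin_le (Set.singleton_subset_iff.mpr hyint)

end Groth.Agent.S18888
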