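import Groth.Statements.S18890
import Mathlib

set_option autoImplicit false
universe u v w w'
open CAlg

namespace Groth.Agent.S18890

/-- Let R be a commutative ring, G a finite group whose order is invertible in R, M an R-module with an
R-linear action ρ of G and N an arbitrary R-module. Then the natural map M^G ⊗_R N → M ⊗_R N induced
by the inclusion of the invariants is injective, and its image is the submodule of invariants of M
⊗_R N under the action ρ ⊗ 1 (G acting on the first factor). (The source lets G be a group of
R-automorphisms of M; a possibly non-faithful linear action changes nothing.) -/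
theorem result {R : Type u} [CommRing R]
    {G : Type v} [Group G] [Finite G] (hG : IsUnit ((Nat.card G : ℕ) : R))
    {M : Type w} {N : Type w'} [AddCommGroup M] [Module R M] [AddCommGroup N] [Module R N]
    (ρ : Representation R G M) :
    Function.Injective (LinearMap.rTensor N ρ.invariants.subtype) ∧
      LinearMap.range (LinearMap.rTensor N ρ.invariants.subtype) =
        (ρ.tprod (Representation.trivial R G N)).invariants := by
  classical
  haveI : Fintype G := Fintype.ofFinite G
  obtain ⟨c, hc⟩ := hG.exists_left_inv
  rw [Nat.card_eq_fintype_card] at hc
  let avg : M →ₗ[R] M := c • ∑ g : G, ρ g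
  have havg_inv : ∀ m, avg m ∈ ρ.invariants := by
    intro m g
    simp only [avg, LinearMap.smul_apply, LinearMap.sum_apply, map_smul, map_sum]
    congr 1
    have : ∀ h : G, (ρ g) ((ρ h) m) = ρ (g * h) m := fun h => by rw [map_mul]; rfl
    simp_rw [this]
    exact Fintype.sum_bijective (fun h => g * h) (Group.mulLeft_bijective g) _ _ (fun h => rfl)
  have havg_fix : ∀ m ∈ ρ.invariants, avg m = m := by
    intro m hm
    simp only [avg, LinearMap.smul_apply, LinearMap.sum_apply]
    have : ∀ g : G, ρ g m = m := hm
    simp_rw [this]
    rw [Finset.sum_const, Finset.card_univ, ← Nat.cast_smul_eq_nsmul R, smul_smul, hc, one_smul]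
  let π : M →ₗ[R] ρ.invariants := avg.codRestrict _ havg_inv
  have hπ : π ∘ₗ ρ.invariants.subtype = LinearMap.id := by
    ext m
    exact havg_fix m.1 m.2
  have hsub : ρ.invariants.subtype ∘ₗ π = avg := by
    ext m; rfl
  constructor
  · apply Function.LeftInverse.injective (g := LinearMap.rTensor N π)
    intro x
    rw [← LinearMap.comp_apply, ← LinearMap.rTensor_comp, hπ, LinearMap.rTensor_id, LinearMap.id_apply]
  · apply le_antisymm
    · rintro _ ⟨y, rfl⟩ g
      rw [Representation.tprod_apply]
      have h1 : Representation.trivial R G N g = LinearMap.id := by
        ext n; simp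
      rw [h1]
      change (LinearMap.rTensor N (ρ g)) _ = _
      rw [← LinearMap.comp_apply, ← LinearMap.rTensor_comp]
      congr 2
      ext m
      exact m.2 g
    · intro x hx
      have hx' : ∀ g : G, (LinearMap.rTensor N (ρ g)) x = x := by
        intro g
        have := hx g
        rw [Representation.tprod_apply] at this
        have h1 : Representation.trivial R G N g = LinearMap.id := by
          ext n; simp
        rw [h1] at this
        exact this
      have h2 : (LinearMap.rTensor N avg) x = x := by
        have : LinearMap.rTensor N avg = c • ∑ g : G, LinearMap.rTensor N (ρ g) := by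
          simp only [avg]
          rw [LinearMap.rTensor_smul]
          congr 1
          exact map_sum (LinearMap.rTensorHom N) _ _
        rw [this, LinearMap.smul_apply, LinearMap.sum_apply]
        simp_rw [hx']
        rw [Finset.sum_const, Finset.card_univ, ← Nat.cast_smul_eq_nsmul R, smul_smul, hc, one_smul]
      refine ⟨LinearMap.rTensor N π x, ?_⟩
      rw [← LinearMap.comp_apply, ← LinearMap.rTensor_comp, hsub, h2]

end Groth.Agent.S18890
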