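import Groth.Statements.S18899
import Mathlib

set_option autoImplicit false
universe u v w
open CAlg

namespace Groth.Agent.S18899

/-- Let A be a commutative ring on which a finite group G acts by ring automorphisms, with ring of
invariants A^G, and let K be a field. If two ring homomorphisms f₁, f₂ : A → K have the same
restriction to A^G, then f₂ = f₁ ∘ γ for some γ ∈ G. -/
theorem result {A : Type u} [CommRing A] {G : Type v} [Group G] [Finite G]
    [MulSemiringAction G A] {K : Type w} [Field K] (f₁ f₂ : A →+* K)
    (h : ∀ a : A, (∀ g : G, g • a = a) → f₁ a = f₂ a) :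
    ∃ γ : G, ∀ a : A, f₂ a = f₁ (γ • a) := by
  classical
  cases nonempty_fintype G
  -- Step 1: pointwise statement, valid for any domain as target
  have step1 : ∀ (A' : Type u) [CommRing A'] [MulSemiringAction G A'] (K' : Type w) [CommRing K']
      [IsDomain K'] (F₁ F₂ : A' →+* K')
      (_ : ∀ a : A', (∀ g : G, g • a = a) → F₁ a = F₂ a) (a : A'), ∃ g : G, F₂ a = F₁ (g • a) := by
    intro A' _ _ K' _ _ F₁ F₂ hF a
    have hmap : (MulSemiringAction.charpoly G a).map F₁ = (MulSemiringAction.charpoly G a).map F₂ := by
      ext n
      rw [Polynomial.coeff_map, Polynomial.coeff_map]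
      exact hF _ (fun g => MulSemiringAction.smul_coeff_charpoly a n g)
    have h0 : ((MulSemiringAction.charpoly G a).map F₂).eval (F₂ a) = 0 := by
      rw [Polynomial.eval_map, Polynomial.eval₂_at_apply, MulSemiringAction.eval_charpoly, map_zero]
    rw [← hmap, MulSemiringAction.charpoly_eq, Polynomial.map_prod, Polynomial.eval_prod,
      Finset.prod_eq_zero_iff] at h0
    obtain ⟨g, -, hg⟩ := h0
    refine ⟨g, ?_⟩
    simpa [sub_eq_zero] using hg
  -- Step 2: apply to polynomial rings
  have step2 : ∀ p : Polynomial A, ∃ g : G, ∀ n, f₂ (p.coeff n) = f₁ (g • p.coeff n) := by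
    intro p
    obtain ⟨g, hg⟩ := step1 (Polynomial A) (Polynomial K) (Polynomial.mapRingHom f₁)
      (Polynomial.mapRingHom f₂) (by
        intro q hq
        ext n
        simp only [Polynomial.coe_mapRingHom, Polynomial.coeff_map]
        apply h
        intro g
        rw [← Polynomial.coeff_smul, hq g]) p
    refine ⟨g, fun n => ?_⟩
    have := congrArg (fun q => Polynomial.coeff q n) hg
    simpa [Polynomial.coeff_smul] using this
  by_contra hcon
  push Not at hcon
  choose a ha using hcon
  let e := Fintype.equivFin G
  let p : Polynomial A := ∑ γ : G, Polynomial.monomial (e γ : ℕ) (a γ)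
  have hp : ∀ γ : G, p.coeff (e γ : ℕ) = a γ := by
    intro γ
    simp only [p, Polynomial.finsetSum_coeff, Polynomial.coeff_monomial]
    rw [Finset.sum_eq_single γ]
    · simp
    · intro b _ hb
      rw [if_neg]
      intro hbe
      exact hb (e.injective (Fin.ext hbe))
    · intro hγ; exact absurd (Finset.mem_univ γ) hγ
  obtain ⟨g, hg⟩ := step2 p
  have := hg (e g : ℕ)
  rw [hp g] at this
  exact ha g this

end Groth.Agent.S18899
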