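import Groth.Statements.S18908
import Mathlib

set_option autoImplicit false
universe u v w
open scoped TensorProduct
open CAlg

namespace Groth.Agent.S18908

/-- Let K ⊇ k be a finite field extension of degree n and Ω ⊇ k an algebraically closed extension. Then
K is separable over k if and only if Ω ⊗_k K is isomorphic, as an Ω-algebra, to the product of n
copies of Ω. (The source says 'for every (some) algebraically closed extension Ω'; the equivalence
is stated for each fixed Ω, which gives both readings.) -/
theorem result (k : Type u) (K : Type v) (Ω : Type w)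
    [Field k] [Field K] [Algebra k K] [FiniteDimensional k K]
    [Field Ω] [Algebra k Ω] [IsAlgClosed Ω] :
    Algebra.IsSeparable k K ↔ Nonempty ((Ω ⊗[k] K) ≃ₐ[Ω] (Fin (Module.finrank k K) → Ω)) := by
  classical
  have hcard : Field.finSepDegree k K = Nat.card (K →ₐ[k] Ω) :=
    Field.finSepDegree_eq_of_isAlgClosed k K Ω
  haveI : Finite (K →ₐ[k] Ω) := inferInstance
  constructor
  · intro hsep
    have hn : Nat.card (K →ₐ[k] Ω) = Module.finrank k K := by
      rw [← hcard]; exact Field.finSepDegree_eq_finrank_of_isSeparable k K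
    obtain ⟨e⟩ : Nonempty ((K →ₐ[k] Ω) ≃ Fin (Module.finrank k K)) :=
      ⟨Finite.equivFinOfCardEq hn⟩
    obtain ⟨σ, hσ⟩ : ∃ σ : Fin (Module.finrank k K) → (K →ₐ[k] Ω), Function.Injective σ :=
      ⟨e.symm, e.symm.injective⟩
    obtain ⟨Φ, hΦ⟩ : ∃ Φ : (Ω ⊗[k] K) →ₐ[Ω] (Fin (Module.finrank k K) → Ω),
        ∀ (ω : Ω) (x : K) i, Φ (ω ⊗ₜ[k] x) i = ω * σ i x :=
      ⟨Pi.algHom Ω (fun _ : Fin (Module.finrank k K) => Ω)
        (fun i => Algebra.TensorProduct.lift (Algebra.ofId Ω Ω) (σ i) (fun _ _ => Commute.all _ _)),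
        fun ω x i => by simp [Algebra.ofId_apply]⟩
    have hdim : Module.finrank Ω (Ω ⊗[k] K) =
        Module.finrank Ω (Fin (Module.finrank k K) → Ω) := by
      rw [Module.finrank_baseChange]; simp
    have hsurj : Function.Surjective Φ := by
      by_contra hns
      have hlt : LinearMap.range Φ.toLinearMap < ⊤ := by
        rw [lt_top_iff_ne_top]
        intro htop
        exact hns (LinearMap.range_eq_top.mp htop)
      obtain ⟨ψ, hψ0, hψ⟩ := Submodule.exists_le_ker_of_lt_top _ hlt
      apply hψ0
      obtain ⟨g, hg⟩ : ∃ g : Fin (Module.finrank k K) → (K →* Ω), ∀ i x, g i x = σ i x :=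
        ⟨fun i => (σ i).toRingHom.toMonoidHom, fun i x => rfl⟩
      have hginj : Function.Injective g := by
        intro i j hij
        apply hσ
        ext x
        rw [← hg, ← hg, hij]
      have hlin := (linearIndependent_monoidHom K Ω).comp g hginj
      obtain ⟨c, hcdef⟩ : ∃ c : Fin (Module.finrank k K) → Ω,
          ∀ i, c i = ψ (fun j => if i = j then (1:Ω) else 0) := ⟨_, fun i => rfl⟩
      have hψv : ∀ v, ψ v = ∑ i, v i • c i := by
        intro v
        rw [LinearMap.pi_apply_eq_sum_univ ψ v]
        refine Finset.sum_congr rfl (fun i _ => ?_)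
        rw [hcdef]
      have hc : ∀ i, c i = 0 := by
        refine Fintype.linearIndependent_iff.mp hlin c ?_
        funext x
        have h2 : ψ (Φ ((1:Ω) ⊗ₜ[k] x)) = 0 :=
          LinearMap.mem_ker.mp (hψ (LinearMap.mem_range_self Φ.toLinearMap _))
        rw [hψv] at h2
        simp only [Finset.sum_apply, Pi.smul_apply, Function.comp_apply, Pi.zero_apply,
          smul_eq_mul, hg]
        refine (Finset.sum_congr rfl (fun i _ => ?_)).trans h2
        rw [hΦ, one_mul, smul_eq_mul, mul_comm]
      refine LinearMap.ext (fun v => ?_)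
      rw [hψv, LinearMap.zero_apply]
      apply Finset.sum_eq_zero
      intro i _
      rw [hc i, smul_zero]
    have hinj : Function.Injective Φ :=
      (LinearMap.injective_iff_surjective_of_finrank_eq_finrank hdim
        (f := Φ.toLinearMap)).mpr hsurj
    exact ⟨AlgEquiv.ofBijective Φ ⟨hinj, hsurj⟩⟩
  · rintro ⟨Ψ⟩
    obtain ⟨τ, hτ⟩ : ∃ τ : Fin (Module.finrank k K) → (K →ₐ[k] Ω),
        ∀ i x, τ i x = Ψ ((1:Ω) ⊗ₜ[k] x) i :=
      ⟨fun i => ((Pi.evalAlgHom Ω (fun _ => Ω) i).restrictScalars k).comp
        ((Ψ.toAlgHom.restrictScalars k).comp Algebra.TensorProduct.includeRight),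
        fun i x => rfl⟩
    have hτinj : Function.Injective τ := by
      intro i j hij
      have hz : ∀ z : Ω ⊗[k] K, Ψ z i = Ψ z j := by
        intro z
        induction z using TensorProduct.induction_on with
        | zero => simp
        | tmul ω x =>
          have h1 : ω ⊗ₜ[k] x = ω • ((1:Ω) ⊗ₜ[k] x) := by
            rw [TensorProduct.smul_tmul', smul_eq_mul, mul_one]
          rw [h1, map_smul, Pi.smul_apply, Pi.smul_apply, ← hτ, ← hτ, hij]
        | add a b ha hb => rw [map_add, Pi.add_apply, Pi.add_apply, ha, hb]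
      have h2 := hz (Ψ.symm (Pi.single i 1))
      rw [AlgEquiv.apply_symm_apply, Pi.single_eq_same] at h2
      by_contra hne
      rw [Pi.single_eq_of_ne (fun h => hne h.symm)] at h2
      exact one_ne_zero h2
    have h3 : Module.finrank k K ≤ Nat.card (K →ₐ[k] Ω) := by
      have h5 := Nat.card_le_card_of_injective τ hτinj
      simpa using h5
    have h4 := Field.finSepDegree_le_finrank k K
    exact (Field.finSepDegree_eq_finrank_iff k K).mp (le_antisymm h4 (by rw [hcard]; exact h3))

end Groth.Agent.S18908
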