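import Groth.Statements.S18920
import Mathlib

set_option autoImplicit false
universe u
open CAlg

namespace Groth.Agent.S18920

/-- Let M be a commutative monoid, s ≥ 1, and ξ_1, …, ξ_s elements of M with ξ_i ^ (s!/i) = 1 for 1 ≤ i
≤ s (an (s!/i)-th root of unity for each i). Suppose that for every finitely supported function d on
{1, …, s} with Σ_i i · d_i = s! the product ∏_i ξ_i ^ d_i equals 1. Then ξ_1 ^ j = ξ_j for every 1 ≤
j ≤ s. (The source works with roots of unity in the complex numbers.) -/
theorem result
    {M : Type u} [CommMonoid M] (s : ℕ) (hs : 1 ≤ s) (ξ : ℕ → M)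
    (hξ : ∀ i : ℕ, 1 ≤ i → i ≤ s → ξ i ^ (s.factorial / i) = 1)
    (hprod : ∀ d : ℕ →₀ ℕ, (∀ i ∈ d.support, 1 ≤ i ∧ i ≤ s) →
      (d.sum fun i n => i * n) = s.factorial → (d.prod fun i n => ξ i ^ n) = 1)
    (j : ℕ) (hj : 1 ≤ j) (hjs : j ≤ s) :
    ξ 1 ^ j = ξ j := by
  have hdvd : j ∣ s.factorial := Nat.dvd_factorial hj hjs
  obtain ⟨q, hq⟩ := hdvd
  have hqpos : 0 < q := by
    rcases Nat.eq_zero_or_pos q with h | h
    · rw [h, mul_zero] at hq
      exact absurd hq (Nat.factorial_ne_zero s)
    · exact h
  have hdiv : s.factorial / j = q := by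
    rw [hq]; exact Nat.mul_div_cancel_left q hj
  have hξj : ξ j ^ q = 1 := by
    have := hξ j hj hjs
    rwa [hdiv] at this
  have key := hprod (Finsupp.single j (q - 1) + Finsupp.single 1 j)
    (by
      intro i hi
      have hi' := Finsupp.support_add hi
      rw [Finset.mem_union] at hi'
      rcases hi' with h | h
      · have := Finsupp.support_single_subset h
        rw [Finset.mem_singleton] at this
        subst this
        exact ⟨hj, hjs⟩
      · have := Finsupp.support_single_subset h
        rw [Finset.mem_singleton] at this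
        subst this
        exact ⟨le_refl 1, hs⟩)
    (by
      rw [Finsupp.sum_add_index' (by intro a; simp) (by intro a b c; ring),
        Finsupp.sum_single_index (by simp), Finsupp.sum_single_index (by simp), hq]
      have : j * (q - 1) + 1 * j = j * q := by
        have : q = (q - 1) + 1 := by omega
        conv_rhs => rw [this]
        ring
      exact this)
  rw [Finsupp.prod_add_index' (by intro a; simp) (by intro a b c; rw [pow_add]),
    Finsupp.prod_single_index (by simp), Finsupp.prod_single_index (by simp)] at key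
  calc ξ 1 ^ j = ξ 1 ^ j * ξ j ^ q := by rw [hξj, mul_one]
    _ = ξ 1 ^ j * (ξ j ^ (q - 1) * ξ j) := by
        rw [← pow_succ]
        congr 2
        omega
    _ = (ξ j ^ (q - 1) * ξ 1 ^ j) * ξ j := by
        rw [mul_comm (ξ j ^ (q - 1)) (ξ 1 ^ j), mul_assoc]
    _ = ξ j := by rw [key, one_mul]

end Groth.Agent.S18920
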