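import Groth.Statements.S18928
import Mathlib

set_option autoImplicit false
universe u
open DPow

namespace Groth.Agent.S18928

/-- Let B be a commutative ring, I an ideal of B with a divided power structure, p a prime, r a natural
number, b an element of B and δ an element of I. Then (b + δ)^(p^r) − b^(p^r) lies in the ideal p^r
I. (The source states this for a divided power thickening over the Witt vectors of length n and 0 ≤
r ≤ n; neither restriction is used.) -/
theorem result {B : Type u} [CommRing B] {I : Ideal B}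
    (hI : DividedPowers I) (p : ℕ) [Fact p.Prime] (r : ℕ) (b δ : B) (hδ : δ ∈ I) :
    (b + δ) ^ (p ^ r) - b ^ (p ^ r) ∈ Ideal.span {((p : B) ^ r)} * I := by
  set N := p ^ r with hN
  have hNpos : 0 < N := pow_pos (Nat.Prime.pos Fact.out) r
  rw [add_comm b δ, add_pow, Finset.sum_range_succ', pow_zero, one_mul, Nat.sub_zero, Nat.choose_zero_right,
    Nat.cast_one, mul_one, add_sub_cancel_right]
  apply Ideal.sum_mem
  intro m _
  -- term: δ^(m+1) * b^(N-(m+1)) * C(N, m+1)
  have h1 : δ ^ (m + 1) = ((m + 1).factorial : B) * hI.dpow (m + 1) δ :=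
    (hI.factorial_mul_dpow_eq_pow hδ).symm
  have h2 : (N.choose (m + 1) * (m + 1).factorial : ℕ) = N * (N - 1).descFactorial m := by
    rw [mul_comm, ← Nat.descFactorial_eq_factorial_mul_choose]
    obtain ⟨N', hN'⟩ : ∃ N', N = N' + 1 := ⟨N - 1, by omega⟩
    rw [hN', Nat.succ_descFactorial_succ]
    simp
  have h3 : δ ^ (m + 1) * b ^ (N - (m + 1)) * (N.choose (m + 1) : B) =
      (N : B) * ((((N - 1).descFactorial m : ℕ) : B) * b ^ (N - (m + 1)) * hI.dpow (m + 1) δ) := by
    have h2' := congrArg (Nat.cast : ℕ → B) h2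
    push_cast at h2'
    rw [h1]
    linear_combination (b ^ (N - (m + 1)) * hI.dpow (m + 1) δ) * h2'
  rw [h3]
  apply Ideal.mul_mem_mul
  · rw [hN]; push_cast; exact Ideal.subset_span rfl
  · apply Ideal.mul_mem_left
    exact hI.dpow_mem (Nat.succ_ne_zero m) hδ

end Groth.Agent.S18928
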