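import Groth.Statements.S18929
import Mathlib

set_option autoImplicit false
universe u
open DPow

namespace Groth.Agent.S18929

/-- Let p be a prime, n a natural number, B a commutative ring in which p^n = 0, and I an ideal of B
equipped with divided powers. There is a ring homomorphism θ from the truncated Witt vectors
W_n(B/I) to B such that, for every Witt vector x over B, θ applied to the truncation of the image of
x in W_n(B/I) equals Σ_{i<n} p^i x_i^(p^(n−i)); in particular this sum depends only on the residues
of x_0, …, x_{n−1} modulo I. (The source works with a divided power thickening of an algebra over a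
perfect field and also checks linearity over the Witt vectors of that field; only the ring
homomorphism is asserted here. θ is unique, the truncation-of-reduction map being surjective.) -/
theorem result (p : ℕ) [Fact p.Prime] (n : ℕ)
    {B : Type u} [CommRing B] (hp : (p : B) ^ n = 0) {I : Ideal B} (hI : DividedPowers I) :
    ∃ θ : TruncatedWittVector p n (B ⧸ I) →+* B, ∀ x : WittVector p B, θ (WittVector.truncate n (WittVector.map (Ideal.Quotient.mk I) x)) =
        ∑ i : Fin n, (p : B) ^ (i : ℕ) * (x.coeff i) ^ (p ^ (n - i)) := by
  obtain ⟨f, hf⟩ : ∃ f : WittVector p B →+* TruncatedWittVector p n (B ⧸ I),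
      f = (WittVector.truncate n).comp (WittVector.map (Ideal.Quotient.mk I)) := ⟨_, rfl⟩
  have hfs : Function.Surjective f := by
    rw [hf]
    exact (WittVector.truncate_surjective p n (B ⧸ I)).comp
      (WittVector.map_surjective _ Ideal.Quotient.mk_surjective)
  have hghost : ∀ x : WittVector p B, WittVector.ghostComponent n x =
      ∑ i ∈ Finset.range n, (p : B) ^ i * (x.coeff i) ^ (p ^ (n - i)) := by
    intro x
    have hterm : ∀ i, (MvPolynomial.aeval x.coeff)
        (MvPolynomial.C ((p : ℤ) ^ i) * MvPolynomial.X i ^ p ^ (n - i)) =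
        (p : B) ^ i * (x.coeff i) ^ (p ^ (n - i)) := by
      intro i
      simp
    rw [WittVector.ghostComponent_apply, wittPolynomial_eq_sum_C_mul_X_pow, map_sum,
      Finset.sum_congr rfl (fun i _ => hterm i), Finset.sum_range_succ, hp, zero_mul, add_zero]
  have hker : RingHom.ker f ≤ RingHom.ker (WittVector.ghostComponent (p := p) (R := B) n) := by
    intro x hx
    rw [RingHom.mem_ker] at hx ⊢
    rw [hghost]
    apply Finset.sum_eq_zero
    intro i hi
    have hin : i < n := Finset.mem_range.mp hi
    have hxi : x.coeff i ∈ I := by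
      have h1 := congrArg (fun z => TruncatedWittVector.coeff ⟨i, hin⟩ z) hx
      simp only [hf, RingHom.comp_apply, WittVector.coeff_truncate, WittVector.map_coeff,
        TruncatedWittVector.coeff_zero] at h1
      exact Ideal.Quotient.eq_zero_iff_mem.mp h1
    obtain ⟨m, hm⟩ : ∃ m, m = n - i := ⟨_, rfl⟩
    have hmn : i + m = n := by omega
    have hmpos : 0 < p ^ m := pow_pos (Fact.out : p.Prime).pos m
    obtain ⟨q, hq⟩ := Nat.dvd_factorial hmpos le_rfl
    rw [← hm, ← hI.factorial_mul_dpow_eq_pow hxi, hq]
    push_cast
    have h2 : (p : B) ^ i * ((p : B) ^ m * (q : B) * hI.dpow (p ^ m) (x.coeff i)) =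
        (p : B) ^ n * ((q : B) * hI.dpow (p ^ m) (x.coeff i)) := by
      rw [← hmn, pow_add]; ring
    rw [h2, hp, zero_mul]
  refine ⟨f.liftOfSurjective hfs ⟨WittVector.ghostComponent n, hker⟩, ?_⟩
  intro x
  have h3 : f x = WittVector.truncate n (WittVector.map (Ideal.Quotient.mk I) x) := by
    rw [hf]; rfl
  rw [← h3, RingHom.liftOfSurjective_comp_apply]
  show WittVector.ghostComponent n x = _
  rw [hghost, ← Fin.sum_univ_eq_sum_range (fun i => (p : B) ^ i * (x.coeff i) ^ (p ^ (n - i))) n]

end Groth.Agent.S18929
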