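import Groth.Statements.S18930
import Mathlib

set_option autoImplicit false
universe u
open DPow

namespace Groth.Agent.S18930

theorem h9_natCast_coeff_zero (p : ℕ) [Fact p.Prime] (R : Type*) [CommRing R] (m : ℕ) :
    ((m : WittVector p R)).coeff 0 = (m : R) := by
  induction m with
  | zero => simp
  | succ m ih =>
    rw [Nat.cast_succ, WittVector.add_coeff_zero, ih, WittVector.one_coeff_zero, Nat.cast_succ]

/-- Let p be a prime, n ≥ 1, B a commutative ring with p^n = 0 and A = B/pB. Let θ : W_n(A) → B be the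
ring homomorphism which sends the reduction of a Witt vector (x_0, …, x_{n−1}) over B to Σ_{i<n} p^i
x_i^(p^(n−i)), let J_n be its kernel and let I_n be the set of a in W_n(A) whose zeroth component
satisfies a_0^(p^n) = 0. Then J_n + (p) ⊆ I_n. (In the source B is the ring of global sections of a
scheme over the Witt vectors of length n of a perfect field.) -/
theorem result (p : ℕ) [Fact p.Prime] (n : ℕ) (hn : 0 < n)
    {B : Type u} [CommRing B] (hp : (p : B) ^ n = 0)
    (θ : TruncatedWittVector p n (B ⧸ (Ideal.span {(p : B)})) →+* B)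
    (hθ : ∀ x : WittVector p B, θ (WittVector.truncate n (WittVector.map (Ideal.Quotient.mk (Ideal.span {(p : B)})) x)) =
        ∑ i : Fin n, (p : B) ^ (i : ℕ) * (x.coeff i) ^ (p ^ (n - i)))
    (a : TruncatedWittVector p n (B ⧸ (Ideal.span {(p : B)})))
    (ha : a ∈ RingHom.ker θ ⊔ Ideal.span {(p : TruncatedWittVector p n (B ⧸ (Ideal.span {(p : B)})))}) :
    (TruncatedWittVector.coeff ⟨0, hn⟩ a) ^ (p ^ n) = 0 := by
  obtain ⟨j, hj, c, hc, rfl⟩ := Submodule.mem_sup.mp ha
  obtain ⟨c', rfl⟩ := Ideal.mem_span_singleton'.mp hc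
  obtain ⟨J, rfl⟩ := WittVector.truncate_surjective p n _ j
  obtain ⟨C, rfl⟩ := WittVector.truncate_surjective p n _ c'
  obtain ⟨X, rfl⟩ := WittVector.map_surjective (Ideal.Quotient.mk (Ideal.span {(p : B)}))
    Ideal.Quotient.mk_surjective J
  have hpcast : (p : TruncatedWittVector p n (B ⧸ (Ideal.span {(p : B)}))) =
      WittVector.truncate n (p : WittVector p (B ⧸ (Ideal.span {(p : B)}))) := by
    rw [map_natCast]
  rw [hpcast, ← map_mul, ← map_add, WittVector.coeff_truncate]
  rw [WittVector.add_coeff_zero, WittVector.mul_coeff_zero, h9_natCast_coeff_zero]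
  have hp0 : ((p : ℕ) : B ⧸ (Ideal.span {(p : B)})) = 0 := by
    have : ((p : ℕ) : B ⧸ (Ideal.span {(p : B)})) = Ideal.Quotient.mk _ (p : B) := by simp
    rw [this, Ideal.Quotient.eq_zero_iff_mem]
    exact Ideal.subset_span rfl
  rw [hp0, mul_zero, add_zero, WittVector.map_coeff, ← map_pow, Ideal.Quotient.eq_zero_iff_mem]
  have h0 := hθ X
  rw [RingHom.mem_ker.mp hj] at h0
  obtain ⟨m, rfl⟩ : ∃ m, n = m + 1 := ⟨n - 1, by omega⟩
  rw [Fin.sum_univ_succ] at h0
  simp only [Fin.val_zero, pow_zero, one_mul, Nat.sub_zero, Fin.val_succ] at h0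
  have : X.coeff 0 ^ p ^ (m + 1) = - ∑ i : Fin m, (p : B) ^ ((i : ℕ) + 1) * X.coeff ((i : ℕ) + 1) ^ p ^ (m + 1 - ((i : ℕ) + 1)) := by
    rw [eq_neg_iff_add_eq_zero]; exact h0.symm
  rw [this]
  refine neg_mem (Ideal.sum_mem _ ?_)
  intro i _
  rw [pow_succ', mul_assoc]
  exact Ideal.mul_mem_right _ _ (Ideal.subset_span rfl)

end Groth.Agent.S18930
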