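import Groth.Statements.S18931
import Mathlib

set_option autoImplicit false
universe u
open DPow

namespace Groth.Agent.S18931

/-- Let p be a prime, n ≥ 1, B a commutative ring with p^n = 0 and A = B/pB, and assume that the p-th
power map of A is surjective. Let θ : W_n(A) → B be the ring homomorphism which sends the reduction
of a Witt vector (x_0, …, x_{n−1}) over B to Σ_{i<n} p^i x_i^(p^(n−i)). Then every a in W_n(A) with
a_0^(p^n) = 0 lies in ker θ + (p); together with the reverse inclusion, ker θ + (p) is exactly the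
set of such a. (In the source B is the ring of global sections of a scheme over the Witt vectors of
length n of a perfect field. The printed argument subtracts a single correction term, which suffices
for n ≤ 2; in general one corrects the components one at a time.) -/
theorem result (p : ℕ) [Fact p.Prime]
    (n : ℕ) (hn : 0 < n) {B : Type u} [CommRing B] (hp : (p : B) ^ n = 0)
    (hF : Function.Surjective (fun y : B ⧸ (Ideal.span {(p : B)}) => y ^ p))
    (θ : TruncatedWittVector p n (B ⧸ (Ideal.span {(p : B)})) →+* B)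
    (hθ : ∀ x : WittVector p B, θ (WittVector.truncate n (WittVector.map (Ideal.Quotient.mk (Ideal.span {(p : B)})) x)) =
        ∑ i : Fin n, (p : B) ^ (i : ℕ) * (x.coeff i) ^ (p ^ (n - i)))
    (a : TruncatedWittVector p n (B ⧸ (Ideal.span {(p : B)}))) (ha : (TruncatedWittVector.coeff ⟨0, hn⟩ a) ^ (p ^ n) = 0) :
    a ∈ RingHom.ker θ ⊔ Ideal.span {(p : TruncatedWittVector p n (B ⧸ (Ideal.span {(p : B)})))} := by
  rcases subsingleton_or_nontrivial B with hB | hB
  · have ha0 : a = 0 := by
      apply TruncatedWittVector.ext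
      intro i
      obtain ⟨b1, hb1⟩ := Ideal.Quotient.mk_surjective (TruncatedWittVector.coeff i a)
      obtain ⟨b2, hb2⟩ := Ideal.Quotient.mk_surjective
        (TruncatedWittVector.coeff i (0 : TruncatedWittVector p n (B ⧸ (Ideal.span {(p : B)}))))
      rw [← hb1, ← hb2, Subsingleton.elim b1 b2]
    rw [ha0]
    exact Submodule.zero_mem _
  have hnonunit : (p : B) ∈ nonunits B := by
    intro hu
    have h1 : IsUnit ((p : B) ^ n) := hu.pow n
    rw [hp] at h1
    exact not_isUnit_zero h1
  haveI : CharP (B ⧸ (Ideal.span {(p : B)})) p := CharP.quotient B p hnonunit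
  have hsurj : ∀ (m : ℕ) (y : B ⧸ (Ideal.span {(p : B)})), ∃ τ, τ ^ (p ^ m) = y := by
    intro m
    induction m with
    | zero =>
      intro y
      exact ⟨y, by rw [pow_zero, pow_one]⟩
    | succ m ih =>
      intro y
      obtain ⟨τ1, h1⟩ := ih y
      obtain ⟨τ, h2⟩ := hF τ1
      have h2' : τ ^ p = τ1 := h2
      exact ⟨τ, by rw [pow_succ', pow_mul, h2', h1]⟩
  obtain ⟨x0, hx0⟩ := Ideal.Quotient.mk_surjective (TruncatedWittVector.coeff ⟨0, hn⟩ a)
  have hdvd0 : (p : B) ∣ x0 ^ (p ^ n) := by
    rw [← Ideal.mem_span_singleton, ← Ideal.Quotient.eq_zero_iff_mem, map_pow, hx0]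
    exact ha
  have key : ∀ j, 1 ≤ j → j ≤ n → ∃ x : ℕ → B, x 0 = x0 ∧
      ((p : B) ^ j) ∣ ∑ i ∈ Finset.range j, (p : B) ^ i * (x i) ^ (p ^ (n - i)) := by
    intro j hj1
    induction j, hj1 using Nat.le_induction with
    | base =>
      intro _
      refine ⟨fun _ => x0, rfl, ?_⟩
      rw [Finset.sum_range_one, pow_zero, one_mul, pow_one, Nat.sub_zero]
      exact hdvd0
    | succ j hj ih =>
      intro hjn
      obtain ⟨x, hx0', β, hβ⟩ := ih (by omega)
      obtain ⟨τ, hτ⟩ := hsurj (n - j) (Ideal.Quotient.mk (Ideal.span {(p : B)}) (-β))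
      obtain ⟨t, ht⟩ := Ideal.Quotient.mk_surjective τ
      have h1 : (p : B) ∣ t ^ (p ^ (n - j)) + β := by
        rw [← Ideal.mem_span_singleton, ← Ideal.Quotient.eq_zero_iff_mem, map_add, map_pow, ht, hτ,
          map_neg, neg_add_cancel]
      obtain ⟨γ, hγ⟩ := h1
      refine ⟨Function.update x j t, ?_, γ, ?_⟩
      · rw [Function.update_of_ne (by omega), hx0']
      · rw [Finset.sum_range_succ, Function.update_self]
        have hsame : ∑ i ∈ Finset.range j, (p : B) ^ i * (Function.update x j t i) ^ (p ^ (n - i)) =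
            ∑ i ∈ Finset.range j, (p : B) ^ i * (x i) ^ (p ^ (n - i)) := by
          apply Finset.sum_congr rfl
          intro i hi
          have hij : i ≠ j := by
            have := Finset.mem_range.mp hi
            omega
          rw [Function.update_of_ne hij]
        rw [hsame, hβ]
        have h3 : t ^ (p ^ (n - j)) = (p : B) * γ - β := by rw [← hγ]; ring
        rw [h3]
        ring
  obtain ⟨x, hx0', c, hc⟩ := key n hn le_rfl
  have hS : ∑ i ∈ Finset.range n, (p : B) ^ i * (x i) ^ (p ^ (n - i)) = 0 := by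
    rw [hc, hp, zero_mul]
  obtain ⟨X, hX⟩ : ∃ X : WittVector p B, X = WittVector.mk p x := ⟨_, rfl⟩
  have hXc : ∀ i, X.coeff i = x i := fun i => by rw [hX]; rfl
  obtain ⟨bt, hbt⟩ : ∃ bt : WittVector p (B ⧸ (Ideal.span {(p : B)})),
      bt = WittVector.map (Ideal.Quotient.mk (Ideal.span {(p : B)})) X := ⟨_, rfl⟩
  have hbker : WittVector.truncate n bt ∈ RingHom.ker θ := by
    rw [RingHom.mem_ker, hbt, hθ X, ← hS,
      ← Fin.sum_univ_eq_sum_range (fun i => (p : B) ^ i * (x i) ^ (p ^ (n - i))) n]
    apply Finset.sum_congr rfl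
    intro i _
    rw [hXc]
  obtain ⟨at', hat⟩ := WittVector.truncate_surjective p n (B ⧸ (Ideal.span {(p : B)})) a
  have h0 : ∀ j < 1, (at' - bt).coeff j = 0 := by
    intro j hj
    have hj0 : j = 0 := by omega
    have e : (at' - bt).coeff 0 = at'.coeff 0 - bt.coeff 0 :=
      map_sub (WittVector.constantCoeff (p := p) (R := B ⧸ (Ideal.span {(p : B)}))) at' bt
    have e1 : at'.coeff 0 = TruncatedWittVector.coeff ⟨0, hn⟩ a := by
      rw [← hat, WittVector.coeff_truncate]
    have e2 : bt.coeff 0 = Ideal.Quotient.mk (Ideal.span {(p : B)}) x0 := by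
      rw [hbt, WittVector.map_coeff, hXc, hx0']
    rw [hj0, e, e1, e2, hx0, sub_self]
  have h1 := WittVector.eq_iterate_verschiebung h0
  rw [Function.iterate_one] at h1
  have hFsurj : Function.Surjective (WittVector.frobenius :
      WittVector p (B ⧸ (Ideal.span {(p : B)})) → WittVector p (B ⧸ (Ideal.span {(p : B)}))) := by
    rw [WittVector.frobenius_eq_map_frobenius]
    apply WittVector.map_surjective
    intro y
    obtain ⟨z, hz⟩ := hF y
    exact ⟨z, hz⟩
  obtain ⟨z', hz'⟩ := hFsurj ((at' - bt).shift 1)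
  rw [← hz', WittVector.verschiebung_frobenius] at h1
  have hsplit : a = WittVector.truncate n bt + WittVector.truncate n z' *
      (p : TruncatedWittVector p n (B ⧸ (Ideal.span {(p : B)}))) := by
    rw [← hat]
    have h2 : at' = bt + z' * (p : WittVector p (B ⧸ (Ideal.span {(p : B)}))) := by
      rw [← h1]; ring
    rw [h2, map_add, map_mul, map_natCast]
  rw [hsplit]
  apply Submodule.add_mem_sup hbker
  exact Ideal.mul_mem_left _ _ (Ideal.subset_span (Set.mem_singleton _))

end Groth.Agent.S18931
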