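import Groth.Statements.S18932
import Mathlib
import Groth.Agent.Lib.helper9.WittPS

set_option autoImplicit false
universe u
open DPow

namespace Groth.Agent.S18932

/-- Let p be a prime, k a perfect field of characteristic p, n a natural number and A a commutative
W_n(k)-algebra, W_n(k) the truncated Witt vectors, which is flat over W_n(k) and whose reduction
A/pA has surjective p-th power map. Let θ : W_n(A/pA) → A be the ring homomorphism which sends the
reduction of a Witt vector (x_0, …, x_{n−1}) over A to Σ_{i<n} p^i x_i^(p^(n−i)). Then θ is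
surjective, so A is the quotient of W_n(A/pA) by the kernel of θ. (This is the step of the source's
proposition establishing that Spec of the divided power envelope of that kernel is a thickening of
Spec A; the assertion that it is a final object of the crystalline site is not stated here.) -/
theorem result (p : ℕ) [Fact p.Prime]
    (k : Type u) [Field k] [CharP k p] [PerfectRing k p] (n : ℕ)
    (A : Type u) [CommRing A] [Algebra (TruncatedWittVector p n k) A] [Module.Flat (TruncatedWittVector p n k) A]
    (hF : Function.Surjective (fun y : A ⧸ (Ideal.span {(p : A)}) => y ^ p))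
    (θ : TruncatedWittVector p n (A ⧸ (Ideal.span {(p : A)})) →+* A)
    (hθ : ∀ x : WittVector p A, θ (WittVector.truncate n (WittVector.map (Ideal.Quotient.mk (Ideal.span {(p : A)})) x)) =
        ∑ i : Fin n, (p : A) ^ (i : ℕ) * (x.coeff i) ^ (p ^ (n - i))) :
    Function.Surjective θ := by
  have hpW : ((p : TruncatedWittVector p n k)) ^ n = 0 := by
    have h1 : WittVector.truncate n ((1 : WittVector p k) * (p : WittVector p k) ^ n) = 0 := by
      rw [← WittVector.iterate_verschiebung_iterate_frobenius, ← map_zero (WittVector.truncate n)]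
      apply H9PS.truncate_eq_of_coeff
      intro j hj
      rw [WittVector.iterate_verschiebung_coeff_eq_zero _ hj, WittVector.zero_coeff]
    rw [one_mul, map_pow, map_natCast] at h1
    exact h1
  have hp : (p : A) ^ n = 0 := by
    have h2 := congrArg (algebraMap (TruncatedWittVector p n k) A) hpW
    rw [map_pow, map_natCast, map_zero] at h2
    exact h2
  have hsurj : ∀ (m : ℕ) (y : A ⧸ (Ideal.span {(p : A)})), ∃ τ, τ ^ (p ^ m) = y := by
    intro m
    induction m with
    | zero =>
      intro y
      exact ⟨y, by rw [pow_zero, pow_one]⟩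
    | succ m ih =>
      intro y
      obtain ⟨τ1, h1⟩ := ih y
      obtain ⟨τ, h2⟩ := hF τ1
      have h2' : τ ^ p = τ1 := h2
      exact ⟨τ, by rw [pow_succ', pow_mul, h2', h1]⟩
  intro α
  have key : ∀ j, j ≤ n → ∃ (x : ℕ → A) (r : A),
      α = ∑ i ∈ Finset.range j, (p : A) ^ i * (x i) ^ (p ^ (n - i)) + (p : A) ^ j * r := by
    intro j
    induction j with
    | zero =>
      intro _
      exact ⟨fun _ => 0, α, by rw [Finset.sum_range_zero, pow_zero, one_mul, zero_add]⟩
    | succ j ih =>
      intro hjn
      obtain ⟨x, r, hr⟩ := ih (by omega)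
      obtain ⟨τ, hτ⟩ := hsurj (n - j) (Ideal.Quotient.mk (Ideal.span {(p : A)}) r)
      obtain ⟨t, ht⟩ := Ideal.Quotient.mk_surjective τ
      have h1 : (p : A) ∣ r - t ^ (p ^ (n - j)) := by
        rw [← Ideal.mem_span_singleton, ← Ideal.Quotient.eq_zero_iff_mem, map_sub, map_pow, ht, hτ,
          sub_self]
      obtain ⟨γ, hγ⟩ := h1
      refine ⟨Function.update x j t, γ, ?_⟩
      rw [Finset.sum_range_succ, Function.update_self]
      have hsame : ∑ i ∈ Finset.range j, (p : A) ^ i * (Function.update x j t i) ^ (p ^ (n - i)) =
          ∑ i ∈ Finset.range j, (p : A) ^ i * (x i) ^ (p ^ (n - i)) := by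
        apply Finset.sum_congr rfl
        intro i hi
        have hij : i ≠ j := by
          have := Finset.mem_range.mp hi
          omega
        rw [Function.update_of_ne hij]
      rw [hsame, hr]
      have h3 : r = t ^ (p ^ (n - j)) + (p : A) * γ := by rw [← hγ]; ring
      rw [h3]
      ring
  obtain ⟨x, r, hr⟩ := key n le_rfl
  refine ⟨WittVector.truncate n (WittVector.map (Ideal.Quotient.mk (Ideal.span {(p : A)}))
    (WittVector.mk p x)), ?_⟩
  rw [hθ, hr, hp, zero_mul, add_zero,
    ← Fin.sum_univ_eq_sum_range (fun i => (p : A) ^ i * (x i) ^ (p ^ (n - i))) n]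
  rfl

end Groth.Agent.S18932
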