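import Groth.Statements.S18936
import Mathlib

set_option autoImplicit false
universe u
open CAlg

namespace Groth.Agent.S18936

/-- Let A be a Noetherian commutative ring, q a prime ideal of A and f an element of A whose image in
the localization A_q is a non-zero-divisor. Then there is an element b of A not in q such that the
image of f in A[1/b] is a non-zero-divisor. -/
theorem result {A : Type u} [CommRing A] [IsNoetherianRing A]
    (q : Ideal A) [q.IsPrime] (f : A)
    (hf : algebraMap A (Localization.AtPrime q) f ∈ nonZeroDivisors (Localization.AtPrime q)) :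
    ∃ b : A, b ∉ q ∧ algebraMap A (Localization.Away b) f ∈ nonZeroDivisors (Localization.Away b) := by
  classical
  let K : Ideal A := LinearMap.ker (LinearMap.mul A A f)
  have hK : ∀ a, a ∈ K ↔ f * a = 0 := fun a => by
    simp [K, LinearMap.mem_ker]
  obtain ⟨s, hs⟩ : K.FG := IsNoetherian.noetherian K
  have hex : ∀ k ∈ s, ∃ t : A, t ∉ q ∧ t * k = 0 := by
    intro k hk
    have hkK : k ∈ K := by rw [← hs]; exact Ideal.subset_span hk
    have h0 : algebraMap A (Localization.AtPrime q) k = 0 := by
      apply (mem_nonZeroDivisors_iff_right.mp hf)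
      rw [← map_mul, mul_comm, (hK k).mp hkK, map_zero]
    obtain ⟨m, hm⟩ := (IsLocalization.map_eq_zero_iff q.primeCompl (Localization.AtPrime q) k).mp h0
    exact ⟨m, m.2, hm⟩
  choose! t ht using hex
  let b := ∏ k ∈ s, t k
  have hbq : b ∉ q := by
    intro hb
    obtain ⟨k, hk, hkq⟩ := (Ideal.IsPrime.prod_mem_iff (p := q)).mp hb
    exact (ht k hk).1 hkq
  have hbK : ∀ a ∈ K, b * a = 0 := by
    intro a ha
    rw [← hs] at ha
    refine Submodule.span_induction ?_ ?_ ?_ ?_ ha
    · intro k hk
      have : t k ∣ b := Finset.dvd_prod_of_mem t hk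
      obtain ⟨c, hc⟩ := this
      rw [hc, mul_comm (t k) c, mul_assoc, (ht k hk).2, mul_zero]
    · simp
    · intro x y _ _ hx hy
      rw [mul_add, hx, hy, add_zero]
    · intro c x _ hx
      rw [smul_eq_mul, mul_left_comm, hx, mul_zero]
  refine ⟨b, hbq, ?_⟩
  rw [mem_nonZeroDivisors_iff_right]
  intro z hz
  obtain ⟨a, ⟨_, n, rfl⟩, rfl⟩ := IsLocalization.exists_mk'_eq (Submonoid.powers b) z
  rw [← IsLocalization.mk'_one (M := Submonoid.powers b) (Localization.Away b) f, ← IsLocalization.mk'_mul,
    IsLocalization.mk'_eq_zero_iff] at hz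
  obtain ⟨⟨_, j, rfl⟩, hj⟩ := hz
  rw [IsLocalization.mk'_eq_zero_iff]
  have hmem : b ^ j * a ∈ K := by
    rw [hK]
    simp only at hj
    linear_combination hj
  have := hbK _ hmem
  refine ⟨⟨b ^ (j + 1), j + 1, rfl⟩, ?_⟩
  simp only
  rw [pow_succ']
  linear_combination this

end Groth.Agent.S18936
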