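import Groth.Statements.S18942
import Mathlib
import Groth.Agent.Lib.helper9.WittPS
import Groth.Agent.Lib.helper9.WittSpan

set_option autoImplicit false
universe u
open DPow

namespace Groth.Agent.S18942

/-- Let p be a prime, k a perfect field of characteristic p, n a natural number and x an element of
W_n(k), written here as the truncation of a Witt vector x over k. For any Witt vectors y_0, …,
y_{n−1} over k lifting the components of x under the map y ↦ (y_0)^(p^n) (that is, (y_i)_0^(p^n) =
x_i), one has x = Σ_{i<n} p^i y_i^(p^(n−i)) in W_n(k). -/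
theorem result (p : ℕ) [Fact p.Prime]
    (k : Type u) [Field k] [CharP k p] [PerfectRing k p] (n : ℕ) (x : WittVector p k)
    (y : Fin n → WittVector p k) (hy : ∀ i : Fin n, ((y i).coeff 0) ^ (p ^ n) = x.coeff i) :
    WittVector.truncate n x =
      WittVector.truncate n (∑ i : Fin n, (p : WittVector p k) ^ (i : ℕ) * (y i) ^ (p ^ (n - i))) := by
  have hterm : ∀ i : Fin n, ∃ w : WittVector p k,
      (p : WittVector p k) ^ (i : ℕ) * (y i) ^ (p ^ (n - i)) =
        (⇑(WittVector.verschiebung : WittVector p k →+ WittVector p k))^[(i : ℕ)]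
          (WittVector.teichmuller p (x.coeff i)) + w * (p : WittVector p k) ^ n := by
    intro i
    obtain ⟨Y, hY⟩ : ∃ Y, Y = y i := ⟨_, rfl⟩
    obtain ⟨c, hc⟩ : ∃ c, c = Y.coeff 0 := ⟨_, rfl⟩
    have hyi : c ^ (p ^ n) = x.coeff i := by rw [hc, hY]; exact hy i
    rw [← hY, ← hyi]
    obtain ⟨i, hin⟩ := i
    dsimp only
    obtain ⟨m, hm⟩ : ∃ m, m = n - i := ⟨_, rfl⟩
    have hmn : m + i = n := by omega
    rw [← hm]
    have hpd : (p : WittVector p k) ∣ Y - WittVector.teichmuller p c := by
      have h0 : ∀ j < 1, (Y - WittVector.teichmuller p c).coeff j = 0 := by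
        intro j hj
        have hj0 : j = 0 := by omega
        have e : (Y - WittVector.teichmuller p c).coeff 0 =
            Y.coeff 0 - (WittVector.teichmuller p c).coeff 0 :=
          map_sub (WittVector.constantCoeff (p := p) (R := k)) Y (WittVector.teichmuller p c)
        rw [hj0, e, WittVector.teichmuller_coeff_zero, hc, sub_self]
      have h1 := WittVector.eq_iterate_verschiebung h0
      rw [Function.iterate_one] at h1
      obtain ⟨z', hz'⟩ := (WittVector.frobenius_bijective p k).2
        ((Y - WittVector.teichmuller p c).shift 1)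
      rw [← hz', WittVector.verschiebung_frobenius] at h1
      exact Dvd.intro_left z' h1.symm
    obtain ⟨u, hu⟩ := dvd_sub_pow_of_dvd_sub hpd m
    have hT : (WittVector.teichmuller p c) ^ (p ^ m) = WittVector.teichmuller p (c ^ (p ^ m)) :=
      (map_pow (WittVector.teichmuller p) c (p ^ m)).symm
    have hd : (p : WittVector p k) ^ i * WittVector.teichmuller p (c ^ (p ^ m)) =
        (⇑(WittVector.verschiebung : WittVector p k →+ WittVector p k))^[i]
          (WittVector.teichmuller p (c ^ (p ^ n))) := by
      rw [mul_comm, ← WittVector.iterate_verschiebung_iterate_frobenius,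
        H9Witt.iterate_frobenius_teich, ← pow_mul, ← pow_add, hmn]
    refine ⟨u * (p : WittVector p k), ?_⟩
    have hYpow : Y ^ (p ^ m) = WittVector.teichmuller p (c ^ (p ^ m)) +
        (p : WittVector p k) ^ (m + 1) * u := by
      rw [← hT, ← hu]; ring
    have hpn : (p : WittVector p k) ^ n = (p : WittVector p k) ^ m * (p : WittVector p k) ^ i := by
      rw [← pow_add, hmn]
    rw [hYpow, mul_add, hd, hpn]
    congr 1
    ring
  choose w hw using hterm
  rw [Finset.sum_congr rfl (fun i _ => hw i), Finset.sum_add_distrib, ← Finset.sum_mul, map_add]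
  have hz : WittVector.truncate n ((∑ i, w i) * (p : WittVector p k) ^ n) = 0 := by
    rw [← WittVector.iterate_verschiebung_iterate_frobenius, ← map_zero (WittVector.truncate n)]
    apply H9PS.truncate_eq_of_coeff
    intro j hj
    rw [WittVector.iterate_verschiebung_coeff_eq_zero _ hj, WittVector.zero_coeff]
  rw [hz, add_zero, Fin.sum_univ_eq_sum_range (fun j =>
    (⇑(WittVector.verschiebung : WittVector p k →+ WittVector p k))^[j]
      (WittVector.teichmuller p (x.coeff j))) n]
  exact H9PS.truncate_eq_sum n x

end Groth.Agent.S18942
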