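import Groth.Statements.S18946
import Mathlib

set_option autoImplicit false
universe u
open scoped BigOperators
open InvQ

namespace Groth.Agent.S18946

/-- Let k be an algebraically closed field of characteristic zero and n a natural number, and let the
torus of (n+1)-tuples of units of k with product 1 act on the polynomial ring k[t_0, ..., t_n] by
rescaling each variable t_i by the i-th unit. A polynomial is fixed by every such rescaling if and
only if it lies in the k-subalgebra generated by the product t_0 t_1 ... t_n. (This is the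
computation of the ring of functions on affine (n+1)-space invariant under the maximal diagonal
torus of the special linear group, identified with the polynomial ring in the single coordinate t =
t_0 ... t_n of the line it maps to by the product map; invariance is tested on k-valued points of
the torus, which over an infinite field is the same as invariance under the group scheme.) -/
theorem result
    (k : Type u) [Field k] [IsAlgClosed k] [CharZero k] (n : ℕ)
    (f : MvPolynomial (Fin (n + 1)) k) :
    (∀ σ : Fin (n + 1) → kˣ, ∏ i, (σ i : k) = 1 →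
        MvPolynomial.aeval (fun i => MvPolynomial.C (σ i : k) * MvPolynomial.X i) f = f) ↔
      f ∈ Algebra.adjoin k ({∏ i : Fin (n + 1), MvPolynomial.X i} : Set (MvPolynomial (Fin (n + 1)) k)) := by
  classical
  constructor
  · intro hinv
    have hmono : ∀ (σ : Fin (n + 1) → kˣ) (m : Fin (n + 1) →₀ ℕ) (c : k),
        MvPolynomial.aeval (fun i => MvPolynomial.C (σ i : k) * MvPolynomial.X i)
          (MvPolynomial.monomial m c)
          = MvPolynomial.monomial m (c * ∏ i, (σ i : k) ^ (m i)) := by
      intro σ m c
      rw [MvPolynomial.aeval_monomial, MvPolynomial.monomial_eq, MvPolynomial.algebraMap_eq,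
        Finsupp.prod_fintype _ _ (fun i => pow_zero _),
        Finsupp.prod_fintype _ _ (fun i => pow_zero _)]
      have h1 : ∏ i, (MvPolynomial.C (σ i : k) * MvPolynomial.X i : MvPolynomial (Fin (n + 1)) k) ^ (m i)
          = MvPolynomial.C (∏ i, (σ i : k) ^ (m i)) * ∏ i, MvPolynomial.X i ^ (m i) := by
        rw [map_prod, ← Finset.prod_mul_distrib]
        refine Finset.prod_congr rfl (fun i _ => ?_)
        rw [mul_pow, map_pow]
      rw [h1, map_mul, mul_assoc]
    have hcoeff : ∀ (σ : Fin (n + 1) → kˣ) (g : MvPolynomial (Fin (n + 1)) k)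
        (m : Fin (n + 1) →₀ ℕ),
        MvPolynomial.coeff m
          (MvPolynomial.aeval (fun i => MvPolynomial.C (σ i : k) * MvPolynomial.X i) g)
          = (∏ i, (σ i : k) ^ (m i)) * MvPolynomial.coeff m g := by
      intro σ g m
      induction g using MvPolynomial.induction_on' with
      | monomial m' c =>
        rw [hmono, MvPolynomial.coeff_monomial, MvPolynomial.coeff_monomial]
        by_cases h : m' = m
        · rw [if_pos h, if_pos h, h, mul_comm]
        · rw [if_neg h, if_neg h, mul_zero]
      | add p q hp hq =>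
        rw [map_add, MvPolynomial.coeff_add, MvPolynomial.coeff_add, hp, hq, mul_add]
    have hconst : ∀ m ∈ f.support, ∀ i j, m i = m j := by
      intro m hm i j
      by_contra hne
      have hij : i ≠ j := fun h => hne (by rw [h])
      have hc : MvPolynomial.coeff m f ≠ 0 := MvPolynomial.mem_support_iff.mp hm
      have h2 : (2 : k) ≠ 0 := two_ne_zero
      obtain ⟨u, hu⟩ : ∃ u : kˣ, (u : k) = 2 := ⟨Units.mk0 2 h2, rfl⟩
      obtain ⟨σ, hσ⟩ : ∃ σ : Fin (n + 1) → kˣ,
          σ = fun l => if l = i then u else if l = j then u⁻¹ else 1 := ⟨_, rfl⟩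
      have hσi : σ i = u := by rw [hσ]; simp
      have hσj : σ j = u⁻¹ := by rw [hσ]; simp [hij.symm]
      have hσo : ∀ l, l ≠ i ∧ l ≠ j → σ l = 1 := by
        rintro l ⟨h1, h2⟩; rw [hσ]; simp [h1, h2]
      have hprod : ∏ l, (σ l : k) = 1 := by
        rw [Fintype.prod_eq_mul i j hij (fun l hl => by rw [hσo l hl]; rfl), hσi, hσj]
        exact Units.mul_inv u
      have hw : ∏ l, (σ l : k) ^ (m l) = (u : k) ^ (m i) * ((u⁻¹ : kˣ) : k) ^ (m j) := by
        rw [Fintype.prod_eq_mul i j hij (fun l hl => by rw [hσo l hl]; simp), hσi, hσj]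
      have h3 := hcoeff σ f m
      rw [hinv σ hprod, hw] at h3
      have h4 : (u : k) ^ (m i) * ((u⁻¹ : kˣ) : k) ^ (m j) = 1 := by
        have h5 : ((u : k) ^ (m i) * ((u⁻¹ : kˣ) : k) ^ (m j) - 1) * MvPolynomial.coeff m f = 0 := by
          rw [sub_mul, one_mul, ← h3, sub_self]
        rcases mul_eq_zero.mp h5 with h6 | h6
        · exact sub_eq_zero.mp h6
        · exact absurd h6 hc
      have h7 : (u : k) ^ (m i) = (u : k) ^ (m j) := by
        have h8 : ((u⁻¹ : kˣ) : k) ^ (m j) * (u : k) ^ (m j) = 1 := by
          rw [← mul_pow, Units.inv_mul, one_pow]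
        calc (u : k) ^ (m i)
            = (u : k) ^ (m i) * (((u⁻¹ : kˣ) : k) ^ (m j) * (u : k) ^ (m j)) := by
              rw [h8, mul_one]
          _ = ((u : k) ^ (m i) * ((u⁻¹ : kˣ) : k) ^ (m j)) * (u : k) ^ (m j) := by ring
          _ = (u : k) ^ (m j) := by rw [h4, one_mul]
      rw [hu] at h7
      have h9 : ((2 ^ (m i) : ℕ) : k) = ((2 ^ (m j) : ℕ) : k) := by push_cast; exact h7
      have h10 : 2 ^ (m i) = 2 ^ (m j) := Nat.cast_injective h9
      exact hne (Nat.pow_right_injective (le_refl 2) h10)
    rw [← MvPolynomial.support_sum_monomial_coeff f]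
    refine Subalgebra.sum_mem _ (fun m hm => ?_)
    have hm' := hconst m hm
    rw [MvPolynomial.monomial_eq, Finsupp.prod_fintype _ _ (fun i => pow_zero _)]
    have h1 : ∏ i, (MvPolynomial.X i : MvPolynomial (Fin (n + 1)) k) ^ (m i)
        = (∏ i, MvPolynomial.X i) ^ (m 0) := by
      rw [← Finset.prod_pow]
      refine Finset.prod_congr rfl (fun i _ => ?_)
      rw [hm' i 0]
    rw [h1, ← MvPolynomial.algebraMap_eq]
    exact Subalgebra.mul_mem _ (Subalgebra.algebraMap_mem _ _)
      (Subalgebra.pow_mem _ (Algebra.subset_adjoin (Set.mem_singleton _)) _)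
  · intro hf σ hσ
    have hle : Algebra.adjoin k
        ({∏ i : Fin (n + 1), MvPolynomial.X i} : Set (MvPolynomial (Fin (n + 1)) k))
        ≤ AlgHom.equalizer
          (MvPolynomial.aeval (fun i => MvPolynomial.C (σ i : k) * MvPolynomial.X i))
          (AlgHom.id k (MvPolynomial (Fin (n + 1)) k)) := by
      rw [Algebra.adjoin_le_iff]
      intro x hx
      rw [Set.mem_singleton_iff] at hx
      rw [hx]
      show MvPolynomial.aeval (fun i => MvPolynomial.C (σ i : k) * MvPolynomial.X i)
          (∏ i : Fin (n + 1), MvPolynomial.X i)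
        = AlgHom.id k (MvPolynomial (Fin (n + 1)) k) (∏ i : Fin (n + 1), MvPolynomial.X i)
      rw [map_prod, AlgHom.id_apply]
      simp only [MvPolynomial.aeval_X]
      rw [Finset.prod_mul_distrib, ← map_prod, hσ, map_one, one_mul]
    exact hle hf

end Groth.Agent.S18946
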