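import Groth.Statements.S18948
import Mathlib

set_option autoImplicit false
universe u v
open CExt

namespace Groth.Agent.S18948

/-- Let f : E → G be a surjective homomorphism of groups whose kernel is central in E, and let x ∈ E.
Then f maps the conjugacy class of x bijectively onto the conjugacy class of f(x) if and only if
every element of G commuting with f(x) is the image of some element of E commuting with x. (In the
source E → G is the central extension, with kernel the roots of unity, attached to a Brauer class of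
the classifying stack of a finite tame étale group scheme, and a conjugacy class of E mapping
bijectively onto a given class of G is a marking; the equivalence is stated here for an arbitrary
central extension of abstract groups.) -/
theorem result {E : Type u} {G : Type v} [Group E] [Group G]
    (f : E →* G) (hf : Function.Surjective f) (hker : f.ker ≤ Subgroup.center E) (x : E) :
    Set.BijOn f (MulAction.orbit (ConjAct E) x) (MulAction.orbit (ConjAct G) (f x)) ↔
      ∀ g : G, g * f x = f x * g → ∃ e : E, f e = g ∧ e * x = x * e := by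
  have horbE : ∀ y : E, y ∈ MulAction.orbit (ConjAct E) x ↔ ∃ c : E, c * x * c⁻¹ = y := by
    intro y
    rw [MulAction.mem_orbit_iff]
    constructor
    · rintro ⟨c, rfl⟩
      exact ⟨ConjAct.ofConjAct c, by rw [ConjAct.smul_def]⟩
    · rintro ⟨c, rfl⟩
      exact ⟨ConjAct.toConjAct c, by rw [ConjAct.smul_def]; simp⟩
  have horbG : ∀ y : G, y ∈ MulAction.orbit (ConjAct G) (f x) ↔ ∃ c : G, c * f x * c⁻¹ = y := by
    intro y
    rw [MulAction.mem_orbit_iff]
    constructor
    · rintro ⟨c, rfl⟩
      exact ⟨ConjAct.ofConjAct c, by rw [ConjAct.smul_def]⟩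
    · rintro ⟨c, rfl⟩
      exact ⟨ConjAct.toConjAct c, by rw [ConjAct.smul_def]; simp⟩
  have hcomm : ∀ k ∈ f.ker, ∀ e : E, e * k = k * e := by
    intro k hk e
    exact (Subgroup.mem_center_iff.mp (hker hk) e)
  constructor
  · rintro ⟨-, hinj, -⟩ g hg
    obtain ⟨e₀, rfl⟩ := hf g
    refine ⟨e₀, rfl, ?_⟩
    have h1 : e₀ * x * e₀⁻¹ ∈ MulAction.orbit (ConjAct E) x := (horbE _).mpr ⟨e₀, rfl⟩
    have h2 : x ∈ MulAction.orbit (ConjAct E) x := (horbE _).mpr ⟨1, by simp⟩
    have h3 : f (e₀ * x * e₀⁻¹) = f x := by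
      rw [map_mul, map_mul, map_inv, hg]
      group
    have := hinj h1 h2 h3
    calc e₀ * x = (e₀ * x * e₀⁻¹) * e₀ := by group
      _ = x * e₀ := by rw [this]
  · intro h
    refine ⟨?_, ?_, ?_⟩
    · intro y hy
      obtain ⟨c, rfl⟩ := (horbE y).mp hy
      exact (horbG _).mpr ⟨f c, by simp⟩
    · intro y hy z hz hyz
      obtain ⟨c, rfl⟩ := (horbE y).mp hy
      obtain ⟨d, rfl⟩ := (horbE z).mp hz
      have hg : (f d)⁻¹ * f c * f x = f x * ((f d)⁻¹ * f c) := by
        simp only [map_mul, map_inv] at hyz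
        calc (f d)⁻¹ * f c * f x = (f d)⁻¹ * (f c * f x * (f c)⁻¹) * f c := by group
          _ = (f d)⁻¹ * (f d * f x * (f d)⁻¹) * f c := by rw [hyz]
          _ = f x * ((f d)⁻¹ * f c) := by group
      obtain ⟨e, he, hex⟩ := h _ hg
      -- k = e⁻¹ * d⁻¹ * c ∈ ker
      have hk : e⁻¹ * (d⁻¹ * c) ∈ f.ker := by
        rw [MonoidHom.mem_ker, map_mul, map_inv, he, map_mul, map_inv]
        group
      have hkx := hcomm _ hk x
      have hc : c = d * e * (e⁻¹ * (d⁻¹ * c)) := by group
      set k := e⁻¹ * (d⁻¹ * c) with hkdef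
      rw [hc]
      calc d * e * k * x * (d * e * k)⁻¹ = d * e * (k * x) * k⁻¹ * e⁻¹ * d⁻¹ := by group
        _ = d * e * (x * k) * k⁻¹ * e⁻¹ * d⁻¹ := by rw [hkx]
        _ = d * (e * x) * e⁻¹ * d⁻¹ := by group
        _ = d * (x * e) * e⁻¹ * d⁻¹ := by rw [hex]
        _ = d * x * d⁻¹ := by group
    · intro y hy
      obtain ⟨c, rfl⟩ := (horbG y).mp hy
      obtain ⟨c', rfl⟩ := hf c
      exact ⟨c' * x * c'⁻¹, (horbE _).mpr ⟨c', rfl⟩, by simp⟩

end Groth.Agent.S18948
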