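import Groth.Statements.S18949
import Mathlib

set_option autoImplicit false
universe u v
open CExt

namespace Groth.Agent.S18949

/-- Automorphisms over the base: let f : E → G be a surjective homomorphism of groups with central
kernel A. For every homomorphism χ : G → A the map e ↦ χ(f(e)) · e is an endomorphism of E over G
which is the identity on A; and every endomorphism α of E with f ∘ α = f and α equal to the identity
on A is of this form for exactly one χ. (In the source this identifies the automorphisms of a
central extension fixing its kernel with Hom(G, A), for extensions of profinite étale group schemes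
over a field; stated here for abstract groups.) -/
theorem result {E : Type u} {G : Type v} [Group E] [Group G]
    (f : E →* G) (hf : Function.Surjective f) (hker : f.ker ≤ Subgroup.center E) :
    (∀ χ : G →* f.ker, ∃ α : E →* E, f.comp α = f ∧ (∀ a ∈ f.ker, α a = a) ∧
        ∀ e : E, α e = (χ (f e) : E) * e) ∧
      ∀ α : E →* E, f.comp α = f → (∀ a ∈ f.ker, α a = a) →
        ∃! χ : G →* f.ker, ∀ e : E, α e = (χ (f e) : E) * e := by
  have hcomm : ∀ k ∈ f.ker, ∀ e : E, e * k = k * e := by
    intro k hk e
    exact (Subgroup.mem_center_iff.mp (hker hk) e)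
  constructor
  · intro χ
    let α : E →* E :=
      { toFun := fun e => (χ (f e) : E) * e
        map_one' := by simp
        map_mul' := by
          intro a b
          simp only [map_mul, Subgroup.coe_mul]
          have := hcomm _ (χ (f b)).2 a
          calc (χ (f a) : E) * (χ (f b) : E) * (a * b) = (χ (f a) : E) * ((χ (f b) : E) * a) * b := by group
            _ = (χ (f a) : E) * (a * (χ (f b) : E)) * b := by rw [this]
            _ = (χ (f a) : E) * a * ((χ (f b) : E) * b) := by group }
    refine ⟨α, ?_, ?_, fun e => rfl⟩
    · ext e
      simp only [MonoidHom.comp_apply]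
      change f ((χ (f e) : E) * e) = f e
      rw [map_mul, MonoidHom.mem_ker.mp (χ (f e)).2, one_mul]
    · intro a ha
      change (χ (f a) : E) * a = a
      rw [MonoidHom.mem_ker.mp ha, map_one]
      simp
  · intro α hα hαk
    have hfα : ∀ e, f (α e) = f e := fun e => congrArg (fun φ => φ e) hα
    let s : G → E := Function.surjInv hf
    have hs : ∀ g, f (s g) = g := Function.surjInv_eq hf
    have hmem : ∀ e : E, α e * e⁻¹ ∈ f.ker := by
      intro e
      rw [MonoidHom.mem_ker, map_mul, map_inv, hfα, mul_inv_cancel]
    have key : ∀ e e' : E, f e = f e' → α e * e⁻¹ = α e' * e'⁻¹ := by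
      intro e e' hee'
      have hk : e⁻¹ * e' ∈ f.ker := by
        rw [MonoidHom.mem_ker, map_mul, map_inv, hee', inv_mul_cancel]
      have h1 : α (e⁻¹ * e') = e⁻¹ * e' := hαk _ hk
      have h2 : e' = e * (e⁻¹ * e') := by group
      rw [h2, map_mul, h1]
      group
    let χ : G →* f.ker :=
      { toFun := fun g => ⟨α (s g) * (s g)⁻¹, hmem _⟩
        map_one' := by
          apply Subtype.ext
          simp only [Subgroup.coe_one]
          rw [key (s 1) 1 (by rw [hs, map_one])]
          simp
        map_mul' := by
          intro a b
          apply Subtype.ext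
          simp only [Subgroup.coe_mul]
          rw [key (s (a * b)) (s a * s b) (by rw [hs, map_mul, hs, hs])]
          have hc := hcomm _ (hmem (s b)) (s a)⁻¹
          rw [map_mul]
          calc α (s a) * α (s b) * (s a * s b)⁻¹ = α (s a) * ((α (s b) * (s b)⁻¹) * (s a)⁻¹) := by group
            _ = α (s a) * ((s a)⁻¹ * (α (s b) * (s b)⁻¹)) := by rw [hc]
            _ = α (s a) * (s a)⁻¹ * (α (s b) * (s b)⁻¹) := by group }
    have hχ : ∀ e : E, α e = (χ (f e) : E) * e := by
      intro e
      change α e = α (s (f e)) * (s (f e))⁻¹ * e
      rw [← key e (s (f e)) (by rw [hs])]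
      group
    refine ⟨χ, hχ, ?_⟩
    intro χ' hχ'
    ext g
    obtain ⟨e, rfl⟩ := hf g
    have h1 := hχ e
    have h2 := hχ' e
    rw [h1] at h2
    exact (mul_right_cancel h2).symm

end Groth.Agent.S18949
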