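import Groth.Statements.S18951
import Mathlib

set_option autoImplicit false
universe u
open OrbPic

namespace Groth.Agent.S18951

/-- Let G be a group and C ⊆ G a subset that generates G. Then the projection (χ, w) ↦ w from the group
of geometric partial orbifold line bundles with respect to C to functions G → ℚ is injective, its
image contains every conjugation-invariant integer-valued function vanishing at 1 and outside C, and
the group is torsion-free. (The source works with the geometric points of a tame finite étale group
scheme, characters with values in roots of unity and weights on conjugacy classes of the Tate twist;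
here these are identified with a group, homomorphisms to ℚ/ℤ and class functions as the source does
after choosing roots of unity. The case C = G ∖ {1} is the statement for full orbifold line
bundles.) -/
theorem result (G : Type u) [Group G] (C : Set G)
    (hC : Subgroup.closure C = ⊤) :
    Set.InjOn (fun p : (Additive G →+ W4c6brauerbgmalle.QmodZ) × (G → ℚ) => p.2) (W4c6brauerbgmalle.picOrb G C) ∧
      (∀ w ∈ W4c6brauerbgmalle.intWeights G C, ((0 : Additive G →+ W4c6brauerbgmalle.QmodZ), w) ∈ W4c6brauerbgmalle.picOrb G C) ∧
      ∀ (n : ℕ) (p : (Additive G →+ W4c6brauerbgmalle.QmodZ) × (G → ℚ)), p ∈ W4c6brauerbgmalle.picOrb G C → n ≠ 0 →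
        n • p = 0 → p = 0 := by
  have hinj : Set.InjOn (fun p : (Additive G →+ W4c6brauerbgmalle.QmodZ) × (G → ℚ) => p.2) (W4c6brauerbgmalle.picOrb G C) := by
    rintro ⟨χ, w⟩ ⟨-, -, -, h4⟩ ⟨χ', w'⟩ ⟨-, -, -, h4'⟩ hww'
    simp only at hww' h4 h4'
    subst hww'
    have hagree : ∀ g ∈ C, χ (Additive.ofMul g) = χ' (Additive.ofMul g) := by
      intro g hg
      rw [← h4 g hg, ← h4' g hg]
    have hall : ∀ g : G, χ (Additive.ofMul g) = χ' (Additive.ofMul g) := by
      intro g
      have hg : g ∈ Subgroup.closure C := by rw [hC]; trivial
      refine Subgroup.closure_induction (p := fun g _ => χ (Additive.ofMul g) = χ' (Additive.ofMul g)) ?_ ?_ ?_ ?_ hg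
      · exact hagree
      · simp
      · intro x y _ _ hx hy
        rw [ofMul_mul, map_add, map_add, hx, hy]
      · intro x _ hx
        rw [ofMul_inv, map_neg, map_neg, hx]
    have : χ = χ' := by
      ext a
      exact hall (Additive.toMul a)
    rw [this]
  refine ⟨hinj, ?_, ?_⟩
  · rintro w ⟨h1, h2, h3, h4⟩
    refine ⟨h1, h2, h3, ?_⟩
    intro g _
    obtain ⟨n, hn⟩ := h4 g
    simp only [AddMonoidHom.zero_apply]
    rw [hn]
    refine (QuotientAddGroup.eq_zero_iff _).mpr ?_
    exact AddSubgroup.mem_zmultiples_iff.mpr ⟨n, by simp⟩
  · intro n p hp hn hnp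
    have hw : p.2 = 0 := by
      have := congrArg Prod.snd hnp
      simp only [Prod.smul_snd, Prod.snd_zero] at this
      funext g
      have hg := congrFun this g
      simp only [Pi.smul_apply, Pi.zero_apply, nsmul_eq_mul] at hg
      rcases mul_eq_zero.mp hg with h | h
      · exact absurd (by exact_mod_cast h) hn
      · exact h
    have h0 : (0 : (Additive G →+ W4c6brauerbgmalle.QmodZ) × (G → ℚ)) ∈ W4c6brauerbgmalle.picOrb G C :=
      (W4c6brauerbgmalle.picOrb G C).zero_mem
    exact hinj hp h0 hw

end Groth.Agent.S18951
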