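import Groth.Statements.S18953
import Mathlib

set_option autoImplicit false
universe u v
open OrbPic

namespace Groth.Agent.S18953

/-- Let G₁ and G₂ be groups with subsets C₁ ⊆ G₁ and C₂ ⊆ G₂, and let C ⊆ G₁ × G₂ be the union of C₁ ×
{1} and {1} × C₂. Restricting the character and the weight along the two inclusions G₁ → G₁ × G₂ and
G₂ → G₁ × G₂ is a bijection from the geometric partial orbifold line bundles of G₁ × G₂ with respect
to C onto pairs of geometric partial orbifold line bundles of G₁ with respect to C₁ and of G₂ with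
respect to C₂. (As in the source after a choice of roots of unity, each group stands for the
geometric points of a tame finite étale group scheme, characters are homomorphisms to ℚ/ℤ and
weights are class functions; the source states the Galois-equivariant version, which follows by
taking invariants.) -/
theorem result (G₁ : Type u) (G₂ : Type v) [Group G₁] [Group G₂] (C₁ : Set G₁) (C₂ : Set G₂) :
    Set.BijOn
      (fun p : (Additive (G₁ × G₂) →+ W4c6brauerbgmalle.QmodZ) × (G₁ × G₂ → ℚ) =>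
        ((p.1.comp (MonoidHom.toAdditive (MonoidHom.inl G₁ G₂)), fun g => p.2 (g, 1)),
          (p.1.comp (MonoidHom.toAdditive (MonoidHom.inr G₁ G₂)), fun g => p.2 (1, g))))
      (W4c6brauerbgmalle.picOrb (G₁ × G₂) ((fun g => (g, (1 : G₂))) '' C₁ ∪ (fun g => ((1 : G₁), g)) '' C₂))
      ((W4c6brauerbgmalle.picOrb G₁ C₁ : Set _) ×ˢ (W4c6brauerbgmalle.picOrb G₂ C₂ : Set _)) := by
  classical
  set C : Set (G₁ × G₂) := (fun g => (g, (1 : G₂))) '' C₁ ∪ (fun g => ((1 : G₁), g)) '' C₂ with hCdef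
  have hmemC : ∀ g₁ g₂, (g₁, g₂) ∈ C ↔ (g₁ ∈ C₁ ∧ g₂ = 1) ∨ (g₁ = 1 ∧ g₂ ∈ C₂) := by
    intro g₁ g₂
    simp only [hCdef, Set.mem_union, Set.mem_image, Prod.mk.injEq]
    constructor
    · rintro (⟨x, hx, rfl, rfl⟩ | ⟨x, hx, rfl, rfl⟩)
      · exact Or.inl ⟨hx, rfl⟩
      · exact Or.inr ⟨rfl, hx⟩
    · rintro (⟨h, rfl⟩ | ⟨rfl, h⟩)
      · exact Or.inl ⟨g₁, h, rfl, rfl⟩
      · exact Or.inr ⟨g₂, h, rfl, rfl⟩
  refine ⟨?_, ?_, ?_⟩
  · -- MapsTo
    rintro ⟨χ, w⟩ ⟨h1, h2, h3, h4⟩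
    simp only at h1 h2 h3 h4
    refine ⟨⟨h1, ?_, ?_, ?_⟩, ⟨h1, ?_, ?_, ?_⟩⟩
    · intro g hg
      by_cases hg1 : g = 1
      · subst hg1; exact h1
      · apply h2
        rw [hmemC]
        rintro (⟨h, -⟩ | ⟨h, -⟩)
        · exact hg h
        · exact hg1 h
    · intro g h
      have := h3 (g, 1) (h, 1)
      simpa using this
    · intro g hg
      have := h4 (g, 1) ((hmemC _ _).mpr (Or.inl ⟨hg, rfl⟩))
      simpa using this
    · intro g hg
      by_cases hg1 : g = 1
      · subst hg1; exact h1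
      · apply h2
        rw [hmemC]
        rintro (⟨-, h⟩ | ⟨-, h⟩)
        · exact hg1 h
        · exact hg h
    · intro g h
      have := h3 (1, g) (1, h)
      simpa using this
    · intro g hg
      have := h4 (1, g) ((hmemC _ _).mpr (Or.inr ⟨rfl, hg⟩))
      simpa using this
  · -- InjOn
    rintro ⟨χ, w⟩ ⟨h1, h2, h3, h4⟩ ⟨χ', w'⟩ ⟨h1', h2', h3', h4'⟩ heq
    simp only [Prod.mk.injEq] at heq
    obtain ⟨⟨hχ1, hw1⟩, ⟨hχ2, hw2⟩⟩ := heq
    simp only at h1 h2 h3 h4 h1' h2' h3' h4'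
    have hχ : χ = χ' := by
      refine DFunLike.ext _ _ (fun a => ?_)
      obtain ⟨g₁, g₂, rfl⟩ : ∃ g₁ g₂, a = Additive.ofMul ((g₁, g₂) : G₁ × G₂) :=
        ⟨(Additive.toMul a).1, (Additive.toMul a).2, rfl⟩
      have hdecomp : (Additive.ofMul ((g₁, g₂) : G₁ × G₂)) =
          Additive.ofMul ((g₁, 1) : G₁ × G₂) + Additive.ofMul ((1, g₂) : G₁ × G₂) := by
        rw [← ofMul_mul]; simp
      have e1 := congrArg (fun φ => φ (Additive.ofMul g₁)) hχ1
      have e2 := congrArg (fun φ => φ (Additive.ofMul g₂)) hχ2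
      simp only [AddMonoidHom.comp_apply, MonoidHom.toAdditive_apply_apply, toMul_ofMul, MonoidHom.inl_apply,
        MonoidHom.inr_apply] at e1 e2
      rw [hdecomp, map_add, map_add, e1, e2]
    have hw : w = w' := by
      funext ⟨g₁, g₂⟩
      by_cases hmem : (g₁, g₂) ∈ C
      · rcases (hmemC _ _).mp hmem with ⟨-, rfl⟩ | ⟨rfl, -⟩
        · exact congrFun hw1 g₁
        · exact congrFun hw2 g₂
      · rw [h2 _ hmem, h2' _ hmem]
    rw [hχ, hw]
  · -- SurjOn
    rintro ⟨⟨χ₁, w₁⟩, ⟨χ₂, w₂⟩⟩ ⟨⟨a1, a2, a3, a4⟩, ⟨b1, b2, b3, b4⟩⟩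
    simp only at a1 a2 a3 a4 b1 b2 b3 b4
    let χ : Additive (G₁ × G₂) →+ W4c6brauerbgmalle.QmodZ :=
      χ₁.comp (MonoidHom.toAdditive (MonoidHom.fst G₁ G₂)) + χ₂.comp (MonoidHom.toAdditive (MonoidHom.snd G₁ G₂))
    let w : G₁ × G₂ → ℚ := fun g => if g.2 = 1 then w₁ g.1 else if g.1 = 1 then w₂ g.2 else 0
    have hχ : ∀ g₁ g₂, χ (Additive.ofMul (g₁, g₂)) = χ₁ (Additive.ofMul g₁) + χ₂ (Additive.ofMul g₂) := by
      intro g₁ g₂; rfl
    have hconj1 : ∀ (g h : G₁), h * g * h⁻¹ = 1 ↔ g = 1 := by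
      intro g h
      constructor
      · intro hm
        have : g = h⁻¹ * (h * g * h⁻¹) * h := by group
        rw [this, hm]; group
      · rintro rfl; group
    have hconj2 : ∀ (g h : G₂), h * g * h⁻¹ = 1 ↔ g = 1 := by
      intro g h
      constructor
      · intro hm
        have : g = h⁻¹ * (h * g * h⁻¹) * h := by group
        rw [this, hm]; group
      · rintro rfl; group
    refine ⟨(χ, w), ⟨?_, ?_, ?_, ?_⟩, ?_⟩
    · simp [w, a1]
    · rintro ⟨g₁, g₂⟩ hg
      rw [hmemC] at hg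
      push Not at hg
      simp only [w]
      split_ifs with h2 h1
      · exact a2 g₁ (fun hc => hg.1 hc h2)
      · exact b2 g₂ (fun hc => hg.2 h1 hc)
      · rfl
    · rintro ⟨g₁, g₂⟩ ⟨k₁, k₂⟩
      simp only [w, Prod.mk_mul_mk, Prod.inv_mk, hconj1, hconj2, a3, b3]
    · rintro ⟨g₁, g₂⟩ hg
      rw [hχ]
      rcases (hmemC _ _).mp hg with ⟨hg1, rfl⟩ | ⟨rfl, hg2⟩
      · simp only [w, if_true]
        rw [a4 g₁ hg1]
        simp
      · by_cases h1 : g₂ = 1
        · subst h1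
          simp [w, a1]
        · simp only [w, h1, if_false, if_true]
          rw [b4 g₂ hg2]
          simp
    · simp only [Prod.mk.injEq]
      refine ⟨⟨?_, ?_⟩, ⟨?_, ?_⟩⟩
      · ext a
        simp [χ]
      · funext g
        simp [w]
      · ext a
        simp [χ]
      · funext g
        by_cases h1 : g = 1
        · subst h1
          simp [w, a1, b1]
        · simp [w, h1]

end Groth.Agent.S18953
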