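import Groth.Statements.S18954
import Mathlib

set_option autoImplicit false
universe u v w
open Classical
open BGCount

namespace Groth.Agent.S18954

/-- Let a finite group G act on a finite set X, let W be a finite set of orbits and f a function on
orbits with values in a field of characteristic zero. Then Σ_{O ∈ W} f(O)/|Stab(x_O)|, with x_O any
point of O, equals |G|⁻¹ · Σ f(orbit(x)) over the points x of X whose orbit lies in W. (In the
source X is the set of 1-cocycles of the absolute Galois group of a field in a finite étale group
scheme G, acted on by the geometric points of G, the orbits are the isomorphism classes of G-torsors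
and the stabilisers their automorphism groups; stated here for an arbitrary action of a finite group
on a finite set, the representative x_O being chosen by Quotient.out.) -/
theorem result {G : Type u} {X : Type v} (𝕜 : Type w)
    [Group G] [Fintype G] [MulAction G X] [Fintype X] [Field 𝕜] [CharZero 𝕜]
    (W : Finset (MulAction.orbitRel.Quotient G X)) (f : MulAction.orbitRel.Quotient G X → 𝕜) :
    (∑ O ∈ W, f O / (Nat.card (MulAction.stabilizer G O.out) : 𝕜)) =
      (Fintype.card G : 𝕜)⁻¹ *
        ∑ x ∈ Finset.univ.filter (fun x : X => (Quotient.mk (MulAction.orbitRel G X) x) ∈ W),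
          f (Quotient.mk (MulAction.orbitRel G X) x) := by
  have hfib : ∑ x ∈ Finset.univ.filter (fun x : X => (Quotient.mk (MulAction.orbitRel G X) x) ∈ W),
      f (Quotient.mk (MulAction.orbitRel G X) x) =
      ∑ O ∈ W, ∑ x ∈ (Finset.univ.filter (fun x : X => (Quotient.mk (MulAction.orbitRel G X) x) ∈ W)).filter
        (fun x => Quotient.mk (MulAction.orbitRel G X) x = O), f (Quotient.mk (MulAction.orbitRel G X) x) := by
    rw [Finset.sum_fiberwise_of_maps_to]
    intro x hx
    exact (Finset.mem_filter.mp hx).2
  rw [hfib, Finset.mul_sum]
  apply Finset.sum_congr rfl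
  intro O hO
  have h1 : ∑ x ∈ (Finset.univ.filter (fun x : X => (Quotient.mk (MulAction.orbitRel G X) x) ∈ W)).filter
        (fun x => Quotient.mk (MulAction.orbitRel G X) x = O), f (Quotient.mk (MulAction.orbitRel G X) x)
      = (Nat.card (MulAction.orbit G O.out) : 𝕜) * f O := by
    have h2 : (Finset.univ.filter (fun x : X => (Quotient.mk (MulAction.orbitRel G X) x) ∈ W)).filter
        (fun x => Quotient.mk (MulAction.orbitRel G X) x = O) =
        (MulAction.orbit G O.out).toFinset := by
      ext x
      simp only [Finset.mem_filter, Finset.mem_univ, true_and, Set.mem_toFinset]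
      constructor
      · rintro ⟨_, hx⟩
        have : Quotient.mk (MulAction.orbitRel G X) x = Quotient.mk (MulAction.orbitRel G X) O.out := by
          rw [hx, Quotient.out_eq]
        exact Quotient.exact this
      · intro hx
        have : Quotient.mk (MulAction.orbitRel G X) x = O := by
          rw [← Quotient.out_eq O]
          exact Quotient.sound hx
        exact ⟨this ▸ hO, this⟩
    rw [h2, Finset.sum_congr rfl (g := fun _ => f O)]
    · rw [Finset.sum_const, nsmul_eq_mul, Set.toFinset_card, Nat.card_eq_fintype_card]
    · intro x hx
      rw [Set.mem_toFinset] at hx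
      have : Quotient.mk (MulAction.orbitRel G X) x = O := by
        rw [← Quotient.out_eq O]
        exact Quotient.sound hx
      rw [this]
  rw [h1]
  have h3 := MulAction.card_orbit_mul_card_stabilizer_eq_card_group G O.out
  have h4 : (Fintype.card G : 𝕜) = (Nat.card (MulAction.orbit G O.out) : 𝕜) *
      (Nat.card (MulAction.stabilizer G O.out) : 𝕜) := by
    rw [← h3, Nat.cast_mul, Nat.card_eq_fintype_card, Nat.card_eq_fintype_card]
  have h5 : (Nat.card (MulAction.stabilizer G O.out) : 𝕜) ≠ 0 := by
    rw [Nat.cast_ne_zero]
    exact Nat.card_pos.ne'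
  have h6 : (Nat.card (MulAction.orbit G O.out) : 𝕜) ≠ 0 := by
    rw [Nat.cast_ne_zero]
    have : Nonempty (MulAction.orbit G O.out) := ⟨⟨O.out, MulAction.mem_orbit_self _⟩⟩
    exact Nat.card_pos.ne'
  rw [h4]
  field_simp

end Groth.Agent.S18954
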