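import Groth.Statements.S18960
import Mathlib

set_option autoImplicit false
universe w' w v u
open CategoryTheory Limits
open CatLim

namespace Groth.Agent.S18960

abbrev isoAlgU {C : Type u} [Category.{v} C] (T : C ⥤ C) :=
  (ObjectProperty.ι (fun A : Endofunctor.Algebra T => IsIso A.str)) ⋙ Endofunctor.Algebra.forget T

theorem isoAlg_aux {C : Type u} [Category.{v} C] (T : C ⥤ C) {A X Y : C} (ι : A ⟶ X) (d : X ⟶ Y)
    (f : A ⟶ Y) (strA : T.obj A ⟶ A) (e : T.obj X ⟶ X) (S : T.obj Y ⟶ Y) (h1 : ι ≫ d = f)
    (h2 : T.map f ≫ S = strA ≫ f) (he : T.map ι ≫ e = strA ≫ ι) :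
    T.map ι ≫ T.map d ≫ S = T.map ι ≫ e ≫ d := by
  rw [← T.map_comp_assoc, h1, h2, ← Category.assoc, he, Category.assoc, h1]

/-- Let C be a category and T an endofunctor of C; let C(T) be the category whose objects are pairs (X,
u) with u : T X → X an isomorphism and whose morphisms (X, u) → (Y, w) are the morphisms X → Y
compatible with u and w — the full subcategory of T-algebras with invertible structure map — and let
π : C(T) → C be the forgetful functor. If T preserves colimits of shape J then π creates colimits of
shape J. (The source assumes T preserves all small colimits and concludes for all small shapes; the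
argument is shape by shape.) -/
theorem result {C : Type u} [Category.{v} C] (T : C ⥤ C)
    (J : Type w) [Category.{w'} J] [PreservesColimitsOfShape J T] :
    Nonempty (CreatesColimitsOfShape J
      ((ObjectProperty.ι (fun A : Endofunctor.Algebra T => IsIso A.str)) ⋙ Endofunctor.Algebra.forget T)) := by
  refine ⟨{ CreatesColimit := fun {K} => createsColimitOfReflectsIso (fun c t => ?_) }⟩
  have hstr : ∀ j : J, IsIso (K.obj j).obj.str := fun j => (K.obj j).property
  let t' : IsColimit (T.mapCocone c) := isColimitOfPreserves T t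
  let σ : (K ⋙ (isoAlgU T)) ⋙ T ≅
      K ⋙ (isoAlgU T) :=
    NatIso.ofComponents (fun j => @asIso _ _ _ _ (K.obj j).obj.str (hstr j))
      (by
        intro j j' f
        exact (K.map f).hom.h)
  have hσ : ∀ j, σ.hom.app j = (K.obj j).obj.str := fun j => rfl
  let e : T.obj c.pt ≅ c.pt := IsColimit.coconePointsIsoOfNatIso t' t σ
  have he : ∀ j, T.map (c.ι.app j) ≫ e.hom = (K.obj j).obj.str ≫ c.ι.app j := fun j => by
    rw [← hσ]
    exact IsColimit.comp_coconePointsIsoOfNatIso_hom t' t σ j
  let L : Cocone K :=
    { pt := ⟨⟨c.pt, e.hom⟩, (inferInstance : IsIso e.hom)⟩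
      ι :=
        { app := fun j => ObjectProperty.homMk ⟨c.ι.app j, he j⟩
          naturality := by
            intro j j' f
            apply ObjectProperty.hom_ext
            apply Endofunctor.Algebra.Hom.ext
            show (K.map f).hom.f ≫ c.ι.app j' = c.ι.app j ≫ 𝟙 _
            rw [Category.comp_id]
            exact c.w f } }
  have hdesc : ∀ s : Cocone K,
      T.map (t.desc ((isoAlgU T).mapCocone s)) ≫ s.pt.obj.str =
      e.hom ≫ t.desc ((isoAlgU T).mapCocone s) := by
    intro s
    apply t'.hom_ext
    intro j
    have h1 : c.ι.app j ≫ t.desc ((isoAlgU T).mapCocone s) = (s.ι.app j).hom.f :=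
      t.fac ((isoAlgU T).mapCocone s) j
    have h2 : T.map (s.ι.app j).hom.f ≫ s.pt.obj.str = (K.obj j).obj.str ≫ (s.ι.app j).hom.f :=
      (s.ι.app j).hom.h
    show T.map (c.ι.app j) ≫ T.map (t.desc ((isoAlgU T).mapCocone s)) ≫ s.pt.obj.str =
      T.map (c.ι.app j) ≫ e.hom ≫ t.desc ((isoAlgU T).mapCocone s)
    exact isoAlg_aux T (c.ι.app j) (t.desc ((isoAlgU T).mapCocone s)) (s.ι.app j).hom.f
      (K.obj j).obj.str e.hom s.pt.obj.str h1 h2 (he j)
  exact
    { liftedCocone := L
      validLift := Cocone.ext (Iso.refl _) (fun j => Category.comp_id _)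
      makesColimit :=
        { desc := fun s => ObjectProperty.homMk ⟨t.desc ((isoAlgU T).mapCocone s), hdesc s⟩
          fac := fun s j => by
            apply ObjectProperty.hom_ext
            apply Endofunctor.Algebra.Hom.ext
            exact t.fac ((isoAlgU T).mapCocone s) j
          uniq := fun s m hm => by
            apply ObjectProperty.hom_ext
            apply Endofunctor.Algebra.Hom.ext
            refine t.uniq ((isoAlgU T).mapCocone s) m.hom.f (fun j => ?_)
            exact congrArg (fun q => q.hom.f) (hm j) } }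

end Groth.Agent.S18960
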