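import Groth.Statements.S19004
import Mathlib

set_option autoImplicit false
open GIT

namespace Groth.Agent.S19004

/-- For the group PGL(n) acting on the space of n × n matrices the T-quotient is (P^{n−1})^n with Chow
ring ℚ[t_1,…,t_n]/(t_1^n,…,t_n^n), the class c_top(g/t) is the product of all roots t_i − t_j (i ≠
j), and the computation in the proof shows that this product equals n!·t_1^{n−1}⋯t_n^{n−1} in that
ring. Stated here as the equivalent coefficient identity in ℤ[t_1,…,t_n]: the coefficient of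
t_1^{n−1}⋯t_n^{n−1} in the product over ordered pairs i ≠ j of (t_i − t_j) is n!. -/
theorem result (n : ℕ) :
    MvPolynomial.coeff (Finsupp.equivFunOnFinite.symm (fun _ : Fin n => n - 1))
      (∏ i : Fin n, ∏ j ∈ Finset.univ.erase i, (MvPolynomial.X i - MvPolynomial.X j : MvPolynomial (Fin n) ℤ)) = (n.factorial : ℤ) := by
  classical
  obtain ⟨P, hP⟩ : ∃ P : MvPolynomial (Fin n) ℤ, P = ∏ i : Fin n, ∏ j ∈ Finset.Ioi i,
      (MvPolynomial.X j - MvPolynomial.X i) := ⟨_, rfl⟩
  obtain ⟨ε, hε⟩ : ∃ ε : ℤ, ε = ((Equiv.Perm.sign (Fin.revPerm : Equiv.Perm (Fin n)) : ℤˣ) : ℤ) :=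
    ⟨_, rfl⟩
  have hεε : ε * ε = 1 := by rw [hε]; exact Int.units_coe_mul_self _
  have hεprod : ε = ∏ i : Fin n, ∏ j ∈ Finset.Ioi i, (-1 : ℤ) := by
    rw [hε, Equiv.Perm.sign_eq_prod_prod_Ioi]
    rw [Units.coe_prod]
    refine Finset.prod_congr rfl (fun i _ => ?_)
    rw [Units.coe_prod]
    refine Finset.prod_congr rfl (fun j hj => ?_)
    have hij : i < j := Finset.mem_Ioi.mp hj
    rw [if_neg]
    · simp
    · rw [Fin.revPerm_apply, Fin.revPerm_apply, Fin.rev_lt_rev]; exact not_lt.mpr hij.le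
  have hA : (∏ i : Fin n, ∏ j ∈ Finset.univ.erase i,
      (MvPolynomial.X i - MvPolynomial.X j : MvPolynomial (Fin n) ℤ)) =
      MvPolynomial.C ε * (P * P) := by
    have hsplit : ∀ (i : Fin n) (g : Fin n → MvPolynomial (Fin n) ℤ),
        ∏ j ∈ Finset.univ.erase i, g j = (∏ j ∈ Finset.Iio i, g j) * ∏ j ∈ Finset.Ioi i, g j := by
      intro i g
      rw [← Finset.prod_union]
      · refine Finset.prod_congr ?_ (fun _ _ => rfl)
        ext j
        simp only [Finset.mem_erase, Finset.mem_univ, and_true, Finset.mem_union, Finset.mem_Iio,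
          Finset.mem_Ioi]
        exact lt_or_lt_iff_ne.symm
      · refine Finset.disjoint_left.mpr (fun j h1 h2 => ?_)
        rw [Finset.mem_Iio] at h1
        rw [Finset.mem_Ioi] at h2
        exact lt_asymm h1 h2
    have h1 : ∏ i : Fin n, ∏ j ∈ Finset.Iio i,
        (MvPolynomial.X i - MvPolynomial.X j : MvPolynomial (Fin n) ℤ) = P := by
      rw [hP]
      exact Finset.prod_comm' (by simp)
    have h2 : ∏ i : Fin n, ∏ j ∈ Finset.Ioi i,
        (MvPolynomial.X i - MvPolynomial.X j : MvPolynomial (Fin n) ℤ) = MvPolynomial.C ε * P := by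
      rw [hP, hεprod, map_prod, ← Finset.prod_mul_distrib]
      refine Finset.prod_congr rfl (fun i _ => ?_)
      rw [map_prod, ← Finset.prod_mul_distrib]
      refine Finset.prod_congr rfl (fun j _ => ?_)
      rw [map_neg, map_one]; ring
    simp only [hsplit]
    rw [Finset.prod_mul_distrib, h1, h2]; ring
  obtain ⟨s, hs⟩ : ∃ s : Equiv.Perm (Fin n) → ℤ, ∀ σ, s σ = ((Equiv.Perm.sign σ : ℤˣ) : ℤ) :=
    ⟨_, fun σ => rfl⟩
  obtain ⟨m, hm⟩ : ∃ m : (Fin n → ℕ) → (Fin n →₀ ℕ), ∀ a i, m a i = a i :=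
    ⟨fun a => Finsupp.equivFunOnFinite.symm a, fun a i => rfl⟩
  have hmono : ∀ a : Fin n → ℕ, ∏ i, (MvPolynomial.X i : MvPolynomial (Fin n) ℤ) ^ a i =
      MvPolynomial.monomial (m a) 1 := by
    intro a
    rw [MvPolynomial.monomial_eq, Finsupp.prod_fintype _ _ (fun i => pow_zero _), map_one, one_mul]
    refine Finset.prod_congr rfl (fun i _ => ?_)
    rw [hm]
  have hPsum : P = ∑ σ : Equiv.Perm (Fin n),
      MvPolynomial.monomial (m (fun i => ((σ i : Fin n) : ℕ))) (s σ) := by
    rw [hP, ← Matrix.det_vandermonde (MvPolynomial.X : Fin n → MvPolynomial (Fin n) ℤ),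
      ← Matrix.det_transpose, Matrix.det_apply']
    refine Finset.sum_congr rfl (fun σ _ => ?_)
    have h1 : ∏ i, (Matrix.transpose (Matrix.vandermonde
        (MvPolynomial.X : Fin n → MvPolynomial (Fin n) ℤ))) (σ i) i =
        ∏ i, (MvPolynomial.X i : MvPolynomial (Fin n) ℤ) ^ ((σ i : Fin n) : ℕ) := by
      refine Finset.prod_congr rfl (fun i _ => ?_)
      rw [Matrix.transpose_apply, Matrix.vandermonde_apply]
    rw [h1, hmono, hs, ← eq_intCast (MvPolynomial.C : ℤ →+* MvPolynomial (Fin n) ℤ),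
      MvPolynomial.C_mul_monomial, mul_one]
  obtain ⟨tgt, htgt⟩ : ∃ tgt : Fin n →₀ ℕ,
      tgt = Finsupp.equivFunOnFinite.symm (fun _ : Fin n => n - 1) := ⟨_, rfl⟩
  have htgt_apply : ∀ i, tgt i = n - 1 := by intro i; rw [htgt]; rfl
  have hcoef : MvPolynomial.coeff tgt (P * P) = (n.factorial : ℤ) * ε := by
    rw [hPsum, Finset.sum_mul_sum, MvPolynomial.coeff_sum]
    have hinner : ∀ σ : Equiv.Perm (Fin n), MvPolynomial.coeff tgt
        (∑ τ : Equiv.Perm (Fin n),
          MvPolynomial.monomial (m (fun i => ((σ i : Fin n) : ℕ))) (s σ) *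
          MvPolynomial.monomial (m (fun i => ((τ i : Fin n) : ℕ))) (s τ)) = ε := by
      intro σ
      rw [MvPolynomial.coeff_sum, Finset.sum_eq_single (Fin.revPerm * σ)]
      · rw [MvPolynomial.monomial_mul, MvPolynomial.coeff_monomial, if_pos]
        · rw [hs, hs, Equiv.Perm.sign_mul, Units.val_mul, ← hε]
          have h3 := Int.units_coe_mul_self (Equiv.Perm.sign σ)
          linear_combination ε * h3
        · ext i
          rw [Finsupp.add_apply, hm, hm, htgt_apply, Equiv.Perm.mul_apply, Fin.revPerm_apply,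
            Fin.val_rev]
          have h3 := (σ i).isLt
          omega
      · intro τ _ hτ
        rw [MvPolynomial.monomial_mul, MvPolynomial.coeff_monomial, if_neg]
        intro hcond
        apply hτ
        ext i
        have h1 := DFunLike.congr_fun hcond i
        rw [Finsupp.add_apply, hm, hm, htgt_apply] at h1
        rw [Equiv.Perm.mul_apply, Fin.revPerm_apply, Fin.val_rev]
        have h3 := (σ i).isLt
        omega
      · intro h; exact absurd (Finset.mem_univ _) h
    rw [Finset.sum_congr rfl (fun σ _ => hinner σ), Finset.sum_const, Finset.card_univ,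
      Fintype.card_perm, Fintype.card_fin, nsmul_eq_mul]
  rw [← htgt, hA, MvPolynomial.coeff_C_mul, hcoef]
  linear_combination (n.factorial : ℤ) * hεε

end Groth.Agent.S19004
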