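import Groth.Statements.S19005
import Mathlib

set_option autoImplicit false
open scoped TensorProduct
open K2Cent

namespace Groth.Agent.S19005

/-- For abelian groups X and M and ε in M with 2ε = 0 (in the source X is the character group of a split
torus and ε is the class of −1 among the units), the map x ↦ (x ⊗ x, −(x ⊗ ε)) into (X ⊗ X) × (X ⊗
M) is quadratic over ℤ, i.e. it underlies an integer quadratic map with exactly these values. -/
theorem result (X M : Type*) [AddCommGroup X]
    [AddCommGroup M] (ε : M) (hε : 2 • ε = 0) :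
    ∃ R : QuadraticMap ℤ X (TensorProduct ℤ X X × TensorProduct ℤ X M),
      ∀ x : X, R x = (x ⊗ₜ[ℤ] x, -(x ⊗ₜ[ℤ] ε)) := by
  have hkey : ∀ a : ℤ, (a * a) • ε = a • ε := by
    intro a
    have hev : Even (a * a - a) := by
      have : a * a - a = a * (a - 1) := by ring
      rw [this]
      exact Int.even_mul_pred_self a
    obtain ⟨c, hc⟩ := hev
    have h2 : (2 : ℤ) • ε = 0 := by
      rw [← hε]; exact (natCast_zsmul ε 2)
    have : (a * a - a) • ε = 0 := by
      rw [hc, ← two_mul, mul_comm, mul_smul, h2, smul_zero]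
    rw [sub_smul, sub_eq_zero] at this
    exact this
  let B : X →ₗ[ℤ] X →ₗ[ℤ] (TensorProduct ℤ X X × TensorProduct ℤ X M) :=
    (TensorProduct.mk ℤ X X + (TensorProduct.mk ℤ X X).flip).compr₂ (LinearMap.inl ℤ _ _)
  refine ⟨{ toFun := fun x => (x ⊗ₜ[ℤ] x, -(x ⊗ₜ[ℤ] ε))
            toFun_smul := ?_
            exists_companion' := ⟨B, ?_⟩ }, fun x => rfl⟩
  · intro a x
    ext
    · simp only [Prod.smul_fst, TensorProduct.smul_tmul_smul]
    · simp only [Prod.smul_snd, smul_neg, neg_inj]
      rw [TensorProduct.smul_tmul, ← hkey a, ← TensorProduct.tmul_smul]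
  · intro x y
    ext
    · simp only [B, LinearMap.compr₂_apply, LinearMap.add_apply, TensorProduct.mk_apply, LinearMap.flip_apply,
        LinearMap.inl_apply, Prod.fst_add, TensorProduct.add_tmul, TensorProduct.tmul_add]
      abel
    · simp only [B, LinearMap.compr₂_apply, LinearMap.inl_apply, Prod.snd_add, TensorProduct.add_tmul, add_zero, neg_add]

end Groth.Agent.S19005
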