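import Groth.Statements.S19006
import Mathlib

set_option autoImplicit false
universe u v w x
open RootD

namespace Groth.Agent.S19006

/-- For a root pairing over an integral domain of characteristic zero, a quadratic form Q on the
coweight module N with polar form B, and a root α with coroot α^∨, the form Q is invariant under the
reflection attached to α acting on N if and only if B(y, α^∨) = ⟨α, y⟩ Q(α^∨) for all y in N. (The
source states this for integer-valued forms on the cocharacter lattice of a split reductive group;
here the form takes values in the base ring of the pairing.) -/
theorem result {ι : Type u} {R : Type v} {M : Type w} {N : Type x} [CommRing R] [IsDomain R] [CharZero R]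
    [AddCommGroup M] [Module R M] [AddCommGroup N] [Module R N] (P : RootPairing ι R M N)
    (Q : QuadraticMap R N R) (j : ι) :
    (∀ y : N, Q (P.coreflection j y) = Q y) ↔
      ∀ y : N, QuadraticMap.polar Q y (P.coroot j) = P.root' j y * Q (P.coroot j) := by
  set a := P.coroot j with ha
  have hexp : ∀ y : N, Q (P.coreflection j y) = Q y + (P.root' j y) * (P.root' j y) * Q a
      - (P.root' j y) * QuadraticMap.polar Q y a := by
    intro y
    rw [RootPairing.coreflection_apply]
    have h1 : y - (P.root' j) y • a = y + (-(P.root' j) y) • a := by rw [neg_smul, sub_eq_add_neg]
    rw [h1]
    have h2 := QuadraticMap.polar_smul_right Q (-(P.root' j) y) y a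
    have h3 : Q (y + (-(P.root' j) y) • a) = Q y + Q ((-(P.root' j) y) • a) + QuadraticMap.polar Q y ((-(P.root' j) y) • a) := by
      unfold QuadraticMap.polar
      ring
    rw [h3, h2, QuadraticMap.map_smul]
    simp only [smul_eq_mul]
    ring
  have haa : P.root' j a = 2 := by
    rw [ha, RootPairing.root'_coroot_eq_pairing, RootPairing.pairing_same]
  have hpaa : QuadraticMap.polar Q a a = 2 * Q a := by
    rw [QuadraticMap.polar_self]
    simp
  constructor
  · intro h
    have key : ∀ y : N, P.root' j y ≠ 0 → QuadraticMap.polar Q y a = P.root' j y * Q a := by
      intro y hy
      have := h y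
      rw [hexp] at this
      have h0 : P.root' j y * (P.root' j y * Q a - QuadraticMap.polar Q y a) = 0 := by
        linear_combination this
      rcases mul_eq_zero.mp h0 with h1 | h1
      · exact absurd h1 hy
      · linear_combination -h1
    intro y
    by_cases hy : P.root' j y = 0
    · have h2 : P.root' j (y + a) ≠ 0 := by
        rw [map_add, hy, haa, zero_add]
        exact two_ne_zero
      have := key (y + a) h2
      rw [QuadraticMap.polar_add_left, hpaa, map_add, hy, haa, zero_add] at this
      rw [hy, zero_mul]
      linear_combination this
    · exact key y hy
  · intro h y
    rw [hexp, h y]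
    ring

end Groth.Agent.S19006
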