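import Groth.Statements.S19007
-- import your own Groth.Agent.* helpers here
import Mathlib

set_option autoImplicit false
universe u v w x
open RootD

namespace Groth.Agent.S19007

section aux
variable {ι : Type u} {R : Type v} {M : Type w} {N : Type x} [CommRing R]
    [AddCommGroup M] [Module R M] [AddCommGroup N] [Module R N] (P : RootPairing ι R M N)

lemma hexp (Q : QuadraticMap R N R) (a bb : N) (c : R) :
    Q (a - c • bb) = Q a + c * c * Q bb - c * QuadraticMap.polar Q a bb := by
  rw [sub_eq_add_neg, ← neg_smul, QuadraticMap.map_add Q, QuadraticMap.map_smul,
    QuadraticMap.polar_smul_right]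
  simp only [smul_eq_mul]; ring

lemma coreflection_neg' (i : ι) :
    P.coreflection (P.reflectionPerm i i) = P.coreflection i := by
  ext f
  rw [P.coreflection_apply, P.coreflection_apply]
  have h1 : P.root (P.reflectionPerm i i) = - P.root i := by
    rw [P.root_reflectionPerm, P.reflection_apply_self]
  have h2 : P.coroot (P.reflectionPerm i i) = - P.coroot i := by
    rw [P.coroot_reflectionPerm, P.coreflection_apply_self]
  rw [h2]
  show f - P.toLinearMap (P.root (P.reflectionPerm i i)) f • (- P.coroot i) =
    f - P.toLinearMap (P.root i) f • P.coroot i
  rw [h1, map_neg, LinearMap.neg_apply, neg_smul, smul_neg, neg_neg]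

lemma coreflection_mem_span (k : ι) (y : N)
    (hy : y ∈ Submodule.span R (Set.range P.coroot)) :
    P.coreflection k y ∈ Submodule.span R (Set.range P.coroot) := by
  rw [P.coreflection_apply]
  exact Submodule.sub_mem _ hy (Submodule.smul_mem _ _ (Submodule.subset_span ⟨k, rfl⟩))

end aux

/-- Let P be a finite reduced crystallographic root pairing over an integral domain of characteristic
zero, b a base of P (a system of simple roots) and Q a quadratic form on the coweight module with
polar form B. Then Q is invariant under all root reflections (equivalently under the Weyl group) on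
the span of the coroots if and only if for all pairs of distinct simple roots α_i ≠ α_j one has
B(α_i^∨, α_j^∨) = ⟨α_j, α_i^∨⟩ Q(α_j^∨). (In the source the form is integer-valued on the lattice
spanned by the coroots and the condition says that the bilinear form lies in the kernel of the last
map of a three-term complex built from the Bruhat cells of codimension at most two; here the form
takes values in the base ring.) -/
theorem result {ι : Type u} {R : Type v} {M : Type w} {N : Type x} [CommRing R] [IsDomain R] [CharZero R]
    [AddCommGroup M] [Module R M] [AddCommGroup N] [Module R N] (P : RootPairing ι R M N)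
    [Finite ι] [P.IsCrystallographic] [P.IsReduced] (b : P.Base) (Q : QuadraticMap R N R) :
    (∀ i : ι, ∀ y ∈ Submodule.span R (Set.range P.coroot), Q (P.coreflection i y) = Q y) ↔
      ∀ i ∈ b.support, ∀ j ∈ b.support, i ≠ j →
        QuadraticMap.polar Q (P.coroot i) (P.coroot j) = P.pairing j i * Q (P.coroot j) := by
  constructor
  · intro h i hi j hj hij
    have ha : P.coroot i ∈ Submodule.span R (Set.range P.coroot) :=
      Submodule.subset_span ⟨i, rfl⟩
    have hb : P.coroot j ∈ Submodule.span R (Set.range P.coroot) :=
      Submodule.subset_span ⟨j, rfl⟩
    have h1 := h j (P.coroot i) ha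
    rw [P.coreflection_apply_coroot, hexp] at h1
    by_cases hc : P.pairing j i = 0
    · rw [hc, zero_mul]
      have h2 := h j (P.coroot i + P.coroot j) (Submodule.add_mem _ ha hb)
      rw [map_add, P.coreflection_apply_coroot, P.coreflection_apply_self, hc, zero_smul,
        sub_zero, ← sub_eq_add_neg] at h2
      have h3 := hexp Q (P.coroot i) (P.coroot j) 1
      rw [one_smul] at h3
      rw [h3, QuadraticMap.map_add Q] at h2
      have h4 : (2 : R) * QuadraticMap.polar Q (P.coroot i) (P.coroot j) = 0 := by
        linear_combination -h2
      exact (mul_eq_zero.mp h4).resolve_left two_ne_zero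
    · have h4 : P.pairing j i * (P.pairing j i * Q (P.coroot j) -
          QuadraticMap.polar Q (P.coroot i) (P.coroot j)) = 0 := by
        linear_combination h1
      have h5 := (mul_eq_zero.mp h4).resolve_left hc
      linear_combination -h5
  · intro h
    have hpol' : ∀ j ∈ b.support, ∀ y ∈ Submodule.span R (P.coroot '' b.support),
        QuadraticMap.polar Q y (P.coroot j) = P.toLinearMap (P.root j) y * Q (P.coroot j) := by
      intro j hj y hy'
      induction hy' using Submodule.span_induction with
      | mem z hz =>
        obtain ⟨i, hi, rfl⟩ := hz
        by_cases hij : i = j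
        · subst hij
          rw [QuadraticMap.polar_self, P.root_coroot_eq_pairing, P.pairing_same]
          first
            | exact (two_smul R _).trans (two_mul _).symm
            | exact (two_nsmul _).trans (two_mul _).symm
        · rw [h i hi j hj hij, P.root_coroot_eq_pairing]
      | zero => simp
      | add x z _ _ hx hz =>
        rw [QuadraticMap.polar_add_left, hx, hz, map_add]
        ring
      | smul c x _ hx =>
        rw [QuadraticMap.polar_smul_left, hx, map_smul]
        simp only [smul_eq_mul]; ring
    have hpol : ∀ j ∈ b.support, ∀ y ∈ Submodule.span R (Set.range P.coroot),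
        QuadraticMap.polar Q y (P.coroot j) = P.toLinearMap (P.root j) y * Q (P.coroot j) := by
      intro j hj y hy
      apply hpol' j hj y
      rw [b.span_coroot_support]; exact hy
    have hsimple : ∀ j ∈ b.support, ∀ y ∈ Submodule.span R (Set.range P.coroot),
        Q (P.coreflection j y) = Q y := by
      intro j hj y hy
      rw [P.coreflection_apply, hexp, hpol j hj y hy]
      show Q y + P.toLinearMap (P.root j) y * P.toLinearMap (P.root j) y * Q (P.coroot j) -
        P.toLinearMap (P.root j) y * (P.toLinearMap (P.root j) y * Q (P.coroot j)) = Q y
      ring
    intro i
    refine b.induction_reflect i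
      (p := fun i => ∀ y ∈ Submodule.span R (Set.range P.coroot), Q (P.coreflection i y) = Q y)
      ?_ hsimple ?_
    · intro i hi y hy
      rw [coreflection_neg']
      exact hi y hy
    · intro i j hi hj y hy
      have hconj : P.coreflection (P.reflectionPerm j i) =
          P.coreflection j * P.coreflection i * P.coreflection j :=
        P.flip.reflection_reflectionPerm
      rw [hconj]
      show Q (P.coreflection j (P.coreflection i (P.coreflection j y))) = Q y
      have h1 := coreflection_mem_span P j y hy
      have h2 := coreflection_mem_span P i _ h1
      rw [hsimple j hj _ h2, hi _ h1, hsimple j hj y hy]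

end Groth.Agent.S19007
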