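import Groth.Statements.S19009
-- import your own Groth.Agent.* helpers here
import Mathlib

set_option autoImplicit false
universe u v w x
open RootD

namespace Groth.Agent.S19009

section aux
variable {ι : Type u} {R : Type v} {M : Type w} {N : Type x} [CommRing R] [IsDomain R] [CharZero R]
    [AddCommGroup M] [Module R M] [AddCommGroup N] [Module R N] (P : RootPairing ι R M N)

lemma hexp (Q : QuadraticMap R N R) (a bb : N) (c : R) :
    Q (a - c • bb) = Q a + c * c * Q bb - c * QuadraticMap.polar Q a bb := by
  rw [sub_eq_add_neg, ← neg_smul, QuadraticMap.map_add Q, QuadraticMap.map_smul,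
    QuadraticMap.polar_smul_right]
  simp only [smul_eq_mul]; ring

lemma polar_self' (Q : QuadraticMap R N R) (a : N) :
    QuadraticMap.polar Q a a = 2 * Q a := by
  rw [QuadraticMap.polar_self]
  first
    | exact (two_smul R _).trans (two_mul _).symm
    | exact (two_nsmul _).trans (two_mul _).symm

/-- Invariance on a submodule containing the coroot gives the polar formula there. -/
lemma polar_of_inv (D : Submodule R N) (Q : QuadraticMap R N R) (i : ι)
    (hi : P.coroot i ∈ D) (h : ∀ y ∈ D, Q (P.coreflection i y) = Q y) (y : N) (hy : y ∈ D) :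
    QuadraticMap.polar Q y (P.coroot i) = P.toLinearMap (P.root i) y * Q (P.coroot i) := by
  have hne : ∀ z ∈ D, P.toLinearMap (P.root i) z ≠ 0 →
      QuadraticMap.polar Q z (P.coroot i) = P.toLinearMap (P.root i) z * Q (P.coroot i) := by
    intro z hz hc
    have h1 := h z hz
    rw [P.coreflection_apply, hexp] at h1
    have h1' : Q z + P.toLinearMap (P.root i) z * P.toLinearMap (P.root i) z * Q (P.coroot i) -
        P.toLinearMap (P.root i) z * QuadraticMap.polar Q z (P.coroot i) = Q z := h1
    have h2 : P.toLinearMap (P.root i) z * (P.toLinearMap (P.root i) z * Q (P.coroot i) -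
        QuadraticMap.polar Q z (P.coroot i)) = 0 := by
      linear_combination h1'
    have h3 := (mul_eq_zero.mp h2).resolve_left hc
    linear_combination -h3
  by_cases hc : P.toLinearMap (P.root i) y = 0
  · have hc2 : P.toLinearMap (P.root i) (y + P.coroot i) = 2 := by
      rw [map_add, hc, zero_add, P.root_coroot_eq_pairing, P.pairing_same]
    have h3 := hne (y + P.coroot i) (D.add_mem hy hi) (by rw [hc2]; exact two_ne_zero)
    rw [QuadraticMap.polar_add_left, polar_self', hc2] at h3
    rw [hc, zero_mul]
    linear_combination h3
  · exact hne y hy hc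

end aux

/-- Let P be a root pairing over an integral domain R of characteristic zero (roots α acting on the
coweight module N through reflections y ↦ y − ⟨α, y⟩ α^∨), D ⊆ N a submodule containing every coroot
and such that every element of D has a positive integer multiple in the span of the coroots (the
derived part), and Y₀ a complement of D in N. Let Q_d be a quadratic form on N whose restriction to
D is invariant under all root reflections. Then there is a quadratic form on N, invariant under all
root reflections and agreeing with Q_d on D, if and only if there is an R-bilinear form Φ on N with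
Φ(y₀, α^∨) = ⟨α, y₀⟩ Q_d(α^∨) for all y₀ in Y₀ and all roots α. (In the source R = ℤ, N = Y₀ ⊕ Y_der
is the cocharacter lattice of a split reductive group, and the condition is phrased as integrality
on Y₀ × Y_der of the pairing y₀, y ↦ B(q(y₀), y) deduced from the polar form B of Q_d; that pairing
is characterised by the displayed values on coroots, only the values of Φ on Y₀ × D matter, and
forms take values in R here.) -/
theorem result {ι : Type u} {R : Type v} {M : Type w} {N : Type x} [CommRing R] [IsDomain R] [CharZero R]
    [AddCommGroup M] [Module R M] [AddCommGroup N] [Module R N] (P : RootPairing ι R M N)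
    (D Y₀ : Submodule R N) (hD : ∀ i : ι, P.coroot i ∈ D)
    (hDsat : ∀ y ∈ D, ∃ n : ℕ, 0 < n ∧ n • y ∈ Submodule.span R (Set.range P.coroot))
    (hc : IsCompl Y₀ D)
    (Qd : QuadraticMap R N R) (hQd : ∀ i : ι, ∀ y ∈ D, Qd (P.coreflection i y) = Qd y) :
    (∃ Q : QuadraticMap R N R, (∀ (i : ι) (y : N), Q (P.coreflection i y) = Q y) ∧ ∀ y ∈ D, Q y = Qd y) ↔
      ∃ Φ : N →ₗ[R] N →ₗ[R] R, ∀ y₀ ∈ Y₀, ∀ i : ι,
        Φ y₀ (P.coroot i) = P.root' i y₀ * Qd (P.coroot i) := by
  constructor
  · rintro ⟨Q, hQinv, hQD⟩
    refine ⟨QuadraticMap.polarBilin Q, ?_⟩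
    intro y₀ _ i
    rw [QuadraticMap.polarBilin_apply_apply,
      polar_of_inv P ⊤ Q i Submodule.mem_top (fun y _ => hQinv i y) y₀ Submodule.mem_top,
      hQD _ (hD i)]
  · rintro ⟨Φ, hΦ⟩
    have hadd : ∀ y : N, Y₀.projection D hc y + D.projection Y₀ hc.symm y = y :=
      fun y => Submodule.projection_add_projection_eq_self hc y
    have hpD : ∀ d ∈ D, D.projection Y₀ hc.symm d = d :=
      fun d hd => Submodule.projection_apply_of_mem_left hc.symm hd
    have hp0 : ∀ d ∈ D, Y₀.projection D hc d = 0 :=
      fun d hd => Submodule.projection_apply_of_mem_right hc hd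
    have hmemD : ∀ y : N, D.projection Y₀ hc.symm y ∈ D :=
      fun y => Submodule.projection_apply_mem hc.symm y
    have hmem0 : ∀ y : N, Y₀.projection D hc y ∈ Y₀ :=
      fun y => Submodule.projection_apply_mem hc y
    refine ⟨Qd.comp (D.projection Y₀ hc.symm) +
      LinearMap.BilinMap.toQuadraticMap
        (Φ.compl₁₂ (Y₀.projection D hc) (D.projection Y₀ hc.symm)), ?_, ?_⟩
    · intro i y
      simp only [QuadraticMap.add_apply, QuadraticMap.comp_apply,
        LinearMap.BilinMap.toQuadraticMap_apply, LinearMap.compl₁₂_apply]
      rw [P.coreflection_apply]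
      have hb := hD i
      have e1 : D.projection Y₀ hc.symm (y - P.root' i y • P.coroot i) =
          D.projection Y₀ hc.symm y - P.root' i y • P.coroot i := by
        rw [map_sub, map_smul, hpD _ hb]
      have e2 : Y₀.projection D hc (y - P.root' i y • P.coroot i) = Y₀.projection D hc y := by
        rw [map_sub, map_smul, hp0 _ hb, smul_zero, sub_zero]
      rw [e1, e2, hexp, map_sub, map_smul,
        polar_of_inv P D Qd i hb (hQd i) _ (hmemD y), hΦ _ (hmem0 y) i]
      have hsplit : P.root' i y = P.root' i (Y₀.projection D hc y) +
          P.root' i (D.projection Y₀ hc.symm y) := by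
        rw [← map_add, hadd y]
      have hrw : P.toLinearMap (P.root i) (D.projection Y₀ hc.symm y) =
          P.root' i (D.projection Y₀ hc.symm y) := rfl
      rw [hrw, smul_eq_mul, hsplit]
      ring
    · intro y hy
      simp only [QuadraticMap.add_apply, QuadraticMap.comp_apply,
        LinearMap.BilinMap.toQuadraticMap_apply, LinearMap.compl₁₂_apply]
      rw [hpD y hy, hp0 y hy, map_zero, LinearMap.zero_apply, add_zero]

end Groth.Agent.S19009
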