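import Groth.Statements.S19010
-- import your own Groth.Agent.* helpers here
import Mathlib

set_option autoImplicit false
universe u v w x
open RootD

namespace Groth.Agent.S19010

section aux
variable {ι : Type u} {R : Type v} {M : Type w} {N : Type x} [CommRing R] [IsDomain R] [CharZero R]
    [AddCommGroup M] [Module R M] [AddCommGroup N] [Module R N] (P : RootPairing ι R M N)

lemma hexp (Q : QuadraticMap R N R) (a bb : N) (c : R) :
    Q (a - c • bb) = Q a + c * c * Q bb - c * QuadraticMap.polar Q a bb := by
  rw [sub_eq_add_neg, ← neg_smul, QuadraticMap.map_add Q, QuadraticMap.map_smul,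
    QuadraticMap.polar_smul_right]
  simp only [smul_eq_mul]; ring

lemma polar_self' (Q : QuadraticMap R N R) (a : N) :
    QuadraticMap.polar Q a a = 2 * Q a := by
  rw [QuadraticMap.polar_self]
  first
    | exact (two_smul R _).trans (two_mul _).symm
    | exact (two_nsmul _).trans (two_mul _).symm

/-- Invariance on a submodule containing the coroot gives the polar formula there. -/
lemma polar_of_inv (D : Submodule R N) (Q : QuadraticMap R N R) (i : ι)
    (hi : P.coroot i ∈ D) (h : ∀ y ∈ D, Q (P.coreflection i y) = Q y) (y : N) (hy : y ∈ D) :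
    QuadraticMap.polar Q y (P.coroot i) = P.toLinearMap (P.root i) y * Q (P.coroot i) := by
  have hne : ∀ z ∈ D, P.toLinearMap (P.root i) z ≠ 0 →
      QuadraticMap.polar Q z (P.coroot i) = P.toLinearMap (P.root i) z * Q (P.coroot i) := by
    intro z hz hc
    have h1 := h z hz
    rw [P.coreflection_apply, hexp] at h1
    have h1' : Q z + P.toLinearMap (P.root i) z * P.toLinearMap (P.root i) z * Q (P.coroot i) -
        P.toLinearMap (P.root i) z * QuadraticMap.polar Q z (P.coroot i) = Q z := h1
    have h2 : P.toLinearMap (P.root i) z * (P.toLinearMap (P.root i) z * Q (P.coroot i) -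
        QuadraticMap.polar Q z (P.coroot i)) = 0 := by
      linear_combination h1'
    have h3 := (mul_eq_zero.mp h2).resolve_left hc
    linear_combination -h3
  by_cases hc : P.toLinearMap (P.root i) y = 0
  · have hc2 : P.toLinearMap (P.root i) (y + P.coroot i) = 2 := by
      rw [map_add, hc, zero_add, P.root_coroot_eq_pairing, P.pairing_same]
    have h3 := hne (y + P.coroot i) (D.add_mem hy hi) (by rw [hc2]; exact two_ne_zero)
    rw [QuadraticMap.polar_add_left, polar_self', hc2] at h3
    rw [hc, zero_mul]
    linear_combination h3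
  · exact hne y hy hc

end aux

/-- Let P be a root pairing over an integral domain R of characteristic zero (roots α acting on the
coweight module N through reflections y ↦ y − ⟨α, y⟩ α^∨), D ⊆ N a submodule containing every coroot
and such that every element of D has a positive integer multiple in the span of the coroots (the
derived part), and Y₀ a complement of D in N. Let Q' be a quadratic form on N invariant under all
root reflections. Then restriction to Y₀ is a bijection from the set of quadratic forms on N that
are invariant under all root reflections and agree with Q' on D onto the set of all quadratic forms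
on Y₀. (In the source R = ℤ and N = Y₀ ⊕ Y_der is the cocharacter lattice of a split reductive
group; forms take values in R here.) -/
theorem result {ι : Type u} {R : Type v} {M : Type w} {N : Type x} [CommRing R] [IsDomain R] [CharZero R]
    [AddCommGroup M] [Module R M] [AddCommGroup N] [Module R N] (P : RootPairing ι R M N)
    (D Y₀ : Submodule R N) (hD : ∀ i : ι, P.coroot i ∈ D)
    (hDsat : ∀ y ∈ D, ∃ n : ℕ, 0 < n ∧ n • y ∈ Submodule.span R (Set.range P.coroot))
    (hc : IsCompl Y₀ D)
    (Q' : QuadraticMap R N R) (hQ' : ∀ (i : ι) (y : N), Q' (P.coreflection i y) = Q' y) :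
    Set.BijOn (fun Q : QuadraticMap R N R => Q.comp Y₀.subtype)
      {Q | (∀ (i : ι) (y : N), Q (P.coreflection i y) = Q y) ∧ ∀ y ∈ D, Q y = Q' y} Set.univ := by
  have hadd : ∀ y : N, Y₀.projection D hc y + D.projection Y₀ hc.symm y = y :=
    fun y => Submodule.projection_add_projection_eq_self hc y
  have hp0 : ∀ d ∈ D, Y₀.projection D hc d = 0 :=
    fun d hd => Submodule.projection_apply_of_mem_right hc hd
  have hmemD : ∀ y : N, D.projection Y₀ hc.symm y ∈ D :=
    fun y => Submodule.projection_apply_mem hc.symm y
  have hmem0 : ∀ y : N, Y₀.projection D hc y ∈ Y₀ :=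
    fun y => Submodule.projection_apply_mem hc y
  refine ⟨fun _ _ => Set.mem_univ _, ?_, ?_⟩
  · intro Q₁ h₁ Q₂ h₂ heq
    obtain ⟨h₁inv, h₁D⟩ := h₁
    obtain ⟨h₂inv, h₂D⟩ := h₂
    have hY : ∀ y ∈ Y₀, Q₁ y = Q₂ y := by
      intro y hy
      have := congrArg (fun q : QuadraticMap R Y₀ R => q ⟨y, hy⟩) heq
      simpa using this
    have hcross : ∀ y₀ ∈ Y₀, ∀ d ∈ D,
        QuadraticMap.polar Q₁ y₀ d = QuadraticMap.polar Q₂ y₀ d := by
      intro y₀ hy₀ d hd
      have hspan : ∀ z ∈ Submodule.span R (Set.range P.coroot),
          QuadraticMap.polar Q₁ y₀ z = QuadraticMap.polar Q₂ y₀ z := by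
        intro z hz
        induction hz using Submodule.span_induction with
        | mem z hz =>
          obtain ⟨i, rfl⟩ := hz
          rw [polar_of_inv P ⊤ Q₁ i Submodule.mem_top (fun y _ => h₁inv i y) y₀ Submodule.mem_top,
            polar_of_inv P ⊤ Q₂ i Submodule.mem_top (fun y _ => h₂inv i y) y₀ Submodule.mem_top,
            h₁D _ (hD i), h₂D _ (hD i)]
        | zero => simp
        | add a b _ _ ha hb =>
          rw [QuadraticMap.polar_add_right, QuadraticMap.polar_add_right, ha, hb]
        | smul c a _ ha =>
          rw [QuadraticMap.polar_smul_right, QuadraticMap.polar_smul_right, ha]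
      obtain ⟨n, hn, hnd⟩ := hDsat d hd
      have h := hspan _ hnd
      rw [← Nat.cast_smul_eq_nsmul R n d, QuadraticMap.polar_smul_right,
        QuadraticMap.polar_smul_right, smul_eq_mul, smul_eq_mul] at h
      exact mul_left_cancel₀ (Nat.cast_ne_zero.mpr hn.ne') h
    refine QuadraticMap.ext (fun y => ?_)
    have e1 := congrArg Q₁ (hadd y)
    have e2 := congrArg Q₂ (hadd y)
    rw [← e1, ← e2, QuadraticMap.map_add Q₁, QuadraticMap.map_add Q₂, hY _ (hmem0 y),
      h₁D _ (hmemD y), h₂D _ (hmemD y), hcross _ (hmem0 y) _ (hmemD y)]
  · intro q₀ _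
    refine ⟨Q' - Q'.comp (Y₀.projection D hc) + q₀.comp (Y₀.projectionOnto D hc),
      ⟨?_, ?_⟩, ?_⟩
    · intro i y
      have hb := hD i
      have e2 : Y₀.projection D hc (P.coreflection i y) = Y₀.projection D hc y := by
        rw [P.coreflection_apply, map_sub, map_smul, hp0 _ hb, smul_zero, sub_zero]
      have e3 : Y₀.projectionOnto D hc (P.coreflection i y) = Y₀.projectionOnto D hc y := by
        apply Subtype.ext
        exact e2
      simp only [QuadraticMap.add_apply, QuadraticMap.sub_apply, QuadraticMap.comp_apply]
      rw [hQ' i y, e2, e3]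
    · intro y hy
      simp only [QuadraticMap.add_apply, QuadraticMap.sub_apply, QuadraticMap.comp_apply]
      have e3 : Y₀.projectionOnto D hc y = 0 :=
        Submodule.projectionOnto_apply_of_mem_right hc hy
      rw [hp0 y hy, e3, QuadraticMap.map_zero, QuadraticMap.map_zero, sub_zero, add_zero]
    · refine QuadraticMap.ext (fun y₀ => ?_)
      simp only [QuadraticMap.comp_apply, QuadraticMap.add_apply, QuadraticMap.sub_apply,
        Submodule.subtype_apply]
      rw [Submodule.projection_apply_of_mem_left hc y₀.2, Submodule.projectionOnto_apply_left hc y₀,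
        sub_self, zero_add]

end Groth.Agent.S19010
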