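import Groth.Statements.S19012
-- import your own Groth.Agent.* helpers here
import Mathlib

set_option autoImplicit false
universe u v w x
open RootD

namespace Groth.Agent.S19012

lemma hexp {R : Type*} {N : Type*} [CommRing R] [AddCommGroup N] [Module R N]
    (Q : QuadraticMap R N R) (a bb : N) (c : R) :
    Q (a - c • bb) = Q a + c * c * Q bb - c * QuadraticMap.polar Q a bb := by
  rw [sub_eq_add_neg, ← neg_smul, QuadraticMap.map_add Q, QuadraticMap.map_smul,
    QuadraticMap.polar_smul_right]
  simp only [smul_eq_mul]; ring

/-- Let P be a finite reduced crystallographic root pairing over a field of characteristic zero which is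
irreducible, and b a base. A quadratic form on the coweight module that is invariant under all root
reflections and vanishes on some simple coroot is zero; in other words an invariant form is
determined by its value on a single simple coroot. (The source proves, component by component of the
Dynkin diagram, that an invariant integer-valued form on the coroot lattice with prescribed value on
the first simple coroot of each component is unique; here the system is irreducible, the coroots
span the coweight module, and forms take values in the base field.) -/
theorem result {ι : Type u} {K : Type v} {M : Type w} {N : Type x} [Field K] [CharZero K]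
    [AddCommGroup M] [Module K M] [AddCommGroup N] [Module K N] (P : RootPairing ι K M N)
    [Finite ι] [P.IsCrystallographic] [P.IsReduced] [P.IsIrreducible] (b : P.Base)
    (Q : QuadraticMap K N K) (hQ : ∀ (i : ι) (y : N), Q (P.coreflection i y) = Q y)
    (i₀ : ι) (hi₀ : i₀ ∈ b.support) (h0 : Q (P.coroot i₀) = 0) : Q = 0 := by
  have hinv : ∀ (i : ι) (x y : N),
      QuadraticMap.polar Q (P.coreflection i x) (P.coreflection i y) = QuadraticMap.polar Q x y := by
    intro i x y
    simp only [QuadraticMap.polar, ← map_add, hQ]
  have hpb : QuadraticMap.polar Q (P.coroot i₀) (P.coroot i₀) = 0 := by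
    rw [QuadraticMap.polar_self, h0]; simp
  have hb0 : ∀ y : N, QuadraticMap.polar Q y (P.coroot i₀) = 0 := by
    have hne : ∀ y : N, P.toLinearMap (P.root i₀) y ≠ 0 →
        QuadraticMap.polar Q y (P.coroot i₀) = 0 := by
      intro y hc
      have h1 := hQ i₀ y
      rw [P.coreflection_apply, hexp, h0, mul_zero, add_zero] at h1
      have h1' : Q y - P.toLinearMap (P.root i₀) y * QuadraticMap.polar Q y (P.coroot i₀) =
          Q y := h1
      have h2 : P.toLinearMap (P.root i₀) y * QuadraticMap.polar Q y (P.coroot i₀) = 0 := by
        linear_combination -h1'
      exact (mul_eq_zero.mp h2).resolve_left hc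
    intro y
    by_cases hc : P.toLinearMap (P.root i₀) y = 0
    · have h3 := hne (y + P.coroot i₀) (by
        rw [map_add, hc, zero_add, P.root_coroot_eq_pairing, P.pairing_same]
        exact two_ne_zero)
      rw [QuadraticMap.polar_add_left, hpb, add_zero] at h3
      exact h3
    · exact hne y hc
  have hmem : ∀ y, y ∈ LinearMap.ker (QuadraticMap.polarBilin Q) ↔
      ∀ x, QuadraticMap.polar Q y x = 0 := by
    intro y
    simp only [LinearMap.mem_ker, LinearMap.ext_iff, QuadraticMap.polarBilin_apply_apply,
      LinearMap.zero_apply]
  have hRinv : ∀ i, LinearMap.ker (QuadraticMap.polarBilin Q) ∈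
      Module.End.invtSubmodule (P.coreflection i : N →ₗ[K] N) := by
    intro i y hy
    show (P.coreflection i) y ∈ LinearMap.ker (QuadraticMap.polarBilin Q)
    rw [hmem] at hy ⊢
    intro x
    have := hinv i y (P.coreflection i x)
    rw [P.coreflection_same] at this
    rw [this]; exact hy _
  have hRne : LinearMap.ker (QuadraticMap.polarBilin Q) ≠ ⊥ := by
    intro hbot
    have : P.coroot i₀ ∈ LinearMap.ker (QuadraticMap.polarBilin Q) :=
      (hmem _).mpr (fun x => by rw [QuadraticMap.polar_comm]; exact hb0 x)
    rw [hbot, Submodule.mem_bot] at this
    exact P.ne_zero' i₀ this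
  have hRtop : LinearMap.ker (QuadraticMap.polarBilin Q) = ⊤ :=
    RootPairing.IsIrreducible.eq_top_of_invtSubmodule_coreflection _ hRinv hRne
  refine QuadraticMap.ext (fun y => ?_)
  rw [QuadraticMap.zero_apply]
  have hy : y ∈ LinearMap.ker (QuadraticMap.polarBilin Q) := hRtop ▸ Submodule.mem_top
  have h1 := (hmem y).mp hy y
  rw [QuadraticMap.polar_self] at h1
  have h2 : Q y + Q y = 0 := by
    first
      | (rw [two_smul] at h1; exact h1)
      | (rw [two_nsmul] at h1; exact h1)
  exact add_self_eq_zero.mp h2

end Groth.Agent.S19012
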