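import Groth.Statements.S19013
import Mathlib
import Groth.Agent.Lib.helper9.MilK

set_option autoImplicit false
universe u v
open MilnorK

namespace Groth.Agent.S19013

/-- Let A ⊆ B be discrete valuation rings, the inclusion being a local homomorphism, with fraction
fields E ⊆ F compatibly, with the induced homomorphism of residue fields κ(A) → κ(B), and with
ramification index e, the natural number such that the maximal ideal of A generates the e-th power
of the maximal ideal of B. Let ∂_A : K_{n+1}(E) → K_n(κ(A)) and ∂_B : K_{n+1}(F) → K_n(κ(B)) be the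
residue maps (tame symbols) on Milnor K-groups. Then for every x in K_{n+1}(E) one has ∂_B(x_F) = e
· (∂_A x)_{κ(B)}, where the subscripts denote the change-of-fields maps along E → F and κ(A) → κ(B).
(The published statement concerns discrete valuations of geometric type on fields finitely generated
over a base field; it is stated here for an arbitrary pair of discrete valuation rings, which is all
the printed computation uses.) -/
theorem result
    (A B : Type u) [CommRing A] [IsDomain A] [IsDiscreteValuationRing A]
    [CommRing B] [IsDomain B] [IsDiscreteValuationRing B] [Algebra A B] [IsLocalHom (algebraMap A B)]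
    (E F : Type v) [Field E] [Field F] [Algebra A E] [IsFractionRing A E] [Algebra B F] [IsFractionRing B F]
    [Algebra E F] [Algebra A F] [IsScalarTower A E F] [IsScalarTower A B F]
    (e : ℕ) (he : Ideal.map (algebraMap A B) (IsLocalRing.maximalIdeal A) = IsLocalRing.maximalIdeal B ^ e)
    (n : ℕ) (dA : MilK.K E (n + 1) →+ MilK.K (IsLocalRing.ResidueField A) n) (hdA : MilK.IsTameSymbol A E n dA)
    (dB : MilK.K F (n + 1) →+ MilK.K (IsLocalRing.ResidueField B) n) (hdB : MilK.IsTameSymbol B F n dB)
    (x : MilK.K E (n + 1)) :
    dB (MilK.map (algebraMap E F) (n + 1) x) =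
      e • MilK.map (IsLocalRing.ResidueField.map (algebraMap A B)) n (dA x) := by
  have hunit : ∀ w : Aˣ, Units.map (algebraMap E F : E →* F) (MilK.unitToFrac A E w) =
      MilK.unitToFrac B F (Units.map (algebraMap A B : A →* B) w) := by
    intro w
    apply Units.ext
    simp only [MilK.unitToFrac, Units.coe_map, MonoidHom.coe_coe]
    rw [← IsScalarTower.algebraMap_apply A E F, ← IsScalarTower.algebraMap_apply A B F]
  have hres : ∀ w : Aˣ, MilK.unitResidue B (Units.map (algebraMap A B : A →* B) w) =
      Units.map (IsLocalRing.ResidueField.map (algebraMap A B) : _ →* _) (MilK.unitResidue A w) := by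
    intro w
    apply Units.ext
    simp [MilK.unitResidue, IsLocalRing.ResidueField.map_residue]
  have key : dB.comp (MilK.map (algebraMap E F) (n + 1)) =
      (nsmulAddMonoidHom e).comp
        ((MilK.map (IsLocalRing.ResidueField.map (algebraMap A B)) n).comp dA) := by
    apply H9MilK.hom_ext_gen A E
    rintro s (⟨ϖ, hϖ, w, rfl⟩ | ⟨v, rfl⟩)
    · simp only [AddMonoidHom.comp_apply, nsmulAddMonoidHom_apply]
      rw [hdA ϖ hϖ w, MilK.map_symbol, MilK.map_symbol]
      obtain ⟨ϖB, hϖB⟩ := IsDiscreteValuationRing.exists_irreducible B
      -- algebraMap ϖ = ϖB ^ e * c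
      have hspan : Ideal.span {algebraMap A B ϖ} = Ideal.span {ϖB ^ e} := by
        rw [← Ideal.span_singleton_pow, ← hϖB.maximalIdeal_eq, ← he, hϖ.maximalIdeal_eq,
          Ideal.map_span, Set.image_singleton]
      obtain ⟨c, hc⟩ := Ideal.span_singleton_eq_span_singleton.1 hspan
      have hϖmap : Units.map (algebraMap E F : E →* F) (MilK.unitFrac A E ϖ hϖ.ne_zero) =
          MilK.unitFrac B F ϖB hϖB.ne_zero ^ (e : ℤ) * MilK.unitToFrac B F c⁻¹ := by
        apply Units.ext
        simp only [Units.coe_map, MonoidHom.coe_coe, MilK.coe_unitFrac, Units.val_mul,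
          Units.val_pow_eq_pow_val, zpow_natCast, MilK.unitToFrac]
        rw [← IsScalarTower.algebraMap_apply A E F, IsScalarTower.algebraMap_apply A B F,
          ← map_pow, ← map_mul]
        congr 1
        rw [← hc, mul_assoc, Units.mul_inv, mul_one]
      have hfun : (fun i => Units.map (algebraMap E F : E →* F)
          ((Fin.cons (MilK.unitFrac A E ϖ hϖ.ne_zero) (fun i => MilK.unitToFrac A E (w i)) :
            Fin (n + 1) → Eˣ) i)) =
          (Fin.cons (MilK.unitFrac B F ϖB hϖB.ne_zero ^ (e : ℤ) * MilK.unitToFrac B F c⁻¹)
            (fun i => MilK.unitToFrac B F (Units.map (algebraMap A B : A →* B) (w i))) :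
            Fin (n + 1) → Fˣ) := by
        funext i
        refine Fin.cases ?_ (fun j => ?_) i
        · simp only [Fin.cons_zero]
          exact hϖmap
        · simp only [Fin.cons_succ]
          exact hunit (w j)
      have hfun' : (fun i => Units.map (↑(algebraMap E F) : E →* F)
          ((Fin.cons (MilK.unitFrac A E ϖ hϖ.ne_zero) (fun i => MilK.unitToFrac A E (w i)) :
            Fin (n + 1) → Eˣ) i)) = _ := hfun
      rw [hfun', H9MilK.symbol_cons_zpow_mul, map_add, map_zsmul,
        hdB ϖB hϖB (fun i => Units.map (algebraMap A B : A →* B) (w i)),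
        H9MilK.unit_cons, H9MilK.tame_units B F dB hdB, add_zero, natCast_zsmul]
      have hresfun : (fun i => (MilK.unitResidue B) ((Units.map (algebraMap A B : A →* B)) (w i))) =
          fun i => (Units.map (IsLocalRing.ResidueField.map (algebraMap A B) : _ →* _))
            ((MilK.unitResidue A) (w i)) := funext fun i => hres (w i)
      rw [hresfun]
    · simp only [AddMonoidHom.comp_apply, nsmulAddMonoidHom_apply]
      rw [H9MilK.tame_units A E dA hdA, map_zero, smul_zero, MilK.map_symbol]
      have hfun : (fun i => Units.map (↑(algebraMap E F) : E →* F) (MilK.unitToFrac A E (v i))) =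
          fun i => MilK.unitToFrac B F (Units.map (algebraMap A B : A →* B) (v i)) := by
        funext i
        exact hunit (v i)
      rw [hfun, H9MilK.tame_units B F dB hdB]
  have := DFunLike.congr_fun key x
  simpa using this

end Groth.Agent.S19013
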