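import Groth.Statements.S19014
import Mathlib

set_option autoImplicit false
universe u v
open MilnorK

namespace Groth.Agent.S19014

/-- Let B be a discrete valuation ring with fraction field F and residue field κ, and let E be a field
equipped with a ring homomorphism into B, hence into F, so that the valuation of F is trivial on E.
If ∂ : K_{n+1}(F) → K_n(κ) is the residue map (tame symbol) on Milnor K-groups, then ∂(x_F) = 0 for
every x in K_{n+1}(E). (The published statement concerns discrete valuations of geometric type on
fields finitely generated over a base field; it is stated here for an arbitrary discrete valuation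
ring, which is all the printed computation uses.) -/
theorem result
    (B : Type u) [CommRing B] [IsDomain B] [IsDiscreteValuationRing B]
    (E F : Type v) [Field E] [Field F] [Algebra B F] [IsFractionRing B F]
    [Algebra E B] [Algebra E F] [IsScalarTower E B F]
    (n : ℕ) (d : MilK.K F (n + 1) →+ MilK.K (IsLocalRing.ResidueField B) n) (hd : MilK.IsTameSymbol B F n d)
    (x : MilK.K E (n + 1)) :
    d (MilK.map (algebraMap E F) (n + 1) x) = 0 := by
  have hcons : ∀ (a b : Fˣ) (rest : Fin n → Fˣ),
      (MilK.symbol (Fin.cons (a * b) rest : Fin (n + 1) → Fˣ) : MilK.K F (n + 1)) =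
        MilK.symbol (Fin.cons a rest : Fin (n + 1) → Fˣ) + MilK.symbol (Fin.cons b rest : Fin (n + 1) → Fˣ) := by
    intro a b rest
    have e : ∀ c : Fˣ, (fun i => Additive.ofMul ((Fin.cons c rest : Fin (n + 1) → Fˣ) i)) =
        (Fin.cons (Additive.ofMul c) (fun i => Additive.ofMul (rest i)) : Fin (n + 1) → Additive Fˣ) := by
      intro c
      funext i
      refine Fin.cases ?_ (fun j => ?_) i <;> simp
    unfold MilK.symbol
    rw [e, e, e, ← map_add]
    congr 1
    have : Additive.ofMul (a * b) = Additive.ofMul a + Additive.ofMul b := rfl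
    rw [this]
    exact (PiTensorProduct.tprod ℤ (s := fun _ : Fin (n + 1) => Additive Fˣ)).cons_add _ _ _
  have hunits : ∀ v : Fin (n + 1) → Bˣ,
      d (MilK.symbol (fun i => MilK.unitToFrac B F (v i))) = 0 := by
    intro v
    obtain ⟨ϖ, hϖ⟩ := IsDiscreteValuationRing.exists_irreducible B
    have hϖ' : Irreducible (ϖ * (v 0 : B)) :=
      (associated_mul_unit_right ϖ _ (v 0).isUnit).irreducible hϖ
    have h1 := hd ϖ hϖ (fun i => v i.succ)
    have h2 := hd (ϖ * (v 0 : B)) hϖ' (fun i => v i.succ)
    have e1 : MilK.unitFrac B F (ϖ * (v 0 : B)) hϖ'.ne_zero =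
        MilK.unitFrac B F ϖ hϖ.ne_zero * MilK.unitToFrac B F (v 0) := by
      apply Units.ext
      simp [MilK.unitToFrac, map_mul]
    rw [e1, hcons, map_add, h1] at h2
    have e2 : (fun i => MilK.unitToFrac B F (v i)) =
        (Fin.cons (MilK.unitToFrac B F (v 0)) (fun i => MilK.unitToFrac B F (v i.succ)) : Fin (n + 1) → Fˣ) := by
      funext i
      refine Fin.cases ?_ (fun j => ?_) i <;> simp
    rw [e2]
    exact left_eq_add.mp h2.symm |> fun h => h
  obtain ⟨t, rfl⟩ := MilK.mk_surjective E (n + 1) x
  induction t using PiTensorProduct.induction_on with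
  | smul_tprod r f =>
    rw [map_zsmul, map_zsmul, map_zsmul, MilK.mk_tprod, MilK.map_symbol]
    have e3 : (fun i => Units.map (algebraMap E F : E →* F) ((f i).toMul)) =
        fun i => MilK.unitToFrac B F (Units.map (algebraMap E B : E →* B) ((f i).toMul)) := by
      funext i
      apply Units.ext
      simp [MilK.unitToFrac, IsScalarTower.algebraMap_apply E B F]
    have := hunits (fun i => Units.map (algebraMap E B : E →* B) ((f i).toMul))
    rw [← e3] at this
    rw [show (fun i => Units.map (↑(algebraMap E F) : E →* F) ((f i).toMul)) =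
      (fun i => Units.map (algebraMap E F : E →* F) ((f i).toMul)) from rfl, this, smul_zero]
  | add x y hx hy =>
    rw [map_add, map_add, map_add, hx, hy, add_zero]

end Groth.Agent.S19014
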