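import Groth.Statements.S19016
import Mathlib
import Groth.Agent.Lib.helper9.MilK

set_option autoImplicit false
universe u v
open MilnorK

namespace Groth.Agent.S19016

/-- Let B be a discrete valuation ring with fraction field F and residue field κ, let u be a unit of B
with residue class ū, and let ∂ denote the residue maps (tame symbols) K_{n+1}(F) → K_n(κ) and
K_{n+2}(F) → K_{n+1}(κ) on Milnor K-groups. Then ∂({u} · ρ) = −{ū} · ∂(ρ) for every ρ in K_{n+1}(F),
the products {u} · ρ in K_{1+(n+1)}(F) and {ū} · ∂ρ in K_{1+n}(κ) being regarded in K_{n+2}(F) and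
K_{n+1}(κ). (The published statement concerns discrete valuations of geometric type on fields
finitely generated over a base field; it is stated here for an arbitrary discrete valuation ring,
which is all the printed computation uses.) -/
theorem result
    (B : Type u) [CommRing B] [IsDomain B] [IsDiscreteValuationRing B]
    (F : Type v) [Field F] [Algebra B F] [IsFractionRing B F] (n : ℕ)
    (d : MilK.K F (n + 1) →+ MilK.K (IsLocalRing.ResidueField B) n) (hd : MilK.IsTameSymbol B F n d)
    (d' : MilK.K F (n + 1 + 1) →+ MilK.K (IsLocalRing.ResidueField B) (n + 1))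
    (hd' : MilK.IsTameSymbol B F (n + 1) d')
    (u : Bˣ) (ρ : MilK.K F (n + 1)) :
    d' (MilK.cast F (Nat.add_comm 1 (n + 1)) (MilK.mul F 1 (n + 1) (MilK.symbol ![MilK.unitToFrac B F u]) ρ)) =
      -(MilK.cast (IsLocalRing.ResidueField B) (Nat.add_comm 1 n)
          (MilK.mul (IsLocalRing.ResidueField B) 1 n (MilK.symbol ![MilK.unitResidue B u]) (d ρ))) := by
  have key : d'.comp (H9MilK.lmul (MilK.unitToFrac B F u) (n + 1)) =
      -((H9MilK.lmul (MilK.unitResidue B u) n).comp d) := by
    apply H9MilK.hom_ext_gen B F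
    rintro s (⟨ϖ, hϖ, w, rfl⟩ | ⟨v, rfl⟩)
    · simp only [AddMonoidHom.comp_apply, AddMonoidHom.neg_apply]
      rw [H9MilK.lmul_symbol, H9MilK.symbol_cons_cons_swap, map_neg, H9MilK.unit_cons,
        hd' ϖ hϖ (Fin.cons u w), hd ϖ hϖ w, H9MilK.lmul_symbol]
      congr 2
      funext i
      refine Fin.cases ?_ (fun j => ?_) i <;> simp
    · simp only [AddMonoidHom.comp_apply, AddMonoidHom.neg_apply]
      rw [H9MilK.lmul_symbol, H9MilK.unit_cons, H9MilK.tame_units B F d' hd',
        H9MilK.tame_units B F d hd, map_zero, neg_zero]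
  have := DFunLike.congr_fun key ρ
  simpa [H9MilK.lmul] using this

end Groth.Agent.S19016
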