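import Groth.Statements.S19019
import Mathlib

set_option autoImplicit false
open scoped ComplexOrder
open Toeplitz

namespace Groth.Agent.S19019

/-- Let A be an m × m complex Hermitian Toeplitz matrix, with entries A i j = t (j - i) constant along
diagonals, and let f(y) = Σ_{-m < k < m} t k · exp(i k y) be the trigonometric polynomial attached
to it. If f has positive real part at every real y outside a countable set, then A is positive
definite (hence nondegenerate). (The source also states the mirror case: f negative off a countable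
set gives A negative definite, which is this statement for -A.) -/
theorem result
    (m : ℕ) (t : ℤ → ℂ) (A : Matrix (Fin m) (Fin m) ℂ)
    (hA : ∀ i j : Fin m, A i j = t ((j : ℤ) - (i : ℤ))) (hH : A.IsHermitian)
    (hpos : Set.Countable {y : ℝ | ¬ 0 < (∑ k ∈ Finset.Ioo (-(m : ℤ)) (m : ℤ),
        t k * Complex.exp (Complex.I * (k : ℂ) * (y : ℂ))).re}) :
    A.PosDef := by
  classical
  rw [Matrix.posDef_iff_dotProduct_mulVec]
  refine ⟨hH, fun x hx => ?_⟩
  set N : ℕ := 2 * m + 1 with hN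
  have hNpos : 0 < N := by omega
  have hNne : (N : ℂ) ≠ 0 := by exact_mod_cast hNpos.ne'
  set ω : ℂ := Complex.exp (2 * Real.pi * Complex.I / N) with hω_def
  have hω : IsPrimitiveRoot ω N := Complex.isPrimitiveRoot_exp N hNpos.ne'
  set Bd : Set ℝ := {y : ℝ | ¬ 0 < (∑ k ∈ Finset.Ioo (-(m : ℤ)) (m : ℤ),
        t k * Complex.exp (Complex.I * (k : ℂ) * (y : ℂ))).re} with hBd
  have hcount : (⋃ l : ℕ, (fun y : ℝ => y - 2 * Real.pi * l / N) '' Bd).Countable :=
    Set.countable_iUnion (fun l => hpos.image _)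
  obtain ⟨θ, hθ⟩ : ∃ θ : ℝ, θ ∉ ⋃ l : ℕ, (fun y : ℝ => y - 2 * Real.pi * l / N) '' Bd := by
    by_contra h
    push Not at h
    exact Cardinal.not_countable_real (hcount.mono (fun θ _ => h θ))
  have hgood : ∀ l : ℕ, 0 < (∑ k ∈ Finset.Ioo (-(m : ℤ)) (m : ℤ),
      t k * Complex.exp (Complex.I * (k : ℂ) * ((θ + 2 * Real.pi * l / N : ℝ) : ℂ))).re := by
    intro l
    by_contra hn
    apply hθ
    refine Set.mem_iUnion.mpr ⟨l, ⟨θ + 2 * Real.pi * l / N, hn, ?_⟩⟩
    simp
  set ζ : ℂ := Complex.exp (Complex.I * (θ : ℂ)) with hζ_def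
  have hζnorm : ‖ζ‖ = 1 := by rw [hζ_def, mul_comm]; exact Complex.norm_exp_ofReal_mul_I θ
  have hωnorm : ‖ω‖ = 1 := hω.norm'_eq_one hNpos.ne'
  let z : ℕ → ℂ := fun l => ζ * ω ^ l
  have hznorm : ∀ l, ‖z l‖ = 1 := by intro l; simp [z, hζnorm, hωnorm]
  have hzne : ∀ l, z l ≠ 0 := fun l h => by
    have := hznorm l; rw [h, norm_zero] at this; exact zero_ne_one this
  have hzconj : ∀ l, (starRingEnd ℂ) (z l) = (z l)⁻¹ := by
    intro l
    have : z l * (starRingEnd ℂ) (z l) = 1 := by
      rw [Complex.mul_conj, Complex.normSq_eq_norm_sq, hznorm]; simp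
    exact eq_inv_of_mul_eq_one_right this
  have hzexp : ∀ (l : ℕ) (k : ℤ),
      Complex.exp (Complex.I * (k : ℂ) * ((θ + 2 * Real.pi * l / N : ℝ) : ℂ)) = (z l) ^ k := by
    intro l k
    have h1 : Complex.I * (k : ℂ) * ((θ + 2 * Real.pi * l / N : ℝ) : ℂ) =
        (k : ℂ) * (Complex.I * (θ : ℂ) + (l : ℂ) * (2 * Real.pi * Complex.I / N)) := by
      push_cast; ring
    rw [h1, Complex.exp_int_mul, Complex.exp_add, Complex.exp_nat_mul]
  let P : ℕ → ℂ := fun l => ∑ j : Fin m, x j * (z l) ^ (-((j : ℕ) : ℤ))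
  have hPconj : ∀ l, (starRingEnd ℂ) (P l) =
      ∑ i : Fin m, (starRingEnd ℂ) (x i) * (z l) ^ (((i : ℕ) : ℤ)) := by
    intro l
    simp only [P, map_sum, map_mul]
    apply Finset.sum_congr rfl; intro i _
    congr 1
    rw [map_zpow₀, hzconj, inv_zpow', neg_neg]
  have horth : ∀ r : ℤ, |r| < (N : ℤ) →
      ∑ l ∈ Finset.range N, (z l) ^ r = if r = 0 then (N : ℂ) else 0 := by
    intro r hr
    have h1 : ∀ l : ℕ, (z l) ^ r = ζ ^ r * (ω ^ r) ^ l := by
      intro l
      simp only [z]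
      rw [mul_zpow, ← zpow_natCast ω l, ← zpow_mul, mul_comm (l : ℤ) r, zpow_mul, zpow_natCast]
    simp_rw [h1, ← Finset.mul_sum]
    split_ifs with h0
    · subst h0; simp
    · have hne : ω ^ r ≠ 1 := by
        intro h
        rw [hω.zpow_eq_one_iff_dvd] at h
        exact h0 (Int.eq_zero_of_abs_lt_dvd h hr)
      have hpowN : (ω ^ r) ^ N = 1 := by
        rw [← zpow_natCast (ω ^ r) N, ← zpow_mul, mul_comm, zpow_mul, zpow_natCast,
          hω.pow_eq_one, one_zpow]
      rw [geom_sum_eq hne, hpowN, sub_self, zero_div]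
      simp
  have key : ∀ t' : ℤ → ℂ, ∑ l ∈ Finset.range N, ((starRingEnd ℂ) (P l) * P l) *
      (∑ k ∈ Finset.Ioo (-(m : ℤ)) (m : ℤ), t' k * (z l) ^ k) =
      (N : ℂ) * ∑ i : Fin m, ∑ j : Fin m,
        (starRingEnd ℂ) (x i) * t' (((j : ℕ) : ℤ) - ((i : ℕ) : ℤ)) * x j := by
    intro t'
    have hexpand : ∀ l, ((starRingEnd ℂ) (P l) * P l) *
        (∑ k ∈ Finset.Ioo (-(m : ℤ)) (m : ℤ), t' k * (z l) ^ k) =
        ∑ i : Fin m, ∑ j : Fin m, ∑ k ∈ Finset.Ioo (-(m : ℤ)) (m : ℤ),
          (starRingEnd ℂ) (x i) * x j * t' k * (z l) ^ (((i : ℕ) : ℤ) - ((j : ℕ) : ℤ) + k) := by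
      intro l
      rw [hPconj l]
      simp only [P]
      rw [Finset.sum_mul_sum, Finset.sum_mul]
      apply Finset.sum_congr rfl; intro i _
      rw [Finset.sum_mul]
      apply Finset.sum_congr rfl; intro j _
      rw [Finset.mul_sum]
      apply Finset.sum_congr rfl; intro k _
      rw [zpow_add₀ (hzne l), zpow_sub₀ (hzne l), zpow_neg]
      ring
    simp_rw [hexpand]
    rw [Finset.sum_comm, Finset.mul_sum]
    apply Finset.sum_congr rfl; intro i _
    rw [Finset.sum_comm, Finset.mul_sum]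
    apply Finset.sum_congr rfl; intro j _
    rw [Finset.sum_comm]
    have hk : ∀ k ∈ Finset.Ioo (-(m : ℤ)) (m : ℤ), ∑ l ∈ Finset.range N,
        (starRingEnd ℂ) (x i) * x j * t' k * (z l) ^ (((i : ℕ) : ℤ) - ((j : ℕ) : ℤ) + k) =
        (starRingEnd ℂ) (x i) * x j * t' k *
          (if ((i : ℕ) : ℤ) - ((j : ℕ) : ℤ) + k = 0 then (N : ℂ) else 0) := by
      intro k hk
      rw [← Finset.mul_sum, horth]
      rw [Finset.mem_Ioo] at hk
      have hi := i.2
      have hj := j.2
      rw [abs_lt]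
      constructor <;> omega
    rw [Finset.sum_congr rfl hk]
    rw [Finset.sum_eq_single (((j : ℕ) : ℤ) - ((i : ℕ) : ℤ))]
    · rw [if_pos (by ring)]; ring
    · intro k _ hkne
      rw [if_neg, mul_zero]
      intro h
      apply hkne
      omega
    · intro h
      exfalso
      apply h
      rw [Finset.mem_Ioo]
      have hi := i.2
      have hj := j.2
      constructor <;> omega
  have hS : star x ⬝ᵥ (A.mulVec x) = ∑ i : Fin m, ∑ j : Fin m,
      (starRingEnd ℂ) (x i) * t (((j : ℕ) : ℤ) - ((i : ℕ) : ℤ)) * x j := by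
    simp only [dotProduct, Matrix.mulVec, Pi.star_apply, Finset.mul_sum]
    apply Finset.sum_congr rfl; intro i _
    apply Finset.sum_congr rfl; intro j _
    rw [hA, starRingEnd_apply, mul_assoc]
  have hSim : (star x ⬝ᵥ (A.mulVec x)).im = 0 := by
    rw [← Complex.conj_eq_iff_im]
    simp only [dotProduct, Matrix.mulVec, Pi.star_apply, map_sum, map_mul, Finset.mul_sum]
    rw [Finset.sum_comm]
    apply Finset.sum_congr rfl; intro a _
    apply Finset.sum_congr rfl; intro b _
    have h1 := hH.apply a b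
    simp only [starRingEnd_apply, star_star]
    rw [h1]
    ring
  -- the main positivity
  have hF : ∀ l : ℕ, (∑ k ∈ Finset.Ioo (-(m : ℤ)) (m : ℤ), t k * (z l) ^ k).re > 0 := by
    intro l
    have := hgood l
    simp_rw [hzexp] at this
    exact this
  have hmain := key t
  rw [← hS] at hmain
  have hre : (N : ℝ) * (star x ⬝ᵥ (A.mulVec x)).re =
      ∑ l ∈ Finset.range N, Complex.normSq (P l) *
        (∑ k ∈ Finset.Ioo (-(m : ℤ)) (m : ℤ), t k * (z l) ^ k).re := by
    have h1 := congrArg Complex.re hmain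
    rw [Complex.re_sum] at h1
    rw [show ((N : ℂ) * (star x ⬝ᵥ (A.mulVec x))).re = (N : ℝ) * (star x ⬝ᵥ (A.mulVec x)).re by
      rw [← Complex.ofReal_natCast, Complex.re_ofReal_mul]] at h1
    rw [← h1]
    apply Finset.sum_congr rfl; intro l _
    rw [← Complex.normSq_eq_conj_mul_self, Complex.re_ofReal_mul]
  have hexists : ∃ l ∈ Finset.range N, P l ≠ 0 := by
    by_contra hcon
    push Not at hcon
    have hδ := key (fun k => if k = 0 then 1 else 0)
    rw [Finset.sum_eq_zero (fun l hl => by rw [hcon l hl]; simp)] at hδ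
    have hsum0 : ∑ i : Fin m, ∑ j : Fin m, (starRingEnd ℂ) (x i) *
        (if (((j : ℕ) : ℤ) - ((i : ℕ) : ℤ)) = 0 then (1 : ℂ) else 0) * x j = 0 := by
      rcases mul_eq_zero.mp hδ.symm with h | h
      · exact absurd h hNne
      · exact h
    have hdiag : ∀ i : Fin m, ∑ j : Fin m, (starRingEnd ℂ) (x i) *
        (if (((j : ℕ) : ℤ) - ((i : ℕ) : ℤ)) = 0 then (1 : ℂ) else 0) * x j =
        ((Complex.normSq (x i) : ℝ) : ℂ) := by
      intro i
      rw [Finset.sum_eq_single i]
      · rw [if_pos (by ring), mul_one, Complex.normSq_eq_conj_mul_self]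
      · intro j _ hji
        rw [if_neg, mul_zero, zero_mul]
        intro h
        apply hji
        apply Fin.ext
        omega
      · intro h; exact absurd (Finset.mem_univ i) h
    rw [Finset.sum_congr rfl (fun i _ => hdiag i), ← Complex.ofReal_sum] at hsum0
    have hsum0' : ∑ i : Fin m, Complex.normSq (x i) = 0 := by exact_mod_cast hsum0
    apply hx
    funext i
    have := (Finset.sum_eq_zero_iff_of_nonneg (fun i _ => Complex.normSq_nonneg (x i))).mp hsum0' i
      (Finset.mem_univ i)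
    exact Complex.normSq_eq_zero.mp this
  rw [Complex.pos_iff]
  refine ⟨?_, hSim.symm⟩
  have hsumpos : 0 < ∑ l ∈ Finset.range N, Complex.normSq (P l) *
        (∑ k ∈ Finset.Ioo (-(m : ℤ)) (m : ℤ), t k * (z l) ^ k).re := by
    apply Finset.sum_pos'
    · intro l _
      exact mul_nonneg (Complex.normSq_nonneg _) (le_of_lt (hF l))
    · obtain ⟨l, hl, hPl⟩ := hexists
      exact ⟨l, hl, mul_pos (Complex.normSq_pos.mpr hPl) (hF l)⟩
  rw [← hre] at hsumpos
  have hNpos' : (0 : ℝ) < (N : ℝ) := by exact_mod_cast hNpos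
  exact (mul_pos_iff_of_pos_left hNpos').mp hsumpos

end Groth.Agent.S19019
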