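import Groth.Statements.S19020
import Mathlib

set_option autoImplicit false
open Toeplitz

namespace Groth.Agent.S19020


lemma h9_vand (n i j L : ℕ) (hji : j ≤ i) (hL : i + n < L) :
    ∑ k ∈ Finset.range L, (if i ≤ k then n.choose (k - i) else 0) *
        (if j ≤ k then n.choose (k - j) else 0)
      = (2 * n).choose (n + (i - j)) := by
  have h1 : ∑ k ∈ Finset.range L, (if i ≤ k then n.choose (k - i) else 0) *
        (if j ≤ k then n.choose (k - j) else 0)
      = ∑ t ∈ Finset.range (n + 1), n.choose t * n.choose (t + (i - j)) := by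
    rw [Finset.range_eq_Ico, ← Finset.sum_Ico_consecutive _ (Nat.zero_le i) (by omega : i ≤ L)]
    rw [Finset.sum_eq_zero (s := Finset.Ico 0 i), zero_add, Finset.sum_Ico_eq_sum_range]
    · rw [← Finset.sum_subset (s₁ := Finset.range (n+1)) (s₂ := Finset.range (L - i))]
      · apply Finset.sum_congr rfl; intro t ht
        have h1 : j ≤ i + t := by omega
        have h2 : i + t - j = t + (i - j) := by omega
        simp [h1, h2]
      · intro t ht; simp at ht ⊢; omega
      · intro t ht1 ht2
        simp at ht1 ht2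
        simp [Nat.choose_eq_zero_of_lt ht2]
    · intro k hk; simp at hk; simp [Nat.not_le.2 hk]
  rw [h1, two_mul, Nat.add_choose_eq, Finset.Nat.sum_antidiagonal_eq_sum_range_succ_mk]
  rw [← Finset.sum_subset (s₁ := Finset.range (n+1)) (s₂ := Finset.range (n + (i - j)).succ)]
  · rw [← Finset.sum_range_reflect]
    apply Finset.sum_congr rfl; intro t ht
    simp at ht
    have h2 : n + 1 - 1 - t + (i - j) = n + (i - j) - t := by omega
    have h3 : n + 1 - 1 - t = n - t := by omega
    rw [h2, h3, Nat.choose_symm (by omega)]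
  · intro t ht; simp at ht ⊢; omega
  · intro t ht1 ht2
    simp at ht1 ht2
    simp [Nat.choose_eq_zero_of_lt (by omega : n < t)]

/-- For natural numbers n and m, the m × m real Toeplitz matrix with (i, j) entry (-1)^(i+j) · C(2n, n +
|i - j|), i.e. with t_k = (-1)^k C(2n, n + k) on the k-th diagonal for |k| ≤ n and zero beyond, is
positive definite; in particular it is nondegenerate, which is the printed assertion (positive
definiteness is what the printed proof establishes; m = 0 is the empty matrix). -/
theorem result (n m : ℕ) :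
    (Matrix.of fun i j : Fin m =>
        (-1 : ℝ) ^ ((i : ℕ) + (j : ℕ)) * (Nat.choose (2 * n) (n + Nat.dist i j) : ℝ)).PosDef := by
  let C : Matrix (Fin (m + n)) (Fin m) ℝ := Matrix.of fun k i =>
    if (i : ℕ) ≤ (k : ℕ) then (-1 : ℝ) ^ (i : ℕ) * (n.choose ((k : ℕ) - (i : ℕ)) : ℝ) else 0
  have key : ∀ i j : ℕ, i < m → j < m → j ≤ i →
      ∑ k : Fin (m+n), (if i ≤ (k:ℕ) then (-1 : ℝ)^i * (n.choose (k - i) : ℝ) else 0) *
        (if j ≤ (k:ℕ) then (-1 : ℝ)^j * (n.choose (k - j) : ℝ) else 0) =
      (-1 : ℝ)^(i + j) * ((2*n).choose (n + (i - j)) : ℝ) := by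
    intro i j hi hj hji
    rw [← h9_vand n i j (m + n) hji (by omega)]
    rw [Finset.sum_range]
    push_cast
    rw [Finset.mul_sum]
    apply Finset.sum_congr rfl; intro k _
    split_ifs <;> simp [pow_add] <;> ring
  have hA : (Matrix.of fun i j : Fin m =>
        (-1 : ℝ) ^ ((i : ℕ) + (j : ℕ)) * (Nat.choose (2 * n) (n + Nat.dist i j) : ℝ)) = Matrix.conjTranspose C * C := by
    ext i j
    simp only [Matrix.of_apply, Matrix.mul_apply, Matrix.conjTranspose_apply, star_trivial, C]
    rcases le_total (j : ℕ) (i : ℕ) with h | h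
    · rw [key i j i.2 j.2 h, Nat.dist_eq_sub_of_le_right h]
    · rw [Finset.sum_congr rfl (fun k _ => mul_comm _ _), key j i j.2 i.2 h, add_comm,
        Nat.dist_eq_sub_of_le h]
  rw [hA]
  apply Matrix.PosDef.conjTranspose_mul_self
  intro x y hxy
  have hz : C.mulVec (x - y) = 0 := by rw [Matrix.mulVec_sub, hxy, sub_self]
  have hall : ∀ k : ℕ, ∀ hk : k < m, (x - y) ⟨k, hk⟩ = 0 := by
    intro k
    induction k using Nat.strong_induction_on with
    | _ k ih =>
      intro hk
      have h0 := congrFun hz ⟨k, by omega⟩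
      simp only [Matrix.mulVec, dotProduct, C, Matrix.of_apply, Pi.zero_apply] at h0
      rw [Finset.sum_eq_single ⟨k, hk⟩] at h0
      · simpa using h0
      · intro i _ hne
        by_cases hik : (i:ℕ) ≤ k
        · have hlt : (i:ℕ) < k := lt_of_le_of_ne hik (fun h => hne (Fin.ext h))
          have := ih i hlt i.2
          simp only [Fin.eta] at this
          rw [this]; simp
        · simp [hik]
      · simp
  exact sub_eq_zero.1 (funext fun i => hall i i.2)

end Groth.Agent.S19020
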