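import Groth.Statements.S19021
import Mathlib
import Groth.Agent.S19020

set_option autoImplicit false
open Toeplitz

namespace Groth.Agent.S19021

/-- For natural numbers n and m, the m × m integer Toeplitz matrix with (i, j) entry (-1)^(i+j) ·
C(2n+1, n+1+i-j) (the binomial coefficient being 0 outside the range 0 ≤ n+1+i-j ≤ 2n+1;
equivalently s_k = (-1)^k C(2n+1, n+k+1) on the diagonal i - j = k for -n-1 ≤ k ≤ n and zero beyond)
is nondegenerate: its determinant is nonzero (m = 0 is the empty matrix, of determinant 1). -/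
theorem result (n m : ℕ) :
    (Matrix.of fun i j : Fin m =>
        (-1 : ℤ) ^ ((i : ℕ) + (j : ℕ)) *
          (if (j : ℕ) ≤ (i : ℕ) then (Nat.choose (2 * n + 1) (n + 1 + ((i : ℕ) - (j : ℕ))) : ℤ)
            else (Nat.choose (2 * n + 1) (n + ((j : ℕ) - (i : ℕ))) : ℤ))).det ≠ 0 := by
  intro hdet
  obtain ⟨v, hv, hAv⟩ := Matrix.exists_mulVec_eq_zero_iff.2 hdet
  have hE := Groth.Agent.S19020.result (n + 1) m
  let x : Fin m → ℝ := fun i => (v i : ℝ)
  have hx : x ≠ 0 := by
    intro h; apply hv; funext i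
    have := congrFun h i
    simpa [x] using this
  have hpos := hE.dotProduct_mulVec_pos hx
  have pascal : ∀ d : ℕ, ((2*(n+1)).choose (n+1+d) : ℤ) =
      (2*n+1).choose (n+d) + (2*n+1).choose (n+1+d) := by
    intro d
    have h1 : 2*(n+1) = (2*n+1)+1 := by ring
    have h2 : n+1+d = (n+d)+1 := by ring
    rw [h1, h2, Nat.choose_succ_succ']
    push_cast; ring
  have half : ((2*n+1).choose n : ℤ) = (2*n+1).choose (n+1) := by
    rw [Nat.choose_symm_half]
  let a : Fin m → Fin m → ℤ := fun i j => (-1 : ℤ) ^ ((i : ℕ) + (j : ℕ)) *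
          (if (j : ℕ) ≤ (i : ℕ) then (Nat.choose (2 * n + 1) (n + 1 + ((i : ℕ) - (j : ℕ))) : ℤ)
            else (Nat.choose (2 * n + 1) (n + ((j : ℕ) - (i : ℕ))) : ℤ))
  have hEA : ∀ i j : Fin m,
      ((-1 : ℤ) ^ ((i : ℕ) + (j : ℕ)) * ((2*(n+1)).choose ((n+1) + Nat.dist i j) : ℤ)) =
      a i j + a j i := by
    intro i j
    simp only [a]
    rcases lt_trichotomy (i : ℕ) (j : ℕ) with h | h | h
    · have h1 : ¬ ((j : ℕ) ≤ (i : ℕ)) := by omega
      have h2 : (i : ℕ) ≤ (j : ℕ) := by omega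
      rw [if_neg h1, if_pos h2, Nat.dist_eq_sub_of_le h2, pascal, add_comm (j : ℕ) (i : ℕ)]
      ring
    · rw [h]
      simp only [le_refl, if_true, Nat.sub_self, Nat.dist_self, add_zero]
      rw [pascal 0]
      simp only [add_zero]
      rw [half]; ring
    · have h1 : ¬ ((i : ℕ) ≤ (j : ℕ)) := by omega
      have h2 : (j : ℕ) ≤ (i : ℕ) := by omega
      rw [if_neg h1, if_pos h2, Nat.dist_eq_sub_of_le_right h2, pascal, add_comm (j : ℕ) (i : ℕ)]
      ring
  have hzero : (∑ i : Fin m, ∑ j : Fin m, v i * (a i j * v j)) = 0 := by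
    have h := congrArg (fun w => ∑ i, v i * w i) hAv
    simp only [Matrix.mulVec, dotProduct, Matrix.of_apply, Pi.zero_apply, mul_zero,
      Finset.sum_const_zero] at h
    rw [← h]
    apply Finset.sum_congr rfl; intro i _
    rw [Finset.mul_sum]
  have hcalc : dotProduct (star x) (Matrix.mulVec (Matrix.of fun i j : Fin m =>
        (-1 : ℝ) ^ ((i : ℕ) + (j : ℕ)) * (Nat.choose (2 * (n+1)) ((n+1) + Nat.dist i j) : ℝ)) x)
      = 0 := by
    simp only [dotProduct, Matrix.mulVec, Matrix.of_apply, star_trivial]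
    have h1 : ∀ i j : Fin m, (-1 : ℝ) ^ ((i : ℕ) + (j : ℕ)) *
        (Nat.choose (2 * (n+1)) ((n+1) + Nat.dist i j) : ℝ) =
        ((a i j + a j i : ℤ) : ℝ) := by
      intro i j; rw [← hEA]; push_cast; ring
    simp only [h1]
    have h2 := congrArg (fun z : ℤ => (z : ℝ)) hzero
    simp only [Int.cast_sum, Int.cast_mul, Int.cast_zero] at h2
    have h3 : (∑ i : Fin m, ∑ j : Fin m, (v i : ℝ) * ((a j i : ℝ) * (v j : ℝ))) = 0 := by
      rw [Finset.sum_comm]
      rw [← h2]
      apply Finset.sum_congr rfl; intro i _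
      apply Finset.sum_congr rfl; intro j _
      ring
    calc ∑ i : Fin m, x i * ∑ j : Fin m, ((a i j + a j i : ℤ) : ℝ) * x j
        = (∑ i : Fin m, ∑ j : Fin m, (v i : ℝ) * ((a i j : ℝ) * (v j : ℝ))) +
          (∑ i : Fin m, ∑ j : Fin m, (v i : ℝ) * ((a j i : ℝ) * (v j : ℝ))) := by
          rw [← Finset.sum_add_distrib]
          apply Finset.sum_congr rfl; intro i _
          rw [Finset.mul_sum, ← Finset.sum_add_distrib]
          apply Finset.sum_congr rfl; intro j _
          simp only [x]; push_cast; ring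
      _ = 0 := by rw [h2, h3, add_zero]
  rw [hcalc] at hpos
  exact lt_irrefl _ hpos

end Groth.Agent.S19021
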