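import Groth.Statements.S19025
import Mathlib

set_option autoImplicit false
universe u
open HigherRestr

namespace Groth.Agent.S19025

noncomputable def shiftE (S : Type u) [CommRing S] : Module.End S (ℕ → S) :=
  LinearMap.funLeft S S (fun n : ℕ => n + 1)

theorem shiftE_apply {S : Type u} [CommRing S] (y : ℕ → S) (n : ℕ) :
    shiftE S y n = y (n + 1) := rfl

theorem shiftE_pow_apply {S : Type u} [CommRing S] (i : ℕ) (y : ℕ → S) (n : ℕ) :
    ((shiftE S) ^ i) y n = y (n + i) := by
  induction i generalizing y n with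
  | zero => rw [pow_zero, Module.End.one_apply, add_zero]
  | succ i ih => rw [pow_succ, Module.End.mul_apply, ih, shiftE_apply, add_assoc]

theorem diffD_apply {S : Type u} [CommRing S] (y : ℕ → S) :
    (shiftE S - 1) y = fwdDiff (1 : ℕ) y := by
  funext n
  rw [LinearMap.sub_apply, Module.End.one_apply, Pi.sub_apply, shiftE_apply]
  rfl

theorem diffD_pow_apply {S : Type u} [CommRing S] (k : ℕ) (y : ℕ → S) :
    ((shiftE S - 1) ^ k) y = (fwdDiff (1 : ℕ))^[k] y := by
  induction k generalizing y with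
  | zero => rw [pow_zero, Module.End.one_apply, Function.iterate_zero_apply]
  | succ k ih =>
    rw [pow_succ, Module.End.mul_apply, Function.iterate_succ_apply, ih, diffD_apply]

theorem expand_pow {S : Type u} [CommRing S] (P Q : Module.End S (ℕ → S)) (hPQ : Commute P Q)
    (c d : S) (N : ℕ) (y : ℕ → S) (n : ℕ) :
    ((c • P + d • Q) ^ N) y n = ∑ m ∈ Finset.range (N + 1),
      (N.choose m : S) * (c ^ m * d ^ (N - m)) * (P ^ m) ((Q ^ (N - m)) y) n := by
  have hc : Commute (c • P) (d • Q) := (hPQ.smul_left c).smul_right d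
  rw [hc.add_pow, LinearMap.sum_apply, Finset.sum_apply]
  refine Finset.sum_congr rfl (fun m _ => ?_)
  rw [smul_pow, smul_pow, ← map_natCast (algebraMap S (Module.End S (ℕ → S))),
    Algebra.algebraMap_eq_smul_one]
  simp only [smul_mul_assoc, mul_smul_comm, mul_one, LinearMap.smul_apply, Module.End.mul_apply,
    Pi.smul_apply, smul_eq_mul]
  ring

/-- In abstract form, the estimate its proof establishes. Let S be a commutative ring, I an ideal of S,
g₀ and g₁ elements with g₁ - g₀ ∈ I, N a natural number and y a sequence in S such that, for 1 ≤ i ≤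
N, the (N-i)-fold unit-step forward difference of y taken at i lies in I^(N-i). Then g₀^N times the
N-fold forward difference of y at 0, minus the N-fold forward difference at 0 of the twisted
sequence j ↦ g₀^(N-j) g₁^j y_j, lies in I^N. (In the source S is the ring of functions on an affine
chart of X^n, I the ideal of a pairwise diagonal, g₀ and g₁ the two pullbacks of a transition unit
of L, and y_j the components x_λ along the compositions a₀^(N-j) a₁^j μ; the estimate is what makes
the higher order restrictions D^l_L well defined on ker D^(l-1)_L independently of the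
trivialisation.) -/
theorem result
    (S : Type u) [CommRing S] (I : Ideal S) (g₀ g₁ : S) (hg : g₁ - g₀ ∈ I)
    (N : ℕ) (y : ℕ → S)
    (hy : ∀ i : ℕ, 1 ≤ i → i ≤ N → (fwdDiff (1 : ℕ))^[N - i] y i ∈ I ^ (N - i)) :
    g₀ ^ N * (fwdDiff (1 : ℕ))^[N] y 0 -
        (fwdDiff (1 : ℕ))^[N] (fun j : ℕ => g₀ ^ (N - j) * g₁ ^ j * y j) 0 ∈ I ^ N := by
  obtain ⟨δ, hδ⟩ : ∃ δ, δ = g₁ - g₀ := ⟨_, rfl⟩
  have h1 : (fwdDiff (1 : ℕ))^[N] (fun j : ℕ => g₀ ^ (N - j) * g₁ ^ j * y j) 0
      = ((g₁ • shiftE S + (-g₀) • (1 : Module.End S (ℕ → S))) ^ N) y 0 := by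
    rw [expand_pow _ _ (Commute.one_right _), fwdDiff_iter_eq_sum_shift]
    refine Finset.sum_congr rfl (fun k _ => ?_)
    rw [one_pow, Module.End.one_apply, shiftE_pow_apply, zsmul_eq_mul, neg_pow g₀]
    simp only [zero_add, smul_eq_mul, mul_one]
    push_cast
    ring
  have hop : g₁ • shiftE S + (-g₀) • (1 : Module.End S (ℕ → S))
      = δ • shiftE S + g₀ • (shiftE S - 1) := by
    rw [hδ]; module
  have h2 : ((δ • shiftE S + g₀ • (shiftE S - 1)) ^ N) y 0
      = ∑ m ∈ Finset.range (N + 1),
        (N.choose m : S) * (δ ^ m * g₀ ^ (N - m)) * (fwdDiff (1 : ℕ))^[N - m] y m := by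
    rw [expand_pow _ _ ((Commute.refl _).sub_right (Commute.one_right _))]
    refine Finset.sum_congr rfl (fun m _ => ?_)
    rw [shiftE_pow_apply, diffD_pow_apply, zero_add]
  rw [h1, hop, h2, Finset.sum_range_succ']
  simp only [Nat.choose_zero_right, Nat.cast_one, pow_zero, Nat.sub_zero, one_mul]
  have hsuff : ∀ R X : S, R ∈ I ^ N → X - (R + X) ∈ I ^ N := by
    intro R X hR
    have h3 : X - (R + X) = -R := by ring
    rw [h3]; exact neg_mem hR
  refine hsuff _ _ (Ideal.sum_mem _ (fun m hm => ?_))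
  have hmN : m + 1 ≤ N := Nat.succ_le_of_lt (Finset.mem_range.mp hm)
  have hpow : I ^ N = I ^ (m + 1) * I ^ (N - (m + 1)) := by
    rw [← pow_add]; congr 1; omega
  have hd : δ ^ (m + 1) ∈ I ^ (m + 1) := Ideal.pow_mem_pow (by rw [hδ]; exact hg) _
  have hyy := hy (m + 1) (by omega) hmN
  have hmem : δ ^ (m + 1) * (fwdDiff (1 : ℕ))^[N - (m + 1)] y (m + 1) ∈ I ^ N := by
    rw [hpow]; exact Ideal.mul_mem_mul hd hyy
  have hre : ∀ a b c d : S, a * (b * c) * d = (a * c) * (b * d) := by intros; ring
  rw [hre]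
  exact Ideal.mul_mem_left _ _ hmem

end Groth.Agent.S19025
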