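import Groth.Statements.S19037
import Mathlib

set_option autoImplicit false
universe u v
open scoped Polynomial LaurentPolynomial
open Instab

namespace Groth.Agent.S19037

/-- Affine form over a ring R. Let A be a commutative ℤ-graded R-algebra and t an element of degree −1
(so A is a graded algebra over R[t] with t in degree −1), and let ψ : A[1/t] → R[T, T⁻¹] be an
R-algebra map sending t to T which is graded, in the sense that each homogeneous element of degree n
of A goes to an element of R times T^(−n). Then ψ is obtained by inverting t from an R-algebra map χ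
: A → R[T] (compared through the inclusion of R[T] in R[T, T⁻¹]) if and only if ψ kills t·a for
every homogeneous a of degree 1; such a χ is unique. (The source states this for quasi-coherent
graded algebras over an arbitrary base scheme; the statement is local on the base and is given here
over an affine base.) -/
theorem result
    {R : Type u} {A : Type v} [CommRing R] [CommRing A] [Algebra R A]
    (𝒜 : ℤ → Submodule R A) [GradedAlgebra 𝒜] (t : A) (ht : t ∈ 𝒜 (-1))
    (ψ : Localization.Away t →ₐ[R] R[T;T⁻¹])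
    (hψt : ψ (algebraMap A (Localization.Away t) t) = LaurentPolynomial.T 1)
    (hψ : ∀ (n : ℤ) (a : A), a ∈ 𝒜 n →
      ∃ r : R, ψ (algebraMap A (Localization.Away t) a) = LaurentPolynomial.C r * LaurentPolynomial.T (-n)) :
    (∃! χ : A →ₐ[R] R[X], ∀ a : A,
        ψ (algebraMap A (Localization.Away t) a) = Polynomial.toLaurentAlg (χ a)) ↔
      ∀ a ∈ 𝒜 1, ψ (algebraMap A (Localization.Away t) (t * a)) = 0 := by
  classical
  have hinj : Function.Injective (Polynomial.toLaurentAlg : R[X] →ₐ[R] R[T;T⁻¹]) := by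
    intro p q hpq
    rw [Polynomial.toLaurentAlg_apply, Polynomial.toLaurentAlg_apply] at hpq
    exact Polynomial.toLaurent_injective hpq
  constructor
  · rintro ⟨χ, hχ, -⟩ a ha
    obtain ⟨r, hr⟩ := hψ 1 a ha
    have h1 : LaurentPolynomial.C r * LaurentPolynomial.T (-1) = Polynomial.toLaurent (χ a) := by
      rw [← hr, hχ a, Polynomial.toLaurentAlg_apply]
    have h2 : Polynomial.toLaurent (Polynomial.C r) =
        Polynomial.toLaurent (χ a * Polynomial.X) := by
      rw [map_mul, Polynomial.toLaurent_X, ← h1, Polynomial.toLaurent_C, mul_assoc,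
        ← LaurentPolynomial.T_add, neg_add_cancel, LaurentPolynomial.T_zero, mul_one]
    have h3 := Polynomial.toLaurent_injective h2
    have h4 : r = 0 := by
      have := congrArg (fun p => Polynomial.coeff p 0) h3
      simpa using this
    rw [map_mul, map_mul, hr, h4]; simp
  · intro h
    have hhom : ∀ (n : ℤ) (a : A), a ∈ 𝒜 n → ψ (algebraMap A (Localization.Away t) a) ∈
        (Polynomial.toLaurentAlg : R[X] →ₐ[R] R[T;T⁻¹]).range := by
      intro n a ha
      obtain ⟨r, hr⟩ := hψ n a ha
      rcases le_or_gt n 0 with hn | hn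
      · obtain ⟨k, hk⟩ : ∃ k : ℕ, -n = (k : ℤ) := ⟨(-n).toNat, by omega⟩
        refine (AlgHom.mem_range _).mpr ⟨Polynomial.C r * Polynomial.X ^ k, ?_⟩
        rw [Polynomial.toLaurentAlg_apply, Polynomial.toLaurent_C_mul_X_pow, hr, hk]
      · obtain ⟨k, hk⟩ : ∃ k : ℕ, n = (k : ℤ) + 1 := ⟨(n - 1).toNat, by omega⟩
        have hmem : t ^ k * a ∈ 𝒜 1 := by
          have h1 := SetLike.mul_mem_graded (SetLike.pow_mem_graded k ht) ha
          have e : k • (-1 : ℤ) + n = 1 := by rw [hk, nsmul_eq_mul]; ring
          rw [e] at h1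
          exact h1
        have h2 := h _ hmem
        rw [← mul_assoc, ← pow_succ', map_mul, map_mul, map_pow, map_pow, hψt] at h2
        have h3 := (((LaurentPolynomial.isUnit_T 1).pow (k+1)).mul_right_eq_zero).mp h2
        rw [h3]
        exact Subalgebra.zero_mem _
    have hall : ∀ a : A, ψ (algebraMap A (Localization.Away t) a) ∈
        (Polynomial.toLaurentAlg : R[X] →ₐ[R] R[T;T⁻¹]).range := by
      intro a
      rw [← DirectSum.sum_support_decompose 𝒜 a, map_sum, map_sum]
      refine Subalgebra.sum_mem _ (fun i _ => ?_)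
      exact hhom i _ (SetLike.coe_mem _)
    obtain ⟨e, he⟩ : ∃ e : R[X] ≃ₐ[R] (Polynomial.toLaurentAlg : R[X] →ₐ[R] R[T;T⁻¹]).range,
        ∀ p, (e p : R[T;T⁻¹]) = Polynomial.toLaurentAlg p :=
      ⟨AlgEquiv.ofInjective _ hinj, fun p => rfl⟩
    obtain ⟨φ, hφ⟩ : ∃ φ : A →ₐ[R] (Polynomial.toLaurentAlg : R[X] →ₐ[R] R[T;T⁻¹]).range,
        ∀ a, (φ a : R[T;T⁻¹]) = ψ (algebraMap A (Localization.Away t) a) :=
      ⟨AlgHom.codRestrict (ψ.comp (IsScalarTower.toAlgHom R A (Localization.Away t))) _
        (fun a => hall a), fun a => rfl⟩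
    refine ⟨(e.symm : _ →ₐ[R] R[X]).comp φ, ?_, ?_⟩
    · intro a
      show ψ _ = Polynomial.toLaurentAlg (e.symm (φ a))
      rw [← he, AlgEquiv.apply_symm_apply, hφ]
    · intro χ' hχ'
      refine AlgHom.ext (fun a => hinj ?_)
      rw [← hχ' a]
      show _ = Polynomial.toLaurentAlg (e.symm (φ a))
      rw [← he, AlgEquiv.apply_symm_apply, hφ]

end Groth.Agent.S19037
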