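import Groth.Statements.S19092
import Mathlib

set_option autoImplicit false
universe u
open FrobAlg

namespace Groth.Agent.S19092

/-- Let p be a prime and A a commutative ring of characteristic p whose absolute Frobenius a ↦ a^p is a
finite ring homomorphism. Then the same holds for every quotient and every localization of A: for
every ideal I of A such that A ⧸ I has characteristic p (every proper ideal) the absolute Frobenius
of A ⧸ I is finite, and for every submonoid S of A and every localization B of A at S of
characteristic p (every nonzero localization) the absolute Frobenius of B is finite. -/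
theorem result (p : ℕ) [Fact p.Prime]
    (A : Type u) [CommRing A] [CharP A p] (hF : (frobenius A p).Finite) :
    (∀ (I : Ideal A) [CharP (A ⧸ I) p], (frobenius (A ⧸ I) p).Finite) ∧
      ∀ (S : Submonoid A) (B : Type u) [CommRing B] [Algebra A B] [IsLocalization S B] [CharP B p],
        (frobenius B p).Finite := by
  obtain ⟨q, hq⟩ : ∃ q, p = q + 1 := ⟨p - 1, by have := (Fact.out : p.Prime).pos; omega⟩
  have hpow : ∀ x : A, x ^ p = x ^ q * x := by
    intro x
    rw [hq, pow_succ]
  constructor
  · intro I _
    have hcomm : (frobenius (A ⧸ I) p).comp (Ideal.Quotient.mk I) =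
        (Ideal.Quotient.mk I).comp (frobenius A p) := by
      ext x
      simp [frobenius_def]
    have hπ : (Ideal.Quotient.mk I).Finite :=
      RingHom.Finite.of_surjective _ Ideal.Quotient.mk_surjective
    have h1 : ((Ideal.Quotient.mk I).comp (frobenius A p)).Finite := hπ.comp hF
    rw [← hcomm] at h1
    exact RingHom.Finite.of_comp_finite h1
  · intro S B _ _ _ _
    have hloc : IsLocalization (S.map (frobenius A p)) B := by
      rw [isLocalization_iff]
      refine ⟨?_, ?_, ?_⟩
      · rintro ⟨y, s, hs, rfl⟩
        have hmem : frobenius A p s ∈ S := by
          rw [frobenius_def]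
          exact pow_mem hs p
        exact IsLocalization.map_units B (⟨frobenius A p s, hmem⟩ : S)
      · intro z
        obtain ⟨⟨a, s⟩, h⟩ := IsLocalization.surj S z
        refine ⟨(a * (s : A) ^ q, ⟨frobenius A p s, s, s.2, rfl⟩), ?_⟩
        show z * algebraMap A B (frobenius A p (s : A)) = algebraMap A B (a * (s : A) ^ q)
        have h' : z * algebraMap A B (s : A) = algebraMap A B a := h
        rw [frobenius_def, hpow, map_mul, map_mul, ← h']
        ring
      · intro x y hxy
        obtain ⟨c, hc⟩ := IsLocalization.exists_of_eq (M := S) hxy
        refine ⟨⟨frobenius A p c, c, c.2, rfl⟩, ?_⟩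
        show frobenius A p (c : A) * x = frobenius A p (c : A) * y
        rw [frobenius_def, hpow, mul_assoc, mul_assoc, hc]
    have hpres := RingHom.finite_localizationPreserves (frobenius A p) S B B hF
    have heq : (IsLocalization.map B (frobenius A p) (Submonoid.le_comap_map S) : B →+* B) =
        frobenius B p := by
      apply IsLocalization.ringHom_ext S
      rw [IsLocalization.map_comp]
      ext x
      simp [frobenius_def]
    rw [heq] at hpres
    exact hpres

end Groth.Agent.S19092
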