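import Groth.Statements.S19106
import Mathlib

set_option autoImplicit false
open HilbD

namespace Groth.Agent.S19106

theorem shift_count (μ : YoungDiagram) (dx dy : ℕ) :
    (μ.cells.filter (fun c => (c.1 + dx, c.2 + dy) ∈ μ)).card
      + (μ.cells.filter (fun c => c.1 < dx ∨ c.2 < dy)).card = μ.cells.card := by
  have himg : (μ.cells.filter (fun c => (c.1 + dx, c.2 + dy) ∈ μ)).image
      (fun c : ℕ × ℕ => (c.1 + dx, c.2 + dy))
      = μ.cells.filter (fun c => ¬ (c.1 < dx ∨ c.2 < dy)) := by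
    ext ⟨a, b⟩
    simp only [Finset.mem_image, Finset.mem_filter, YoungDiagram.mem_cells, Prod.mk.injEq,
      Prod.exists]
    constructor
    · rintro ⟨a', b', ⟨_, h2⟩, rfl, rfl⟩
      exact ⟨h2, by omega⟩
    · rintro ⟨h1, h2⟩
      have ha : a - dx + dx = a := by omega
      have hb : b - dy + dy = b := by omega
      refine ⟨a - dx, b - dy, ⟨μ.up_left_mem (Nat.sub_le _ _) (Nat.sub_le _ _) h1, ?_⟩, ha, hb⟩
      rw [ha, hb]; exact h1
  have hinj : Function.Injective (fun c : ℕ × ℕ => (c.1 + dx, c.2 + dy)) := by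
    rintro ⟨a, b⟩ ⟨a', b'⟩ h
    simp only [Prod.mk.injEq, add_left_inj] at h
    exact Prod.ext h.1 h.2
  rw [← Finset.card_image_of_injective _ hinj, himg, add_comm]
  exact Finset.card_filter_add_card_filter_not (fun c : ℕ × ℕ => c.1 < dx ∨ c.2 < dy)

/-- Let μ be a non-empty Young diagram, V the number of its cells, E the number of unordered pairs of
cells sharing a side (a cell together with the cell immediately below it, or immediately to its
right, both in μ) and Q the number of 2 × 2 blocks of cells of μ (cells c such that the cell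
diagonally below-right of c is in μ, the other two corners being in μ automatically). Then V − E + Q
− 1 = 0, stated as V + Q = E + 1 in the naturals. (The empty diagram, for which the count reads 0 −
0 + 0 − 1, is excluded.) -/
theorem result (μ : YoungDiagram) (hμ : μ ≠ ⊥) :
    μ.cells.card + (μ.cells.filter (fun c => (c.1 + 1, c.2 + 1) ∈ μ)).card =
      (μ.cells.filter (fun c => (c.1 + 1, c.2) ∈ μ)).card + (μ.cells.filter (fun c => (c.1, c.2 + 1) ∈ μ)).card + 1 := by
  have h00 : ((0, 0) : ℕ × ℕ) ∈ μ := by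
    have hne : μ.cells.Nonempty := by
      rw [Finset.nonempty_iff_ne_empty]
      intro hempty
      apply hμ
      apply YoungDiagram.ext
      rw [hempty, YoungDiagram.cells_bot]
    obtain ⟨⟨a, b⟩, hc⟩ := hne
    exact μ.up_left_mem (Nat.zero_le a) (Nat.zero_le b) hc
  have hD : (μ.cells.filter (fun c => (c.1 + 1, c.2) ∈ μ)).card
      + (μ.cells.filter (fun c => c.1 < 1 ∨ c.2 < 0)).card = μ.cells.card := shift_count μ 1 0
  have hR : (μ.cells.filter (fun c => (c.1, c.2 + 1) ∈ μ)).card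
      + (μ.cells.filter (fun c => c.1 < 0 ∨ c.2 < 1)).card = μ.cells.card := shift_count μ 0 1
  have hQ : (μ.cells.filter (fun c => (c.1 + 1, c.2 + 1) ∈ μ)).card
      + (μ.cells.filter (fun c => c.1 < 1 ∨ c.2 < 1)).card = μ.cells.card := shift_count μ 1 1
  have hU : μ.cells.filter (fun c => c.1 < 1 ∨ c.2 < 1)
      = μ.cells.filter (fun c => c.1 < 1 ∨ c.2 < 0) ∪ μ.cells.filter (fun c => c.1 < 0 ∨ c.2 < 1) := by
    ext ⟨a, b⟩
    simp only [Finset.mem_union, Finset.mem_filter]
    constructor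
    · rintro ⟨h, h1 | h1⟩
      · exact Or.inl ⟨h, Or.inl h1⟩
      · exact Or.inr ⟨h, Or.inr h1⟩
    · rintro (⟨h, h1⟩ | ⟨h, h1⟩)
      · exact ⟨h, by omega⟩
      · exact ⟨h, by omega⟩
  have hI : μ.cells.filter (fun c => c.1 < 1 ∨ c.2 < 0) ∩ μ.cells.filter (fun c => c.1 < 0 ∨ c.2 < 1)
      = {((0, 0) : ℕ × ℕ)} := by
    ext ⟨a, b⟩
    simp only [Finset.mem_inter, Finset.mem_filter, Finset.mem_singleton, Prod.mk.injEq]
    constructor
    · rintro ⟨⟨_, h1⟩, ⟨_, h2⟩⟩
      omega
    · rintro ⟨rfl, rfl⟩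
      exact ⟨⟨h00, by omega⟩, ⟨h00, by omega⟩⟩
  have hb := Finset.card_union_add_card_inter (μ.cells.filter (fun c => c.1 < 1 ∨ c.2 < 0))
    (μ.cells.filter (fun c => c.1 < 0 ∨ c.2 < 1))
  rw [← hU, hI, Finset.card_singleton] at hb
  omega

end Groth.Agent.S19106
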