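import Groth.Statements.S19136
import Mathlib

set_option autoImplicit false
universe u
open Instab

namespace Groth.Agent.S19136

/-- Let p be a seminorm and ℓ a linear form on a real vector space, let y₀ and y₁ be vectors at which p
is positive and ℓ is non-negative, and let y = t y₀ + (1 - t) y₁ with 0 < t < 1 be a point of the
open segment at which p is positive. Then ℓ(y)/p(y) is at least the smaller of ℓ(y₀)/p(y₀) and
ℓ(y₁)/p(y₁), and if it equals that smaller value then ℓ(y₀)/p(y₀) = ℓ(y₁)/p(y₁). (The published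
lemma concerns the numerical invariant attached to a degree-two cohomology class and a semi-norm on
graded points of a stack; restricted to one rational simplex that invariant is the quotient of a
linear form by a semi-norm on the non-negative orthant of a real coordinate space, and local
quasi-concavity there amounts to this inequality with its equality clause, the set where the linear
form is non-negative being automatically convex; the lemma's further assertion, that the invariant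
is positive at no pair of antipodal points, is not stated here. The vector space is arbitrary here.) -/
theorem result {E : Type u} [AddCommGroup E] [Module ℝ E]
    (p : Seminorm ℝ E) (ℓ : E →ₗ[ℝ] ℝ) (y₀ y₁ : E) (h₀ : 0 < p y₀) (h₁ : 0 < p y₁)
    (hℓ₀ : 0 ≤ ℓ y₀) (hℓ₁ : 0 ≤ ℓ y₁) (t : ℝ) (ht₀ : 0 < t) (ht₁ : t < 1)
    (hy : 0 < p (t • y₀ + (1 - t) • y₁)) :
    min (ℓ y₀ / p y₀) (ℓ y₁ / p y₁) ≤ ℓ (t • y₀ + (1 - t) • y₁) / p (t • y₀ + (1 - t) • y₁) ∧
      (ℓ (t • y₀ + (1 - t) • y₁) / p (t • y₀ + (1 - t) • y₁) = min (ℓ y₀ / p y₀) (ℓ y₁ / p y₁) →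
        ℓ y₀ / p y₀ = ℓ y₁ / p y₁) := by
  set μ := min (ℓ y₀ / p y₀) (ℓ y₁ / p y₁) with hμ
  have hμ0 : 0 ≤ μ := le_min (div_nonneg hℓ₀ h₀.le) (div_nonneg hℓ₁ h₁.le)
  have hl0 : μ * p y₀ ≤ ℓ y₀ := by
    have : μ ≤ ℓ y₀ / p y₀ := min_le_left _ _
    exact (le_div_iff₀ h₀).mp this
  have hl1 : μ * p y₁ ≤ ℓ y₁ := by
    have : μ ≤ ℓ y₁ / p y₁ := min_le_right _ _
    exact (le_div_iff₀ h₁).mp this
  have hℓy : ℓ (t • y₀ + (1 - t) • y₁) = t * ℓ y₀ + (1 - t) * ℓ y₁ := by
    simp [map_add, map_smul]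
  have hpy : p (t • y₀ + (1 - t) • y₁) ≤ t * p y₀ + (1 - t) * p y₁ := by
    calc p (t • y₀ + (1 - t) • y₁) ≤ p (t • y₀) + p ((1 - t) • y₁) := map_add_le_add p _ _
      _ = t * p y₀ + (1 - t) * p y₁ := by
        rw [map_smul_eq_mul, map_smul_eq_mul, Real.norm_of_nonneg ht₀.le,
          Real.norm_of_nonneg (by linarith : (0:ℝ) ≤ 1 - t)]
  have h1t : 0 < 1 - t := by linarith
  have hchain1 : μ * (t * p y₀ + (1 - t) * p y₁) ≤ t * ℓ y₀ + (1 - t) * ℓ y₁ := by
    nlinarith [mul_le_mul_of_nonneg_left hl0 ht₀.le, mul_le_mul_of_nonneg_left hl1 h1t.le]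
  have hchain2 : μ * p (t • y₀ + (1 - t) • y₁) ≤ μ * (t * p y₀ + (1 - t) * p y₁) :=
    mul_le_mul_of_nonneg_left hpy hμ0
  constructor
  · rw [le_div_iff₀ hy, hℓy]
    linarith
  · intro heq
    rw [div_eq_iff hy.ne', hℓy] at heq
    have e1 : t * ℓ y₀ + (1 - t) * ℓ y₁ = μ * (t * p y₀ + (1 - t) * p y₁) := by linarith
    have a0 : t * (μ * p y₀) ≤ t * ℓ y₀ := mul_le_mul_of_nonneg_left hl0 ht₀.le
    have a1 : (1 - t) * (μ * p y₁) ≤ (1 - t) * ℓ y₁ := mul_le_mul_of_nonneg_left hl1 h1t.le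
    have e2 : t * ℓ y₀ = t * (μ * p y₀) := by nlinarith
    have e3 : (1 - t) * ℓ y₁ = (1 - t) * (μ * p y₁) := by nlinarith
    have e4 : ℓ y₀ = μ * p y₀ := mul_left_cancel₀ ht₀.ne' e2
    have e5 : ℓ y₁ = μ * p y₁ := mul_left_cancel₀ h1t.ne' e3
    rw [e4, e5, mul_div_assoc, mul_div_assoc, div_self h₀.ne', div_self h₁.ne']

end Groth.Agent.S19136
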