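import Groth.Statements.S19170
import Mathlib

set_option autoImplicit false
universe u
open ProCompl

namespace Groth.Agent.S19170

/-- Let B be a topological abelian group generated as a group by a compact subset. Then every character
χ : B → ℚ/ℤ with open kernel (a continuous character for discrete ℚ/ℤ) has kernel of finite index;
consequently each such character factors through B^∧, the completion of B taken along its
finite-index open subgroups, i.e. (B^∧)^D = B^D. (The published statement assumes moreover that B is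
Hausdorff, locally compact and totally disconnected; only compact generation is needed for this
assertion, so those assumptions are dropped here.) -/
theorem result
    {B : Type u} [AddCommGroup B] [TopologicalSpace B] [IsTopologicalAddGroup B]
    (hcg : ∃ K : Set B, IsCompact K ∧ AddSubgroup.closure K = ⊤)
    (χ : B →+ ℚ ⧸ AddSubgroup.zmultiples (1 : ℚ)) (hχ : IsOpen (χ.ker : Set B)) : χ.ker.FiniteIndex := by
  obtain ⟨K, hK, hcl⟩ := hcg
  have hfib : ∀ c : ℚ ⧸ AddSubgroup.zmultiples (1 : ℚ), IsOpen (χ ⁻¹' {c}) := by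
    intro c
    by_cases h : ∃ x, χ x = c
    · obtain ⟨x, hx⟩ := h
      have heq : χ ⁻¹' {c} = (fun y : B => y - x) ⁻¹' (χ.ker : Set B) := by
        ext y
        simp only [Set.mem_preimage, Set.mem_singleton_iff, SetLike.mem_coe, AddMonoidHom.mem_ker,
          map_sub, sub_eq_zero, hx]
      rw [heq]
      exact hχ.preimage (continuous_id.sub continuous_const)
    · have hempty : χ ⁻¹' {c} = ∅ := by
        ext y
        simp only [Set.mem_preimage, Set.mem_singleton_iff, Set.mem_empty_iff_false, iff_false]
        exact fun hy => h ⟨y, hy⟩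
      rw [hempty]; exact isOpen_empty
  obtain ⟨t, ht⟩ := hK.elim_finite_subcover
    (fun c : ℚ ⧸ AddSubgroup.zmultiples (1 : ℚ) => χ ⁻¹' {c}) hfib
    (fun x _ => Set.mem_iUnion.mpr ⟨χ x, rfl⟩)
  have himg : (χ '' K).Finite := by
    refine (Finset.finite_toSet t).subset ?_
    rintro _ ⟨x, hx, rfl⟩
    obtain ⟨c, hc⟩ := Set.mem_iUnion.mp (ht hx)
    obtain ⟨hct, hxc⟩ := Set.mem_iUnion.mp hc
    have h1 : χ x = c := hxc
    rw [h1]; exact hct
  have hrange : χ.range = AddSubgroup.closure (χ '' K) := by
    rw [AddMonoidHom.range_eq_map, ← hcl, AddMonoidHom.map_closure]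
  have hfg : AddGroup.FG χ.range := by
    rw [AddGroup.fg_iff_addSubgroup_fg, AddSubgroup.fg_iff]
    exact ⟨χ '' K, hrange.symm, himg⟩
  have htors : IsAddTorsion χ.range := by
    rintro ⟨y, hy⟩
    obtain ⟨q, rfl⟩ := QuotientAddGroup.mk_surjective y
    rw [isOfFinAddOrder_iff_nsmul_eq_zero]
    refine ⟨q.den, q.den_pos, ?_⟩
    apply Subtype.ext
    show q.den • (QuotientAddGroup.mk q : ℚ ⧸ AddSubgroup.zmultiples (1 : ℚ)) = 0
    rw [← QuotientAddGroup.mk_nsmul, QuotientAddGroup.eq_zero_iff, AddSubgroup.mem_zmultiples_iff]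
    refine ⟨q.num, ?_⟩
    rw [zsmul_eq_mul, mul_one, nsmul_eq_mul, mul_comm, Rat.mul_den_eq_num]
  haveI := hfg
  haveI : Finite χ.range := AddCommGroup.finite_of_fg_isAddTorsion _ htors
  refine ⟨?_⟩
  rw [AddSubgroup.index_ker]
  exact Nat.card_pos.ne'

end Groth.Agent.S19170
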