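import Groth.Statements.S19172
import Mathlib

set_option autoImplicit false
universe u v w
open ProCompl

namespace Groth.Agent.S19172

theorem h9_invlim {J : Type u} (r : J → J → Prop) (hrefl : ∀ j, r j j)
    (htrans : ∀ a b c, r a b → r b c → r a c) (hdir : ∀ a b, ∃ c, r a c ∧ r b c)
    (X : J → Type v) [∀ j, Finite (X j)] [∀ j, Nonempty (X j)]
    (π : ∀ (j j' : J), r j j' → X j' → X j)
    (hid : ∀ j (h : r j j) (x : X j), π j j h x = x)
    (hcomp : ∀ (j j' j'' : J) (h : r j j') (h' : r j' j'') (h'' : r j j'') (x : X j''),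
      π j j' h (π j' j'' h' x) = π j j'' h'' x) :
    ∃ s : ∀ j, X j, ∀ (j j' : J) (h : r j j'), π j j' h (s j') = s j := by
  letI : Preorder J := { le := r, le_refl := hrefl, le_trans := htrans }
  haveI : IsDirectedOrder J := ⟨fun a b => hdir a b⟩
  let F : CategoryTheory.Functor (Opposite J) (Type v) :=
    { obj := fun j => X j.unop
      map := fun {a b} f => TypeCat.ofHom (π b.unop a.unop (CategoryTheory.leOfHom f.unop))
      map_id := fun a => CategoryTheory.ConcreteCategory.hom_ext _ _ fun x => hid _ _ x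
      map_comp := fun f g => CategoryTheory.ConcreteCategory.hom_ext _ _ fun x =>
        (hcomp _ _ _ _ _ _ x).symm }
  haveI : ∀ j : Opposite J, Finite (F.obj j) := fun j => inferInstanceAs (Finite (X j.unop))
  haveI : ∀ j : Opposite J, Nonempty (F.obj j) := fun j => inferInstanceAs (Nonempty (X j.unop))
  obtain ⟨s, hs⟩ := nonempty_sections_of_finite_inverse_system F
  refine ⟨fun j => s (Opposite.op j), ?_⟩
  intro j j' h
  exact hs (CategoryTheory.homOfLE h).op

def h9_imgFI {B : Type v} {C : Type w} [AddCommGroup B] [TopologicalSpace B]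
    [AddCommGroup C] [TopologicalSpace C]
    (p : B →+ C) (hpo : IsOpenMap p) (hps : Function.Surjective p)
    (V : W4c61motalbduality.OpenFI B) : W4c61motalbduality.OpenFI C where
  toAddSubgroup := V.toAddSubgroup.map p
  isOpen' := by
    have h := hpo _ V.isOpen'
    rw [AddSubgroup.coe_map]
    exact h
  finiteIndex' := by
    haveI := V.finiteIndex'
    exact ⟨ne_zero_of_dvd_ne_zero AddSubgroup.FiniteIndex.index_ne_zero
      (AddSubgroup.index_map_dvd _ hps)⟩

def h9_infFI {A : Type u} [AddCommGroup A] [TopologicalSpace A]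
    (U U' : W4c61motalbduality.OpenFI A) : W4c61motalbduality.OpenFI A where
  toAddSubgroup := U.toAddSubgroup ⊓ U'.toAddSubgroup
  isOpen' := by
    have h := U.isOpen'.inter U'.isOpen'
    rw [AddSubgroup.coe_inf]
    exact h
  finiteIndex' :=
    ⟨AddSubgroup.index_inf_ne_zero U.finiteIndex'.index_ne_zero U'.finiteIndex'.index_ne_zero⟩

def h9_topFI (B : Type v) [AddCommGroup B] [TopologicalSpace B] :
    W4c61motalbduality.OpenFI B where
  toAddSubgroup := ⊤
  isOpen' := by
    rw [AddSubgroup.coe_top]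
    exact isOpen_univ
  finiteIndex' := ⟨by rw [AddSubgroup.index_top]; exact one_ne_zero⟩

theorem h9_ficompl_surj {B : Type v} {C : Type w}
    [AddCommGroup B] [TopologicalSpace B] [AddCommGroup C] [TopologicalSpace C]
    (p : B →+ C) (hp : Continuous p) (hpo : IsOpenMap p) (hps : Function.Surjective p) :
    Function.Surjective (W4c61motalbduality.FICompl.map p hp) := by
  intro z
  have hle : ∀ V : W4c61motalbduality.OpenFI B,
      V.toAddSubgroup ≤ (h9_imgFI p hpo hps V).toAddSubgroup.comap p :=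
    fun V => AddSubgroup.le_comap_map p V.toAddSubgroup
  have hmono : ∀ V V' : W4c61motalbduality.OpenFI B, V'.toAddSubgroup ≤ V.toAddSubgroup →
      (h9_imgFI p hpo hps V').toAddSubgroup ≤ (h9_imgFI p hpo hps V).toAddSubgroup :=
    fun V V' h => AddSubgroup.map_mono h
  haveI hfin : ∀ V : W4c61motalbduality.OpenFI B, Finite (B ⧸ V.toAddSubgroup) := fun V => by
    haveI := V.finiteIndex'
    exact AddSubgroup.finite_quotient_of_finiteIndex
  haveI hne : ∀ V : W4c61motalbduality.OpenFI B, Nonempty {x : B ⧸ V.toAddSubgroup //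
      QuotientAddGroup.map V.toAddSubgroup (h9_imgFI p hpo hps V).toAddSubgroup p (hle V) x =
        z.1 (h9_imgFI p hpo hps V)} := fun V => by
    obtain ⟨c, hc⟩ := QuotientAddGroup.mk_surjective (z.1 (h9_imgFI p hpo hps V))
    obtain ⟨b, rfl⟩ := hps c
    exact ⟨⟨QuotientAddGroup.mk b, by rw [← hc]; rfl⟩⟩
  have hπ : ∀ (V V' : W4c61motalbduality.OpenFI B) (h : V'.toAddSubgroup ≤ V.toAddSubgroup)
      (x : B ⧸ V'.toAddSubgroup)
      (hx : QuotientAddGroup.map V'.toAddSubgroup (h9_imgFI p hpo hps V').toAddSubgroup p (hle V') x =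
        z.1 (h9_imgFI p hpo hps V')),
      QuotientAddGroup.map V.toAddSubgroup (h9_imgFI p hpo hps V).toAddSubgroup p (hle V)
        (QuotientAddGroup.map V'.toAddSubgroup V.toAddSubgroup (AddMonoidHom.id B) h x) =
        z.1 (h9_imgFI p hpo hps V) := by
    intro V V' h x hx
    obtain ⟨b, rfl⟩ := QuotientAddGroup.mk_surjective x
    have hz := z.2 (h9_imgFI p hpo hps V') (h9_imgFI p hpo hps V) (hmono V V' h)
    rw [← hz, ← hx]
    rfl
  obtain ⟨s, hs⟩ := h9_invlim (J := W4c61motalbduality.OpenFI B)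
    (fun V V' => V'.toAddSubgroup ≤ V.toAddSubgroup) (fun V => le_refl _)
    (fun a b c hab hbc => le_trans hbc hab)
    (fun V V' => ⟨h9_infFI V V', inf_le_left, inf_le_right⟩)
    (fun V => {x : B ⧸ V.toAddSubgroup //
      QuotientAddGroup.map V.toAddSubgroup (h9_imgFI p hpo hps V).toAddSubgroup p (hle V) x =
        z.1 (h9_imgFI p hpo hps V)})
    (fun V V' h x => ⟨QuotientAddGroup.map V'.toAddSubgroup V.toAddSubgroup
      (AddMonoidHom.id B) h x.1, hπ V V' h x.1 x.2⟩)
    (fun V h x => by
      obtain ⟨x, hx⟩ := x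
      obtain ⟨b, rfl⟩ := QuotientAddGroup.mk_surjective x
      rfl)
    (fun V V' V'' h h' h'' x => by
      obtain ⟨x, hx⟩ := x
      obtain ⟨b, rfl⟩ := QuotientAddGroup.mk_surjective x
      rfl)
  refine ⟨⟨fun V => (s V).1, fun U V h => congrArg Subtype.val (hs V U h)⟩, ?_⟩
  apply Subtype.ext
  funext W
  show QuotientAddGroup.map (W.comap p hp).toAddSubgroup W.toAddSubgroup p (W.comap_le p)
    (s (W.comap p hp)).1 = z.1 W
  have h1 := (s (W.comap p hp)).2
  have hPle : (h9_imgFI p hpo hps (W.comap p hp)).toAddSubgroup ≤ W.toAddSubgroup :=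
    AddSubgroup.map_comap_le p W.toAddSubgroup
  have h2 := z.2 (h9_imgFI p hpo hps (W.comap p hp)) W hPle
  have key : ∀ x : B ⧸ (W.comap p hp).toAddSubgroup,
      QuotientAddGroup.map (W.comap p hp).toAddSubgroup W.toAddSubgroup p (W.comap_le p) x =
      QuotientAddGroup.map (h9_imgFI p hpo hps (W.comap p hp)).toAddSubgroup W.toAddSubgroup
        (AddMonoidHom.id C) hPle
        (QuotientAddGroup.map (W.comap p hp).toAddSubgroup
          (h9_imgFI p hpo hps (W.comap p hp)).toAddSubgroup p (hle (W.comap p hp)) x) := by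
    intro x
    obtain ⟨b, rfl⟩ := QuotientAddGroup.mk_surjective x
    rfl
  rw [key, h1]
  exact h2

theorem h9_ficompl_ker {A : Type u} {B : Type v} {C : Type w}
    [AddCommGroup A] [TopologicalSpace A]
    [AddCommGroup B] [TopologicalSpace B] [AddCommGroup C] [TopologicalSpace C]
    (i : A →+ B) (hi : Continuous i)
    (p : B →+ C) (hp : Continuous p) (hpo : IsOpenMap p) (hps : Function.Surjective p)
    (hex : p.ker = i.range) :
    (W4c61motalbduality.FICompl.map p hp).ker = (W4c61motalbduality.FICompl.map i hi).range := by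
  apply le_antisymm
  · intro y hy
    rw [AddMonoidHom.mem_ker] at hy
    have hy1 : ∀ V : W4c61motalbduality.OpenFI B,
        ∃ a : A, (QuotientAddGroup.mk (i a) : B ⧸ V.toAddSubgroup) = y.1 V := by
      intro V
      obtain ⟨b, hb⟩ := QuotientAddGroup.mk_surjective (y.1 V)
      have hle : V.toAddSubgroup ≤ ((h9_imgFI p hpo hps V).comap p hp).toAddSubgroup :=
        AddSubgroup.le_comap_map p V.toAddSubgroup
      have hc := y.2 V ((h9_imgFI p hpo hps V).comap p hp) hle
      have h0 := congrArg (fun t => t.1 (h9_imgFI p hpo hps V)) hy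
      have h0' : QuotientAddGroup.map ((h9_imgFI p hpo hps V).comap p hp).toAddSubgroup
          (h9_imgFI p hpo hps V).toAddSubgroup p ((h9_imgFI p hpo hps V).comap_le p)
          (y.1 ((h9_imgFI p hpo hps V).comap p hp)) = 0 := h0
      rw [← hc, ← hb] at h0'
      have h3 : p b ∈ (h9_imgFI p hpo hps V).toAddSubgroup :=
        (QuotientAddGroup.eq_zero_iff (p b)).mp h0'
      obtain ⟨v, hv, hpv⟩ := AddSubgroup.mem_map.mp h3
      have h4 : b - v ∈ p.ker := by rw [AddMonoidHom.mem_ker, map_sub, hpv, sub_self]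
      rw [hex] at h4
      obtain ⟨a, ha⟩ := h4
      refine ⟨a, ?_⟩
      rw [ha, ← hb, QuotientAddGroup.eq]
      have e : -(b - v) + b = v := by abel
      rw [e]
      exact hv
    haveI hfin : ∀ U : W4c61motalbduality.OpenFI A, Finite (A ⧸ U.toAddSubgroup) := fun U => by
      haveI := U.finiteIndex'
      exact AddSubgroup.finite_quotient_of_finiteIndex
    haveI hne : ∀ q : {q : W4c61motalbduality.OpenFI A × W4c61motalbduality.OpenFI B //
        q.1.toAddSubgroup ≤ (q.2.comap i hi).toAddSubgroup},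
        Nonempty {x : A ⧸ q.1.1.toAddSubgroup //
          QuotientAddGroup.map q.1.1.toAddSubgroup q.1.2.toAddSubgroup i q.2 x = y.1 q.1.2} :=
      fun q => by
        obtain ⟨a, ha⟩ := hy1 q.1.2
        exact ⟨⟨QuotientAddGroup.mk a, ha⟩⟩
    have hπ : ∀ (q q' : {q : W4c61motalbduality.OpenFI A × W4c61motalbduality.OpenFI B //
        q.1.toAddSubgroup ≤ (q.2.comap i hi).toAddSubgroup})
        (h : q'.1.1.toAddSubgroup ≤ q.1.1.toAddSubgroup ∧
          q'.1.2.toAddSubgroup ≤ q.1.2.toAddSubgroup)
        (x : A ⧸ q'.1.1.toAddSubgroup)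
        (hx : QuotientAddGroup.map q'.1.1.toAddSubgroup q'.1.2.toAddSubgroup i q'.2 x = y.1 q'.1.2),
        QuotientAddGroup.map q.1.1.toAddSubgroup q.1.2.toAddSubgroup i q.2
          (QuotientAddGroup.map q'.1.1.toAddSubgroup q.1.1.toAddSubgroup (AddMonoidHom.id A) h.1 x) =
          y.1 q.1.2 := by
      intro q q' h x hx
      obtain ⟨a, rfl⟩ := QuotientAddGroup.mk_surjective x
      have hz := y.2 q'.1.2 q.1.2 h.2
      rw [← hz, ← hx]
      rfl
    obtain ⟨s, hs⟩ := h9_invlim
      (J := {q : W4c61motalbduality.OpenFI A × W4c61motalbduality.OpenFI B //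
        q.1.toAddSubgroup ≤ (q.2.comap i hi).toAddSubgroup})
      (fun q q' => q'.1.1.toAddSubgroup ≤ q.1.1.toAddSubgroup ∧
        q'.1.2.toAddSubgroup ≤ q.1.2.toAddSubgroup)
      (fun q => ⟨le_refl _, le_refl _⟩)
      (fun a b c hab hbc => ⟨le_trans hbc.1 hab.1, le_trans hbc.2 hab.2⟩)
      (fun q q' => ⟨⟨(h9_infFI q.1.1 q'.1.1, h9_infFI q.1.2 q'.1.2), fun a ha =>
          AddSubgroup.mem_inf.mpr ⟨q.2 (AddSubgroup.mem_inf.mp ha).1,
            q'.2 (AddSubgroup.mem_inf.mp ha).2⟩⟩,
        ⟨inf_le_left, inf_le_left⟩, ⟨inf_le_right, inf_le_right⟩⟩)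
      (fun q => {x : A ⧸ q.1.1.toAddSubgroup //
          QuotientAddGroup.map q.1.1.toAddSubgroup q.1.2.toAddSubgroup i q.2 x = y.1 q.1.2})
      (fun q q' h x => ⟨QuotientAddGroup.map q'.1.1.toAddSubgroup q.1.1.toAddSubgroup
        (AddMonoidHom.id A) h.1 x.1, hπ q q' h x.1 x.2⟩)
      (fun q h x => by
        obtain ⟨x, hx⟩ := x
        obtain ⟨a, rfl⟩ := QuotientAddGroup.mk_surjective x
        rfl)
      (fun q q' q'' h h' h'' x => by
        obtain ⟨x, hx⟩ := x
        obtain ⟨a, rfl⟩ := QuotientAddGroup.mk_surjective x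
        rfl)
    have htop : ∀ U : W4c61motalbduality.OpenFI A,
        U.toAddSubgroup ≤ ((h9_topFI B).comap i hi).toAddSubgroup :=
      fun U a _ => AddSubgroup.mem_comap.mpr (AddSubgroup.mem_top _)
    refine ⟨⟨fun U => (s ⟨(U, h9_topFI B), htop U⟩).1, fun U V h =>
      congrArg Subtype.val (hs ⟨(V, h9_topFI B), htop V⟩ ⟨(U, h9_topFI B), htop U⟩
        ⟨h, le_refl _⟩)⟩, ?_⟩
    apply Subtype.ext
    funext V
    show QuotientAddGroup.map (V.comap i hi).toAddSubgroup V.toAddSubgroup i (V.comap_le i)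
      (s ⟨(V.comap i hi, h9_topFI B), htop (V.comap i hi)⟩).1 = y.1 V
    have e1 := congrArg Subtype.val (hs ⟨(V.comap i hi, h9_topFI B), htop (V.comap i hi)⟩
      ⟨(V.comap i hi, V), le_refl _⟩ ⟨le_refl _, le_top⟩)
    generalize s ⟨(V.comap i hi, V), le_refl _⟩ = t at e1
    obtain ⟨t, ht⟩ := t
    obtain ⟨a, rfl⟩ := QuotientAddGroup.mk_surjective t
    rw [← e1]
    exact ht
  · rintro _ ⟨x, rfl⟩
    rw [AddMonoidHom.mem_ker]
    apply Subtype.ext
    funext W
    show QuotientAddGroup.map (W.comap p hp).toAddSubgroup W.toAddSubgroup p (W.comap_le p)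
      (QuotientAddGroup.map ((W.comap p hp).comap i hi).toAddSubgroup (W.comap p hp).toAddSubgroup i
        ((W.comap p hp).comap_le i) (x.1 ((W.comap p hp).comap i hi))) = 0
    obtain ⟨a, ha⟩ := QuotientAddGroup.mk_surjective (x.1 ((W.comap p hp).comap i hi))
    rw [← ha]
    show ((p (i a) : C) : C ⧸ W.toAddSubgroup) = 0
    have h1 : p (i a) = 0 := by
      have h2 : i a ∈ p.ker := by rw [hex]; exact ⟨a, rfl⟩
      exact h2
    rw [h1]
    rfl

open W4c61motalbduality in
/-- Let i : A → B and p : B → C be continuous homomorphisms of topological abelian groups with p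
surjective and open and with the kernel of p equal to the image of i. Then the induced sequence of
completions with respect to open subgroups of finite index, A^∧ → B^∧ → C^∧ → 0, is exact: the map
B^∧ → C^∧ is surjective and its kernel is the image of A^∧. The completion is the group of
compatible families of residues modulo all open subgroups of finite index. (The published statement
takes i injective, as the first map of an exact sequence 0 → A → B → C → 0 of topological abelian
groups; here it is only assumed that the image of i is the kernel of p, which is all the proof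
uses.) -/
theorem result
    {A : Type u} {B : Type v} {C : Type w}
    [AddCommGroup A] [TopologicalSpace A] [IsTopologicalAddGroup A]
    [AddCommGroup B] [TopologicalSpace B] [IsTopologicalAddGroup B]
    [AddCommGroup C] [TopologicalSpace C] [IsTopologicalAddGroup C]
    (i : A →+ B) (hi : Continuous i) (p : B →+ C) (hp : Continuous p)
    (hpo : IsOpenMap p) (hps : Function.Surjective p) (hex : p.ker = i.range) :
    Function.Surjective (FICompl.map p hp) ∧ (FICompl.map p hp).ker = (FICompl.map i hi).range := by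
  exact ⟨h9_ficompl_surj p hp hpo hps, h9_ficompl_ker i hi p hp hpo hps hex⟩

end Groth.Agent.S19172
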