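import Groth.Statements.S19176
import Mathlib

set_option autoImplicit false
universe u
open PlaneCurve

namespace Groth.Agent.S19176

open MvPolynomial in
theorem finrank_monomial_quot (k : Type u) [Field k] (a b : ℕ) :
    Module.finrank k (MvPolynomial (Fin 2) k ⧸
      Ideal.span ({X 0 ^ a, X 1 ^ b} : Set (MvPolynomial (Fin 2) k))) = a * b := by
  classical
  obtain ⟨e, he⟩ : ∃ e : ℕ → ℕ → (Fin 2 →₀ ℕ),
      e = fun i j => Finsupp.single 0 i + Finsupp.single 1 j := ⟨_, rfl⟩
  have he0 : ∀ i j, e i j 0 = i := by intro i j; rw [he]; simp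
  have he1 : ∀ i j, e i j 1 = j := by intro i j; rw [he]; simp
  have hem : ∀ m : Fin 2 →₀ ℕ, m = e (m 0) (m 1) := by
    intro m
    have h1 : ∀ s : Fin 2, m s = e (m 0) (m 1) s :=
      Fin.forall_fin_two.mpr ⟨(he0 _ _).symm, (he1 _ _).symm⟩
    exact Finsupp.ext h1
  obtain ⟨ψ, hψ⟩ : ∃ ψ : MvPolynomial (Fin 2) k →ₗ[k] (Fin a × Fin b → k),
      ∀ f p, ψ f p = coeff (e p.1 p.2) f :=
    ⟨{ toFun := fun f p => coeff (e p.1 p.2) f
       map_add' := fun f g => by funext p; simp [coeff_add]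
       map_smul' := fun c f => by funext p; simp [coeff_smul] }, fun f p => rfl⟩
  have hsurj : Function.Surjective ψ := by
    intro c
    refine ⟨∑ q : Fin a × Fin b, monomial (e q.1 q.2) (c q), ?_⟩
    funext p
    rw [hψ, coeff_sum, Finset.sum_eq_single p]
    · rw [coeff_monomial, if_pos rfl]
    · intro q _ hqp
      rw [coeff_monomial, if_neg]
      intro heq
      apply hqp
      have h0 : e q.1 q.2 0 = e p.1 p.2 0 := by rw [heq]
      have h1 : e q.1 q.2 1 = e p.1 p.2 1 := by rw [heq]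
      rw [he0, he0] at h0
      rw [he1, he1] at h1
      exact Prod.ext (Fin.ext h0) (Fin.ext h1)
    · intro h; exact absurd (Finset.mem_univ p) h
  have hn0 : ∀ p : Fin a × Fin b, ¬ (Finsupp.single (0 : Fin 2) a ≤ e p.1 p.2) := by
    intro p hle
    have h0 := hle 0
    rw [he0, Finsupp.single_eq_same] at h0
    exact absurd p.1.2 (not_lt.mpr h0)
  have hn1 : ∀ p : Fin a × Fin b, ¬ (Finsupp.single (1 : Fin 2) b ≤ e p.1 p.2) := by
    intro p hle
    have h0 := hle 1
    rw [he1, Finsupp.single_eq_same] at h0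
    exact absurd p.2.2 (not_lt.mpr h0)
  have hker : LinearMap.ker ψ = (Ideal.span
      ({X 0 ^ a, X 1 ^ b} : Set (MvPolynomial (Fin 2) k))).restrictScalars k := by
    ext f
    rw [LinearMap.mem_ker, Submodule.restrictScalars_mem]
    constructor
    · intro hf
      have hf' : ∀ p : Fin a × Fin b, coeff (e p.1 p.2) f = 0 := fun p => by rw [← hψ, hf]; rfl
      rw [← support_sum_monomial_coeff f]
      refine Ideal.sum_mem _ (fun m hm => ?_)
      have hc : coeff m f ≠ 0 := mem_support_iff.mp hm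
      have hcase : a ≤ m 0 ∨ b ≤ m 1 := by
        by_contra hcon
        have hcon' := not_or.mp hcon
        apply hc
        have h1 := hf' (⟨m 0, not_le.mp hcon'.1⟩, ⟨m 1, not_le.mp hcon'.2⟩)
        rw [hem m]; exact h1
      rcases hcase with h | h
      · have hle : Finsupp.single (0 : Fin 2) a ≤ m := by
          intro s
          revert s
          exact Fin.forall_fin_two.mpr ⟨by simpa using h, by simp⟩
        have hm_eq : monomial m (coeff m f)
            = monomial (m - Finsupp.single 0 a) (coeff m f) * X 0 ^ a := by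
          rw [X_pow_eq_monomial, monomial_mul, mul_one, tsub_add_cancel_of_le hle]
        rw [hm_eq]
        exact Ideal.mul_mem_left _ _ (Ideal.subset_span (by simp))
      · have hle : Finsupp.single (1 : Fin 2) b ≤ m := by
          intro s
          revert s
          exact Fin.forall_fin_two.mpr ⟨by simp, by simpa using h⟩
        have hm_eq : monomial m (coeff m f)
            = monomial (m - Finsupp.single 1 b) (coeff m f) * X 1 ^ b := by
          rw [X_pow_eq_monomial, monomial_mul, mul_one, tsub_add_cancel_of_le hle]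
        rw [hm_eq]
        exact Ideal.mul_mem_left _ _ (Ideal.subset_span (by simp))
    · intro hf
      obtain ⟨u, v, rfl⟩ := Ideal.mem_span_pair.mp hf
      funext p
      rw [hψ, coeff_add, X_pow_eq_monomial, X_pow_eq_monomial, coeff_mul_monomial',
        coeff_mul_monomial', if_neg (hn0 p), if_neg (hn1 p), add_zero]
      rfl
  have e1 : (MvPolynomial (Fin 2) k ⧸ LinearMap.ker ψ) ≃ₗ[k] (Fin a × Fin b → k) :=
    ψ.quotKerEquivOfSurjective hsurj
  have e2 := Submodule.Quotient.restrictScalarsEquiv k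
    (Ideal.span ({X 0 ^ a, X 1 ^ b} : Set (MvPolynomial (Fin 2) k)))
  have e3 := Submodule.quotEquivOfEq _ _ hker
  calc Module.finrank k (MvPolynomial (Fin 2) k ⧸
        Ideal.span ({X 0 ^ a, X 1 ^ b} : Set (MvPolynomial (Fin 2) k)))
      = Module.finrank k (MvPolynomial (Fin 2) k ⧸ (Ideal.span
        ({X 0 ^ a, X 1 ^ b} : Set (MvPolynomial (Fin 2) k))).restrictScalars k) :=
        e2.finrank_eq.symm
    _ = Module.finrank k (MvPolynomial (Fin 2) k ⧸ LinearMap.ker ψ) := e3.finrank_eq.symm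
    _ = Module.finrank k (Fin a × Fin b → k) := e1.finrank_eq
    _ = a * b := by
      rw [Module.finrank_fintype_fun_eq_card, Fintype.card_prod, Fintype.card_fin,
        Fintype.card_fin]

open MvPolynomial in
theorem cusp_ideal_eq (k : Type u) [Field k] (c2 c3 : k) :
    (c2 = 0 → c3 ≠ 0 → Ideal.span ({X 1 ^ 2 - X 0 ^ 3, -(C c3 * X 0 ^ 2), C c2 * X 1} :
        Set (MvPolynomial (Fin 2) k)) = Ideal.span {X 0 ^ 2, X 1 ^ 2}) ∧
    (c3 = 0 → c2 ≠ 0 → Ideal.span ({X 1 ^ 2 - X 0 ^ 3, -(C c3 * X 0 ^ 2), C c2 * X 1} :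
        Set (MvPolynomial (Fin 2) k)) = Ideal.span {X 0 ^ 3, X 1 ^ 1}) ∧
    (c2 ≠ 0 → c3 ≠ 0 → Ideal.span ({X 1 ^ 2 - X 0 ^ 3, -(C c3 * X 0 ^ 2), C c2 * X 1} :
        Set (MvPolynomial (Fin 2) k)) = Ideal.span {X 0 ^ 2, X 1 ^ 1}) := by
  obtain ⟨J, hJ⟩ : ∃ J : Ideal (MvPolynomial (Fin 2) k),
      J = Ideal.span ({X 1 ^ 2 - X 0 ^ 3, -(C c3 * X 0 ^ 2), C c2 * X 1} :
        Set (MvPolynomial (Fin 2) k)) := ⟨_, rfl⟩
  rw [← hJ]
  have hF : (X 1 ^ 2 - X 0 ^ 3 : MvPolynomial (Fin 2) k) ∈ J := by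
    rw [hJ]; exact Ideal.subset_span (by simp)
  have hP : (-(C c3 * X 0 ^ 2) : MvPolynomial (Fin 2) k) ∈ J := by
    rw [hJ]; exact Ideal.subset_span (by simp)
  have hQ : (C c2 * X 1 : MvPolynomial (Fin 2) k) ∈ J := by
    rw [hJ]; exact Ideal.subset_span (by simp)
  have hJle : ∀ I : Ideal (MvPolynomial (Fin 2) k),
      (X 1 ^ 2 - X 0 ^ 3 : MvPolynomial (Fin 2) k) ∈ I →
      (-(C c3 * X 0 ^ 2) : MvPolynomial (Fin 2) k) ∈ I →
      (C c2 * X 1 : MvPolynomial (Fin 2) k) ∈ I → J ≤ I := by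
    intro I h1 h2 h3
    rw [hJ, Ideal.span_le]
    intro z hz
    simp only [Set.mem_insert_iff, Set.mem_singleton_iff] at hz
    rcases hz with rfl | rfl | rfl
    · exact h1
    · exact h2
    · exact h3
  have hx2 : c3 ≠ 0 → (X 0 ^ 2 : MvPolynomial (Fin 2) k) ∈ J := by
    intro h3
    have h1 : (X 0 ^ 2 : MvPolynomial (Fin 2) k) = (-(C c3⁻¹)) * (-(C c3 * X 0 ^ 2)) := by
      rw [neg_mul_neg, ← mul_assoc, ← map_mul, inv_mul_cancel₀ h3, map_one, one_mul]
    rw [h1]; exact Ideal.mul_mem_left _ _ hP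
  have hy : c2 ≠ 0 → (X 1 : MvPolynomial (Fin 2) k) ∈ J := by
    intro h2
    have h1 : (X 1 : MvPolynomial (Fin 2) k) = C c2⁻¹ * (C c2 * X 1) := by
      rw [← mul_assoc, ← map_mul, inv_mul_cancel₀ h2, map_one, one_mul]
    rw [h1]; exact Ideal.mul_mem_left _ _ hQ
  refine ⟨fun h2 h3 => ?_, fun h3 h2 => ?_, fun h2 h3 => ?_⟩
  · have hA : (X 0 ^ 2 : MvPolynomial (Fin 2) k) ∈ Ideal.span ({X 0 ^ 2, X 1 ^ 2} :
        Set (MvPolynomial (Fin 2) k)) := Ideal.subset_span (by simp)
    have hB : (X 1 ^ 2 : MvPolynomial (Fin 2) k) ∈ Ideal.span ({X 0 ^ 2, X 1 ^ 2} :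
        Set (MvPolynomial (Fin 2) k)) := Ideal.subset_span (by simp)
    apply le_antisymm
    · apply hJle
      · have h1 : (X 1 ^ 2 - X 0 ^ 3 : MvPolynomial (Fin 2) k)
            = X 1 ^ 2 - X 0 * X 0 ^ 2 := by ring
        rw [h1]; exact Ideal.sub_mem _ hB (Ideal.mul_mem_left _ _ hA)
      · exact Ideal.neg_mem_iff _ |>.mpr (Ideal.mul_mem_left _ _ hA)
      · rw [h2, map_zero, zero_mul]; exact Ideal.zero_mem _
    · rw [Ideal.span_le]
      intro z hz
      simp only [Set.mem_insert_iff, Set.mem_singleton_iff] at hz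
      rcases hz with rfl | rfl
      · exact hx2 h3
      · have h1 : (X 1 ^ 2 : MvPolynomial (Fin 2) k)
            = (X 1 ^ 2 - X 0 ^ 3) + X 0 * X 0 ^ 2 := by ring
        show (X 1 ^ 2 : MvPolynomial (Fin 2) k) ∈ J
        rw [h1]; exact Ideal.add_mem _ hF (Ideal.mul_mem_left _ _ (hx2 h3))
  · have hA : (X 0 ^ 3 : MvPolynomial (Fin 2) k) ∈ Ideal.span ({X 0 ^ 3, X 1 ^ 1} :
        Set (MvPolynomial (Fin 2) k)) := Ideal.subset_span (by simp)
    have hB : (X 1 ^ 1 : MvPolynomial (Fin 2) k) ∈ Ideal.span ({X 0 ^ 3, X 1 ^ 1} :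
        Set (MvPolynomial (Fin 2) k)) := Ideal.subset_span (by simp)
    apply le_antisymm
    · apply hJle
      · have h1 : (X 1 ^ 2 - X 0 ^ 3 : MvPolynomial (Fin 2) k)
            = X 1 * X 1 ^ 1 - X 0 ^ 3 := by ring
        rw [h1]; exact Ideal.sub_mem _ (Ideal.mul_mem_left _ _ hB) hA
      · rw [h3, map_zero, zero_mul, neg_zero]; exact Ideal.zero_mem _
      · have h1 : (C c2 * X 1 : MvPolynomial (Fin 2) k) = C c2 * X 1 ^ 1 := by rw [pow_one]
        rw [h1]; exact Ideal.mul_mem_left _ _ hB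
    · rw [Ideal.span_le]
      intro z hz
      simp only [Set.mem_insert_iff, Set.mem_singleton_iff] at hz
      rcases hz with rfl | rfl
      · have h1 : (X 0 ^ 3 : MvPolynomial (Fin 2) k)
            = X 1 * X 1 - (X 1 ^ 2 - X 0 ^ 3) := by ring
        show (X 0 ^ 3 : MvPolynomial (Fin 2) k) ∈ J
        rw [h1]; exact Ideal.sub_mem _ (Ideal.mul_mem_left _ _ (hy h2)) hF
      · show (X 1 ^ 1 : MvPolynomial (Fin 2) k) ∈ J
        rw [pow_one]; exact hy h2
  · have hA : (X 0 ^ 2 : MvPolynomial (Fin 2) k) ∈ Ideal.span ({X 0 ^ 2, X 1 ^ 1} :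
        Set (MvPolynomial (Fin 2) k)) := Ideal.subset_span (by simp)
    have hB : (X 1 ^ 1 : MvPolynomial (Fin 2) k) ∈ Ideal.span ({X 0 ^ 2, X 1 ^ 1} :
        Set (MvPolynomial (Fin 2) k)) := Ideal.subset_span (by simp)
    apply le_antisymm
    · apply hJle
      · have h1 : (X 1 ^ 2 - X 0 ^ 3 : MvPolynomial (Fin 2) k)
            = X 1 * X 1 ^ 1 - X 0 * X 0 ^ 2 := by ring
        rw [h1]
        exact Ideal.sub_mem _ (Ideal.mul_mem_left _ _ hB) (Ideal.mul_mem_left _ _ hA)
      · exact Ideal.neg_mem_iff _ |>.mpr (Ideal.mul_mem_left _ _ hA)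
      · have h1 : (C c2 * X 1 : MvPolynomial (Fin 2) k) = C c2 * X 1 ^ 1 := by rw [pow_one]
        rw [h1]; exact Ideal.mul_mem_left _ _ hB
    · rw [Ideal.span_le]
      intro z hz
      simp only [Set.mem_insert_iff, Set.mem_singleton_iff] at hz
      rcases hz with rfl | rfl
      · exact hx2 h3
      · show (X 1 ^ 1 : MvPolynomial (Fin 2) k) ∈ J
        rw [pow_one]; exact hy h2

open MvPolynomial in
/-- Let k be a field of characteristic p (p = 0 allowed) and F = y² − x³ in k[x, y] (x the variable of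
index 0, y of index 1). The singular subscheme of the plane curve F = 0, cut out by F and its two
partial derivatives, is finite over k of degree 4 when p = 2, of degree 3 when p = 3, and of degree
2 otherwise: the k-dimension of k[x, y]/(F, ∂F/∂x, ∂F/∂y) is that number. (The source phrases this
through the complete local ring of a cusp; the row is the computation for the standard cusp y² =
x³.) -/
theorem result (k : Type u) [Field k] (p : ℕ) [CharP k p] :
    Module.finrank k (MvPolynomial (Fin 2) k ⧸ Ideal.span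
      ({X 1 ^ 2 - X 0 ^ 3, pderiv 0 (X 1 ^ 2 - X 0 ^ 3), pderiv 1 (X 1 ^ 2 - X 0 ^ 3)} :
        Set (MvPolynomial (Fin 2) k))) = (if p = 2 then 4 else if p = 3 then 3 else 2) := by
  have hd0 : pderiv (0 : Fin 2) (X 1 ^ 2 - X 0 ^ 3 : MvPolynomial (Fin 2) k)
      = -(C (3 : k) * X 0 ^ 2) := by
    rw [map_sub, pderiv_pow, pderiv_pow, pderiv_X_self, pderiv_X_of_ne (by decide),
      map_ofNat C 3]
    simp
  have hd1 : pderiv (1 : Fin 2) (X 1 ^ 2 - X 0 ^ 3 : MvPolynomial (Fin 2) k)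
      = C (2 : k) * X 1 := by
    rw [map_sub, pderiv_pow, pderiv_pow, pderiv_X_self, pderiv_X_of_ne (by decide),
      map_ofNat C 2]
    simp
  rw [hd0, hd1]
  obtain ⟨h_i, h_ii, h_iii⟩ := cusp_ideal_eq k (2 : k) (3 : k)
  by_cases h2 : p = 2
  · subst h2
    rw [if_pos rfl]
    have c2 : (2 : k) = 0 := by exact_mod_cast CharP.cast_eq_zero k 2
    have c3 : (3 : k) ≠ 0 := by
      have h1 : (3 : k) = 1 := by rw [show (3 : k) = 2 + 1 by norm_num, c2, zero_add]
      rw [h1]; exact one_ne_zero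
    rw [h_i c2 c3, finrank_monomial_quot]
  · by_cases h3 : p = 3
    · subst h3
      rw [if_neg h2, if_pos rfl]
      have c3 : (3 : k) = 0 := by exact_mod_cast CharP.cast_eq_zero k 3
      have c2 : (2 : k) ≠ 0 := by
        intro h
        have h1 : ((2 : ℕ) : k) = 0 := by exact_mod_cast h
        rw [CharP.cast_eq_zero_iff k 3] at h1
        omega
      rw [h_ii c3 c2, finrank_monomial_quot]
    · rw [if_neg h2, if_neg h3]
      have hp1 : p ≠ 1 := CharP.char_ne_one k p
      have c2 : (2 : k) ≠ 0 := by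
        intro h
        have h1 : ((2 : ℕ) : k) = 0 := by exact_mod_cast h
        rw [CharP.cast_eq_zero_iff k p] at h1
        rcases (Nat.dvd_prime Nat.prime_two).mp h1 with h | h
        · exact hp1 h
        · exact h2 h
      have c3 : (3 : k) ≠ 0 := by
        intro h
        have h1 : ((3 : ℕ) : k) = 0 := by exact_mod_cast h
        rw [CharP.cast_eq_zero_iff k p] at h1
        rcases (Nat.dvd_prime Nat.prime_three).mp h1 with h | h
        · exact hp1 h
        · exact h3 h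
      rw [h_iii c2 c3, finrank_monomial_quot]

end Groth.Agent.S19176
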