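import Groth.Statements.S19181
import Mathlib

set_option autoImplicit false
universe u
open CAlg

namespace Groth.Agent.S19181

theorem sat {P : Type*} [CommRing P] (y g : P)
    (H1 : ∀ a b : P, y * a = y * b → a = b)
    (H2 : ∀ h : P, y ∣ g * h → y ∣ h) (s : P) :
    (∃ n : ℕ, y ^ n * s ∈ Ideal.span ({y ^ 2 * g} : Set P)) ↔ s ∈ Ideal.span ({g} : Set P) := by
  have key : ∀ n : ℕ, ∀ s h' : P, y ^ n * s = g * h' → g ∣ s := by
    intro n
    induction n with
    | zero =>
      intro s h' h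
      rw [pow_zero, one_mul] at h
      exact ⟨h', h⟩
    | succ n ih =>
      intro s h' h
      have hd : y ∣ g * h' := ⟨y ^ n * s, by rw [← h]; ring⟩
      obtain ⟨h'', rfl⟩ := H2 h' hd
      apply ih s h''
      apply H1
      rw [← mul_assoc, ← pow_succ', h]
      ring
  constructor
  · rintro ⟨n, hn⟩
    rw [Ideal.mem_span_singleton'] at hn
    obtain ⟨c, hc⟩ := hn
    rw [Ideal.mem_span_singleton]
    exact key n s (c * y ^ 2) (by rw [← hc]; ring)
  · intro hs
    rw [Ideal.mem_span_singleton'] at hs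
    obtain ⟨c, rfl⟩ := hs
    refine ⟨2, ?_⟩
    rw [Ideal.mem_span_singleton']
    exact ⟨c, by ring⟩

open MvPolynomial in
theorem X0_cancel {R : Type*} [CommRing R] (a b : MvPolynomial (Fin 2) R)
    (h : X 0 * a = X 0 * b) : a = b := by
  ext m
  have h1 := congrArg (coeff (Finsupp.single 0 1 + m)) h
  rwa [coeff_X_mul, coeff_X_mul] at h1

open MvPolynomial in
noncomputable def ev0 (R : Type*) [CommRing R] :
    MvPolynomial (Fin 2) R →ₐ[R] MvPolynomial (Fin 2) R :=
  aeval (fun i : Fin 2 => if i = 0 then (0 : MvPolynomial (Fin 2) R) else X i)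

open MvPolynomial in
theorem ev0_X0 {R : Type*} [CommRing R] : ev0 R (X 0) = 0 := by simp [ev0]

open MvPolynomial in
theorem ev0_X1 {R : Type*} [CommRing R] : ev0 R (X 1) = X 1 := by simp [ev0]

open MvPolynomial in
theorem ev0_C {R : Type*} [CommRing R] (a : R) : ev0 R (C a) = C a := by simp [ev0]

open MvPolynomial in
theorem X0_dvd_sub_ev0 {R : Type*} [CommRing R] (p : MvPolynomial (Fin 2) R) :
    X 0 ∣ p - ev0 R p := by
  refine MvPolynomial.induction_on (motive := fun p => X 0 ∣ p - ev0 R p) p ?_ ?_ ?_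
  · intro a
    rw [ev0_C, sub_self]
    exact dvd_zero _
  · intro p q hp hq
    have e : p + q - ev0 R (p + q) = (p - ev0 R p) + (q - ev0 R q) := by
      rw [map_add]
      ring
    rw [e]
    exact dvd_add hp hq
  · intro p i hp
    rw [map_mul]
    by_cases hi : i = 0
    · subst hi
      rw [ev0_X0, mul_zero, sub_zero]
      exact Dvd.intro_left p rfl
    · have hi1 : i = 1 := Fin.eq_one_of_ne_zero i hi
      subst hi1
      rw [ev0_X1]
      have e : p * X 1 - ev0 R p * X 1 = (p - ev0 R p) * X 1 := by ring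
      rw [e]
      exact Dvd.dvd.mul_right hp _

open MvPolynomial in
theorem nzd_low {R : Type*} [CommRing R] (u f : MvPolynomial (Fin 2) R)
    (h : (1 - X 1 * u) * f = 0) : f = 0 := by
  have hf : f = X 1 * u * f := by
    have e : (1 - X 1 * u) * f = f - X 1 * u * f := by ring
    rw [e, sub_eq_zero] at h
    exact h
  have hpow : ∀ N : ℕ, f = X 1 ^ N * (u ^ N * f) := by
    intro N
    induction N with
    | zero => rw [pow_zero, pow_zero, one_mul, one_mul]
    | succ N ih =>
      have e : X 1 ^ (N + 1) * (u ^ (N + 1) * f) = X 1 ^ N * (u ^ N * (X 1 * u * f)) := by ring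
      rw [e, ← hf]
      exact ih
  ext m
  rw [coeff_zero, hpow (m 1 + 1), X_pow_eq_monomial, coeff_monomial_mul', if_neg]
  intro hle
  have h1 := Finsupp.le_def.mp hle 1
  rw [Finsupp.single_eq_same] at h1
  omega

open MvPolynomial in
theorem nzd_high {R : Type*} [CommRing R] (a₁ a₂ : R) (f : MvPolynomial (Fin 2) R)
    (h : (X 1 ^ 2 + C a₁ * X 1 - C a₂) * f = 0) : f = 0 := by
  by_contra hf
  have hne : f.support.Nonempty := by
    rw [Finset.nonempty_iff_ne_empty, Ne, MvPolynomial.support_eq_empty]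
    exact hf
  obtain ⟨m, hm, hmax⟩ := Finset.exists_max_image f.support (fun m => m 1) hne
  have hout : ∀ m' : Fin 2 →₀ ℕ, m 1 < m' 1 → coeff m' f = 0 := by
    intro m' hlt
    by_contra hc
    have := hmax m' (mem_support_iff.mpr hc)
    omega
  have hcoef := congrArg (coeff (Finsupp.single 1 1 + (Finsupp.single 1 1 + m))) h
  have e : (X 1 ^ 2 + C a₁ * X 1 - C a₂) * f =
      X 1 * (X 1 * f) + C a₁ * (X 1 * f) - C a₂ * f := by ring
  rw [e, coeff_sub, coeff_add, coeff_X_mul, coeff_X_mul, coeff_C_mul, coeff_X_mul, coeff_C_mul,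
    coeff_zero] at hcoef
  rw [hout (Finsupp.single 1 1 + m)
      (by rw [Finsupp.add_apply, Finsupp.single_eq_same]; omega),
    hout (Finsupp.single 1 1 + (Finsupp.single 1 1 + m))
      (by rw [Finsupp.add_apply, Finsupp.add_apply, Finsupp.single_eq_same]; omega)] at hcoef
  rw [mul_zero, mul_zero, add_zero, sub_zero] at hcoef
  exact (mem_support_iff.mp hm) hcoef

open MvPolynomial in
theorem H2_of_nzd {R : Type*} [CommRing R] (g : MvPolynomial (Fin 2) R)
    (hnzd : ∀ f, ev0 R g * f = 0 → f = 0) (h : MvPolynomial (Fin 2) R)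
    (hd : X 0 ∣ g * h) : X 0 ∣ h := by
  obtain ⟨c, hc⟩ := hd
  have h1 : ev0 R g * ev0 R h = 0 := by
    rw [← map_mul, hc, map_mul, ev0_X0, zero_mul]
  have h2 := hnzd _ h1
  have h3 := X0_dvd_sub_ev0 h
  rw [h2, sub_zero] at h3
  exact h3

open MvPolynomial in
/-- Let R be a commutative ring, a₁, a₂ ∈ R, and C ⊂ A²_R the curve y² + a₁xy = x³ + a₂x², blown up at
the section x = y = 0. In the chart where x = yα (variables y = X 0, α = X 1) the equation of C
becomes y²·g₁ with g₁ = 1 + a₁α − yα³ − a₂α², and the y-saturation of the ideal (y²g₁) is (g₁): for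
s ∈ R[y, α], some yⁿs lies in (y²g₁) if and only if s ∈ (g₁). In the chart where y = xβ (variables x
= X 0, β = X 1) the equation becomes x²·g₂ with g₂ = β² + a₁β − x − a₂, and some xⁿs lies in (x²g₂)
if and only if s ∈ (g₂). In other words the strict transform of C is cut out by g₁, resp. g₂, in the
two charts. -/
theorem result (R : Type u) [CommRing R] (a₁ a₂ : R) :
    (∀ s : MvPolynomial (Fin 2) R,
      (∃ n : ℕ, X 0 ^ n * s ∈ Ideal.span ({X 0 ^ 2 * (1 + C a₁ * X 1 - X 0 * X 1 ^ 3 - C a₂ * X 1 ^ 2)} :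
        Set (MvPolynomial (Fin 2) R))) ↔
      s ∈ Ideal.span ({1 + C a₁ * X 1 - X 0 * X 1 ^ 3 - C a₂ * X 1 ^ 2} : Set (MvPolynomial (Fin 2) R))) ∧
    (∀ s : MvPolynomial (Fin 2) R,
      (∃ n : ℕ, X 0 ^ n * s ∈ Ideal.span ({X 0 ^ 2 * (X 1 ^ 2 + C a₁ * X 1 - X 0 - C a₂)} :
        Set (MvPolynomial (Fin 2) R))) ↔
      s ∈ Ideal.span ({X 1 ^ 2 + C a₁ * X 1 - X 0 - C a₂} : Set (MvPolynomial (Fin 2) R))) := by
  constructor
  · intro s
    refine sat (X 0) _ (fun a b hab => X0_cancel a b hab) ?_ s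
    intro h hd
    refine H2_of_nzd _ ?_ h hd
    intro f hf
    have e : ev0 R (1 + C a₁ * X 1 - X 0 * X 1 ^ 3 - C a₂ * X 1 ^ 2) =
        1 - X 1 * (C a₂ * X 1 - C a₁) := by
      simp only [map_sub, map_add, map_mul, map_pow, map_one, ev0_X0, ev0_X1, ev0_C]
      ring
    rw [e] at hf
    exact nzd_low _ f hf
  · intro s
    refine sat (X 0) _ (fun a b hab => X0_cancel a b hab) ?_ s
    intro h hd
    refine H2_of_nzd _ ?_ h hd
    intro f hf
    have e : ev0 R (X 1 ^ 2 + C a₁ * X 1 - X 0 - C a₂) = X 1 ^ 2 + C a₁ * X 1 - C a₂ := by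
      simp only [map_sub, map_add, map_mul, map_pow, ev0_X0, ev0_X1, ev0_C]
      ring
    rw [e] at hf
    exact nzd_high a₁ a₂ f hf

end Groth.Agent.S19181
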