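import Groth.Statements.S19182
import Mathlib

set_option autoImplicit false
universe u
open CAlg

namespace Groth.Agent.S19182

open MvPolynomial in
theorem smooth_of_pderiv_unit {R : Type u} [CommRing R] (g : MvPolynomial (Fin 2) R) (j : Fin 2)
    (hunit : IsUnit (Ideal.Quotient.mk (Ideal.span ({g} : Set (MvPolynomial (Fin 2) R)))
      (pderiv j g))) :
    Algebra.Smooth R (MvPolynomial (Fin 2) R ⧸ Ideal.span ({g} : Set (MvPolynomial (Fin 2) R))) := by
  classical
  have hrange : Ideal.span ({g} : Set (MvPolynomial (Fin 2) R)) =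
      Ideal.span (Set.range (fun _ : Unit => g)) := by
    rw [Set.range_const]
  rw [hrange] at hunit ⊢
  let P0 : Algebra.Presentation R
      (MvPolynomial (Fin 2) R ⧸ Ideal.span (Set.range (fun _ : Unit => g))) (Fin 2) Unit :=
    Algebra.Presentation.naive (v := fun _ : Unit => g)
  let P1 : Algebra.PreSubmersivePresentation R
      (MvPolynomial (Fin 2) R ⧸ Ideal.span (Set.range (fun _ : Unit => g))) (Fin 2) Unit :=
    { toPresentation := P0, map := fun _ => j, map_inj := fun _ _ _ => rfl }
  have hjac : P1.jacobian =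
      Ideal.Quotient.mk (Ideal.span (Set.range (fun _ : Unit => g))) (pderiv j g) := by
    rw [Algebra.PreSubmersivePresentation.jacobian_eq_jacobiMatrix_det, Matrix.det_unique,
      Algebra.PreSubmersivePresentation.jacobiMatrix_apply]
    rfl
  have hunit' : IsUnit P1.jacobian := by
    rw [hjac]
    exact hunit
  let P2 : Algebra.SubmersivePresentation R
      (MvPolynomial (Fin 2) R ⧸ Ideal.span (Set.range (fun _ : Unit => g))) (Fin 2) Unit :=
    { toPreSubmersivePresentation := P1, jacobian_isUnit := hunit' }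
  haveI : Algebra.IsStandardSmooth R
      (MvPolynomial (Fin 2) R ⧸ Ideal.span (Set.range (fun _ : Unit => g))) :=
    P2.isStandardSmooth
  infer_instance

open MvPolynomial in
/-- Let R be a commutative ring and a₁, a₂ ∈ R. The two affine charts of the blow-up of the plane curve
y² + a₁xy = x³ + a₂x² at the section x = y = 0, with coordinate rings R[y, α]/(1 + a₁α − yα³ − a₂α²)
and R[x, β]/(β² + a₁β − x − a₂) (variables indexed 0 and 1 in this order), are smooth R-algebras
(formally smooth of finite presentation). This is the local computation behind the statement that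
the blow-up of a Weierstrass curve along a section through its singular locus is a smooth proper
curve of genus 0. -/
theorem result (R : Type u) [CommRing R] (a₁ a₂ : R) :
    Algebra.Smooth R (MvPolynomial (Fin 2) R ⧸
      Ideal.span ({1 + C a₁ * X 1 - X 0 * X 1 ^ 3 - C a₂ * X 1 ^ 2} : Set (MvPolynomial (Fin 2) R))) ∧
    Algebra.Smooth R (MvPolynomial (Fin 2) R ⧸
      Ideal.span ({X 1 ^ 2 + C a₁ * X 1 - X 0 - C a₂} : Set (MvPolynomial (Fin 2) R))) := by
  have h10 : (1 : Fin 2) ≠ 0 := by decide
  constructor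
  · apply smooth_of_pderiv_unit _ 0
    have hd : pderiv 0 (1 + C a₁ * X 1 - X 0 * X 1 ^ 3 - C a₂ * X 1 ^ 2 : MvPolynomial (Fin 2) R)
        = - X 1 ^ 3 := by
      simp [pderiv_X_of_ne h10]
    rw [hd, map_neg, map_pow]
    have hu : IsUnit (Ideal.Quotient.mk (Ideal.span
        ({1 + C a₁ * X 1 - X 0 * X 1 ^ 3 - C a₂ * X 1 ^ 2} : Set (MvPolynomial (Fin 2) R)))
        (X 1)) := by
      refine IsUnit.of_mul_eq_one (Ideal.Quotient.mk _ (X 0 * X 1 ^ 2 + C a₂ * X 1 - C a₁)) ?_
      rw [← map_mul, ← map_one (Ideal.Quotient.mk _), Ideal.Quotient.eq,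
        Ideal.mem_span_singleton']
      exact ⟨-1, by ring⟩
    exact (IsUnit.neg_iff _).mpr (hu.pow 3)
  · apply smooth_of_pderiv_unit _ 0
    have hd : pderiv 0 (X 1 ^ 2 + C a₁ * X 1 - X 0 - C a₂ : MvPolynomial (Fin 2) R) = -1 := by
      simp [pderiv_X_of_ne h10]
    rw [hd, map_neg, map_one]
    exact IsUnit.of_mul_eq_one (-1) (by ring)

end Groth.Agent.S19182
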