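import Groth.Statements.S19183
import Mathlib

set_option autoImplicit false
universe u
open CAlg

namespace Groth.Agent.S19183

/-- Let A be a non-zero commutative ring and f ∈ A a non-zero-divisor. The fibre product A ×_{A/(f)} A
of two copies of A over A/(f) — the A-submodule of A × A of pairs (x, y) with x − y ∈ (f), which is
the coordinate ring of two copies of Spec A glued along the Cartier divisor f = 0 — is a free
A-module of rank 2. (This is what makes the gluing of two copies of a curve along an effective
Cartier divisor finite locally free of degree 2 over the curve.) -/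
theorem result (A : Type u) [CommRing A] [Nontrivial A]
    (f : A) (hf : f ∈ nonZeroDivisors A) :
    Module.Free A (Submodule.comap (LinearMap.fst A A A - LinearMap.snd A A A) (Ideal.span ({f} : Set A))) ∧
      Module.finrank A (Submodule.comap (LinearMap.fst A A A - LinearMap.snd A A A) (Ideal.span ({f} : Set A))) = 2 := by
  obtain ⟨φ, hφ⟩ : ∃ φ : (A × A) →ₗ[A] (A × A), ∀ q, φ q = (q.1 + f * q.2, q.1) := by
    refine ⟨(LinearMap.fst A A A + f • LinearMap.snd A A A).prod (LinearMap.fst A A A), ?_⟩
    intro q
    simp [LinearMap.prod_apply]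
  have hinj : Function.Injective φ := by
    rw [← LinearMap.ker_eq_bot, LinearMap.ker_eq_bot']
    intro q hq
    rw [hφ] at hq
    have h1 : q.1 = 0 := (Prod.ext_iff.mp hq).2
    have h2 : q.1 + f * q.2 = 0 := (Prod.ext_iff.mp hq).1
    rw [h1, zero_add] at h2
    have h3 : q.2 = 0 := by
      rw [mul_comm] at h2
      exact (mul_right_mem_nonZeroDivisors_eq_zero_iff hf).mp h2
    exact Prod.ext h1 h3
  have hrange : LinearMap.range φ = Submodule.comap (LinearMap.fst A A A - LinearMap.snd A A A) (Ideal.span ({f} : Set A)) := by
    ext p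
    simp only [LinearMap.mem_range, Submodule.mem_comap, LinearMap.sub_apply, LinearMap.fst_apply, LinearMap.snd_apply]
    constructor
    · rintro ⟨q, rfl⟩
      rw [hφ]
      rw [Ideal.mem_span_singleton']
      exact ⟨q.2, by ring⟩
    · intro h
      rw [Ideal.mem_span_singleton'] at h
      obtain ⟨a, ha⟩ := h
      refine ⟨(p.2, a), ?_⟩
      rw [hφ]
      refine Prod.ext ?_ rfl
      show p.2 + f * a = p.1
      rw [mul_comm, ha]; ring
  have e : (A × A) ≃ₗ[A] Submodule.comap (LinearMap.fst A A A - LinearMap.snd A A A) (Ideal.span ({f} : Set A)) :=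
    (LinearEquiv.ofInjective φ hinj).trans (LinearEquiv.ofEq _ _ hrange)
  refine ⟨Module.Free.of_equiv e, ?_⟩
  rw [← e.finrank_eq, Module.finrank_prod, Module.finrank_self]

end Groth.Agent.S19183
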