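import Groth.Statements.S19184
import Mathlib

set_option autoImplicit false
universe u
open CAlg

namespace Groth.Agent.S19184

open Polynomial in
theorem gen (S : Type u) [CommRing S] (f : S[X]) (hfm : f.Monic)
    (hdeg : Nontrivial S → f.natDegree = 2) :
    Module.Free S ((⊥ : Subalgebra S (S[X] ⧸ Ideal.span ({f} : Set S[X]))).comap
        (Ideal.Quotient.mkₐ S (Ideal.span ({f} : Set S[X])))) ∧
      Module.Finite ((⊥ : Subalgebra S (S[X] ⧸ Ideal.span ({f} : Set S[X]))).comap
        (Ideal.Quotient.mkₐ S (Ideal.span ({f} : Set S[X])))) S[X] := by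
  obtain ⟨M, hM⟩ : ∃ M : S[X] →ₐ[S] (S[X] ⧸ Ideal.span ({f} : Set S[X])),
      M = Ideal.Quotient.mkₐ S (Ideal.span ({f} : Set S[X])) := ⟨_, rfl⟩
  rw [← hM]
  have hM0 : ∀ x, M x = 0 ↔ x ∈ Ideal.span ({f} : Set S[X]) := by
    intro x
    rw [hM, Ideal.Quotient.mkₐ_eq_mk, Ideal.Quotient.eq_zero_iff_mem]
  have hMC : ∀ s : S, M (C s) = algebraMap S _ s := by
    intro s
    rw [Polynomial.C_eq_algebraMap]
    exact M.commutes s
  obtain ⟨A, hA⟩ : ∃ A : Subalgebra S S[X],
      A = (⊥ : Subalgebra S (S[X] ⧸ Ideal.span ({f} : Set S[X]))).comap M := ⟨_, rfl⟩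
  rw [← hA]
  have hmemiff : ∀ p : S[X], p ∈ A ↔ ∃ s : S, ∃ q : S[X], p = C s + f * q := by
    intro p
    rw [hA, Subalgebra.mem_comap, Algebra.mem_bot]
    constructor
    · rintro ⟨s, hs⟩
      have h0 : M (p - C s) = 0 := by
        rw [map_sub, hMC, hs, sub_self]
      rw [hM0, Ideal.mem_span_singleton'] at h0
      obtain ⟨q, hq⟩ := h0
      exact ⟨s, q, by rw [mul_comm, hq]; ring⟩
    · rintro ⟨s, q, rfl⟩
      refine ⟨s, ?_⟩
      have h1 : M (f * q) = 0 := by
        rw [hM0]
        exact Ideal.mul_mem_right q _ (Ideal.subset_span (Set.mem_singleton f))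
      rw [map_add, hMC, h1, add_zero]
  obtain ⟨ψ, hψ⟩ : ∃ ψ : (S × S[X]) →ₗ[S] S[X], ∀ z, ψ z = C z.1 + f * z.2 := by
    refine ⟨(Polynomial.monomial 0).coprod (LinearMap.mulLeft S f), ?_⟩
    intro z
    rw [LinearMap.coprod_apply, Polynomial.monomial_zero_left, LinearMap.mulLeft_apply]
  have hinj : Function.Injective ψ := by
    rw [← LinearMap.ker_eq_bot, LinearMap.ker_eq_bot']
    intro z hz
    rw [hψ] at hz
    rcases subsingleton_or_nontrivial S with hS | hS
    · haveI : Subsingleton S[X] := Polynomial.subsingleton_iff_subsingleton.mpr hS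
      exact Subsingleton.elim _ _
    · have hq : z.2 = 0 := by
        by_contra hq
        have h1 := hfm.natDegree_mul' hq
        have h2 : f * z.2 = - C z.1 := by linear_combination hz
        rw [h2, natDegree_neg, natDegree_C, hdeg hS] at h1
        omega
      have hs : z.1 = 0 := by
        rw [hq, mul_zero, add_zero] at hz
        exact Polynomial.C_eq_zero.mp hz
      exact Prod.ext hs hq
  have hrange : LinearMap.range ψ = Subalgebra.toSubmodule A := by
    ext p
    rw [LinearMap.mem_range, Subalgebra.mem_toSubmodule, hmemiff]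
    constructor
    · rintro ⟨z, rfl⟩
      exact ⟨z.1, z.2, hψ z⟩
    · rintro ⟨s, q, rfl⟩
      exact ⟨(s, q), hψ _⟩
  have e : (S × S[X]) ≃ₗ[S] ↥(Subalgebra.toSubmodule A) :=
    (LinearEquiv.ofInjective ψ hinj).trans (LinearEquiv.ofEq _ _ hrange)
  refine ⟨?_, ?_⟩
  · have hfree : Module.Free S ↥(Subalgebra.toSubmodule A) := Module.Free.of_equiv e
    exact hfree
  · classical
    refine ⟨⟨{1, X}, ?_⟩⟩
    rw [eq_top_iff]
    intro p _
    rw [Finset.coe_insert, Finset.coe_singleton, Submodule.mem_span_pair]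
    rcases subsingleton_or_nontrivial S with hS | hS
    · haveI : Subsingleton S[X] := Polynomial.subsingleton_iff_subsingleton.mpr hS
      exact ⟨0, 0, Subsingleton.elim _ _⟩
    · have hdiv := Polynomial.modByMonic_add_div p f
      have hf1 : f ≠ 1 := by
        intro h
        have := hdeg hS
        rw [h, natDegree_one] at this
        omega
      have hlt := Polynomial.natDegree_modByMonic_lt p hfm hf1
      rw [hdeg hS] at hlt
      have hle : degree (p %ₘ f) ≤ 1 := by
        have : natDegree (p %ₘ f) ≤ 1 := by omega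
        exact_mod_cast Polynomial.degree_le_of_natDegree_le this
      obtain ⟨c1, c0, hr⟩ : ∃ c1 c0 : S, p %ₘ f = C c1 * X + C c0 :=
        ⟨_, _, Polynomial.eq_X_add_C_of_degree_le_one hle⟩
      refine ⟨⟨C c0 + f * (p /ₘ f), (hmemiff _).mpr ⟨_, _, rfl⟩⟩,
        ⟨C c1, (hmemiff _).mpr ⟨c1, 0, by rw [mul_zero, add_zero]⟩⟩, ?_⟩
      simp only [Subalgebra.smul_def, smul_eq_mul, mul_one]
      calc (C c0 + f * (p /ₘ f)) + C c1 * X = (C c1 * X + C c0) + f * (p /ₘ f) := by ring
        _ = p := by rw [← hr]; exact hdiv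

open Polynomial in
/-- Let S be a commutative ring, a, b ∈ S, f = x² + ax + b ∈ S[x] and R = S[x]/(f), a free S-algebra of
rank 2. Let A ⊂ S[x] be the S-subalgebra of polynomials whose class in R lies in the image of S → R;
it is the fibre product S[x] ×_R S, the coordinate ring of the affine line over S with the degree-2
subscheme Spec R collapsed onto Spec S. Then A is a free S-module and S[x] is a finitely generated
A-module. -/
theorem result (S : Type u) [CommRing S] (a b : S) :
    Module.Free S ((⊥ : Subalgebra S (S[X] ⧸ Ideal.span ({X ^ 2 + C a * X + C b} : Set S[X]))).comap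
        (Ideal.Quotient.mkₐ S (Ideal.span ({X ^ 2 + C a * X + C b} : Set S[X])))) ∧
      Module.Finite ((⊥ : Subalgebra S (S[X] ⧸ Ideal.span ({X ^ 2 + C a * X + C b} : Set S[X]))).comap
        (Ideal.Quotient.mkₐ S (Ideal.span ({X ^ 2 + C a * X + C b} : Set S[X])))) S[X] := by
  have hlin : degree (C a * X + C b) < ((2 : ℕ) : WithBot ℕ) :=
    lt_of_le_of_lt degree_linear_le (by exact_mod_cast (by norm_num : (1 : ℕ) < 2))
  have hfm : (X ^ 2 + C a * X + C b).Monic := by
    rw [add_assoc]
    exact monic_X_pow_add hlin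
  have hdeg : Nontrivial S → (X ^ 2 + C a * X + C b).natDegree = 2 := by
    intro hS
    rw [add_assoc, natDegree_add_eq_left_of_degree_lt (by rw [degree_X_pow]; exact hlin),
      natDegree_X_pow]
  exact gen S _ hfm hdeg

end Groth.Agent.S19184
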