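import Groth.Statements.S19186
import Mathlib

set_option autoImplicit false
universe u
open OneMot

namespace Groth.Agent.S19186

theorem bez_key {X : Type*} [AddCommGroup X] (u v : ℤ) (L P : ℕ) (h : u * (L : ℤ) + v * (P : ℤ) = 1)
    (x : X) : x = u • (L • x) + v • (P • x) := by
  calc x = (1 : ℤ) • x := (one_zsmul x).symm
    _ = (u * (L : ℤ) + v * (P : ℤ)) • x := by rw [h]
    _ = u • (L • x) + v • (P • x) := by
      rw [add_zsmul, mul_zsmul, mul_zsmul, natCast_zsmul, natCast_zsmul]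

/-- Let p and ℓ be distinct prime numbers, r and n natural numbers, and f : A → B a homomorphism of
abelian groups whose kernel and cokernel are annihilated by p^r (f a = 0 implies p^r • a = 0, and
every p^r • b lies in the image of f). Then f induces a bijection between the ℓ^n-torsion subgroups
of A and B and a bijection A/ℓ^n A → B/ℓ^n B. Spelled out without quotients: every ℓ^n-torsion
element of B has exactly one ℓ^n-torsion preimage; an element of A whose image is an ℓ^n-multiple is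
itself an ℓ^n-multiple; and every element of B is the sum of an image and an ℓ^n-multiple. -/
theorem result {A B : Type u} [AddCommGroup A] [AddCommGroup B] (f : A →+ B) (p ℓ r n : ℕ) (hp : p.Prime) (hl : ℓ.Prime) (hne : ℓ ≠ p) (hker : ∀ a : A, f a = 0 → p ^ r • a = 0) (hcoker : ∀ b : B, ∃ a : A, f a = p ^ r • b) : (∀ b : B, ℓ ^ n • b = 0 → ∃! a : A, ℓ ^ n • a = 0 ∧ f a = b) ∧ (∀ a : A, (∃ b' : B, f a = ℓ ^ n • b') → ∃ a' : A, a = ℓ ^ n • a') ∧ (∀ b : B, ∃ (a : A) (b' : B), b = f a + ℓ ^ n • b') := by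
  have hcop : Nat.Coprime ℓ p := (Nat.coprime_primes hl hp).mpr hne
  have hcop1 : Nat.Coprime (ℓ ^ n) (p ^ r) := Nat.Coprime.pow n r hcop
  have hcop2 : Nat.Coprime (ℓ ^ n) (p ^ r * p ^ r) := Nat.Coprime.mul_right hcop1 hcop1
  obtain ⟨u, v, huv⟩ := Nat.isCoprime_iff_coprime.mpr hcop1
  obtain ⟨u', v', huv'⟩ := Nat.isCoprime_iff_coprime.mpr hcop2
  refine ⟨?_, ?_, ?_⟩
  · intro b hb
    obtain ⟨a₀, ha₀⟩ := hcoker b
    have hb1 : b = v • (p ^ r • b) := by
      have h1 := bez_key u v (ℓ ^ n) (p ^ r) huv b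
      rw [hb, smul_zero, zero_add] at h1
      exact h1
    have hfa1 : f (v • a₀) = b := by
      rw [map_zsmul, ha₀, ← hb1]
    have hPL : p ^ r • (ℓ ^ n • (v • a₀)) = 0 := by
      apply hker
      rw [map_nsmul, hfa1, hb]
    refine ⟨v • (p ^ r • (v • a₀)), ⟨?_, ?_⟩, ?_⟩
    · rw [smul_comm (ℓ ^ n) v, smul_comm (ℓ ^ n) (p ^ r), hPL, smul_zero]
    · rw [map_zsmul, map_nsmul, hfa1, ← hb1]
    · rintro a' ⟨ha'1, ha'2⟩
      obtain ⟨a, ha⟩ : ∃ a, a = v • (p ^ r • (v • a₀)) := ⟨_, rfl⟩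
      have haL : ℓ ^ n • a = 0 := by
        rw [ha, smul_comm (ℓ ^ n) v, smul_comm (ℓ ^ n) (p ^ r), hPL, smul_zero]
      have haf : f a = b := by
        rw [ha, map_zsmul, map_nsmul, hfa1, ← hb1]
      rw [← ha]
      have hd1 : p ^ r • (a' - a) = 0 := by
        apply hker
        rw [map_sub, ha'2, haf, sub_self]
      have hd2 : ℓ ^ n • (a' - a) = 0 := by
        rw [smul_sub, ha'1, haL, sub_self]
      have h3 := bez_key u v (ℓ ^ n) (p ^ r) huv (a' - a)
      rw [hd1, hd2, smul_zero, smul_zero, add_zero] at h3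
      exact sub_eq_zero.mp h3
  · rintro a ⟨b', hb'⟩
    obtain ⟨a₀, ha₀⟩ := hcoker b'
    have h1 : p ^ r • (p ^ r • a - ℓ ^ n • a₀) = 0 := by
      apply hker
      rw [map_sub, map_nsmul, map_nsmul, hb', ha₀, smul_comm (p ^ r) (ℓ ^ n), sub_self]
    have h2 : (p ^ r * p ^ r) • a = ℓ ^ n • (p ^ r • a₀) := by
      rw [smul_sub, sub_eq_zero] at h1
      rw [mul_smul, h1, smul_comm (p ^ r) (ℓ ^ n)]
    have h3 := bez_key u' v' (ℓ ^ n) (p ^ r * p ^ r) (by exact_mod_cast huv') a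
    refine ⟨u' • a + v' • (p ^ r • a₀), ?_⟩
    rw [h2] at h3
    rw [smul_add, smul_comm (ℓ ^ n) u', smul_comm (ℓ ^ n) v']
    exact h3
  · intro b
    obtain ⟨a₀, ha₀⟩ := hcoker b
    refine ⟨v • a₀, u • b, ?_⟩
    have h3 := bez_key u v (ℓ ^ n) (p ^ r) huv b
    rw [map_zsmul, ha₀, smul_comm (ℓ ^ n) u, add_comm]
    exact h3

end Groth.Agent.S19186
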