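import Groth.Statements.S19187
import Mathlib

set_option autoImplicit false
universe u
open Cpct

namespace Groth.Agent.S19187

open CategoryTheory AlgebraicGeometry in
/-- Let k be a field, X̄ and Ȳ schemes proper over Spec k, j : X → X̄ an open immersion with dense image
and v : Y → Ȳ an open immersion (compactifications of X and Y), f : X → Y a proper morphism and f̄ :
X̄ → Ȳ a morphism over Spec k with f̄ ∘ j = v ∘ f. Then the preimage under f̄ of the open v(Y) is
the open j(X); equivalently, the complement of X in X̄ is the preimage of the complement of Y in Ȳ.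
(The base field k is arbitrary: no perfectness assumption is needed.) -/
theorem result {k : Type u} [Field k] {X Y Xb Yb : Scheme.{u}} (a : Xb ⟶ Spec (CommRingCat.of k)) (b : Yb ⟶ Spec (CommRingCat.of k)) [IsProper a] [IsProper b] (j : X ⟶ Xb) [IsOpenImmersion j] (hj : Dense (Set.range j.base)) (v : Y ⟶ Yb) [IsOpenImmersion v] (f : X ⟶ Y) [IsProper f] (fb : Xb ⟶ Yb) (hfb : fb ≫ b = a) (hsq : j ≫ fb = f ≫ v) : fb ⁻¹ᵁ v.opensRange = j.opensRange := by
  obtain ⟨W, hW⟩ : ∃ W : Xb.Opens, W = fb ⁻¹ᵁ v.opensRange := ⟨_, rfl⟩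
  rw [← hW]
  have hjW : Set.range j ⊆ Set.range W.ι := by
    rw [Scheme.Opens.range_ι]
    rintro _ ⟨x, rfl⟩
    rw [hW]
    change fb (j x) ∈ v.opensRange
    have h1 : fb (j x) = v (f x) := by
      have h2 := congrArg (fun g : X ⟶ Yb => g x) hsq
      simpa using h2
    rw [h1]
    exact ⟨f x, rfl⟩
  obtain ⟨j', hj'⟩ : ∃ j' : X ⟶ W.toScheme, j' ≫ W.ι = j :=
    ⟨IsOpenImmersion.lift W.ι j hjW, IsOpenImmersion.lift_fac _ _ _⟩
  have hWv : Set.range (W.ι ≫ fb) ⊆ Set.range v := by
    rintro _ ⟨w, rfl⟩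
    have h1 : (W.ι w) ∈ fb ⁻¹ᵁ v.opensRange := hW ▸ w.2
    exact h1
  obtain ⟨fW, hfW⟩ : ∃ fW : W.toScheme ⟶ Y, fW ≫ v = W.ι ≫ fb :=
    ⟨IsOpenImmersion.lift v (W.ι ≫ fb) hWv, IsOpenImmersion.lift_fac _ _ _⟩
  have hcomp : j' ≫ fW = f := by
    rw [← cancel_mono v, Category.assoc, hfW, ← Category.assoc, hj', hsq]
  haveI : IsSeparated (fb ≫ b) := by rw [hfb]; infer_instance
  haveI : IsSeparated fb := IsSeparated.of_comp fb b
  haveI : IsSeparated (fW ≫ v) := by rw [hfW]; infer_instance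
  haveI : IsSeparated fW := IsSeparated.of_comp fW v
  haveI : IsProper (j' ≫ fW) := by rw [hcomp]; infer_instance
  haveI : IsProper j' := IsProper.of_comp j' fW
  have hcl : IsClosed (Set.range j') := j'.isClosedMap.isClosed_range
  have hpt : ∀ x : X, W.ι (j' x) = j x := by
    intro x
    have h2 := congrArg (fun g : X ⟶ Xb => g x) hj'
    simpa using h2
  have hrange : Set.range j' = W.ι ⁻¹' (Set.range j) := by
    ext w
    constructor
    · rintro ⟨x, rfl⟩
      exact ⟨x, (hpt x).symm⟩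
    · rintro ⟨x, hx⟩
      refine ⟨x, ?_⟩
      apply W.ι.isOpenEmbedding.injective
      rw [hpt x, hx]
  have hdense : Dense (Set.range j') := by
    rw [hrange]
    exact hj.preimage W.ι.isOpenEmbedding.isOpenMap
  have huniv : Set.range j' = Set.univ := by
    rw [← hcl.closure_eq]; exact hdense.closure_eq
  apply le_antisymm
  · intro w hw
    have h1 : (⟨w, hw⟩ : W) ∈ Set.range j' := by rw [huniv]; trivial
    obtain ⟨x, hx⟩ := h1
    refine ⟨x, ?_⟩
    rw [← hpt x]
    change W.ι (j' x) = w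
    rw [hx]
    rfl
  · intro w hw
    obtain ⟨x, rfl⟩ := hw
    have h1 := hjW ⟨x, rfl⟩
    rw [Scheme.Opens.range_ι] at h1
    exact h1

end Groth.Agent.S19187
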