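import Groth.Statements.S19190
import Mathlib

set_option autoImplicit false
universe w v u v' u'
open CategoryTheory CategoryTheory.Limits CategoryTheory.Pretriangulated CategoryTheory.Triangulated
open CohDer

namespace Groth.Agent.S19190

open CategoryTheory CategoryTheory.Limits CategoryTheory.Pretriangulated CategoryTheory.Triangulated in
/-- objects killed by an element of `S` -/
def Utor {A : Type w} [CommRing A] (S : Submonoid A) (T : Type u) [Category.{v} T] [Preadditive T]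
    [Linear A T] : ObjectProperty T := fun Z => ∃ s : A, s ∈ S ∧ s • 𝟙 Z = 0

open CategoryTheory CategoryTheory.Limits CategoryTheory.Pretriangulated CategoryTheory.Triangulated in
instance Utor_iso {A : Type w} [CommRing A] (S : Submonoid A) (T : Type u) [Category.{v} T]
    [Preadditive T] [Linear A T] : (Utor S T).IsClosedUnderIsomorphisms where
  of_iso := by
    rintro X Y e ⟨s, hs, h⟩
    refine ⟨s, hs, ?_⟩
    have e1 : s • 𝟙 Y = e.inv ≫ (s • 𝟙 X) ≫ e.hom := by
      rw [Linear.smul_comp, Linear.comp_smul, Category.id_comp, e.inv_hom_id]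
    rw [e1, h, zero_comp, comp_zero]

open CategoryTheory CategoryTheory.Limits CategoryTheory.Pretriangulated CategoryTheory.Triangulated in
instance Utor_retract {A : Type w} [CommRing A] (S : Submonoid A) (T : Type u) [Category.{v} T]
    [Preadditive T] [Linear A T] : (Utor S T).IsStableUnderRetracts where
  of_retract := by
    rintro X Y r ⟨s, hs, h⟩
    refine ⟨s, hs, ?_⟩
    have e1 : s • 𝟙 X = r.i ≫ (s • 𝟙 Y) ≫ r.r := by
      rw [Linear.smul_comp, Linear.comp_smul, Category.id_comp, r.retract]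
    rw [e1, h, zero_comp, comp_zero]

open CategoryTheory CategoryTheory.Limits CategoryTheory.Pretriangulated CategoryTheory.Triangulated in
theorem Utor_ext₂ {A : Type w} [CommRing A] (S : Submonoid A)
    {T : Type u} [Category.{v} T] [Preadditive T] [Linear A T] [HasZeroObject T] [HasShift T ℤ]
    [∀ n : ℤ, (shiftFunctor T n).Additive] [Pretriangulated T]
    (Tr : Triangle T) (hT : Tr ∈ distTriang T) (h₁ : Utor S T Tr.obj₁) (h₃ : Utor S T Tr.obj₃) :
    Utor S T Tr.obj₂ := by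
  obtain ⟨s₁, hs₁, h₁⟩ := h₁
  obtain ⟨s₃, hs₃, h₃⟩ := h₃
  have hz : (s₃ • 𝟙 Tr.obj₂) ≫ Tr.mor₂ = 0 := by
    have e : (s₃ • 𝟙 Tr.obj₂) ≫ Tr.mor₂ = Tr.mor₂ ≫ (s₃ • 𝟙 Tr.obj₃) := by
      rw [Linear.smul_comp, Linear.comp_smul, Category.id_comp, Category.comp_id]
    rw [e, h₃, comp_zero]
  obtain ⟨φ, hφ⟩ := Pretriangulated.Triangle.coyoneda_exact₂ Tr hT _ hz
  refine ⟨s₁ * s₃, S.mul_mem hs₁ hs₃, ?_⟩
  have e : (s₁ * s₃) • 𝟙 Tr.obj₂ = φ ≫ (s₁ • 𝟙 Tr.obj₁) ≫ Tr.mor₁ := by
    rw [mul_smul, hφ, Linear.smul_comp, Linear.comp_smul, Category.id_comp]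
  rw [e, h₁, zero_comp, comp_zero]

open CategoryTheory CategoryTheory.Limits CategoryTheory.Pretriangulated CategoryTheory.Triangulated ZeroObject in
instance Utor_tri {A : Type w} [CommRing A] (S : Submonoid A)
    (T : Type u) [Category.{v} T] [Preadditive T] [Linear A T] [HasZeroObject T] [HasShift T ℤ]
    [∀ n : ℤ, (shiftFunctor T n).Additive] [∀ n : ℤ, (shiftFunctor T n).Linear A]
    [Pretriangulated T] : (Utor S T).IsTriangulated where
  exists_zero := ⟨(0 : T), isZero_zero T, 1, S.one_mem, (isZero_zero T).eq_of_src _ _⟩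
  isStableUnderShiftBy := fun a =>
    { le_shift := by
        rintro Z ⟨s, hs, h⟩
        refine ⟨s, hs, ?_⟩
        have e : s • 𝟙 (Z⟦a⟧) = (shiftFunctor T a).map (s • 𝟙 Z) := by
          rw [Functor.map_smul, (shiftFunctor T a).map_id]
        rw [e, h, Functor.map_zero] }
  ext₂' := (ObjectProperty.IsTriangulatedClosed₂.mk'
    (fun Tr hT h₁ h₃ => Utor_ext₂ S Tr hT h₁ h₃)).ext₂'

open CategoryTheory CategoryTheory.Limits CategoryTheory.Pretriangulated CategoryTheory.Triangulated in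
theorem Utor_cone {A : Type w} [CommRing A] (S : Submonoid A)
    {T : Type u} [Category.{v} T] [Preadditive T] [Linear A T] [HasZeroObject T] [HasShift T ℤ]
    [∀ n : ℤ, (shiftFunctor T n).Additive] [∀ n : ℤ, (shiftFunctor T n).Linear A]
    [Pretriangulated T]
    (X : T) (f : A) (hf : f ∈ S) (Z : T) (g : X ⟶ Z) (h : Z ⟶ X⟦(1 : ℤ)⟧)
    (hT : Triangle.mk (f • 𝟙 X) g h ∈ distTriang T) : Utor S T Z := by
  have h31 : h ≫ (shiftFunctor T (1 : ℤ)).map (f • 𝟙 X) = 0 :=
    comp_distTriang_mor_zero₃₁ _ hT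
  have h12 : (f • 𝟙 X) ≫ g = 0 := comp_distTriang_mor_zero₁₂ _ hT
  have hz : (f • 𝟙 Z) ≫ h = 0 := by
    have e : (f • 𝟙 Z) ≫ h = h ≫ (shiftFunctor T (1 : ℤ)).map (f • 𝟙 X) := by
      rw [Functor.map_smul, (shiftFunctor T (1 : ℤ)).map_id, Linear.smul_comp, Linear.comp_smul,
        Category.id_comp, Category.comp_id]
    rw [e, h31]
  obtain ⟨φ, hφ'⟩ : ∃ φ : Z ⟶ X, f • 𝟙 Z = φ ≫ g :=
    Pretriangulated.Triangle.coyoneda_exact₃ _ hT (f • 𝟙 Z) hz
  refine ⟨f * f, S.mul_mem hf hf, ?_⟩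
  have e : (f * f) • 𝟙 Z = φ ≫ (f • 𝟙 X) ≫ g := by
    rw [mul_smul, hφ', Linear.smul_comp, Linear.comp_smul, Category.id_comp]
  rw [e, h12, comp_zero]

/-- Let `A` be a commutative ring, `S` a multiplicative subset of `A` and `T` an `A`-linear triangulated
category (octahedron axiom included; the shift functors are `A`-linear). Call an object of `T`
`S`-torsion when it lies in the smallest thick subcategory `U` of `T` (a property of objects
containing zero, stable under shifts, extensions, isomorphisms and direct factors) containing every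
cone of an endomorphism `f • 𝟙 X` with `f ∈ S`. Let `Q : T ⥤ E` exhibit `E` as the localization of
`T` at the morphisms whose cone lies in `U` (the Verdier quotient `T/U`), where `E` is preadditive
and `A`-linear and `Q` is `A`-linear. Then for all objects `X`, `Y` of `T` the `A`-linear map
`Hom_T(X, Y) → Hom_E(Q X, Q Y)` given by `Q` exhibits its target as the localization of `Hom_T(X,
Y)` at `S`. Since `Q` is essentially surjective, this says that the comparison functor from `T/U` to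
the category having the objects of `T` and morphism modules `Hom_T(X, Y) ⊗_A S⁻¹A` is an
equivalence. -/
theorem result
    {A : Type w} [CommRing A] (S : Submonoid A)
    {T : Type u} [Category.{v} T] [Preadditive T] [Linear A T] [HasZeroObject T] [HasShift T ℤ]
    [∀ n : ℤ, (shiftFunctor T n).Additive] [∀ n : ℤ, (shiftFunctor T n).Linear A]
    [Pretriangulated T] [IsTriangulated T]
    (U : ObjectProperty T) [U.IsTriangulated] [U.IsClosedUnderIsomorphisms] [U.IsStableUnderRetracts]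
    (hU : ∀ (X : T) (f : A), f ∈ S → ∀ (Z : T) (g : X ⟶ Z) (h : Z ⟶ X⟦(1 : ℤ)⟧),
      Triangle.mk (f • 𝟙 X) g h ∈ distTriang T → U Z)
    (hmin : ∀ (U' : ObjectProperty T) [U'.IsTriangulated] [U'.IsClosedUnderIsomorphisms]
      [U'.IsStableUnderRetracts],
      (∀ (X : T) (f : A), f ∈ S → ∀ (Z : T) (g : X ⟶ Z) (h : Z ⟶ X⟦(1 : ℤ)⟧),
        Triangle.mk (f • 𝟙 X) g h ∈ distTriang T → U' Z) → U ≤ U')
    {E : Type u'} [Category.{v'} E] [Preadditive E] [Linear A E]
    (Q : T ⥤ E) [Q.Additive] [Q.Linear A] [Q.IsLocalization U.trW] (X Y : T) :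
    IsLocalizedModule S (Q.mapLinearMap A : (X ⟶ Y) →ₗ[A] (Q.obj X ⟶ Q.obj Y)) := by
  have hL : U.trW.IsInvertedBy Q := Localization.inverts Q U.trW
  have hUle : U ≤ Utor S T := hmin (Utor S T) (fun X f hf Z g h hT => Utor_cone S X f hf Z g h hT)
  refine ⟨?_, ?_, ?_⟩
  · intro x
    rw [Module.End.isUnit_iff]
    obtain ⟨Z, g, h, hT⟩ := distinguished_cocone_triangle ((x : A) • 𝟙 Y)
    have htrW : U.trW ((x : A) • 𝟙 Y) := ⟨Z, g, h, hT, hU Y x x.2 Z g h hT⟩
    haveI : IsIso (Q.map ((x : A) • 𝟙 Y)) := hL _ htrW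
    have hu : Q.map ((x : A) • 𝟙 Y) = (x : A) • 𝟙 (Q.obj Y) := by
      rw [Functor.map_smul, Q.map_id]
    have hmul : ∀ g : Q.obj X ⟶ Q.obj Y,
        (algebraMap A (Module.End A (Q.obj X ⟶ Q.obj Y)) x) g = g ≫ Q.map ((x : A) • 𝟙 Y) := by
      intro g
      rw [Module.algebraMap_end_apply, hu, Linear.comp_smul, Category.comp_id]
    constructor
    · intro g g' hgg'
      rw [hmul, hmul] at hgg'
      exact (cancel_mono _).mp hgg'
    · intro g
      refine ⟨g ≫ inv (Q.map ((x : A) • 𝟙 Y)), ?_⟩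
      rw [hmul, Category.assoc, IsIso.inv_hom_id, Category.comp_id]
  · intro g
    obtain ⟨φ, hg⟩ := Localization.exists_leftFraction Q U.trW g
    obtain ⟨Z, p, h, hT, hZ⟩ := φ.hs
    obtain ⟨s, hs, hsZ⟩ := hUle Z hZ
    have hz : (s • 𝟙 φ.Y') ≫ p = 0 := by
      have e : (s • 𝟙 φ.Y') ≫ p = p ≫ (s • 𝟙 Z) := by
        rw [Linear.smul_comp, Linear.comp_smul, Category.id_comp, Category.comp_id]
      rw [e, hsZ, comp_zero]
    obtain ⟨ψ, hψ'⟩ : ∃ ψ : φ.Y' ⟶ Y, s • 𝟙 φ.Y' = ψ ≫ φ.s :=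
      Pretriangulated.Triangle.coyoneda_exact₂ _ hT (s • 𝟙 φ.Y') hz
    refine ⟨(φ.f ≫ ψ, ⟨s, hs⟩), ?_⟩
    show s • g = Q.map (φ.f ≫ ψ)
    haveI : IsIso (Q.map φ.s) := hL _ φ.hs
    rw [← cancel_mono (Q.map φ.s), Linear.smul_comp, hg,
      MorphismProperty.LeftFraction.map_comp_map_s, Q.map_comp, Category.assoc, ← Q.map_comp,
      ← hψ', Functor.map_smul, Q.map_id, Linear.comp_smul, Category.comp_id]
  · intro f₁ f₂ hf
    have hf' : Q.map f₁ = Q.map f₂ := hf
    obtain ⟨Y', t, ht, hcomp⟩ := (MorphismProperty.map_eq_iff_postcomp Q U.trW f₁ f₂).mp hf'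
    rw [ObjectProperty.trW_iff'] at ht
    obtain ⟨W, i, h, hT, hW⟩ := ht
    obtain ⟨s, hs, hsW⟩ := hUle W hW
    have hz : (f₁ - f₂) ≫ t = 0 := by
      rw [Preadditive.sub_comp, hcomp, sub_self]
    obtain ⟨ψ, hψ'⟩ : ∃ ψ : X ⟶ W, f₁ - f₂ = ψ ≫ i :=
      Pretriangulated.Triangle.coyoneda_exact₂ _ hT (f₁ - f₂) hz
    refine ⟨⟨s, hs⟩, ?_⟩
    show s • f₁ = s • f₂
    have e : s • (f₁ - f₂) = ψ ≫ (s • 𝟙 W) ≫ i := by
      rw [hψ', Linear.smul_comp, Linear.comp_smul, Category.id_comp]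
    rw [hsW, zero_comp, comp_zero, smul_sub, sub_eq_zero] at e
    exact e

end Groth.Agent.S19190
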