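import Groth.Statements.S19191
import Mathlib

set_option autoImplicit false
universe w v u v' u'
open CategoryTheory CategoryTheory.Limits CategoryTheory.Pretriangulated CategoryTheory.Triangulated
open CohDer

namespace Groth.Agent.S19191

/-- Let `A` be a commutative ring, `T` an `A`-linear triangulated category (octahedron axiom included;
shift functors `A`-linear), `U` a thick subcategory of `T` (a property of objects containing zero,
stable under shifts, extensions, isomorphisms and direct factors), and `Q : T ⥤ E` a localization of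
`T` at the morphisms whose cone lies in `U` (the Verdier quotient `T/U`), where `E` is preadditive
and `A`-linear and `Q` is `A`-linear. For an object `X` of `T` the following two conditions are
equivalent: (i) `X` lies in `U`; (ii) for every maximal ideal `m` of `A` the image of `X` in the
category obtained from `T/U` by tensoring the morphism modules with `A_m` is zero, i.e. some element
of `A` outside `m` annihilates the identity of `Q X`. (The published statement also lists a third
equivalent condition, phrased with idempotent completions of the localized categories; it is not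
asserted here.) -/
theorem result
    {A : Type w} [CommRing A]
    {T : Type u} [Category.{v} T] [Preadditive T] [Linear A T] [HasZeroObject T] [HasShift T ℤ]
    [∀ n : ℤ, (shiftFunctor T n).Additive] [∀ n : ℤ, (shiftFunctor T n).Linear A]
    [Pretriangulated T] [IsTriangulated T]
    (U : ObjectProperty T) [U.IsTriangulated] [U.IsClosedUnderIsomorphisms] [U.IsStableUnderRetracts]
    {E : Type u'} [Category.{v'} E] [Preadditive E] [Linear A E]
    (Q : T ⥤ E) [Q.Additive] [Q.Linear A] [Q.IsLocalization U.trW] (X : T) :
    U X ↔ ∀ m : Ideal A, m.IsMaximal → ∃ s : A, s ∉ m ∧ s • 𝟙 (Q.obj X) = 0 := by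
  constructor
  · intro hUX m hm
    refine ⟨1, fun h => hm.ne_top ((Ideal.eq_top_iff_one m).mpr h), ?_⟩
    rw [one_smul]
    have h1 : Q.map (𝟙 X) = Q.map (0 : X ⟶ X) :=
      (MorphismProperty.map_eq_iff_postcomp Q U.trW (𝟙 X) 0).mpr
        ⟨_, (0 : X ⟶ _), ⟨X⟦(1 : ℤ)⟧, 0, 𝟙 _, contractible_distinguished₂ X,
          U.le_shift (1 : ℤ) _ hUX⟩, by simp⟩
    rw [Q.map_id, Q.map_zero] at h1
    exact h1
  · intro h
    have hid : 𝟙 (Q.obj X) = 0 := by
      by_contra hne
      let I : Ideal A :=
        { carrier := {a | a • 𝟙 (Q.obj X) = 0}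
          add_mem' := fun {a b} ha hb => by
            have ha' : a • 𝟙 (Q.obj X) = 0 := ha
            have hb' : b • 𝟙 (Q.obj X) = 0 := hb
            show (a + b) • 𝟙 (Q.obj X) = 0
            rw [add_smul, ha', hb', add_zero]
          zero_mem' := by
            show (0 : A) • 𝟙 (Q.obj X) = 0
            rw [zero_smul]
          smul_mem' := fun c a ha => by
            have ha' : a • 𝟙 (Q.obj X) = 0 := ha
            show (c • a) • 𝟙 (Q.obj X) = 0
            rw [smul_eq_mul, mul_smul, ha', smul_zero] }
      have hI : I ≠ ⊤ := by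
        intro htop
        have h1mem : (1 : A) ∈ I := by
          rw [htop]
          trivial
        apply hne
        have h1 : (1 : A) • 𝟙 (Q.obj X) = 0 := h1mem
        rwa [one_smul] at h1
      obtain ⟨m, hm, hIm⟩ := Ideal.exists_le_maximal I hI
      obtain ⟨s, hs, hs0⟩ := h m hm
      exact hs (hIm hs0)
    have h1 : Q.map (𝟙 X) = Q.map (0 : X ⟶ X) := by rw [Q.map_id, Q.map_zero, hid]
    obtain ⟨Z, s, hs, hcomp⟩ := (MorphismProperty.map_eq_iff_postcomp Q U.trW (𝟙 X) 0).mp h1
    rw [Category.id_comp, zero_comp] at hcomp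
    subst hcomp
    obtain ⟨C, g, hh, hT, hC⟩ := hs
    obtain ⟨σ, hσ⟩ := Pretriangulated.Triangle.coyoneda_exact₁ _ hT (𝟙 (X⟦(1 : ℤ)⟧)) (by
      show 𝟙 (X⟦(1 : ℤ)⟧) ≫ (shiftFunctor T (1 : ℤ)).map (0 : X ⟶ Z) = 0
      rw [Functor.map_zero, comp_zero])
    have hr : Retract (X⟦(1 : ℤ)⟧) C := ⟨σ, hh, hσ.symm⟩
    have hUX1 : U (X⟦(1 : ℤ)⟧) := U.prop_of_retract hr hC
    exact (U.prop_shift_iff_of_isStableUnderShift X (1 : ℤ)).mp hUX1

end Groth.Agent.S19191
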