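import Groth.Statements.S19193
import Mathlib

set_option autoImplicit false
universe u
open CategoryTheory Opposite TopologicalSpace
open CohTop

namespace Groth.Agent.S19193

open CategoryTheory Opposite TopologicalSpace W4c6blochformula0cyc in
theorem res_res' {X : Type u} [TopologicalSpace X] (F : (Opens X)ᵒᵖ ⥤ AddCommGrpCat.{u})
    {V W Z : Opens X} (h1 : W ≤ V) (h2 : Z ≤ W) (x : F.obj (op V)) :
    res F h2 (res F h1 x) = res F (h2.trans h1) x := by
  have e : F.map (homOfLE h1).op ≫ F.map (homOfLE h2).op = F.map (homOfLE (h2.trans h1)).op := by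
    rw [← F.map_comp]
    rfl
  show (F.map (homOfLE h2).op).hom ((F.map (homOfLE h1).op).hom x) =
    (F.map (homOfLE (h2.trans h1)).op).hom x
  rw [← e]
  rfl

open CategoryTheory Opposite TopologicalSpace W4c6blochformula0cyc in
theorem res_congr' {X : Type u} [TopologicalSpace X] (F : (Opens X)ᵒᵖ ⥤ AddCommGrpCat.{u})
    {ι : Type u} (U : ι → Opens X) {n : ℕ} (f : Cochain F U n) {t t' : Fin n → ι} (e : t = t')
    {W : Opens X} (h : W ≤ cechOpen U t) (h' : W ≤ cechOpen U t') :
    res F h (f t) = res F h' (f t') := by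
  subst e
  rfl

open CategoryTheory Opposite TopologicalSpace W4c6blochformula0cyc in
theorem cechOpen_eq {X : Type u} [TopologicalSpace X] {ι : Type u} (U : ι → Opens X) {n : ℕ}
    (t : Fin (n + 1) → ι) (i : Fin (n + 1)) :
    cechOpen U t = cechOpen U (t ∘ i.succAbove) ⊓ U (t i) := by
  apply le_antisymm
  · exact le_inf (cechOpen_le_comp U t i) (iInf_le (fun j => U (t j)) i)
  · refine le_iInf fun j => ?_
    rcases eq_or_ne j i with rfl | hne
    · exact inf_le_right
    · obtain ⟨k, rfl⟩ := Fin.exists_succAbove_eq hne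
      exact inf_le_left.trans (iInf_le (fun k => U ((t ∘ i.succAbove) k)) k)

open CategoryTheory Opposite TopologicalSpace W4c6blochformula0cyc in
theorem E_transport {X : Type u} [TopologicalSpace X] {ι : Type u}
    (F : (Opens X)ᵒᵖ ⥤ AddCommGrpCat.{u}) (U : ι → Opens X)
    (E : ∀ (V : Opens X) (α : ι), F.obj (op (V ⊓ U α)) →+ F.obj (op V))
    (V V' : Opens X) (α : ι) (g : F.obj (op (V ⊓ U α))) (hV' : V' ≤ V)
    (H : res F hV' (E V α g) = E V' α (res F (inf_le_inf_right (U α) hV') g))
    (W : Opens X) (e : W = V') (hW : W ≤ V) :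
    res F hW (E V α g) = E W α (res F (inf_le_inf_right (U α) hW) g) := by
  subst e
  exact H

open W4c6blochformula0cyc in
/-- Let `F` be a presheaf of abelian groups on a topological space `X`, `U` a family of opens of `X`
indexed by a finite type, and suppose given, for every open `V` and every index `α`, an additive map
`E V α : F(V ∩ U_α) → F(V)` such that for every nonempty tuple of indices `t`, with `V = U_{t_0} ∩ ⋯
∩ U_{t_m}`: (i) `∑_α E V α (f|_{V ∩ U_α}) = f` for all `f ∈ F(V)`, and (ii) `(E V α g)|_{V ∩ U_β} =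
E (V ∩ U_β) α (g|_{V ∩ U_β ∩ U_α})` for all indices `α, β` and all `g ∈ F(V ∩ U_α)`. Then the
operator `H` on ordered Čech cochains, `(H f)_t = ∑_α E (U_t) α (f_{(α, t)})`, satisfies `H (δ f) +
δ (H f) = f` for every Čech cochain `f` on tuples of length at least `2`, i.e. in every Čech degree
`≥ 1`. (The published statement takes a flasque sheaf on an open cover and extension maps attached
to pairs of finite intersections; this row takes any presheaf, any finite family of opens, and maps
that may depend on the index, none of which the printed argument needs. The published statement also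
asserts the identity in every degree of the Čech complex without augmentation term, and allows an
infinite index set with finitely supported sums; in Čech degree `0`, where that complex has no term
below and the identity reads `H (δ f) = f`, it fails in general — for the one-member cover of a
point and the constant presheaf `ℤ` with `E` the identity, `δ f` vanishes on the pair while `f` need
not — so it is stated here from degree `1` on, i.e. for cochains on tuples of length at least `2`
(the whole-space term on the empty tuple carried by the cochain groups used here plays no role), and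
for a finite index type.) -/
theorem result {X : Type u} [TopologicalSpace X]
    {ι : Type u} [Fintype ι] (F : (Opens X)ᵒᵖ ⥤ AddCommGrpCat.{u}) (U : ι → Opens X)
    (E : ∀ (V : Opens X) (α : ι), F.obj (op (V ⊓ U α)) →+ F.obj (op V))
    (h2 : ∀ (m : ℕ) (t : Fin (m + 1) → ι) (f : F.obj (op (cechOpen U t))),
      ∑ α, E (cechOpen U t) α (res F inf_le_left f) = f)
    (h3 : ∀ (m : ℕ) (t : Fin (m + 1) → ι) (α β : ι) (g : F.obj (op (cechOpen U t ⊓ U α))),
      res F inf_le_left (E (cechOpen U t) α g) =
        E (cechOpen U t ⊓ U β) α (res F (inf_le_inf_right (U α) inf_le_left) g))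
    (n : ℕ) (f : Cochain F U (n + 2)) :
    homotopy F U E (n + 2) (delta F U (n + 2) f) + delta F U (n + 1) (homotopy F U E (n + 1) f) = f := by
  funext t
  have hH : ∀ (m : ℕ) (c : Cochain F U (m + 1)) (s : Fin m → ι), homotopy F U E m c s =
      ∑ α : ι, E (cechOpen U s) α (res F (inf_le_cechOpen_cons U s α) (c (Fin.cons α s))) :=
    fun _ _ _ => rfl
  have hD : ∀ (m : ℕ) (c : Cochain F U m) (s : Fin (m + 1) → ι), delta F U m c s =
      ∑ j : Fin (m + 1), ((-1 : ℤ) ^ (j : ℕ)) •
        res F (cechOpen_le_comp U s j) (c (s ∘ j.succAbove)) :=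
    fun _ _ _ => rfl
  have hle : ∀ (α : ι) (i : Fin (n + 2)),
      cechOpen U t ⊓ U α ≤ cechOpen U (Fin.cons α (t ∘ i.succAbove) : Fin (n + 1 + 1) → ι) :=
    fun α i => (inf_le_inf_right (U α) (cechOpen_le_comp U t i)).trans
      (inf_le_cechOpen_cons U (t ∘ i.succAbove) α)
  have hB : delta F U (n + 1) (homotopy F U E (n + 1) f) t =
      ∑ i : Fin (n + 2), ((-1 : ℤ) ^ (i : ℕ)) • ∑ α : ι,
        E (cechOpen U t) α (res F (hle α i) (f (Fin.cons α (t ∘ i.succAbove)))) := by
    rw [hD]
    refine Finset.sum_congr rfl fun i _ => ?_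
    rw [hH, map_sum]
    refine congrArg (fun y => ((-1 : ℤ) ^ (i : ℕ)) • y) ?_
    refine Finset.sum_congr rfl fun α _ => ?_
    have h3' := h3 n (t ∘ i.succAbove) α (t i)
      (res F (inf_le_cechOpen_cons U (t ∘ i.succAbove) α) (f (Fin.cons α (t ∘ i.succAbove))))
    have h4 := E_transport F U E (cechOpen U (t ∘ i.succAbove))
      (cechOpen U (t ∘ i.succAbove) ⊓ U (t i)) α _ inf_le_left h3' (cechOpen U t)
      (cechOpen_eq U t i) (cechOpen_le_comp U t i)
    rw [h4, res_res']
  have hterm : ∀ α : ι, res F (inf_le_cechOpen_cons U t α)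
      (delta F U (n + 2) f (Fin.cons α t)) = res F inf_le_left (f t) -
        ∑ i : Fin (n + 2), ((-1 : ℤ) ^ (i : ℕ)) •
          res F (hle α i) (f (Fin.cons α (t ∘ i.succAbove))) := by
    intro α
    rw [hD, map_sum, Fin.sum_univ_succ]
    have e0 : ((Fin.cons α t : Fin (n + 2 + 1) → ι) ∘ (0 : Fin (n + 2 + 1)).succAbove) = t := by
      funext k
      simp
    have e1 : ∀ i : Fin (n + 2), ((Fin.cons α t : Fin (n + 2 + 1) → ι) ∘ (i.succ).succAbove) =
        Fin.cons α (t ∘ i.succAbove) := by
      intro i
      funext k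
      refine Fin.cases ?_ (fun k' => ?_) k
      · simp
      · simp
    have t0 : res F (inf_le_cechOpen_cons U t α)
        (((-1 : ℤ) ^ ((0 : Fin (n + 2 + 1)) : ℕ)) •
          res F (cechOpen_le_comp U (Fin.cons α t) 0)
            (f ((Fin.cons α t : Fin (n + 2 + 1) → ι) ∘ (0 : Fin (n + 2 + 1)).succAbove))) =
        res F inf_le_left (f t) := by
      rw [map_zsmul, res_res']
      simp only [Fin.val_zero, pow_zero, one_zsmul]
      exact res_congr' F U f e0 _ _
    have t1 : ∀ i : Fin (n + 2), res F (inf_le_cechOpen_cons U t α)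
        (((-1 : ℤ) ^ ((i.succ : Fin (n + 2 + 1)) : ℕ)) •
          res F (cechOpen_le_comp U (Fin.cons α t) i.succ)
            (f ((Fin.cons α t : Fin (n + 2 + 1) → ι) ∘ (i.succ).succAbove))) =
        -(((-1 : ℤ) ^ (i : ℕ)) • res F (hle α i) (f (Fin.cons α (t ∘ i.succAbove)))) := by
      intro i
      rw [map_zsmul, res_res', Fin.val_succ, pow_succ, mul_neg_one, neg_zsmul]
      exact congrArg (fun y => -(((-1 : ℤ) ^ (i : ℕ)) • y)) (res_congr' F U f (e1 i) _ _)
    rw [sub_eq_add_neg, ← Finset.sum_neg_distrib]
    exact congrArg₂ (· + ·) t0 (Finset.sum_congr rfl fun i _ => t1 i)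
  have hS : ∀ α : ι, E (cechOpen U t) α (res F (inf_le_cechOpen_cons U t α)
      (delta F U (n + 2) f (Fin.cons α t))) = E (cechOpen U t) α (res F inf_le_left (f t)) -
        ∑ i : Fin (n + 2), ((-1 : ℤ) ^ (i : ℕ)) •
          E (cechOpen U t) α (res F (hle α i) (f (Fin.cons α (t ∘ i.succAbove)))) := by
    intro α
    rw [hterm α, map_sub, map_sum]
    simp only [map_zsmul]
  have hA : homotopy F U E (n + 2) (delta F U (n + 2) f) t = f t -
      ∑ i : Fin (n + 2), ((-1 : ℤ) ^ (i : ℕ)) • ∑ α : ι,
        E (cechOpen U t) α (res F (hle α i) (f (Fin.cons α (t ∘ i.succAbove)))) := by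
    rw [hH, Finset.sum_congr rfl (fun α _ => hS α), Finset.sum_sub_distrib, h2 (n + 1) t (f t),
      Finset.sum_comm]
    simp only [Finset.smul_sum]
  show homotopy F U E (n + 2) (delta F U (n + 2) f) t +
    delta F U (n + 1) (homotopy F U E (n + 1) f) t = f t
  rw [hA, hB]
  abel

end Groth.Agent.S19193
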