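import Groth.Statements.S19194
import Mathlib

set_option autoImplicit false
universe u
open CategoryTheory Opposite TopologicalSpace
open CohTop

namespace Groth.Agent.S19194

open CategoryTheory Opposite TopologicalSpace W4c6blochformula0cyc in
theorem res_prod_apply {X : Type u} [TopologicalSpace X] (A : X → AddCommGrpCat.{u})
    {V W : Opens X} (h : W ≤ V) (x : (prodPresheaf A).obj (op V)) (z : W) :
    (res (prodPresheaf A) h x : ∀ y : W, A y.1) z = (x : ∀ y : V, A y.1) ⟨z.1, h z.2⟩ := rfl

open scoped Classical in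
open CategoryTheory Opposite TopologicalSpace W4c6blochformula0cyc in
theorem switchExt_pos {X : Type u} [TopologicalSpace X] (A : X → AddCommGrpCat.{u}) {ι : Type u}
    (U : ι → Opens X) (S : ι → Set X) (V : Opens X) (β : ι)
    (g : (prodPresheaf A).obj (op (V ⊓ U β))) (y : V) (h : (y.1 ∈ U β) ∧ (y.1 ∈ S β)) :
    (switchExt A U S V β g : ∀ y : V, A y.1) y =
      (g : ∀ z : (V ⊓ U β : Opens X), A z.1) ⟨y.1, ⟨y.2, h.1⟩⟩ := by
  have e : (switchExt A U S V β g : ∀ y : V, A y.1) y =
      ((if h : (y.1 ∈ U β) ∧ (y.1 ∈ S β) then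
        (Pi.evalAddMonoidHom (fun z : (V ⊓ U β : Opens X) => (A z.1 : Type u)) ⟨y.1, ⟨y.2, h.1⟩⟩ :
          (prodPresheaf A).obj (op (V ⊓ U β)) →+ A y.1)
      else 0 : (prodPresheaf A).obj (op (V ⊓ U β)) →+ A y.1)) g := rfl
  rw [e, dif_pos h]
  rfl

open scoped Classical in
open CategoryTheory Opposite TopologicalSpace W4c6blochformula0cyc in
theorem switchExt_neg {X : Type u} [TopologicalSpace X] (A : X → AddCommGrpCat.{u}) {ι : Type u}
    (U : ι → Opens X) (S : ι → Set X) (V : Opens X) (β : ι)
    (g : (prodPresheaf A).obj (op (V ⊓ U β))) (y : V) (h : ¬ ((y.1 ∈ U β) ∧ (y.1 ∈ S β))) :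
    (switchExt A U S V β g : ∀ y : V, A y.1) y = 0 := by
  have e : (switchExt A U S V β g : ∀ y : V, A y.1) y =
      ((if h : (y.1 ∈ U β) ∧ (y.1 ∈ S β) then
        (Pi.evalAddMonoidHom (fun z : (V ⊓ U β : Opens X) => (A z.1 : Type u)) ⟨y.1, ⟨y.2, h.1⟩⟩ :
          (prodPresheaf A).obj (op (V ⊓ U β)) →+ A y.1)
      else 0 : (prodPresheaf A).obj (op (V ⊓ U β)) →+ A y.1)) g := rfl
  rw [e, dif_neg h]
  rfl

open W4c6blochformula0cyc in
/-- Let `X` be a topological space, `U` a family of opens of `X` indexed by a finite type, `A y` an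
abelian group for every point `y` of `X`, and `F` the presheaf `V ↦ ∏_{y ∈ V} A y` with the
projections as restriction maps. Let `S α ⊆ U_α` be subsets such that every point of `X` lies in
exactly one `S α`. For an open `V` and an index `β` let `E V β : F(V ∩ U_β) → F(V)` keep the
components at the points of `S β` and put `0` at all other points. Then: (i) `∑_α E V α (f|_{V ∩
U_α}) = f` for every open `V` and every `f ∈ F(V)`; and (ii) `(E V α g)|_{V ∩ U_β} = E (V ∩ U_β) α
(g|_{V ∩ U_β ∩ U_α})` for every open `V`, all indices `α, β` and every `g ∈ F(V ∩ U_α)`. (These are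
exactly the hypotheses (i) and (ii) of the algebraic partition-of-unity statement, here for every
open `V` rather than only for finite intersections of members of the family. The published statement
takes the presheaf of direct sums `⊕_{y ∈ V} A y`; the product presheaf used here contains it, these
maps and the restrictions preserve it, and both identities restrict to it.) -/
theorem result {X : Type u} [TopologicalSpace X]
    {ι : Type u} [Fintype ι] (A : X → AddCommGrpCat.{u}) (U : ι → Opens X) (S : ι → Set X)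
    (hSU : ∀ α, S α ⊆ (U α : Set X)) (hS : ∀ x : X, ∃! α, x ∈ S α) :
    (∀ (V : Opens X) (f : (prodPresheaf A).obj (op V)),
        ∑ α, switchExt A U S V α (res (prodPresheaf A) inf_le_left f) = f) ∧
      ∀ (V : Opens X) (α β : ι) (g : (prodPresheaf A).obj (op (V ⊓ U α))),
        res (prodPresheaf A) inf_le_left (switchExt A U S V α g) =
          switchExt A U S (V ⊓ U β) α (res (prodPresheaf A) (inf_le_inf_right (U α) inf_le_left) g) := by
  classical
  refine ⟨fun V f => ?_, fun V α β g => ?_⟩
  · obtain ⟨f', hf'⟩ : ∃ f' : (prodPresheaf A).obj (op V), f' = ∑ α, switchExt A U S V α (res (prodPresheaf A) inf_le_left f) := ⟨_, rfl⟩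
    rw [← hf']
    show (f' : ∀ y : V, A y.1) = (f : ∀ y : V, A y.1)
    funext y
    obtain ⟨ev, hev⟩ : ∃ ev : (prodPresheaf A).obj (op V) →+ A y.1,
        ∀ x : (prodPresheaf A).obj (op V), ev x = (x : ∀ y : V, A y.1) y :=
      ⟨Pi.evalAddMonoidHom (fun z : V => (A z.1 : Type u)) y, fun _ => rfl⟩
    suffices hgoal : ev f' = ev f by
      rw [hev, hev] at hgoal
      exact hgoal
    rw [hf', map_sum]
    obtain ⟨α₀, hα₀, huniq⟩ := hS y.1
    rw [Finset.sum_eq_single α₀]
    · rw [hev, switchExt_pos A U S V α₀ _ y ⟨hSU α₀ hα₀, hα₀⟩, hev]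
      rfl
    · intro α _ hne
      rw [hev]
      refine switchExt_neg A U S V α _ y ?_
      rintro ⟨_, hmem⟩
      exact hne (huniq α hmem)
    · intro h
      exact absurd (Finset.mem_univ α₀) h
  · show (res (prodPresheaf A) inf_le_left (switchExt A U S V α g) :
        ∀ z : (V ⊓ U β : Opens X), A z.1) =
      (switchExt A U S (V ⊓ U β) α (res (prodPresheaf A) (inf_le_inf_right (U α) inf_le_left) g) :
        ∀ z : (V ⊓ U β : Opens X), A z.1)
    funext z
    rw [res_prod_apply]
    by_cases h : (z.1 ∈ U α) ∧ (z.1 ∈ S α)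
    · rw [switchExt_pos A U S V α g ⟨z.1, _⟩ h, switchExt_pos A U S (V ⊓ U β) α _ z h]
      rfl
    · rw [switchExt_neg A U S V α g ⟨z.1, _⟩ h, switchExt_neg A U S (V ⊓ U β) α _ z h]

end Groth.Agent.S19194
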