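import Groth.Statements.S19210
import Mathlib

set_option autoImplicit false
universe u
open LocAlg

namespace Groth.Agent.S19210

theorem pow_ineq1 (m : ℕ) (x : ℝ) (hx : 0 ≤ x) :
    x ^ (m + 1) + ((m : ℝ) + 1) * x ^ m ≤ (x + 1) ^ (m + 1) := by
  induction m with
  | zero => simp
  | succ m ih =>
    have h3 : 0 ≤ x + 1 := by linarith
    have h5 : (x + 1) * (x ^ (m + 1) + ((m : ℝ) + 1) * x ^ m) =
        x ^ (m + 1 + 1) + ((m : ℝ) + 1 + 1) * x ^ (m + 1) + ((m : ℝ) + 1) * x ^ m := by ring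
    have h6 : 0 ≤ ((m : ℝ) + 1) * x ^ m := by positivity
    calc x ^ (m + 1 + 1) + (((m + 1 : ℕ) : ℝ) + 1) * x ^ (m + 1)
        = x ^ (m + 1 + 1) + ((m : ℝ) + 1 + 1) * x ^ (m + 1) := by push_cast; ring
      _ ≤ (x + 1) * (x ^ (m + 1) + ((m : ℝ) + 1) * x ^ m) := by rw [h5]; linarith
      _ ≤ (x + 1) * (x + 1) ^ (m + 1) := mul_le_mul_of_nonneg_left ih h3
      _ = (x + 1) ^ (m + 1 + 1) := by ring

theorem pow_ineq2 (m : ℕ) (x : ℝ) (hx : 0 ≤ x) :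
    (x + 1) ^ (m + 1) ≤ x ^ (m + 1) + ((m : ℝ) + 1) * (x + 1) ^ m := by
  induction m with
  | zero => simp
  | succ m ih =>
    have h3 : 0 ≤ x + 1 := by linarith
    have h4 : x ^ (m + 1) ≤ (x + 1) ^ (m + 1) := pow_le_pow_left₀ hx (by linarith) _
    have h5 : (x + 1) * (x ^ (m + 1) + ((m : ℝ) + 1) * (x + 1) ^ m) =
        x ^ (m + 1 + 1) + x ^ (m + 1) + ((m : ℝ) + 1) * (x + 1) ^ (m + 1) := by ring
    calc (x + 1) ^ (m + 1 + 1) = (x + 1) * (x + 1) ^ (m + 1) := by ring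
      _ ≤ (x + 1) * (x ^ (m + 1) + ((m : ℝ) + 1) * (x + 1) ^ m) :=
          mul_le_mul_of_nonneg_left ih h3
      _ = x ^ (m + 1 + 1) + x ^ (m + 1) + ((m : ℝ) + 1) * (x + 1) ^ (m + 1) := h5
      _ ≤ x ^ (m + 1 + 1) + ((m : ℝ) + 1 + 1) * (x + 1) ^ (m + 1) := by linarith
      _ = x ^ (m + 1 + 1) + (((m + 1 : ℕ) : ℝ) + 1) * (x + 1) ^ (m + 1) := by push_cast; ring

theorem powsum_upper (m n : ℕ) :
    ((m : ℝ) + 1) * ∑ i ∈ Finset.range n, (i : ℝ) ^ m ≤ (n : ℝ) ^ (m + 1) := by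
  induction n with
  | zero => simp
  | succ n ih =>
    have h := pow_ineq1 m n (Nat.cast_nonneg n)
    rw [Finset.sum_range_succ, mul_add]
    push_cast
    linarith

theorem powsum_lower (m n : ℕ) :
    (n : ℝ) ^ (m + 1) ≤ ((m : ℝ) + 1) * (∑ i ∈ Finset.range n, (i : ℝ) ^ m + (n : ℝ) ^ m) := by
  induction n with
  | zero =>
    have h0 : ((0 : ℕ) : ℝ) ^ (m + 1) = 0 := by simp
    rw [h0]
    positivity
  | succ n ih =>
    have h := pow_ineq2 m n (Nat.cast_nonneg n)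
    rw [Finset.sum_range_succ]
    push_cast
    linarith

theorem powsum_bound (m n : ℕ) :
    |(∑ i ∈ Finset.range n, (i : ℝ) ^ m) - (n : ℝ) ^ (m + 1) / ((m : ℝ) + 1)| ≤ (n : ℝ) ^ m := by
  have hpos : (0 : ℝ) < (m : ℝ) + 1 := by positivity
  have hU := powsum_upper m n
  have hL := powsum_lower m n
  have hnm : (0 : ℝ) ≤ (n : ℝ) ^ m := by positivity
  have h1 : (n : ℝ) ^ (m + 1) / ((m : ℝ) + 1) ≤
      ∑ i ∈ Finset.range n, (i : ℝ) ^ m + (n : ℝ) ^ m := by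
    rw [div_le_iff₀ hpos]
    linarith
  have h2 : ∑ i ∈ Finset.range n, (i : ℝ) ^ m ≤ (n : ℝ) ^ (m + 1) / ((m : ℝ) + 1) := by
    rw [le_div_iff₀ hpos]
    linarith
  rw [abs_le]
  constructor <;> linarith

theorem gen (a : ℕ) : ∀ b : ℕ, ∃ C : ℝ, ∀ n : ℕ, 1 ≤ n →
    |(∑ i ∈ Finset.range n, ((n : ℝ) - (i : ℝ)) ^ a * (i : ℝ) ^ b) -
      (a.factorial : ℝ) * (b.factorial : ℝ) / ((a + b + 1).factorial : ℝ) *
        (n : ℝ) ^ (a + b + 1)| ≤ C * (n : ℝ) ^ (a + b) := by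
  induction a with
  | zero =>
    intro b
    refine ⟨1, ?_⟩
    intro n hn
    have hP := powsum_bound b n
    have e1 : ∑ i ∈ Finset.range n, ((n : ℝ) - (i : ℝ)) ^ 0 * (i : ℝ) ^ b =
        ∑ i ∈ Finset.range n, (i : ℝ) ^ b := by
      refine Finset.sum_congr rfl (fun i _ => ?_)
      rw [pow_zero, one_mul]
    have e2 : ((0 : ℕ).factorial : ℝ) * (b.factorial : ℝ) / ((0 + b + 1).factorial : ℝ) *
        (n : ℝ) ^ (0 + b + 1) = (n : ℝ) ^ (b + 1) / ((b : ℝ) + 1) := by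
      rw [zero_add, Nat.factorial_succ, Nat.factorial_zero]
      push_cast
      have hB : (b.factorial : ℝ) ≠ 0 := by positivity
      have hb1 : ((b : ℝ) + 1) ≠ 0 := by positivity
      field_simp
    rw [e1, e2, zero_add, one_mul]
    exact hP
  | succ a ih =>
    intro b
    obtain ⟨C₁, h₁⟩ := ih b
    obtain ⟨C₂, h₂⟩ := ih (b + 1)
    refine ⟨C₁ + C₂, ?_⟩
    intro n hn
    have hn0 : (0 : ℝ) ≤ n := Nat.cast_nonneg n
    have hS : ∑ i ∈ Finset.range n, ((n : ℝ) - (i : ℝ)) ^ (a + 1) * (i : ℝ) ^ b =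
        n * ∑ i ∈ Finset.range n, ((n : ℝ) - (i : ℝ)) ^ a * (i : ℝ) ^ b -
          ∑ i ∈ Finset.range n, ((n : ℝ) - (i : ℝ)) ^ a * (i : ℝ) ^ (b + 1) := by
      rw [Finset.mul_sum, ← Finset.sum_sub_distrib]
      refine Finset.sum_congr rfl (fun i _ => ?_)
      ring
    have hc : ((a + 1).factorial : ℝ) * (b.factorial : ℝ) / ((a + 1 + b + 1).factorial : ℝ) =
        (a.factorial : ℝ) * (b.factorial : ℝ) / ((a + b + 1).factorial : ℝ) -
          (a.factorial : ℝ) * ((b + 1).factorial : ℝ) / ((a + (b + 1) + 1).factorial : ℝ) := by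
      have e1 : a + 1 + b + 1 = (a + b + 1) + 1 := by ring
      have e2 : a + (b + 1) + 1 = (a + b + 1) + 1 := by ring
      rw [e1, e2, Nat.factorial_succ (a + b + 1), Nat.factorial_succ a, Nat.factorial_succ b]
      push_cast
      have hA : (a.factorial : ℝ) ≠ 0 := by positivity
      have hB : (b.factorial : ℝ) ≠ 0 := by positivity
      have hF : ((a + b + 1).factorial : ℝ) ≠ 0 := by positivity
      have hab : ((a : ℝ) + b + 1 + 1) ≠ 0 := by positivity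
      field_simp
      ring
    have h1 := h₁ n hn
    have h2 := h₂ n hn
    have key : (∑ i ∈ Finset.range n, ((n : ℝ) - (i : ℝ)) ^ (a + 1) * (i : ℝ) ^ b) -
        ((a + 1).factorial : ℝ) * (b.factorial : ℝ) / ((a + 1 + b + 1).factorial : ℝ) *
          (n : ℝ) ^ (a + 1 + b + 1)
        = n * ((∑ i ∈ Finset.range n, ((n : ℝ) - (i : ℝ)) ^ a * (i : ℝ) ^ b) -
            (a.factorial : ℝ) * (b.factorial : ℝ) / ((a + b + 1).factorial : ℝ) *
              (n : ℝ) ^ (a + b + 1))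
          - ((∑ i ∈ Finset.range n, ((n : ℝ) - (i : ℝ)) ^ a * (i : ℝ) ^ (b + 1)) -
            (a.factorial : ℝ) * ((b + 1).factorial : ℝ) / ((a + (b + 1) + 1).factorial : ℝ) *
              (n : ℝ) ^ (a + (b + 1) + 1)) := by
      rw [hS, hc]
      ring
    rw [key]
    refine le_trans (abs_sub _ _) ?_
    rw [abs_mul, abs_of_nonneg hn0]
    have e3 : (C₁ + C₂) * (n : ℝ) ^ (a + 1 + b) =
        n * (C₁ * (n : ℝ) ^ (a + b)) + C₂ * (n : ℝ) ^ (a + (b + 1)) := by ring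
    rw [e3]
    exact add_le_add (mul_le_mul_of_nonneg_left h1 hn0) h2

/-- For natural numbers j ≤ r, the sums Σ_{i=0}^{n−1} (n − i)^{r−j} i^j equal n^{r+1}·(r − j)!·j!/(r +
1)! up to O(n^r): there is a real constant C with |Σ_{i<n} (n − i)^{r−j} i^j − ((r − j)!·j!/(r +
1)!)·n^{r+1}| ≤ C·n^r for all n ≥ 1. -/
theorem result (r j : ℕ) (hj : j ≤ r) :
    ∃ C : ℝ, ∀ n : ℕ, 1 ≤ n →
      |(∑ i ∈ Finset.range n, ((n : ℝ) - (i : ℝ)) ^ (r - j) * (i : ℝ) ^ j) -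
          ((r - j).factorial : ℝ) * (j.factorial : ℝ) / ((r + 1).factorial : ℝ) * (n : ℝ) ^ (r + 1)| ≤
        C * (n : ℝ) ^ r := by
  obtain ⟨a, rfl⟩ : ∃ a, r = a + j := ⟨r - j, by omega⟩
  rw [Nat.add_sub_cancel]
  exact gen a j

end Groth.Agent.S19210
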