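import Groth.Statements.S19216
import Mathlib

set_option autoImplicit false
universe u
open SymRep

namespace Groth.Agent.S19216

/-- Let k be a field of characteristic zero and r, s ≥ 1. Realise the standard representation of the
symmetric group on a finite set T as the hyperplane of functions T → k with sum zero, the group
acting by precomposition with the inverse. Then the standard representation of the symmetric group
of Fin r ⊕ Fin s, restricted to the subgroup S_r × S_s, is isomorphic to the direct sum of the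
standard representations of S_r and of S_s and of a one-dimensional trivial representation: there is
a k-linear map E from functions on Fin r ⊕ Fin s to triples (function on Fin r, function on Fin s,
scalar), compatible with the actions of S_r × S_s (trivial on the scalar), which maps the sum-zero
hyperplane bijectively onto the product of the two sum-zero hyperplanes and k. (The published
statement is over the complex numbers; a field of characteristic zero is used here. The published
statement also gives the analogous decomposition for any number of blocks, which follows by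
induction; only the two-block case is stated here.) -/
theorem result (k : Type u) [Field k] [CharZero k]
    (r s : ℕ) (hr : 1 ≤ r) (hs : 1 ≤ s) :
    ∃ E : (Fin r ⊕ Fin s → k) →ₗ[k] (Fin r → k) × (Fin s → k) × k,
      (∀ (σ : Equiv.Perm (Fin r)) (τ : Equiv.Perm (Fin s)) (f : Fin r ⊕ Fin s → k),
        E (f ∘ ⇑(Equiv.sumCongr σ τ).symm) = ((E f).1 ∘ ⇑σ.symm, (E f).2.1 ∘ ⇑τ.symm, (E f).2.2)) ∧
      Set.BijOn E {f | ∑ i, f i = 0}
        ({g : Fin r → k | ∑ i, g i = 0} ×ˢ ({h : Fin s → k | ∑ i, h i = 0} ×ˢ Set.univ)) := by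
  have hr0 : (r : k) ≠ 0 := by exact_mod_cast (by omega : r ≠ 0)
  have hs0 : (s : k) ≠ 0 := by exact_mod_cast (by omega : s ≠ 0)
  obtain ⟨E, hE⟩ : ∃ E : (Fin r ⊕ Fin s → k) →ₗ[k] (Fin r → k) × (Fin s → k) × k,
      ∀ f, E f = (fun i => f (Sum.inl i) - (r : k)⁻¹ * (∑ i', f (Sum.inl i')),
                  fun j => f (Sum.inr j) - (s : k)⁻¹ * (∑ j', f (Sum.inr j')),
                  ∑ i', f (Sum.inl i')) := by
    refine ⟨LinearMap.prod
      (LinearMap.pi (fun i => LinearMap.proj (Sum.inl i)
        - (r : k)⁻¹ • ∑ i' : Fin r, LinearMap.proj (R := k) (φ := fun _ : Fin r ⊕ Fin s => k) (Sum.inl i')))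
      (LinearMap.prod
        (LinearMap.pi (fun j => LinearMap.proj (Sum.inr j)
          - (s : k)⁻¹ • ∑ j' : Fin s, LinearMap.proj (R := k) (φ := fun _ : Fin r ⊕ Fin s => k) (Sum.inr j')))
        (∑ i' : Fin r, LinearMap.proj (R := k) (φ := fun _ : Fin r ⊕ Fin s => k) (Sum.inl i'))), ?_⟩
    intro f
    refine Prod.ext ?_ (Prod.ext ?_ ?_)
    · funext i
      simp [LinearMap.sum_apply]
    · funext j
      simp [LinearMap.sum_apply]
    · simp [LinearMap.sum_apply]
  have hsumr : ∀ (σ : Equiv.Perm (Fin r)) (f : Fin r ⊕ Fin s → k),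
      ∑ i, f (Sum.inl (σ.symm i)) = ∑ i, f (Sum.inl i) :=
    fun σ f => Equiv.sum_comp σ.symm (fun i => f (Sum.inl i))
  have hsums : ∀ (τ : Equiv.Perm (Fin s)) (f : Fin r ⊕ Fin s → k),
      ∑ j, f (Sum.inr (τ.symm j)) = ∑ j, f (Sum.inr j) :=
    fun τ f => Equiv.sum_comp τ.symm (fun j => f (Sum.inr j))
  refine ⟨E, ?_, ?_, ?_, ?_⟩
  · intro σ τ f
    rw [hE, hE]
    refine Prod.ext ?_ (Prod.ext ?_ ?_)
    · funext i
      simp only [Function.comp_apply, Equiv.sumCongr_symm, Equiv.sumCongr_apply, Sum.map_inl]
      rw [hsumr]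
    · funext j
      simp only [Function.comp_apply, Equiv.sumCongr_symm, Equiv.sumCongr_apply, Sum.map_inr]
      rw [hsums]
    · simp only [Function.comp_apply, Equiv.sumCongr_symm, Equiv.sumCongr_apply, Sum.map_inl]
      rw [hsumr]
  · intro f hf
    rw [hE]
    refine ⟨?_, ?_, Set.mem_univ _⟩
    · show ∑ i, (f (Sum.inl i) - (r : k)⁻¹ * (∑ i', f (Sum.inl i'))) = 0
      rw [Finset.sum_sub_distrib, Finset.sum_const, Finset.card_univ, Fintype.card_fin, nsmul_eq_mul,
        ← mul_assoc, mul_inv_cancel₀ hr0, one_mul, sub_self]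
    · show ∑ j, (f (Sum.inr j) - (s : k)⁻¹ * (∑ j', f (Sum.inr j'))) = 0
      rw [Finset.sum_sub_distrib, Finset.sum_const, Finset.card_univ, Fintype.card_fin, nsmul_eq_mul,
        ← mul_assoc, mul_inv_cancel₀ hs0, one_mul, sub_self]
  · intro f hf f' hf' hff
    rw [hE, hE] at hff
    have h1 := congrArg Prod.fst hff
    have h2 := congrArg (fun z => z.2.1) hff
    have h3 : ∑ i', f (Sum.inl i') = ∑ i', f' (Sum.inl i') := congrArg (fun z => z.2.2) hff
    have hf0 : ∑ i, f i = 0 := hf
    have hf0' : ∑ i, f' i = 0 := hf'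
    rw [Fintype.sum_sum_type] at hf0 hf0'
    have h4 : ∑ j', f (Sum.inr j') = ∑ j', f' (Sum.inr j') := by
      linear_combination hf0 - hf0' - h3
    funext x
    rcases x with i | j
    · have := congrFun h1 i
      simp only at this
      rw [h3] at this
      exact sub_left_injective this
    · have := congrFun h2 j
      simp only at this
      rw [h4] at this
      exact sub_left_injective this
  · rintro ⟨g, h, c⟩ ⟨hg, hh, -⟩
    have hg0 : ∑ i, g i = 0 := hg
    have hh0 : ∑ j, h j = 0 := hh
    refine ⟨Sum.elim (fun i => g i + (r : k)⁻¹ * c) (fun j => h j - (s : k)⁻¹ * c), ?_, ?_⟩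
    · show ∑ x, Sum.elim (fun i => g i + (r : k)⁻¹ * c) (fun j => h j - (s : k)⁻¹ * c) x = 0
      rw [Fintype.sum_sum_type]
      simp only [Sum.elim_inl, Sum.elim_inr]
      simp only [Finset.sum_add_distrib, Finset.sum_sub_distrib, hg0, hh0, Finset.sum_const,
        Finset.card_univ, Fintype.card_fin, nsmul_eq_mul]
      rw [← mul_assoc, ← mul_assoc, mul_inv_cancel₀ hr0, mul_inv_cancel₀ hs0]
      ring
    · rw [hE]
      simp only [Sum.elim_inl, Sum.elim_inr]
      have ha : ∑ i', (g i' + (r : k)⁻¹ * c) = c := by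
        rw [Finset.sum_add_distrib, hg0, Finset.sum_const, Finset.card_univ, Fintype.card_fin,
          nsmul_eq_mul, ← mul_assoc, mul_inv_cancel₀ hr0]
        ring
      have hb : ∑ j', (h j' - (s : k)⁻¹ * c) = -c := by
        rw [Finset.sum_sub_distrib, hh0, Finset.sum_const, Finset.card_univ, Fintype.card_fin,
          nsmul_eq_mul, ← mul_assoc, mul_inv_cancel₀ hs0]
        ring
      rw [ha, hb]
      refine Prod.ext ?_ (Prod.ext ?_ rfl)
      · funext i
        show g i + (r : k)⁻¹ * c - (r : k)⁻¹ * c = g i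
        ring
      · funext j
        show h j - (s : k)⁻¹ * c - (s : k)⁻¹ * (-c) = h j
        ring

end Groth.Agent.S19216
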