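import Groth.Statements.S19230
import Mathlib
import Groth.Agent.Lib.helper9.SigmaFit

set_option autoImplicit false
universe u v
open SigmaLin

namespace Groth.Agent.S19230

/-- Let k be a field, σ a surjective ring endomorphism of k, V a finite-dimensional k-vector space and T
: V → V additive with T (c • v) = σ c • T v. Then the set of vectors killed by some iterate of T is
a k-subspace on which a single iterate of T vanishes, it is a complement of the intersection over n
of the k-spans of the images of the n-th iterates, and T restricts to a bijection of that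
intersection onto itself. -/
theorem result
    (k : Type u) [Field k] (σ : k →+* k) (hσ : Function.Surjective σ)
    (V : Type v) [AddCommGroup V] [Module k V] [FiniteDimensional k V] (T : V →ₛₗ[σ] V) :
    (∃ W : Submodule k V, (W : Set V) = {v : V | ∃ n : ℕ, (⇑T)^[n] v = 0} ∧
      (∃ N : ℕ, ∀ v ∈ W, (⇑T)^[N] v = 0) ∧
      IsCompl W (⨅ n : ℕ, Submodule.span k (Set.range ((⇑T)^[n])))) ∧
    Set.BijOn (⇑T) (⋂ n : ℕ, (Submodule.span k (Set.range ((⇑T)^[n])) : Set V))
      (⋂ n : ℕ, (Submodule.span k (Set.range ((⇑T)^[n])) : Set V)) := by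
  obtain ⟨m, hK, hI, hc⟩ := H9Sig.fitting hσ T
  have hinf := H9Sig.iInf_In T m hI
  refine ⟨⟨H9Sig.Kn T m, ?_, ⟨m, fun v hv => hv⟩, ?_⟩, ?_⟩
  · ext v
    constructor
    · intro hv; exact ⟨m, hv⟩
    · rintro ⟨n, hn⟩
      have h1 : v ∈ H9Sig.Kn T n := hn
      have h2 : H9Sig.Kn T n ≤ H9Sig.Kn T (max n m) := H9Sig.Kn_mono T (le_max_left _ _)
      have h3 := hK (max n m) (le_max_right _ _)
      rw [SetLike.mem_coe, ← h3]
      exact h2 h1
  · rw [hinf]; exact hc
  · have hset : (⋂ n : ℕ, (Submodule.span k (Set.range ((⇑T)^[n])) : Set V))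
        = (H9Sig.In T m : Set V) := by
      rw [← hinf, Submodule.coe_iInf]
    rw [hset]
    exact H9Sig.bijOn_In hσ T m hK hI hc.disjoint

end Groth.Agent.S19230
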