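import Groth.Statements.S19244
import Mathlib

set_option autoImplicit false
universe v v' u u'
open HomAlg3

namespace Groth.Agent.S19244

open CategoryTheory CategoryTheory.Limits in
theorem exists_quasi_inv {A : Type u} [Category.{v} A] [Abelian A] {X' X : A} (s : X' ⟶ X)
    (a b : ℤ) (ha : a • 𝟙 (kernel s) = 0) (hb : b • 𝟙 (cokernel s) = 0) :
    ∃ t : X ⟶ X', s ≫ t = (b * a) • 𝟙 X' := by
  have hu : (b • 𝟙 X) ≫ cokernel.π s = 0 := by
    rw [Preadditive.zsmul_comp, Category.id_comp]
    have h : cokernel.π s ≫ (b • 𝟙 (cokernel s)) = 0 := by rw [hb, comp_zero]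
    rwa [Preadditive.comp_zsmul, Category.comp_id] at h
  obtain ⟨u, hu'⟩ : ∃ u : X ⟶ Abelian.image s, u ≫ Abelian.image.ι s = b • 𝟙 X :=
    ⟨kernel.lift _ _ hu, kernel.lift_ι _ _ _⟩
  have hps : Abelian.factorThruImage s ≫ Abelian.image.ι s = s := Abelian.image.fac s
  have hk : kernel.ι (Abelian.factorThruImage s) ≫ s = 0 := by
    calc kernel.ι (Abelian.factorThruImage s) ≫ s
        = kernel.ι (Abelian.factorThruImage s) ≫
            (Abelian.factorThruImage s ≫ Abelian.image.ι s) := by rw [hps]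
      _ = 0 := by rw [← Category.assoc, kernel.condition, zero_comp]
  have hak : a • kernel.ι s = 0 := by
    have h : (a • 𝟙 (kernel s)) ≫ kernel.ι s = 0 := by rw [ha, zero_comp]
    rwa [Preadditive.zsmul_comp, Category.id_comp] at h
  have hcond : kernel.ι (Abelian.factorThruImage s) ≫ (a • 𝟙 X') = 0 := by
    calc kernel.ι (Abelian.factorThruImage s) ≫ (a • 𝟙 X')
        = a • kernel.ι (Abelian.factorThruImage s) := by
          rw [Preadditive.comp_zsmul, Category.comp_id]
      _ = a • (kernel.lift s _ hk ≫ kernel.ι s) := by rw [kernel.lift_ι]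
      _ = kernel.lift s _ hk ≫ (a • kernel.ι s) := by rw [Preadditive.comp_zsmul]
      _ = 0 := by rw [hak, comp_zero]
  obtain ⟨v, hv⟩ := CokernelCofork.IsColimit.desc'
    (Abelian.epiIsCokernelOfKernel _ (kernelIsKernel (Abelian.factorThruImage s)))
    (a • 𝟙 X') hcond
  have hv' : Abelian.factorThruImage s ≫ v = a • 𝟙 X' := hv
  have hsu : s ≫ u = b • Abelian.factorThruImage s := by
    rw [← cancel_mono (Abelian.image.ι s), Category.assoc, hu', Preadditive.comp_zsmul,
      Category.comp_id, Preadditive.zsmul_comp, hps]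
  refine ⟨u ≫ v, ?_⟩
  rw [← Category.assoc, hsu, Preadditive.zsmul_comp, hv', smul_smul]

open CategoryTheory CategoryTheory.Limits in
theorem tors_iso {A : Type u} [Category.{v} A] [Abelian A]
    (P : ObjectProperty A) (hP : ∀ X : A, P X ↔ ∃ n : ℤ, n ≠ 0 ∧ n • (𝟙 X) = 0) [P.IsSerreClass]
    (Y : A) (n : ℤ) (hn : n ≠ 0) : P.isoModSerre (n • 𝟙 Y) := by
  rw [ObjectProperty.isoModSerre_iff, ObjectProperty.monoModSerre_iff,
    ObjectProperty.epiModSerre_iff]
  constructor
  · rw [hP]
    refine ⟨n, hn, ?_⟩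
    rw [← cancel_mono (kernel.ι (n • 𝟙 Y)), zero_comp, Preadditive.zsmul_comp, Category.id_comp]
    have h := kernel.condition (n • 𝟙 Y)
    rwa [Preadditive.comp_zsmul, Category.comp_id] at h
  · rw [hP]
    refine ⟨n, hn, ?_⟩
    rw [← cancel_epi (cokernel.π (n • 𝟙 Y)), comp_zero, Preadditive.comp_zsmul, Category.comp_id]
    have h := cokernel.condition (n • 𝟙 Y)
    rwa [Preadditive.zsmul_comp, Category.id_comp] at h

open CategoryTheory in
/-- Let A be an abelian category and let P be the class of bounded-torsion objects of A, those X with n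
• 𝟙_X = 0 for some nonzero integer n; assume P is a Serre class. Let L : A ⥤ D be an additive
functor to a preadditive category exhibiting D as the localization of A at the morphisms whose
kernel and cokernel are in P (so D is the quotient category A_ℚ = A ⧸ A_{b-tor}; the source assumes
A well-powered, which guarantees that this quotient exists). Then for all objects X, Y of A: (1) for
every nonzero integer n, multiplication by n is bijective on Hom_D(L X, L Y), so that this group is
naturally a ℚ-vector space; (2) a morphism f : X ⟶ Y satisfies L f = 0 if and only if n • f = 0 for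
some nonzero integer n; (3) for every g : L X ⟶ L Y there are a nonzero integer n and f : X ⟶ Y with
n • g = L f. Equivalently, the natural map Hom_A(X, Y) ⊗_ℤ ℚ → Hom_D(L X, L Y) is an isomorphism. -/
theorem result
    {A : Type u} [Category.{v} A] [Abelian A] {D : Type u'} [Category.{v'} D] [Preadditive D]
    (P : ObjectProperty A) (hP : ∀ X : A, P X ↔ ∃ n : ℤ, n ≠ 0 ∧ n • (𝟙 X) = 0) [P.IsSerreClass]
    (L : A ⥤ D) [L.Additive] [L.IsLocalization P.isoModSerre] (X Y : A) :
    (∀ n : ℤ, n ≠ 0 → Function.Bijective (fun g : L.obj X ⟶ L.obj Y => n • g)) ∧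
    (∀ f : X ⟶ Y, L.map f = 0 ↔ ∃ n : ℤ, n ≠ 0 ∧ n • f = 0) ∧
    (∀ g : L.obj X ⟶ L.obj Y, ∃ (n : ℤ) (f : X ⟶ Y), n ≠ 0 ∧ n • g = L.map f) := by
  have hL : P.isoModSerre.IsInvertedBy L := Localization.inverts L P.isoModSerre
  refine ⟨?_, ?_, ?_⟩
  · intro n hn
    haveI : IsIso (L.map (n • 𝟙 Y)) := hL _ (tors_iso P hP Y n hn)
    have hu : L.map (n • 𝟙 Y) = n • 𝟙 (L.obj Y) := by rw [L.map_zsmul, L.map_id]
    have hmul : ∀ g : L.obj X ⟶ L.obj Y, n • g = g ≫ L.map (n • 𝟙 Y) := fun g => by
      rw [hu, Preadditive.comp_zsmul, Category.comp_id]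
    constructor
    · intro g g' hgg'
      have h1 : n • g = n • g' := hgg'
      rw [hmul, hmul] at h1
      exact (cancel_mono _).mp h1
    · intro g
      refine ⟨g ≫ inv (L.map (n • 𝟙 Y)), ?_⟩
      show n • (g ≫ inv (L.map (n • 𝟙 Y))) = g
      rw [hmul, Category.assoc, IsIso.inv_hom_id, Category.comp_id]
  · intro f
    rw [ObjectProperty.SerreClassLocalization.map_eq_zero_iff L P f, hP]
    constructor
    · rintro ⟨n, hn, h0⟩
      refine ⟨n, hn, ?_⟩
      have e : n • f = Abelian.factorThruImage f ≫ (n • 𝟙 _) ≫ Abelian.image.ι f := by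
        rw [Preadditive.zsmul_comp, Preadditive.comp_zsmul, Category.id_comp, Abelian.image.fac]
      rw [e, h0, Limits.zero_comp, Limits.comp_zero]
    · rintro ⟨n, hn, h0⟩
      refine ⟨n, hn, ?_⟩
      have h1 : Abelian.factorThruImage f ≫
          ((n • 𝟙 (Abelian.image f)) ≫ Abelian.image.ι f) = 0 := by
        rw [Preadditive.zsmul_comp, Preadditive.comp_zsmul, Category.id_comp,
          Abelian.image.fac, h0]
      have h2 : (n • 𝟙 (Abelian.image f)) ≫ Abelian.image.ι f = 0 := by
        rw [← cancel_epi (Abelian.factorThruImage f), h1, Limits.comp_zero]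
      rw [← cancel_mono (Abelian.image.ι f), h2, Limits.zero_comp]
  · intro g
    obtain ⟨φ, hg⟩ := Localization.exists_rightFraction L P.isoModSerre g
    have hφ := (ObjectProperty.isoModSerre_iff P φ.s).mp φ.hs
    obtain ⟨a, ha0, ha⟩ := (hP _).mp ((ObjectProperty.monoModSerre_iff P φ.s).mp hφ.1)
    obtain ⟨b, hb0, hb⟩ := (hP _).mp ((ObjectProperty.epiModSerre_iff P φ.s).mp hφ.2)
    obtain ⟨t, ht⟩ := exists_quasi_inv φ.s a b ha hb
    refine ⟨b * a, t ≫ φ.f, mul_ne_zero hb0 ha0, ?_⟩
    haveI : IsIso (L.map φ.s) := hL _ φ.hs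
    have e1 : L.map φ.s ≫ L.map t = (b * a) • 𝟙 (L.obj φ.X') := by
      rw [← L.map_comp, ht, L.map_zsmul, L.map_id]
    rw [← cancel_epi (L.map φ.s), Preadditive.comp_zsmul, hg,
      MorphismProperty.RightFraction.map_s_comp_map, L.map_comp, ← Category.assoc, e1,
      Preadditive.zsmul_comp, Category.id_comp]

end Groth.Agent.S19244
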