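import Groth.Statements.S19267
import Mathlib
import Groth.Agent.Lib.helper9.TeichMul

set_option autoImplicit false
universe u
open WittFil

namespace Groth.Agent.S19267

theorem h9_uz_mul {B : Type*} [CommRing B] (u : Bˣ) (a b : ℤ) :
    ((u ^ a : Bˣ) : B) * ((u ^ b : Bˣ) : B) = ((u ^ (a + b) : Bˣ) : B) := by
  rw [← Units.val_mul, ← zpow_add]

theorem h9_uz_pow {B : Type*} [CommRing B] (u : Bˣ) (a : ℤ) (N : ℕ) :
    ((u ^ a : Bˣ) : B) ^ N = ((u ^ (a * (N : ℤ)) : Bˣ) : B) := by
  rw [← Units.val_pow_eq_pow_val, ← zpow_natCast, ← zpow_mul]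

theorem h9_T (p : ℕ) [Fact p.Prime] {A B : Type*} [CommRing A] [CommRing B] [Algebra A B]
    (m : ℕ) (u : Bˣ) (n l : ℤ) (y : WittVector p B)
    (hy : WittVector.truncate m y ∈ WittFil.fil p m (A := A) ((u ^ n : Bˣ) : B)) :
    WittVector.truncate m (WittVector.teichmuller p ((u ^ l : Bˣ) : B)) * WittVector.truncate m y
      ∈ WittFil.fil p m (A := A) ((u ^ (n - (p : ℤ) ^ (m - 1) * l) : Bˣ) : B) := by
  intro j
  obtain ⟨j, hj⟩ := j
  have h1 := hy ⟨j, hj⟩
  rw [WittVector.coeff_truncate] at h1
  rw [← map_mul, WittVector.coeff_truncate,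
    mul_comm (WittVector.teichmuller p ((u ^ l : Bˣ) : B)) y, H9TM.mul_teichmuller_coeff]
  dsimp only at h1 ⊢
  rw [mul_pow, h9_uz_pow, h9_uz_pow, mul_assoc, h9_uz_mul]
  have hexp : l * ((p ^ j : ℕ) : ℤ) * ((p ^ (m - 1 - j) : ℕ) : ℤ) + (n - (p : ℤ) ^ (m - 1) * l)
      = n := by
    have hpow : (p : ℤ) ^ (m - 1) = (p : ℤ) ^ j * (p : ℤ) ^ (m - 1 - j) := by
      rw [← pow_add]; congr 1; omega
    push_cast
    linear_combination (-l) * hpow
  rw [hexp]
  exact h1

/-- Let A → B be a homomorphism of commutative rings, u a unit of B, m ≥ 0 and n, l integers. For an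
element c of B call the filtered piece cut out by c the set of truncated p-typical Witt vectors of
length m over B whose j-th coordinate y_j satisfies: y_j ^ (p ^ (m-1-j)) · c lies in the image of A,
for every j < m. Then the piece cut out by u ^ (n − p^(m−1)·l) is exactly the image of the piece cut
out by u ^ n under multiplication by the truncated Teichmüller representative [u ^ l]. (The
published case is B = S[[π]][1/π] over A = S[[π]] with u = π; the computation is the same in
general.) -/
theorem result (p : ℕ) [Fact p.Prime] {A B : Type u}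
    [CommRing A] [CommRing B] [Algebra A B] (m : ℕ) (u : Bˣ) (n l : ℤ) :
    WittFil.fil p m (A := A) ((u ^ (n - (p : ℤ) ^ (m - 1) * l) : Bˣ) : B) =
      (fun a => WittVector.truncate m (WittVector.teichmuller p ((u ^ l : Bˣ) : B)) * a) ''
        WittFil.fil p m (A := A) ((u ^ n : Bˣ) : B) := by
  apply Set.eq_of_subset_of_subset
  · intro y hy
    obtain ⟨y', rfl⟩ := WittVector.truncate_surjective p m B y
    have h1 := h9_T p m u (n - (p : ℤ) ^ (m - 1) * l) (-l) y' hy
    have he : n - (p : ℤ) ^ (m - 1) * l - (p : ℤ) ^ (m - 1) * (-l) = n := by ring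
    rw [he] at h1
    refine ⟨_, h1, ?_⟩
    show WittVector.truncate m (WittVector.teichmuller p ((u ^ l : Bˣ) : B))
      * (WittVector.truncate m (WittVector.teichmuller p ((u ^ (-l) : Bˣ) : B))
        * WittVector.truncate m y') = WittVector.truncate m y'
    rw [← mul_assoc, ← map_mul, ← map_mul (WittVector.teichmuller p), h9_uz_mul, add_neg_cancel,
      zpow_zero, Units.val_one, map_one, map_one, one_mul]
  · rintro _ ⟨a, ha, rfl⟩
    obtain ⟨a', rfl⟩ := WittVector.truncate_surjective p m B a
    exact h9_T p m u n l a' ha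

end Groth.Agent.S19267
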