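import Groth.Statements.S19269
import Mathlib

set_option autoImplicit false
universe u
open CAlg

namespace Groth.Agent.S19269

open IsLocalRing in
/-- Let R be a Noetherian local ring with maximal ideal 𝔪, M a finitely generated R-module and M^ its
𝔪-adic completion, a module over the 𝔪-adic completion R^ of R. Let N' be an R^-submodule of M^ and
N an R-submodule of M whose image in M^ is contained in N' and is dense in N' for the 𝔪-adic
topology, in the sense that for every y in N' and every k there is x in N with y ≡ x modulo the
kernel of M^ → M/𝔪^k M. Then N' equals the image of the completion of N under the map induced by the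
inclusion N → M (so N' is the completion of N), and N is the set of elements of M whose image in M^
lies in N'. -/
theorem result {R : Type u} [CommRing R]
    [IsNoetherianRing R] [IsLocalRing R] {M : Type u} [AddCommGroup M] [Module R M]
    [Module.Finite R M] (N : Submodule R M)
    (N' : Submodule (AdicCompletion (maximalIdeal R) R) (AdicCompletion (maximalIdeal R) M))
    (hle : ∀ x ∈ N, AdicCompletion.of (maximalIdeal R) M x ∈ N')
    (hdense : ∀ y ∈ N', ∀ k : ℕ, ∃ x ∈ N,
      AdicCompletion.eval (maximalIdeal R) M k y = Submodule.Quotient.mk x) :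
    (N'.restrictScalars R =
        (LinearMap.range (AdicCompletion.map (maximalIdeal R) N.subtype)).restrictScalars R) ∧
      (∀ x : M, x ∈ N ↔ AdicCompletion.of (maximalIdeal R) M x ∈ N') := by
  have hcompat : ∀ (y : AdicCompletion (maximalIdeal R) M) (m n : ℕ) (hmn : m ≤ n) (x : M),
      AdicCompletion.eval (maximalIdeal R) M n y = Submodule.Quotient.mk x →
      AdicCompletion.eval (maximalIdeal R) M m y = Submodule.Quotient.mk x := by
    intro y m n hmn x h
    rw [AdicCompletion.eval_apply] at h ⊢
    rw [← AdicCompletion.transitionMap_comp_eval_apply (maximalIdeal R) M hmn y, h]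
    rfl
  haveI : IsNoetherian R M := isNoetherian_of_isNoetherianRing_of_finite R M
  haveI : Module.Finite R N := Module.IsNoetherian.finite R N
  have hne : maximalIdeal R ≠ ⊤ := (IsLocalRing.maximalIdeal.isMaximal R).ne_top
  constructor
  · apply le_antisymm
    · intro y hy
      rw [Submodule.restrictScalars_mem] at hy ⊢
      obtain ⟨c, hc⟩ := Ideal.exists_pow_inf_eq_pow_smul (maximalIdeal R) N
      choose xs hxsN hxs using fun k => hdense y hy k
      have hdiff : ∀ k, xs (k + c) - xs (k + 1 + c) ∈ (maximalIdeal R) ^ k • N := by
        intro k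
        have h1 : xs (k + c) - xs (k + 1 + c)
            ∈ (maximalIdeal R) ^ (k + c) • (⊤ : Submodule R M) := by
          have e1 := hxs (k + c)
          have e2 := hcompat y (k + c) (k + 1 + c) (by omega) _ (hxs (k + 1 + c))
          rw [e1] at e2
          exact (Submodule.Quotient.eq _).mp e2
        have h2 : xs (k + c) - xs (k + 1 + c) ∈ N := N.sub_mem (hxsN _) (hxsN _)
        have h3 : xs (k + c) - xs (k + 1 + c)
            ∈ (maximalIdeal R) ^ (k + c) • (⊤ : Submodule R M) ⊓ N := ⟨h1, h2⟩
        rw [hc (k + c) (by omega), Nat.add_sub_cancel] at h3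
        exact Submodule.smul_mono (le_refl _) inf_le_right h3
      have hsub : ∀ (k : ℕ) (z : M), z ∈ (maximalIdeal R) ^ k • N → ∀ hz : z ∈ N,
          (⟨z, hz⟩ : N) ∈ (maximalIdeal R) ^ k • (⊤ : Submodule R N) := by
        intro k z hz hzN
        have h1 : Submodule.map N.subtype ((maximalIdeal R) ^ k • (⊤ : Submodule R N))
            = (maximalIdeal R) ^ k • N := by
          rw [Submodule.map_smul'', Submodule.map_subtype_top]
        rw [← h1] at hz
        obtain ⟨w, hw, hwz⟩ := hz
        have h2 : w = ⟨z, hzN⟩ := Subtype.ext hwz
        rw [← h2]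
        exact hw
      obtain ⟨a, ha⟩ : ∃ a : AdicCompletion.AdicCauchySequence (maximalIdeal R) N,
          ∀ k, ((a k : N) : M) = xs (k + c) := by
        refine ⟨AdicCompletion.AdicCauchySequence.mk (maximalIdeal R) N
          (fun k => ⟨xs (k + c), hxsN _⟩) ?_, fun k => rfl⟩
        intro k
        rw [SModEq.sub_mem]
        have h5 := hsub k _ (hdiff k) (N.sub_mem (hxsN (k + c)) (hxsN (k + 1 + c)))
        exact h5
      refine ⟨AdicCompletion.mk (maximalIdeal R) N a, ?_⟩
      apply AdicCompletion.ext
      intro k
      rw [AdicCompletion.map_mk]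
      have e := hcompat y k (k + c) (by omega) _ (hxs (k + c))
      rw [AdicCompletion.eval_apply] at e
      rw [e]
      show Submodule.mkQ _ (N.subtype (a k)) = _
      rw [Submodule.mkQ_apply, Submodule.subtype_apply, ha]
    · rintro z ⟨w, rfl⟩
      rw [Submodule.restrictScalars_mem]
      obtain ⟨t, rfl⟩ := AdicCompletion.ofTensorProduct_surjective_of_finite (maximalIdeal R) N w
      induction t using TensorProduct.induction_on with
      | zero => rw [map_zero, map_zero]; exact N'.zero_mem
      | tmul r n =>
        rw [AdicCompletion.ofTensorProduct_tmul, map_smul, AdicCompletion.map_of]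
        exact N'.smul_mem r (hle _ n.2)
      | add t s ht hs => rw [map_add, map_add]; exact N'.add_mem ht hs
  · intro x
    constructor
    · exact hle x
    · intro hx
      have hbot := Ideal.iInf_pow_smul_eq_bot_of_isLocalRing (M := M ⧸ N) (maximalIdeal R) hne
      have hmem : N.mkQ x ∈ (⨅ i : ℕ, (maximalIdeal R) ^ i • ⊤ : Submodule R (M ⧸ N)) := by
        rw [Submodule.mem_iInf]
        intro k
        obtain ⟨xk, hxk, hk⟩ := hdense _ hx k
        rw [AdicCompletion.eval_of, Submodule.mkQ_apply, Submodule.Quotient.eq] at hk
        have h3 : N.mkQ x = N.mkQ (x - xk) := by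
          rw [map_sub, Submodule.mkQ_apply N xk, (Submodule.Quotient.mk_eq_zero N).mpr hxk,
            sub_zero]
        rw [h3]
        have h4 : N.mkQ (x - xk) ∈ Submodule.map N.mkQ
            ((maximalIdeal R) ^ k • (⊤ : Submodule R M)) := Submodule.mem_map_of_mem hk
        rw [Submodule.map_smul''] at h4
        exact Submodule.smul_mono (le_refl _) le_top h4
      rw [hbot, Submodule.mem_bot, Submodule.mkQ_apply, Submodule.Quotient.mk_eq_zero] at hmem
      exact hmem

end Groth.Agent.S19269
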