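import Groth.Statements.S19272
import Mathlib
import Groth.Agent.Lib.helper9.WittFilLib

set_option autoImplicit false
universe u
open WittFil

namespace Groth.Agent.S19272

theorem h9_prod_dvd {A : Type*} [CommRing A] [IsDomain A] {r : ℕ} (x : Fin r → A)
    (hx : ∀ i, Prime (x i)) (hxa : ∀ i j, Associated (x i) (x j) → i = j) (t : A)
    (ht : ∀ i, x i ∣ t) (s : Finset (Fin r)) : (∏ i ∈ s, x i) ∣ t := by
  classical
  induction s using Finset.induction_on with
  | empty => rw [Finset.prod_empty]; exact one_dvd _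
  | insert k s hk ih =>
    rw [Finset.prod_insert hk]
    obtain ⟨t', ht'⟩ := ih
    have h1 : x k ∣ (∏ i ∈ s, x i) * t' := ht' ▸ ht k
    rcases (hx k).dvd_or_dvd h1 with h2 | h2
    · exfalso
      obtain ⟨i, hi, h3⟩ := (Prime.dvd_finsetProd_iff (hx k) _).mp h2
      have h4 : Associated (x k) (x i) := (hx k).associated_of_dvd (hx i) h3
      have h5 := hxa k i h4
      rw [h5] at hk
      exact hk hi
    · obtain ⟨t'', ht''⟩ := h2
      exact ⟨t'', by rw [ht', ht'']; ring⟩

/-- Let A be a unique factorisation domain of characteristic p, x_1, …, x_r pairwise non-associate prime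
elements of A, B = A[1/(x_1⋯x_r)] with u_i the unit of B defined by x_i, m ≥ 0, and n ∈ ℤ^r with n_i
< 0 for every i. Then every truncated p-typical Witt vector of length m over B lying in the filtered
piece cut out by ∏ u_i ^ n_i (every coordinate y_j has y_j ^ (p ^ (m−1−j)) · ∏ u_i ^ n_i in the
image of A) has all its coordinates in the image of the ideal (x_1⋯x_r)·A. (The published item,
stated for the filtered de Rham–Witt pieces in all degrees over a regular local ring, says only that
such vectors have all coordinates in A; this row states the divisibility of every coordinate by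
x_1⋯x_r that its proof establishes, in degree zero, for a unique factorisation domain in place of a
regular local ring.) -/
theorem result (p : ℕ) [Fact p.Prime] {A B : Type u} [CommRing A] [IsDomain A]
    [UniqueFactorizationMonoid A] [CharP A p] [CommRing B] [Algebra A B] {r : ℕ} (x : Fin r → A)
    (hx : ∀ i, Prime (x i)) (hxa : ∀ i j, Associated (x i) (x j) → i = j)
    [IsLocalization.Away (∏ i, x i) B] (u : Fin r → Bˣ)
    (hu : ∀ i, (u i : B) = algebraMap A B (x i)) (m : ℕ) (n : Fin r → ℤ) (hn : ∀ i, n i < 0)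
    (a : TruncatedWittVector p m B) (ha : a ∈ WittFil.fil p m (A := A) (WittFil.zmon u n))
    (j : Fin m) :
    ∃ b : A, TruncatedWittVector.coeff j a = algebraMap A B ((∏ i, x i) * b) := by
  haveI : CharP B p := H9WF.charP_B (p := p) x hx
  have hinj : Function.Injective (algebraMap A B) :=
    IsLocalization.injective B
      (powers_le_nonZeroDivisors_of_noZeroDivisors (H9WF.prod_ne_zero x hx))
  obtain ⟨a', rfl⟩ := WittVector.truncate_surjective p m B a
  have h1 := ha j
  rw [WittVector.coeff_truncate] at h1 ⊢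
  obtain ⟨a₀, ha₀⟩ := h1
  obtain ⟨k, hk⟩ : ∃ k : Fin r → ℕ, ∀ i, -n i = ((k i + 1 : ℕ) : ℤ) :=
    ⟨fun i => (-n i - 1).toNat, fun i => by
      have := hn i
      show -n i = (((-n i - 1).toNat + 1 : ℕ) : ℤ)
      omega⟩
  have hz : WittFil.zmon u (-n) = algebraMap A B (∏ i, x i ^ (k i + 1)) := by
    unfold WittFil.zmon
    rw [Units.coe_prod, map_prod]
    apply Finset.prod_congr rfl
    intro i _
    rw [Pi.neg_apply, hk i, zpow_natCast, Units.val_pow_eq_pow_val, hu, map_pow]
  have h2 : (a'.coeff j) ^ (p ^ (m - 1 - (j : ℕ)))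
      = algebraMap A B (a₀ * ∏ i, x i ^ (k i + 1)) := by
    rw [map_mul, ← hz, ha₀, mul_assoc, ← H9WF.zmon_add, add_neg_cancel]
    unfold WittFil.zmon
    simp
  obtain ⟨t, ht⟩ := H9WF.hclosed (p := p) x hx (a'.coeff j) (m - 1 - (j : ℕ)) ⟨_, h2.symm⟩
  have h3 : t ^ (p ^ (m - 1 - (j : ℕ))) = a₀ * ∏ i, x i ^ (k i + 1) := by
    apply hinj
    rw [map_pow, ht, h2]
  have h4 : ∀ i, x i ∣ t := by
    intro i
    apply (hx i).dvd_of_dvd_pow (n := p ^ (m - 1 - (j : ℕ)))
    rw [h3]
    apply Dvd.dvd.mul_left
    apply dvd_trans _ (Finset.dvd_prod_of_mem _ (Finset.mem_univ i))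
    exact dvd_pow_self _ (Nat.succ_ne_zero _)
  obtain ⟨b, hb⟩ := h9_prod_dvd x hx hxa t h4 Finset.univ
  exact ⟨b, by rw [← ht, hb]⟩

end Groth.Agent.S19272
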