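import Groth.Statements.S19326
import Mathlib
import Groth.Agent.Lib.helper4.Comod

set_option autoImplicit false
universe u
open TensorProduct
open GLin

namespace Groth.Agent.S19326

section wt
open Groth.Agent.Lib.helper4

theorem eigen_iff {k : Type u} [Field k] {A : Type u} [CommRing A] [Bialgebra k A]
    {V : Type u} [AddCommGroup V] [Module k V] [HopfRep.Comod k A V] (χ : A) (x : V) :
    x ∈ HopfRep.eigenspace k A V χ ↔ ∀ φ : A →ₗ[k] k, h4T φ x = φ χ • x := by
  constructor
  · intro hx φ
    have hx' : HopfRep.Comod.coact (k := k) (A := A) x = x ⊗ₜ[k] χ := hx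
    rw [h4T_apply, hx', LinearMap.lTensor_tmul, TensorProduct.rid_tmul]
  · intro h
    show HopfRep.Comod.coact (k := k) (A := A) x = x ⊗ₜ[k] χ
    rw [← sub_eq_zero]
    apply h4_tensor_eq_zero_of_forall_lTensor (N' := k) (Set.univ : Set (A →ₗ[k] k))
    · intro a ha
      exact (Module.forall_dual_apply_eq_zero_iff k a).1 (fun φ => ha φ (Set.mem_univ _))
    · intro φ _
      rw [map_sub, sub_eq_zero]
      apply (TensorProduct.rid k V).injective
      have h1 := h φ
      rw [h4T_apply] at h1
      rw [h1, LinearMap.lTensor_tmul, TensorProduct.rid_tmul]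

theorem h4T_sum' {k : Type u} [Field k] {C : Type u} [AddCommGroup C] [Module k C] [Coalgebra k C]
    {V : Type u} [AddCommGroup V] [Module k V] [HopfRep.Comod k C V]
    {ι : Type*} (s : Finset ι) (φ : ι → (C →ₗ[k] k)) (u : V) :
    h4T (∑ i ∈ s, φ i) u = ∑ i ∈ s, h4T (φ i) u := by
  classical
  induction s using Finset.induction_on with
  | empty => simp [h4T_apply]
  | insert i s hi ih =>
    rw [Finset.sum_insert hi, Finset.sum_insert hi, ← ih, h4T_apply, h4T_apply, h4T_apply,
      LinearMap.lTensor_add, LinearMap.add_apply, map_add]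

theorem h4T_smul' {k : Type u} [Field k] {C : Type u} [AddCommGroup C] [Module k C] [Coalgebra k C]
    {V : Type u} [AddCommGroup V] [Module k V] [HopfRep.Comod k C V]
    (c : k) (φ : C →ₗ[k] k) (u : V) : h4T (c • φ) u = c • h4T φ u := by
  rw [h4T_apply, h4T_apply, LinearMap.lTensor_smul, LinearMap.smul_apply, map_smul]

variable {k : Type u} [Field k] {M : Type u} [AddCommGroup M]

noncomputable def cf (a : M) : AddMonoidAlgebra k M →ₗ[k] k :=
  (Finsupp.lapply a) ∘ₗ (AddMonoidAlgebra.coeffLinearEquiv k).toLinearMap

theorem cf_single [DecidableEq M] (a b : M) (r : k) :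
    cf a (AddMonoidAlgebra.single b r : AddMonoidAlgebra k M) = if b = a then r else 0 := by
  show (AddMonoidAlgebra.single b r : AddMonoidAlgebra k M).coeff a = _
  exact Finsupp.single_apply

theorem conv_cf (ψ : AddMonoidAlgebra k M →ₗ[k] k) (a : M) :
    h4conv ψ (cf a) = ψ (AddMonoidAlgebra.single a 1) • cf a := by
  classical
  apply AddMonoidAlgebra.lhom_ext'
  intro b
  apply LinearMap.ext_ring
  simp only [LinearMap.comp_apply, AddMonoidAlgebra.lsingle_apply, h4conv, LinearEquiv.coe_coe,
    AddMonoidAlgebra.comul_single, CommSemiring.comul_apply, TensorProduct.map_tmul,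
    TensorProduct.lid_tmul, cf_single, LinearMap.smul_apply, smul_eq_mul]
  by_cases h : b = a
  · subst h; simp
  · simp [h]

theorem sum_cf [Fintype M] :
    ∑ a : M, cf (k := k) a = CoalgebraStruct.counit (R := k) (A := AddMonoidAlgebra k M) := by
  classical
  apply AddMonoidAlgebra.lhom_ext'
  intro b
  apply LinearMap.ext_ring
  simp only [LinearMap.comp_apply, AddMonoidAlgebra.lsingle_apply, LinearMap.sum_apply, cf_single,
    AddMonoidAlgebra.counit_single, CommSemiring.counit_apply]
  simp

variable {V : Type u} [AddCommGroup V] [Module k V] [HopfRep.Comod k (AddMonoidAlgebra k M) V]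

theorem decomp [Fintype M] (v : V) : ∑ a : M, h4T (cf (k := k) a) v = v := by
  rw [← h4T_sum', sum_cf, h4T_counit]

theorem wt_mem (a : M) (v : V) :
    h4T (cf (k := k) a) v ∈ HopfRep.eigenspace k (AddMonoidAlgebra k M) V
      (AddMonoidAlgebra.single a 1) := by
  rw [eigen_iff]
  intro ψ
  rw [h4T_comp, conv_cf, h4T_smul']

theorem coact_eq [Fintype M] (v : V) :
    HopfRep.Comod.coact (k := k) (A := AddMonoidAlgebra k M) v =
      ∑ a : M, h4T (cf (k := k) a) v ⊗ₜ[k] (AddMonoidAlgebra.single a 1 : AddMonoidAlgebra k M) := by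
  conv_lhs => rw [← decomp (k := k) (M := M) v]
  rw [map_sum]
  exact Finset.sum_congr rfl fun a _ => wt_mem a v

end wt

section main
open Groth.Agent.Lib.helper4

theorem main {k : Type u} [Field k] {M : Type u} [AddCommGroup M] [Finite M]
    {R : Type u} [CommRing R] [Algebra k R] [HopfRep.Comod k (AddMonoidAlgebra k M) R]
    (J : Ideal R) :
    (∀ f : R, LinearMap.rTensor (AddMonoidAlgebra k M) (Ideal.Quotient.mkₐ k J).toLinearMap
        (HopfRep.Comod.coact (k := k) (A := AddMonoidAlgebra k M) f) =
        (Ideal.Quotient.mk J f) ⊗ₜ[k] (1 : AddMonoidAlgebra k M)) ↔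
      Ideal.span (⋃ (a : M) (_ : a ≠ 0),
        (HopfRep.eigenspace k (AddMonoidAlgebra k M) R (AddMonoidAlgebra.single a 1) : Set R)) ≤ J := by
  classical
  haveI := Fintype.ofFinite M
  constructor
  · intro h
    rw [Ideal.span_le]
    intro f hf
    simp only [Set.mem_iUnion] at hf
    obtain ⟨a, ha, hfa⟩ := hf
    have hfa' : HopfRep.Comod.coact (k := k) (A := AddMonoidAlgebra k M) f =
        f ⊗ₜ[k] (AddMonoidAlgebra.single a 1 : AddMonoidAlgebra k M) := hfa
    have h1 := h f
    rw [hfa', LinearMap.rTensor_tmul] at h1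
    have h2 := congrArg (fun t => TensorProduct.rid k (R ⧸ J)
      (LinearMap.lTensor (R ⧸ J) (cf (k := k) a) t)) h1
    simp only [LinearMap.lTensor_tmul, TensorProduct.rid_tmul, AddMonoidAlgebra.one_def,
      cf_single, if_neg (Ne.symm ha), zero_smul] at h2
    rw [if_pos trivial, one_smul] at h2
    exact Ideal.Quotient.eq_zero_iff_mem.mp h2
  · intro hJ f
    have hmem : ∀ a : M, a ≠ 0 → h4T (cf (k := k) a) f ∈ J := by
      intro a ha
      apply hJ
      apply Ideal.subset_span
      simp only [Set.mem_iUnion]
      exact ⟨a, ha, wt_mem a f⟩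
    have hmk : ∀ a : M, a ≠ 0 → Ideal.Quotient.mk J (h4T (cf (k := k) a) f) = 0 :=
      fun a ha => Ideal.Quotient.eq_zero_iff_mem.mpr (hmem a ha)
    have hf0 : Ideal.Quotient.mk J f = Ideal.Quotient.mk J (h4T (cf (k := k) (0 : M)) f) := by
      conv_lhs => rw [← decomp (k := k) (M := M) f]
      rw [map_sum]
      exact Finset.sum_eq_single 0 (fun a _ ha => hmk a ha) (fun h => absurd (Finset.mem_univ _) h)
    rw [coact_eq f, map_sum]
    rw [Finset.sum_eq_single (0 : M)]
    · rw [LinearMap.rTensor_tmul, hf0, AddMonoidAlgebra.one_def]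
      rfl
    · intro a _ ha
      rw [LinearMap.rTensor_tmul]
      show Ideal.Quotient.mk J (h4T (cf (k := k) a) f) ⊗ₜ[k] _ = 0
      rw [hmk a ha, TensorProduct.zero_tmul]
    · intro h
      exact absurd (Finset.mem_univ _) h

end main

/-- Let k be a field, M a finite abelian group and D = Spec k[M] the finite diagonalizable group scheme
it defines, acting on an affine k-scheme U = Spec R through a multiplicative coaction R → R ⊗ k[M];
write R_a for the weight space of a ∈ M (elements with coaction f ⊗ a). For an ideal J of R the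
induced action of D on the closed subscheme V(J) is trivial, meaning that the coaction followed by
reduction modulo J equals f ↦ (f mod J) ⊗ 1, exactly when J contains the ideal generated by the
weight spaces R_a for a ≠ 0; in other words that ideal defines the largest closed subscheme of U on
which D acts trivially. (The printed setting has U smooth, which plays no role here and is not
assumed; the further assertion that the construction commutes with flat base change on U/D is not
part of this statement.) -/
theorem result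
    {k : Type u} [Field k] {M : Type u} [AddCommGroup M] [Finite M]
    {R : Type u} [CommRing R] [Algebra k R] [HopfRep.Comod k (AddMonoidAlgebra k M) R]
    [GLin.IsCoactAlg k (AddMonoidAlgebra k M) R] (J : Ideal R) :
    (∀ f : R, LinearMap.rTensor (AddMonoidAlgebra k M) (Ideal.Quotient.mkₐ k J).toLinearMap
        (HopfRep.Comod.coact (k := k) (A := AddMonoidAlgebra k M) f) =
        (Ideal.Quotient.mk J f) ⊗ₜ[k] (1 : AddMonoidAlgebra k M)) ↔
      Ideal.span (⋃ (a : M) (_ : a ≠ 0),
        (HopfRep.eigenspace k (AddMonoidAlgebra k M) R (AddMonoidAlgebra.single a 1) : Set R)) ≤ J := by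
  exact main J

end Groth.Agent.S19326
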