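import Groth.Statements.S19338
import Mathlib

set_option autoImplicit false
universe w v u
open CategoryTheory
open ModPair

namespace Groth.Agent.S19338

/-- Let C be a category and S a class of morphisms which contains the identities, is closed under
composition, admits a right calculus of fractions, and consists of monomorphisms. Then the sieves
containing a morphism of S are the covering sieves of a Grothendieck topology on C, and for every
such topology J a presheaf of types F on C is a J-sheaf if and only if it is S-local, i.e. F sends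
every morphism of S to a bijection. -/
theorem result {C : Type u} [Category.{v} C]
    (S : MorphismProperty C) [S.HasRightCalculusOfFractions]
    (hmono : ∀ ⦃X Y : C⦄ (s : X ⟶ Y), S s → Mono s) :
    (∃ J : GrothendieckTopology C, ∀ (X : C) (T : Sieve X),
        T ∈ J X ↔ ∃ (Y : C) (s : Y ⟶ X), S s ∧ T s) ∧
      ∀ J : GrothendieckTopology C, (∀ (X : C) (T : Sieve X),
          T ∈ J X ↔ ∃ (Y : C) (s : Y ⟶ X), S s ∧ T s) →
        ∀ F : Cᵒᵖ ⥤ Type w,
          Presheaf.IsSheaf J F ↔ ∀ ⦃X Y : C⦄ (s : X ⟶ Y), S s → IsIso (F.map s.op) := by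
  have ore : ∀ {X Y Z : C} (s : Y ⟶ X) (_ : S s) (f : Z ⟶ X),
      ∃ (W : C) (s' : W ⟶ Z) (f' : W ⟶ Y), S s' ∧ s' ≫ f = f' ≫ s := by
    intro X Y Z s hs f
    obtain ⟨ψ, hψ⟩ := MorphismProperty.HasRightCalculusOfFractions.exists_rightFraction
      (MorphismProperty.LeftFraction.mk f s hs)
    exact ⟨ψ.X', ψ.s, ψ.f, ψ.hs, hψ⟩
  refine ⟨⟨{ sieves := fun X => {T | ∃ (Y : C) (s : Y ⟶ X), S s ∧ T s}
             top_mem' := fun X => ⟨X, 𝟙 X, S.id_mem X, trivial⟩
             pullback_stable' := ?_
             transitive' := ?_ }, fun X T => Iff.rfl⟩, ?_⟩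
  · rintro X Y T f ⟨Z, s, hs, hTs⟩
    obtain ⟨W, s', f', hs', hcomm⟩ := ore s hs f
    refine ⟨W, s', hs', ?_⟩
    show T (s' ≫ f)
    rw [hcomm]
    exact T.downward_closed hTs f'
  · rintro X T ⟨Z, s, hs, hTs⟩ R hR
    obtain ⟨W, s', hs', hRs'⟩ := hR hTs
    exact ⟨W, s' ≫ s, S.comp_mem _ _ hs' hs, hRs'⟩
  · intro J hJ F
    rw [isSheaf_iff_isSheaf_of_type]
    constructor
    · intro hF X Y s hs
      haveI := hmono s hs
      have hcov : Sieve.generate (Presieve.singleton s) ∈ J Y :=
        (hJ Y _).mpr ⟨X, s, hs, ⟨X, 𝟙 X, s, Presieve.singleton_self s, Category.id_comp s⟩⟩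
      have hsh : Presieve.IsSheafFor F (Presieve.singleton s) :=
        (Presieve.isSheafFor_iff_generate _).mpr (hF _ hcov)
      rw [isIso_iff_bijective]
      constructor
      · intro b b' hbb'
        obtain ⟨x, hxdef⟩ : ∃ x : Presieve.FamilyOfElements F (Presieve.singleton s),
            ∀ ⦃Y' : C⦄ (f : Y' ⟶ Y) (hf : Presieve.singleton s f), x f hf = F.map f.op b :=
          ⟨fun Y' f _ => F.map f.op b, fun _ _ _ => rfl⟩
        have hx : x.Compatible := by
          intro Y₁ Y₂ Z g₁ g₂ f₁ f₂ h₁ h₂ hcomm
          rw [hxdef, hxdef, ← FunctorToTypes.map_comp_apply, ← FunctorToTypes.map_comp_apply,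
            ← op_comp, ← op_comp, hcomm]
        obtain ⟨t, _, huniq⟩ := hsh x hx
        have h1 : x.IsAmalgamation b := fun Y' f hf => (hxdef f hf).symm
        have h2 : x.IsAmalgamation b' := by
          intro Y' f hf
          rw [hxdef]
          cases hf
          exact hbb'.symm
        rw [huniq b h1, huniq b' h2]
      · intro a
        obtain ⟨x, hxdef⟩ : ∃ x : Presieve.FamilyOfElements F (Presieve.singleton s),
            x s Presieve.singleton.mk = a :=
          ⟨fun Y' f hf => by cases hf; exact a, rfl⟩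
        have hx : x.Compatible := by
          intro Y₁ Y₂ Z g₁ g₂ f₁ f₂ h₁ h₂ hcomm
          cases h₁
          cases h₂
          have e : g₁ = g₂ := (cancel_mono s).mp hcomm
          rw [e]
        obtain ⟨t, ht, _⟩ := hsh x hx
        exact ⟨t, (ht s Presieve.singleton.mk).trans hxdef⟩
    · intro hF X T hT
      obtain ⟨Y, s, hs, hTs⟩ := (hJ X T).mp hT
      have hbij : Function.Bijective (F.map s.op) := (isIso_iff_bijective _).mp (hF s hs)
      intro x hx
      obtain ⟨b, hb⟩ := hbij.2 (x s hTs)
      have hamal : x.IsAmalgamation b := by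
        intro Z g hg
        obtain ⟨W, s', g', hs', hcomm⟩ := ore s hs g
        have hinj : Function.Injective (F.map s'.op) :=
          ((isIso_iff_bijective _).mp (hF s' hs')).1
        apply hinj
        have e1 : F.map s'.op (F.map g.op b) = F.map g'.op (x s hTs) := by
          rw [← hb, ← FunctorToTypes.map_comp_apply, ← FunctorToTypes.map_comp_apply,
            ← op_comp, ← op_comp, hcomm]
        rw [e1]
        exact hx g' s' hTs hg hcomm.symm
      refine ⟨b, hamal, fun b' hb' => ?_⟩
      apply hbij.1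
      rw [hb, hb' s hTs]

end Groth.Agent.S19338
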