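import Groth.Statements.S19340
import Mathlib

set_option autoImplicit false
universe v v' u u'
open CategoryTheory
open ModPair

namespace Groth.Agent.S19340

/-- Let C be a category, S a class of morphisms of C containing the identities, closed under composition
and admitting a right calculus of fractions, and L : C ⥤ D a localization functor for S. Then for
every object X of C the comma category of L under X, whose objects are pairs (Y, L(X) ⟶ L(Y)) and
whose morphisms are morphisms Y ⟶ Y' of C compatible with the structure maps, is cofiltered. The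
published statement calls this category filtered; its proof verifies, and this row states,
cofilteredness. -/
theorem result {C : Type u}
    [Category.{v} C] {D : Type u'} [Category.{v'} D] (S : MorphismProperty C)
    [S.HasRightCalculusOfFractions] (L : C ⥤ D) [L.IsLocalization S] (X : C) :
    IsCofiltered (StructuredArrow (L.obj X) L) := by
  have hL : S.IsInvertedBy L := Localization.inverts L S
  have hne : Nonempty (StructuredArrow (L.obj X) L) :=
    ⟨StructuredArrow.mk (Y := X) (𝟙 (L.obj X))⟩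
  have hobjs : ∀ A₁ A₂ : StructuredArrow (L.obj X) L,
      ∃ (W : StructuredArrow (L.obj X) L) (_ : W ⟶ A₁) (_ : W ⟶ A₂), True := by
    intro A₁ A₂
    obtain ⟨φ₁, h₁⟩ := Localization.exists_rightFraction L S A₁.hom
    obtain ⟨φ₂, h₂⟩ := Localization.exists_rightFraction L S A₂.hom
    obtain ⟨ψ, hψ⟩ := MorphismProperty.HasRightCalculusOfFractions.exists_rightFraction
      (MorphismProperty.LeftFraction.mk φ₁.s φ₂.s φ₂.hs)
    have hψ' : ψ.s ≫ φ₁.s = ψ.f ≫ φ₂.s := hψ
    have hs : S (ψ.s ≫ φ₁.s) := S.comp_mem _ _ ψ.hs φ₁.hs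
    haveI : IsIso (L.map (ψ.s ≫ φ₁.s)) := hL _ hs
    have w₁ : inv (L.map (ψ.s ≫ φ₁.s)) ≫ L.map (ψ.s ≫ φ₁.f) = A₁.hom := by
      rw [IsIso.inv_comp_eq, h₁, L.map_comp, L.map_comp,
        Category.assoc, MorphismProperty.RightFraction.map_s_comp_map]
    have w₂ : inv (L.map (ψ.s ≫ φ₁.s)) ≫ L.map (ψ.f ≫ φ₂.f) = A₂.hom := by
      have e : L.map (ψ.s ≫ φ₁.s) = L.map ψ.f ≫ L.map φ₂.s := by
        rw [hψ', L.map_comp]
      rw [IsIso.inv_comp_eq, h₂, e, L.map_comp,
        Category.assoc, MorphismProperty.RightFraction.map_s_comp_map]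
    exact ⟨StructuredArrow.mk (inv (L.map (ψ.s ≫ φ₁.s))),
      StructuredArrow.homMk (ψ.s ≫ φ₁.f) w₁, StructuredArrow.homMk (ψ.f ≫ φ₂.f) w₂, trivial⟩
  have hmaps : ∀ (A₁ A₂ : StructuredArrow (L.obj X) L) (g g' : A₁ ⟶ A₂),
      ∃ (W : StructuredArrow (L.obj X) L) (h : W ⟶ A₁), h ≫ g = h ≫ g' := by
    intro A₁ A₂ g g'
    obtain ⟨φ₁, h₁⟩ := Localization.exists_rightFraction L S A₁.hom
    have e : L.map (φ₁.f ≫ g.right) = L.map (φ₁.f ≫ g'.right) := by
      have w := StructuredArrow.w g
      have w' := StructuredArrow.w g'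
      have e1 : L.map φ₁.f = L.map φ₁.s ≫ A₁.hom := by
        rw [h₁, MorphismProperty.RightFraction.map_s_comp_map]
      rw [L.map_comp, L.map_comp, e1, Category.assoc, Category.assoc, w, w']
    obtain ⟨Z, t, ht, hteq⟩ := (MorphismProperty.map_eq_iff_precomp L S _ _).mp e
    have hs : S (t ≫ φ₁.s) := S.comp_mem _ _ ht φ₁.hs
    haveI : IsIso (L.map (t ≫ φ₁.s)) := hL _ hs
    have w₁ : inv (L.map (t ≫ φ₁.s)) ≫ L.map (t ≫ φ₁.f) = A₁.hom := by
      rw [IsIso.inv_comp_eq, h₁, L.map_comp, L.map_comp,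
        Category.assoc, MorphismProperty.RightFraction.map_s_comp_map]
    refine ⟨StructuredArrow.mk (inv (L.map (t ≫ φ₁.s))),
      StructuredArrow.homMk (t ≫ φ₁.f) w₁, ?_⟩
    ext
    simp only [StructuredArrow.comp_right, StructuredArrow.homMk_right, Category.assoc]
    exact hteq
  exact { cone_objs := hobjs, cone_maps := fun A₁ A₂ g g' => hmaps A₁ A₂ g g', nonempty := hne }

end Groth.Agent.S19340
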