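import Groth.Statements.S19348
import Mathlib

set_option autoImplicit false
universe u
open RigCh

namespace Groth.Agent.S19348

/-- Let p be a prime and m a natural number, P a commutative ring complete and separated for the p-adic
topology, and I an ideal of P with a divided power structure of level m, that is a sub-ideal J of I
endowed with divided powers such that x ^ (p ^ m) and p * x lie in J for all x in I. Then an element
of P whose class in P / I is invertible is invertible in P. (The source states this for a lift of a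
unit to the p-adically completed level-m divided power envelope of a closed immersion; the statement
here keeps exactly what its argument uses: completeness for p and the level-m divided powers on the
kernel.) -/
theorem result (p : ℕ) [Fact p.Prime] (m : ℕ)
    (P : Type u) [CommRing P] [IsAdicComplete (Ideal.span {(p : P)}) P]
    (I J : Ideal P) (hJ : DividedPowers J) (hJI : J ≤ I)
    (hpow : ∀ x ∈ I, x ^ (p ^ m) ∈ J) (hmul : ∀ x ∈ I, (p : P) * x ∈ J)
    (u : P) (hu : IsUnit (Ideal.Quotient.mk I u)) : IsUnit u := by
  have hp : p.Prime := Fact.out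
  obtain ⟨w, hw⟩ := isUnit_iff_exists_inv.mp hu
  obtain ⟨v, rfl⟩ := Ideal.Quotient.mk_surjective w
  obtain ⟨x, hx⟩ : ∃ x, x = u * v - 1 := ⟨_, rfl⟩
  have hxI : x ∈ I := by
    rw [hx, ← Ideal.Quotient.eq, map_mul, map_one]; exact hw
  have hyJ : x ^ (p ^ m) ∈ J := hpow x hxI
  have hyp : (x ^ (p ^ m)) ^ p ∈ Ideal.span {(p : P)} := by
    rw [← hJ.factorial_mul_dpow_eq_pow hyJ]
    have hfac : (p.factorial : P) = (p : P) * ((p - 1).factorial : P) := by
      rw [← Nat.mul_factorial_pred hp.ne_zero]; push_cast; rfl
    rw [hfac, mul_assoc]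
    exact Ideal.mul_mem_right _ _ (Ideal.subset_span (Set.mem_singleton _))
  have hnil : IsNilpotent (Ideal.Quotient.mk (Ideal.span {(p : P)}) x) := by
    refine ⟨p ^ m * p, ?_⟩
    rw [← map_pow, pow_mul, Ideal.Quotient.eq_zero_iff_mem]
    exact hyp
  have hunit : IsUnit (Ideal.Quotient.mk (Ideal.span {(p : P)}) (u * v)) := by
    have h3 : u * v = 1 + x := by rw [hx]; ring
    rw [h3, map_add, map_one]
    exact hnil.isUnit_one_add
  obtain ⟨w', hw'⟩ := isUnit_iff_exists_inv.mp hunit
  obtain ⟨t, rfl⟩ := Ideal.Quotient.mk_surjective w'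
  have hz : u * v * t - 1 ∈ Ideal.span {(p : P)} := by
    rw [← Ideal.Quotient.eq, map_mul, map_one]; exact hw'
  have hjac : u * v * t - 1 ∈ (⊥ : Ideal P).jacobson :=
    IsAdicComplete.le_jacobson_bot (Ideal.span {(p : P)}) hz
  have h1 := (Ideal.mem_jacobson_bot.mp hjac) 1
  have h2 : (u * v * t - 1) * 1 + 1 = u * (v * t) := by ring
  rw [h2] at h1
  exact isUnit_of_mul_isUnit_left h1

end Groth.Agent.S19348
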