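import Groth.Statements.S19356
import Mathlib

set_option autoImplicit false
universe u
open AbVar

namespace Groth.Agent.S19356

theorem h9_star_mem (R : Type*) [Ring R] [Algebra ℚ R] [Module.Finite ℚ R] [StarRing R]
    [StarModule ℚ R] (σ : R →ₗ[ℚ] ℚ) (hpos : ∀ x : R, x ≠ 0 → 0 < σ (x * star x))
    (α : R) (q : ℚ) (hα : α * star α = algebraMap ℚ R q) :
    star α ∈ Algebra.adjoin ℚ ({α} : Set R) := by
  classical
  by_cases hα0 : α = 0
  · rw [hα0, star_zero]
    exact Subalgebra.zero_mem _
  haveI : Nontrivial R := ⟨⟨α, 0, hα0⟩⟩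
  have h1pos : 0 < σ 1 := by
    have h := hpos 1 one_ne_zero
    rwa [star_one, mul_one] at h
  have hqpos : 0 < q := by
    have h2 := hpos α hα0
    rw [hα, Algebra.algebraMap_eq_smul_one, map_smul, smul_eq_mul] at h2
    exact (pos_iff_pos_of_mul_pos h2).mpr h1pos
  have hq0 : q ≠ 0 := hqpos.ne'
  obtain ⟨β, hβ⟩ : ∃ β : R, β = (q⁻¹ : ℚ) • star α := ⟨_, rfl⟩
  have hαβ : α * β = 1 := by
    rw [hβ, mul_smul_comm, hα, Algebra.algebraMap_eq_smul_one, smul_smul, inv_mul_cancel₀ hq0,
      one_smul]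
  have hβα : β * α = 1 := by
    have hsurj : Function.Surjective (LinearMap.mulLeft ℚ α) := fun x =>
      ⟨β * x, by rw [LinearMap.mulLeft_apply, ← mul_assoc, hαβ, one_mul]⟩
    have hinj := LinearMap.injective_iff_surjective.mpr hsurj
    apply hinj
    rw [LinearMap.mulLeft_apply, LinearMap.mulLeft_apply, ← mul_assoc, hαβ, one_mul, mul_one]
  have hLinj : Function.Injective (LinearMap.mulLeft ℚ
      (⟨α, Algebra.self_mem_adjoin_singleton ℚ α⟩ : Algebra.adjoin ℚ ({α} : Set R))) := by
    intro e e' h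
    rw [LinearMap.mulLeft_apply, LinearMap.mulLeft_apply] at h
    have h' : α * (e : R) = α * (e' : R) := congrArg Subtype.val h
    apply Subtype.ext
    calc (e : R) = (β * α) * e := by rw [hβα, one_mul]
      _ = β * (α * e) := mul_assoc _ _ _
      _ = β * (α * e') := by rw [h']
      _ = (β * α) * e' := (mul_assoc _ _ _).symm
      _ = e' := by rw [hβα, one_mul]
  obtain ⟨γ, hγ⟩ := LinearMap.injective_iff_surjective.mp hLinj 1
  rw [LinearMap.mulLeft_apply] at hγ
  have hγ' : α * (γ : R) = 1 := congrArg Subtype.val hγ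
  have hγβ : (γ : R) = β := by
    calc (γ : R) = (β * α) * γ := by rw [hβα, one_mul]
      _ = β * (α * γ) := mul_assoc _ _ _
      _ = β := by rw [hγ', mul_one]
  have hβmem : β ∈ Algebra.adjoin ℚ ({α} : Set R) := hγβ ▸ γ.2
  have hstar : star α = q • β := by
    rw [hβ, smul_smul, mul_inv_cancel₀ hq0, one_smul]
  rw [hstar]
  exact Subalgebra.smul_mem _ hβmem q

theorem h9_conj (R : Type*) [Ring R] [Algebra ℚ R] [Module.Finite ℚ R] [StarRing R]
    [StarModule ℚ R] (σ : R →ₗ[ℚ] ℚ) (hpos : ∀ x : R, x ≠ 0 → 0 < σ (x * star x))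
    (E : Subalgebra ℚ R) (hcomm : ∀ e f : E, e * f = f * e) (a a' : E)
    (haa' : (a' : R) = star (a : R)) (ρ : E →ₐ[ℚ] ℂ) :
    ρ a' = starRingEnd ℂ (ρ a) := by
  classical
  have hcommR : ∀ e f : E, (e : R) * (f : R) = (f : R) * (e : R) := fun e f =>
    congrArg Subtype.val (hcomm e f)
  obtain ⟨B, hB⟩ : ∃ B : LinearMap.BilinForm ℚ E,
      ∀ e f : E, B e f = σ ((e : R) * star (f : R)) + σ ((f : R) * star (e : R)) := by
    refine ⟨LinearMap.mk₂ ℚ (fun e f : E => σ ((e : R) * star (f : R)) + σ ((f : R) * star (e : R)))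
      ?_ ?_ ?_ ?_, fun e f => rfl⟩
    · intro e₁ e₂ f
      simp only [Subalgebra.coe_add, add_mul, mul_add, star_add, map_add]
      ring
    · intro c e f
      simp only [Subalgebra.coe_smul, smul_mul_assoc, mul_smul_comm, star_smul, star_trivial,
        map_smul, smul_eq_mul]
      ring
    · intro e f₁ f₂
      simp only [Subalgebra.coe_add, add_mul, mul_add, star_add, map_add]
      ring
    · intro c e f
      simp only [Subalgebra.coe_smul, smul_mul_assoc, mul_smul_comm, star_smul, star_trivial,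
        map_smul, smul_eq_mul]
      ring
  have hBsymm : ∀ e f : E, B e f = B f e := by
    intro e f
    rw [hB, hB, add_comm]
  have hBpos : ∀ e : E, e ≠ 0 → 0 < B e e := by
    intro e he
    rw [hB]
    have he' : (e : R) ≠ 0 := fun h => he (Subtype.ext h)
    have := hpos _ he'
    linarith
  have hBadj : ∀ e f : E, B (a * e) f = B e (a' * f) := by
    intro e f
    rw [hB, hB, Subalgebra.coe_mul, Subalgebra.coe_mul, haa']
    have c1 : (a : R) * (e : R) = (e : R) * (a : R) := hcommR a e
    have c2 : star (a : R) * (f : R) = (f : R) * star (a : R) := by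
      have := hcommR a' f
      rwa [haa'] at this
    have c2' : (a : R) * star (f : R) = star (f : R) * (a : R) := by
      have h := congrArg star c2
      rw [star_mul, star_mul, star_star] at h
      exact h.symm
    have c3 : star (e : R) * star (a : R) = star (a : R) * star (e : R) := by
      have h := congrArg star c1
      rw [star_mul, star_mul] at h
      exact h
    have t1 : (a : R) * (e : R) * star (f : R) = (e : R) * star (star (a : R) * (f : R)) := by
      rw [star_mul, star_star, c1, mul_assoc, c2', ← mul_assoc]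
    have t2 : (f : R) * star ((a : R) * (e : R)) = star (a : R) * (f : R) * star (e : R) := by
      rw [star_mul, c3, ← mul_assoc, ← c2]
    rw [t1, t2]
  have hBsymm' : LinearMap.IsSymm B := LinearMap.isSymm_def.mpr (fun x y => hBsymm x y)
  obtain ⟨v, hv⟩ := LinearMap.BilinForm.exists_orthogonal_basis hBsymm'
  rw [LinearMap.isOrthoᵢ_def] at hv
  have hg : ∀ k, 0 < B (v k) (v k) := fun k => hBpos _ (v.ne_zero k)
  have hrepr : ∀ (x : E) (l), B x (v l) = v.repr x l * B (v l) (v l) := by
    intro x l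
    conv_lhs => rw [← v.sum_repr x]
    rw [map_sum, LinearMap.sum_apply, Finset.sum_eq_single l]
    · rw [map_smul, LinearMap.smul_apply, smul_eq_mul]
    · intro k _ hkl
      rw [map_smul, LinearMap.smul_apply, hv k l hkl, smul_zero]
    · intro h
      exact absurd (Finset.mem_univ l) h
  have hexp : ∀ x : E, ρ x = ∑ l, ((B x (v l) / B (v l) (v l) : ℚ) : ℂ) * ρ (v l) := by
    intro x
    conv_lhs => rw [← v.sum_repr x]
    rw [map_sum]
    apply Finset.sum_congr rfl
    intro l _
    rw [map_smul, Rat.smul_def, hrepr x l, mul_div_assoc, div_self (hg l).ne', mul_one]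
  obtain ⟨H, hH⟩ : ∃ H : ℂ, H = ∑ k, ((1 / B (v k) (v k) : ℚ) : ℂ)
      * (starRingEnd ℂ (ρ (v k)) * ρ (v k)) := ⟨_, rfl⟩
  have hHne : H ≠ 0 := by
    have hHr : H = ((∑ k, (1 / (B (v k) (v k) : ℝ)) * Complex.normSq (ρ (v k)) : ℝ) : ℂ) := by
      rw [hH]
      push_cast
      apply Finset.sum_congr rfl
      intro k _
      rw [Complex.normSq_eq_conj_mul_self]
    rw [hHr, Complex.ofReal_ne_zero]
    apply ne_of_gt
    have hex : ∃ k, ρ (v k) ≠ 0 := by
      by_contra hcon
      push Not at hcon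
      have h1 := hexp 1
      rw [map_one] at h1
      rw [Finset.sum_eq_zero (fun l _ => by rw [hcon l, mul_zero])] at h1
      exact one_ne_zero h1
    obtain ⟨k₀, hk₀⟩ := hex
    apply Finset.sum_pos'
    · intro k _
      have : (0 : ℝ) < (B (v k) (v k) : ℝ) := by exact_mod_cast hg k
      exact mul_nonneg (by positivity) (Complex.normSq_nonneg _)
    · refine ⟨k₀, Finset.mem_univ _, ?_⟩
      have : (0 : ℝ) < (B (v k₀) (v k₀) : ℝ) := by exact_mod_cast hg k₀
      exact mul_pos (by positivity) (Complex.normSq_pos.mpr hk₀)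
  have e1 : ρ a * H = ∑ k, ∑ l, ((1 / B (v k) (v k) : ℚ) : ℂ) * starRingEnd ℂ (ρ (v k))
      * (((B (a * v k) (v l) / B (v l) (v l) : ℚ) : ℂ) * ρ (v l)) := by
    rw [hH, Finset.mul_sum]
    apply Finset.sum_congr rfl
    intro k _
    rw [← Finset.mul_sum, ← hexp (a * v k), map_mul]
    ring
  have e2 : starRingEnd ℂ (ρ a') * H = ∑ l, ∑ k, ((1 / B (v l) (v l) : ℚ) : ℂ)
      * (((B (a' * v l) (v k) / B (v k) (v k) : ℚ) : ℂ) * starRingEnd ℂ (ρ (v k))) * ρ (v l) := by
    rw [hH, Finset.mul_sum]
    apply Finset.sum_congr rfl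
    intro l _
    rw [← Finset.sum_mul, ← Finset.mul_sum]
    have h3 : ∑ k, (((B (a' * v l) (v k) / B (v k) (v k) : ℚ) : ℂ) * starRingEnd ℂ (ρ (v k)))
        = starRingEnd ℂ (ρ (a' * v l)) := by
      rw [hexp (a' * v l), map_sum]
      apply Finset.sum_congr rfl
      intro k _
      rw [map_mul (starRingEnd ℂ), map_ratCast (starRingEnd ℂ)]
    rw [h3, map_mul, map_mul]
    ring
  have e3 : ρ a * H = starRingEnd ℂ (ρ a') * H := by
    rw [e1, e2, Finset.sum_comm]
    apply Finset.sum_congr rfl
    intro l _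
    apply Finset.sum_congr rfl
    intro k _
    have h4 : B (a' * v l) (v k) = B (a * v k) (v l) := by
      rw [hBsymm, ← hBadj]
    rw [h4]
    push_cast
    ring
  have e4 : ρ a = starRingEnd ℂ (ρ a') := mul_right_cancel₀ hHne e3
  rw [e4, Complex.conj_conj]

/-- Let R be a finite-dimensional ℚ-algebra with a ℚ-linear involution x ↦ x† (an anti-automorphism of
order two) and a ℚ-linear functional σ with σ(x x†) > 0 for every x ≠ 0; this is the positivity of
the involution, σ being the trace of R over ℚ in the case of the endomorphism algebra of an abelian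
variety with a Rosati involution, and the trace on a cohomology group in the case of an algebra of
correspondences with the adjoint for a Weil form. Let α ∈ R with α α† = q for a rational number q.
Then α† lies in the subalgebra ℚ[α], and for every ℚ-algebra homomorphism ρ : ℚ[α] → ℂ one has ρ(α†)
= the complex conjugate of ρ(α) and |ρ(α)|² = q. (The published statement is for the endomorphism
algebra of an abelian variety with a Rosati involution, with σ its trace over ℚ and q an integer;
the form given here, for an arbitrary ℚ-linear functional σ positive on every x x† with x ≠ 0 and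
rational q, is what its proof establishes.) -/
theorem result (R : Type u) [Ring R] [Algebra ℚ R]
    [Module.Finite ℚ R] [StarRing R] [StarModule ℚ R]
    (σ : R →ₗ[ℚ] ℚ) (hpos : ∀ x : R, x ≠ 0 → 0 < σ (x * star x))
    (α : R) (q : ℚ) (hα : α * star α = algebraMap ℚ R q) :
    ∃ hmem : star α ∈ Algebra.adjoin ℚ ({α} : Set R),
      ∀ ρ : Algebra.adjoin ℚ ({α} : Set R) →ₐ[ℚ] ℂ,
        ρ ⟨star α, hmem⟩ = starRingEnd ℂ (ρ ⟨α, Algebra.self_mem_adjoin_singleton ℚ α⟩) ∧
          ‖ρ ⟨α, Algebra.self_mem_adjoin_singleton ℚ α⟩‖ ^ 2 = (q : ℝ) := by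
  have hmem := h9_star_mem R σ hpos α q hα
  refine ⟨hmem, fun ρ => ?_⟩
  have hcomm : ∀ e f : Algebra.adjoin ℚ ({α} : Set R), e * f = f * e := by
    intro e f
    apply Subtype.ext
    rw [Subalgebra.coe_mul, Subalgebra.coe_mul]
    have h1 : Commute α (e : R) := Algebra.commute_of_mem_adjoin_self e.2
    exact (Algebra.commute_of_mem_adjoin_singleton_of_commute f.2 h1.symm).eq
  have key := h9_conj R σ hpos (Algebra.adjoin ℚ ({α} : Set R)) hcomm
    ⟨α, Algebra.self_mem_adjoin_singleton ℚ α⟩ ⟨star α, hmem⟩ rfl ρ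
  refine ⟨key, ?_⟩
  have h2 : ρ ⟨α, Algebra.self_mem_adjoin_singleton ℚ α⟩ * ρ ⟨star α, hmem⟩ = (q : ℂ) := by
    rw [← map_mul]
    have h3 : (⟨α, Algebra.self_mem_adjoin_singleton ℚ α⟩ : Algebra.adjoin ℚ ({α} : Set R))
        * ⟨star α, hmem⟩ = algebraMap ℚ _ q := by
      apply Subtype.ext
      rw [Subalgebra.coe_mul, Subalgebra.coe_algebraMap]
      exact hα
    rw [h3, AlgHom.commutes]
    rfl
  rw [key, Complex.mul_conj] at h2
  rw [Complex.sq_norm]
  have h4 : ((Complex.normSq (ρ ⟨α, Algebra.self_mem_adjoin_singleton ℚ α⟩) : ℝ) : ℂ)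
      = (((q : ℝ)) : ℂ) := by
    rw [h2, Complex.ofReal_ratCast]
  exact Complex.ofReal_injective h4

end Groth.Agent.S19356
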