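import Groth.Statements.S19380
import Mathlib

set_option autoImplicit false
universe u
open CAlg

namespace Groth.Agent.S19380

/-- Let L be a commutative ring, σ a ring automorphism of L of finite order dividing d (σ^d = 1), and C
an r × r matrix over L. The reverse characteristic polynomial det(1 − T·N) of the twisted product N
= C·σ(C)·σ²(C)⋯σ^(d−1)(C), with σ applied to the entries, is fixed by σ acting on coefficients. (In
the source this is phrased for the fibre at a closed point x of degree d of a convergent F-module
with Frobenius matrix C: the d-th iterate of the semilinear Frobenius of the fibre is the linear map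
with matrix N, so its characteristic polynomial has coefficients in the subfield fixed by the
Frobenius of K(x), namely K, and likewise with the valuation ring in place of K for an integral
F-module; only this linear-algebra statement, over any commutative ring, is given here.) -/
theorem result
    (L : Type u) [CommRing L] (σ : L ≃+* L) (d : ℕ) (hσ : σ ^ d = 1)
    (r : ℕ) (C : Matrix (Fin r) (Fin r) L) :
    (Matrix.charpolyRev (((List.range d).map fun i => C.map ⇑(σ ^ i)).prod)).map (σ : L →+* L) =
      Matrix.charpolyRev (((List.range d).map fun i => C.map ⇑(σ ^ i)).prod) := by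
  have hmap : ∀ (f : L →+* L) (M : Matrix (Fin r) (Fin r) L),
      (Matrix.charpolyRev M).map f = Matrix.charpolyRev (M.map f) := by
    intro f M
    unfold Matrix.charpolyRev
    rw [← Polynomial.coe_mapRingHom, RingHom.map_det]
    congr 1
    ext i j : 1
    simp only [RingHom.mapMatrix_apply, Matrix.map_apply, Matrix.sub_apply, Matrix.smul_apply,
      Matrix.one_apply, map_sub, smul_eq_mul, map_mul, Polynomial.coe_mapRingHom,
      Polynomial.map_X, Polynomial.map_C]
    split_ifs <;> simp
  have hcomm : ∀ (A B : Matrix (Fin r) (Fin r) L),
      Matrix.charpolyRev (A * B) = Matrix.charpolyRev (B * A) := by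
    intro A B
    unfold Matrix.charpolyRev
    have h1 : (Polynomial.X : Polynomial L) • (A * B).map Polynomial.C
        = ((Polynomial.X : Polynomial L) • A.map Polynomial.C) * B.map Polynomial.C := by
      rw [Matrix.map_mul, Matrix.smul_mul]
    have h2 : (Polynomial.X : Polynomial L) • (B * A).map Polynomial.C
        = B.map Polynomial.C * ((Polynomial.X : Polynomial L) • A.map Polynomial.C) := by
      rw [Matrix.map_mul, Matrix.mul_smul]
    rw [h1, h2, Matrix.det_one_sub_mul_comm]
  rw [hmap]
  have hprod : ∀ (l : List (Matrix (Fin r) (Fin r) L)),
      (l.prod).map (σ : L →+* L) = (l.map fun M => M.map (σ : L →+* L)).prod := by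
    intro l
    have := map_list_prod (RingHom.mapMatrix (m := Fin r) (σ : L →+* L)) l
    rw [RingHom.mapMatrix_apply] at this
    rw [this]
    congr 1
  cases d with
  | zero => simp
  | succ k =>
    have e1 : ((List.range (k + 1)).map fun i => C.map ⇑(σ ^ i)).prod =
        C.map ⇑(σ ^ 0) * ((List.range k).map fun i => C.map ⇑(σ ^ (i + 1))).prod := by
      rw [List.range_succ_eq_map, List.map_cons, List.prod_cons, List.map_map]
      rfl
    have e2 : (((List.range (k + 1)).map fun i => C.map ⇑(σ ^ i)).prod).map (σ : L →+* L) =
        ((List.range k).map fun i => C.map ⇑(σ ^ (i + 1))).prod * C.map ⇑(σ ^ 0) := by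
      rw [hprod, List.map_map, List.range_succ, List.map_append, List.prod_append, List.map_singleton,
        List.prod_singleton]
      congr 1
      · congr 1
        apply List.map_congr_left
        intro i _
        ext a b
        simp [pow_succ']
      · ext a b
        simp only [Function.comp_apply, Matrix.map_apply, RingHom.coe_coe]
        have : σ ((σ ^ k) (C a b)) = (σ ^ (k + 1)) (C a b) := by
          rw [pow_succ']; rfl
        rw [this, hσ]; simp
    rw [e2, e1]
    exact hcomm _ _

end Groth.Agent.S19380
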