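import Groth.Statements.S19383
import Mathlib

set_option autoImplicit false
universe u
open CAlg

namespace Groth.Agent.S19383

/-- Over a discrete valuation ring, let V be a henselian discrete valuation ring with maximal ideal 𝔪
and B a Noetherian V-algebra, B̂ its 𝔪B-adic completion. Then B is flat over V if and only if B̂ is
flat over V. (The published lemma takes V an excellent normal ring with an ideal I such that (V,
V/I) is a henselian pair and B of finite type; in that generality it fails: for V = ℤ_p[[x]], I =
(p) and B = V[y]/(x, py − 1) ≅ ℚ_p one has IB = B, so B̂ = 0 is flat while B is not flat over V.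
Over a discrete valuation ring flatness is torsion-freeness and the statement holds for every
Noetherian B.) -/
theorem result
    (V : Type u) [CommRing V] [IsDomain V] [IsDiscreteValuationRing V] [HenselianLocalRing V]
    (B : Type u) [CommRing B] [Algebra V B] [IsNoetherianRing B] :
    Module.Flat V B ↔
      Module.Flat V (AdicCompletion ((IsLocalRing.maximalIdeal V).map (algebraMap V B)) B) := by
  obtain ⟨I, hI⟩ : ∃ I : Ideal B, I = (IsLocalRing.maximalIdeal V).map (algebraMap V B) :=
    ⟨_, rfl⟩
  rw [← hI]
  constructor
  · intro hflat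
    haveI : Module.Flat B (AdicCompletion I B) := AdicCompletion.flat_of_isNoetherian I
    exact Module.Flat.trans V B (AdicCompletion I B)
  · intro hflat
    rw [Module.Flat.flat_iff_torsion_eq_bot_of_isBezout] at hflat ⊢
    obtain ⟨ϖ, hϖ⟩ := IsDiscreteValuationRing.exists_irreducible V
    have hIspan : I = Ideal.span {algebraMap V B ϖ} := by
      rw [hI, hϖ.maximalIdeal_eq, Ideal.map_span, Set.image_singleton]
    rw [Submodule.eq_bot_iff]
    intro b hb
    rw [Submodule.mem_torsion_iff] at hb
    obtain ⟨a, ha⟩ := hb
    have ha0 : (a : V) ≠ 0 := nonZeroDivisors.coe_ne_zero a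
    have ha' : (a : V) • b = 0 := ha
    obtain ⟨n, u, hu⟩ := IsDiscreteValuationRing.eq_unit_mul_pow_irreducible ha0 hϖ
    have hϖn : (algebraMap V B ϖ) ^ n * b = 0 := by
      have h3 : algebraMap V B (a : V) * b = 0 := by
        rw [← Algebra.smul_def]
        exact ha'
      rw [hu, map_mul, map_pow, mul_assoc] at h3
      have hunit : IsUnit (algebraMap V B (u : V)) := (u.isUnit).map (algebraMap V B)
      exact hunit.mul_right_eq_zero.mp h3
    have h1 : AdicCompletion.of I B b ∈ Submodule.torsion V (AdicCompletion I B) := by
      rw [Submodule.mem_torsion_iff]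
      refine ⟨a, ?_⟩
      show (a : V) • AdicCompletion.of I B b = 0
      apply AdicCompletion.ext
      intro m
      rw [AdicCompletion.val_smul_apply, AdicCompletion.of_apply, AdicCompletion.val_zero_apply,
        Submodule.mkQ_apply, ← Submodule.Quotient.mk_smul, ha', Submodule.Quotient.mk_zero]
    rw [hflat, Submodule.mem_bot] at h1
    have h2 : b ∈ (⨅ m : ℕ, I ^ m • ⊤ : Submodule B B) := by
      rw [Submodule.mem_iInf]
      intro m
      have h4 : (AdicCompletion.of I B b).val m = (0 : AdicCompletion I B).val m := by rw [h1]
      rw [AdicCompletion.of_apply, AdicCompletion.val_zero_apply, Submodule.mkQ_apply,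
        Submodule.Quotient.mk_eq_zero] at h4
      exact h4
    rw [Ideal.mem_iInf_smul_pow_eq_bot_iff] at h2
    obtain ⟨r, hr⟩ := h2
    have hr' : (r : B) * b = b := hr
    have hrI : (r : B) ∈ Ideal.span {algebraMap V B ϖ} := by
      rw [← hIspan]
      exact r.2
    obtain ⟨c, hc⟩ := Ideal.mem_span_singleton'.mp hrI
    have hpow : ∀ m : ℕ, (r : B) ^ m * b = b := by
      intro m
      induction m with
      | zero => rw [pow_zero, one_mul]
      | succ m ih => rw [pow_succ, mul_assoc, hr', ih]
    have h5 := hpow n
    rw [← hc, mul_pow, mul_assoc, hϖn, mul_zero] at h5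
    exact h5.symm

end Groth.Agent.S19383
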