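import Groth.Statements.S19391
import Mathlib

set_option autoImplicit false
universe u
open InvQ

namespace Groth.Agent.S19391

/-- For a binary quartic written as a product of four linear forms μ_i X₀ − λ_i X₁, with coefficients
a_0, …, a_4, the discriminant D = ∏_{i<j} (λ_j μ_i − λ_i μ_j)² is a constant multiple of P³ − 6Q²
for the two basic invariants P, Q. With the integral normalisation I = 6P = 12a₀a₄ − 3a₁a₃ + a₂², J
= 72Q = 72a₀a₂a₄ + 9a₁a₂a₃ − 27a₀a₃² − 27a₁²a₄ − 2a₂³ used here, the identity reads 27 D = 4 I³ − J²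
(so the constant is 32: D = 32 (P³ − 6Q²)); it is stated over an arbitrary commutative ring. -/
theorem result (R : Type u) [CommRing R] (la mu : Fin 4 → R) :
    27 * W4c6intromoduli.disc la mu =
      4 * W4c6intromoduli.invI (W4c6intromoduli.coef la mu) ^ 3
        - W4c6intromoduli.invJ (W4c6intromoduli.coef la mu) ^ 2 := by
  set l0 := la 0 with hl0
  set l1 := la 1 with hl1
  set l2 := la 2 with hl2
  set l3 := la 3 with hl3
  set m0 := mu 0 with hm0
  set m1 := mu 1 with hm1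
  set m2 := mu 2 with hm2
  set m3 := mu 3 with hm3
  have hgen : ∀ (a b c d e : R), 
      (Polynomial.C a + Polynomial.C b * Polynomial.X + Polynomial.C c * Polynomial.X ^ 2 + Polynomial.C d * Polynomial.X ^ 3 + Polynomial.C e * Polynomial.X ^ 4).coeff 0 = a ∧
      (Polynomial.C a + Polynomial.C b * Polynomial.X + Polynomial.C c * Polynomial.X ^ 2 + Polynomial.C d * Polynomial.X ^ 3 + Polynomial.C e * Polynomial.X ^ 4).coeff 1 = b ∧
      (Polynomial.C a + Polynomial.C b * Polynomial.X + Polynomial.C c * Polynomial.X ^ 2 + Polynomial.C d * Polynomial.X ^ 3 + Polynomial.C e * Polynomial.X ^ 4).coeff 2 = c ∧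
      (Polynomial.C a + Polynomial.C b * Polynomial.X + Polynomial.C c * Polynomial.X ^ 2 + Polynomial.C d * Polynomial.X ^ 3 + Polynomial.C e * Polynomial.X ^ 4).coeff 3 = d ∧
      (Polynomial.C a + Polynomial.C b * Polynomial.X + Polynomial.C c * Polynomial.X ^ 2 + Polynomial.C d * Polynomial.X ^ 3 + Polynomial.C e * Polynomial.X ^ 4).coeff 4 = e := by
    intro a b c d e
    simp [Polynomial.coeff_C, Polynomial.coeff_X, Polynomial.coeff_X_pow]
  have hpoly : W4c6intromoduli.rootPoly la mu =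
      Polynomial.C (m0 * m1 * m2 * m3)
      + Polynomial.C (-(l0 * m1 * m2 * m3 + m0 * l1 * m2 * m3 + m0 * m1 * l2 * m3 + m0 * m1 * m2 * l3)) * Polynomial.X
      + Polynomial.C (l0 * l1 * m2 * m3 + l0 * m1 * l2 * m3 + l0 * m1 * m2 * l3 + m0 * l1 * l2 * m3 + m0 * l1 * m2 * l3 + m0 * m1 * l2 * l3) * Polynomial.X ^ 2
      + Polynomial.C (-(l0 * l1 * l2 * m3 + l0 * l1 * m2 * l3 + l0 * m1 * l2 * l3 + m0 * l1 * l2 * l3)) * Polynomial.X ^ 3
      + Polynomial.C (l0 * l1 * l2 * l3) * Polynomial.X ^ 4 := by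
    rw [W4c6intromoduli.rootPoly, Fin.prod_univ_four]
    simp only [map_mul, map_add, map_neg]
    ring
  have hc0 : W4c6intromoduli.coef la mu 0 = m0 * m1 * m2 * m3 := by
    rw [W4c6intromoduli.coef, hpoly]
    exact (hgen _ _ _ _ _).1
  have hc1 : W4c6intromoduli.coef la mu 1 = -(l0 * m1 * m2 * m3 + m0 * l1 * m2 * m3 + m0 * m1 * l2 * m3 + m0 * m1 * m2 * l3) := by
    rw [W4c6intromoduli.coef, hpoly]
    exact (hgen _ _ _ _ _).2.1
  have hc2 : W4c6intromoduli.coef la mu 2 = l0 * l1 * m2 * m3 + l0 * m1 * l2 * m3 + l0 * m1 * m2 * l3 + m0 * l1 * l2 * m3 + m0 * l1 * m2 * l3 + m0 * m1 * l2 * l3 := by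
    rw [W4c6intromoduli.coef, hpoly]
    exact (hgen _ _ _ _ _).2.2.1
  have hc3 : W4c6intromoduli.coef la mu 3 = -(l0 * l1 * l2 * m3 + l0 * l1 * m2 * l3 + l0 * m1 * l2 * l3 + m0 * l1 * l2 * l3) := by
    rw [W4c6intromoduli.coef, hpoly]
    exact (hgen _ _ _ _ _).2.2.2.1
  have hc4 : W4c6intromoduli.coef la mu 4 = l0 * l1 * l2 * l3 := by
    rw [W4c6intromoduli.coef, hpoly]
    exact (hgen _ _ _ _ _).2.2.2.2
  have hdisc : W4c6intromoduli.disc la mu =
      (l1 * m0 - l0 * m1) ^ 2 * (l2 * m0 - l0 * m2) ^ 2 * (l3 * m0 - l0 * m3) ^ 2 *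
      (l2 * m1 - l1 * m2) ^ 2 * (l3 * m1 - l1 * m3) ^ 2 * (l3 * m2 - l2 * m3) ^ 2 := by
    rw [W4c6intromoduli.disc, Finset.prod_filter, Fintype.prod_prod_type]
    simp only [Fin.prod_univ_four]
    simp
    ring
  rw [hdisc, W4c6intromoduli.invI, W4c6intromoduli.invJ, hc0, hc1, hc2, hc3, hc4]
  ring

end Groth.Agent.S19391
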