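import Groth.Statements.S19392
import Mathlib

set_option autoImplicit false
universe u
open InvQ

namespace Groth.Agent.S19392

/-- Over a field of characteristic different from 2 and 3, a nonzero binary quartic f has P(f) = Q(f) =
0 for the two basic invariants P, Q if and only if f has a triple zero. Stated for f = ∏_i (μ_i X₀ −
λ_i X₁) given by four root points (λ_i, μ_i) ≠ (0, 0) (over an algebraically closed field every
nonzero quartic form is of this shape), with the integral invariants I = 6P and J = 72Q of the
coefficients of f; a triple zero means that three of the four root points are pairwise proportional. -/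
theorem result (k : Type u) [Field k]
    (h2 : (2 : k) ≠ 0) (h3 : (3 : k) ≠ 0) (la mu : Fin 4 → k) (hne : ∀ i, la i ≠ 0 ∨ mu i ≠ 0) :
    (W4c6intromoduli.invI (W4c6intromoduli.coef la mu) = 0 ∧
        W4c6intromoduli.invJ (W4c6intromoduli.coef la mu) = 0) ↔
      ∃ i j l : Fin 4, i ≠ j ∧ j ≠ l ∧ i ≠ l ∧
        la i * mu j = la j * mu i ∧ la j * mu l = la l * mu j := by
  have hgen : ∀ a0 a1 a2 a3 a4 : k, ∀ p : Polynomial k,
      p = Polynomial.C a0 + Polynomial.C a1 * Polynomial.X + Polynomial.C a2 * Polynomial.X ^ 2 +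
        Polynomial.C a3 * Polynomial.X ^ 3 + Polynomial.C a4 * Polynomial.X ^ 4 →
      p.coeff 0 = a0 ∧ p.coeff 1 = a1 ∧ p.coeff 2 = a2 ∧ p.coeff 3 = a3 ∧ p.coeff 4 = a4 := by
    intro a0 a1 a2 a3 a4 p hp
    subst hp
    simp only [Polynomial.coeff_add, Polynomial.coeff_C_mul, Polynomial.coeff_X_pow,
      Polynomial.coeff_X, Polynomial.coeff_C]
    norm_num
  have hpoly : W4c6intromoduli.rootPoly la mu =
      Polynomial.C (mu 0 * mu 1 * mu 2 * mu 3) +
      Polynomial.C (-(la 0 * mu 1 * mu 2 * mu 3 + mu 0 * la 1 * mu 2 * mu 3 + mu 0 * mu 1 * la 2 * mu 3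
        + mu 0 * mu 1 * mu 2 * la 3)) * Polynomial.X +
      Polynomial.C (la 0 * la 1 * mu 2 * mu 3 + la 0 * mu 1 * la 2 * mu 3 + la 0 * mu 1 * mu 2 * la 3
        + mu 0 * la 1 * la 2 * mu 3 + mu 0 * la 1 * mu 2 * la 3 + mu 0 * mu 1 * la 2 * la 3) * Polynomial.X ^ 2 +
      Polynomial.C (-(la 0 * la 1 * la 2 * mu 3 + la 0 * la 1 * mu 2 * la 3 + la 0 * mu 1 * la 2 * la 3
        + mu 0 * la 1 * la 2 * la 3)) * Polynomial.X ^ 3 +
      Polynomial.C (la 0 * la 1 * la 2 * la 3) * Polynomial.X ^ 4 := by
    unfold W4c6intromoduli.rootPoly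
    rw [Fin.prod_univ_four]
    simp only [map_add, map_mul, map_neg]
    ring
  obtain ⟨c0, c1, c2, c3, c4⟩ := hgen _ _ _ _ _ _ hpoly
  obtain ⟨A, hA⟩ : ∃ A : k, A = (la 0 * mu 1 - la 1 * mu 0) * (la 2 * mu 3 - la 3 * mu 2) := ⟨_, rfl⟩
  obtain ⟨B, hB⟩ : ∃ B : k, B = (la 0 * mu 2 - la 2 * mu 0) * (la 3 * mu 1 - la 1 * mu 3) := ⟨_, rfl⟩
  obtain ⟨C, hC⟩ : ∃ C : k, C = (la 0 * mu 3 - la 3 * mu 0) * (la 1 * mu 2 - la 2 * mu 1) := ⟨_, rfl⟩
  have hABC : A + B + C = 0 := by rw [hA, hB, hC]; ring
  have hI : 2 * W4c6intromoduli.invI (W4c6intromoduli.coef la mu) = A ^ 2 + B ^ 2 + C ^ 2 := by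
    unfold W4c6intromoduli.invI W4c6intromoduli.coef
    rw [c0, c1, c2, c3, c4, hA, hB, hC]
    ring
  have hJ : W4c6intromoduli.invJ (W4c6intromoduli.coef la mu) = (A - B) * (B - C) * (C - A) := by
    unfold W4c6intromoduli.invJ W4c6intromoduli.coef
    rw [c0, c1, c2, c3, c4, hA, hB, hC]
    ring
  have htrans : ∀ i j l : Fin 4, la i * mu j = la j * mu i → la j * mu l = la l * mu j →
      la i * mu l = la l * mu i := by
    intro i j l h1 h2'
    rcases hne j with hj | hj
    · apply mul_left_cancel₀ hj
      linear_combination (la l) * h1 + (la i) * h2'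
    · apply mul_left_cancel₀ hj
      linear_combination (mu l) * h1 + (mu i) * h2'
  constructor
  · rintro ⟨hI0, hJ0⟩
    rw [hI0, mul_zero] at hI
    rw [hJ0] at hJ
    have h6 : (6 : k) ≠ 0 := by
      have : (6 : k) = 2 * 3 := by norm_num
      rw [this]; exact mul_ne_zero h2 h3
    have hAB : A = 0 ∧ B = 0 := by
      have hCeq : C = -A - B := by linear_combination hABC
      rcases mul_eq_zero.mp hJ.symm with h | h
      · rcases mul_eq_zero.mp h with h | h
        · -- A = B
          have hab : A = B := sub_eq_zero.mp h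
          have : 6 * (A * A) = 0 := by
            rw [hCeq, ← hab] at hI
            linear_combination -hI
          have hA0 : A = 0 := by
            rcases mul_eq_zero.mp this with h' | h'
            · exact absurd h' h6
            · exact mul_self_eq_zero.mp h'
          exact ⟨hA0, hab ▸ hA0⟩
        · -- B = C
          have hbc : B = C := sub_eq_zero.mp h
          have hA' : A = -2 * B := by linear_combination hABC + hbc
          have : 6 * (B * B) = 0 := by
            rw [← hbc, hA'] at hI
            linear_combination -hI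
          have hB0 : B = 0 := by
            rcases mul_eq_zero.mp this with h' | h'
            · exact absurd h' h6
            · exact mul_self_eq_zero.mp h'
          exact ⟨by rw [hA', hB0, mul_zero], hB0⟩
      · -- C = A
        have hca : C = A := sub_eq_zero.mp h
        have hB' : B = -2 * A := by linear_combination hABC - hca
        have : 6 * (A * A) = 0 := by
          rw [hca, hB'] at hI
          linear_combination -hI
        have hA0 : A = 0 := by
          rcases mul_eq_zero.mp this with h' | h'
          · exact absurd h' h6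
          · exact mul_self_eq_zero.mp h'
        exact ⟨hA0, by rw [hB', hA0, mul_zero]⟩
    obtain ⟨hA0, hB0⟩ := hAB
    rw [hA] at hA0
    rw [hB] at hB0
    rcases mul_eq_zero.mp hA0 with ha | ha <;> rcases mul_eq_zero.mp hB0 with hb | hb
    · -- d01 = 0, d02 = 0 : common 0
      refine ⟨1, 0, 2, by decide, by decide, by decide, ?_, ?_⟩
      · linear_combination -ha
      · linear_combination hb
    · -- d01 = 0, d31 = 0 : common 1
      refine ⟨0, 1, 3, by decide, by decide, by decide, ?_, ?_⟩
      · linear_combination ha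
      · linear_combination -hb
    · -- d23 = 0, d02 = 0 : common 2
      refine ⟨0, 2, 3, by decide, by decide, by decide, ?_, ?_⟩
      · linear_combination hb
      · linear_combination ha
    · -- d23 = 0, d31 = 0 : common 3
      refine ⟨2, 3, 1, by decide, by decide, by decide, ?_, ?_⟩
      · linear_combination ha
      · linear_combination hb
  · rintro ⟨i, j, l, hij, hjl, hil, h1, h2'⟩
    have h3' := htrans i j l h1 h2'
    have hABC0 : A = 0 ∧ B = 0 ∧ C = 0 := by
      rw [hA, hB, hC]
      fin_cases i <;> fin_cases j <;> fin_cases l <;>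
        first
        | exact absurd rfl hij
        | exact absurd rfl hjl
        | exact absurd rfl hil
        | (simp only [Fin.zero_eta, Fin.mk_one, Fin.reduceFinMk] at h1 h2' h3'
           refine ⟨?_, ?_, ?_⟩ <;>
           (rw [mul_eq_zero, sub_eq_zero, sub_eq_zero]
            first
            | exact Or.inl h1 | exact Or.inl h1.symm | exact Or.inr h1 | exact Or.inr h1.symm
            | exact Or.inl h2' | exact Or.inl h2'.symm | exact Or.inr h2' | exact Or.inr h2'.symm
            | exact Or.inl h3' | exact Or.inl h3'.symm | exact Or.inr h3' | exact Or.inr h3'.symm))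
    obtain ⟨a0, b0, c0'⟩ := hABC0
    constructor
    · have : 2 * W4c6intromoduli.invI (W4c6intromoduli.coef la mu) = 0 := by
        rw [hI, a0, b0, c0']; ring
      rcases mul_eq_zero.mp this with h | h
      · exact absurd h h2
      · exact h
    · rw [hJ, a0, b0, c0']; ring

end Groth.Agent.S19392
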