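import Groth.Statements.S19396
import Mathlib
import Groth.Agent.Lib.lead.FF15
-- import your own Groth.Agent.* helpers here

set_option autoImplicit false
universe u v
open FunFld

namespace Groth.Agent.S19396
open FunFld Groth.Agent.Lib.lead.FF Groth.Agent.Lib.lead.FF2 Groth.Agent.Lib.lead.FF4 Groth.Agent.Lib.lead.FF5 Groth.Agent.Lib.lead.FF6 Groth.Agent.Lib.lead.FF7 Groth.Agent.Lib.lead.FF8 Groth.Agent.Lib.lead.FF9 Groth.Agent.Lib.lead.FF10 Groth.Agent.Lib.lead.FF11 Groth.Agent.Lib.lead.FF12 Groth.Agent.Lib.lead.FF13 Groth.Agent.Lib.lead.FF14 Groth.Agent.Lib.lead.FF15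


/-- On an elliptic curve with base point 0, if f has a double pole at 0 and no other pole and g a triple
pole at 0 and no other pole, then for n ≥ 2 the functions 1, f, …, f^[n/2], g, fg, …, f^[(n−3)/2] g
form a basis of the space of functions with at most an n-fold pole at 0. Stated for a function field
K/k of one variable of genus 1 with a place P of degree 1 in the role of the curve and its base
point: the family indexed by Fin (n/2 + 1) ⊕ Fin ((n − 1)/2), sending i on the left to f^i and i on
the right to f^i g, is linearly independent over k and spans L(nP). -/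
theorem result (k : Type u) (K : Type v) [Field k] [Field K]
    [Algebra k K] (hK : FunFld.IsFunctionField k K) (hgen : FunFld.genus k K = 1)
    (P : FunFld.Place k K) (hP : P.deg = 1) (f g : K)
    (hf : f ∈ FunFld.L (Finsupp.single P 2)) (hf2 : P.ord f = -2)
    (hg : g ∈ FunFld.L (Finsupp.single P 3)) (hg3 : P.ord g = -3) (n : ℕ) (hn : 2 ≤ n) :
    LinearIndependent k
        (Sum.elim (fun i : Fin (n / 2 + 1) => f ^ (i : ℕ)) (fun i : Fin ((n - 1) / 2) => f ^ (i : ℕ) * g)) ∧
      Submodule.span k (Set.range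
        (Sum.elim (fun i : Fin (n / 2 + 1) => f ^ (i : ℕ)) (fun i : Fin ((n - 1) / 2) => f ^ (i : ℕ) * g))) =
        FunFld.L (Finsupp.single P (n : ℤ)) := by
  classical
  have hf0 : f ≠ 0 := by
    rintro rfl
    rw [ord_zero] at hf2
    omega
  have hg0 : g ≠ 0 := by
    rintro rfl
    rw [ord_zero] at hg3
    omega
  obtain ⟨b, hb⟩ : ∃ b : Fin (n / 2 + 1) ⊕ Fin ((n - 1) / 2) → K,
      b = Sum.elim (fun i : Fin (n / 2 + 1) => f ^ (i : ℕ))
        (fun i : Fin ((n - 1) / 2) => f ^ (i : ℕ) * g) := ⟨_, rfl⟩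
  rw [← hb]
  have hbl : ∀ i : Fin (n / 2 + 1), b (Sum.inl i) = f ^ (i : ℕ) := fun i => by rw [hb]; rfl
  have hbr : ∀ i : Fin ((n - 1) / 2), b (Sum.inr i) = f ^ (i : ℕ) * g := fun i => by rw [hb]; rfl
  have hb0 : ∀ i, b i ≠ 0 := by
    rintro (i | i)
    · rw [hbl]
      exact pow_ne_zero _ hf0
    · rw [hbr]
      exact mul_ne_zero (pow_ne_zero _ hf0) hg0
  have hordl : ∀ i : Fin (n / 2 + 1), P.ord (b (Sum.inl i)) = -2 * ((i : ℕ) : ℤ) := by
    intro i
    rw [hbl, ord_pow, hf2]
    ring
  have hordr : ∀ i : Fin ((n - 1) / 2), P.ord (b (Sum.inr i)) = -2 * ((i : ℕ) : ℤ) - 3 := by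
    intro i
    rw [hbr, ord_mul P (pow_ne_zero _ hf0) hg0, ord_pow, hf2, hg3]
    ring
  have hinj : Function.Injective (fun i => P.ord (b i)) := by
    intro i j h
    rcases i with i | i <;> rcases j with j | j
    · have h' : P.ord (b (Sum.inl i)) = P.ord (b (Sum.inl j)) := h
      rw [hordl, hordl] at h'
      exact congrArg Sum.inl (Fin.ext (by omega))
    · have h' : P.ord (b (Sum.inl i)) = P.ord (b (Sum.inr j)) := h
      rw [hordl, hordr] at h'
      omega
    · have h' : P.ord (b (Sum.inr i)) = P.ord (b (Sum.inl j)) := h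
      rw [hordl, hordr] at h'
      omega
    · have h' : P.ord (b (Sum.inr i)) = P.ord (b (Sum.inr j)) := h
      rw [hordr, hordr] at h'
      exact congrArg Sum.inr (Fin.ext (by omega))
  have hpow : ∀ i : ℕ, f ^ i ∈ FunFld.L (Finsupp.single P (2 * (i : ℤ))) := by
    intro i
    induction i with
    | zero =>
      rw [pow_zero]
      exact one_mem_L_single hK P (by simp)
    | succ i ih =>
      rw [pow_succ]
      exact mul_mem_L_single ih hf (by push_cast; ring)
  have hmem : ∀ i, b i ∈ FunFld.L (Finsupp.single P (n : ℤ)) := by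
    rintro (i | i)
    · have h1 := hordl i
      have h2 := i.2
      have h3 : b (Sum.inl i) ∈ FunFld.L (Finsupp.single P (2 * ((i : ℕ) : ℤ))) := by
        rw [hbl]
        exact hpow i
      refine mem_L_single_of_ord h3 (hb0 _) ?_
      rw [h1]
      omega
    · have h1 := hordr i
      have h2 := i.2
      have h3 : b (Sum.inr i) ∈ FunFld.L (Finsupp.single P (2 * ((i : ℕ) : ℤ) + 3)) := by
        rw [hbr]
        exact mul_mem_L_single (hpow i) hg rfl
      refine mem_L_single_of_ord h3 (hb0 _) ?_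
      rw [h1]
      omega
  have hli := linearIndependent_of_ord_injective P b hb0 hinj
  refine ⟨hli, ?_⟩
  haveI := L_finite hK (Finsupp.single P (n : ℤ))
  apply Submodule.eq_of_le_of_finrank_eq
  · rw [Submodule.span_le]
    rintro _ ⟨i, rfl⟩
    exact hmem i
  · rw [finrank_span_eq_card hli]
    have h1 := ell_single_genus_one hK hgen hP (n : ℤ) (by exact_mod_cast (by omega : 1 ≤ n))
    have h2 : Module.finrank k ↥(FunFld.L (Finsupp.single P (n : ℤ) : FunFld.Divisor k K)) = n := by
      exact_mod_cast h1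
    rw [h2, Fintype.card_sum, Fintype.card_fin, Fintype.card_fin]
    omega

end Groth.Agent.S19396
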