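import Groth.Statements.S19398
import Mathlib
import Groth.Agent.Lib.helper4.Comod
import Groth.Agent.Lib.helper9.ComodHom

set_option autoImplicit false
universe u
open GIT

namespace Groth.Agent.S19398

section rey
open Groth.Agent.Lib.helper4

variable {k : Type u} [Field k] {A : Type u} [CommRing A] [Bialgebra k A]
variable {V : Type u} [AddCommGroup V] [Module k V] [HopfRep.Comod k A V]
variable {W : Type u} [AddCommGroup W] [Module k W] [HopfRep.Comod k A W]

theorem inv_iff (x : V) :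
    x ∈ HopfRep.fixedPts k A V ↔ ∀ φ : A →ₗ[k] k, h4T φ x = φ 1 • x := by
  constructor
  · intro hx φ
    have hx' : HopfRep.Comod.coact (k := k) (A := A) x = x ⊗ₜ[k] (1 : A) := hx
    rw [h4T_apply, hx', LinearMap.lTensor_tmul, TensorProduct.rid_tmul]
  · intro h
    show HopfRep.Comod.coact (k := k) (A := A) x = x ⊗ₜ[k] (1 : A)
    rw [← sub_eq_zero]
    apply h4_tensor_eq_zero_of_forall_lTensor (N' := k) (Set.univ : Set (A →ₗ[k] k))
    · intro a ha
      exact (Module.forall_dual_apply_eq_zero_iff k a).1 (fun φ => ha φ (Set.mem_univ _))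
    · intro φ _
      rw [map_sub, sub_eq_zero]
      apply (TensorProduct.rid k V).injective
      have h1 := h φ
      rw [h4T_apply] at h1
      rw [h1, LinearMap.lTensor_tmul, TensorProduct.rid_tmul]

theorem map_fixed {f : V →ₗ[k] W} (hf : Hoch.IsComodHom A f) {x : V}
    (hx : x ∈ HopfRep.fixedPts k A V) : f x ∈ HopfRep.fixedPts k A W := by
  show HopfRep.Comod.coact (k := k) (A := A) (f x) = f x ⊗ₜ[k] (1 : A)
  rw [H9Comod.isComodHom_apply hf,
    (show HopfRep.Comod.coact (k := k) (A := A) x = x ⊗ₜ[k] (1 : A) from hx),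
    LinearMap.rTensor_tmul]

theorem fixed_coe (N : Submodule k V) (hN : HopfRep.IsSubcomod (k := k) (A := A) N) (z : ↥N)
    (hz : z ∈ @HopfRep.fixedPts k A _ _ _ ↥N _ _ (ComodSub.Comod.restr inferInstance N hN)) :
    (z : V) ∈ HopfRep.fixedPts k A V := by
  have h := ComodSub.restr_coact_coe (inferInstance : HopfRep.Comod k A V) N hN z
  have hz' : (ComodSub.Comod.restr inferInstance N hN).coact z = z ⊗ₜ[k] (1 : A) := hz
  rw [hz', LinearMap.rTensor_tmul] at h
  exact h.symm

theorem key (hG : HopfRep.IsLinearlyReductive k A) (N : Submodule k V)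
    (hN : HopfRep.IsSubcomod (k := k) (A := A) N) [hfin : Module.Finite k N]
    (hN0 : ∀ z ∈ N, z ∈ HopfRep.fixedPts k A V → z = 0)
    (g : V →ₗ[k] W) (hg : Hoch.IsComodHom A g) (hgN : ∀ z ∈ N, g z ∈ HopfRep.fixedPts k A W) :
    ∀ z ∈ N, g z = 0 := by
  letI cN : HopfRep.Comod k A ↥N := ComodSub.Comod.restr inferInstance N hN
  have hι : Hoch.IsComodHom A N.subtype := ComodSub.isComodHom_subtype _ N hN
  obtain ⟨g', hg'def⟩ : ∃ g' : ↥N →ₗ[k] W, g' = g ∘ₗ N.subtype := ⟨_, rfl⟩
  have hg'app : ∀ z : ↥N, g' z = g (z : V) := fun z => by rw [hg'def]; rfl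
  have hg' : Hoch.IsComodHom A g' := by rw [hg'def]; exact H9Comod.isComodHom_comp hι hg
  have hK : HopfRep.IsSubcomod (k := k) (A := A) (LinearMap.ker g') := H9Comod.isSubcomod_ker hg'
  obtain ⟨K', hK', hc⟩ := hG ↥N hfin _ hK
  have hK'0 : ∀ z ∈ K', z = 0 := by
    intro z hz
    have hinv : z ∈ HopfRep.fixedPts k A ↥N := by
      rw [inv_iff]
      intro φ
      have h1 : h4T φ z - φ 1 • z ∈ K' :=
        K'.sub_mem ((h4_isSubcomod_iff K').mp hK' φ z hz) (K'.smul_mem _ hz)
      have h2 : h4T φ z - φ 1 • z ∈ LinearMap.ker g' := by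
        rw [LinearMap.mem_ker, map_sub, map_smul, h4T_comodHom g' hg' φ z]
        have h4 := (inv_iff (g' z)).mp (by rw [hg'app]; exact hgN z z.2) φ
        rw [h4, sub_self]
      have h3 : h4T φ z - φ 1 • z ∈ LinearMap.ker g' ⊓ K' := ⟨h2, h1⟩
      rw [hc.inf_eq_bot] at h3
      exact sub_eq_zero.mp ((Submodule.mem_bot k).mp h3)
    have hzV : (z : V) ∈ HopfRep.fixedPts k A V := fixed_coe N hN z hinv
    exact Subtype.ext (hN0 z z.2 hzV)
  have hK'bot : K' = ⊥ := (Submodule.eq_bot_iff _).mpr hK'0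
  have hKtop : LinearMap.ker g' = ⊤ := by
    have h5 := hc.sup_eq_top
    rw [hK'bot, sup_bot_eq] at h5
    exact h5
  intro z hz
  have h6 : (⟨z, hz⟩ : ↥N) ∈ LinearMap.ker g' := by rw [hKtop]; trivial
  rw [LinearMap.mem_ker, hg'app] at h6
  exact h6

theorem main (hG : HopfRep.IsLinearlyReductive k A)
    (E : V →ₗ[k] V) (hE₁ : Hoch.IsComodHom A E) (hE₂ : E ∘ₗ E = E)
    (hE₃ : ∀ x : V, E x = x ↔ x ∈ HopfRep.fixedPts k A V)
    (E' : W →ₗ[k] W) (hE'₁ : Hoch.IsComodHom A E') (hE'₂ : E' ∘ₗ E' = E')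
    (hE'₃ : ∀ y : W, E' y = y ↔ y ∈ HopfRep.fixedPts k A W)
    (u : V →ₗ[k] W) (hu : Hoch.IsComodHom A u) :
    E' ∘ₗ u = u ∘ₗ E := by
  apply LinearMap.ext
  intro x
  simp only [LinearMap.comp_apply]
  have hEE : ∀ v, E (E v) = E v := fun v => by rw [← LinearMap.comp_apply, hE₂]
  have hEE' : ∀ v, E' (E' v) = E' v := fun v => by rw [← LinearMap.comp_apply, hE'₂]
  have hEx : E x ∈ HopfRep.fixedPts k A V := (hE₃ (E x)).mp (hEE x)
  have huEx : u (E x) ∈ HopfRep.fixedPts k A W := map_fixed hu hEx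
  have h1 : E' (u (E x)) = u (E x) := (hE'₃ _).mpr huEx
  have hy : E (x - E x) = 0 := by rw [map_sub, hEE, sub_self]
  obtain ⟨N0, hfin0, hyN0, hN0⟩ := h4_exists_finite_subcomod (k := k) (C := A) (x - E x)
  have hNsub : HopfRep.IsSubcomod (k := k) (A := A) (N0 ⊓ LinearMap.ker E) :=
    H9Comod.isSubcomod_inf hN0 (H9Comod.isSubcomod_ker hE₁)
  haveI : FiniteDimensional k ↥N0 := hfin0
  haveI : Module.Finite k ↥(N0 ⊓ LinearMap.ker E) := Submodule.finiteDimensional_inf_left _ _
  have hzero := key hG (N0 ⊓ LinearMap.ker E) hNsub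
    (fun z hz hzf => by
      have h2 : E z = z := (hE₃ z).mpr hzf
      have h3 : E z = 0 := hz.2
      rw [← h2, h3])
    (E' ∘ₗ u) (H9Comod.isComodHom_comp hu hE'₁)
    (fun z _ => (hE'₃ _).mp (by rw [LinearMap.comp_apply, hEE']))
    (x - E x) ⟨hyN0, hy⟩
  rw [LinearMap.comp_apply] at hzero
  have h7 : E' (u x) = E' (u (E x)) + E' (u (x - E x)) := by
    rw [← map_add, ← map_add, add_sub_cancel]
  rw [h7, h1, hzero, add_zero]

end rey

/-- For a reductive group G (here: every finite-dimensional representation completely reducible, i.e.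
linearly reductive) acting linearly on vector spaces V and V′ of any dimension, with Reynolds
operators E and E′ (the projections onto the invariants along the unique invariant complement),
every G-linear map u : V → V′ satisfies E′ ∘ u = u ∘ E. Stated for comodules over a commutative Hopf
algebra A whose finite-dimensional comodules are semisimple; a Reynolds operator is a comodule
endomorphism that is idempotent and fixes exactly the invariant vectors (such an operator is the
projection onto the invariants along an invariant complement, which is unique). -/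
theorem result (k : Type u) [Field k] (A : Type u) [CommRing A] [HopfAlgebra k A]
    (hG : HopfRep.IsLinearlyReductive k A)
    (V W : Type u) [AddCommGroup V] [Module k V] [HopfRep.Comod k A V]
    [AddCommGroup W] [Module k W] [HopfRep.Comod k A W]
    (E : V →ₗ[k] V) (hE₁ : Hoch.IsComodHom A E) (hE₂ : E ∘ₗ E = E)
    (hE₃ : ∀ x : V, E x = x ↔ x ∈ HopfRep.fixedPts k A V)
    (E' : W →ₗ[k] W) (hE'₁ : Hoch.IsComodHom A E') (hE'₂ : E' ∘ₗ E' = E')
    (hE'₃ : ∀ y : W, E' y = y ↔ y ∈ HopfRep.fixedPts k A W)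
    (u : V →ₗ[k] W) (hu : Hoch.IsComodHom A u) :
    E' ∘ₗ u = u ∘ₗ E := by
  exact main hG E hE₁ hE₂ hE₃ E' hE'₁ hE'₂ hE'₃ u hu

end Groth.Agent.S19398
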