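import Groth.Statements.S19602
import Mathlib
import Groth.Agent.Lib.helper9.OrbitLib

set_option autoImplicit false
universe u
open GIT

namespace Groth.Agent.S19602

section inv
variable {k : Type u} [Field k] [IsAlgClosed k] {A : Type u} [CommRing A] [Bialgebra k A]
  {R : Type u} [CommRing R] [Algebra k R] [Algebra.FiniteType k R]
  [HopfRep.Comod k A R] [GLin.IsCoactAlg k A R]

theorem main (hG : HopfRep.IsLinearlyReductive k A) (x₁ x₂ : R →ₐ[k] k) :
    x₁.comp (GLin.invariants k A R).val = x₂.comp (GLin.invariants k A R).val ↔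
      ∃ z : R →ₐ[k] k, GLin.InOrbitClosure k A x₁ z ∧ GLin.InOrbitClosure k A x₂ z := by
  constructor
  · intro hx
    by_contra hno
    push Not at hno
    have hx' : ∀ f : R, f ∈ GLin.invariants k A R → x₁ f = x₂ f := by
      intro f hf
      exact AlgHom.congr_fun hx ⟨f, hf⟩
    have htop : RingHom.ker (GLin.orbitHom k A x₁) ⊔ RingHom.ker (GLin.orbitHom k A x₂) = ⊤ := by
      by_contra hne
      obtain ⟨z, hz⟩ := H9Orb.exists_point k R _ hne
      exact hno z (le_sup_left.trans hz) (le_sup_right.trans hz)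
    have h1 : (1 : R) ∈ RingHom.ker (GLin.orbitHom k A x₁) ⊔ RingHom.ker (GLin.orbitHom k A x₂) := by
      rw [htop]; trivial
    obtain ⟨j₁, hj₁, j₂, hj₂, hsum⟩ := Submodule.mem_sup.mp h1
    obtain ⟨E, hE1, hE2, hE3⟩ := H9Rey.exists_reynolds (V := R) hG
    have hEmem : ∀ r, E r ∈ GLin.invariants k A R := fun r =>
      (hE3 _).mp (by rw [← LinearMap.comp_apply, hE2])
    have hEj₁ : GLin.orbitHom k A x₁ (E j₁) = 0 :=
      H9Rey.reynolds_mem_subcomod hG E hE1 hE2 hE3 _ (H9Orb.isSubcomod_kerOrb x₁) j₁ hj₁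
    have hEj₂ : GLin.orbitHom k A x₂ (E j₂) = 0 :=
      H9Rey.reynolds_mem_subcomod hG E hE1 hE2 hE3 _ (H9Orb.isSubcomod_kerOrb x₂) j₂ hj₂
    have h3 : x₁ (E j₁) = 0 := H9Orb.inv_ker_orb x₁ _ (hEmem _) hEj₁
    have h4 : x₂ (E j₂) = 0 := H9Orb.inv_ker_orb x₂ _ (hEmem _) hEj₂
    have h5 : x₁ (E j₂) = 0 := by rw [hx' _ (hEmem _), h4]
    have h6 : E 1 = 1 := (hE3 1).mpr (Subalgebra.one_mem (GLin.invariants k A R))
    have h7 : x₁ (E 1) = 0 := by rw [← hsum, map_add, map_add, h3, h5, add_zero]
    rw [h6, map_one] at h7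
    exact one_ne_zero h7
  · rintro ⟨z, hz₁, hz₂⟩
    apply AlgHom.ext
    intro f
    show x₁ (f : R) = x₂ (f : R)
    rw [← H9Orb.closure_inv x₁ z hz₁ f f.2, ← H9Orb.closure_inv x₂ z hz₂ f f.2]

end inv

/-- Let k be an algebraically closed field, G = Spec A a linearly reductive affine algebraic group over
k, and U = Spec R an affine k-scheme of finite type on which G acts. Two k-points x₁, x₂ of U have
the same image in U//G = Spec R^G if and only if the closures of their orbits have a common k-point.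
Stated in coaction form. The published statement allows any affine U and asks only that the two
orbit closures meet; this row assumes U of finite type over k and asks for a common k-point, which
is then equivalent. -/
theorem result (k : Type u) [Field k] [IsAlgClosed k]
    (A : Type u) [CommRing A] [HopfAlgebra k A] [Algebra.FiniteType k A] (hG : HopfRep.IsLinearlyReductive k A)
    (R : Type u) [CommRing R] [Algebra k R] [Algebra.FiniteType k R] [HopfRep.Comod k A R] [GLin.IsCoactAlg k A R]
    (x₁ x₂ : R →ₐ[k] k) :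
    x₁.comp (GLin.invariants k A R).val = x₂.comp (GLin.invariants k A R).val ↔
      ∃ z : R →ₐ[k] k, GLin.InOrbitClosure k A x₁ z ∧ GLin.InOrbitClosure k A x₂ z := by
  exact main hG x₁ x₂

end Groth.Agent.S19602
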