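import Groth.Statements.S19400
import Mathlib
import Groth.Agent.Lib.helper9.OrbitLib2
import Groth.Agent.S18834
import Groth.Agent.S19602

set_option autoImplicit false
universe u
open GIT

namespace Groth.Agent.S19400

section inv
variable {k : Type u} [Field k] [IsAlgClosed k] {A : Type u} [CommRing A] [HopfAlgebra k A]
  [Algebra.FiniteType k A]
  {R : Type u} [CommRing R] [Algebra k R] [Algebra.FiniteType k R]
  [HopfRep.Comod k A R] [GLin.IsCoactAlg k A R]

theorem surj (hG : HopfRep.IsLinearlyReductive k A) (y : GLin.invariants k A R →ₐ[k] k) :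
    ∃ x : R →ₐ[k] k, x.comp (GLin.invariants k A R).val = y := by
  have h1 := Groth.Agent.S18834.main (k := k) (A := A) (R := R) hG (RingHom.ker y)
  have hne : Ideal.map (GLin.invariants k A R).val.toRingHom (RingHom.ker y) ≠ ⊤ := by
    intro htop
    rw [htop, Ideal.comap_top] at h1
    have h2 : (1 : GLin.invariants k A R) ∈ RingHom.ker y := by rw [← h1]; trivial
    rw [RingHom.mem_ker, map_one] at h2
    exact one_ne_zero h2
  obtain ⟨x, hx⟩ := H9Orb.exists_point k R _ hne
  refine ⟨x, ?_⟩
  apply AlgHom.ext
  intro f
  show x (f : R) = y f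
  have h3 : f - algebraMap k (GLin.invariants k A R) (y f) ∈ RingHom.ker y := by
    rw [RingHom.mem_ker, map_sub, AlgHom.commutes]
    exact sub_self (y f)
  have h4 := hx (Ideal.mem_map_of_mem (GLin.invariants k A R).val.toRingHom h3)
  rw [RingHom.mem_ker] at h4
  have h5 : x ((f : R) - algebraMap k R (y f)) = 0 := by
    rw [← h4]
    rfl
  rw [map_sub, AlgHom.commutes, sub_eq_zero] at h5
  exact h5

theorem main (hG : HopfRep.IsLinearlyReductive k A)
    (hcl : ∀ x : R →ₐ[k] k, GLin.IsClosedOrbit k A x)
    (y : GLin.invariants k A R →ₐ[k] k) :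
    (∃ x : R →ₐ[k] k, x.comp (GLin.invariants k A R).val = y) ∧
      ∀ x x' : R →ₐ[k] k, x.comp (GLin.invariants k A R).val = y →
        x'.comp (GLin.invariants k A R).val = y →
          ∃ g : A →ₐ[k] k, x' = GLin.actPt k g x := by
  refine ⟨surj hG y, ?_⟩
  intro x x' hx hx'
  obtain ⟨z, hz, hz'⟩ := (Groth.Agent.S19602.main (k := k) (A := A) (R := R) hG x x').mp
    (hx.trans hx'.symm)
  obtain ⟨g, hg⟩ := H9Orb.exists_g_of_closed x z (hcl x) hz
  obtain ⟨g', hg'⟩ := H9Orb.exists_g_of_closed x' z (hcl x') hz'
  refine ⟨(g'.comp (HopfAlgebra.antipodeAlgHom k A)).comp (H9Orb.LgAlg g), ?_⟩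
  rw [← H9Orb.actPt_actPt, hg, ← hg', H9Orb.actPt_inv]

end inv

/-- For a reductive group G (here: every finite-dimensional representation completely reducible, i.e.
linearly reductive; any characteristic) acting on an affine variety X = Spec R over an algebraically
closed field with all orbits of closed points closed, the morphism X → Y = Spec R^G is a geometric
quotient; in particular it is surjective on closed points and its fibre over every closed point of Y
is a single orbit. This row states those two point-set assertions in coaction form: G = Spec A with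
A a finitely generated commutative Hopf algebra whose finite-dimensional comodules are semisimple, R
of finite type with a multiplicative unital coaction, points as k-algebra maps. The published
statement takes X to be a variety (reduced and irreducible); this row does not assume R reduced or a
domain. -/
theorem result (k : Type u) [Field k] [IsAlgClosed k]
    (A : Type u) [CommRing A] [HopfAlgebra k A] [Algebra.FiniteType k A]
    (hG : HopfRep.IsLinearlyReductive k A)
    (R : Type u) [CommRing R] [Algebra k R] [Algebra.FiniteType k R]
    [HopfRep.Comod k A R] [GLin.IsCoactAlg k A R]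
    (hcl : ∀ x : R →ₐ[k] k, GLin.IsClosedOrbit k A x)
    (y : GLin.invariants k A R →ₐ[k] k) :
    (∃ x : R →ₐ[k] k, x.comp (GLin.invariants k A R).val = y) ∧
      ∀ x x' : R →ₐ[k] k, x.comp (GLin.invariants k A R).val = y →
        x'.comp (GLin.invariants k A R).val = y →
          ∃ g : A →ₐ[k] k, x' = GLin.actPt k g x := by
  exact main hG hcl y

end Groth.Agent.S19400
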