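import Groth.Statements.S19422
import Mathlib

set_option autoImplicit false
universe u
open TensorProduct LaurentPolynomial
open GIT

namespace Groth.Agent.S19422

section gm
open TensorProduct LaurentPolynomial
variable {k : Type u} [Field k] {ι : Type u} [Fintype ι]
  [HopfRep.Comod k k[T;T⁻¹] (MvPolynomial ι k)] [GLin.IsCoactAlg k k[T;T⁻¹] (MvPolynomial ι k)]

/-- the weight of a monomial -/
def wt (r : ι → ℤ) (s : ι →₀ ℕ) : ℤ := ∑ i ∈ s.support, (s i : ℤ) * r i

omit [Fintype ι] [HopfRep.Comod k k[T;T⁻¹] (MvPolynomial ι k)]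
  [GLin.IsCoactAlg k k[T;T⁻¹] (MvPolynomial ι k)] in
theorem prod_tmul (r : ι → ℤ) (s : ι →₀ ℕ) (S : Finset ι) :
    ∏ i ∈ S, (((MvPolynomial.X i : MvPolynomial ι k) ^ s i) ⊗ₜ[k] (T ((s i : ℤ) * r i) : k[T;T⁻¹])) =
      (∏ i ∈ S, (MvPolynomial.X i : MvPolynomial ι k) ^ s i) ⊗ₜ[k]
        (T (∑ i ∈ S, (s i : ℤ) * r i) : k[T;T⁻¹]) := by
  classical
  induction S using Finset.induction_on with
  | empty =>
    rw [Finset.prod_empty, Finset.prod_empty, Finset.sum_empty, T_zero]
    rfl
  | insert i S hi ih =>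
    rw [Finset.prod_insert hi, Finset.prod_insert hi, Finset.sum_insert hi, ih,
      Algebra.TensorProduct.tmul_mul_tmul, T_add]

theorem coact_pow (r : ι → ℤ)
    (hr : ∀ i : ι, HopfRep.Comod.coact (k := k) (A := k[T;T⁻¹])
      (MvPolynomial.X i : MvPolynomial ι k) =
      (MvPolynomial.X i : MvPolynomial ι k) ⊗ₜ[k] (T (r i) : k[T;T⁻¹])) (i : ι) (n : ℕ) :
    GLin.coactAlgHom k k[T;T⁻¹] (MvPolynomial ι k) ((MvPolynomial.X i : MvPolynomial ι k) ^ n) =
      ((MvPolynomial.X i : MvPolynomial ι k) ^ n) ⊗ₜ[k] (T ((n : ℤ) * r i) : k[T;T⁻¹]) := by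
  rw [map_pow, GLin.coactAlgHom_apply, hr, Algebra.TensorProduct.tmul_pow, T_pow]

theorem coact_monomial (r : ι → ℤ)
    (hr : ∀ i : ι, HopfRep.Comod.coact (k := k) (A := k[T;T⁻¹])
      (MvPolynomial.X i : MvPolynomial ι k) =
      (MvPolynomial.X i : MvPolynomial ι k) ⊗ₜ[k] (T (r i) : k[T;T⁻¹])) (s : ι →₀ ℕ) (c : k) :
    HopfRep.Comod.coact (k := k) (A := k[T;T⁻¹]) (MvPolynomial.monomial s c : MvPolynomial ι k) =
      (MvPolynomial.monomial s c : MvPolynomial ι k) ⊗ₜ[k] (T (wt r s) : k[T;T⁻¹]) := by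
  rw [← GLin.coactAlgHom_apply, MvPolynomial.monomial_eq, map_mul, Finsupp.prod, map_prod,
    Finset.prod_congr rfl (fun i _ => coact_pow r hr i (s i)), prod_tmul,
    ← MvPolynomial.algebraMap_eq, AlgHom.commutes, Algebra.TensorProduct.algebraMap_apply,
    Algebra.TensorProduct.tmul_mul_tmul, one_mul]
  rfl

theorem wt_zero_of_inv (r : ι → ℤ)
    (hr : ∀ i : ι, HopfRep.Comod.coact (k := k) (A := k[T;T⁻¹])
      (MvPolynomial.X i : MvPolynomial ι k) =
      (MvPolynomial.X i : MvPolynomial ι k) ⊗ₜ[k] (T (r i) : k[T;T⁻¹]))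
    (F : MvPolynomial ι k) (hF : F ∈ GLin.invariants k k[T;T⁻¹] (MvPolynomial ι k))
    (s : ι →₀ ℕ) (hs : MvPolynomial.coeff s F ≠ 0) : wt r s = 0 := by
  classical
  rw [GLin.mem_invariants_iff] at hF
  have hsum : HopfRep.Comod.coact (k := k) (A := k[T;T⁻¹]) F = ∑ t ∈ F.support,
      (MvPolynomial.monomial t (MvPolynomial.coeff t F) : MvPolynomial ι k) ⊗ₜ[k]
        (T (wt r t) : k[T;T⁻¹]) := by
    conv_lhs => rw [F.as_sum]
    rw [map_sum]
    exact Finset.sum_congr rfl fun t _ => coact_monomial r hr t _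
  have h1 := congrArg (fun z => TensorProduct.lid k k[T;T⁻¹]
    ((MvPolynomial.lcoeff k s).rTensor k[T;T⁻¹] z)) hF
  simp only [hsum, map_sum, LinearMap.rTensor_tmul, TensorProduct.lid_tmul,
    MvPolynomial.lcoeff_apply, MvPolynomial.coeff_monomial] at h1
  rw [Finset.sum_eq_single s] at h1
  · rw [if_pos rfl] at h1
    have h2 : (T (wt r s) : k[T;T⁻¹]) = 1 := by
      have h3 := congrArg (fun z => (MvPolynomial.coeff s F)⁻¹ • z) h1
      simp only [smul_smul, inv_mul_cancel₀ hs, one_smul] at h3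
      exact h3
    have h4 := congrArg (fun z : k[T;T⁻¹] => z.coeff (wt r s)) h2
    simp only [← T_zero, T_apply] at h4
    by_contra hne
    rw [if_pos trivial, if_neg (fun h => hne h.symm)] at h4
    exact one_ne_zero h4
  · intro t _ hts
    rw [if_neg hts, zero_smul]
  · intro hns
    exact absurd (MvPolynomial.mem_support_iff.mpr hs) hns

theorem main [IsAlgClosed k] (r : ι → ℤ)
    (hr : ∀ i : ι, HopfRep.Comod.coact (k := k) (A := k[T;T⁻¹])
      (MvPolynomial.X i : MvPolynomial ι k) =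
      (MvPolynomial.X i : MvPolynomial ι k) ⊗ₜ[k] (T (r i) : k[T;T⁻¹]))
    (v : ι → k) :
    GLin.IsSemistableVec k k[T;T⁻¹] v ↔ ∃ i j : ι, v i ≠ 0 ∧ v j ≠ 0 ∧ r i ≤ 0 ∧ 0 ≤ r j := by
  classical
  constructor
  · intro hss
    unfold GLin.IsSemistableVec GLin.IsNullform at hss
    push Not at hss
    obtain ⟨F, hF, d, hd, hhom, hv⟩ := hss
    rw [MvPolynomial.eval_eq] at hv
    obtain ⟨s, hs, hterm⟩ := Finset.exists_ne_zero_of_sum_ne_zero hv
    have hcs : MvPolynomial.coeff s F ≠ 0 := left_ne_zero_of_mul hterm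
    have hprod : ∏ i ∈ s.support, v i ^ s i ≠ 0 := right_ne_zero_of_mul hterm
    have hvi : ∀ i ∈ s.support, v i ≠ 0 := by
      intro i hi h0
      apply hprod
      apply Finset.prod_eq_zero hi
      rw [h0, zero_pow (Finsupp.mem_support_iff.mp hi)]
    have hw := wt_zero_of_inv r hr F hF s hcs
    have hdeg : s.degree = d := by
      by_contra hne
      exact hcs (hhom.coeff_eq_zero hne)
    have hne : s.support.Nonempty := by
      rw [Finset.nonempty_iff_ne_empty]
      intro hemp
      rw [Finsupp.degree_apply, hemp, Finset.sum_empty] at hdeg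
      omega
    have hpos : ∀ i ∈ s.support, (0 : ℤ) < (s i : ℤ) := by
      intro i hi
      have := Finsupp.mem_support_iff.mp hi
      omega
    have hex1 : ∃ i ∈ s.support, r i ≤ 0 := by
      by_contra hno
      push Not at hno
      have : 0 < wt r s := Finset.sum_pos (fun i hi => mul_pos (hpos i hi) (hno i hi)) hne
      omega
    have hex2 : ∃ j ∈ s.support, 0 ≤ r j := by
      by_contra hno
      push Not at hno
      have : wt r s < 0 := Finset.sum_neg (fun i hi => mul_neg_of_pos_of_neg (hpos i hi) (hno i hi)) hne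
      omega
    obtain ⟨i, hi, hri⟩ := hex1
    obtain ⟨j, hj, hrj⟩ := hex2
    exact ⟨i, j, hvi i hi, hvi j hj, hri, hrj⟩
  · rintro ⟨i, j, hvi, hvj, hri, hrj⟩ hnull
    by_cases h0 : r i = 0
    · have hinv : (MvPolynomial.X i : MvPolynomial ι k) ∈
          GLin.invariants k k[T;T⁻¹] (MvPolynomial ι k) := by
        rw [GLin.mem_invariants_iff, hr, h0, T_zero]
      have := hnull _ hinv 1 Nat.one_pos (MvPolynomial.isHomogeneous_X k i)
      rw [MvPolynomial.eval_X] at this
      exact hvi this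
    · obtain ⟨a, ha⟩ : ∃ a : ℕ, (a : ℤ) = r j := ⟨(r j).toNat, Int.toNat_of_nonneg hrj⟩
      obtain ⟨b, hb⟩ : ∃ b : ℕ, (b : ℤ) = - r i := ⟨(- r i).toNat, Int.toNat_of_nonneg (by omega)⟩
      have hbpos : 0 < b := by omega
      have hinv : ((MvPolynomial.X i : MvPolynomial ι k) ^ a * (MvPolynomial.X j) ^ b) ∈
          GLin.invariants k k[T;T⁻¹] (MvPolynomial ι k) := by
        rw [GLin.mem_invariants_iff, ← GLin.coactAlgHom_apply, map_mul, coact_pow r hr,
          coact_pow r hr, Algebra.TensorProduct.tmul_mul_tmul, ← T_add]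
        have : (a : ℤ) * r i + (b : ℤ) * r j = 0 := by rw [ha, hb]; ring
        rw [this, T_zero]
      have hhom : ((MvPolynomial.X i : MvPolynomial ι k) ^ a * (MvPolynomial.X j) ^ b).IsHomogeneous
          (1 * a + 1 * b) :=
        ((MvPolynomial.isHomogeneous_X k i).pow a).mul ((MvPolynomial.isHomogeneous_X k j).pow b)
      have := hnull _ hinv (1 * a + 1 * b) (by omega) hhom
      rw [map_mul, map_pow, map_pow, MvPolynomial.eval_X, MvPolynomial.eval_X] at this
      exact mul_ne_zero (pow_ne_zero _ hvi) (pow_ne_zero _ hvj) this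

end gm

/-- Over an algebraically closed field k, let the multiplicative group, whose coordinate Hopf algebra is
the Laurent polynomial ring, act diagonally on affine ι-space, ι finite: the coaction on the
polynomial ring is multiplicative and sends the coordinate function X_i to X_i ⊗ T^(r_i) for
integers r_i. Then a vector v is semistable (some invariant homogeneous polynomial of positive
degree does not vanish at v) if and only if there are indices i and j, possibly equal, with v_i ≠ 0,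
v_j ≠ 0 and r_i ≤ 0 ≤ r_j, i.e. the origin lies in the convex hull of the weights of v. (Stated for
the ambient projective space on its affine cone; the published statement is for a point of a closed
invariant subvariety, whose semistability is that of the point in the ambient space.) -/
theorem result (k : Type u) [Field k] [IsAlgClosed k]
    (ι : Type u) [Fintype ι] [HopfRep.Comod k k[T;T⁻¹] (MvPolynomial ι k)] [GLin.IsCoactAlg k k[T;T⁻¹] (MvPolynomial ι k)]
    (r : ι → ℤ)
    (hr : ∀ i : ι, HopfRep.Comod.coact (k := k) (A := k[T;T⁻¹]) (MvPolynomial.X i : MvPolynomial ι k) =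
      (MvPolynomial.X i : MvPolynomial ι k) ⊗ₜ[k] (T (r i) : k[T;T⁻¹]))
    (v : ι → k) :
    GLin.IsSemistableVec k k[T;T⁻¹] v ↔ ∃ i j : ι, v i ≠ 0 ∧ v j ≠ 0 ∧ r i ≤ 0 ∧ 0 ≤ r j := by
  exact main r hr v

end Groth.Agent.S19422
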