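import Groth.Statements.S19427
import Mathlib

set_option autoImplicit false
universe u
open MilnorK

namespace Groth.Agent.S19427

/-- For a field F and nonzero b, c with b + c ≠ 0, in the Milnor K-group K_2(F) one has {b, c} + {b + c,
-b/c} = 0, that is {b, c} = -{b + c, -b/c} = {b + c, -c/b}. (The identity as displayed in the source
is {b, c} = {b + c, -b/c}, which differs from this by a sign and fails in general: for b = 3, c = 5
over the rationals the tame symbol at 5 takes the values 3 and 1/3 on the two sides; the
accompanying derivation from the Steinberg relation b/(b+c) + c/(b+c) = 1 gives exactly the identity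
stated here.) -/
theorem result (F : Type u) [Field F] (b c : Fˣ)
    (h : (b : F) + (c : F) ≠ 0) :
    (MilK.symbol ![b, c] : MilK.K F 2) + MilK.symbol ![Units.mk0 ((b : F) + (c : F)) h, -(b / c)] = 0 := by
  -- the bi-additive pairing
  let S : Additive Fˣ → Additive Fˣ → MilK.K F 2 := fun a b =>
    MilK.mk F 2 (PiTensorProduct.tprod ℤ ![a, b])
  have hS : ∀ x y : Fˣ, MilK.symbol ![x, y] = S (Additive.ofMul x) (Additive.ofMul y) := by
    intro x y
    show MilK.mk F 2 _ = MilK.mk F 2 _
    rfl
  have hupd0 : ∀ x a b : Additive Fˣ, Function.update ![a, b] 0 x = ![x, b] := by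
    intro x a b
    funext i
    fin_cases i <;> simp
  have hupd1 : ∀ x a b : Additive Fˣ, Function.update ![a, b] 1 x = ![a, x] := by
    intro x a b
    funext i
    fin_cases i <;> simp
  have haddL : ∀ a a' b : Additive Fˣ, S (a + a') b = S a b + S a' b := by
    intro a a' b
    have := (PiTensorProduct.tprod ℤ (s := fun _ : Fin 2 => Additive Fˣ)).map_update_add ![a, b] 0 a a'
    rw [hupd0, hupd0, hupd0] at this
    show MilK.mk F 2 _ = MilK.mk F 2 _ + MilK.mk F 2 _
    rw [this, map_add]
  have haddR : ∀ a b b' : Additive Fˣ, S a (b + b') = S a b + S a b' := by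
    intro a b b'
    have := (PiTensorProduct.tprod ℤ (s := fun _ : Fin 2 => Additive Fˣ)).map_update_add ![a, b] 1 b b'
    rw [hupd1, hupd1, hupd1] at this
    show MilK.mk F 2 _ = MilK.mk F 2 _ + MilK.mk F 2 _
    rw [this, map_add]
  have hzeroL : ∀ b : Additive Fˣ, S 0 b = 0 := by
    intro b
    have := haddL 0 0 b
    rw [add_zero] at this
    exact left_eq_add.mp this
  have hzeroR : ∀ a : Additive Fˣ, S a 0 = 0 := by
    intro a
    have := haddR a 0 0
    rw [add_zero] at this
    exact left_eq_add.mp this
  have hnegL : ∀ a b : Additive Fˣ, S (-a) b = - S a b := by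
    intro a b
    have := haddL a (-a) b
    rw [add_neg_cancel, hzeroL] at this
    exact eq_neg_of_add_eq_zero_right this.symm
  have hnegR : ∀ a b : Additive Fˣ, S a (-b) = - S a b := by
    intro a b
    have := haddR a b (-b)
    rw [add_neg_cancel, hzeroR] at this
    exact eq_neg_of_add_eq_zero_right this.symm
  -- Steinberg relation
  have hst : ∀ x y : Fˣ, (x : F) + (y : F) = 1 → S (Additive.ofMul x) (Additive.ofMul y) = 0 := by
    intro x y hxy
    rw [← hS]
    apply MilK.symbol_eq_zero_of_isSteinberg
    exact ⟨0, 1, by decide, by simpa using hxy⟩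
  -- {x, -x} = 0
  have hneg_self : ∀ x : Fˣ, S (Additive.ofMul x) (Additive.ofMul (-x)) = 0 := by
    intro x
    by_cases hx1 : x = 1
    · subst hx1
      exact hzeroL _
    · have hx1' : (x : F) ≠ 1 := fun h' => hx1 (Units.ext h')
      have h1x : (1 : F) - x ≠ 0 := sub_ne_zero.mpr (Ne.symm hx1')
      have hxinv : (1 : F) - (x : F)⁻¹ ≠ 0 := by
        rw [sub_ne_zero]
        intro h'
        have := congrArg (fun t => t * (x : F)) h'
        simp at this
        exact absurd this hx1
      set u : Fˣ := Units.mk0 _ h1x with hu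
      set w : Fˣ := Units.mk0 _ hxinv with hw
      have e1 : -x = u / w := by
        apply Units.ext
        simp only [Units.val_neg, Units.val_div_eq_div_val, hu, hw, Units.val_mk0]
        have hxne : (x : F) ≠ 0 := x.ne_zero
        field_simp
        ring
      have e2 : Additive.ofMul (-x) = Additive.ofMul u - Additive.ofMul w := by
        rw [e1]; rfl
      rw [e2, sub_eq_add_neg, haddR, hnegR]
      have s1 : S (Additive.ofMul x) (Additive.ofMul u) = 0 := by
        apply hst
        simp [hu]
      have s2 : S (Additive.ofMul x⁻¹) (Additive.ofMul w) = 0 := by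
        apply hst
        simp [hw]
      have s3 : S (Additive.ofMul x) (Additive.ofMul w) = 0 := by
        have : Additive.ofMul x⁻¹ = - Additive.ofMul x := rfl
        rw [this, hnegL] at s2
        exact neg_eq_zero.mp s2
      rw [s1, s3]; simp
  -- anticommutativity
  have hanti : ∀ x y : Fˣ, S (Additive.ofMul x) (Additive.ofMul y) + S (Additive.ofMul y) (Additive.ofMul x) = 0 := by
    intro x y
    have h1 := hneg_self (x * y)
    have e : Additive.ofMul (-(x * y)) = Additive.ofMul (-x) + Additive.ofMul y := by
      have : -(x * y) = (-x) * y := by rw [neg_mul]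
      rw [this]; rfl
    have e' : Additive.ofMul (-(x * y)) = Additive.ofMul x + Additive.ofMul (-y) := by
      have : -(x * y) = x * (-y) := by rw [mul_neg]
      rw [this]; rfl
    have e0 : Additive.ofMul (x * y) = Additive.ofMul x + Additive.ofMul y := rfl
    have t1 : S (Additive.ofMul x) (Additive.ofMul (-(x * y))) =
        S (Additive.ofMul x) (Additive.ofMul (-x)) + S (Additive.ofMul x) (Additive.ofMul y) := by
      rw [e, haddR]
    have t2 : S (Additive.ofMul y) (Additive.ofMul (-(x * y))) =
        S (Additive.ofMul y) (Additive.ofMul x) + S (Additive.ofMul y) (Additive.ofMul (-y)) := by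
      rw [e', haddR]
    rw [e0, haddL, t1, t2, hneg_self x, hneg_self y, zero_add, add_zero] at h1
    exact h1
  -- the Steinberg element b/s + c/s = 1
  set s : Fˣ := Units.mk0 ((b : F) + (c : F)) h with hs
  have hbc : S (Additive.ofMul (b / s)) (Additive.ofMul (c / s)) = 0 := by
    apply hst
    simp only [Units.val_div_eq_div_val, hs, Units.val_mk0]
    field_simp
  have eb : Additive.ofMul (b / s) = Additive.ofMul b - Additive.ofMul s := rfl
  have ec : Additive.ofMul (c / s) = Additive.ofMul c - Additive.ofMul s := rfl
  have hsub : ∀ a a' b b' : Additive Fˣ, S (a - a') (b - b') = S a b - S a b' - S a' b + S a' b' := by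
    intro a a' b b'
    simp only [sub_eq_add_neg, haddL, haddR, hnegL, hnegR]
    abel
  rw [eb, ec, hsub] at hbc
  -- {s, -s} = 0
  have hss := hneg_self s
  have em : Additive.ofMul (-s) = Additive.ofMul (-1 : Fˣ) + Additive.ofMul s := by
    have : -s = (-1) * s := by rw [neg_one_mul]
    rw [this]; rfl
  rw [em, haddR] at hss
  -- 2 {s, -1} = 0
  have h2 : S (Additive.ofMul s) (Additive.ofMul (-1 : Fˣ)) + S (Additive.ofMul s) (Additive.ofMul (-1 : Fˣ)) = 0 := by
    rw [← haddR]
    have : Additive.ofMul (-1 : Fˣ) + Additive.ofMul (-1 : Fˣ) = 0 := by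
      show Additive.ofMul ((-1 : Fˣ) * (-1)) = 0
      simp
    rw [this, hzeroR]
  rw [hS, hS]
  have et : Additive.ofMul (-(b / c)) = Additive.ofMul (-1 : Fˣ) + Additive.ofMul b - Additive.ofMul c := by
    have : -(b / c) = (-1) * b / c := by rw [neg_one_mul, neg_div']
    rw [this]; rfl
  rw [et, sub_eq_add_neg, haddR, haddR, hnegR]
  have ha := hanti b s
  generalize S (Additive.ofMul b) (Additive.ofMul c) = P at *
  generalize S (Additive.ofMul b) (Additive.ofMul s) = Q at *
  generalize S (Additive.ofMul s) (Additive.ofMul c) = R at *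
  generalize S (Additive.ofMul s) (Additive.ofMul s) = T at *
  generalize S (Additive.ofMul s) (Additive.ofMul (-1 : Fˣ)) = N at *
  generalize S (Additive.ofMul s) (Additive.ofMul b) = Q' at *
  have : P + (N + Q' + -R) = (P - Q - R + T) + (Q + Q') + (N + N) - (N + T) := by abel
  rw [this, hbc, ha, h2, hss]
  simp

end Groth.Agent.S19427
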