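import Groth.Statements.S19436
import Mathlib
import Groth.Agent.Lib.helper9.PowFinrank

set_option autoImplicit false
universe u
open CAlg

namespace Groth.Agent.S19436

/-- For a Noetherian local commutative algebra R over a field k, with maximal ideal M, and an ideal I of
R whose quotient R/I is finite-dimensional over k of dimension n, the power M^n lies in I. -/
theorem result (k : Type u) [Field k] (R : Type u) [CommRing R]
    [Algebra k R] [IsNoetherianRing R] [IsLocalRing R] (I : Ideal R) [Module.Finite k (R ⧸ I)] (n : ℕ)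
    (hn : Module.finrank k (R ⧸ I) = n) : IsLocalRing.maximalIdeal R ^ n ≤ I := by
  have h := helper9_pow_finrank_eq_bot k (R ⧸ I) ((IsLocalRing.maximalIdeal R).map (Ideal.Quotient.mk I)) ?_
  · rw [hn, ← Ideal.map_pow] at h
    rw [← Ideal.mk_ker (I := I)]
    exact (Ideal.map_eq_bot_iff_le_ker _).mp h
  · intro x hx
    rw [Ideal.mem_jacobson_bot]
    intro y
    obtain ⟨x', hx', rfl⟩ := (Ideal.mem_map_iff_of_surjective _ Ideal.Quotient.mk_surjective).mp hx
    obtain ⟨y', rfl⟩ := Ideal.Quotient.mk_surjective y
    rw [← map_mul, ← map_one (Ideal.Quotient.mk I), ← map_add]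
    apply IsUnit.map
    have : x' * y' ∈ IsLocalRing.maximalIdeal R := Ideal.mul_mem_right _ _ hx'
    by_contra hnu
    have h1 : x' * y' + 1 ∈ IsLocalRing.maximalIdeal R := (IsLocalRing.mem_maximalIdeal _).mpr hnu
    have h2 : (1 : R) ∈ IsLocalRing.maximalIdeal R := by
      have := Ideal.sub_mem _ h1 this
      simpa using this
    exact (Ideal.ne_top_iff_one _).mp (IsLocalRing.maximalIdeal.isMaximal R).ne_top h2

end Groth.Agent.S19436
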