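import Groth.Statements.S19438
import Mathlib

set_option autoImplicit false
universe u
open CAlg

namespace Groth.Agent.S19438

/-- First assertion: let A be a Noetherian local commutative algebra over a field k with maximal ideal
M, residue field k (the map from k to A/M is onto) and embedding dimension dim M/M^2 at least 2, and
let I be a proper ideal with A/I finite-dimensional over k. If A/I is generated as a k-algebra by
one element, then some element of I does not lie in M^2; that is, the finite closed subscheme
defined by I lies on a smooth hypersurface germ (it is curvilinear). (The published statement is for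
the local ring of a smooth surface at a closed point; only a Noetherian local algebra with residue
field k and embedding dimension at least 2 is assumed here, which is what the published argument
uses.) -/
theorem result (k : Type u) [Field k]
    (A : Type u) [CommRing A] [Algebra k A] [IsNoetherianRing A] [IsLocalRing A]
    (hres : Function.Surjective (algebraMap k (IsLocalRing.ResidueField A)))
    (hemb : 2 ≤ Module.finrank (IsLocalRing.ResidueField A) (IsLocalRing.CotangentSpace A))
    (I : Ideal A) (hI : I ≠ ⊤) [Module.Finite k (A ⧸ I)]
    (f : A ⧸ I) (hf : Algebra.adjoin k {f} = ⊤) :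
    ∃ g ∈ I, g ∉ IsLocalRing.maximalIdeal A ^ 2 := by
  by_contra hcon
  push Not at hcon
  obtain ⟨a, rfl⟩ := Ideal.Quotient.mk_surjective f
  obtain ⟨c, hc⟩ := hres (IsLocalRing.residue A a)
  set x : A := a - algebraMap k A c with hx
  have hxM : x ∈ IsLocalRing.maximalIdeal A := by
    rw [← IsLocalRing.residue_eq_zero_iff, hx, map_sub, ← hc]
    rw [IsScalarTower.algebraMap_apply k A (IsLocalRing.ResidueField A)]
    exact sub_self _
  have key : ∀ y ∈ IsLocalRing.maximalIdeal A,
      ∃ q : A, y - x * q ∈ IsLocalRing.maximalIdeal A ^ 2 := by
    intro y hy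
    have hmem : (Ideal.Quotient.mk I y) ∈ Algebra.adjoin k {Ideal.Quotient.mk I a} := by
      rw [hf]; trivial
    rw [Algebra.adjoin_singleton_eq_range_aeval] at hmem
    obtain ⟨p, hp⟩ := hmem
    have h1 : Polynomial.aeval (Ideal.Quotient.mk I a) p =
        Ideal.Quotient.mk I (Polynomial.aeval a p) :=
      Polynomial.aeval_algHom_apply (Ideal.Quotient.mkₐ k I) a p
    have h2 : y - Polynomial.aeval a p ∈ I := by
      rw [← Ideal.Quotient.eq, ← h1]; exact hp.symm
    obtain ⟨q, hq⟩ := Polynomial.sub_dvd_eval_sub a (algebraMap k A c) (p.map (algebraMap k A))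
    rw [Polynomial.eval_map_algebraMap, Polynomial.eval_map_algebraMap, Polynomial.aeval_algebraMap_apply] at hq
    -- hq : aeval a p - algebraMap k A (aeval c p) = x * q
    have hpc : Polynomial.aeval c p = 0 := by
      by_contra hne
      have hunit : IsUnit (algebraMap k A (Polynomial.aeval c p)) :=
        (IsUnit.mk0 _ hne).map (algebraMap k A)
      have hmemM : algebraMap k A (Polynomial.aeval c p) ∈ IsLocalRing.maximalIdeal A := by
        have e : algebraMap k A (Polynomial.aeval c p) =
            y - (y - Polynomial.aeval a p) - x * q := by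
          rw [← hq]; ring
        rw [e]
        refine Ideal.sub_mem _ (Ideal.sub_mem _ hy ?_) (Ideal.mul_mem_right _ _ hxM)
        exact Ideal.pow_le_self (two_ne_zero) (hcon _ h2)
      exact (IsLocalRing.mem_maximalIdeal _).mp hmemM hunit
    refine ⟨q, ?_⟩
    rw [hpc, map_zero, sub_zero] at hq
    rw [← hq]
    exact hcon _ h2
  -- now the cotangent space is spanned by one vector
  have hle : Module.finrank (IsLocalRing.ResidueField A) (IsLocalRing.CotangentSpace A) ≤ 1 := by
    apply finrank_le_one ((IsLocalRing.maximalIdeal A).toCotangent ⟨x, hxM⟩)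
    intro w
    obtain ⟨⟨y, hy⟩, rfl⟩ := Ideal.toCotangent_surjective _ w
    obtain ⟨q, hq⟩ := key y hy
    refine ⟨IsLocalRing.residue A q, ?_⟩
    have h3 : (IsLocalRing.maximalIdeal A).toCotangent ⟨y, hy⟩ =
        (IsLocalRing.maximalIdeal A).toCotangent (q • ⟨x, hxM⟩) := by
      rw [Ideal.toCotangent_eq]
      simp only [SetLike.val_smul, smul_eq_mul]
      rw [mul_comm]; exact hq
    rw [h3, map_smul]
    rfl
  omega

end Groth.Agent.S19438
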