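import Groth.Statements.S19439
import Mathlib

set_option autoImplicit false
universe u
open CAlg

namespace Groth.Agent.S19439

/-- Affine form: for all n and N there is an integer d, that depends only on n and N, such that for
every algebraically closed field k and every ideal I of the polynomial ring in N variables over k
whose quotient has finite dimension n over k, the polynomials of total degree at most d map onto the
quotient. -/
theorem result (n N : ℕ) :
    ∃ d : ℕ, ∀ (k : Type u) [Field k] [IsAlgClosed k] (I : Ideal (MvPolynomial (Fin N) k))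
      [Module.Finite k (MvPolynomial (Fin N) k ⧸ I)],
      Module.finrank k (MvPolynomial (Fin N) k ⧸ I) = n →
      Submodule.map (Ideal.Quotient.mkₐ k I).toLinearMap (MvPolynomial.restrictTotalDegree (Fin N) k d) = ⊤ := by
  refine ⟨n, ?_⟩
  intro k _ _ I _ hn
  obtain ⟨φ, hφ⟩ : ∃ φ : MvPolynomial (Fin N) k →ₗ[k] (MvPolynomial (Fin N) k ⧸ I),
      φ = (Ideal.Quotient.mkₐ k I).toLinearMap := ⟨_, rfl⟩
  rw [← hφ]
  have hφmul : ∀ p q, φ (p * q) = φ p * φ q := by
    intro p q
    rw [hφ]
    simp
  have hφsurj : Function.Surjective φ := by
    intro z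
    obtain ⟨p, hp⟩ := Ideal.Quotient.mkₐ_surjective k I z
    exact ⟨p, by rw [hφ]; exact hp⟩
  obtain ⟨W, hW⟩ : ∃ W : ℕ → Submodule k (MvPolynomial (Fin N) k ⧸ I),
      ∀ j, W j = Submodule.map φ (MvPolynomial.restrictTotalDegree (Fin N) k j) :=
    ⟨_, fun _ => rfl⟩
  rw [← hW]
  have hmono : ∀ j, W j ≤ W (j + 1) := by
    intro j
    rw [hW, hW]
    apply Submodule.map_mono
    intro p hp
    rw [MvPolynomial.mem_restrictTotalDegree] at hp ⊢
    omega
  have hstab : ∀ j, W j = W (j + 1) → W j = ⊤ := by
    intro j hj
    have hall : ∀ p, φ p ∈ W j := by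
      intro p
      refine MvPolynomial.induction_on (motive := fun p => φ p ∈ W j) p ?_ ?_ ?_
      · intro a
        rw [hW]
        refine ⟨MvPolynomial.C a, ?_, rfl⟩
        rw [SetLike.mem_coe, MvPolynomial.mem_restrictTotalDegree, MvPolynomial.totalDegree_C]
        exact Nat.zero_le _
      · intro p q hp hq
        rw [map_add]
        exact (W j).add_mem hp hq
      · intro p i hp
        rw [hW] at hp
        obtain ⟨q, hq, hqp⟩ := hp
        rw [hj, hW]
        refine ⟨q * MvPolynomial.X i, ?_, ?_⟩
        · rw [SetLike.mem_coe, MvPolynomial.mem_restrictTotalDegree] at hq ⊢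
          calc (q * MvPolynomial.X i).totalDegree
              ≤ q.totalDegree + (MvPolynomial.X i : MvPolynomial (Fin N) k).totalDegree :=
                MvPolynomial.totalDegree_mul _ _
            _ = q.totalDegree + 1 := by rw [MvPolynomial.totalDegree_X]
            _ ≤ j + 1 := by omega
        · rw [hφmul, hφmul, hqp]
    rw [eq_top_iff]
    intro z _
    obtain ⟨p, rfl⟩ := hφsurj z
    exact hall p
  have hdim : ∀ j, W j = ⊤ ∨ j ≤ Module.finrank k (W j) := by
    intro j
    induction j with
    | zero => exact Or.inr (Nat.zero_le _)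
    | succ j ih =>
      rcases ih with h | h
      · left
        rw [eq_top_iff, ← h]
        exact hmono j
      · by_cases hj : W j = W (j + 1)
        · left
          rw [← hj]
          exact hstab j hj
        · right
          have hlt : W j < W (j + 1) := lt_of_le_of_ne (hmono j) hj
          have := Submodule.finrank_lt_finrank_of_lt hlt
          omega
  rcases hdim n with h | h
  · exact h
  · apply Submodule.eq_top_of_finrank_eq
    have := Submodule.finrank_le (W n)
    omega

end Groth.Agent.S19439
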