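import Groth.Statements.S19443
import Mathlib

set_option autoImplicit false
universe u
open LinAlg

namespace Groth.Agent.S19443

/-- Algebraic form: let G be a finite group with order invertible in the field k, ρ a linear
representation of G on a k-vector space V, and ω a nondegenerate bilinear form on V invariant under
G. Then ω restricted to the fixed subspace V^G is nondegenerate (for a finite group of symplectic
automorphisms, the fixed subspace is a symplectic subspace). -/
theorem result (k : Type u) [Field k]
    (G : Type u) [Group G] [Finite G] (hG : (Nat.card G : k) ≠ 0)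
    (V : Type u) [AddCommGroup V] [Module k V] (ρ : Representation k G V)
    (ω : LinearMap.BilinForm k V) (hω : ω.Nondegenerate)
    (hinv : ∀ (g : G) (v w : V), ω (ρ g v) (ρ g w) = ω v w) :
    (ω.restrict ρ.invariants).Nondegenerate := by
  classical
  haveI : Fintype G := Fintype.ofFinite G
  rw [Nat.card_eq_fintype_card] at hG
  set c : k := ((Fintype.card G : ℕ) : k)⁻¹ with hcdef
  have hc : c * (Fintype.card G : k) = 1 := inv_mul_cancel₀ hG
  let avg : V →ₗ[k] V := c • ∑ g : G, ρ g
  have havg_inv : ∀ m, avg m ∈ ρ.invariants := by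
    intro m g
    simp only [avg, LinearMap.smul_apply, LinearMap.sum_apply, map_smul, map_sum]
    congr 1
    have : ∀ h : G, (ρ g) ((ρ h) m) = ρ (g * h) m := fun h => by rw [map_mul]; rfl
    simp_rw [this]
    exact Fintype.sum_bijective (fun h => g * h) (Group.mulLeft_bijective g) _ _ (fun h => rfl)
  have hinvg : ∀ (g : G) (x : V), x ∈ ρ.invariants → ∀ v, ω x (ρ g v) = ω x v := by
    intro g x hx v
    have h1 : ρ g x = x := hx g
    conv_lhs => rw [← h1]
    exact hinv g x v
  have hinvg' : ∀ (g : G) (x : V), x ∈ ρ.invariants → ∀ v, ω (ρ g v) x = ω v x := by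
    intro g x hx v
    have h1 : ρ g x = x := hx g
    conv_lhs => rw [← h1]
    exact hinv g v x
  have hL : ∀ x ∈ ρ.invariants, ∀ v, ω x (avg v) = ω x v := by
    intro x hx v
    simp only [avg, LinearMap.smul_apply, LinearMap.sum_apply, map_smul, map_sum, smul_eq_mul]
    simp_rw [hinvg _ x hx v]
    rw [Finset.sum_const, Finset.card_univ, nsmul_eq_mul, ← mul_assoc, hc, one_mul]
  have hR : ∀ x ∈ ρ.invariants, ∀ v, ω (avg v) x = ω v x := by
    intro x hx v
    simp only [avg, LinearMap.smul_apply, LinearMap.sum_apply, map_smul, map_sum, smul_eq_mul]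
    simp_rw [hinvg' _ x hx v]
    rw [Finset.sum_const, Finset.card_univ, nsmul_eq_mul, ← mul_assoc, hc, one_mul]
  constructor
  · intro x hx
    apply Subtype.ext
    apply hω.1
    intro v
    rw [← hL x.1 x.2 v]
    exact hx ⟨avg v, havg_inv v⟩
  · intro x hx
    apply Subtype.ext
    apply hω.2
    intro v
    rw [← hR x.1 x.2 v]
    exact hx ⟨avg v, havg_inv v⟩

end Groth.Agent.S19443
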