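import Groth.Statements.S19448
import Mathlib

set_option autoImplicit false
universe u
open CAlg

namespace Groth.Agent.S19448

/-- Let k be a field, A a Noetherian local k-algebra with maximal ideal M and residue field k, and G a
finite group with |G| ≠ 0 in k acting on A by k-algebra automorphisms. An element of G which acts
trivially on M/M^2 acts trivially on A; in other words the stabilizer acts faithfully on the
cotangent space whenever it acts faithfully on the local ring. -/
theorem result (k : Type u) [Field k] (A : Type u) [CommRing A]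
    [Algebra k A] [IsLocalRing A] [IsNoetherianRing A]
    (hres : Function.Surjective (algebraMap k (IsLocalRing.ResidueField A)))
    (G : Type u) [Group G] [Finite G] [MulSemiringAction G A] [SMulCommClass G k A]
    (hG : (Nat.card G : k) ≠ 0) (g : G)
    (hg : ∀ a ∈ IsLocalRing.maximalIdeal A, g • a - a ∈ IsLocalRing.maximalIdeal A ^ 2) (a : A) :
    g • a = a := by
  obtain ⟨M, hM⟩ : ∃ M : Ideal A, M = IsLocalRing.maximalIdeal A := ⟨_, rfl⟩
  rw [← hM] at hg
  have hstabM : ∀ (h : G) (x : A), x ∈ M → h • x ∈ M := by
    intro h x hx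
    rw [hM, IsLocalRing.mem_maximalIdeal, mem_nonunits_iff] at hx ⊢
    intro hu
    apply hx
    have h7 := hu.map (MulSemiringAction.toRingHom G A h⁻¹)
    rwa [MulSemiringAction.toRingHom_apply, inv_smul_smul] at h7
  have hstab : ∀ (h : G) (i : ℕ) (x : A), x ∈ M ^ i → h • x ∈ M ^ i := by
    intro h i x hx
    have h1 : Ideal.map (MulSemiringAction.toRingHom G A h) M ≤ M := by
      rw [Ideal.map_le_iff_le_comap]
      intro y hy
      exact hstabM h y hy
    have h2 : (MulSemiringAction.toRingHom G A h) x
        ∈ Ideal.map (MulSemiringAction.toRingHom G A h) (M ^ i) := Ideal.mem_map_of_mem _ hx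
    rw [Ideal.map_pow] at h2
    exact Ideal.pow_right_mono h1 i h2
  have hδ : ∀ (i : ℕ) (x : A), x ∈ M ^ (i + 1) → g • x - x ∈ M ^ (i + 1 + 1) := by
    intro i
    induction i with
    | zero =>
      intro x hx
      rw [zero_add, pow_one] at hx
      exact hg x hx
    | succ i ih =>
      intro x hx
      rw [pow_succ] at hx
      refine Submodule.mul_induction_on hx ?_ ?_
      · intro m hm n hn
        have e : g • (m * n) - m * n = (g • m - m) * (g • n) + m * (g • n - n) := by
          rw [smul_mul']; ring
        rw [e]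
        refine Ideal.add_mem _ ?_ ?_
        · have h3 := Ideal.mul_mem_mul (ih m hm) (hstabM g n hn)
          rwa [← pow_succ] at h3
        · have h3 := Ideal.mul_mem_mul hm (hg n hn)
          rw [← pow_add] at h3
          exact h3
      · intro x y hx hy
        have e : g • (x + y) - (x + y) = (g • x - x) + (g • y - y) := by
          rw [smul_add]; ring
        rw [e]
        exact Ideal.add_mem _ hx hy
  have hpow : ∀ (n j : ℕ) (x : A), x ∈ M ^ (n + 1) → g ^ j • x - x ∈ M ^ (n + 1 + 1) := by
    intro n j
    induction j with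
    | zero =>
      intro x _
      rw [pow_zero, one_smul, sub_self]
      exact Ideal.zero_mem _
    | succ j ih =>
      intro x hx
      have e : g ^ (j + 1) • x - x = g • (g ^ j • x - x) + (g • x - x) := by
        rw [pow_succ', mul_smul, smul_sub]; ring
      rw [e]
      exact Ideal.add_mem _ (hstab g _ _ (ih x hx)) (hδ n x hx)
  obtain ⟨N, hN⟩ : ∃ N, N = orderOf g := ⟨_, rfl⟩
  have hgN : g ^ N = 1 := by rw [hN]; exact pow_orderOf_eq_one g
  have hNk : (N : k) ≠ 0 := by
    obtain ⟨m, hm⟩ : N ∣ Nat.card G := by rw [hN]; exact orderOf_dvd_natCard g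
    intro h0
    apply hG
    rw [hm, Nat.cast_mul, h0, zero_mul]
  obtain ⟨u, hu⟩ : ∃ u : A, u * (N : A) = 1 := by
    refine ⟨algebraMap k A ((N : k)⁻¹), ?_⟩
    rw [← map_natCast (algebraMap k A) N, ← map_mul, inv_mul_cancel₀ hNk, map_one]
  have hstep : ∀ (n : ℕ), (∀ a : A, g • a - a ∈ M ^ (n + 1)) →
      ∀ a : A, g • a - a ∈ M ^ (n + 1 + 1) := by
    intro n hP a
    have htel : ∑ j ∈ Finset.range N, g ^ j • (g • a - a) = 0 := by
      have h4 : ∀ j, g ^ j • (g • a - a) = g ^ (j + 1) • a - g ^ j • a := by
        intro j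
        rw [smul_sub, pow_succ, mul_smul]
      simp only [h4]
      rw [Finset.sum_range_sub (fun j => g ^ j • a), hgN, one_smul, pow_zero, one_smul, sub_self]
    have hsum : (N : A) * (g • a - a)
        = - ∑ j ∈ Finset.range N, (g ^ j • (g • a - a) - (g • a - a)) := by
      rw [Finset.sum_sub_distrib, htel, Finset.sum_const, Finset.card_range, nsmul_eq_mul]
      ring
    have hmem : (N : A) * (g • a - a) ∈ M ^ (n + 1 + 1) := by
      rw [hsum]
      exact neg_mem (Ideal.sum_mem _ (fun j _ => hpow n j _ (hP a)))
    have h5 : g • a - a = u * ((N : A) * (g • a - a)) := by rw [← mul_assoc, hu, one_mul]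
    rw [h5]
    exact Ideal.mul_mem_left _ u hmem
  have hP1 : ∀ a : A, g • a - a ∈ M ^ (0 + 1) := by
    intro a
    obtain ⟨c, hc⟩ := hres (IsLocalRing.residue A a)
    have hcr : algebraMap k (IsLocalRing.ResidueField A) c
        = IsLocalRing.residue A (algebraMap k A c) := by
      rw [IsScalarTower.algebraMap_apply k A (IsLocalRing.ResidueField A)]
      rfl
    have hm : a - algebraMap k A c ∈ M := by
      rw [hM, ← IsLocalRing.residue_eq_zero_iff, map_sub, sub_eq_zero, ← hc, hcr]
    have hfix : g • algebraMap k A c = algebraMap k A c := by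
      rw [Algebra.algebraMap_eq_smul_one, smul_comm, smul_one]
    have e : g • a - a = g • (a - algebraMap k A c) - (a - algebraMap k A c) := by
      rw [smul_sub, hfix]; ring
    rw [e]
    exact Ideal.pow_le_pow_right (by omega : 0 + 1 ≤ 2) (hg _ hm)
  have hall : ∀ (n : ℕ) (a : A), g • a - a ∈ M ^ (n + 1) := by
    intro n
    induction n with
    | zero => exact hP1
    | succ n ih => exact hstep n ih
  have hinf : g • a - a ∈ (⨅ i, M ^ i) := by
    rw [Ideal.mem_iInf]
    intro i
    exact Ideal.pow_le_pow_right (Nat.le_succ i) (hall i a)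
  rw [hM, Ideal.iInf_pow_eq_bot_of_isLocalRing _ (IsLocalRing.maximalIdeal.isMaximal A).ne_top] at hinf
  exact sub_eq_zero.mp hinf

end Groth.Agent.S19448
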