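import Groth.Statements.S19449
import Mathlib

set_option autoImplicit false
universe u
open SymRep

namespace Groth.Agent.S19449

open MvPolynomial in
noncomputable def D (k : Type u) [Field k] (n : ℕ) (p : Fin n → ℕ × ℕ) :
    MvPolynomial (Fin n × Fin 2) k :=
  (Matrix.of fun i j : Fin n =>
    (X (i, 0) : MvPolynomial (Fin n × Fin 2) k) ^ (p j).1 * X (i, 1) ^ (p j).2).det

open MvPolynomial in
theorem D_expand (k : Type u) [Field k] (n : ℕ) (p : Fin n → ℕ × ℕ) :
    D k n p = ∑ σ : Equiv.Perm (Fin n), Equiv.Perm.sign σ •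
      ∏ i, ((X (σ i, 0) : MvPolynomial (Fin n × Fin 2) k) ^ (p i).1 * X (σ i, 1) ^ (p i).2) := by
  unfold D
  rw [Matrix.det_apply]
  rfl

open MvPolynomial in
theorem rho_D (k : Type u) [Field k] (n : ℕ) (σ : Equiv.Perm (Fin n)) (p : Fin n → ℕ × ℕ) :
    rename (fun v : Fin n × Fin 2 => (σ v.1, v.2)) (D k n p) =
      ((Equiv.Perm.sign σ : ℤˣ) : ℤ) • D k n p := by
  unfold D
  rw [AlgHom.map_det, zsmul_eq_mul, ← Matrix.det_permute]
  congr 1
  ext i j
  simp [Matrix.submatrix_apply]

open MvPolynomial in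
theorem monomial_expand (k : Type u) [Field k] (n : ℕ) (u : Fin n × Fin 2 →₀ ℕ) (a : k) :
    (monomial u a : MvPolynomial (Fin n × Fin 2) k) =
      a • ∏ i : Fin n, ((X (i, 0) : MvPolynomial (Fin n × Fin 2) k) ^ u (i, 0) *
        X (i, 1) ^ u (i, 1)) := by
  rw [monomial_eq, Finsupp.prod_fintype _ _ (fun v => pow_zero _), Fintype.prod_prod_type, C_mul']
  congr 1
  refine Finset.prod_congr rfl (fun i _ => ?_)
  rw [Fin.prod_univ_two]

open MvPolynomial in
theorem antisym_mem (k : Type u) [Field k] (n : ℕ) (g : MvPolynomial (Fin n × Fin 2) k) :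
    ∑ σ : Equiv.Perm (Fin n), ((Equiv.Perm.sign σ : ℤˣ) : ℤ) •
      rename (fun v : Fin n × Fin 2 => (σ v.1, v.2)) g ∈
        Submodule.span k (Set.range (D k n)) := by
  refine MvPolynomial.induction_on' (P := fun g => ∑ σ : Equiv.Perm (Fin n),
    ((Equiv.Perm.sign σ : ℤˣ) : ℤ) • rename (fun v : Fin n × Fin 2 => (σ v.1, v.2)) g ∈
      Submodule.span k (Set.range (D k n))) g ?_ ?_
  · intro u a
    have hterm : ∀ σ : Equiv.Perm (Fin n),
        rename (fun v : Fin n × Fin 2 => (σ v.1, v.2)) (monomial u a) =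
          a • ∏ i : Fin n, ((X (σ i, 0) : MvPolynomial (Fin n × Fin 2) k) ^ u (i, 0) *
            X (σ i, 1) ^ u (i, 1)) := by
      intro σ
      rw [monomial_expand, map_smul, map_prod]
      congr 1
      refine Finset.prod_congr rfl (fun i _ => ?_)
      rw [map_mul, map_pow, map_pow, rename_X, rename_X]
    have hsum : ∑ σ : Equiv.Perm (Fin n), ((Equiv.Perm.sign σ : ℤˣ) : ℤ) •
        rename (fun v : Fin n × Fin 2 => (σ v.1, v.2)) (monomial u a) =
          a • D k n (fun j => (u (j, 0), u (j, 1))) := by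
      rw [D_expand, Finset.smul_sum]
      refine Finset.sum_congr rfl (fun σ _ => ?_)
      rw [hterm σ, Units.smul_def, smul_comm]
    rw [hsum]
    exact Submodule.smul_mem _ a (Submodule.subset_span ⟨_, rfl⟩)
  · intro p q hp hq
    have e : ∑ σ : Equiv.Perm (Fin n), ((Equiv.Perm.sign σ : ℤˣ) : ℤ) •
        rename (fun v : Fin n × Fin 2 => (σ v.1, v.2)) (p + q) =
        ∑ σ : Equiv.Perm (Fin n), ((Equiv.Perm.sign σ : ℤˣ) : ℤ) •
          rename (fun v : Fin n × Fin 2 => (σ v.1, v.2)) p +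
        ∑ σ : Equiv.Perm (Fin n), ((Equiv.Perm.sign σ : ℤˣ) : ℤ) •
          rename (fun v : Fin n × Fin 2 => (σ v.1, v.2)) q := by
      rw [← Finset.sum_add_distrib]
      refine Finset.sum_congr rfl (fun σ _ => ?_)
      rw [map_add, smul_add]
    rw [e]
    exact Submodule.add_mem _ hp hq

noncomputable def E (n : ℕ) (p : Fin n → ℕ × ℕ) (σ : Equiv.Perm (Fin n)) : Fin n × Fin 2 →₀ ℕ :=
  Finsupp.equivFunOnFinite.symm
    (fun v => if v.2 = 0 then (p (σ.symm v.1)).1 else (p (σ.symm v.1)).2)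

theorem E_apply0 (n : ℕ) (p : Fin n → ℕ × ℕ) (σ : Equiv.Perm (Fin n)) (r : Fin n) :
    E n p σ (r, 0) = (p (σ.symm r)).1 := by
  simp [E]

theorem E_apply1 (n : ℕ) (p : Fin n → ℕ × ℕ) (σ : Equiv.Perm (Fin n)) (r : Fin n) :
    E n p σ (r, 1) = (p (σ.symm r)).2 := by
  simp [E]

open MvPolynomial in
theorem prod_eq_monomial (k : Type u) [Field k] (n : ℕ) (p : Fin n → ℕ × ℕ)
    (σ : Equiv.Perm (Fin n)) :
    ∏ i, ((X (σ i, 0) : MvPolynomial (Fin n × Fin 2) k) ^ (p i).1 * X (σ i, 1) ^ (p i).2) =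
      monomial (E n p σ) 1 := by
  rw [monomial_expand, one_smul]
  rw [← Equiv.prod_comp σ (fun r => (X (r, 0) : MvPolynomial (Fin n × Fin 2) k) ^
    (E n p σ (r, 0)) * X (r, 1) ^ (E n p σ (r, 1)))]
  refine Finset.prod_congr rfl (fun i _ => ?_)
  simp only [E_apply0, E_apply1, Equiv.symm_apply_apply]

theorem E_eq_imp (n : ℕ) (p' q' : Fin n → ℕ ×ₗ ℕ) (hp : StrictMono p') (hq : StrictMono q')
    (σ : Equiv.Perm (Fin n))
    (h : E n (fun j => ofLex (q' j)) σ = E n (fun j => ofLex (p' j)) 1) : q' = p' ∧ σ = 1 := by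
  have hr : ∀ r, q' (σ.symm r) = p' r := by
    intro r
    have h0 := DFunLike.congr_fun h (r, 0)
    have h1 := DFunLike.congr_fun h (r, 1)
    rw [E_apply0, E_apply0] at h0
    rw [E_apply1, E_apply1] at h1
    simp only [Equiv.Perm.one_symm, Equiv.Perm.one_apply] at h0 h1
    have h2 : ofLex (q' (σ.symm r)) = ofLex (p' r) := Prod.ext h0 h1
    exact ofLex.injective h2
  have hrange : Set.range q' = Set.range p' := by
    ext x
    constructor
    · rintro ⟨i, rfl⟩
      exact ⟨σ i, by rw [← hr (σ i), Equiv.symm_apply_apply]⟩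
    · rintro ⟨r, rfl⟩
      exact ⟨σ.symm r, hr r⟩
  have hqp : q' = p' := (hq.range_inj hp).mp hrange
  refine ⟨hqp, ?_⟩
  apply Equiv.ext
  intro r
  have h2 := hr (σ r)
  rw [Equiv.symm_apply_apply, hqp] at h2
  have h3 := hp.injective h2
  rw [Equiv.Perm.one_apply]
  exact h3.symm

open MvPolynomial in
theorem coeff_D (k : Type u) [Field k] (n : ℕ) (p q : {p : Fin n → ℕ ×ₗ ℕ // StrictMono p})
    [Decidable (q = p)] :
    coeff (E n (fun j => ofLex (p.1 j)) 1) (D k n (fun j => ofLex (q.1 j))) =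
      if q = p then 1 else 0 := by
  classical
  rw [D_expand, coeff_sum]
  have hterm : ∀ σ : Equiv.Perm (Fin n), coeff (E n (fun j => ofLex (p.1 j)) 1)
      (Equiv.Perm.sign σ • ∏ i, ((X (σ i, 0) : MvPolynomial (Fin n × Fin 2) k) ^
        (ofLex (q.1 i)).1 * X (σ i, 1) ^ (ofLex (q.1 i)).2))
      = if q = p ∧ σ = 1 then (1 : k) else 0 := by
    intro σ
    rw [prod_eq_monomial k n (fun j => ofLex (q.1 j)) σ, Units.smul_def,
      ← Int.cast_smul_eq_zsmul k, coeff_smul, coeff_monomial, smul_eq_mul]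
    by_cases hE : E n (fun j => ofLex (q.1 j)) σ = E n (fun j => ofLex (p.1 j)) 1
    · obtain ⟨h1, h2⟩ := E_eq_imp n p.1 q.1 p.2 q.2 σ hE
      rw [if_pos hE, if_pos ⟨Subtype.ext h1, h2⟩, h2]
      simp
    · rw [if_neg hE, mul_zero, if_neg]
      rintro ⟨h1, h2⟩
      apply hE
      rw [h1, h2]
  rw [Finset.sum_congr rfl (fun σ _ => hterm σ)]
  by_cases hqp : q = p
  · rw [if_pos hqp, Finset.sum_eq_single 1]
    · rw [if_pos ⟨hqp, rfl⟩]
    · intro σ _ hσ
      rw [if_neg]
      exact fun h => hσ h.2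
    · intro h
      exact absurd (Finset.mem_univ _) h
  · rw [if_neg hqp]
    apply Finset.sum_eq_zero
    intro σ _
    rw [if_neg]
    exact fun h => hqp h.1

/-- Over a field k of characteristic zero, let the symmetric group S_n act on the polynomial ring in the
2n variables x_i, y_i (i < n; the variable (i, 0) is x_i and (i, 1) is y_i) by permuting the index
i, and for an n-tuple p of pairs (p_j, q_j) of exponents let Δ_p be the determinant det(x_i^{p_j}
y_i^{q_j}). A polynomial is alternating — each permutation acts on it by its sign — exactly when it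
is a k-linear combination of the Δ_p; and the Δ_p for p strictly increasing in the lexicographic
order on pairs (one for each n-element set of exponent pairs) are linearly independent. Hence these
Δ_p form a basis of the space of alternating polynomials. -/
theorem result (k : Type u) [Field k] [CharZero k] (n : ℕ) :
    (∀ f : MvPolynomial (Fin n × Fin 2) k,
      (∀ σ : Equiv.Perm (Fin n),
          MvPolynomial.rename (fun v : Fin n × Fin 2 => (σ v.1, v.2)) f = ((Equiv.Perm.sign σ : ℤˣ) : ℤ) • f) ↔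
        f ∈ Submodule.span k (Set.range fun p : Fin n → ℕ × ℕ =>
          (Matrix.of fun i j : Fin n =>
            (MvPolynomial.X (i, 0) : MvPolynomial (Fin n × Fin 2) k) ^ (p j).1 * MvPolynomial.X (i, 1) ^ (p j).2).det)) ∧
    LinearIndependent k (fun p : {p : Fin n → ℕ ×ₗ ℕ // StrictMono p} =>
      (Matrix.of fun i j : Fin n =>
        (MvPolynomial.X (i, 0) : MvPolynomial (Fin n × Fin 2) k) ^ (ofLex (p.1 j)).1 *
          MvPolynomial.X (i, 1) ^ (ofLex (p.1 j)).2).det) := by
  classical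
  show (∀ f : MvPolynomial (Fin n × Fin 2) k,
      (∀ σ : Equiv.Perm (Fin n),
          MvPolynomial.rename (fun v : Fin n × Fin 2 => (σ v.1, v.2)) f =
            ((Equiv.Perm.sign σ : ℤˣ) : ℤ) • f) ↔
        f ∈ Submodule.span k (Set.range (D k n))) ∧
    LinearIndependent k (fun p : {p : Fin n → ℕ ×ₗ ℕ // StrictMono p} =>
      D k n (fun j => ofLex (p.1 j)))
  constructor
  · intro f
    constructor
    · intro hf
      have hA : ∑ σ : Equiv.Perm (Fin n), ((Equiv.Perm.sign σ : ℤˣ) : ℤ) •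
          MvPolynomial.rename (fun v : Fin n × Fin 2 => (σ v.1, v.2)) f =
            ((n.factorial : ℕ) : k) • f := by
        have h1 : ∀ σ : Equiv.Perm (Fin n), ((Equiv.Perm.sign σ : ℤˣ) : ℤ) •
            MvPolynomial.rename (fun v : Fin n × Fin 2 => (σ v.1, v.2)) f = f := by
          intro σ
          rw [hf σ, smul_smul, Int.units_coe_mul_self, one_smul]
        rw [Finset.sum_congr rfl (fun σ _ => h1 σ), Finset.sum_const, Finset.card_univ,
          Fintype.card_perm, Fintype.card_fin, Nat.cast_smul_eq_nsmul]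
      have hmem := antisym_mem k n f
      rw [hA] at hmem
      have hne : ((n.factorial : ℕ) : k) ≠ 0 := Nat.cast_ne_zero.mpr (Nat.factorial_ne_zero n)
      have h2 := Submodule.smul_mem _ (((n.factorial : ℕ) : k)⁻¹) hmem
      rwa [inv_smul_smul₀ hne] at h2
    · intro hf
      refine Submodule.span_induction (p := fun f _ => ∀ σ : Equiv.Perm (Fin n),
        MvPolynomial.rename (fun v : Fin n × Fin 2 => (σ v.1, v.2)) f =
          ((Equiv.Perm.sign σ : ℤˣ) : ℤ) • f) ?_ ?_ ?_ ?_ hf
      · rintro _ ⟨p, rfl⟩ σ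
        exact rho_D k n σ p
      · intro σ
        rw [map_zero, smul_zero]
      · intro x y _ _ hx hy σ
        rw [map_add, hx σ, hy σ, smul_add]
      · intro c x _ hx σ
        rw [map_smul, hx σ, smul_comm]
  · rw [linearIndependent_iff']
    intro s g hsum p hp
    have h := congrArg (MvPolynomial.coeff (E n (fun j => ofLex (p.1 j)) 1)) hsum
    rw [MvPolynomial.coeff_sum, MvPolynomial.coeff_zero] at h
    have h' : ∑ q ∈ s, g q * (if q = p then (1 : k) else 0) = 0 := by
      refine Eq.trans (Finset.sum_congr rfl (fun q _ => ?_)) h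
      rw [MvPolynomial.coeff_smul, smul_eq_mul, coeff_D]
    rw [Finset.sum_eq_single p (fun q _ hq => by rw [if_neg hq, mul_zero])
      (fun h => absurd hp h), if_pos rfl, mul_one] at h'
    exact h'

end Groth.Agent.S19449
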