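import Groth.Statements.S19453
import Mathlib

set_option autoImplicit false
universe u
open CAlg

namespace Groth.Agent.S19453

/-- Converse direction: let k be a field, A a regular local k-algebra of Krull dimension 2 with maximal
ideal M and residue field k, and I an ideal with A/I of finite dimension n ≥ 1 over k. If some
element of I does not lie in M^2, then A/I is isomorphic as a k-algebra to k[x]/(x^n): a cluster
lying on a smooth curve germ of a smooth surface is curvilinear, with coordinate ring generated by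
one element. -/
theorem result (k : Type u) [Field k]
    (A : Type u) [CommRing A] [Algebra k A] [IsRegularLocalRing A] (hdim : ringKrullDim A = 2)
    (hres : Function.Surjective (algebraMap k (IsLocalRing.ResidueField A)))
    (I : Ideal A) [Module.Finite k (A ⧸ I)] (n : ℕ) (hn : Module.finrank k (A ⧸ I) = n) (h1 : 1 ≤ n)
    (g : A) (hgI : g ∈ I) (hg : g ∉ IsLocalRing.maximalIdeal A ^ 2) :
    Nonempty ((A ⧸ I) ≃ₐ[k] (Polynomial k ⧸ Ideal.span {(Polynomial.X : Polynomial k) ^ n})) := by
  classical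
  have hsf : (IsLocalRing.maximalIdeal A).spanFinrank = 2 := by
    have h := (inferInstance : IsRegularLocalRing A).spanFinrank_maximalIdeal
    rw [hdim] at h
    exact_mod_cast h
  have hfg : (IsLocalRing.maximalIdeal A).FG := IsNoetherian.noetherian _
  obtain ⟨s, hscard, hsspan⟩ := Submodule.FG.exists_span_finset_card_eq_spanFinrank hfg
  rw [hsf, Finset.card_eq_two] at hscard
  obtain ⟨x, y, hxy, rfl⟩ := hscard
  have hMspan : Ideal.span ({x, y} : Set A) = IsLocalRing.maximalIdeal A := by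
    have h := hsspan
    rw [Finset.coe_insert, Finset.coe_singleton] at h
    exact h
  have hnontriv : Nontrivial (A ⧸ I) := Module.nontrivial_of_finrank_pos (R := k) (by omega)
  have hItop : I ≠ ⊤ := by
    intro h
    exact (not_subsingleton (A ⧸ I)) (Ideal.Quotient.subsingleton_iff.mpr h)
  have hIM : I ≤ IsLocalRing.maximalIdeal A := IsLocalRing.le_maximalIdeal hItop
  have hxM : x ∈ IsLocalRing.maximalIdeal A := by
    rw [← hMspan]
    exact Ideal.subset_span (by simp)
  have hyM : y ∈ IsLocalRing.maximalIdeal A := by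
    rw [← hMspan]
    exact Ideal.subset_span (by simp)
  have hgM : g ∈ Ideal.span ({x, y} : Set A) := by
    rw [hMspan]
    exact hIM hgI
  obtain ⟨α, β, hαβ⟩ := Ideal.mem_span_pair.mp hgM
  obtain ⟨h, hhM, hgen⟩ : ∃ h ∈ IsLocalRing.maximalIdeal A,
      ∀ m ∈ IsLocalRing.maximalIdeal A, ∃ a b : A, m = a * g + b * h := by
    by_cases hα : IsUnit α
    · obtain ⟨u, hu⟩ := hα
      refine ⟨y, hyM, ?_⟩
      intro m hm
      rw [← hMspan] at hm
      obtain ⟨c, d, hcd⟩ := Ideal.mem_span_pair.mp hm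
      have hx : x = (↑u⁻¹ : A) * (g - β * y) := by
        rw [← hαβ, ← hu, add_sub_cancel_right, Units.inv_mul_cancel_left]
      refine ⟨c * ↑u⁻¹, d - c * ↑u⁻¹ * β, ?_⟩
      rw [← hcd, hx]
      ring
    · have hαM : α ∈ IsLocalRing.maximalIdeal A := by
        rwa [← IsLocalRing.notMem_maximalIdeal, not_not] at hα
      have hβ : IsUnit β := by
        by_contra hβ
        have hβM : β ∈ IsLocalRing.maximalIdeal A := by
          rwa [← IsLocalRing.notMem_maximalIdeal, not_not] at hβ
        apply hg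
        rw [← hαβ, pow_two]
        exact Ideal.add_mem _ (Ideal.mul_mem_mul hαM hxM) (Ideal.mul_mem_mul hβM hyM)
      obtain ⟨u, hu⟩ := hβ
      refine ⟨x, hxM, ?_⟩
      intro m hm
      rw [← hMspan] at hm
      obtain ⟨c, d, hcd⟩ := Ideal.mem_span_pair.mp hm
      have hy : y = (↑u⁻¹ : A) * (g - α * x) := by
        rw [← hαβ, ← hu, add_sub_cancel_left, Units.inv_mul_cancel_left]
      refine ⟨d * ↑u⁻¹, c - d * ↑u⁻¹ * α, ?_⟩
      rw [← hcd, hy]
      ring
  obtain ⟨t, ht⟩ : ∃ t : A ⧸ I, t = Ideal.Quotient.mk I h := ⟨_, rfl⟩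
  have hg0 : Ideal.Quotient.mk I g = 0 := Ideal.Quotient.eq_zero_iff_mem.mpr hgI
  have hdecomp : ∀ b : A ⧸ I, ∃ c : k, ∃ b' : A ⧸ I,
      b = algebraMap k (A ⧸ I) c + t * b' := by
    intro b
    obtain ⟨a, rfl⟩ := Ideal.Quotient.mk_surjective b
    obtain ⟨c, hc⟩ := hres (IsLocalRing.residue A a)
    have hmem : a - algebraMap k A c ∈ IsLocalRing.maximalIdeal A := by
      rw [← IsLocalRing.residue_eq_zero_iff, map_sub, ← hc,
        IsScalarTower.algebraMap_apply k A (IsLocalRing.ResidueField A) c,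
        IsLocalRing.ResidueField.algebraMap_eq, sub_self]
    obtain ⟨p, q, hpq⟩ := hgen _ hmem
    refine ⟨c, Ideal.Quotient.mk I q, ?_⟩
    have hmkalg : Ideal.Quotient.mk I (algebraMap k A c) = algebraMap k (A ⧸ I) c := rfl
    calc Ideal.Quotient.mk I a
        = Ideal.Quotient.mk I (algebraMap k A c + (p * g + q * h)) := by
          rw [← hpq]
          congr 1
          ring
      _ = algebraMap k (A ⧸ I) c + t * Ideal.Quotient.mk I q := by
          rw [map_add, map_add, map_mul, map_mul, hg0, mul_zero, zero_add, ht, hmkalg,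
            mul_comm (Ideal.Quotient.mk I q)]
  haveI : IsLocalRing (A ⧸ I) :=
    IsLocalRing.of_surjective' (Ideal.Quotient.mk I) Ideal.Quotient.mk_surjective
  haveI : IsLocalHom (Ideal.Quotient.mk I) :=
    IsLocalHom.of_surjective _ Ideal.Quotient.mk_surjective
  haveI : IsArtinianRing (A ⧸ I) := IsArtinianRing.of_finite k (A ⧸ I)
  have htM : t ∈ IsLocalRing.maximalIdeal (A ⧸ I) := by
    rw [IsLocalRing.mem_maximalIdeal, mem_nonunits_iff, ht]
    intro hu
    have h2 := (isUnit_map_iff (Ideal.Quotient.mk I) h).mp hu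
    exact (IsLocalRing.notMem_maximalIdeal.mpr h2) hhM
  obtain ⟨N, hN⟩ : ∃ N : ℕ, t ^ N = 0 := by
    have hnil := IsArtinianRing.isNilpotent_jacobson_bot (R := A ⧸ I)
    rw [IsLocalRing.jacobson_eq_maximalIdeal ⊥ bot_ne_top] at hnil
    obtain ⟨N, hN⟩ := hnil
    refine ⟨N, ?_⟩
    have h2 := Ideal.pow_mem_pow htM N
    rw [hN, Ideal.zero_eq_bot, Ideal.mem_bot] at h2
    exact h2
  obtain ⟨φ, hφ⟩ : ∃ φ : Polynomial k →ₐ[k] (A ⧸ I), φ = Polynomial.aeval t := ⟨_, rfl⟩
  have hφX : φ Polynomial.X = t := by rw [hφ, Polynomial.aeval_X]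
  have hφC : ∀ c, φ (Polynomial.C c) = algebraMap k (A ⧸ I) c := by
    intro c
    rw [hφ, Polynomial.aeval_C]
  have hstep : ∀ N : ℕ, ∀ b : A ⧸ I, ∃ p : Polynomial k, ∃ b' : A ⧸ I,
      b = φ p + t ^ N * b' := by
    intro N
    induction N with
    | zero =>
      intro b
      exact ⟨0, b, by rw [map_zero, zero_add, pow_zero, one_mul]⟩
    | succ N ih =>
      intro b
      obtain ⟨p, b', hb⟩ := ih b
      obtain ⟨c, b'', hb'⟩ := hdecomp b'
      refine ⟨p + Polynomial.C c * Polynomial.X ^ N, b'', ?_⟩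
      rw [hb, hb', map_add, map_mul, map_pow, hφX, hφC]
      ring
  have hsurj : Function.Surjective φ := by
    intro b
    obtain ⟨p, b', hb⟩ := hstep N b
    exact ⟨p, by rw [hb, hN, zero_mul, add_zero]⟩
  have hXN : (Polynomial.X : Polynomial k) ^ N ∈ RingHom.ker φ := by
    rw [RingHom.mem_ker, map_pow, hφX, hN]
  obtain ⟨q, hq⟩ : ∃ q : Polynomial k, RingHom.ker φ = Ideal.span {q} :=
    ⟨_, (Ideal.span_singleton_generator (RingHom.ker φ)).symm⟩
  have hdvd : q ∣ Polynomial.X ^ N := by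
    rw [← Ideal.mem_span_singleton, ← hq]
    exact hXN
  obtain ⟨m, hmN, hassoc⟩ := (dvd_prime_pow Polynomial.prime_X N).mp hdvd
  have hker : RingHom.ker φ = Ideal.span {(Polynomial.X : Polynomial k) ^ m} := by
    rw [hq]
    exact Ideal.span_singleton_eq_span_singleton.mpr hassoc
  let e1 : (Polynomial k ⧸ RingHom.ker φ) ≃ₐ[k] (A ⧸ I) :=
    Ideal.quotientKerAlgEquivOfSurjective hsurj
  let e2 : (Polynomial k ⧸ RingHom.ker φ) ≃ₐ[k]
      (Polynomial k ⧸ Ideal.span {(Polynomial.X : Polynomial k) ^ m}) :=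
    Ideal.quotientEquivAlgOfEq k hker
  have hm : m = n := by
    have h3 : Module.finrank k
        (Polynomial k ⧸ Ideal.span {(Polynomial.X : Polynomial k) ^ m}) = m := by
      rw [finrank_quotient_span_eq_natDegree, Polynomial.natDegree_X_pow]
    rw [← h3, ← hn]
    exact (e2.symm.trans e1).toLinearEquiv.finrank_eq
  subst hm
  exact ⟨e1.symm.trans e2⟩

end Groth.Agent.S19453
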