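import Groth.Statements.S19479
import Mathlib
import Groth.Agent.Lib.helper9.Comod

set_option autoImplicit false
universe u v w
open HopfRep

namespace Groth.Agent.S19479

open TensorProduct in
/-- Let K be a field, C a K-coalgebra and V a right C-comodule. The following are equivalent: (i) V is
the internal direct sum of a family of simple subcomodules, i.e. there is an independent family of
subcomodules W_i with sum V, each W_i nonzero and having no subcomodules inside it other than 0 and
W_i; (ii) every subcomodule of V has a complementary subcomodule. A subcomodule is a subspace W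
whose coaction lands in the image of W ⊗ C. (The source states this for left comodules; a left
comodule over C is a right comodule over the co-opposite coalgebra, so the statement is the same.) -/
theorem result {K : Type u} {C : Type v} [Field K]
    [AddCommGroup C] [Module K C] [Coalgebra K C] (V : Type w) [AddCommGroup V] [Module K V] [HopfRep.Comod K C V] :
    (∃ (ι : Type w) (W : ι → Submodule K V), iSupIndep W ∧ iSup W = ⊤ ∧ ∀ i,
        HopfRep.IsSubcomod (k := K) (A := C) (W i) ∧ W i ≠ ⊥ ∧
          ∀ W' : Submodule K V, HopfRep.IsSubcomod (k := K) (A := C) W' → W' ≤ W i → W' = ⊥ ∨ W' = W i) ↔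
      HopfRep.IsSemisimpleComod K C V := by
  constructor
  · rintro ⟨ι, W, -, hsup, hW⟩
    rw [← H9Comod.complementedLattice_iff]
    apply complementedLattice_of_sSup_atoms_eq_top
    apply Subtype.ext
    rw [CompleteSublattice.coe_sSup', CompleteSublattice.coe_top, eq_top_iff, ← hsup]
    apply iSup_le
    intro i
    have hat : IsAtom (⟨W i, (hW i).1⟩ : H9Comod.subL K C V) :=
      (H9Comod.isAtom_iff _).2 (hW i).2
    exact le_iSup₂_of_le (⟨W i, (hW i).1⟩ : H9Comod.subL K C V) hat le_rfl
  · intro hV
    have : ComplementedLattice (H9Comod.subL K C V) := H9Comod.complementedLattice_iff.2 hV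
    obtain ⟨s, hind, hsup, hat⟩ :=
      exists_sSupIndep_of_sSup_atoms_eq_top (sSup_atoms_eq_top (α := H9Comod.subL K C V))
    refine ⟨↥s, fun i => ((i : H9Comod.subL K C V) : Submodule K V), ?_, ?_, ?_⟩
    · intro i
      have h1 := hind i.2
      rw [disjoint_iff] at h1 ⊢
      have h2 := congrArg (fun x : H9Comod.subL K C V => (x : Submodule K V)) h1
      simp only [CompleteSublattice.coe_bot] at h2
      rw [eq_bot_iff, ← h2]
      change _ ≤ ((i : H9Comod.subL K C V) : Submodule K V) ⊓
        ((sSup (s \ {(i : H9Comod.subL K C V)}) : H9Comod.subL K C V) : Submodule K V)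
      apply inf_le_inf_left
      rw [CompleteSublattice.coe_sSup']
      apply iSup₂_le
      intro j hj
      exact le_iSup₂_of_le (j : H9Comod.subL K C V)
        ⟨j.2, fun h => hj (Subtype.ext h)⟩ le_rfl
    · have h2 := congrArg (fun x : H9Comod.subL K C V => (x : Submodule K V)) hsup
      simp only [CompleteSublattice.coe_sSup', CompleteSublattice.coe_top] at h2
      rw [eq_top_iff, ← h2]
      apply iSup₂_le
      intro N hN
      exact le_iSup_of_le (⟨N, hN⟩ : ↥s) le_rfl
    · intro i
      exact ⟨i.1.2, (H9Comod.isAtom_iff i.1).1 (hat i.2)⟩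

end Groth.Agent.S19479
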