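import Groth.Statements.S19522
import Mathlib

set_option autoImplicit false
universe u
open TensorProduct
open GLin

namespace Groth.Agent.S19522

section inv
variable {k : Type u} [Field k] {A : Type u} [CommRing A] [Bialgebra k A]
  {R : Type u} [CommRing R] [Algebra k R]

noncomputable def Φ (s : ℕ) : Polynomial R ⊗[k] A →ₗ[k] R ⊗[k] A :=
  LinearMap.rTensor A ((Polynomial.lcoeff R s).restrictScalars k)

theorem Φ_tmul (s : ℕ) (p : Polynomial R) (a : A) :
    Φ (k := k) s (p ⊗ₜ[k] a) = p.coeff s ⊗ₜ[k] a := by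
  rw [Φ, LinearMap.rTensor_tmul]; rfl

theorem Φ_key (s r : ℕ) (z : R ⊗[k] A) (a : A) :
    Φ (k := k) s (Algebra.TensorProduct.map (Polynomial.CAlgHom : R →ₐ[k] Polynomial R)
      (AlgHom.id k A) z * ((Polynomial.X ^ r : Polynomial R) ⊗ₜ[k] a)) =
      if r = s then z * ((1 : R) ⊗ₜ[k] a) else 0 := by
  induction z using TensorProduct.induction_on with
  | zero => simp
  | tmul ρ b =>
    rw [Algebra.TensorProduct.map_tmul, Algebra.TensorProduct.tmul_mul_tmul, Φ_tmul]
    show (Polynomial.coeff (Polynomial.C ρ * Polynomial.X ^ r) s) ⊗ₜ[k] (b * a) = _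
    rw [Polynomial.coeff_C_mul_X_pow]
    by_cases h : r = s
    · subst h
      rw [if_pos rfl, if_pos rfl, Algebra.TensorProduct.tmul_mul_tmul, mul_one]
    · rw [if_neg (fun h' => h h'.symm), if_neg h, TensorProduct.zero_tmul]
  | add x y hx hy =>
    rw [map_add, add_mul, map_add, hx, hy]
    by_cases h : r = s
    · rw [if_pos h, if_pos h, if_pos h, add_mul]
    · rw [if_neg h, if_neg h, if_neg h, add_zero]

theorem main [HopfRep.Comod k A R] [GLin.IsCoactAlg k A R]
    [HopfRep.Comod k A (Polynomial R)] [GLin.IsCoactAlg k A (Polynomial R)]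
    (χ χ' : A) (hχχ' : χ * χ' = 1)
    (hC : ∀ r : R, HopfRep.Comod.coact (k := k) (A := A) (Polynomial.C r) =
      Algebra.TensorProduct.map (Polynomial.CAlgHom : R →ₐ[k] Polynomial R) (AlgHom.id k A)
        (HopfRep.Comod.coact (k := k) (A := A) r))
    (hX : HopfRep.Comod.coact (k := k) (A := A) (Polynomial.X : Polynomial R) =
      Polynomial.X ⊗ₜ[k] χ')
    (g : Polynomial R) :
    g ∈ GLin.invariants k A (Polynomial R) ↔
      ∀ r : ℕ, g.coeff r ∈ HopfRep.eigenspace k A R (χ ^ r) := by
  have hmon : ∀ (a : R) (r : ℕ), HopfRep.Comod.coact (k := k) (A := A)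
      (Polynomial.C a * Polynomial.X ^ r : Polynomial R) =
      Algebra.TensorProduct.map (Polynomial.CAlgHom : R →ₐ[k] Polynomial R) (AlgHom.id k A)
        (HopfRep.Comod.coact (k := k) (A := A) a) *
        ((Polynomial.X ^ r : Polynomial R) ⊗ₜ[k] (χ' ^ r)) := by
    intro a r
    rw [← GLin.coactAlgHom_apply, map_mul, map_pow, GLin.coactAlgHom_apply,
      GLin.coactAlgHom_apply, hC, hX, Algebra.TensorProduct.tmul_pow]
  have hsum : HopfRep.Comod.coact (k := k) (A := A) g =
      ∑ r ∈ Finset.range (g.natDegree + 1),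
        Algebra.TensorProduct.map (Polynomial.CAlgHom : R →ₐ[k] Polynomial R) (AlgHom.id k A)
          (HopfRep.Comod.coact (k := k) (A := A) (g.coeff r)) *
          ((Polynomial.X ^ r : Polynomial R) ⊗ₜ[k] (χ' ^ r)) := by
    conv_lhs => rw [g.as_sum_range_C_mul_X_pow]
    rw [map_sum]
    exact Finset.sum_congr rfl fun r _ => hmon _ r
  constructor
  · intro hinv s
    rw [GLin.mem_invariants_iff] at hinv
    by_cases hs : g.coeff s = 0
    · rw [hs]; exact Submodule.zero_mem _
    have hsr : s ∈ Finset.range (g.natDegree + 1) :=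
      Finset.mem_range.mpr (Nat.lt_succ_of_le (Polynomial.le_natDegree_of_ne_zero hs))
    have h1 := congrArg (Φ (k := k) s) hinv
    rw [hsum, map_sum, Φ_tmul] at h1
    simp_rw [Φ_key] at h1
    rw [Finset.sum_ite_eq', if_pos hsr] at h1
    show HopfRep.Comod.coact (k := k) (A := A) (g.coeff s) = g.coeff s ⊗ₜ[k] (χ ^ s)
    calc HopfRep.Comod.coact (k := k) (A := A) (g.coeff s)
        = HopfRep.Comod.coact (k := k) (A := A) (g.coeff s) *
            ((1 : R) ⊗ₜ[k] (χ' ^ s * χ ^ s)) := by
          rw [← mul_pow, mul_comm χ' χ, hχχ', one_pow, ← Algebra.TensorProduct.one_def, mul_one]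
      _ = (HopfRep.Comod.coact (k := k) (A := A) (g.coeff s) * ((1 : R) ⊗ₜ[k] (χ' ^ s))) *
            ((1 : R) ⊗ₜ[k] (χ ^ s)) := by
          rw [mul_assoc, Algebra.TensorProduct.tmul_mul_tmul, mul_one]
      _ = (g.coeff s ⊗ₜ[k] (1 : A)) * ((1 : R) ⊗ₜ[k] (χ ^ s)) := by rw [h1]
      _ = g.coeff s ⊗ₜ[k] (χ ^ s) := by
          rw [Algebra.TensorProduct.tmul_mul_tmul, mul_one, one_mul]
  · intro h
    rw [GLin.mem_invariants_iff, hsum]
    have hterm : ∀ r ∈ Finset.range (g.natDegree + 1),
        Algebra.TensorProduct.map (Polynomial.CAlgHom : R →ₐ[k] Polynomial R) (AlgHom.id k A)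
          (HopfRep.Comod.coact (k := k) (A := A) (g.coeff r)) *
          ((Polynomial.X ^ r : Polynomial R) ⊗ₜ[k] (χ' ^ r)) =
        (Polynomial.C (g.coeff r) * Polynomial.X ^ r) ⊗ₜ[k] (1 : A) := by
      intro r _
      have hr : HopfRep.Comod.coact (k := k) (A := A) (g.coeff r) = g.coeff r ⊗ₜ[k] (χ ^ r) := h r
      rw [hr, Algebra.TensorProduct.map_tmul, Algebra.TensorProduct.tmul_mul_tmul,
        AlgHom.id_apply, ← mul_pow, hχχ', one_pow]
      rfl
    rw [Finset.sum_congr rfl hterm, ← TensorProduct.sum_tmul, ← g.as_sum_range_C_mul_X_pow]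

end inv

/-- Let k be a field, A a commutative k-bialgebra coacting multiplicatively on a commutative k-algebra
R, and χ ∈ A a group-like element with an inverse χ' (χχ' = 1). Suppose the polynomial ring R[t]
carries a multiplicative coaction which restricts to the given one on constants and sends t to t ⊗
χ'. Then g ∈ R[t] is coinvariant if and only if, for every r, its r-th coefficient has coaction g_r
↦ g_r ⊗ χ^r; that is, the ring of invariants of R[t] is the sum over r ≥ 0 of the weight-χ^r
semi-invariants of R times t^r. (The published statement is phrased for an affine variety with an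
action of a linear algebraic group over an algebraically closed field of characteristic zero and
identifies the invariants of X × A¹ with the graded ring of invariant sections of the powers of the
linearised trivial bundle; this is its coordinate-ring content, valid over any field.) -/
theorem result (k : Type u) [Field k]
    (A : Type u) [CommRing A] [Bialgebra k A]
    (R : Type u) [CommRing R] [Algebra k R] [HopfRep.Comod k A R] [GLin.IsCoactAlg k A R]
    [HopfRep.Comod k A (Polynomial R)] [GLin.IsCoactAlg k A (Polynomial R)]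
    (χ χ' : A) (hχ : CoalgebraStruct.comul (R := k) (A := A) χ = χ ⊗ₜ[k] χ)
    (hχε : CoalgebraStruct.counit (R := k) (A := A) χ = 1) (hχχ' : χ * χ' = 1)
    (hC : ∀ r : R, HopfRep.Comod.coact (k := k) (A := A) (Polynomial.C r) =
      Algebra.TensorProduct.map (Polynomial.CAlgHom : R →ₐ[k] Polynomial R) (AlgHom.id k A)
        (HopfRep.Comod.coact (k := k) (A := A) r))
    (hX : HopfRep.Comod.coact (k := k) (A := A) (Polynomial.X : Polynomial R) = Polynomial.X ⊗ₜ[k] χ')
    (g : Polynomial R) :
    g ∈ GLin.invariants k A (Polynomial R) ↔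
      ∀ r : ℕ, g.coeff r ∈ HopfRep.eigenspace k A R (χ ^ r) := by
  exact main χ χ' hχχ' hC hX g

end Groth.Agent.S19522
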