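import Groth.Statements.S19540
import Mathlib

set_option autoImplicit false
open CategoryTheory CategoryTheory.Limits Opposite
universe w v u
open CohSite

namespace Groth.Agent.S19540

/-- Let (C, J) be a site and B a class of objects of C, each weakly contractible (every epimorphism of
sheaves of sets, valued in a fixed universe, is surjective on sections over it), such that every
object V of C has a covering sieve all of whose arrows factor through some object of B. Then a
three-term complex F ⟶ G ⟶ H of abelian sheaves on (C, J) is exact if and only if for every U in B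
the sequence of section groups F(U) ⟶ G(U) ⟶ H(U) is exact. (The published statement is for sheaves
of modules over a sheaf of rings O; this row is the case of the constant sheaf of rings ℤ, i.e.
abelian sheaves, to which exactness questions for O-modules reduce. The universe set-up assumes that
abelian sheafification exists and inverts exactly the locally bijective maps, as on any small site.) -/
theorem result
    {C : Type u} [Category.{v} C] (J : GrothendieckTopology C) [HasSheafify J AddCommGrpCat.{w}]
    [J.WEqualsLocallyBijective AddCommGrpCat.{w}]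
    (B : C → Prop)
    (hB : ∀ U : C, B U → ∀ (P Q : Sheaf J (Type w)) (ψ : P ⟶ Q), Epi ψ → Function.Surjective (ψ.hom.app (op U)))
    (hcov : ∀ V : C, ∃ S : Sieve V, S ∈ J V ∧ ∀ ⦃W : C⦄ (f : W ⟶ V), S.arrows f →
      ∃ (U : C) (g : W ⟶ U) (h : U ⟶ V), B U ∧ g ≫ h = f)
    (S : ShortComplex (Sheaf J AddCommGrpCat.{w})) :
    S.Exact ↔ ∀ U : C, B U →
      (S.map (sheafToPresheaf J AddCommGrpCat.{w} ⋙ (evaluation Cᵒᵖ AddCommGrpCat.{w}).obj (op U))).Exact := by
  have hT : ∀ U : C, ((ShortComplex.mk S.iCycles S.g S.iCycles_g).map
      (sheafToPresheaf J AddCommGrpCat.{w} ⋙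
        (evaluation Cᵒᵖ AddCommGrpCat.{w}).obj (op U))).Exact := by
    intro U
    exact ShortComplex.Exact.map_of_mono_of_preservesKernel
      (ShortComplex.exact_of_f_is_kernel _ S.cyclesIsKernel) _ (by dsimp; infer_instance)
      inferInstance
  have hker : ∀ (U : C) (x : (S.X₂.obj.obj (op U) : Type w)), (S.g.hom.app (op U)) x = 0 →
      ∃ y : (S.cycles.obj.obj (op U) : Type w), (S.iCycles.hom.app (op U)) y = x := by
    intro U x hx
    exact (ShortComplex.ab_exact_iff _).1 (hT U) x hx
  have hinj : ∀ (U : C), Function.Injective (S.iCycles.hom.app (op U)) := by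
    intro U
    have : Mono ((sheafToPresheaf J AddCommGrpCat.{w} ⋙
        (evaluation Cᵒᵖ AddCommGrpCat.{w}).obj (op U)).map S.iCycles) := inferInstance
    exact (AddCommGrpCat.mono_iff_injective _).1 this
  have hfac : ∀ (U : C) (z : (S.X₁.obj.obj (op U) : Type w)),
      (S.iCycles.hom.app (op U)) ((S.toCycles.hom.app (op U)) z) = (S.f.hom.app (op U)) z := by
    intro U z
    have e : S.toCycles.hom.app (op U) ≫ S.iCycles.hom.app (op U) = S.f.hom.app (op U) := by
      have := congrArg (fun φ => φ.hom.app (op U)) S.toCycles_i
      exact this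
    rw [← e, ConcreteCategory.comp_apply]
  constructor
  · intro hS U hU
    rw [ShortComplex.ab_exact_iff]
    intro x hx
    obtain ⟨y, hy⟩ := hker U x hx
    haveI : Epi S.toCycles := S.exact_iff_epi_toCycles.1 hS
    haveI : Sheaf.IsLocallySurjective S.toCycles :=
      (Sheaf.isLocallySurjective_iff_epi' AddCommGrpCat.{w} S.toCycles).2 inferInstance
    have hsurj := hB U hU _ _ ((sheafCompose J (forget AddCommGrpCat.{w})).map S.toCycles)
      inferInstance
    obtain ⟨z, hz⟩ := hsurj y
    refine ⟨z, ?_⟩
    have hz' : (S.toCycles.hom.app (op U)) z = y := hz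
    show (S.f.hom.app (op U)) z = x
    rw [← hfac, hz', hy]
  · intro h
    rw [S.exact_iff_epi_toCycles]
    haveI : Sheaf.IsLocallySurjective S.toCycles := by
      constructor
      intro V s
      obtain ⟨S₀, hS₀, hS₀'⟩ := hcov V
      refine J.superset_covering ?_ hS₀
      intro W f hf
      obtain ⟨U, g, k, hU, hgk⟩ := hS₀' f hf
      have e0 : S.iCycles.hom.app (op U) ≫ S.g.hom.app (op U) = 0 := by
        have := congrArg (fun φ => φ.hom.app (op U)) S.iCycles_g
        exact this
      have hx : (S.g.hom.app (op U)) ((S.iCycles.hom.app (op U))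
          ((S.cycles.obj.map k.op) s)) = 0 := by
        rw [← ConcreteCategory.comp_apply, e0]
        rfl
      obtain ⟨z, hz⟩ := (ShortComplex.ab_exact_iff _).1 (h U hU) _ hx
      have hz' : (S.f.hom.app (op U)) z =
          (S.iCycles.hom.app (op U)) ((S.cycles.obj.map k.op) s) := hz
      have hz2 : (S.toCycles.hom.app (op U)) z = (S.cycles.obj.map k.op) s := by
        apply hinj U
        rw [hfac, hz']
      refine ⟨(S.X₁.obj.map g.op) z, ?_⟩
      rw [NatTrans.naturality_apply, hz2, ← hgk]
      simp
    infer_instance

end Groth.Agent.S19540
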