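import Groth.Statements.S19548
import Mathlib

set_option autoImplicit false
universe u
open CategoryTheory AlgebraicGeometry
open RedSub

namespace Groth.Agent.S19548

theorem closure_sum {idx M N : Type} [AddCommGroup M] [AddCommGroup N]
    (P : RootPairing idx ℤ M N) (b : P.Base)
    (m : M) (hm : m ∈ AddSubmonoid.closure (P.root '' (b.support : Set idx))) :
    ∃ f : idx → ℕ, m = ∑ j ∈ b.support, f j • P.root j := by
  classical
  refine AddSubmonoid.closure_induction ?_ ⟨0, by simp⟩ ?_ hm
  · intro x hx
    obtain ⟨j, hj, rfl⟩ := hx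
    refine ⟨Pi.single j 1, ?_⟩
    rw [Finset.sum_eq_single j]
    · simp
    · intro k _ hkj
      simp [Pi.single_apply, hkj]
    · intro hj'
      exact absurd (Finset.mem_coe.mp hj) hj'
  · rintro x y _ _ ⟨f, rfl⟩ ⟨g, rfl⟩
    exact ⟨f + g, by simp [add_smul, Finset.sum_add_distrib]⟩

theorem isPos_of_mem_pos {idx M N : Type} [AddCommGroup M] [AddCommGroup N]
    (P : RootPairing idx ℤ M N) (b : P.Base) (a : idx) (ha : a ∈ RedSub.posRoots P b) :
    b.IsPos a := by
  obtain ⟨f, hf⟩ := closure_sum P b _ ha
  rw [RootPairing.Base.isPos_iff']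
  have h : P.root a = ∑ j ∈ b.support, ((f j : ℤ)) • P.root j :=
    hf.trans (Finset.sum_congr rfl (fun j _ => (natCast_zsmul _ _).symm))
  rw [RootPairing.Base.height_eq_sum h]
  exact Finset.sum_nonneg (fun j _ => Int.natCast_nonneg _)

theorem not_isPos_of_mem_neg {idx M N : Type} [AddCommGroup M] [AddCommGroup N]
    (P : RootPairing idx ℤ M N) (b : P.Base) (a : idx) (ha : a ∈ RedSub.negRoots P b) :
    ¬ b.IsPos a := by
  obtain ⟨f, hf⟩ := closure_sum P b _ ha
  have h : P.root a = ∑ j ∈ b.support, (-(f j : ℤ)) • P.root j := by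
    have h1 : P.root a = -∑ j ∈ b.support, f j • P.root j := by rw [← hf, neg_neg]
    rw [h1, ← Finset.sum_neg_distrib]
    refine Finset.sum_congr rfl (fun j _ => ?_)
    rw [neg_smul, natCast_zsmul]
  rw [RootPairing.Base.isPos_iff, RootPairing.Base.height_eq_sum h, not_lt]
  exact Finset.sum_nonpos (fun j _ => neg_nonpos.mpr (Int.natCast_nonneg _))

theorem reflPerm_conj {idx M N : Type} [AddCommGroup M] [AddCommGroup N]
    (P : RootPairing idx ℤ M N) (i j : idx) :
    P.reflectionPerm (P.reflectionPerm j i) =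
      P.reflectionPerm j * P.reflectionPerm i * P.reflectionPerm j := by
  ext k
  apply P.root.injective
  simp only [Equiv.Perm.mul_apply, RootPairing.root_reflectionPerm]
  rw [RootPairing.reflection_reflectionPerm]
  rfl

theorem conj_word {idx M N : Type} [AddCommGroup M] [AddCommGroup N]
    (P : RootPairing idx ℤ M N) (u : List idx) (a : idx) :
    P.reflectionPerm (RedSub.wordPerm P u a) =
      RedSub.wordPerm P u * P.reflectionPerm a * (RedSub.wordPerm P u)⁻¹ := by
  induction u with
  | nil => simp [RedSub.wordPerm]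
  | cons x u ih =>
    have hcons : RedSub.wordPerm P (x :: u) = P.reflectionPerm x * RedSub.wordPerm P u := by
      simp [RedSub.wordPerm]
    rw [hcons, Equiv.Perm.mul_apply, reflPerm_conj, ih, mul_inv_rev,
      RootPairing.reflectionPerm_inv]
    simp only [mul_assoc]

theorem exists_switch (p : ℕ → Prop) (n : ℕ) (h0 : p 0) (hn : ¬ p n) :
    ∃ i, i < n ∧ p i ∧ ¬ p (i + 1) := by
  induction n with
  | zero => exact absurd h0 hn
  | succ n ih =>
    by_cases hpn : p n
    · exact ⟨n, Nat.lt_succ_self n, hpn, hn⟩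
    · obtain ⟨i, hi, h1, h2⟩ := ih hpn
      exact ⟨i, Nat.lt_succ_of_lt hi, h1, h2⟩

/-- Let Φ be a finite reduced root system (a reduced root pairing over ℤ on a finite index set) with a
base b, let w = σ_{α_1} ⋯ σ_{α_ℓ} be a reduced decomposition of a Weyl group element into simple
reflections (every α_j in the base, and no shorter word in the simple reflections gives the same
permutation of the roots), and let γ be a positive root with w⁻¹(γ) negative. Then for some i with 1
≤ i ≤ ℓ one has σ_γ σ_{α_1} ⋯ σ_{α_i} = σ_{α_1} ⋯ σ_{α_{i-1}}. (Indices are shifted by one below: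
the word is a list and the prefixes are its first i + 1 and first i letters.) -/
theorem result {idx M N : Type}
    [AddCommGroup M] [AddCommGroup N] [Finite idx]
    (P : RootPairing idx ℤ M N) [P.IsReduced] (b : P.Base) (l : List idx)
    (hl : ∀ a ∈ l, a ∈ b.support)
    (hred : ∀ l' : List idx, (∀ a ∈ l', a ∈ b.support) →
      RedSub.wordPerm P l' = RedSub.wordPerm P l → l.length ≤ l'.length)
    (c : idx) (hc : c ∈ RedSub.posRoots P b) (hneg : (RedSub.wordPerm P l).symm c ∈ RedSub.negRoots P b) :
    ∃ i : ℕ, i < l.length ∧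
      P.reflectionPerm c * RedSub.wordPerm P (l.take (i + 1)) = RedSub.wordPerm P (l.take i) := by
  have hstep : ∀ i (hi : i < l.length), RedSub.wordPerm P (l.take (i + 1)) =
      RedSub.wordPerm P (l.take i) * P.reflectionPerm (l[i]) := by
    intro i hi
    unfold RedSub.wordPerm
    rw [List.take_succ_eq_append_getElem hi, List.map_append, List.prod_append]
    simp
  have h0 : b.IsPos ((RedSub.wordPerm P (l.take 0)).symm c) := by
    have h1 : RedSub.wordPerm P (l.take 0) = 1 := by simp [RedSub.wordPerm]
    rw [h1]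
    exact isPos_of_mem_pos P b c hc
  have hn : ¬ b.IsPos ((RedSub.wordPerm P (l.take l.length)).symm c) := by
    rw [List.take_length]
    exact not_isPos_of_mem_neg P b _ hneg
  obtain ⟨i, hi, hpi, hni⟩ := exists_switch
    (fun j => b.IsPos ((RedSub.wordPerm P (l.take j)).symm c)) l.length h0 hn
  have hpi' : b.IsPos ((RedSub.wordPerm P (l.take i)).symm c) := hpi
  have hni' : ¬ b.IsPos ((RedSub.wordPerm P (l.take (i + 1))).symm c) := hni
  refine ⟨i, hi, ?_⟩
  have hα : l[i] ∈ b.support := hl _ (List.getElem_mem hi)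
  have hci : (RedSub.wordPerm P (l.take (i + 1))).symm c =
      P.reflectionPerm (l[i]) ((RedSub.wordPerm P (l.take i)).symm c) := by
    rw [hstep i hi]
    show ((RedSub.wordPerm P (l.take i) * P.reflectionPerm (l[i]))⁻¹) c = _
    rw [mul_inv_rev, RootPairing.reflectionPerm_inv]
    rfl
  have heq : (RedSub.wordPerm P (l.take i)).symm c = l[i] := by
    by_contra hne
    apply hni'
    rw [hci]
    exact hpi'.reflectionPerm hα hne
  have hc' : c = RedSub.wordPerm P (l.take i) (l[i]) := by
    rw [← heq, Equiv.apply_symm_apply]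
  have hss : P.reflectionPerm (l[i]) * P.reflectionPerm (l[i]) = 1 := by
    rw [← sq]
    exact P.reflectionPerm_sq _
  rw [hstep i hi, hc', conj_word]
  rw [mul_assoc (_ * _), inv_mul_cancel_left, mul_assoc, hss, mul_one]

end Groth.Agent.S19548
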