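import Groth.Statements.S19550
import Mathlib

set_option autoImplicit false
universe u
open SchFin SchFin.RSpace

namespace Groth.Agent.S19550

theorem nil_idem {O : Type*} [CommRing O] (e : O) (he : e * e = e) (hn : IsNilpotent e) :
    e = 0 := by
  obtain ⟨n, hn⟩ := hn
  have hpow : ∀ m : ℕ, e ^ (m + 1) = e := by
    intro m
    induction m with
    | zero => rw [zero_add, pow_one]
    | succ m ih => rw [pow_succ, ih, he]
  cases n with
  | zero =>
    rw [pow_zero] at hn
    rw [← mul_one e, hn, mul_zero]
  | succ n =>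
    rw [hpow n] at hn
    exact hn

theorem idem_of_connected {O : Type*} [CommRing O] [ConnectedSpace (PrimeSpectrum O)] (e : O)
    (he : e * e = e) : e = 0 ∨ e = 1 := by
  have hclopen : IsClopen (PrimeSpectrum.basicOpen e : Set (PrimeSpectrum O)) :=
    PrimeSpectrum.isClopen_iff.mpr ⟨e, he, rfl⟩
  rcases isClopen_iff.mp hclopen with h | h
  · left
    rw [TopologicalSpace.Opens.coe_eq_empty, PrimeSpectrum.basicOpen_eq_bot_iff] at h
    exact nil_idem e he h
  · right
    rw [TopologicalSpace.Opens.coe_eq_univ] at h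
    have h1 : PrimeSpectrum.basicOpen ((1 - e) * e) =
        PrimeSpectrum.basicOpen (1 - e) ⊓ PrimeSpectrum.basicOpen e :=
      PrimeSpectrum.basicOpen_mul _ _
    have h2 : (1 - e) * e = 0 := by
      have : (1 - e) * e = e - e * e := by ring
      rw [this, he, sub_self]
    rw [h2, PrimeSpectrum.basicOpen_zero, h, inf_top_eq] at h1
    have h3 : IsNilpotent (1 - e) := (PrimeSpectrum.basicOpen_eq_bot_iff _).mp h1.symm
    have h4 : (1 - e) * (1 - e) = 1 - e := by
      have : (1 - e) * (1 - e) = 1 - e - e + e * e := by ring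
      rw [this, he]
      ring
    have h5 := nil_idem (1 - e) h4 h3
    exact (sub_eq_zero.mp h5).symm

theorem nontrivial_of_conn {O : Type*} [CommRing O] [ConnectedSpace (PrimeSpectrum O)] :
    Nontrivial O := by
  obtain ⟨x⟩ := (inferInstance : Nonempty (PrimeSpectrum O))
  refine ⟨⟨1, 0, fun h => x.2.ne_top ((Ideal.eq_top_iff_one _).mpr ?_)⟩⟩
  rw [h]
  exact Ideal.zero_mem _

theorem pt_lemma {O : Type*} [CommRing O] [ConnectedSpace (PrimeSpectrum O)] {F E : Type}
    [Finite F] (ψ : (F → O) →ₐ[O] (E → O)) (e : E) : ∃ i : F, ∀ g : F → O, ψ g e = g i := by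
  classical
  haveI := Fintype.ofFinite F
  haveI : Nontrivial O := nontrivial_of_conn
  obtain ⟨ε, hε⟩ : ∃ ε : F → O, ∀ i, ε i = ψ (Pi.single i 1) e := ⟨_, fun _ => rfl⟩
  have hidem : ∀ i, ε i * ε i = ε i := by
    intro i
    rw [hε, ← Pi.mul_apply, ← map_mul, ← Pi.single_mul, mul_one]
  have hortho : ∀ i j, i ≠ j → ε i * ε j = 0 := by
    intro i j hij
    have hz : (Pi.single i (1 : O) : F → O) * Pi.single j 1 = 0 := by
      ext k
      by_cases hk : k = i
      · subst hk
        simp [Pi.single_eq_of_ne hij]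
      · simp [Pi.single_eq_of_ne hk]
    rw [hε, hε, ← Pi.mul_apply, ← map_mul, hz, map_zero, Pi.zero_apply]
  have hsum : ∑ i, ε i = 1 := by
    have h1 : ∑ i, (Pi.single i (1 : O) : F → O) = 1 := Finset.univ_sum_single (1 : F → O)
    have h2 : ψ (∑ i, (Pi.single i (1 : O) : F → O)) e = 1 := by
      rw [h1, map_one, Pi.one_apply]
    rw [map_sum, Finset.sum_apply] at h2
    rw [← h2]
    exact Finset.sum_congr rfl (fun i _ => hε i)
  obtain ⟨i, hi⟩ : ∃ i, ε i = 1 := by
    by_contra hno
    have hall : ∀ i, ε i = 0 := by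
      intro i
      rcases idem_of_connected (ε i) (hidem i) with h | h
      · exact h
      · exact absurd ⟨i, h⟩ hno
    rw [Finset.sum_eq_zero (fun i _ => hall i)] at hsum
    exact zero_ne_one hsum
  have hzero : ∀ j, j ≠ i → ε j = 0 := by
    intro j hji
    rw [← mul_one (ε j), ← hi]
    exact hortho j i hji
  refine ⟨i, ?_⟩
  intro g
  have hs : ∀ j, (Pi.single j (g j) : F → O) = g j • (Pi.single j (1 : O) : F → O) := by
    intro j
    ext k
    by_cases hk : k = j
    · subst hk
      simp
    · simp [Pi.single_eq_of_ne hk]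
  have hg : g = ∑ j, g j • (Pi.single j (1 : O) : F → O) := by
    rw [← Finset.sum_congr rfl (fun j _ => hs j)]
    exact (Finset.univ_sum_single g).symm
  calc ψ g e = ψ (∑ j, g j • (Pi.single j (1 : O) : F → O)) e := by rw [← hg]
    _ = ∑ j, g j * ε j := by
      rw [map_sum, Finset.sum_apply]
      refine Finset.sum_congr rfl (fun j _ => ?_)
      rw [map_smul, Pi.smul_apply, smul_eq_mul, hε]
    _ = g i * ε i := Finset.sum_eq_single i (fun j _ hji => by rw [hzero j hji, mul_zero])
        (fun h => absurd (Finset.mem_univ i) h)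
    _ = g i := by rw [hi, mul_one]

open SchFin in
/-- Let X be a well-connected schematic finite space and f : A → B a morphism of quasi-coherent algebras
between trivial étale covers A ≅ O_X^F and B ≅ O_X^E, F and E finite sets. Then f is induced by a
map of finite sets φ : E → F. Here the trivial algebras are written out: f is a family of
O_p-algebra maps (F → O_p) → (E → O_p), one for each point p, compatible with the restriction maps,
and the conclusion says f_p(g) = g ∘ φ for every p and g. (The published statement names a map F →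
E; a map of algebras of functions O^F → O^E is composition with a map E → F, which is what this row
states.) -/
theorem result (X : RSpace.{u})
    (hX : X.IsSchematic) (hW : X.IsWellConnected) (F E : Type) [Finite F] [Finite E]
    (f : ∀ p : X.pt, (F → X.ring p) →ₐ[X.ring p] (E → X.ring p))
    (hf : ∀ (p q : X.pt) (h : p ≤ q) (g : F → X.ring p) (e : E),
      X.res h (f p g e) = f q (fun i => X.res h (g i)) e) :
    ∃ φ : E → F, ∀ (p : X.pt) (g : F → X.ring p) (e : E), f p g e = g (φ e) := by
  classical
  obtain ⟨hconn, hpw⟩ := hW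
  have hnt : ∀ p, Nontrivial (X.ring p) := by
    intro p
    haveI : ConnectedSpace (PrimeSpectrum (X.ring p)) := hpw p
    exact nontrivial_of_conn
  have hpt : ∀ p : X.pt, ∃ φ : E → F, ∀ g e, f p g e = g (φ e) := by
    intro p
    haveI : ConnectedSpace (PrimeSpectrum (X.ring p)) := hpw p
    choose φ hφ using fun e => pt_lemma (f p) e
    exact ⟨φ, fun g e => hφ e g⟩
  choose Φ hΦ using hpt
  have hmono : ∀ p q, p ≤ q → Φ p = Φ q := by
    intro p q h
    funext e
    by_contra hne
    haveI := hnt q
    have h1 := hf p q h (Pi.single (Φ p e) 1) e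
    rw [hΦ p, hΦ q] at h1
    simp only [Pi.single_eq_same, map_one] at h1
    rw [Pi.single_eq_of_ne (Ne.symm hne), map_zero] at h1
    exact one_ne_zero h1
  haveI : ConnectedSpace (PrimeSpectrum (X.sectRing Set.univ)) := hconn
  have hne : Nonempty X.pt := by
    by_contra hemp
    rw [not_nonempty_iff] at hemp
    obtain ⟨x⟩ := (inferInstance : Nonempty (PrimeSpectrum (X.sectRing Set.univ)))
    apply x.2.ne_top
    rw [Ideal.eq_top_iff_one]
    have h10 : (1 : X.sectRing Set.univ) = 0 := by
      apply Subtype.ext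
      funext q
      exact (hemp.false q.1).elim
    rw [h10]
    exact Ideal.zero_mem _
  obtain ⟨p₀⟩ := hne
  have hall : ∀ q, Φ q = Φ p₀ := by
    intro q
    obtain ⟨s, hs_def⟩ : ∃ s : (a : (Set.univ : Set X.pt)) → X.ring a.1,
        ∀ a, s a = if Φ a.1 = Φ p₀ then 1 else 0 := ⟨_, fun _ => rfl⟩
    have hs : s ∈ X.sectRing Set.univ := by
      show ∀ (a b : (Set.univ : Set X.pt)) (h : a.1 ≤ b.1), X.res h (s a) = s b
      intro a b hab
      rw [hs_def, hs_def, hmono a.1 b.1 hab]
      split_ifs <;> simp
    obtain ⟨S, hSval⟩ : ∃ S : X.sectRing Set.univ, S.1 = s := ⟨⟨s, hs⟩, rfl⟩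
    have hS : S * S = S := by
      apply Subtype.ext
      rw [Subring.coe_mul, hSval]
      funext a
      rw [Pi.mul_apply, hs_def]
      split_ifs <;> simp
    rcases idem_of_connected S hS with h0 | h1
    · exfalso
      have h2 : s ⟨p₀, trivial⟩ = 0 := by
        rw [← hSval, h0]
        rfl
      rw [hs_def, if_pos rfl] at h2
      haveI := hnt p₀
      exact one_ne_zero h2
    · by_contra hq
      have h2 : s ⟨q, trivial⟩ = 1 := by
        rw [← hSval, h1]
        rfl
      rw [hs_def, if_neg hq] at h2
      haveI := hnt q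
      exact zero_ne_one h2
  refine ⟨Φ p₀, ?_⟩
  intro p g e
  rw [← hall p]
  exact hΦ p g e

end Groth.Agent.S19550
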