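import Groth.Statements.S19551
import Mathlib

set_option autoImplicit false
universe u v w
open KronMod

namespace Groth.Agent.S19551

open Polynomial

theorem h9_coeff_succ {K : Type*} [Field K] (a b : K) (q : K[X]) (n : ℕ) :
    ((C a + X * C b) * q).coeff (n + 1) = a * q.coeff (n + 1) + b * q.coeff n := by
  rw [add_mul, coeff_add, coeff_C_mul, mul_assoc, coeff_X_mul, coeff_C_mul]

theorem h9_coeff_zero {K : Type*} [Field K] (a b : K) (q : K[X]) :
    ((C a + X * C b) * q).coeff 0 = a * q.coeff 0 := by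
  rw [add_mul, coeff_add, coeff_C_mul, mul_assoc, coeff_X_mul_zero, add_zero]

/-- Case of two arrows. Over an algebraically closed field K, if a Kronecker module f = (f_0, f_1) with
two arrows between spaces V and W of the same finite dimension k is semistable, then some linear
combination z_0 f_0 + z_1 f_1 of its arrows is a linear isomorphism V → W: for two arrows the
semistable locus of dimension vector (k, k) lies in the open set of modules whose generic
combination is invertible, for every k. (The published statement, over an algebraically closed field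
of characteristic zero, also covers the dimension vectors (1, 1) and (2, 2) for any number of
arrows; this row states the two-arrow case for all k, without the characteristic assumption.) -/
theorem result (K : Type u) [Field K] [IsAlgClosed K]
    (V : Type v) (W : Type w)
    [AddCommGroup V] [Module K V] [FiniteDimensional K V]
    [AddCommGroup W] [Module K W] [FiniteDimensional K W]
    (f : Fin 2 → (V →ₗ[K] W)) (k : ℕ)
    (hV : Module.finrank K V = k) (hW : Module.finrank K W = k)
    (hf : KronMod.IsSemistable f) :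
    ∃ z : Fin 2 → K, Function.Bijective ((∑ j, z j • f j : V →ₗ[K] W) : V → W) := by
  classical
  by_contra hall
  push Not at hall
  obtain ⟨hpos, hss⟩ := hf
  have hk : 0 < k := by rw [hV, hW] at hpos; omega
  obtain ⟨b⟩ : Nonempty (Module.Basis (Fin k) K V) := ⟨Module.finBasisOfFinrankEq K V hV⟩
  obtain ⟨c⟩ : Nonempty (Module.Basis (Fin k) K W) := ⟨Module.finBasisOfFinrankEq K W hW⟩
  obtain ⟨A₀, hA₀⟩ : ∃ A : Matrix (Fin k) (Fin k) K, A = LinearMap.toMatrix b c (f 0) := ⟨_, rfl⟩
  obtain ⟨A₁, hA₁⟩ : ∃ A : Matrix (Fin k) (Fin k) K, A = LinearMap.toMatrix b c (f 1) := ⟨_, rfl⟩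
  have hdet : ∀ t : K, (A₀ + t • A₁).det = 0 := by
    intro t
    by_contra hne
    have h1 : LinearMap.toMatrix b c (f 0 + t • f 1) = A₀ + t • A₁ := by
      rw [map_add, map_smul, hA₀, hA₁]
    have h2 : IsUnit (LinearMap.toMatrix b c (f 0 + t • f 1)).det := by
      rw [h1]; exact Ne.isUnit hne
    apply hall ![1, t]
    have h3 : (∑ j, (![1, t] : Fin 2 → K) j • f j : V →ₗ[K] W) = f 0 + t • f 1 := by
      rw [Fin.sum_univ_two]; simp
    rw [h3]
    have h4 := (LinearEquiv.ofIsUnitDet h2).bijective
    have h5 : (⇑(f 0 + t • f 1) : V → W) = ⇑(LinearEquiv.ofIsUnitDet h2) := by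
      funext x
      rw [← LinearEquiv.coe_coe, LinearEquiv.coe_ofIsUnitDet]
    rw [h5]
    exact h4
  obtain ⟨P, hP⟩ : ∃ P : Matrix (Fin k) (Fin k) K[X],
      ∀ r j, P r j = C (A₀ r j) + X * C (A₁ r j) :=
    ⟨Matrix.of (fun r j => C (A₀ r j) + X * C (A₁ r j)), fun _ _ => rfl⟩
  have hPdet : P.det = 0 := by
    apply Polynomial.funext
    intro t
    have e1 : eval t P.det = (evalRingHom t) P.det := rfl
    rw [eval_zero, e1, RingHom.map_det]
    have e2 : (evalRingHom t).mapMatrix P = A₀ + t • A₁ := by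
      ext r j
      simp [RingHom.mapMatrix_apply, hP, Matrix.add_apply, Matrix.smul_apply]
      exact mul_comm _ _
    rw [e2, hdet]
  obtain ⟨vv, hvv0, hvv⟩ := Matrix.exists_mulVec_eq_zero_iff.mpr hPdet
  obtain ⟨uu, huu⟩ : ∃ uu : ℕ → V, ∀ i, uu i = ∑ j, (vv j).coeff i • b j := ⟨_, fun _ => rfl⟩
  have hrepr0 : ∀ (g : V →ₗ[K] W) (i : ℕ) (r : Fin k),
      c.repr (g (uu i)) r = ∑ j, LinearMap.toMatrix b c g r j * (vv j).coeff i := by
    intro g i r
    rw [huu, map_sum, map_sum, Finsupp.coe_finsetSum, Finset.sum_apply]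
    apply Finset.sum_congr rfl
    intro j _
    rw [map_smul, map_smul, Finsupp.smul_apply, smul_eq_mul, LinearMap.toMatrix_apply, mul_comm]
  have hrow : ∀ r, ∑ j, (C (A₀ r j) + X * C (A₁ r j)) * vv j = 0 := by
    intro r
    have h1 := congrFun hvv r
    simp only [Matrix.mulVec, dotProduct, hP, Pi.zero_apply] at h1
    exact h1
  have hc0 : ∀ r, ∑ j, A₀ r j * (vv j).coeff 0 = 0 := by
    intro r
    have h1 := congrArg (fun q : K[X] => q.coeff 0) (hrow r)
    simp only [finsetSum_coeff, h9_coeff_zero, coeff_zero] at h1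
    exact h1
  have hc1 : ∀ r i, ∑ j, (A₀ r j * (vv j).coeff (i + 1) + A₁ r j * (vv j).coeff i) = 0 := by
    intro r i
    have h1 := congrArg (fun q : K[X] => q.coeff (i + 1)) (hrow r)
    simp only [finsetSum_coeff, h9_coeff_succ, coeff_zero] at h1
    exact h1
  have hR0 : f 0 (uu 0) = 0 := by
    apply c.ext_elem
    intro r
    rw [hrepr0, ← hA₀, map_zero, Finsupp.zero_apply]
    exact hc0 r
  have hR : ∀ i, f 0 (uu (i + 1)) + f 1 (uu i) = 0 := by
    intro i
    apply c.ext_elem
    intro r
    rw [map_add, Finsupp.add_apply, hrepr0, hrepr0, ← hA₀, ← hA₁, ← Finset.sum_add_distrib,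
      map_zero, Finsupp.zero_apply]
    exact hc1 r i
  have hex : ∃ i, uu i ≠ 0 := by
    by_contra hno
    push Not at hno
    apply hvv0
    funext j
    ext i
    have h1 : b.repr (uu i) j = (vv j).coeff i := by
      rw [huu, Module.Basis.repr_sum_self]
    rw [hno i, map_zero, Finsupp.zero_apply] at h1
    rw [Pi.zero_apply, coeff_zero, ← h1]
  obtain ⟨m, hm, hmin⟩ : ∃ m, uu m ≠ 0 ∧ ∀ i < m, uu i = 0 :=
    ⟨Nat.find hex, Nat.find_spec hex, fun i hi => by
      have := Nat.find_min hex hi
      push Not at this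
      exact this⟩
  have hS0 : f 0 (uu m) = 0 := by
    cases m with
    | zero => exact hR0
    | succ m' =>
      have h1 := hR m'
      rw [hmin m' (Nat.lt_succ_self m'), map_zero, add_zero] at h1
      exact h1
  obtain ⟨V', hV'⟩ : ∃ V' : Submodule K V, V' = Submodule.span K (Set.range fun i => uu (m + i)) :=
    ⟨_, rfl⟩
  have hmem : ∀ i, uu (m + i) ∈ V' := fun i => by
    rw [hV']; exact Submodule.subset_span ⟨i, rfl⟩
  have hsub : KronMod.IsSubrep f V' (V'.map (f 0)) := by
    intro j
    fin_cases j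
    · exact le_refl _
    · show V'.map (f 1) ≤ V'.map (f 0)
      rw [hV', Submodule.map_span, Submodule.span_le]
      rintro _ ⟨_, ⟨i, rfl⟩, rfl⟩
      have h1 := hR (m + i)
      have h2 : f 1 (uu (m + i)) = f 0 (-(uu (m + (i + 1)))) := by
        rw [map_neg, eq_neg_iff_add_eq_zero, add_comm]
        exact h1
      show f 1 (uu (m + i)) ∈ _
      rw [h2, ← hV']
      exact Submodule.mem_map_of_mem (neg_mem (hmem (i + 1)))
  have hlt : Module.finrank K (V'.map (f 0)) < Module.finrank K V' := by
    have h1 := LinearMap.finrank_range_add_finrank_ker ((f 0).domRestrict V')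
    rw [LinearMap.range_domRestrict] at h1
    have h2 : LinearMap.ker ((f 0).domRestrict V') ≠ ⊥ := by
      intro hbot
      have h3 : (⟨uu m, by simpa using hmem 0⟩ : V') ∈ LinearMap.ker ((f 0).domRestrict V') := by
        rw [LinearMap.mem_ker, LinearMap.domRestrict_apply]
        exact hS0
      rw [hbot, Submodule.mem_bot] at h3
      exact hm (congrArg Subtype.val h3)
    have h4 : 0 < Module.finrank K (LinearMap.ker ((f 0).domRestrict V')) :=
      Nat.pos_of_ne_zero (fun h => h2 (Submodule.finrank_eq_zero.mp h))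
    omega
  have hnb : ¬ (V' = ⊥ ∧ V'.map (f 0) = ⊥) := by
    rintro ⟨h1, -⟩
    have h2 := hmem 0
    rw [h1, Submodule.mem_bot] at h2
    exact hm h2
  have hnt : ¬ (V' = ⊤ ∧ V'.map (f 0) = ⊤) := by
    rintro ⟨h1, h2⟩
    rw [h2, h1, finrank_top, finrank_top, hV, hW] at hlt
    exact lt_irrefl _ hlt
  have h6 := hss V' (V'.map (f 0)) hsub hnb hnt
  rw [hV, hW] at h6
  have h7 := Nat.le_of_mul_le_mul_left h6 hk
  omega

end Groth.Agent.S19551
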