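import Groth.Statements.S19556
import Mathlib

set_option autoImplicit false
universe u
open CategoryTheory AlgebraicGeometry
open Mor

namespace Groth.Agent.S19556

/-- Let S be a scheme, p : X → S and q : Y → S schemes over S, and π : X → Y a finite surjective
morphism over S (π ≫ q = p). If X is separated over S then Y is separated over S. (The published
statement is about the quotient map X → X/G of a scheme by an action of a finite group scheme,
assumed to exist and then finite and surjective; this row keeps of it only a finite surjective
S-morphism π, which is all the argument uses.) -/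
theorem result {S X Y : Scheme.{u}} (p : X ⟶ S) (q : Y ⟶ S)
    (π : X ⟶ Y) (hπ : π ≫ q = p) [IsFinite π] [Surjective π] [IsSeparated p] :
    IsSeparated q := by
  have e : p = π ≫ q := hπ.symm
  obtain ⟨P2, hP2⟩ : ∃ P2 : Limits.pullback p p ⟶ Limits.pullback q q,
      P2 = Limits.pullback.map p p q q π π (𝟙 S) ((Category.comp_id _).trans e)
        ((Category.comp_id _).trans e) := ⟨_, rfl⟩
  haveI : IsFinite P2 := by
    rw [hP2]
    exact MorphismProperty.pullbackMap (P := @IsFinite) inferInstance inferInstance e e
  have hnat : Limits.pullback.diagonal p ≫ P2 = π ≫ Limits.pullback.diagonal q := by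
    rw [hP2]
    apply Limits.pullback.hom_ext
    · rw [Category.assoc, Category.assoc, Limits.pullback.lift_fst, ← Category.assoc,
        Limits.pullback.diagonal_fst, Category.id_comp, Limits.pullback.diagonal_fst,
        Category.comp_id]
    · rw [Category.assoc, Category.assoc, Limits.pullback.lift_snd, ← Category.assoc,
        Limits.pullback.diagonal_snd, Category.id_comp, Limits.pullback.diagonal_snd,
        Category.comp_id]
  haveI : IsClosedImmersion (Limits.pullback.diagonal p) := IsSeparated.isClosedImmersion_diagonal
  have hrange : Set.range (Limits.pullback.diagonal q) = P2 '' (Set.range (Limits.pullback.diagonal p)) := by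
    ext z
    constructor
    · rintro ⟨y, rfl⟩
      obtain ⟨x, rfl⟩ := π.surjective y
      refine ⟨Limits.pullback.diagonal p x, ⟨x, rfl⟩, ?_⟩
      have h2 := congrArg (fun g : X ⟶ Limits.pullback q q => g x) hnat
      simpa using h2
    · rintro ⟨_, ⟨x, rfl⟩, rfl⟩
      refine ⟨π x, ?_⟩
      have h2 := congrArg (fun g : X ⟶ Limits.pullback q q => g x) hnat
      simpa using h2.symm
  constructor
  refine IsClosedImmersion.of_isPreimmersion _ ?_
  rw [hrange]
  exact P2.isClosedMap _ (Limits.pullback.diagonal p).isClosedEmbedding.isClosed_range

end Groth.Agent.S19556
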