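import Groth.Statements.S19560
import Mathlib

set_option autoImplicit false
universe u
open W4c1limliniiii

namespace Groth.Agent.S19560

theorem h9_key {k : Type*} [Field k] (p : ℕ) [CharP k p] (F G : Polynomial k)
    (hW : Polynomial.wronskian F G ≠ 0) (a : k) (e : ℕ) (hG : G.eval a ≠ 0)
    (he : (Polynomial.wronskian F G).rootMultiplicity a + 1 = e) (hp : p = 0 ∨ e - 1 < p) :
    W4c1limliniiii.HasRamIdx (Submodule.span k {F, G}) a e ∧ ¬ p ∣ e := by
  classical
  obtain ⟨c, hc⟩ : ∃ c : k, c = F.eval a / G.eval a := ⟨_, rfl⟩
  obtain ⟨H, hH⟩ : ∃ H : Polynomial k, H = F - Polynomial.C c * G := ⟨_, rfl⟩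
  have hHa : H.eval a = 0 := by
    rw [hH]
    simp only [Polynomial.eval_sub, Polynomial.eval_mul, Polynomial.eval_C, hc]
    field_simp
    ring
  have hWH : Polynomial.wronskian H G = Polynomial.wronskian F G := by
    rw [hH]
    simp only [Polynomial.wronskian, Polynomial.derivative_sub, Polynomial.derivative_mul,
      Polynomial.derivative_C]
    ring
  have hH0 : H ≠ 0 := by
    intro h0
    apply hW
    rw [← hWH, h0, Polynomial.wronskian_zero_left]
  obtain ⟨H1, hH1, hndvd⟩ := Polynomial.exists_eq_pow_rootMultiplicity_mul_and_not_dvd H hH0 a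
  have hH1a : H1.eval a ≠ 0 := by
    intro h
    exact hndvd (Polynomial.dvd_iff_isRoot.mpr h)
  have hm1 : 0 < H.rootMultiplicity a := (Polynomial.rootMultiplicity_pos hH0).mpr hHa
  obtain ⟨n, hn⟩ : ∃ n, H.rootMultiplicity a = n + 1 := ⟨H.rootMultiplicity a - 1, by omega⟩
  rw [hn] at hH1
  obtain ⟨B, hB⟩ : ∃ B : Polynomial k, B = (Polynomial.X - Polynomial.C a) * H1 * Polynomial.derivative G
      - Polynomial.C ((n:k)+1) * H1 * G
      - (Polynomial.X - Polynomial.C a) * Polynomial.derivative H1 * G := ⟨_, rfl⟩
  have hd : Polynomial.derivative H = Polynomial.C ((n:k)+1) * (Polynomial.X - Polynomial.C a)^n * H1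
      + (Polynomial.X - Polynomial.C a)^(n+1) * Polynomial.derivative H1 := by
    conv_lhs => rw [hH1]
    rw [Polynomial.derivative_mul, Polynomial.derivative_X_sub_C_pow]
    simp
  have hWB : Polynomial.wronskian F G = (Polynomial.X - Polynomial.C a)^n * B := by
    rw [← hWH, Polynomial.wronskian, hd, hB]
    conv_lhs => rw [hH1]
    ring
  have hBa : B.eval a = -(((n:k)+1) * H1.eval a * G.eval a) := by
    rw [hB]
    simp only [Polynomial.eval_sub, Polynomial.eval_mul, Polynomial.eval_X, Polynomial.eval_C,
      sub_self, zero_mul, zero_sub, sub_zero]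
  have hB0 : B ≠ 0 := by
    intro h0
    apply hW
    rw [hWB, h0, mul_zero]
  have hrm : (Polynomial.wronskian F G).rootMultiplicity a = n + B.rootMultiplicity a := by
    rw [hWB, Polynomial.rootMultiplicity_mul (by rw [← hWB]; exact hW),
      Polynomial.rootMultiplicity_X_sub_C_pow]
  have hn1 : ((n:k)+1) ≠ 0 := by
    intro h0
    have hBr : 0 < B.rootMultiplicity a := by
      rw [Polynomial.rootMultiplicity_pos hB0, Polynomial.IsRoot, hBa, h0]
      simp
    have hdvd : p ∣ n + 1 := by
      rw [← CharP.cast_eq_zero_iff k p (n+1)]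
      push_cast
      exact h0
    rcases hp with hp | hp
    · rw [hp] at hdvd
      simp at hdvd
    · have := Nat.le_of_dvd (Nat.succ_pos n) hdvd
      omega
  have hBr : B.rootMultiplicity a = 0 := by
    apply Polynomial.rootMultiplicity_eq_zero
    rw [Polynomial.IsRoot, hBa]
    exact neg_ne_zero.mpr (mul_ne_zero (mul_ne_zero hn1 hH1a) hG)
  have hen : e = n + 1 := by omega
  refine ⟨⟨⟨H, ?_, hH0, ?_⟩, ?_⟩, ?_⟩
  · rw [Submodule.mem_span_pair]
    refine ⟨1, -c, ?_⟩
    rw [hH, Polynomial.smul_eq_C_mul, Polynomial.smul_eq_C_mul]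
    simp
    ring
  · omega
  · intro s hs hs0
    obtain ⟨α, β, rfl⟩ := Submodule.mem_span_pair.mp hs
    have hs' : α • F + β • G = Polynomial.C α * H + Polynomial.C (α * c + β) * G := by
      rw [hH, Polynomial.smul_eq_C_mul, Polynomial.smul_eq_C_mul]
      simp only [map_add, map_mul]
      ring
    by_cases hz : α * c + β = 0
    · rw [hs', hz] at hs0 ⊢
      simp only [map_zero, zero_mul, add_zero] at hs0 ⊢
      rw [Polynomial.rootMultiplicity_mul hs0, Polynomial.rootMultiplicity_C, hn]
      omega
    · have : ¬ Polynomial.IsRoot (α • F + β • G) a := by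
        rw [hs', Polynomial.IsRoot]
        simp only [Polynomial.eval_add, Polynomial.eval_mul, Polynomial.eval_C, hHa, mul_zero,
          zero_add]
        exact mul_ne_zero hz hG
      rw [Polynomial.rootMultiplicity_eq_zero this]
      omega
  · rw [hen, ← CharP.cast_eq_zero_iff k p (n+1)]
    push_cast
    exact hn1

open Polynomial in
/-- Let k be an algebraically closed field of characteristic p (a prime or zero) and let F, G be
polynomials spanning a base-point-free pencil V of degree d (a two-dimensional space of polynomials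
of degree at most d containing one of degree d and with no common zero in k), so that V encodes a
degree-d self-map F/G of the projective line up to automorphisms of the target. Suppose the
Wronskian W = F′G − FG′ is non-zero and vanishes at the point a to order exactly e − 1 with e ≥ 1,
and that p = 0 or e − 1 < p. Then the map is tamely ramified at a with index e: the largest order of
vanishing at a of a non-zero member of V is e, and p does not divide e. (The hypothesis W ≠ 0 makes
the order of vanishing meaningful; for W = 0 the map is inseparable.) -/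
theorem result
    (k : Type u) [Field k] [IsAlgClosed k] (p : ℕ) [CharP k p]
    (d : ℕ) (F G : k[X]) (hV : W4c1limliniiii.IsPencil d (Submodule.span k {F, G}))
    (hW : Polynomial.wronskian F G ≠ 0) (a : k) (e : ℕ)
    (he : (Polynomial.wronskian F G).rootMultiplicity a + 1 = e) (hp : p = 0 ∨ e - 1 < p) :
    W4c1limliniiii.HasRamIdx (Submodule.span k {F, G}) a e ∧ ¬ p ∣ e := by
  obtain ⟨_, _, _, hbp⟩ := hV
  obtain ⟨s, hs, hsa⟩ := hbp a
  obtain ⟨α, β, rfl⟩ := Submodule.mem_span_pair.mp hs
  by_cases hG : G.eval a = 0
  · have hF : F.eval a ≠ 0 := by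
      intro hF
      apply hsa
      simp [hF, hG]
    have hneg : Polynomial.wronskian G F = - Polynomial.wronskian F G :=
      (Polynomial.wronskian_neg_eq F G).symm
    have hW' : Polynomial.wronskian G F ≠ 0 := by
      rw [hneg]; exact neg_ne_zero.mpr hW
    have hrm : (Polynomial.wronskian G F).rootMultiplicity a
        = (Polynomial.wronskian F G).rootMultiplicity a := by
      have h1 : Polynomial.wronskian G F = Polynomial.C (-1) * Polynomial.wronskian F G := by
        rw [hneg]; simp
      rw [h1, Polynomial.rootMultiplicity_mul (by rw [← h1]; exact hW'),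
        Polynomial.rootMultiplicity_C, zero_add]
    have := h9_key p G F hW' a e hF (by rw [hrm]; exact he) hp
    rwa [Set.pair_comm] at this
  · exact h9_key p F G hW a e hG he hp

end Groth.Agent.S19560
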