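import Groth.Statements.S19562
import Mathlib

set_option autoImplicit false
universe u
open W4c1limliniiii

namespace Groth.Agent.S19562

theorem rn {K M : Type*} [Field K] [AddCommGroup M] [Module K M] [FiniteDimensional K M]
    (F : M →ₗ[K] M) (V : Submodule K M) :
    Module.finrank K (Submodule.map F V) + Module.finrank K (LinearMap.ker F ⊓ V : Submodule K M)
      = Module.finrank K V := by
  have h := LinearMap.finrank_range_add_finrank_ker (F ∘ₗ V.subtype)
  rw [LinearMap.range_comp, Submodule.range_subtype, LinearMap.ker_comp] at h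
  rw [← h]
  congr 1
  rw [← Submodule.finrank_map_subtype_eq V (Submodule.comap V.subtype (LinearMap.ker F)),
    Submodule.map_comap_subtype, inf_comm]

theorem key {K M : Type*} [Field K] [AddCommGroup M] [Module K M] [FiniteDimensional K M]
    (F G : M →ₗ[K] M) (hGF : G ∘ₗ F = 0) (hFG : F ∘ₗ G = 0) (V W : Submodule K M) (r : ℕ)
    (hV : Module.finrank K V = r) (hW : Module.finrank K W = r)
    (hFV : Submodule.map F V ≤ W) (hGW : Submodule.map G W ≤ V) :
    (LinearMap.ker G ⊓ W ≤ Submodule.map F V ∧ LinearMap.ker F ⊓ V ≤ Submodule.map G W) ↔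
      Module.finrank K (Submodule.map F V) + Module.finrank K (Submodule.map G W) = r := by
  have h1 := rn F V
  have h2 := rn G W
  rw [hV] at h1
  rw [hW] at h2
  have hle1 : Submodule.map F V ≤ LinearMap.ker G ⊓ W := by
    refine le_inf ?_ hFV
    rintro _ ⟨v, _, rfl⟩
    rw [LinearMap.mem_ker]
    have := LinearMap.congr_fun hGF v
    simpa using this
  have hle2 : Submodule.map G W ≤ LinearMap.ker F ⊓ V := by
    refine le_inf ?_ hGW
    rintro _ ⟨v, _, rfl⟩
    rw [LinearMap.mem_ker]
    have := LinearMap.congr_fun hFG v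
    simpa using this
  constructor
  · rintro ⟨ha, hb⟩
    have e1 : Submodule.map F V = LinearMap.ker G ⊓ W := le_antisymm hle1 ha
    rw [← e1] at h2
    omega
  · intro h
    have e1 : Submodule.map F V = LinearMap.ker G ⊓ W :=
      Submodule.eq_of_le_of_finrank_eq hle1 (by omega)
    have e2 : Submodule.map G W = LinearMap.ker F ⊓ V :=
      Submodule.eq_of_le_of_finrank_eq hle2 (by omega)
    exact ⟨e1.ge, e2.ge⟩

open TensorProduct in
/-- Let k be a field, 0 < r < d, and f_i, g_i (i < n) linear maps forward and backward between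
consecutive ones of n + 1 copies of k^d, forming a linked Grassmannian over Spec k whose scalar s is
zero: every composite f_i ∘ g_i and g_i ∘ f_i vanishes, rank f_i + rank g_i ≥ d, and for consecutive
indices im f_i ∩ ker f_{i+1} = 0 and im g_{i+1} ∩ ker g_i = 0. Let (V_i) be a k-valued point of the
linked Grassmannian of rank-r sub-bundles (subspaces V_i of k ⊗ k^d with quotient of rank d − r,
with f_i(V_i) ⊆ V_{i+1} and g_i(V_{i+1}) ⊆ V_i). Then (V_i) is exact, meaning ker g_i ∩ V_{i+1} ⊆
f_i(V_i) and ker f_i ∩ V_i ⊆ g_i(V_{i+1}) for all i, if and only if dim f_i(V_i) + dim g_i(V_{i+1})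
= r for all i. (The published assertion is for points with values in an arbitrary scheme and also
says that f_i(V_i) and g_i(V_{i+1}) are then sub-bundles; this row is the case of a field, where the
last clause is empty.) -/
theorem result (k : Type u) [Field k]
    (d r n : ℕ) (hr : 0 < r) (hrd : r < d) (f g : Fin n → ((Fin d → k) →ₗ[k] (Fin d → k)))
    (hI : ∀ i, (f i).comp (g i) = 0 ∧ (g i).comp (f i) = 0)
    (hII : ∀ i, d ≤ Module.finrank k (LinearMap.range (f i)) + Module.finrank k (LinearMap.range (g i)))
    (hIII : ∀ i j : Fin n, i.val + 1 = j.val →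
      LinearMap.range (f i) ⊓ LinearMap.ker (f j) = ⊥ ∧
        LinearMap.range (g j) ⊓ LinearMap.ker (g i) = ⊥)
    (V : Fin (n + 1) → Module.Grassmannian k (k ⊗[k] (Fin d → k)) (d - r))
    (hV : V ∈ W4c1limliniiii.LGPoints k d r n f g k) :
    W4c1limliniiii.IsExact k d r n f g k V ↔
      ∀ i : Fin n,
        Module.finrank k ↥(Submodule.map ((f i).baseChange k) (V i.castSucc).toSubmodule) +
          Module.finrank k ↥(Submodule.map ((g i).baseChange k) (V i.succ).toSubmodule) = r := by
  have hdim : Module.finrank k (k ⊗[k] (Fin d → k)) = d := by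
    rw [Module.finrank_tensorProduct, Module.finrank_self, one_mul,
      Module.finrank_fintype_fun_eq_card, Fintype.card_fin]
  have hVr : ∀ j, Module.finrank k (V j).toSubmodule = r := by
    intro j
    have h1 := (V j).rankAtStalk_eq ⟨⊥, Ideal.isPrime_bot⟩
    rw [Module.rankAtStalk_eq_finrank_of_free] at h1
    have h1' : Module.finrank k ((k ⊗[k] (Fin d → k)) ⧸ (V j).toSubmodule) = d - r := by
      simpa using h1
    have h2 := Submodule.finrank_quotient_add_finrank (V j).toSubmodule
    rw [hdim, h1'] at h2
    omega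
  have hGF : ∀ i, (g i).baseChange k ∘ₗ (f i).baseChange k = 0 := by
    intro i
    rw [← LinearMap.baseChange_comp, (hI i).2, LinearMap.baseChange_zero]
  have hFG : ∀ i, (f i).baseChange k ∘ₗ (g i).baseChange k = 0 := by
    intro i
    rw [← LinearMap.baseChange_comp, (hI i).1, LinearMap.baseChange_zero]
  unfold W4c1limliniiii.IsExact
  constructor
  · intro h i
    exact (key _ _ (hGF i) (hFG i) _ _ r (hVr _) (hVr _) (hV i).1 (hV i).2).mp (h i)
  · intro h i
    exact (key _ _ (hGF i) (hFG i) _ _ r (hVr _) (hVr _) (hV i).1 (hV i).2).mpr (h i)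

end Groth.Agent.S19562
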