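import Groth.Statements.S1957
import Groth.Agent.Lib.helper1.EtaleNbhd

set_option autoImplicit false
universe u
open Polynomial
open EtAlg

namespace Groth.Agent.S1957

open Polynomial

theorem of_section (A : Type u) [CommRing A] (I : Ideal A) (R' : Type u) [CommRing R']
    [Algebra A R'] [Algebra.Etale A R'] (σ' : R' →ₐ[A] A ⧸ I) (a_u : A)
    (hau : IsUnit (Ideal.Quotient.mk I a_u)) :
    ∃ (A' : Type u) (_ : CommRing A') (_ : Algebra A A') (_ : Algebra.Etale A A')
      (φ : R' →ₐ[A] A') (σ : A' →ₐ[A] A ⧸ I), (∀ x, σ (φ x) = σ' x) ∧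
      RingHom.ker σ = I.map (algebraMap A A') ∧ IsUnit (algebraMap A A' a_u) := by
  obtain ⟨ε₀, hε₀1, hε₀2⟩ := Helper1.exists_elem_of_unramified I σ'
  have hε1 : IsUnit (σ' (ε₀ * algebraMap A R' a_u)) := by
    rw [map_mul, hε₀1, one_mul, AlgHom.commutes, Ideal.Quotient.algebraMap_eq]
    exact hau
  have hε2 : ∀ s, σ' s = 0 → s * (ε₀ * algebraMap A R' a_u) ∈ Ideal.map (algebraMap A R') I := by
    intro s hs
    rw [← mul_assoc]
    exact Ideal.mul_mem_right _ _ (hε₀2 s hs)
  obtain ⟨σ'', hσ'', hker⟩ := Helper1.exists_section_localization I σ' _ hε1 hε2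
  have hau' : IsUnit (algebraMap A (Localization.Away (ε₀ * algebraMap A R' a_u)) a_u) := by
    have h1 := IsLocalization.Away.algebraMap_isUnit
      (S := Localization.Away (ε₀ * algebraMap A R' a_u)) (ε₀ * algebraMap A R' a_u)
    rw [map_mul, ← IsScalarTower.algebraMap_apply] at h1
    exact isUnit_of_mul_isUnit_right h1
  exact ⟨Localization.Away (ε₀ * algebraMap A R' a_u), inferInstance, inferInstance,
    Algebra.Etale.comp A R' _, IsScalarTower.toAlgHom A R' _, σ'', fun x => hσ'' x, hker, hau'⟩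

theorem monic_case (A : Type u) [CommRing A] (I : Ideal A) [Nontrivial (A ⧸ I)] (f : A[X])
    (hf : f.Monic) (g₁ h₁ : (A ⧸ I)[X]) (hg₁ : g₁.Monic) (hh₁ : h₁.Monic)
    (hfac : f.map (Ideal.Quotient.mk I) = g₁ * h₁) (hcop : IsCoprime g₁ h₁)
    (a_u : A) (hau : IsUnit (Ideal.Quotient.mk I a_u)) :
    ∃ (A' : Type u) (_ : CommRing A') (_ : Algebra A A') (_ : Algebra.Etale A A')
      (σ : A' →ₐ[A] A ⧸ I), RingHom.ker σ = I.map (algebraMap A A') ∧
      IsUnit (algebraMap A A' a_u) ∧
      ∃ g' h' : A'[X], f.map (algebraMap A A') = g' * h' ∧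
        g'.map (σ : A' →+* A ⧸ I) = g₁ ∧ h'.map (σ : A' →+* A ⧸ I) = h₁ := by
  have hn : f.natDegree = g₁.natDegree + h₁.natDegree := by
    rw [← hf.natDegree_map (Ideal.Quotient.mk I), hfac, hg₁.natDegree_mul hh₁]
  let p : MonicDegreeEq A f.natDegree := .mk f hf rfl
  let σ' : UniversalCoprimeFactorizationRing g₁.natDegree h₁.natDegree hn p →ₐ[A] A ⧸ I :=
    (UniversalCoprimeFactorizationRing.homEquiv (A ⧸ I) _ _ hn p).symm
      ⟨(.mk g₁ hg₁ rfl, .mk h₁ hh₁ rfl), hfac.symm, hcop⟩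
  have hσ' : UniversalCoprimeFactorizationRing.homEquiv (A ⧸ I) _ _ hn p σ' =
      ⟨(.mk g₁ hg₁ rfl, .mk h₁ hh₁ rfl), hfac.symm, hcop⟩ := Equiv.apply_symm_apply _ _
  have hf1 : (UniversalCoprimeFactorizationRing.factor₁ _ _ hn p).1.map (σ' : _ →+* A ⧸ I) =
      g₁ := by
    have h2 : (UniversalCoprimeFactorizationRing.homEquiv (A ⧸ I) _ _ hn p σ').1.1.1 = g₁ :=
      congrArg (fun z => z.1.1.1) hσ'
    refine Eq.trans ?_ h2
    change ((UniversalFactorizationRing.factor₁ _ _ hn p).1.map (algebraMap _ _)).map _ = _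
    rw [Polynomial.map_map]
    rfl
  have hf2 : (UniversalCoprimeFactorizationRing.factor₂ _ _ hn p).1.map (σ' : _ →+* A ⧸ I) =
      h₁ := by
    have h2 : (UniversalCoprimeFactorizationRing.homEquiv (A ⧸ I) _ _ hn p σ').1.2.1 = h₁ :=
      congrArg (fun z => z.1.2.1) hσ'
    refine Eq.trans ?_ h2
    change ((UniversalFactorizationRing.factor₂ _ _ hn p).1.map (algebraMap _ _)).map _ = _
    rw [Polynomial.map_map]
    rfl
  have h3 : (UniversalCoprimeFactorizationRing.factor₁ _ _ hn p).1 *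
      (UniversalCoprimeFactorizationRing.factor₂ _ _ hn p).1 =
      f.map (algebraMap A (UniversalCoprimeFactorizationRing _ _ hn p)) :=
    UniversalCoprimeFactorizationRing.factor₁_mul_factor₂ _ _ hn p
  obtain ⟨A', i1, i2, i3, φ, σ, hσ, hker, hau'⟩ := of_section A I _ σ' a_u hau
  have hσφ : (σ : A' →+* A ⧸ I).comp (φ : _ →+* A') = (σ' : _ →+* A ⧸ I) :=
    RingHom.ext fun x => hσ x
  refine ⟨A', i1, i2, i3, σ, hker, hau',
    (UniversalCoprimeFactorizationRing.factor₁ _ _ hn p).1.map (φ : _ →+* A'),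
    (UniversalCoprimeFactorizationRing.factor₂ _ _ hn p).1.map (φ : _ →+* A'), ?_, ?_, ?_⟩
  · rw [← Polynomial.map_mul, h3, Polynomial.map_map, AlgHom.comp_algebraMap]
  · rw [Polynomial.map_map, hσφ]
    exact hf1
  · rw [Polynomial.map_map, hσφ]
    exact hf2


/-- Let A be a ring, I an ideal and f a monic polynomial over A. Suppose the image of f in (A/I)[x]
factors as g h where the leading coefficient of g is a unit and g, h generate the unit ideal. Then
there is an etale A-algebra A' such that A/I -> A'/IA' is bijective, together with a factorization f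
= g' h' in A'[x] whose reduction modulo IA' is the image of the given one. -/
theorem result (A : Type u) [CommRing A] (I : Ideal A) (f : A[X]) (hf : f.Monic)
    (g h : (A ⧸ I)[X]) (hgh : f.map (Ideal.Quotient.mk I) = g * h) (hlead : IsUnit g.leadingCoeff)
    (hcop : IsCoprime g h) :
    ∃ (A' : Type u) (_ : CommRing A') (_ : Algebra A A') (_ : Algebra.Etale A A'),
      Function.Bijective (Ideal.quotientMap (I.map (algebraMap A A')) (algebraMap A A') Ideal.le_comap_map) ∧
      ∃ g' h' : A'[X], f.map (algebraMap A A') = g' * h' ∧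
        g'.map (Ideal.Quotient.mk (I.map (algebraMap A A'))) =
          g.map (Ideal.quotientMap (I.map (algebraMap A A')) (algebraMap A A') Ideal.le_comap_map) ∧
        h'.map (Ideal.Quotient.mk (I.map (algebraMap A A'))) =
          h.map (Ideal.quotientMap (I.map (algebraMap A A')) (algebraMap A A') Ideal.le_comap_map) := by
  rcases subsingleton_or_nontrivial (A ⧸ I) with hsub | hnt
  · have hItop : I = ⊤ := Ideal.Quotient.subsingleton_iff.mp hsub
    haveI : Subsingleton (A ⧸ I.map (algebraMap A A)) := by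
      rw [Ideal.Quotient.subsingleton_iff, hItop, Ideal.map_top]
    refine ⟨A, inferInstance, inferInstance, inferInstance, ⟨?_, ?_⟩,
      f.map (algebraMap A A), 1, by rw [mul_one], Subsingleton.elim _ _, Subsingleton.elim _ _⟩
    · intro x y _
      exact Subsingleton.elim _ _
    · intro y
      exact ⟨0, Subsingleton.elim _ _⟩
  · obtain ⟨u, hu⟩ := hlead
    obtain ⟨a_u, ha_u⟩ := Ideal.Quotient.mk_surjective (u : A ⧸ I)
    have hg₁ : (C (↑u⁻¹ : A ⧸ I) * g).Monic :=
      monic_C_mul_of_mul_leadingCoeff_eq_one (by rw [← hu, Units.inv_mul])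
    have hfac : f.map (Ideal.Quotient.mk I) = (C (↑u⁻¹ : A ⧸ I) * g) * (C (↑u : A ⧸ I) * h) := by
      rw [hgh]
      have h1 : C (↑u⁻¹ : A ⧸ I) * g * (C (↑u : A ⧸ I) * h) =
          (C (↑u⁻¹ : A ⧸ I) * C (↑u : A ⧸ I)) * (g * h) := by ring
      rw [h1, ← C_mul, Units.inv_mul, C_1, one_mul]
    have hh₁ : (C (↑u : A ⧸ I) * h).Monic :=
      hg₁.of_mul_monic_left (by rw [← hfac]; exact hf.map _)
    have hcop₁ : IsCoprime (C (↑u⁻¹ : A ⧸ I) * g) (C (↑u : A ⧸ I) * h) := by
      have hu1 : IsUnit (C (↑u⁻¹ : A ⧸ I)) := Polynomial.isUnit_C.mpr (Units.isUnit _)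
      have hu2 : IsUnit (C (↑u : A ⧸ I)) := Polynomial.isUnit_C.mpr (Units.isUnit _)
      exact (isCoprime_mul_unit_left_left hu1 g _).mpr
        ((isCoprime_mul_unit_left_right hu2 g h).mpr hcop)
    obtain ⟨A', i1, i2, i3, σ, hker, hau', g', h', hmul, hg', hh'⟩ :=
      monic_case A I f hf _ _ hg₁ hh₁ hfac hcop₁ a_u (by rw [ha_u]; exact u.isUnit)
    obtain ⟨hbij, hmk⟩ := Helper1.quotientMap_bijective_of_ker_eq I σ hker
    obtain ⟨w, hw⟩ := hau'
    have hcomp : (Ideal.Quotient.mk (I.map (algebraMap A A'))) =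
        (Ideal.quotientMap (I.map (algebraMap A A')) (algebraMap A A') Ideal.le_comap_map).comp
          (σ : A' →+* A ⧸ I) := RingHom.ext hmk
    have hmkw : Ideal.Quotient.mk (I.map (algebraMap A A')) (↑w : A') =
        Ideal.quotientMap (I.map (algebraMap A A')) (algebraMap A A') Ideal.le_comap_map
          (↑u : A ⧸ I) := by
      rw [hw, ← ha_u, Ideal.quotientMap_mk]
    have e1 : ∀ q : A'[X], q.map (Ideal.Quotient.mk (I.map (algebraMap A A'))) =
        (q.map (σ : A' →+* A ⧸ I)).map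
          (Ideal.quotientMap (I.map (algebraMap A A')) (algebraMap A A') Ideal.le_comap_map) := by
      intro q
      rw [Polynomial.map_map, ← hcomp]
    refine ⟨A', i1, i2, i3, hbij, C (↑w : A') * g', C (↑w⁻¹ : A') * h', ?_, ?_, ?_⟩
    · rw [hmul]
      have h4 : C (↑w : A') * g' * (C (↑w⁻¹ : A') * h') =
          (C (↑w : A') * C (↑w⁻¹ : A')) * (g' * h') := by ring
      rw [h4, ← C_mul, Units.mul_inv, C_1, one_mul]
    · rw [Polynomial.map_mul, Polynomial.map_C, hmkw, e1 g', hg', Polynomial.map_mul,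
        Polynomial.map_C, ← mul_assoc, ← C_mul, ← map_mul, Units.mul_inv, map_one, C_1, one_mul]
    · have h5 : Ideal.Quotient.mk (I.map (algebraMap A A')) (↑w⁻¹ : A') *
          Ideal.quotientMap (I.map (algebraMap A A')) (algebraMap A A') Ideal.le_comap_map
            (↑u : A ⧸ I) = 1 := by
        rw [← hmkw, ← map_mul, Units.inv_mul, map_one]
      rw [Polynomial.map_mul, Polynomial.map_C, e1 h', hh', Polynomial.map_mul,
        Polynomial.map_C, ← mul_assoc, ← C_mul, h5, C_1, one_mul]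

end Groth.Agent.S1957
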