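import Groth.Statements.S19571
import Mathlib

set_option autoImplicit false
universe u
open CategoryTheory AlgebraicGeometry
open EtaPt

namespace Groth.Agent.S19571

/-- Let f : Y → X be a morphism of schemes which is flat, surjective and locally of finite presentation.
Then every affine open U of X is covered by affine opens V each of which is the image f(W) of some
affine open W of Y; stated pointwise: for every x ∈ U there are an affine open V of X with x ∈ V ≤ U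
and an affine open W of Y with f(W) = V as sets. (For such V and W the induced ring map Γ(V) → Γ(W)
is then faithfully flat.) -/
theorem result
    {X Y : Scheme.{u}} (f : Y ⟶ X) [Flat f] [Surjective f] [LocallyOfFinitePresentation f]
    (U : X.affineOpens) (x : X) (hx : x ∈ (U : X.Opens)) :
    ∃ V : X.affineOpens, x ∈ (V : X.Opens) ∧ (V : X.Opens) ≤ (U : X.Opens) ∧
      ∃ W : Y.affineOpens, f.base '' ((W : Y.Opens) : Set Y) = ((V : X.Opens) : Set X) := by
  obtain ⟨y, rfl⟩ := f.surjective x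
  have hy : y ∈ ((f ⁻¹ᵁ (U : X.Opens) : Y.Opens) : Set Y) := hx
  obtain ⟨_, ⟨W0, hW0, rfl⟩, hyW0, hW0U⟩ :=
    Y.isBasis_affineOpens.exists_subset_of_mem_open hy (f ⁻¹ᵁ (U : X.Opens)).isOpen
  obtain ⟨O, hO⟩ : ∃ O : X.Opens, (O : Set X) = f '' (W0 : Set Y) :=
    ⟨⟨f '' (W0 : Set Y), f.isOpenMap _ W0.isOpen⟩, rfl⟩
  have hxO : f y ∈ O := by
    change f y ∈ (O : Set X)
    rw [hO]
    exact ⟨y, hyW0, rfl⟩
  obtain ⟨g, hgO, hxg⟩ := U.2.exists_basicOpen_le (V := O) ⟨f y, hxO⟩ hx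
  have hle : W0 ≤ f ⁻¹ᵁ (U : X.Opens) := hW0U
  obtain ⟨r, hr⟩ : ∃ r : Γ(Y, W0), r = Y.presheaf.map (homOfLE hle).op (f.app U g) := ⟨_, rfl⟩
  have hWeq : Y.basicOpen r = W0 ⊓ f ⁻¹ᵁ (X.basicOpen g) := by
    rw [hr, Scheme.basicOpen_res, Scheme.preimage_basicOpen]
  refine ⟨⟨X.basicOpen g, U.2.basicOpen g⟩, hxg, X.basicOpen_le g,
    ⟨Y.basicOpen r, hW0.basicOpen r⟩, ?_⟩
  change f '' ((Y.basicOpen r : Y.Opens) : Set Y) = ((X.basicOpen g : X.Opens) : Set X)
  rw [hWeq]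
  ext v
  constructor
  · rintro ⟨w, ⟨-, hw2⟩, rfl⟩
    exact hw2
  · intro hv
    have hvO : v ∈ (O : Set X) := hgO hv
    rw [hO] at hvO
    obtain ⟨w0, hw0, rfl⟩ := hvO
    exact ⟨w0, ⟨hw0, hv⟩, rfl⟩

end Groth.Agent.S19571
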