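import Groth.Statements.S19589
import Mathlib

set_option autoImplicit false
universe u v
open Brauer

namespace Groth.Agent.S19589

/-- Let R be a commutative ring and P a finitely generated projective R-module which is faithful. Then
End_R(P) is an Azumaya R-algebra. (The published statement is for a finite locally free sheaf E on a
scheme X and the sheaf of algebras End(E); this row is the case of affine X. Azumaya is taken in the
sense that includes faithfulness over R, which is why P is assumed faithful; the published notion
also admits rank zero.) -/
theorem result (R : Type u) [CommRing R]
    (P : Type v) [AddCommGroup P] [Module R P] [Module.Finite R P] [Module.Projective R P]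
    [FaithfulSMul R P] : IsAzumaya R (Module.End R P) := by
  let d : TensorProduct R (Module.Dual R P) P ≃ₗ[R] Module.End R P := dualTensorHomEquiv R P P
  have : Module.Projective R (Module.End R P) := Module.Projective.of_equiv d
  have : Module.Finite R (Module.End R P) := Module.Finite.equiv d
  have : FaithfulSMul R (Module.End R P) := by
    constructor
    intro r₁ r₂ h
    apply FaithfulSMul.eq_of_smul_eq_smul (α := P)
    intro p
    have := LinearMap.congr_fun (h 1) p
    simpa using this
  let ev := Module.evalEquiv R P
  let τ : Module.End R P ≃ₗ[R] Module.End R (Module.Dual R P) :=
    { toFun := fun f => f.dualMap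
      map_add' := by intros; ext; simp
      map_smul' := by intros; ext; simp
      invFun := fun g => ev.symm.toLinearMap ∘ₗ g.dualMap ∘ₗ ev.toLinearMap
      left_inv := by
        intro f; ext x
        apply ev.injective
        simp [ev]
        ext φ
        simp
      right_inv := by
        intro g; ext φ x
        simp [ev] }
  let h := homTensorHomEquiv R (Module.Dual R P) P (Module.Dual R P) P
  let e0 : (TensorProduct R (Module.End R P) (Module.End R P)ᵐᵒᵖ) ≃ₗ[R]
      TensorProduct R (Module.End R (Module.Dual R P)) (Module.End R P) :=
    (TensorProduct.comm R _ _).trans
      (TensorProduct.congr ((MulOpposite.opLinearEquiv R).symm.trans τ) (LinearEquiv.refl R _))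
  have key : (AlgHom.mulLeftRight R (Module.End R P)).toLinearMap =
      (d.conj).toLinearMap ∘ₗ h.toLinearMap ∘ₗ e0.toLinearMap := by
    apply TensorProduct.ext'
    intro a b
    apply (LinearMap.cancel_right d.surjective).1
    apply TensorProduct.ext'
    intro φ s
    ext v
    simp [d, h, e0, τ, LinearEquiv.conj_apply]
  have hbij : Function.Bijective (AlgHom.mulLeftRight R (Module.End R P)) := by
    have h2 : Function.Bijective (AlgHom.mulLeftRight R (Module.End R P)).toLinearMap := by
      rw [key]
      exact ((e0.trans h).trans d.conj).bijective
    exact h2
  exact ⟨hbij⟩

end Groth.Agent.S19589
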