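import Groth.Statements.S1959
import Mathlib
import Groth.Agent.Lib.helper1.HenselIdem3

set_option autoImplicit false
universe u
open Polynomial
open EtAlg

namespace Groth.Agent.S1959

/-- Let I be an ideal of a ring A, A -> B an integral ring map and b an element of B whose image in B/IB
is idempotent. Then there are d ≥ 1 and a monic polynomial f over A with f(b) = 0 whose reduction
modulo I is x^d (x - 1)^d. -/
theorem result (A B : Type u) [CommRing A] [CommRing B] [Algebra A B]
    [Algebra.IsIntegral A B] (I : Ideal A) (b : B)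
    (hb : IsIdempotentElem (Ideal.Quotient.mk (I.map (algebraMap A B)) b)) :
    ∃ (f : A[X]) (d : ℕ), f.Monic ∧ 1 ≤ d ∧ aeval b f = 0 ∧
      f.map (Ideal.Quotient.mk I) = X ^ d * (X - 1) ^ d := by
  rcases subsingleton_or_nontrivial A with hA | hA
  · haveI : Subsingleton B := Module.subsingleton A B
    haveI : Subsingleton (A ⧸ I) := (Ideal.Quotient.mk_surjective (I := I)).subsingleton
    exact ⟨1, 1, Subsingleton.elim _ _, le_refl _, Subsingleton.elim _ _, Subsingleton.elim _ _⟩
  · have hb' : b * b - b ∈ Ideal.map (algebraMap A B) I := by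
      have h1 := hb.eq
      rw [← map_mul, ← sub_eq_zero, ← map_sub, Ideal.Quotient.eq_zero_iff_mem] at h1
      exact h1
    obtain ⟨N, Q, hQm, hQmap, hQb⟩ :=
      Helper1.exists_monic_aeval_eq_zero_of_mem_map_of_isIntegral I (b * b - b) hb'
    refine ⟨(X * Q).comp (X * (X - C 1)), N + 1, ?_, by omega, ?_, ?_⟩
    · refine (monic_X.mul hQm).comp (monic_X.mul (monic_X_sub_C 1)) ?_
      rw [(monic_X).natDegree_mul (monic_X_sub_C 1), natDegree_X, natDegree_X_sub_C]
      norm_num
    · rw [aeval_comp]
      have h1 : aeval b (X * (X - C 1) : A[X]) = b * b - b := by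
        simp only [map_mul, aeval_X, map_sub, aeval_C, map_one]
        ring
      rw [h1, map_mul, hQb, mul_zero]
    · rw [Polynomial.map_comp]
      simp only [Polynomial.map_mul, Polynomial.map_X, hQmap, Polynomial.map_sub, Polynomial.map_C,
        map_one, Polynomial.map_one, mul_comp, X_comp, pow_comp, sub_comp, C_comp]
      rw [← pow_succ', mul_pow]

end Groth.Agent.S1959
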