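import Groth.Statements.S19590
import Mathlib

set_option autoImplicit false
open BddFin

namespace Groth.Agent.S19590

theorem h9_mink_key (n p ℓ : ℕ) [Fact p.Prime] (hℓ : ℓ.Prime) (hpl : p ≠ ℓ)
    (A : Matrix (Fin n) (Fin n) ℤ)
    (hA : (Int.castRingHom (ZMod p)).mapMatrix A = 1) (hAl : A ^ ℓ = 1) : A = 1 := by
  have hp : p.Prime := Fact.out
  set G : Matrix (Fin n) (Fin n) ℤ := ∑ i ∈ Finset.range ℓ, A ^ i with hG
  have h1 : G * (A - 1) = 0 := by
    rw [hG, geom_sum_mul, hAl, sub_self]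
  have h2 : (Int.castRingHom (ZMod p)).mapMatrix G =
      ((ℓ : ZMod p)) • (1 : Matrix (Fin n) (Fin n) (ZMod p)) := by
    rw [hG, map_sum]
    simp only [map_pow, hA, one_pow, Finset.sum_const, Finset.card_range]
    rw [Nat.cast_smul_eq_nsmul (ZMod p)]
  have hne : (ℓ : ZMod p) ≠ 0 := by
    intro h0
    rw [ZMod.natCast_eq_zero_iff] at h0
    exact hpl ((Nat.prime_dvd_prime_iff_eq hp hℓ).mp h0)
  have h3 : G.det ≠ 0 := by
    intro h0
    have h4 : ((Int.castRingHom (ZMod p)).mapMatrix G).det = 0 := by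
      rw [← RingHom.map_det, h0, map_zero]
    rw [h2, Matrix.det_smul, Matrix.det_one, mul_one] at h4
    exact absurd h4 (pow_ne_zero _ hne)
  have h6 : G.det • (A - 1) = 0 := by
    have h5 := congrArg (fun X => G.adjugate * X) h1
    simp only [mul_zero] at h5
    rw [← mul_assoc, Matrix.adjugate_mul, Matrix.smul_mul, one_mul] at h5
    exact h5
  have h7 : A - 1 = 0 := by
    ext i j
    have h8 := congrFun (congrFun h6 i) j
    simp only [Matrix.smul_apply, Matrix.zero_apply, smul_eq_mul] at h8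
    exact (mul_eq_zero.mp h8).resolve_left h3
  exact sub_eq_zero.mp h7

theorem h9_mink_tf (n : ℕ) : ∀ d : ℕ, 0 < d → ∀ M : Matrix (Fin n) (Fin n) ℤ, M ^ d = 1 →
    (Int.castRingHom (ZMod 3)).mapMatrix M = 1 → (Int.castRingHom (ZMod 5)).mapMatrix M = 1 →
    M = 1 := by
  intro d
  induction d using Nat.strong_induction_on with
  | _ d ih =>
    intro hd M hM h3 h5
    by_cases hd1 : d = 1
    · rw [hd1, pow_one] at hM; exact hM
    · have hℓ : (Nat.minFac d).Prime := Nat.minFac_prime hd1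
      obtain ⟨d', hd'⟩ := Nat.minFac_dvd d
      have hd'pos : 0 < d' := by
        rcases Nat.eq_zero_or_pos d' with h | h
        · rw [h, mul_zero] at hd'; omega
        · exact h
      have hd'lt : d' < d := by
        have h2 := hℓ.two_le
        calc d' < 2 * d' := by omega
          _ ≤ Nat.minFac d * d' := Nat.mul_le_mul_right _ h2
          _ = d := hd'.symm
      have hB : (M ^ d') ^ (Nat.minFac d) = 1 := by
        rw [← pow_mul, mul_comm, ← hd']; exact hM
      have hB1 : M ^ d' = 1 := by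
        by_cases h3l : (3 : ℕ) = Nat.minFac d
        · haveI : Fact (Nat.Prime 5) := ⟨by norm_num⟩
          exact h9_mink_key n 5 (Nat.minFac d) hℓ (by omega) (M ^ d')
            (by rw [map_pow, h5, one_pow]) hB
        · haveI : Fact (Nat.Prime 3) := ⟨by norm_num⟩
          exact h9_mink_key n 3 (Nat.minFac d) hℓ h3l (M ^ d')
            (by rw [map_pow, h3, one_pow]) hB
      exact ih d' hd'lt hd'pos M hB1 h3 h5

/-- For every n, the orders of the finite subgroups of GL_n(ℤ) are bounded: there is B such that every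
finite subgroup of GL_n(ℤ) has at most B elements. -/
theorem result (n : ℕ) :
    ∃ B : ℕ, ∀ H : Subgroup (Matrix.GeneralLinearGroup (Fin n) ℤ), Finite H → Nat.card H ≤ B := by
  refine ⟨Nat.card (Matrix (Fin n) (Fin n) (ZMod 3) × Matrix (Fin n) (Fin n) (ZMod 5)), ?_⟩
  intro H hH
  let f : H → Matrix (Fin n) (Fin n) (ZMod 3) × Matrix (Fin n) (Fin n) (ZMod 5) := fun h =>
    ((Int.castRingHom (ZMod 3)).mapMatrix (h.1.val),
     (Int.castRingHom (ZMod 5)).mapMatrix (h.1.val))
  have hf : Function.Injective f := by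
    intro h₁ h₂ h12
    have e3 : (Int.castRingHom (ZMod 3)).mapMatrix (h₁.1.val) =
        (Int.castRingHom (ZMod 3)).mapMatrix (h₂.1.val) := congrArg Prod.fst h12
    have e5 : (Int.castRingHom (ZMod 5)).mapMatrix (h₁.1.val) =
        (Int.castRingHom (ZMod 5)).mapMatrix (h₂.1.val) := congrArg Prod.snd h12
    have hgval : ((h₁⁻¹ * h₂ : H).1).val = (h₁.1⁻¹).val * h₂.1.val := by
      simp
    have hinv : (h₁.1⁻¹).val * h₁.1.val = 1 := by
      rw [← Units.val_mul, inv_mul_cancel, Units.val_one]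
    have hφ : ∀ (p : ℕ), (Int.castRingHom (ZMod p)).mapMatrix (h₁.1.val) =
        (Int.castRingHom (ZMod p)).mapMatrix (h₂.1.val) →
        (Int.castRingHom (ZMod p)).mapMatrix ((h₁⁻¹ * h₂ : H).1).val = 1 := by
      intro p hp
      rw [hgval, map_mul, ← hp, ← map_mul, hinv, map_one]
    obtain ⟨d, hdpos, hd⟩ := (isOfFinOrder_iff_pow_eq_one.mp (isOfFinOrder_of_finite (h₁⁻¹ * h₂ : H)))
    have hd' : ((h₁⁻¹ * h₂ : H).1).val ^ d = 1 := by
      have h9 := congrArg (fun x : H => (x.1).val) hd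
      simpa using h9
    have hg1 : ((h₁⁻¹ * h₂ : H).1).val = 1 :=
      h9_mink_tf n d hdpos _ hd' (hφ 3 e3) (hφ 5 e5)
    have hg1' : (h₁⁻¹ * h₂ : H) = 1 := by
      apply Subtype.ext
      apply Units.ext
      exact hg1
    exact inv_mul_eq_one.mp hg1'
  exact Nat.card_le_card_of_injective f hf

end Groth.Agent.S19590
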