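import Groth.Statements.S19591
import Mathlib

set_option autoImplicit false
universe u v
open BddFin

namespace Groth.Agent.S19591

/-- Let K be a perfect field of characteristic 2, V a finite-dimensional K-vector space with dim V > 2
and q a quadratic form on V whose polar bilinear form is non-degenerate. Then q represents zero
non-trivially. (Non-degeneracy of the polar form, which is alternating in characteristic 2, forces
dim V to be even, as the published lemma notes.) -/
theorem result
    (K : Type u) [Field K] [CharP K 2] [PerfectField K]
    (V : Type v) [AddCommGroup V] [Module K V] [FiniteDimensional K V]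
    (hV : 2 < Module.finrank K V) (q : QuadraticForm K V)
    (hq : (QuadraticMap.polarBilin q).Nondegenerate) :
    ∃ v : V, v ≠ 0 ∧ q v = 0 := by
  have h2 : (2 : K) = 0 := by
    have := CharP.cast_eq_zero K 2
    exact_mod_cast this
  have hpos : 0 < Module.finrank K V := by omega
  obtain ⟨u, hu⟩ : ∃ u : V, u ≠ 0 := by
    haveI : Nontrivial V := Module.nontrivial_of_finrank_pos hpos
    exact exists_ne 0
  by_cases hqu : q u = 0
  · exact ⟨u, hu, hqu⟩
  · set φ : V →ₗ[K] K := QuadraticMap.polarBilin q u with hφ
    have hker : 2 ≤ Module.finrank K (LinearMap.ker φ) := by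
      have h1 := LinearMap.finrank_range_add_finrank_ker φ
      have h3 : Module.finrank K (LinearMap.range φ) ≤ 1 := by
        have := Submodule.finrank_le (LinearMap.range φ)
        rwa [Module.finrank_self] at this
      omega
    have hspan : Module.finrank K (Submodule.span K ({u} : Set V)) ≤ 1 := by
      have := finrank_span_le_card ({u} : Set V) (R := K)
      simpa using this
    have hnle : ¬ (LinearMap.ker φ ≤ Submodule.span K ({u} : Set V)) := by
      intro hle
      have := Submodule.finrank_mono hle
      omega
    obtain ⟨w, hwker, hwspan⟩ := SetLike.not_le_iff_exists.mp hnle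
    have hB : QuadraticMap.polar q u w = 0 := by
      have : φ w = 0 := hwker
      simpa [hφ] using this
    haveI : ExpChar K 2 := ExpChar.prime Nat.prime_two
    haveI : PerfectRing K 2 := PerfectField.toPerfectRing 2
    obtain ⟨a, ha⟩ := surjective_frobenius K 2 (q u)
    obtain ⟨b, hb⟩ := surjective_frobenius K 2 (q w)
    rw [frobenius_def] at ha hb
    have ha0 : a ≠ 0 := by
      intro h0
      rw [h0] at ha
      apply hqu
      rw [← ha]
      ring
    refine ⟨b • u + a • w, ?_, ?_⟩
    · intro hzero
      apply hwspan
      rw [Submodule.mem_span_singleton]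
      refine ⟨-(a⁻¹ * b), ?_⟩
      have : a • w = -(b • u) := eq_neg_of_add_eq_zero_right hzero
      calc (-(a⁻¹ * b)) • u = a⁻¹ • (-(b • u)) := by rw [neg_smul, mul_smul, smul_neg]
        _ = a⁻¹ • (a • w) := by rw [this]
        _ = w := by rw [smul_smul, inv_mul_cancel₀ ha0, one_smul]
    · have hadd := QuadraticMap.polar q (b • u) (a • w)
      have e1 : q (b • u + a • w) = q (b • u) + q (a • w) + QuadraticMap.polar q (b • u) (a • w) := by
        unfold QuadraticMap.polar
        ring
      rw [e1, QuadraticMap.map_smul, QuadraticMap.map_smul, QuadraticMap.polar_smul_left,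
        QuadraticMap.polar_smul_right, hB, ← ha, ← hb]
      simp only [smul_eq_mul, mul_zero, add_zero]
      have : b * b * a ^ 2 + a * a * b ^ 2 = 2 * (a ^ 2 * b ^ 2) := by ring
      rw [this, h2, zero_mul]

end Groth.Agent.S19591
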