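import Groth.Statements.S19603
import Mathlib
import Groth.Agent.Lib.helper9.OrbitLib

set_option autoImplicit false
universe u
open GIT

namespace Groth.Agent.S19603

section gr
open TensorProduct
variable {k : Type u} [Field k] {A : Type u} [CommRing A] [Bialgebra k A]
  {ι : Type u} [Fintype ι] [HopfRep.Comod k A (MvPolynomial ι k)]
  [GLin.IsCoactAlg k A (MvPolynomial ι k)]

/-- the span of `p ⊗ a` with `p` homogeneous of degree `e` -/
noncomputable def SS (k : Type u) [Field k] (A : Type u) [CommRing A] [Bialgebra k A] (ι : Type u) (e : ℕ) :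
    Submodule k (MvPolynomial ι k ⊗[k] A) :=
  Submodule.span k {t | ∃ p : MvPolynomial ι k, p.IsHomogeneous e ∧ ∃ a : A, t = p ⊗ₜ[k] a}

omit [Fintype ι] [HopfRep.Comod k A (MvPolynomial ι k)] [GLin.IsCoactAlg k A (MvPolynomial ι k)] in
theorem SS_mul {d e : ℕ} {t t' : MvPolynomial ι k ⊗[k] A} (ht : t ∈ SS k A ι d)
    (ht' : t' ∈ SS k A ι e) : t * t' ∈ SS k A ι (d + e) := by
  have h : SS k A ι d * SS k A ι e ≤ SS k A ι (d + e) := by
    rw [SS, SS, Submodule.span_mul_span]
    apply Submodule.span_le.mpr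
    rintro _ ⟨_, ⟨p, hp, a, rfl⟩, _, ⟨q, hq, b, rfl⟩, rfl⟩
    show (p ⊗ₜ[k] a) * (q ⊗ₜ[k] b) ∈ SS k A ι (d + e)
    rw [Algebra.TensorProduct.tmul_mul_tmul]
    exact Submodule.subset_span ⟨p * q, hp.mul hq, a * b, rfl⟩
  exact h (Submodule.mul_mem_mul ht ht')

omit [Fintype ι] [HopfRep.Comod k A (MvPolynomial ι k)] [GLin.IsCoactAlg k A (MvPolynomial ι k)] in
theorem SS_one : (1 : MvPolynomial ι k ⊗[k] A) ∈ SS k A ι 0 :=
  Submodule.subset_span ⟨1, MvPolynomial.isHomogeneous_one _ _, 1, rfl⟩

omit [Fintype ι] [HopfRep.Comod k A (MvPolynomial ι k)] [GLin.IsCoactAlg k A (MvPolynomial ι k)] in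
theorem SS_pow {t : MvPolynomial ι k ⊗[k] A} (ht : t ∈ SS k A ι 1) (n : ℕ) :
    t ^ n ∈ SS k A ι n := by
  induction n with
  | zero => rw [pow_zero]; exact SS_one
  | succ n ih => rw [pow_succ]; exact SS_mul ih ht

omit [Fintype ι] [HopfRep.Comod k A (MvPolynomial ι k)] [GLin.IsCoactAlg k A (MvPolynomial ι k)] in
theorem SS_proj {e d : ℕ} {t : MvPolynomial ι k ⊗[k] A} (ht : t ∈ SS k A ι e) :
    (MvPolynomial.homogeneousComponent d : MvPolynomial ι k →ₗ[k] MvPolynomial ι k).rTensor A t =
      if d = e then t else 0 := by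
  induction ht using Submodule.span_induction with
  | mem x h =>
    obtain ⟨p, hp, a, rfl⟩ := h
    rw [LinearMap.rTensor_tmul, MvPolynomial.homogeneousComponent_of_mem hp]
    split_ifs
    · rfl
    · rw [TensorProduct.zero_tmul]
  | zero => simp
  | add x y _ _ hx hy =>
    rw [map_add, hx, hy]
    split_ifs
    · rfl
    · rw [add_zero]
  | smul c x _ hx =>
    rw [map_smul, hx]
    split_ifs
    · rfl
    · rw [smul_zero]

theorem coact_X_mem (hlin : GLin.IsLinear k A ι) (i : ι) :
    HopfRep.Comod.coact (k := k) (A := A) (MvPolynomial.X i : MvPolynomial ι k) ∈ SS k A ι 1 := by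
  obtain ⟨m, hm⟩ := hlin i
  rw [hm]
  exact Submodule.sum_mem _ fun j _ =>
    Submodule.subset_span ⟨MvPolynomial.X j, MvPolynomial.isHomogeneous_X _ j, m j, rfl⟩

theorem coact_monomial_mem (hlin : GLin.IsLinear k A ι) (s : ι →₀ ℕ) (c : k) :
    HopfRep.Comod.coact (k := k) (A := A) (MvPolynomial.monomial s c : MvPolynomial ι k) ∈
      SS k A ι s.degree := by
  classical
  rw [← GLin.coactAlgHom_apply, MvPolynomial.monomial_eq, map_mul, Finsupp.prod, map_prod]
  have h1 : GLin.coactAlgHom k A (MvPolynomial ι k) (MvPolynomial.C c) ∈ SS k A ι 0 := by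
    rw [← MvPolynomial.algebraMap_eq, AlgHom.commutes, Algebra.algebraMap_eq_smul_one]
    exact Submodule.smul_mem _ _ SS_one
  have h2 : ∀ T : Finset ι, ∏ i ∈ T, GLin.coactAlgHom k A (MvPolynomial ι k)
      ((MvPolynomial.X i : MvPolynomial ι k) ^ s i) ∈ SS k A ι (∑ i ∈ T, s i) := by
    intro T
    induction T using Finset.induction_on with
    | empty => rw [Finset.prod_empty, Finset.sum_empty]; exact SS_one
    | insert i T hi ih =>
      rw [Finset.prod_insert hi, Finset.sum_insert hi, map_pow]
      exact SS_mul (SS_pow (coact_X_mem hlin i) _) ih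
  have h3 := SS_mul h1 (h2 s.support)
  rw [zero_add] at h3
  exact h3

theorem coact_hom_mem (hlin : GLin.IsLinear k A ι) {e : ℕ} {F : MvPolynomial ι k}
    (hF : F.IsHomogeneous e) :
    HopfRep.Comod.coact (k := k) (A := A) F ∈ SS k A ι e := by
  have hsum : HopfRep.Comod.coact (k := k) (A := A) F = ∑ s ∈ F.support,
      HopfRep.Comod.coact (k := k) (A := A) (MvPolynomial.monomial s (MvPolynomial.coeff s F)) := by
    conv_lhs => rw [F.as_sum]
    rw [map_sum]
  rw [hsum]
  refine Submodule.sum_mem _ fun s hs => ?_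
  have hdeg : s.degree = e := by
    by_contra hne
    exact (MvPolynomial.mem_support_iff.mp hs) (hF.coeff_eq_zero hne)
  rw [← hdeg]
  exact coact_monomial_mem hlin s _

theorem GR (hlin : GLin.IsLinear k A ι) (d : ℕ) (F : MvPolynomial ι k) :
    HopfRep.Comod.coact (k := k) (A := A) (MvPolynomial.homogeneousComponent d F) =
      (MvPolynomial.homogeneousComponent d : MvPolynomial ι k →ₗ[k] MvPolynomial ι k).rTensor A
        (HopfRep.Comod.coact (k := k) (A := A) F) := by
  have hF := MvPolynomial.sum_homogeneousComponent F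
  conv_rhs => rw [← hF]
  rw [map_sum, map_sum]
  rw [Finset.sum_congr rfl (fun e _ =>
    SS_proj (coact_hom_mem hlin (MvPolynomial.homogeneousComponent_isHomogeneous e F)))]
  rw [Finset.sum_ite_eq]
  split_ifs with h
  · rfl
  · rw [MvPolynomial.homogeneousComponent_eq_zero _ _ (by simpa using h), map_zero]

theorem inv_component (hlin : GLin.IsLinear k A ι) (d : ℕ) (F : MvPolynomial ι k)
    (hF : F ∈ GLin.invariants k A (MvPolynomial ι k)) :
    MvPolynomial.homogeneousComponent d F ∈ GLin.invariants k A (MvPolynomial ι k) := by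
  rw [GLin.mem_invariants_iff] at hF ⊢
  rw [GR hlin, hF, LinearMap.rTensor_tmul]

end gr

section main
open TensorProduct
variable {k : Type u} [Field k] [IsAlgClosed k] {A : Type u} [CommRing A] [Bialgebra k A]
  {ι : Type u} [Fintype ι] [HopfRep.Comod k A (MvPolynomial ι k)]
  [GLin.IsCoactAlg k A (MvPolynomial ι k)]

theorem main (hG : HopfRep.IsLinearlyReductive k A) (hlin : GLin.IsLinear k A ι) (v : ι → k) :
    GLin.IsSemistableVec k A v ↔
      ¬ GLin.InOrbitClosure k A (GLin.vecPt k ι v) (GLin.vecPt k ι (fun _ => (0 : k))) := by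
  constructor
  · intro hss hcl
    apply hss
    intro F hF d hd hhom
    have h1 := H9Orb.closure_inv _ _ hcl F hF
    have h2 : GLin.vecPt k ι (fun _ => (0 : k)) F = 0 := by
      show MvPolynomial.eval (fun _ => (0 : k)) F = 0
      rw [MvPolynomial.eval_zero', MvPolynomial.constantCoeff_eq]
      exact hhom.coeff_eq_zero (by rw [map_zero]; omega)
    rw [h2] at h1
    have h3 : GLin.vecPt k ι v F = MvPolynomial.eval v F := rfl
    rw [← h3, ← h1]
  · intro hncl
    -- an element of the kernel of the orbit map not vanishing at the origin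
    obtain ⟨j, hj, hj0⟩ : ∃ j, j ∈ RingHom.ker (GLin.orbitHom k A (GLin.vecPt k ι v)) ∧
        j ∉ RingHom.ker (GLin.vecPt k ι (fun _ => (0 : k))) := by
      by_contra hno
      push Not at hno
      exact hncl hno
    rw [RingHom.mem_ker] at hj hj0
    obtain ⟨z₀, hz₀⟩ : ∃ z₀ : MvPolynomial ι k →ₐ[k] k, z₀ = GLin.vecPt k ι (fun _ => (0 : k)) :=
      ⟨_, rfl⟩
    obtain ⟨xv, hxv⟩ : ∃ xv : MvPolynomial ι k →ₐ[k] k, xv = GLin.vecPt k ι v := ⟨_, rfl⟩
    rw [← hz₀] at hj0
    rw [← hxv] at hj
    obtain ⟨E, hE1, hE2, hE3⟩ := H9Rey.exists_reynolds (V := MvPolynomial ι k) hG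
    have hEmem : ∀ r, E r ∈ GLin.invariants k A (MvPolynomial ι k) := fun r =>
      (hE3 _).mp (by rw [← LinearMap.comp_apply, hE2])
    -- the origin is a fixed point
    have hfix : ∀ f, GLin.orbitHom k A z₀ f = algebraMap k A (z₀ f) := by
      have h : GLin.orbitHom k A z₀ = (Algebra.ofId k A).comp z₀ := by
        apply MvPolynomial.algHom_ext
        intro i
        obtain ⟨m, hm⟩ := hlin i
        rw [H9Orb.orb_eq, hm, map_sum]
        have hz : ∀ j : ι, z₀ (MvPolynomial.X j) = 0 := by
          intro j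
          rw [hz₀]
          show MvPolynomial.aeval (fun _ => (0 : k)) (MvPolynomial.X j) = 0
          rw [MvPolynomial.aeval_X]
        rw [Finset.sum_eq_zero (fun j _ => by rw [H9Orb.psi_tmul, hz, zero_smul]),
          AlgHom.comp_apply, hz, map_zero]
      intro f
      rw [h]
      rfl
    -- n := 1 - j / z₀ j lies in the kernel of z₀
    obtain ⟨n, hn⟩ : ∃ n : MvPolynomial ι k, n = 1 - (z₀ j)⁻¹ • j := ⟨_, rfl⟩
    have hn0 : z₀ n = 0 := by
      rw [hn, map_sub, map_one, map_smul, smul_eq_mul, inv_mul_cancel₀ hj0, sub_self]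
    have hEn0 : z₀ (E n) = 0 := by
      have h1 : GLin.orbitHom k A z₀ (E n) = 0 :=
        H9Rey.reynolds_mem_subcomod hG E hE1 hE2 hE3 _ (H9Orb.isSubcomod_kerOrb z₀) n
          (by rw [LinearMap.mem_ker]; show GLin.orbitHom k A z₀ n = 0; rw [hfix, hn0, map_zero])
      exact H9Orb.inv_ker_orb z₀ _ (hEmem _) h1
    have hEj : xv (E j) = 0 := by
      have h1 : GLin.orbitHom k A xv (E j) = 0 :=
        H9Rey.reynolds_mem_subcomod hG E hE1 hE2 hE3 _ (H9Orb.isSubcomod_kerOrb xv) j hj
      exact H9Orb.inv_ker_orb xv _ (hEmem _) h1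
    have hE1' : E 1 = 1 := (hE3 1).mpr (Subalgebra.one_mem (GLin.invariants k A (MvPolynomial ι k)))
    have hEnv : xv (E n) = 1 := by
      rw [hn, map_sub, map_smul, hE1', map_sub, map_one, map_smul, hEj, smul_zero, sub_zero]
    -- decompose G = E n into homogeneous components
    obtain ⟨G, hG'⟩ : ∃ G : MvPolynomial ι k, G = E n := ⟨_, rfl⟩
    rw [← hG'] at hEn0 hEnv
    have hGinv : G ∈ GLin.invariants k A (MvPolynomial ι k) := by rw [hG']; exact hEmem n
    have hsum := MvPolynomial.sum_homogeneousComponent G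
    have hex : ∃ d ∈ Finset.range (G.totalDegree + 1),
        xv (MvPolynomial.homogeneousComponent d G) ≠ 0 := by
      by_contra hno
      push Not at hno
      have h0 : xv G = 0 := by
        rw [← hsum, map_sum]
        exact Finset.sum_eq_zero hno
      rw [hEnv] at h0
      exact one_ne_zero h0
    obtain ⟨d, _, hd⟩ := hex
    have hd0 : d ≠ 0 := by
      rintro rfl
      apply hd
      rw [MvPolynomial.homogeneousComponent_zero]
      have h5 : MvPolynomial.coeff 0 G = 0 := by
        have h6 : z₀ G = MvPolynomial.coeff 0 G := by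
          rw [hz₀]
          show MvPolynomial.eval (fun _ => (0 : k)) G = _
          rw [MvPolynomial.eval_zero', MvPolynomial.constantCoeff_eq]
        rw [← h6, hEn0]
      rw [h5, map_zero, map_zero]
    intro hnull
    apply hd
    have h7 := hnull _ (inv_component hlin d G hGinv) d (Nat.pos_of_ne_zero hd0)
      (MvPolynomial.homogeneousComponent_isHomogeneous d G)
    rw [hxv]
    exact h7

end main

/-- For the whole projective space U = P(V), let k be an algebraically closed field of arbitrary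
characteristic and G = Spec A a linearly reductive affine algebraic group acting linearly on affine
ι-space, and let v be a vector. Then some invariant homogeneous polynomial of positive degree is
non-zero at v (the point of v is semistable) if and only if the origin is not in the closure of the
orbit of v. -/
theorem result (k : Type u) [Field k] [IsAlgClosed k]
    (A : Type u) [CommRing A] [HopfAlgebra k A] [Algebra.FiniteType k A] (hG : HopfRep.IsLinearlyReductive k A)
    (ι : Type u) [Fintype ι] [HopfRep.Comod k A (MvPolynomial ι k)] [GLin.IsCoactAlg k A (MvPolynomial ι k)]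
    (hlin : GLin.IsLinear k A ι) (v : ι → k) :
    GLin.IsSemistableVec k A v ↔
      ¬ GLin.InOrbitClosure k A (GLin.vecPt k ι v) (GLin.vecPt k ι (fun _ => (0 : k))) := by
  exact main hG hlin v

end Groth.Agent.S19603
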