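import Groth.Statements.S19609
import Mathlib

set_option autoImplicit false
universe u
open CartMod

namespace Groth.Agent.S19609

/-- Let p be a prime and u : A → B a ring homomorphism between commutative rings which are complete and
separated for the p-adic topology and have no p-torsion (flat over the p-adic base). If u induces a
bijection A/pA → B/pB (injectivity: u a ∈ pB forces a ∈ pA; surjectivity: every b ∈ B is congruent
to some u a modulo pB), then u is bijective. (The published statement is for a morphism of flat
p-adic formal schemes over the Witt vectors of a perfect field: if its special fibre is an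
isomorphism, so is the morphism; this row is its affine, ring-level case.) -/
theorem result (p : ℕ) [Fact p.Prime]
    {A B : Type u} [CommRing A] [CommRing B]
    [IsAdicComplete (Ideal.span {(p : A)}) A] [IsAdicComplete (Ideal.span {(p : B)}) B]
    (hA : IsSMulRegular A (p : A)) (hB : IsSMulRegular B (p : B)) (u : A →+* B)
    (hinj : ∀ a : A, u a ∈ Ideal.span {(p : B)} → a ∈ Ideal.span {(p : A)})
    (hsurj : ∀ b : B, ∃ a : A, b - u a ∈ Ideal.span {(p : B)}) :
    Function.Bijective u := by
  have haus : ∀ (R : Type u) [CommRing R] [IsHausdorff (Ideal.span {(p : R)}) R] (x : R),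
      (∀ n : ℕ, ∃ c, x = (p : R) ^ n * c) → x = 0 := by
    intro R _ _ x hx
    apply IsHausdorff.haus' (I := Ideal.span {(p : R)}) x
    intro n
    rw [SModEq.zero, smul_eq_mul, Ideal.mul_top, Ideal.span_singleton_pow, Ideal.mem_span_singleton']
    obtain ⟨c, hc⟩ := hx n
    exact ⟨c, by rw [hc]; ring⟩
  constructor
  · rw [injective_iff_map_eq_zero]
    intro a ha
    apply haus A a
    intro n
    induction n with
    | zero => exact ⟨a, by simp⟩
    | succ n ih =>
      obtain ⟨c, hc⟩ := ih
      have h1 : ((p : B) ^ n) • u c = ((p : B) ^ n) • 0 := by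
        rw [smul_zero, smul_eq_mul, ← ha, hc]; simp
      have h2 : u c = 0 := (hB.pow n) h1
      have h3 : c ∈ Ideal.span {(p : A)} := hinj c (by rw [h2]; exact Submodule.zero_mem _)
      obtain ⟨c', hc'⟩ := Ideal.mem_span_singleton'.mp h3
      exact ⟨c', by rw [hc, ← hc']; ring⟩
  · intro b
    choose ch hch using hsurj
    have hdv : ∀ b : B, ∃ b' : B, b - u (ch b) = (p : B) * b' := by
      intro b
      obtain ⟨c, hc⟩ := Ideal.mem_span_singleton'.mp (hch b)
      exact ⟨c, by rw [← hc]; ring⟩
    choose dv hdv' using hdv
    let bs : ℕ → B := fun n => Nat.rec b (fun _ x => dv x) n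
    have hbs : ∀ n, bs (n + 1) = dv (bs n) := fun n => rfl
    let s : ℕ → A := fun n => ∑ k ∈ Finset.range n, (p : A) ^ k * ch (bs k)
    have key : ∀ n, b = u (s n) + (p : B) ^ n * bs n := by
      intro n
      induction n with
      | zero => simp [s, bs]
      | succ n ih =>
        have h1 : s (n + 1) = s n + (p : A) ^ n * ch (bs n) := Finset.sum_range_succ _ _
        have h2 := hdv' (bs n)
        rw [h1, hbs, map_add, map_mul, map_pow, map_natCast]
        have h3 : bs n = u (ch (bs n)) + (p : B) * dv (bs n) := by rw [← h2]; ring
        conv_lhs => rw [ih]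
        conv_lhs => rw [h3]
        ring
    have hcauchy : ∀ {m n : ℕ}, m ≤ n →
        s m ≡ s n [SMOD (Ideal.span {(p : A)} ^ m • ⊤ : Submodule A A)] := by
      intro m n hmn
      induction n, hmn using Nat.le_induction with
      | base => exact SModEq.refl _
      | succ n hmn ih =>
        refine ih.trans ?_
        have h1 : s (n + 1) = s n + (p : A) ^ n * ch (bs n) := Finset.sum_range_succ _ _
        rw [SModEq.sub_mem, h1, smul_eq_mul, Ideal.mul_top, Ideal.span_singleton_pow,
          Ideal.mem_span_singleton']
        refine ⟨-((p : A) ^ (n - m) * ch (bs n)), ?_⟩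
        have : (p : A) ^ n = (p : A) ^ (n - m) * (p : A) ^ m := by
          rw [← pow_add, Nat.sub_add_cancel hmn]
        rw [this]; ring
    obtain ⟨L, hL⟩ := IsPrecomplete.prec (I := Ideal.span {(p : A)}) (M := A)
      (by infer_instance) (f := s) hcauchy
    refine ⟨L, ?_⟩
    rw [← sub_eq_zero]
    apply haus B
    intro n
    have h1 := hL n
    rw [SModEq.sub_mem, smul_eq_mul, Ideal.mul_top, Ideal.span_singleton_pow,
      Ideal.mem_span_singleton'] at h1
    obtain ⟨c, hc⟩ := h1
    refine ⟨- u c - bs n, ?_⟩
    have h2 : L = s n - c * (p : A) ^ n := by rw [hc]; ring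
    rw [h2, key n]
    simp only [map_sub, map_mul, map_pow, map_natCast]
    ring

end Groth.Agent.S19609
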