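import Groth.Statements.S6349
import Groth.Agent.Lib.helper1.LocalCrit

set_option autoImplicit false
universe u
open scoped TensorProduct
open CAlg

open TensorProduct
namespace Groth.Agent.S6349

/-- Let I be an ideal of a commutative ring R and M an R-module such that M/IM is flat over R/I and
Tor_1^R(R/I, M) = 0, i.e. the map I ⊗_R M → M is injective. Then M/IⁿM is flat over R/Iⁿ for every n
≥ 1. (When I is nilpotent this yields flatness of M itself, a standard companion statement.) -/
theorem result (R : Type u) [CommRing R] (I : Ideal R) (M : Type u)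
    [AddCommGroup M] [Module R M] [Module.Flat (R ⧸ I) ((R ⧸ I) ⊗[R] M)]
    (htor : Function.Injective ((Submodule.subtype I).rTensor M)) (n : ℕ) (hn : 1 ≤ n) :
    Module.Flat (R ⧸ I ^ n) ((R ⧸ I ^ n) ⊗[R] M) := by
  rw [Module.Flat.iff_rTensor_injective']
  intro 𝔞
  have h := Helper1.rTensor_subtype_injective_of_localCriterion (M := M) I htor n (𝔞.restrictScalars R)
  let ι : ↥𝔞 ≃ₗ[R] ↥(𝔞.restrictScalars R) :=
    ((Submodule.restrictScalarsEquiv R (R ⧸ I ^ n) (R ⧸ I ^ n) 𝔞).restrictScalars R).symm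
  let Φ := (TensorProduct.AlgebraTensorModule.cancelBaseChange R (R ⧸ I ^ n) (R ⧸ I ^ n) ↥𝔞 M)
  let Ψ := (TensorProduct.AlgebraTensorModule.cancelBaseChange R (R ⧸ I ^ n) (R ⧸ I ^ n) (R ⧸ I ^ n) M)
  have key : ∀ x : ↥𝔞 ⊗[R ⧸ I ^ n] ((R ⧸ I ^ n) ⊗[R] M),
      Ψ ((𝔞.subtype.rTensor ((R ⧸ I ^ n) ⊗[R] M)) x) =
        ((𝔞.restrictScalars R).subtype.rTensor M)
          ((TensorProduct.congr ι (LinearEquiv.refl R M)) (Φ x)) := by
    intro x
    induction x using TensorProduct.induction_on with
    | zero => simp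
    | tmul a y =>
      induction y using TensorProduct.induction_on with
      | zero => simp
      | tmul b m => rfl
      | add y₁ y₂ h₁ h₂ => simp only [TensorProduct.tmul_add, map_add, h₁, h₂]
    | add x₁ x₂ h₁ h₂ => simp only [map_add, h₁, h₂]
  have hinj : Function.Injective
      (fun x => Ψ ((𝔞.subtype.rTensor ((R ⧸ I ^ n) ⊗[R] M)) x)) := by
    have : (fun x => Ψ ((𝔞.subtype.rTensor ((R ⧸ I ^ n) ⊗[R] M)) x)) =
        fun x => ((𝔞.restrictScalars R).subtype.rTensor M)
          ((TensorProduct.congr ι (LinearEquiv.refl R M)) (Φ x)) := funext key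
    rw [this]
    exact h.comp ((TensorProduct.congr ι (LinearEquiv.refl R M)).injective.comp Φ.injective)
  exact Function.Injective.of_comp (f := Ψ) hinj

end Groth.Agent.S6349
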