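import Groth.Statements.S19610
import Mathlib
import Groth.Agent.S6349

set_option autoImplicit false
universe u
open scoped TensorProduct
open CartMod

namespace Groth.Agent.S19610

/-- Let p be a prime and B a commutative algebra over the commutative ring A, both complete and
separated for the p-adic topology and both without p-torsion (flat over the p-adic base). If B/pB is
flat over A/pA, then B/p^nB is flat over A/p^nA for every n ≥ 1 (the quotients are written as base
changes (A/p^n) ⊗_A B). (The published statement is for a morphism of flat p-adic formal schemes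
over the Witt vectors of a perfect field: if its special fibre is flat, so are the induced morphisms
of schemes modulo every power of p; this row is its affine, ring-level case.) -/
theorem result (p : ℕ) [Fact p.Prime]
    {A B : Type u} [CommRing A] [CommRing B] [Algebra A B]
    [IsAdicComplete (Ideal.span {(p : A)}) A] [IsAdicComplete (Ideal.span {(p : B)}) B]
    (hA : IsSMulRegular A (p : A)) (hB : IsSMulRegular B (p : B))
    (h : Module.Flat (A ⧸ Ideal.span {(p : A)}) ((A ⧸ Ideal.span {(p : A)}) ⊗[A] B))
    (n : ℕ) (hn : 1 ≤ n) :
    Module.Flat (A ⧸ (Ideal.span {(p : A)} ^ n)) ((A ⧸ (Ideal.span {(p : A)} ^ n)) ⊗[A] B) := by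
  haveI := h
  refine Groth.Agent.S6349.result A (Ideal.span {(p : A)}) B ?_ n hn
  have hmem : ∀ a : A, LinearMap.toSpanSingleton A A (p : A) a ∈ Ideal.span {(p : A)} := fun a =>
    Ideal.mem_span_singleton'.2 ⟨a, by simp [LinearMap.toSpanSingleton_apply]⟩
  obtain ⟨g, hgdef⟩ : ∃ g : A →ₗ[A] ↥(Ideal.span {(p : A)}),
      g = (LinearMap.toSpanSingleton A A (p : A)).codRestrict _ hmem := ⟨_, rfl⟩
  have hg : Function.Surjective g := by
    rintro ⟨y, hy⟩
    obtain ⟨a, ha⟩ := Ideal.mem_span_singleton'.1 hy
    refine ⟨a, Subtype.ext ?_⟩
    rw [hgdef]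
    simp [LinearMap.toSpanSingleton_apply, ha]
  have hμ : Function.Injective ((LinearMap.toSpanSingleton A A (p : A)).rTensor B) := by
    have hcomm : ∀ w : A ⊗[A] B, TensorProduct.lid A B
        ((LinearMap.toSpanSingleton A A (p : A)).rTensor B w) =
        (p : B) • TensorProduct.lid A B w := by
      intro w
      induction w using TensorProduct.induction_on with
      | zero => simp
      | tmul a b =>
        rw [LinearMap.rTensor_tmul, LinearMap.toSpanSingleton_apply, TensorProduct.lid_tmul,
          TensorProduct.lid_tmul, smul_eq_mul, mul_comm, mul_smul, Nat.cast_smul_eq_nsmul,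
          Nat.cast_smul_eq_nsmul]
      | add x y hx hy => simp only [map_add, smul_add, hx, hy]
    intro w w' hww
    apply (TensorProduct.lid A B).injective
    apply hB
    show (p : B) • _ = (p : B) • _
    rw [← hcomm, ← hcomm, hww]
  intro z z' hzz
  obtain ⟨w, rfl⟩ := LinearMap.rTensor_surjective B hg z
  obtain ⟨w', rfl⟩ := LinearMap.rTensor_surjective B hg z'
  have hcomp : (Submodule.subtype (Ideal.span {(p : A)})) ∘ₗ g =
      LinearMap.toSpanSingleton A A (p : A) := by
    rw [hgdef]; exact LinearMap.subtype_comp_codRestrict _ _ _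
  rw [← LinearMap.rTensor_comp_apply, ← LinearMap.rTensor_comp_apply, hcomp] at hzz
  rw [hμ hzz]

end Groth.Agent.S19610
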