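import Groth.Statements.S19631
import Mathlib

set_option autoImplicit false
universe u
open Hyper

namespace Groth.Agent.S19631


open CategoryTheory CategoryTheory.Limits CategoryTheory.Functor Opposite Simplicial

section
universe v' u'
variable {C : Type u'} [Category.{v'} C] [HasFiniteProducts C] (X₀ : C)

noncomputable def πN (y : SimplexCategory) (j : Fin (y.len + 1)) :
    (cechNerveTerminalFrom X₀).obj (op y) ⟶ X₀ :=
  Pi.π (fun _ : Fin (y.len + 1) => X₀) j

lemma map_πN {Y Z : SimplexCategoryᵒᵖ} (f : Y ⟶ Z) (j : Fin (Z.unop.len + 1)) :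
    (cechNerveTerminalFrom X₀).map f ≫ πN X₀ Z.unop j = πN X₀ Y.unop (f.unop.toOrderHom j) :=
  Pi.lift_π _ _

lemma map_const_πN (y : SimplexCategory) (j : Fin (y.len + 1)) :
    (cechNerveTerminalFrom X₀).map (SimplexCategory.const (SimplexCategory.mk 0) y j).op ≫
      πN X₀ (SimplexCategory.mk 0) 0 = πN X₀ y j :=
  map_πN X₀ (SimplexCategory.const (SimplexCategory.mk 0) y j).op 0

lemma hom_extN (y : SimplexCategory) {T : C} (a b : T ⟶ (cechNerveTerminalFrom X₀).obj (op y))
    (h : ∀ j, a ≫ πN X₀ y j = b ≫ πN X₀ y j) : a = b :=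
  Pi.hom_ext _ _ h

noncomputable def liftN (y : SimplexCategory) {T : C} (p : Fin (y.len + 1) → (T ⟶ X₀)) :
    T ⟶ (cechNerveTerminalFrom X₀).obj (op y) :=
  Pi.lift p

lemma liftN_π (y : SimplexCategory) {T : C} (p : Fin (y.len + 1) → (T ⟶ X₀)) (j : Fin (y.len + 1)) :
    liftN X₀ y p ≫ πN X₀ y j = p j :=
  Pi.lift_π _ _

noncomputable def cechIsPointwise (n : ℕ) :
    (RightExtension.mk (cechNerveTerminalFrom X₀)
      (𝟙 ((SimplexCategory.Truncated.inclusion n).op ⋙
        cechNerveTerminalFrom X₀))).IsPointwiseRightKanExtension := by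
  intro Y
  let gi : Fin (Y.unop.len + 1) → StructuredArrow Y (SimplexCategory.Truncated.inclusion n).op :=
    fun i => StructuredArrow.mk
      (Y := op (⟨SimplexCategory.mk 0, Nat.zero_le n⟩ : SimplexCategory.Truncated n))
      ((SimplexCategory.const (SimplexCategory.mk 0) Y.unop i).op)
  let p : ∀ (s : Cone (StructuredArrow.proj Y (SimplexCategory.Truncated.inclusion n).op ⋙
      (SimplexCategory.Truncated.inclusion n).op ⋙ cechNerveTerminalFrom X₀)),
      Fin (Y.unop.len + 1) → (s.pt ⟶ X₀) :=
    fun s i => s.π.app (gi i) ≫ πN X₀ (SimplexCategory.mk 0) 0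
  exact
    { lift := fun s => liftN X₀ Y.unop (p s)
      fac := fun s g => by
        refine hom_extN X₀ g.right.unop.obj _ _ (fun j => ?_)
        obtain ⟨κ, hκ⟩ : ∃ κ : g.right ⟶
            op (⟨SimplexCategory.mk 0, Nat.zero_le n⟩ : SimplexCategory.Truncated n),
            (SimplexCategory.Truncated.inclusion n).op.map κ =
              (SimplexCategory.const (SimplexCategory.mk 0) g.right.unop.obj j).op :=
          ⟨(SimplexCategory.Truncated.inclusion n).op.preimage _,
            (SimplexCategory.Truncated.inclusion n).op.map_preimage _⟩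
        have hw : g.hom ≫ (SimplexCategory.Truncated.inclusion n).op.map κ =
            (gi (g.hom.unop.toOrderHom j)).hom :=
          (congrArg (fun t => g.hom ≫ t) hκ).trans
            (congrArg Quiver.Hom.op
              (SimplexCategory.const_comp (SimplexCategory.mk 0) g.hom.unop j))
        let μ : g ⟶ gi (g.hom.unop.toOrderHom j) := StructuredArrow.homMk κ hw
        have hμ := s.w μ
        have hA : (liftN X₀ Y.unop (p s) ≫ ((cechNerveTerminalFrom X₀).map g.hom ≫ 𝟙 _)) ≫
            πN X₀ g.right.unop.obj j =
            liftN X₀ Y.unop (p s) ≫ ((cechNerveTerminalFrom X₀).map g.hom ≫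
              πN X₀ g.right.unop.obj j) := by
          rw [Category.comp_id, Category.assoc]
        have hB : liftN X₀ Y.unop (p s) ≫ ((cechNerveTerminalFrom X₀).map g.hom ≫
              πN X₀ g.right.unop.obj j) = p s (g.hom.unop.toOrderHom j) :=
          (congrArg (fun t => liftN X₀ Y.unop (p s) ≫ t) (map_πN X₀ g.hom j)).trans
            (liftN_π X₀ Y.unop (p s) _)
        have hE : p s (g.hom.unop.toOrderHom j) =
            (s.π.app g ≫ (cechNerveTerminalFrom X₀).map
              ((SimplexCategory.Truncated.inclusion n).op.map κ)) ≫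
              πN X₀ (SimplexCategory.mk 0) 0 :=
          congrArg (fun t => t ≫ πN X₀ (SimplexCategory.mk 0) 0) hμ.symm
        have hF : (s.π.app g ≫ (cechNerveTerminalFrom X₀).map
              ((SimplexCategory.Truncated.inclusion n).op.map κ)) ≫
              πN X₀ (SimplexCategory.mk 0) 0 = s.π.app g ≫ πN X₀ g.right.unop.obj j := by
          have hF' : (cechNerveTerminalFrom X₀).map
              ((SimplexCategory.Truncated.inclusion n).op.map κ) ≫
              πN X₀ (SimplexCategory.mk 0) 0 = πN X₀ g.right.unop.obj j :=
            (congrArg (fun t => (cechNerveTerminalFrom X₀).map t ≫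
              πN X₀ (SimplexCategory.mk 0) 0) hκ).trans (map_const_πN X₀ g.right.unop.obj j)
          exact (Category.assoc _ _ _).trans (congrArg (fun t => s.π.app g ≫ t) hF')
        exact hA.trans (hB.trans (hE.trans hF))
      uniq := fun s t ht => by
        refine hom_extN X₀ Y.unop _ _ (fun i => ?_)
        have h1 := ht (gi i)
        have h2 : t ≫ πN X₀ Y.unop i =
            (t ≫ ((cechNerveTerminalFrom X₀).map
              (SimplexCategory.const (SimplexCategory.mk 0) Y.unop i).op ≫ 𝟙 _)) ≫
              πN X₀ (SimplexCategory.mk 0) 0 := by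
          have h2' : ((cechNerveTerminalFrom X₀).map
              (SimplexCategory.const (SimplexCategory.mk 0) Y.unop i).op ≫ 𝟙 _) ≫
              πN X₀ (SimplexCategory.mk 0) 0 = πN X₀ Y.unop i :=
            (congrArg (fun u => u ≫ πN X₀ (SimplexCategory.mk 0) 0) (Category.comp_id _)).trans
              (map_const_πN X₀ Y.unop i)
          exact ((Category.assoc _ _ _).trans (congrArg (fun u => t ≫ u) h2')).symm
        have h3 : (t ≫ ((cechNerveTerminalFrom X₀).map
              (SimplexCategory.const (SimplexCategory.mk 0) Y.unop i).op ≫ 𝟙 _)) ≫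
              πN X₀ (SimplexCategory.mk 0) 0 = p s i :=
          congrArg (fun u => u ≫ πN X₀ (SimplexCategory.mk 0) 0) h1
        exact h2.trans (h3.trans (liftN_π X₀ Y.unop (p s) i).symm) }

end


open CategoryTheory CategoryTheory.Limits AlgebraicGeometry in
/-- Let f : X → Y be a morphism of schemes and X_• = cosk_0^Y(X) its Čech nerve, the simplicial scheme
over Y with X_p = X ×_Y ⋯ ×_Y X (p + 1 factors), face maps the projections forgetting one factor and
degeneracies induced by diagonals. Then X_•, as a simplicial object of the category of schemes over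
Y, is n-coskeletal for every n, i.e. the adjunction morphisms X_• → cosk_n sk_n X_• (coskeleta
relative to Y) are isomorphisms. In the source this is phrased as: for a class S of covering maps of
varieties containing the identities, X_• → Y is an S-hypercover whenever X → Y lies in S, the
adjunction maps X_p → (cosk_{p-1} sk_{p-1} X_•)_p being isomorphisms for p ≥ 1 and X_0 → Y being f.
(Stated for arbitrary schemes; the source has varieties over a field.) -/
theorem result (X Y : Scheme.{u}) (f : X ⟶ Y) (n : ℕ) :
    SimplicialObject.IsCoskeletal (cechNerveTerminalFrom (Over.mk f)) n := by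
  exact ⟨(cechIsPointwise (Over.mk f) n).isRightKanExtension⟩

end Groth.Agent.S19631
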