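import Groth.Statements.S19632
import Mathlib

set_option autoImplicit false
universe u
open DeRham

namespace Groth.Agent.S19632

/-- Let k be a field of characteristic zero and G_m = Spec k[t, t⁻¹] the multiplicative group. The
kernel of the differential d : k[t, t⁻¹] → Ω¹ of the de Rham complex of G_m consists of the
constants: for a Laurent polynomial f, df = 0 if and only if f lies in the image of k. Equivalently
H^0_dR(G_m/k) = k. (Characteristic zero is used: in characteristic p the element t^p is closed.) -/
theorem result (k : Type u) [Field k] [CharZero k]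
    (f : LaurentPolynomial k) :
    KaehlerDifferential.D k (LaurentPolynomial k) f = 0 ↔ f ∈ Set.range (algebraMap k (LaurentPolynomial k)) := by
  classical
  let E : (ℤ →₀ k) →ₗ[k] (ℤ →₀ k) :=
    { toFun := fun v => (fun n : ℤ => (n : k)) • v
      map_add' := fun v w => smul_add _ v w
      map_smul' := fun c v => by
        ext n
        simp only [Finsupp.coe_pointwise_smul, Finsupp.coe_smul, Pi.smul_apply, smul_eq_mul,
          RingHom.id_apply, Pi.mul_apply]
        ring }
  let e : LaurentPolynomial k ≃ₗ[k] (ℤ →₀ k) := AddMonoidAlgebra.coeffLinearEquiv k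
  let D : LaurentPolynomial k →ₗ[k] LaurentPolynomial k := e.symm.toLinearMap ∘ₗ E ∘ₗ e.toLinearMap
  have hDcoeff : ∀ (g : LaurentPolynomial k) (n : ℤ), (D g).coeff n = (n : k) * g.coeff n := by
    intro g n
    rfl
  have hDsingle : ∀ (x : k) (m : ℤ), D (LaurentPolynomial.C x * LaurentPolynomial.T m) =
      LaurentPolynomial.C ((m : k) * x) * LaurentPolynomial.T m := by
    intro x m
    apply LaurentPolynomial.ext
    intro n
    rw [hDcoeff, ← LaurentPolynomial.single_eq_C_mul_T, ← LaurentPolynomial.single_eq_C_mul_T]
    simp only [AddMonoidAlgebra.coeff_single, Finsupp.single_apply]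
    split_ifs with h
    · rw [h]
    · simp
  have hleib : ∀ a b : LaurentPolynomial k, D (a * b) = a • D b + b • D a := by
    intro a b
    induction b using LaurentPolynomial.induction_on' with
    | add p q hp hq =>
      rw [mul_add, map_add, hp, hq, map_add, smul_add, add_smul]
      abel
    | C_mul_T n y =>
      induction a using LaurentPolynomial.induction_on' with
      | add p q hp hq =>
        rw [add_mul, map_add, hp, hq, map_add, smul_add, add_smul]
        abel
      | C_mul_T m x =>
        have h1 : LaurentPolynomial.C x * LaurentPolynomial.T m * (LaurentPolynomial.C y * LaurentPolynomial.T n)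
            = LaurentPolynomial.C (x * y) * LaurentPolynomial.T (m + n) := by
          rw [LaurentPolynomial.T_add, map_mul]
          ring
        rw [h1, hDsingle, hDsingle, hDsingle, smul_eq_mul, smul_eq_mul, LaurentPolynomial.T_add]
        simp only [map_mul, map_add, Int.cast_add]
        ring
  let D' : Derivation k (LaurentPolynomial k) (LaurentPolynomial k) := Derivation.mk' D hleib
  constructor
  · intro hf
    have h1 : D' f = 0 := by
      rw [← Derivation.liftKaehlerDifferential_comp_D D' f, hf, map_zero]
    have h2 : ∀ n : ℤ, n ≠ 0 → f.coeff n = 0 := by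
      intro n hn
      have := hDcoeff f n
      have h3 : (D f) = 0 := h1
      rw [h3] at this
      simp only [AddMonoidAlgebra.coeff_zero, Finsupp.coe_zero, Pi.zero_apply] at this
      rcases mul_eq_zero.mp this.symm with h | h
      · exact absurd (Int.cast_eq_zero.mp h) hn
      · exact h
    refine ⟨f.coeff 0, ?_⟩
    rw [← LaurentPolynomial.C_eq_algebraMap]
    apply LaurentPolynomial.ext
    intro n
    rw [LaurentPolynomial.C_apply]
    split_ifs with h
    · rw [h]
    · exact (h2 n h).symm
  · rintro ⟨c, rfl⟩
    exact (KaehlerDifferential.D k (LaurentPolynomial k)).map_algebraMap c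

end Groth.Agent.S19632
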