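import Groth.Statements.S19634
import Mathlib

set_option autoImplicit false
universe u
open DeRham

namespace Groth.Agent.S19634

section node
variable (k : Type u) [Field k]

local notation "SS" => MvPolynomial (Fin 2) k
local notation "xx" => (MvPolynomial.X 0 : MvPolynomial (Fin 2) k)
local notation "yy" => (MvPolynomial.X 1 : MvPolynomial (Fin 2) k)
local notation "II" => Ideal.span {(MvPolynomial.X 0 * MvPolynomial.X 1 : MvPolynomial (Fin 2) k)}
local notation "AA" => MvPolynomial (Fin 2) k ⧸ Ideal.span {(MvPolynomial.X 0 * MvPolynomial.X 1 : MvPolynomial (Fin 2) k)}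

noncomputable def e1 : SS →ₐ[k] Polynomial k := MvPolynomial.aeval ![Polynomial.X, 0]
noncomputable def e2 : SS →ₐ[k] Polynomial k := MvPolynomial.aeval ![0, Polynomial.X]

theorem e1_x : e1 k xx = Polynomial.X := by rw [e1, MvPolynomial.aeval_X]; rfl
theorem e1_y : e1 k yy = 0 := by rw [e1, MvPolynomial.aeval_X]; rfl
theorem e2_x : e2 k xx = 0 := by rw [e2, MvPolynomial.aeval_X]; rfl
theorem e2_y : e2 k yy = Polynomial.X := by rw [e2, MvPolynomial.aeval_X]; rfl

theorem e1_I : ∀ a ∈ II, e1 k a = 0 := by
  intro a ha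
  obtain ⟨c, rfl⟩ := Ideal.mem_span_singleton'.mp ha
  rw [map_mul, map_mul, e1_y, mul_zero, mul_zero]

theorem e2_I : ∀ a ∈ II, e2 k a = 0 := by
  intro a ha
  obtain ⟨c, rfl⟩ := Ideal.mem_span_singleton'.mp ha
  rw [map_mul, map_mul, e2_x, zero_mul, mul_zero]

noncomputable def φ1 : AA →ₐ[k] Polynomial k := Ideal.Quotient.liftₐ II (e1 k) (e1_I k)
noncomputable def φ2 : AA →ₐ[k] Polynomial k := Ideal.Quotient.liftₐ II (e2 k) (e2_I k)

theorem φ1_mk (F : SS) : φ1 k (Ideal.Quotient.mk II F) = e1 k F := rfl
theorem φ2_mk (F : SS) : φ2 k (Ideal.Quotient.mk II F) = e2 k F := rfl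

theorem dzero_imp (φ : AA →ₐ[k] Polynomial k) (P : AA)
    (h : KaehlerDifferential.D k AA P = 0) : Polynomial.derivative (φ P) = 0 := by
  letI : Algebra AA (Polynomial k) := φ.toRingHom.toAlgebra
  haveI : IsScalarTower k AA (Polynomial k) := ⟨fun a b c => by
    show φ (a • b) * c = a • (φ b * c)
    rw [map_smul, smul_mul_assoc]⟩
  let D1 : Derivation k AA (Polynomial k) :=
    (Polynomial.derivative' (R := k)).compAlgebraMap AA
  have h1 : D1 P = Polynomial.derivative (φ P) := rfl
  rw [← h1, ← Derivation.liftKaehlerDifferential_comp_D D1 P, h, map_zero]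

theorem decomp2 (F : SS) : ∃ (q1 q2 : Polynomial k) (G : SS),
    F = Polynomial.aeval xx q1 + yy * Polynomial.aeval yy q2 + xx * yy * G := by
  induction F using MvPolynomial.induction_on with
  | C a =>
    exact ⟨Polynomial.C a, 0, 0, by
      rw [Polynomial.aeval_C, MvPolynomial.algebraMap_eq, map_zero, mul_zero, mul_zero, add_zero,
        add_zero]⟩
  | add p q hp hq =>
    obtain ⟨a1, a2, G1, h1⟩ := hp
    obtain ⟨b1, b2, G2, h2⟩ := hq
    refine ⟨a1 + b1, a2 + b2, G1 + G2, ?_⟩
    rw [map_add, map_add]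
    linear_combination h1 + h2
  | mul_X p n hp =>
    obtain ⟨a1, a2, G1, h1⟩ := hp
    by_cases hn : n = 0
    · subst hn
      refine ⟨a1 * Polynomial.X, 0, Polynomial.aeval yy a2 + G1 * xx, ?_⟩
      rw [map_mul, Polynomial.aeval_X, map_zero, mul_zero, add_zero]
      linear_combination xx * h1
    · have hn1 : n = 1 := Fin.eq_one_of_ne_zero n hn
      subst hn1
      refine ⟨0, Polynomial.C (a1.coeff 0) + a2 * Polynomial.X,
        Polynomial.aeval xx (Polynomial.divX a1) + G1 * yy, ?_⟩
      have ha1 : Polynomial.aeval xx a1 =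
          Polynomial.aeval xx (Polynomial.divX a1) * xx + MvPolynomial.C (a1.coeff 0) := by
        conv_lhs => rw [← Polynomial.divX_mul_X_add a1]
        rw [map_add, map_mul, Polynomial.aeval_X, Polynomial.aeval_C, MvPolynomial.algebraMap_eq]
      rw [map_zero, zero_add, map_add, map_mul, Polynomial.aeval_X, Polynomial.aeval_C,
        MvPolynomial.algebraMap_eq]
      linear_combination yy * h1 + yy * ha1

theorem main [CharZero k] (P : AA) :
    KaehlerDifferential.D k AA P = 0 ↔ P ∈ Set.range (algebraMap k AA) := by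
  constructor
  · intro h
    obtain ⟨F, rfl⟩ := Ideal.Quotient.mk_surjective P
    obtain ⟨q1, q2, G, hF⟩ := decomp2 k F
    have hP : Ideal.Quotient.mk II F =
        Ideal.Quotient.mk II (Polynomial.aeval xx q1 + yy * Polynomial.aeval yy q2) := by
      rw [Ideal.Quotient.eq, hF]
      have h3 : Polynomial.aeval xx q1 + yy * Polynomial.aeval yy q2 + xx * yy * G -
          (Polynomial.aeval xx q1 + yy * Polynomial.aeval yy q2) = G * (xx * yy) := by ring
      rw [h3]
      exact Ideal.mul_mem_left _ _ (Ideal.subset_span (Set.mem_singleton _))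
    have h1 := dzero_imp k (φ1 k) _ h
    have h2 := dzero_imp k (φ2 k) _ h
    rw [hP, φ1_mk] at h1
    rw [hP, φ2_mk] at h2
    have he1 : e1 k (Polynomial.aeval xx q1 + yy * Polynomial.aeval yy q2) = q1 := by
      rw [map_add, map_mul, e1_y, zero_mul, add_zero, ← Polynomial.aeval_algHom_apply, e1_x,
        Polynomial.aeval_X_left_apply]
    have he2 : e2 k (Polynomial.aeval xx q1 + yy * Polynomial.aeval yy q2) =
        Polynomial.C (q1.coeff 0) + Polynomial.X * q2 := by
      rw [map_add, map_mul, ← Polynomial.aeval_algHom_apply, ← Polynomial.aeval_algHom_apply, e2_x,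
        e2_y, Polynomial.aeval_X_left_apply, ← Polynomial.coeff_zero_eq_aeval_zero',
        Polynomial.algebraMap_eq]
    rw [he1] at h1
    rw [he2] at h2
    have hq1 : q1 = Polynomial.C (q1.coeff 0) := Polynomial.eq_C_of_derivative_eq_zero h1
    have hr := Polynomial.eq_C_of_derivative_eq_zero h2
    have hq2 : q2 = 0 := by
      ext n
      have h4 := congrArg (fun r => Polynomial.coeff r (n + 1)) hr
      simp only [Polynomial.coeff_add, Polynomial.coeff_C_succ, Polynomial.coeff_X_mul,
        zero_add] at h4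
      rw [h4, Polynomial.coeff_zero]
    refine ⟨q1.coeff 0, ?_⟩
    rw [hP, hq2, map_zero, mul_zero, add_zero, hq1, Polynomial.aeval_C,
      IsScalarTower.algebraMap_apply k SS AA]
    simp
  · rintro ⟨a, rfl⟩
    exact Derivation.map_algebraMap _ a

end node

/-- Let k be a field of characteristic zero and A = k[X, Y]/(XY), the coordinate ring of two affine
lines crossing in a point. In the naive de Rham complex A → Ω¹_{A/k} the kernel of d consists of the
constants: dP = 0 if and only if P is in the image of k. -/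
theorem result (k : Type u) [Field k] [CharZero k]
    (P : MvPolynomial (Fin 2) k ⧸ Ideal.span {(MvPolynomial.X 0 * MvPolynomial.X 1 : MvPolynomial (Fin 2) k)}) :
    KaehlerDifferential.D k (MvPolynomial (Fin 2) k ⧸ Ideal.span {(MvPolynomial.X 0 * MvPolynomial.X 1 : MvPolynomial (Fin 2) k)}) P = 0 ↔
      P ∈ Set.range (algebraMap k (MvPolynomial (Fin 2) k ⧸ Ideal.span {(MvPolynomial.X 0 * MvPolynomial.X 1 : MvPolynomial (Fin 2) k)})) := by
  exact main k P

end Groth.Agent.S19634
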