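import Groth.Statements.S19635
import Mathlib

set_option autoImplicit false
universe u
open DeRham

namespace Groth.Agent.S19635

section node
variable (k : Type u) [Field k]

local notation "SS" => MvPolynomial (Fin 2) k
local notation "xx" => (MvPolynomial.X 0 : MvPolynomial (Fin 2) k)
local notation "yy" => (MvPolynomial.X 1 : MvPolynomial (Fin 2) k)
local notation "II" => Ideal.span {(MvPolynomial.X 0 * MvPolynomial.X 1 : MvPolynomial (Fin 2) k)}
local notation "AA" => MvPolynomial (Fin 2) k ⧸ Ideal.span {(MvPolynomial.X 0 * MvPolynomial.X 1 : MvPolynomial (Fin 2) k)}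

noncomputable def e1 : SS →ₐ[k] Polynomial k := MvPolynomial.aeval ![Polynomial.X, 0]
noncomputable def e2 : SS →ₐ[k] Polynomial k := MvPolynomial.aeval ![0, Polynomial.X]

theorem e1_x : e1 k xx = Polynomial.X := by rw [e1, MvPolynomial.aeval_X]; rfl
theorem e1_y : e1 k yy = 0 := by rw [e1, MvPolynomial.aeval_X]; rfl
theorem e2_x : e2 k xx = 0 := by rw [e2, MvPolynomial.aeval_X]; rfl
theorem e2_y : e2 k yy = Polynomial.X := by rw [e2, MvPolynomial.aeval_X]; rfl

theorem e1_I : ∀ a ∈ II, e1 k a = 0 := by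
  intro a ha
  obtain ⟨c, rfl⟩ := Ideal.mem_span_singleton'.mp ha
  rw [map_mul, map_mul, e1_y, mul_zero, mul_zero]

theorem e2_I : ∀ a ∈ II, e2 k a = 0 := by
  intro a ha
  obtain ⟨c, rfl⟩ := Ideal.mem_span_singleton'.mp ha
  rw [map_mul, map_mul, e2_x, zero_mul, mul_zero]

noncomputable def φ1 : AA →ₐ[k] Polynomial k := Ideal.Quotient.liftₐ II (e1 k) (e1_I k)
noncomputable def φ2 : AA →ₐ[k] Polynomial k := Ideal.Quotient.liftₐ II (e2 k) (e2_I k)

theorem φ1_mk (F : SS) : φ1 k (Ideal.Quotient.mk II F) = e1 k F := rfl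
theorem φ2_mk (F : SS) : φ2 k (Ideal.Quotient.mk II F) = e2 k F := rfl

theorem dzero_imp (φ : AA →ₐ[k] Polynomial k) (P : AA)
    (h : KaehlerDifferential.D k AA P = 0) : Polynomial.derivative (φ P) = 0 := by
  letI : Algebra AA (Polynomial k) := φ.toRingHom.toAlgebra
  haveI : IsScalarTower k AA (Polynomial k) := ⟨fun a b c => by
    show φ (a • b) * c = a • (φ b * c)
    rw [map_smul, smul_mul_assoc]⟩
  let D1 : Derivation k AA (Polynomial k) :=
    (Polynomial.derivative' (R := k)).compAlgebraMap AA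
  have h1 : D1 P = Polynomial.derivative (φ P) := rfl
  rw [← h1, ← Derivation.liftKaehlerDifferential_comp_D D1 P, h, map_zero]

theorem decomp2 (F : SS) : ∃ (q1 q2 : Polynomial k) (G : SS),
    F = Polynomial.aeval xx q1 + yy * Polynomial.aeval yy q2 + xx * yy * G := by
  induction F using MvPolynomial.induction_on with
  | C a =>
    exact ⟨Polynomial.C a, 0, 0, by
      rw [Polynomial.aeval_C, MvPolynomial.algebraMap_eq, map_zero, mul_zero, mul_zero, add_zero,
        add_zero]⟩
  | add p q hp hq =>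
    obtain ⟨a1, a2, G1, h1⟩ := hp
    obtain ⟨b1, b2, G2, h2⟩ := hq
    refine ⟨a1 + b1, a2 + b2, G1 + G2, ?_⟩
    rw [map_add, map_add]
    linear_combination h1 + h2
  | mul_X p n hp =>
    obtain ⟨a1, a2, G1, h1⟩ := hp
    by_cases hn : n = 0
    · subst hn
      refine ⟨a1 * Polynomial.X, 0, Polynomial.aeval yy a2 + G1 * xx, ?_⟩
      rw [map_mul, Polynomial.aeval_X, map_zero, mul_zero, add_zero]
      linear_combination xx * h1
    · have hn1 : n = 1 := Fin.eq_one_of_ne_zero n hn
      subst hn1
      refine ⟨0, Polynomial.C (a1.coeff 0) + a2 * Polynomial.X,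
        Polynomial.aeval xx (Polynomial.divX a1) + G1 * yy, ?_⟩
      have ha1 : Polynomial.aeval xx a1 =
          Polynomial.aeval xx (Polynomial.divX a1) * xx + MvPolynomial.C (a1.coeff 0) := by
        conv_lhs => rw [← Polynomial.divX_mul_X_add a1]
        rw [map_add, map_mul, Polynomial.aeval_X, Polynomial.aeval_C, MvPolynomial.algebraMap_eq]
      rw [map_zero, zero_add, map_add, map_mul, Polynomial.aeval_X, Polynomial.aeval_C,
        MvPolynomial.algebraMap_eq]
      linear_combination yy * h1 + yy * ha1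


theorem lift_smul_D (φ : AA →ₐ[k] Polynomial k) (a b P : AA)
    (h : KaehlerDifferential.D k AA P = a • KaehlerDifferential.D k AA b) :
    Polynomial.derivative (φ P) = φ a * Polynomial.derivative (φ b) := by
  letI : Algebra AA (Polynomial k) := φ.toRingHom.toAlgebra
  haveI : IsScalarTower k AA (Polynomial k) := ⟨fun a b c => by
    show φ (a • b) * c = a • (φ b * c)
    rw [map_smul, smul_mul_assoc]⟩
  let D1 : Derivation k AA (Polynomial k) :=
    (Polynomial.derivative' (R := k)).compAlgebraMap AA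
  have h1 : ∀ Q, D1 Q = Polynomial.derivative (φ Q) := fun _ => rfl
  rw [← h1, ← h1, ← Derivation.liftKaehlerDifferential_comp_D D1 P, h, map_smul,
    Derivation.liftKaehlerDifferential_comp_D]
  rfl

theorem const_of_derivs [CharZero k] (P : AA)
    (h1 : Polynomial.derivative (φ1 k P) = 0) (h2 : Polynomial.derivative (φ2 k P) = 0) :
    P ∈ Set.range (algebraMap k AA) := by
  obtain ⟨F, rfl⟩ := Ideal.Quotient.mk_surjective P
  obtain ⟨q1, q2, G, hF⟩ := decomp2 k F
  have hP : Ideal.Quotient.mk II F =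
      Ideal.Quotient.mk II (Polynomial.aeval xx q1 + yy * Polynomial.aeval yy q2) := by
    rw [Ideal.Quotient.eq, hF]
    have h3 : Polynomial.aeval xx q1 + yy * Polynomial.aeval yy q2 + xx * yy * G -
        (Polynomial.aeval xx q1 + yy * Polynomial.aeval yy q2) = G * (xx * yy) := by ring
    rw [h3]
    exact Ideal.mul_mem_left _ _ (Ideal.subset_span (Set.mem_singleton _))
  rw [hP, φ1_mk] at h1
  rw [hP, φ2_mk] at h2
  have he1 : e1 k (Polynomial.aeval xx q1 + yy * Polynomial.aeval yy q2) = q1 := by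
    rw [map_add, map_mul, e1_y, zero_mul, add_zero, ← Polynomial.aeval_algHom_apply, e1_x,
      Polynomial.aeval_X_left_apply]
  have he2 : e2 k (Polynomial.aeval xx q1 + yy * Polynomial.aeval yy q2) =
      Polynomial.C (q1.coeff 0) + Polynomial.X * q2 := by
    rw [map_add, map_mul, ← Polynomial.aeval_algHom_apply, ← Polynomial.aeval_algHom_apply, e2_x,
      e2_y, Polynomial.aeval_X_left_apply, ← Polynomial.coeff_zero_eq_aeval_zero',
      Polynomial.algebraMap_eq]
  rw [he1] at h1
  rw [he2] at h2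
  have hq1 : q1 = Polynomial.C (q1.coeff 0) := Polynomial.eq_C_of_derivative_eq_zero h1
  have hr := Polynomial.eq_C_of_derivative_eq_zero h2
  have hq2 : q2 = 0 := by
    ext n
    have h4 := congrArg (fun r => Polynomial.coeff r (n + 1)) hr
    simp only [Polynomial.coeff_add, Polynomial.coeff_C_succ, Polynomial.coeff_X_mul,
      zero_add] at h4
    rw [h4, Polynomial.coeff_zero]
  refine ⟨q1.coeff 0, ?_⟩
  rw [hP, hq2, map_zero, mul_zero, add_zero, hq1, Polynomial.aeval_C,
    IsScalarTower.algebraMap_apply k SS AA]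
  simp

local notation "NN" => DualNumber k
local notation "T2" => TrivSqZeroExt (DualNumber k) (DualNumber k)

noncomputable def ta : T2 := TrivSqZeroExt.inl DualNumber.eps + TrivSqZeroExt.inr 1
noncomputable def tb : T2 := TrivSqZeroExt.inl (-DualNumber.eps) + TrivSqZeroExt.inr 1

theorem ta_fst : (ta k).fst = DualNumber.eps := by simp [ta]
theorem ta_snd : (ta k).snd = 1 := by simp [ta]
theorem tb_fst : (tb k).fst = -DualNumber.eps := by simp [tb]
theorem tb_snd : (tb k).snd = 1 := by simp [tb]

theorem ta_mul_tb : ta k * tb k = 0 := by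
  apply TrivSqZeroExt.ext
  · rw [TrivSqZeroExt.fst_mul, ta_fst, tb_fst, mul_neg, DualNumber.eps_mul_eps, neg_zero,
      TrivSqZeroExt.fst_zero]
  · rw [TrivSqZeroExt.snd_mul, ta_fst, tb_fst, ta_snd, tb_snd, op_smul_eq_mul,
      smul_eq_mul, mul_one, one_mul, add_neg_cancel, TrivSqZeroExt.snd_zero]

noncomputable def Θ : SS →ₐ[k] T2 := MvPolynomial.aeval ![ta k, tb k]
theorem Θ_x : Θ k xx = ta k := by rw [Θ, MvPolynomial.aeval_X]; rfl
theorem Θ_y : Θ k yy = tb k := by rw [Θ, MvPolynomial.aeval_X]; rfl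
theorem Θ_I : ∀ a ∈ II, Θ k a = 0 := by
  intro a ha
  obtain ⟨c, rfl⟩ := Ideal.mem_span_singleton'.mp ha
  rw [map_mul, map_mul, Θ_x, Θ_y, ta_mul_tb, mul_zero]
noncomputable def Θb : AA →ₐ[k] T2 := Ideal.Quotient.liftₐ II (Θ k) (Θ_I k)
theorem Θb_mk (F : SS) : Θb k (Ideal.Quotient.mk II F) = Θ k F := rfl
noncomputable def ψ : AA →ₐ[k] NN := (TrivSqZeroExt.fstHom k NN NN).comp (Θb k)
theorem ψ_apply (a : AA) : ψ k a = (Θb k a).fst := rfl

noncomputable instance algN : Algebra AA NN := (ψ k).toRingHom.toAlgebra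

instance towN : IsScalarTower k AA NN := ⟨fun a b c => by
  show ψ k (a • b) * c = a • (ψ k b * c)
  rw [map_smul, smul_mul_assoc]⟩

theorem smulN (a : AA) (n : NN) : a • n = (Θb k a).fst * n := rfl

noncomputable def D3 : Derivation k AA NN :=
  Derivation.mk'
    { toFun := fun a => (Θb k a).snd
      map_add' := fun a b => by rw [map_add, TrivSqZeroExt.snd_add]
      map_smul' := fun c a => by rw [map_smul, TrivSqZeroExt.snd_smul]; rfl }
    (fun a b => by
      show (Θb k (a * b)).snd = a • (Θb k b).snd + b • (Θb k a).snd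
      rw [map_mul, TrivSqZeroExt.snd_mul, op_smul_eq_mul, smul_eq_mul, smulN, smulN,
        mul_comm (Θb k a).snd])

theorem D3_apply (a : AA) : D3 k a = (Θb k a).snd := rfl

theorem eps_ne_zero : (DualNumber.eps : NN) ≠ 0 := by
  intro h
  have h2 := congrArg TrivSqZeroExt.snd h
  simp at h2

theorem xdy_ne_zero : (Ideal.Quotient.mk II xx) •
    KaehlerDifferential.D k AA (Ideal.Quotient.mk II yy) ≠ 0 := by
  intro h
  have h2 := congrArg (D3 k).liftKaehlerDifferential h
  rw [map_smul, Derivation.liftKaehlerDifferential_comp_D, map_zero, smulN, D3_apply, Θb_mk, Θb_mk,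
    Θ_x, Θ_y, ta_fst, tb_snd, mul_one] at h2
  exact eps_ne_zero k h2

theorem main [CharZero k] : ¬ Function.Surjective (KaehlerDifferential.D k AA) := by
  intro hs
  obtain ⟨P, hP⟩ := hs ((Ideal.Quotient.mk II xx) •
    KaehlerDifferential.D k AA (Ideal.Quotient.mk II yy))
  have h1 := lift_smul_D k (φ1 k) _ _ P hP
  have h2 := lift_smul_D k (φ2 k) _ _ P hP
  rw [φ1_mk, φ1_mk, e1_y, map_zero, mul_zero] at h1
  rw [φ2_mk, φ2_mk, e2_x, zero_mul] at h2
  obtain ⟨c, rfl⟩ := const_of_derivs k P h1 h2
  rw [Derivation.map_algebraMap] at hP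
  exact xdy_ne_zero k hP.symm

end node

/-- Let k be a field of characteristic zero and A = k[X, Y]/(XY), the coordinate ring of two affine
lines crossing in a point. The differential d : A → Ω¹_{A/k} of the naive de Rham complex is not
surjective, so the naive H^1 of this singular curve does not vanish although one expects trivial
cohomology; this is the example motivating the h-topology definition. -/
theorem result (k : Type u) [Field k] [CharZero k] :
    ¬ Function.Surjective (KaehlerDifferential.D k (MvPolynomial (Fin 2) k ⧸ Ideal.span {(MvPolynomial.X 0 * MvPolynomial.X 1 : MvPolynomial (Fin 2) k)})) := by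
  exact main k

end Groth.Agent.S19635
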