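import Groth.Statements.S1964
import Mathlib
import Groth.Agent.Lib.helper1.HenselIdem3
import Groth.Agent.S0526

set_option autoImplicit false
universe u
open EtAlg

namespace Groth.Agent.S1964

open Polynomial in
theorem isUnit_or_isNilpotent_mk {A B : Type u} [CommRing A] [IsLocalRing A] [CommRing B]
    [Algebra A B] [Algebra.IsIntegral A B]
    (hidem : ∀ e : B ⧸ (IsLocalRing.maximalIdeal A).map (algebraMap A B),
      IsIdempotentElem e → e = 0 ∨ e = 1)
    (x : B ⧸ (IsLocalRing.maximalIdeal A).map (algebraMap A B)) : IsUnit x ∨ IsNilpotent x := by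
  obtain ⟨b, rfl⟩ := Ideal.Quotient.mk_surjective x
  obtain ⟨p, hpm, hpb⟩ := Algebra.IsIntegral.isIntegral (R := A) b
  let φ : IsLocalRing.ResidueField A →+* B ⧸ (IsLocalRing.maximalIdeal A).map (algebraMap A B) :=
    Ideal.quotientMap _ (algebraMap A B) Ideal.le_comap_map
  let ψ : (IsLocalRing.ResidueField A)[X] →+*
      B ⧸ (IsLocalRing.maximalIdeal A).map (algebraMap A B) :=
    eval₂RingHom φ (Ideal.Quotient.mk _ b)
  have hPm : ((X * p).map (IsLocalRing.residue A)).Monic := (monic_X.mul hpm).map _
  have hψP : ψ ((X * p).map (IsLocalRing.residue A)) = 0 := by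
    change eval₂ φ (Ideal.Quotient.mk _ b) ((X * p).map (IsLocalRing.residue A)) = 0
    rw [eval₂_map]
    have h1 : φ.comp (IsLocalRing.residue A) =
        (Ideal.Quotient.mk ((IsLocalRing.maximalIdeal A).map (algebraMap A B))).comp
          (algebraMap A B) := by
      ext a
      rfl
    rw [h1, ← hom_eval₂, eval₂_mul, eval₂_X, hpb, mul_zero, map_zero]
  have hP0 : (X * p).map (IsLocalRing.residue A) ≠ 0 := hPm.ne_zero
  obtain ⟨q, hq, hndvd⟩ := exists_eq_pow_rootMultiplicity_mul_and_not_dvd _ hP0 0
  generalize rootMultiplicity 0 ((X * p).map (IsLocalRing.residue A)) = k at hq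
  rw [C_0, sub_zero] at hq hndvd
  have hXP : X ∣ (X * p).map (IsLocalRing.residue A) := by
    rw [Polynomial.map_mul, map_X]
    exact dvd_mul_right _ _
  have hk1 : 1 ≤ k := by
    by_contra h
    have h0 : k = 0 := by omega
    rw [h0, pow_zero, one_mul] at hq
    exact hndvd (hq ▸ hXP)
  have hcop : IsCoprime (X ^ k) q := by
    apply IsCoprime.pow_left
    exact (irreducible_X.coprime_iff_not_dvd).mpr hndvd
  obtain ⟨u, v, huv⟩ := hcop
  have hE1 : ψ (u * X ^ k) + ψ (v * q) = 1 := by rw [← map_add, huv, map_one]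
  have hEE : ψ (u * X ^ k) * ψ (v * q) = 0 := by
    rw [← map_mul]
    have h2 : u * X ^ k * (v * q) = u * v * (X * p).map (IsLocalRing.residue A) := by
      rw [hq]; ring
    rw [h2, map_mul, hψP, mul_zero]
  have hEid : IsIdempotentElem (ψ (u * X ^ k)) := by
    have h3 : ψ (u * X ^ k) * ψ (u * X ^ k) =
        ψ (u * X ^ k) * (ψ (u * X ^ k) + ψ (v * q)) - ψ (u * X ^ k) * ψ (v * q) := by ring
    change ψ (u * X ^ k) * ψ (u * X ^ k) = ψ (u * X ^ k)
    rw [h3, hE1, hEE, mul_one, sub_zero]
  have hψX : ψ X = Ideal.Quotient.mk _ b := eval₂_X _ _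
  rcases hidem _ hEid with h0 | h1
  · right
    have h2 : ψ v * ψ q = 1 := by rw [← map_mul, ← hE1, h0, zero_add]
    have h3 : ψ X ^ k * ψ q = 0 := by rw [← map_pow, ← map_mul, ← hq, hψP]
    refine ⟨k, ?_⟩
    rw [← hψX]
    calc ψ X ^ k = ψ X ^ k * (ψ q * ψ v) := by rw [mul_comm (ψ q), h2, mul_one]
      _ = (ψ X ^ k * ψ q) * ψ v := by ring
      _ = 0 := by rw [h3, zero_mul]
  · left
    have h2 : ψ u * ψ X ^ k = 1 := by rw [← map_pow, ← map_mul, h1]
    rw [← hψX]
    obtain ⟨k', rfl⟩ : ∃ k', k = k' + 1 := ⟨k - 1, by omega⟩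
    exact IsUnit.of_mul_eq_one (ψ X ^ k' * ψ u) (by rw [← h2]; ring)


/-- A domain B integral over a henselian local ring A is itself henselian local, and the structure map A
-> B is local; if the residue field of A is separably closed, so is that of B, and the residue field
extension is purely inseparable. -/
theorem result (A B : Type u) [CommRing A] [HenselianLocalRing A] [CommRing B]
    [IsDomain B] [Algebra A B] [Algebra.IsIntegral A B] :
    ∃ _ : HenselianLocalRing B, IsLocalHom (algebraMap A B) ∧
      (IsSepClosed (IsLocalRing.ResidueField A) →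
        IsSepClosed (IsLocalRing.ResidueField B) ∧
        ∀ _ : IsLocalHom (algebraMap A B),
          letI := (IsLocalRing.ResidueField.map (algebraMap A B)).toAlgebra
          IsPurelyInseparable (IsLocalRing.ResidueField A) (IsLocalRing.ResidueField B)) := by
  have hG : Helper1.GabberCond (IsLocalRing.maximalIdeal A) :=
    Helper1.gabberCond_of_henselianRing _
  have hjacB : (IsLocalRing.maximalIdeal A).map (algebraMap A B) ≤ Ideal.jacobson ⊥ :=
    Helper1.map_le_jacobson_of_isIntegral _ hG.1 B
  have hidem : ∀ e : B ⧸ (IsLocalRing.maximalIdeal A).map (algebraMap A B),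
      IsIdempotentElem e → e = 0 ∨ e = 1 := by
    intro e he
    obtain ⟨b, rfl⟩ := Ideal.Quotient.mk_surjective e
    have hb : b * b - b ∈ (IsLocalRing.maximalIdeal A).map (algebraMap A B) := by
      have h1 := he.eq
      rw [← map_mul, ← sub_eq_zero, ← map_sub, Ideal.Quotient.eq_zero_iff_mem] at h1
      exact h1
    obtain ⟨e', he', hee'⟩ :=
      Helper1.exists_idempotent_lift_of_gabber_of_isIntegral _ hG b hb
    have hmk : Ideal.Quotient.mk ((IsLocalRing.maximalIdeal A).map (algebraMap A B)) e' =
        Ideal.Quotient.mk _ b := by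
      rw [← sub_eq_zero, ← map_sub, Ideal.Quotient.eq_zero_iff_mem]
      exact hee'
    rcases (IsIdempotentElem.iff_eq_zero_or_one).mp he' with h | h
    · left
      rw [← hmk, h, map_zero]
    · right
      rw [← hmk, h, map_one]
  have hdich := isUnit_or_isNilpotent_mk (A := A) (B := B) hidem
  have hloc : IsLocalRing B := by
    apply IsLocalRing.of_isUnit_or_isUnit_one_sub_self
    intro b
    rcases hdich (Ideal.Quotient.mk _ b) with h | h
    · left
      exact Helper1.isUnit_of_isUnit_mk hjacB h
    · right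
      apply Helper1.isUnit_of_isUnit_mk hjacB
      rw [map_sub, map_one]
      exact h.isUnit_one_sub
  have hrad : IsLocalRing.maximalIdeal B ≤
      ((IsLocalRing.maximalIdeal A).map (algebraMap A B)).radical := by
    intro b hb
    rcases hdich (Ideal.Quotient.mk _ b) with h | h
    · exact absurd (Helper1.isUnit_of_isUnit_mk hjacB h)
        (mem_nonunits_iff.mp ((IsLocalRing.mem_maximalIdeal b).mp hb))
    · obtain ⟨n, hn⟩ := h
      refine ⟨n, ?_⟩
      rw [← map_pow, Ideal.Quotient.eq_zero_iff_mem] at hn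
      exact hn
  haveI hHB : HenselianRing B ((IsLocalRing.maximalIdeal A).map (algebraMap A B)) :=
    Groth.Agent.S0526.result A _ B
  haveI hHrad : HenselianRing B ((IsLocalRing.maximalIdeal A).map (algebraMap A B)).radical :=
    (Helper1.henselianRing_radical_iff _).mpr hHB
  have hHm : HenselianRing B (IsLocalRing.maximalIdeal B) := Helper1.henselianRing_of_le hrad
  have hHL : HenselianLocalRing B :=
    { toIsLocalRing := hloc
      is_henselian := fun f hf a₀ h₁ h₂ => hHm.is_henselian f hf a₀ h₁ (h₂.map _) }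
  have hlh : IsLocalHom (algebraMap A B) := by
    constructor
    intro a ha
    by_contra hna
    have haI : a ∈ IsLocalRing.maximalIdeal A := (IsLocalRing.mem_maximalIdeal a).mpr hna
    obtain ⟨w, hw⟩ := ha
    have h1 := Ideal.mem_jacobson_bot.mp
      (hjacB (Ideal.mem_map_of_mem (algebraMap A B) haI)) (-(↑w⁻¹ : B))
    rw [← hw, mul_neg, Units.mul_inv, neg_add_cancel] at h1
    exact not_isUnit_zero h1
  refine ⟨hHL, hlh, ?_⟩
  intro hsep
  letI alg : Algebra (IsLocalRing.ResidueField A) (IsLocalRing.ResidueField B) :=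
    (IsLocalRing.ResidueField.map (algebraMap A B)).toAlgebra
  have halg : Algebra.IsAlgebraic (IsLocalRing.ResidueField A) (IsLocalRing.ResidueField B) := by
    constructor
    intro y
    obtain ⟨b, rfl⟩ := IsLocalRing.residue_surjective y
    obtain ⟨p, hpm, hpb⟩ := Algebra.IsIntegral.isIntegral (R := A) b
    refine ⟨p.map (IsLocalRing.residue A), (hpm.map _).ne_zero, ?_⟩
    rw [Polynomial.aeval_def, Polynomial.eval₂_map]
    have h1 : (algebraMap (IsLocalRing.ResidueField A) (IsLocalRing.ResidueField B)).comp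
        (IsLocalRing.residue A) = (IsLocalRing.residue B).comp (algebraMap A B) := by
      ext a
      rfl
    rw [h1, ← Polynomial.hom_eval₂, hpb, map_zero]
  refine ⟨Algebra.IsAlgebraic.isSepClosed (F := IsLocalRing.ResidueField A), ?_⟩
  intro _
  exact Algebra.IsAlgebraic.isPurelyInseparable_of_isSepClosed

end Groth.Agent.S1964
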