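import Groth.Statements.S19651
import Mathlib

set_option autoImplicit false
universe u v
open AbVar

namespace Groth.Agent.S19651

theorem aeval_reflect_mul_pow' {k A : Type*} [CommRing k] [Ring A] [Algebra k A] (x y : A)
    (hxy : x * y = 1) (hyx : y * x = 1) (N : ℕ) (f : Polynomial k) (hf : f.natDegree ≤ N) :
    Polynomial.aeval y (Polynomial.reflect N f) * x ^ N = Polynomial.aeval x f := by
  have hc : Commute y x := by
    show y * x = x * y
    rw [hyx, hxy]
  refine Polynomial.induction_with_natDegree_le
    (fun f => Polynomial.aeval y (Polynomial.reflect N f) * x ^ N = Polynomial.aeval x f) N ?_ ?_ ?_ f hf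
  · simp
  · intro n r _ hnN
    show Polynomial.aeval y (Polynomial.reflect N (Polynomial.C r * Polynomial.X ^ n)) * x ^ N
      = Polynomial.aeval x (Polynomial.C r * Polynomial.X ^ n)
    rw [Polynomial.reflect_C_mul_X_pow, Polynomial.revAt_le hnN, map_mul, map_mul, Polynomial.aeval_C,
      Polynomial.aeval_X_pow, Polynomial.aeval_X_pow]
    have hN : x ^ N = x ^ (N - n) * x ^ n := by rw [← pow_add, Nat.sub_add_cancel hnN]
    have h1 : y ^ (N - n) * x ^ N = x ^ n := by
      rw [hN, ← mul_assoc, ← hc.mul_pow, hyx, one_pow, one_mul]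
    rw [mul_assoc, h1, Polynomial.aeval_C]
  · intro f g _ _ hf hg
    show Polynomial.aeval y (Polynomial.reflect N (f + g)) * x ^ N = Polynomial.aeval x (f + g)
    rw [Polynomial.reflect_add, map_add, add_mul, hf, hg, map_add]

open Polynomial in
/-- Stated for an arbitrary invariant bilinear form, as the argument there allows. Let k be a field, V a
k-vector space with a bilinear form B and M a linear automorphism of V with B(Mx, My) = B(x, y) for
all x, y. If Q₁ and Q₂ are polynomials such that the reciprocal polynomial of Q₁ (its coefficient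
list reversed) is coprime to Q₂, then every vector killed by a power of Q₁(M) is B-orthogonal to
every vector killed by a power of Q₂(M). With Q₁ = Q₂ = Q this says that the generalized kernel of
Q(M) is totally isotropic whenever Q is coprime to its reciprocal polynomial, which for an
irreducible Q means that Q is not self-reciprocal. (The published statement takes M symplectic and
Q₁, Q₂ irreducible factors of the characteristic polynomial, with Q not self-reciprocal in the first
clause; its second clause asks Q₁ and Q₂ to be distinct and not reciprocal, which holds as proved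
when this is read as saying that Q₂ is not the reciprocal of Q₁, but fails if it only means that
neither is self-reciprocal, as the diagonal matrix with entries 2 and 1/2 preserving the standard
alternating form on k² shows; the coprimality of the reciprocal of Q₁ with Q₂, which is what the
published proof uses, is imposed here and covers both clauses.) -/
theorem result
    {k : Type u} [Field k] {V : Type v} [AddCommGroup V] [Module k V]
    (B : LinearMap.BilinForm k V) (M : V ≃ₗ[k] V)
    (hM : ∀ x y : V, B (M x) (M y) = B x y)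
    (Q₁ Q₂ : k[X]) (h : IsCoprime Q₁.reverse Q₂)
    (x y : V)
    (hx : ∃ n : ℕ, (Polynomial.aeval (M : V →ₗ[k] V) Q₁ ^ n) x = 0)
    (hy : ∃ n : ℕ, (Polynomial.aeval (M : V →ₗ[k] V) Q₂ ^ n) y = 0) :
    B x y = 0 := by
  obtain ⟨T, hT⟩ : ∃ T : Module.End k V, T = (M : V →ₗ[k] V) := ⟨_, rfl⟩
  obtain ⟨Ti, hTi⟩ : ∃ Ti : Module.End k V, Ti = (M.symm : V →ₗ[k] V) := ⟨_, rfl⟩
  rw [← hT] at hx hy
  have hTTi : T * Ti = 1 := by
    rw [hT, hTi]
    refine LinearMap.ext (fun v => ?_)
    simp
  have hTiT : Ti * T = 1 := by
    rw [hT, hTi]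
    refine LinearMap.ext (fun v => ?_)
    simp
  have hcomm : Commute T Ti := by
    show T * Ti = Ti * T
    rw [hTTi, hTiT]
  have hA1 : ∀ v w, B (T v) w = B v (Ti w) := by
    intro v w
    have h0 := hM v (M.symm w)
    rw [LinearEquiv.apply_symm_apply] at h0
    rw [hT, hTi]
    exact h0
  have hA1pow : ∀ (n : ℕ) v w, B ((T ^ n) v) w = B v ((Ti ^ n) w) := by
    intro n
    induction n with
    | zero => intro v w; simp
    | succ n ih =>
      intro v w
      rw [pow_succ, Module.End.mul_apply, ih, hA1, pow_succ', Module.End.mul_apply]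
  have hA3 : ∀ (p : k[X]) v w, B (Polynomial.aeval T p v) w = B v (Polynomial.aeval Ti p w) := by
    intro p
    induction p using Polynomial.induction_on' with
    | add p q hp hq =>
      intro v w
      simp only [map_add, LinearMap.add_apply, hp, hq]
    | monomial n c =>
      intro v w
      rw [Polynomial.aeval_monomial, Polynomial.aeval_monomial, Module.End.mul_apply,
        Module.End.mul_apply, Module.algebraMap_end_apply, Module.algebraMap_end_apply,
        map_smul, LinearMap.smul_apply, map_smul, hA1pow]
  have hA3pow : ∀ (p : k[X]) (n : ℕ) v w,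
      B ((Polynomial.aeval T p ^ n) v) w = B v ((Polynomial.aeval Ti p ^ n) w) := by
    intro p n
    induction n with
    | zero => intro v w; simp
    | succ n ih =>
      intro v w
      rw [pow_succ, Module.End.mul_apply, ih, hA3, pow_succ', Module.End.mul_apply]
  have hc_all : ∀ p : k[X], Commute (Polynomial.aeval T p) Ti := by
    intro p
    rw [Polynomial.aeval_eq_sum_range]
    exact Commute.sum_left _ _ _ (fun i _ => ((hcomm.pow_left i).smul_left _))
  obtain ⟨N, hN⟩ : ∃ N, N = Q₁.natDegree := ⟨_, rfl⟩
  have hrev : Polynomial.aeval T Q₁.reverse * Ti ^ N = Polynomial.aeval Ti Q₁ := by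
    rw [hN]
    exact aeval_reflect_mul_pow' Ti T hTiT hTTi Q₁.natDegree Q₁ le_rfl
  have hcR : Commute (Polynomial.aeval T Q₁.reverse) (Ti ^ N) := (hc_all Q₁.reverse).pow_right N
  obtain ⟨n, hxn⟩ := hx
  obtain ⟨m, hym⟩ := hy
  have hpow : (Polynomial.aeval Ti Q₁) ^ n = (Polynomial.aeval T Q₁.reverse) ^ n * (Ti ^ N) ^ n := by
    rw [← hrev, hcR.mul_pow]
  obtain ⟨a, b, hab⟩ := IsCoprime.pow (m := n) (n := m) h
  have hab' : Q₁.reverse ^ n * a + b * Q₂ ^ m = 1 := by rw [mul_comm]; exact hab
  have h1 := congrArg (fun p => Polynomial.aeval T p y) hab'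
  simp only [map_add, map_mul, map_pow, map_one, LinearMap.add_apply, Module.End.mul_apply,
    Module.End.one_apply, hym, map_zero, add_zero] at h1
  have hone : (Ti ^ N) ^ n * (T ^ N) ^ n = 1 := by
    rw [← pow_mul, ← pow_mul, ← hcomm.symm.mul_pow, hTiT, one_pow]
  have h2 : (Polynomial.aeval Ti Q₁ ^ n) (((T ^ N) ^ n) (Polynomial.aeval T a y)) = y := by
    rw [hpow, Module.End.mul_apply, ← Module.End.mul_apply ((Ti ^ N) ^ n), hone, Module.End.one_apply]
    exact h1
  rw [← h2, ← hA3pow, hxn, map_zero, LinearMap.zero_apply]

end Groth.Agent.S19651
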