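import Groth.Statements.S19652
import Mathlib
import Groth.Agent.Lib.helper9.BilinAdj

set_option autoImplicit false
universe u v
open AbVar

namespace Groth.Agent.S19652

open Polynomial in
/-- Stated for an arbitrary invariant nondegenerate bilinear form, as the argument there allows. Let k
be a field, V a finite-dimensional k-vector space with a nondegenerate bilinear form B and M a
linear automorphism of V with B(Mx, My) = B(x, y) for all x, y. If Q is a polynomial associated to
its own reciprocal polynomial (its coefficient list reversed), then B restricted to the generalized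
kernel of Q(M), the union of the kernels of the powers Q(M)^n, is nondegenerate. (The published
statement takes M symplectic and Q a self-reciprocal divisor of the characteristic polynomial;
divisibility plays no role and is not assumed.) -/
theorem result
    {k : Type u} [Field k] {V : Type v} [AddCommGroup V] [Module k V] [FiniteDimensional k V]
    (B : LinearMap.BilinForm k V) (hB : B.Nondegenerate) (M : V ≃ₗ[k] V)
    (hM : ∀ x y : V, B (M x) (M y) = B x y)
    (Q : k[X]) (hQ : Associated Q Q.reverse) :
    (B.restrict (⨆ n : ℕ, LinearMap.ker (Polynomial.aeval (M : V →ₗ[k] V) Q ^ n))).Nondegenerate := by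
  obtain ⟨S, hS⟩ : ∃ S : Module.End k V, S = Polynomial.aeval (M : V →ₗ[k] V) Q := ⟨_, rfl⟩
  rw [← hS]
  have hcompl := LinearMap.isCompl_iSup_ker_pow_iInf_range_pow S
  obtain ⟨n, hn⟩ := (Filter.eventually_atTop.mp (LinearMap.eventually_iSup_ker_pow_eq S))
  have hW : (⨆ m : ℕ, LinearMap.ker (S ^ m)) = LinearMap.ker (S ^ n) := hn n le_rfl
  have hMflip : ∀ x y : V, B.flip (M x) (M y) = B.flip x y := fun x y => hM y x
  have hdecomp : ∀ v : V, ∃ w ∈ LinearMap.ker (S ^ n), ∃ z' : V, v = w + (S ^ n) z' := by
    intro v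
    have hv : v ∈ (⨆ m : ℕ, LinearMap.ker (S ^ m)) ⊔ (⨅ m : ℕ, LinearMap.range (S ^ m)) := by
      rw [hcompl.sup_eq_top]; exact Submodule.mem_top
    obtain ⟨w, hw, w', hw', hsum⟩ := Submodule.mem_sup.mp hv
    rw [hW] at hw
    have hw'n : w' ∈ LinearMap.range (S ^ n) := (Submodule.mem_iInf _).mp hw' n
    obtain ⟨z', hz'⟩ := hw'n
    exact ⟨w, hw, z', by rw [hz', hsum]⟩
  have hcore : ∀ xv : V, (S ^ n) xv = 0 → ∀ z' : V, B xv ((S ^ n) z') = 0 := by
    intro xv hxv z'
    subst hS
    exact H9Adj.coreA B M hM Q hQ n xv hxv z'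
  have hcore' : ∀ yv : V, (S ^ n) yv = 0 → ∀ z' : V, B ((S ^ n) z') yv = 0 := by
    intro yv hyv z'
    subst hS
    exact H9Adj.coreA B.flip M hMflip Q hQ n yv hyv z'
  rw [hW]
  constructor
  · intro x hx
    have hxv : ∀ v : V, B x v = 0 := by
      intro v
      obtain ⟨w, hw, z', hv⟩ := hdecomp v
      rw [hv, map_add]
      have h1 : B x w = 0 := hx ⟨w, hw⟩
      have h2 : B x ((S ^ n) z') = 0 := hcore x (LinearMap.mem_ker.mp x.2) z'
      rw [h1, h2, add_zero]
    exact Subtype.ext (hB.1 x hxv)
  · intro y hy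
    have hyv : ∀ v : V, B v y = 0 := by
      intro v
      obtain ⟨w, hw, z', hv⟩ := hdecomp v
      rw [hv, map_add, LinearMap.add_apply]
      have h1 : B w y = 0 := hy ⟨w, hw⟩
      have h2 : B ((S ^ n) z') y = 0 := hcore' y (LinearMap.mem_ker.mp y.2) z'
      rw [h1, h2, add_zero]
    exact Subtype.ext (hB.2 y hyv)

end Groth.Agent.S19652
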