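import Groth.Statements.S1966
import Groth.Agent.Lib.helper1.HensLocal

set_option autoImplicit false
universe u
open EtAlg

namespace Groth.Agent.S1966

/-- Towers indexed by the natural numbers: let (A_k) be rings with surjective transition maps A_{k+1} ->
A_k whose kernels consist of nilpotent elements, and let A be a ring with compatible projections p_k
: A -> A_k identifying A with the set of compatible sequences (p is jointly injective and every
compatible sequence comes from an element of A). Then for every k the pair (A, ker p_k) is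
henselian. -/
theorem result (A : Type u) [CommRing A] (As : ℕ → Type u) [∀ k, CommRing (As k)]
    (t : ∀ k, As (k + 1) →+* As k) (ht : ∀ k, Function.Surjective (t k))
    (hnil : ∀ k (x : As (k + 1)), t k x = 0 → IsNilpotent x)
    (p : ∀ k, A →+* As k) (hp : ∀ k, (t k).comp (p (k + 1)) = p k)
    (hinj : ∀ a b : A, (∀ k, p k a = p k b) → a = b)
    (hsurj : ∀ x : ∀ k, As k, (∀ k, t k (x (k + 1)) = x k) → ∃ a : A, ∀ k, p k a = x k) (k : ℕ) :
    HenselianRing A (RingHom.ker (p k)) := by
  classical
  have hpk : ∀ n a, t n (p (n + 1) a) = p n a := fun n a => RingHom.congr_fun (hp n) a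
  have hnilp : ∀ z : A, p k z = 0 → ∀ n, IsNilpotent (p n z) := by
    intro z hz
    have hdown : ∀ d n, n + d = k → p n z = 0 := by
      intro d
      induction d with
      | zero =>
        intro n hn
        rw [Nat.add_zero] at hn
        rw [hn]
        exact hz
      | succ d ih =>
        intro n hn
        have h1 : p (n + 1) z = 0 := ih (n + 1) (by omega)
        rw [← hpk n z, h1, map_zero]
    have hup : ∀ d, IsNilpotent (p (k + d) z) := by
      intro d
      induction d with
      | zero =>
        change IsNilpotent (p k z)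
        rw [hz]
        exact IsNilpotent.zero
      | succ d ih =>
        obtain ⟨m, hm⟩ := ih
        have h1 : t (k + d) ((p (k + d + 1) z) ^ m) = 0 := by rw [map_pow, hpk, hm]
        exact IsNilpotent.of_pow (hnil (k + d) _ h1)
    intro n
    rcases le_total n k with h | h
    · obtain ⟨d, hd⟩ := Nat.exists_eq_add_of_le h
      rw [hdown d n hd.symm]
      exact IsNilpotent.zero
    · obtain ⟨d, rfl⟩ := Nat.exists_eq_add_of_le h
      exact hup d
  have hjac : RingHom.ker (p k) ≤ Ideal.jacobson ⊥ := by
    intro z hz
    rw [RingHom.mem_ker] at hz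
    rw [Ideal.mem_jacobson_bot]
    intro c
    have hun : ∀ n, IsUnit (p n (z * c + 1)) := by
      intro n
      rw [map_add, map_mul, map_one]
      exact ((Commute.all _ _).isNilpotent_mul_right (hnilp z hz n)).isUnit_add_one
    have hex : ∀ n, ∃ v : As n, p n (z * c + 1) * v = 1 := fun n => (hun n).exists_right_inv
    choose v hv using hex
    have hcompat : ∀ n, t n (v (n + 1)) = v n := by
      intro n
      have h1 : p n (z * c + 1) * t n (v (n + 1)) = 1 := by
        rw [← hpk n (z * c + 1), ← map_mul, hv, map_one]
      calc t n (v (n + 1)) = (p n (z * c + 1) * v n) * t n (v (n + 1)) := by rw [hv, one_mul]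
        _ = v n * (p n (z * c + 1) * t n (v (n + 1))) := by ring
        _ = v n := by rw [h1, mul_one]
    obtain ⟨w, hw⟩ := hsurj v hcompat
    have h2 : (z * c + 1) * w = 1 := by
      apply hinj
      intro n
      rw [map_mul, hw, hv, map_one]
    exact IsUnit.of_mul_eq_one w h2
  refine ⟨hjac, ?_⟩
  intro f hf a₀ h₁ h₂
  have hu : IsUnit (f.derivative.eval a₀) := Helper1.isUnit_of_isUnit_mk hjac h₂
  rw [RingHom.mem_ker] at h₁
  have hnj : ∀ n, nilradical (As n) ≤ Ideal.jacobson ⊥ := by
    intro n x hx
    rw [Ideal.mem_jacobson_bot]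
    intro y
    exact ((Commute.all _ _).isNilpotent_mul_right (mem_nilradical.mp hx)).isUnit_add_one
  have hev : ∀ n (x : A), (f.map (p n)).eval (p n x) = p n (f.eval x) :=
    fun n x => Helper1.eval_map_apply' (p n) f x
  have hev' : ∀ n (x : A),
      (f.map (p n)).derivative.eval (p n x) = p n (f.derivative.eval x) := fun n x => by
    rw [Polynomial.derivative_map, Helper1.eval_map_apply']
  have hroot : ∀ n, ∃ b : As n, (f.map (p n)).IsRoot b ∧ b - p n a₀ ∈ nilradical (As n) := by
    intro n
    haveI : HenselianRing (As n) (nilradical (As n)) :=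
      Helper1.henselianRing_of_locally_nilpotent (As n) (nilradical (As n))
        (fun x hx => mem_nilradical.mp hx)
    apply HenselianRing.is_henselian (f.map (p n)) (hf.map _) (p n a₀)
    · rw [hev, mem_nilradical]
      exact hnilp _ h₁ n
    · rw [hev']
      exact (hu.map (p n)).map (Ideal.Quotient.mk _)
  choose b hb1 hb2 using hroot
  have huniq : ∀ n (b' : As n), (f.map (p n)).IsRoot b' →
      b' - p n a₀ ∈ nilradical (As n) → b' = b n := by
    intro n b' hr hn
    have h3 : b' - b n ∈ (⊥ : Ideal (As n)) := by
      apply Helper1.root_sub_mem (hnj n) (f.map (p n)) hr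
      · have : b' - b n = (b' - p n a₀) - (b n - p n a₀) := by ring
        rw [this]
        exact Ideal.sub_mem _ hn (hb2 n)
      · obtain ⟨z, hz⟩ := (f.map (p n)).derivative.evalSubFactor (b n) (p n a₀)
        have : (f.map (p n)).derivative.eval (b n) =
            (f.map (p n)).derivative.eval (p n a₀) + z * (b n - p n a₀) := by
          rw [← hz]
          ring
        rw [this, hev']
        apply Helper1.isUnit_add_of_mem_jacobson_bot (hu.map (p n))
        exact hnj n (Ideal.mul_mem_left _ _ (hb2 n))
      · rw [Ideal.mem_bot]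
        exact hb1 n
    exact sub_eq_zero.mp ((Ideal.mem_bot).mp h3)
  have hcompat : ∀ n, t n (b (n + 1)) = b n := by
    intro n
    apply huniq
    · have hm : f.map (p n) = (f.map (p (n + 1))).map (t n) := by
        rw [Polynomial.map_map, hp]
      rw [hm, Polynomial.IsRoot.def, Helper1.eval_map_apply', (hb1 (n + 1)).eq_zero, map_zero]
    · rw [← hpk n a₀, ← map_sub, mem_nilradical]
      exact (mem_nilradical.mp (hb2 (n + 1))).map (t n)
  obtain ⟨a, ha⟩ := hsurj b hcompat
  refine ⟨a, ?_, ?_⟩
  · rw [Polynomial.IsRoot.def]
    apply hinj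
    intro n
    rw [← hev, ha, (hb1 n).eq_zero, map_zero]
  · rw [RingHom.mem_ker, map_sub, ha, sub_eq_zero]
    symm
    apply huniq
    · rw [Polynomial.IsRoot.def, hev, h₁]
    · rw [sub_self]
      exact Ideal.zero_mem _

end Groth.Agent.S1966
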