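import Groth.Statements.S19660
import Mathlib
import Groth.Agent.Lib.helper9.BilinAdj

set_option autoImplicit false
universe u v
open AbVar

namespace Groth.Agent.S19660

/-- Fitting decomposition, elementwise. -/
theorem fitting_decomp {k : Type*} [Field k] {V : Type*} [AddCommGroup V] [Module k V]
    [FiniteDimensional k V] (S : Module.End k V) (n : ℕ) (v : V) :
    ∃ w : V, (∃ m : ℕ, (S ^ m) w = 0) ∧ ∃ z' : V, v = w + (S ^ n) z' := by
  have hcompl := LinearMap.isCompl_iSup_ker_pow_iInf_range_pow S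
  obtain ⟨n0, hn0⟩ := (Filter.eventually_atTop.mp (LinearMap.eventually_iSup_ker_pow_eq S))
  have hW : (⨆ m : ℕ, LinearMap.ker (S ^ m)) = LinearMap.ker (S ^ n0) := hn0 n0 le_rfl
  have hv : v ∈ (⨆ m : ℕ, LinearMap.ker (S ^ m)) ⊔ (⨅ m : ℕ, LinearMap.range (S ^ m)) := by
    rw [hcompl.sup_eq_top]; exact Submodule.mem_top
  obtain ⟨w, hw, w', hw', hsum⟩ := Submodule.mem_sup.mp hv
  rw [hW] at hw
  have hw'n : w' ∈ LinearMap.range (S ^ n) := (Submodule.mem_iInf _).mp hw' n
  obtain ⟨z', hz'⟩ := hw'n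
  exact ⟨w, ⟨n0, LinearMap.mem_ker.mp hw⟩, z', by rw [hz', hsum]⟩

theorem pow_apply_zero_of_le {k : Type*} [Field k] {V : Type*} [AddCommGroup V] [Module k V]
    (S : Module.End k V) {a b : ℕ} (hab : a ≤ b) (x : V) (hx : (S ^ a) x = 0) : (S ^ b) x = 0 := by
  obtain ⟨c, rfl⟩ := Nat.exists_eq_add_of_le hab
  rw [add_comm, pow_add, Module.End.mul_apply, hx, map_zero]

/-- The text applies this to the Frobenius acting on the points of prime order of a principally
polarised abelian variety over a finite field with q elements and to their Weil pairing. Let k be a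
field, V a finite-dimensional k-vector space with a nondegenerate bilinear form B, q a nonzero
element of k and M a linear automorphism of V with B(Mx, My) = q·B(x, y) for all x, y. Write V₁ and
V_q for the generalized eigenspaces of M at 1 and at q. Then every vector of V₁ that is B-orthogonal
to all of V_q is zero, every vector of V_q that is B-orthogonal (on the right) to all of V₁ is zero,
and when q ≠ 1 the form B vanishes identically on V₁ × V₁ and on V_q × V_q. (The text asserts this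
as the evident adaptation, to a form scaled by q, of the orthogonality and nondegeneracy facts for
generalized kernels of an automorphism preserving a form; the abstract statement is recorded here,
the application to the Weil pairing needing that pairing's formalism.) -/
theorem result
    {k : Type u} [Field k] {V : Type v} [AddCommGroup V] [Module k V] [FiniteDimensional k V]
    (B : LinearMap.BilinForm k V) (hB : B.Nondegenerate) (q : k) (hq : q ≠ 0)
    (M : V ≃ₗ[k] V) (hM : ∀ x y : V, B (M x) (M y) = q * B x y) :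
    (∀ x ∈ Module.End.maxGenEigenspace (M : Module.End k V) 1,
        (∀ y ∈ Module.End.maxGenEigenspace (M : Module.End k V) q, B x y = 0) → x = 0) ∧
      (∀ y ∈ Module.End.maxGenEigenspace (M : Module.End k V) q,
        (∀ x ∈ Module.End.maxGenEigenspace (M : Module.End k V) 1, B x y = 0) → y = 0) ∧
      (q ≠ 1 → ∀ x ∈ Module.End.maxGenEigenspace (M : Module.End k V) 1,
        ∀ x' ∈ Module.End.maxGenEigenspace (M : Module.End k V) 1, B x x' = 0) ∧
      (q ≠ 1 → ∀ y ∈ Module.End.maxGenEigenspace (M : Module.End k V) q,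
        ∀ y' ∈ Module.End.maxGenEigenspace (M : Module.End k V) q, B y y' = 0) := by
  obtain ⟨T, hT⟩ : ∃ T : Module.End k V, T = (M : V →ₗ[k] V) := ⟨_, rfl⟩
  obtain ⟨Ti, hTi⟩ : ∃ Ti : Module.End k V, Ti = (M.symm : V →ₗ[k] V) := ⟨_, rfl⟩
  have hTTi : T * Ti = 1 := by rw [hT, hTi]; exact H9Adj.T_mul_Ti M
  have hTiT : Ti * T = 1 := by rw [hT, hTi]; exact H9Adj.Ti_mul_T M
  have hcomm : Commute T Ti := by rw [hT, hTi]; exact H9Adj.commute_T_Ti M
  have hTiTv : ∀ v, Ti (T v) = v := fun v => by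
    rw [← Module.End.mul_apply, hTiT, Module.End.one_apply]
  have hadjL : ∀ v w, B (T v) w = q * B v (Ti w) := by
    intro v w
    have h0 := hM v (M.symm w)
    rw [LinearEquiv.apply_symm_apply] at h0
    rw [hT, hTi]
    exact h0
  have hadjR : ∀ v w, B v (T w) = q * B (Ti v) w := by
    intro v w
    have h0 := hM (M.symm v) w
    rw [LinearEquiv.apply_symm_apply] at h0
    rw [hT, hTi]
    exact h0
  obtain ⟨S1, hS1⟩ : ∃ S1 : Module.End k V, S1 = T - (1 : k) • (1 : Module.End k V) := ⟨_, rfl⟩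
  obtain ⟨Sq, hSq⟩ : ∃ Sq : Module.End k V, Sq = T - q • (1 : Module.End k V) := ⟨_, rfl⟩
  obtain ⟨S1d, hS1d⟩ : ∃ S1d : Module.End k V, S1d = q • Ti - 1 := ⟨_, rfl⟩
  obtain ⟨Sqd, hSqd⟩ : ∃ Sqd : Module.End k V, Sqd = q • Ti - q • (1 : Module.End k V) := ⟨_, rfl⟩
  have hL : ∀ v w, B (S1 v) w = B v (S1d w) := by
    intro v w
    rw [hS1, hS1d]
    simp only [LinearMap.sub_apply, LinearMap.smul_apply, Module.End.one_apply, one_smul, map_sub,
      map_smul, smul_eq_mul]
    rw [hadjL]
  have hR : ∀ v w, B v (Sq w) = B (Sqd v) w := by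
    intro v w
    rw [hSq, hSqd]
    simp only [LinearMap.sub_apply, LinearMap.smul_apply, Module.End.one_apply, map_sub,
      map_smul, smul_eq_mul]
    rw [hadjR]
  have hLpow : ∀ (n : ℕ) v w, B ((S1 ^ n) v) w = B v ((S1d ^ n) w) := by
    intro n
    induction n with
    | zero => intro v w; simp
    | succ n ih =>
      intro v w
      rw [pow_succ, Module.End.mul_apply, ih, hL, pow_succ', Module.End.mul_apply]
  have hRpow : ∀ (n : ℕ) v w, B v ((Sq ^ n) w) = B ((Sqd ^ n) v) w := by
    intro n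
    induction n with
    | zero => intro v w; simp
    | succ n ih =>
      intro v w
      rw [pow_succ, Module.End.mul_apply, ih, hR, pow_succ', Module.End.mul_apply]
  have hid1 : S1d = (-Ti) * Sq := by
    rw [hS1d, hSq]
    refine LinearMap.ext (fun v => ?_)
    simp only [LinearMap.sub_apply, LinearMap.smul_apply, Module.End.one_apply, Module.End.mul_apply,
      LinearMap.neg_apply, map_sub, map_smul, hTiTv]
    module
  have hid2 : Sqd = ((-q) • Ti) * S1 := by
    rw [hSqd, hS1]
    refine LinearMap.ext (fun v => ?_)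
    simp only [LinearMap.sub_apply, LinearMap.smul_apply, Module.End.one_apply, Module.End.mul_apply,
      map_sub, map_smul, hTiTv, one_smul]
    module
  have hcTiSq : Commute Ti Sq := by
    rw [hSq]
    exact hcomm.symm.sub_right ((Commute.one_right Ti).smul_right q)
  have hcTiS1 : Commute Ti S1 := by
    rw [hS1]
    exact hcomm.symm.sub_right ((Commute.one_right Ti).smul_right 1)
  have hcSqT : Commute Sq T := by
    rw [hSq]
    exact (Commute.refl T).sub_left ((Commute.one_left T).smul_left q)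
  have hcS1T : Commute S1 T := by
    rw [hS1]
    exact (Commute.refl T).sub_left ((Commute.one_left T).smul_left 1)
  have hP1op : ∀ n : ℕ, S1d ^ n * (-T) ^ n = Sq ^ n := by
    intro n
    have h1 : S1d ^ n = (-Ti) ^ n * Sq ^ n := by rw [hid1, (hcTiSq.neg_left).mul_pow]
    have h2 : (-Ti) ^ n * (-T) ^ n = 1 := by
      rw [← (hcomm.symm.neg_left.neg_right).mul_pow, neg_mul_neg, hTiT, one_pow]
    have h3 : Commute (Sq ^ n) ((-T) ^ n) := (hcSqT.neg_right).pow_pow n n
    rw [h1, mul_assoc, h3.eq, ← mul_assoc, h2, one_mul]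
  have hqinv : (-q) * (-q)⁻¹ = 1 := mul_inv_cancel₀ (neg_ne_zero.mpr hq)
  have hP2op : ∀ n : ℕ, Sqd ^ n * ((-q)⁻¹ • T) ^ n = S1 ^ n := by
    intro n
    have hcE : Commute ((-q) • Ti) S1 := hcTiS1.smul_left (-q)
    have h1 : Sqd ^ n = ((-q) • Ti) ^ n * S1 ^ n := by rw [hid2, hcE.mul_pow]
    have hcEE' : Commute ((-q) • Ti) ((-q)⁻¹ • T) := (hcomm.symm.smul_left (-q)).smul_right _
    have hEE' : ((-q) • Ti) * ((-q)⁻¹ • T) = 1 := by
      rw [smul_mul_smul_comm, hqinv, hTiT, one_smul]
    have h2 : ((-q) • Ti) ^ n * ((-q)⁻¹ • T) ^ n = 1 := by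
      rw [← hcEE'.mul_pow, hEE', one_pow]
    have h3 : Commute (S1 ^ n) (((-q)⁻¹ • T) ^ n) := (hcS1T.smul_right _).pow_pow n n
    rw [h1, mul_assoc, h3.eq, ← mul_assoc, h2, one_mul]
  have P1 : ∀ (n : ℕ) (x : V), (S1 ^ n) x = 0 → ∀ w', B x ((Sq ^ n) w') = 0 := by
    intro n x hx w'
    rw [← hP1op, Module.End.mul_apply, ← hLpow, hx, map_zero, LinearMap.zero_apply]
  have P2 : ∀ (n : ℕ) (y : V), (Sq ^ n) y = 0 → ∀ v', B ((S1 ^ n) v') y = 0 := by
    intro n y hy v'
    rw [← hP2op, Module.End.mul_apply, ← hRpow, hy, map_zero]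
  have hmem1 : ∀ x : V, x ∈ Module.End.maxGenEigenspace (M : Module.End k V) 1 ↔ ∃ n : ℕ, (S1 ^ n) x = 0 := by
    intro x
    rw [Module.End.mem_maxGenEigenspace, hS1, hT]
  have hmemq : ∀ x : V, x ∈ Module.End.maxGenEigenspace (M : Module.End k V) q ↔ ∃ n : ℕ, (Sq ^ n) x = 0 := by
    intro x
    rw [Module.End.mem_maxGenEigenspace, hSq, hT]
  -- coprimality
  have hcop : q ≠ 1 → ∀ n : ℕ, ∃ a b : Polynomial k,
      a * (Polynomial.X - 1) ^ n + b * (Polynomial.X - Polynomial.C q) ^ n = 1 := by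
    intro hq1 n
    have h0 : IsCoprime (Polynomial.X - Polynomial.C (1 : k)) (Polynomial.X - Polynomial.C q) :=
      Polynomial.isCoprime_X_sub_C_of_isUnit_sub (sub_ne_zero.mpr (Ne.symm hq1)).isUnit
    rw [Polynomial.C_1] at h0
    exact IsCoprime.pow (m := n) (n := n) h0
  have haev1 : Polynomial.aeval T (Polynomial.X - 1 : Polynomial k) = S1 := by
    rw [hS1, map_sub, Polynomial.aeval_X, map_one, one_smul]
  have haevq : Polynomial.aeval T (Polynomial.X - Polynomial.C q) = Sq := by
    rw [hSq, map_sub, Polynomial.aeval_X, Polynomial.aeval_C, Algebra.algebraMap_eq_smul_one]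
  refine ⟨?_, ?_, ?_, ?_⟩
  · intro x hx hxq
    obtain ⟨n, hn⟩ := (hmem1 x).mp hx
    refine hB.1 x (fun v => ?_)
    obtain ⟨w, ⟨m, hw⟩, z', hv⟩ := fitting_decomp Sq n v
    rw [hv, map_add, hxq w ((hmemq w).mpr ⟨m, hw⟩), P1 n x hn z', add_zero]
  · intro y hy hy1
    obtain ⟨n, hn⟩ := (hmemq y).mp hy
    refine hB.2 y (fun v => ?_)
    obtain ⟨w, ⟨m, hw⟩, z', hv⟩ := fitting_decomp S1 n v
    rw [hv, map_add, LinearMap.add_apply, hy1 w ((hmem1 w).mpr ⟨m, hw⟩), P2 n y hn z', add_zero]
  · intro hq1 x hx x' hx'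
    obtain ⟨n1, hn1⟩ := (hmem1 x).mp hx
    obtain ⟨n2, hn2⟩ := (hmem1 x').mp hx'
    obtain ⟨n, hn⟩ : ∃ n, n = max n1 n2 := ⟨_, rfl⟩
    have hxn : (S1 ^ n) x = 0 := pow_apply_zero_of_le S1 (by rw [hn]; exact le_max_left _ _) x hn1
    have hxn' : (S1 ^ n) x' = 0 := pow_apply_zero_of_le S1 (by rw [hn]; exact le_max_right _ _) x' hn2
    obtain ⟨a, b, hab⟩ := hcop hq1 n
    have hab' : a * (Polynomial.X - 1) ^ n + (Polynomial.X - Polynomial.C q) ^ n * b = 1 := by
      rw [mul_comm _ b]; exact hab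
    have h1 := congrArg (fun p => Polynomial.aeval T p x') hab'
    simp only [map_add, map_mul, map_pow, map_one, LinearMap.add_apply, Module.End.mul_apply,
      Module.End.one_apply, haev1, haevq, hxn', map_zero, zero_add] at h1
    rw [← h1]
    exact P1 n x hxn _
  · intro hq1 y hy y' hy'
    obtain ⟨n1, hn1⟩ := (hmemq y).mp hy
    obtain ⟨n2, hn2⟩ := (hmemq y').mp hy'
    obtain ⟨n, hn⟩ : ∃ n, n = max n1 n2 := ⟨_, rfl⟩
    have hyn : (Sq ^ n) y = 0 := pow_apply_zero_of_le Sq (by rw [hn]; exact le_max_left _ _) y hn1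
    have hyn' : (Sq ^ n) y' = 0 := pow_apply_zero_of_le Sq (by rw [hn]; exact le_max_right _ _) y' hn2
    obtain ⟨a, b, hab⟩ := hcop hq1 n
    have hab' : (Polynomial.X - 1) ^ n * a + b * (Polynomial.X - Polynomial.C q) ^ n = 1 := by
      rw [mul_comm _ a]; exact hab
    have h1 := congrArg (fun p => Polynomial.aeval T p y) hab'
    simp only [map_add, map_mul, map_pow, map_one, LinearMap.add_apply, Module.End.mul_apply,
      Module.End.one_apply, haev1, haevq, hyn, map_zero, add_zero] at h1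
    rw [← h1]
    exact P2 n y' hyn' _

end Groth.Agent.S19660
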