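import Groth.Statements.S19708
import Mathlib

set_option autoImplicit false
universe u v w
open W4c5adicflatcompl
open CAlg

namespace Groth.Agent.S19708

theorem main {A : Type u} [CommRing A] (I : Ideal A) (Z : Type v)
    (M : Type w) [AddCommGroup M] [Module A M] [IsAdicComplete I M] (f : Z → M) :
    f ∈ decaying I Z M ↔ ∃ m : M, ∀ n : ℕ, ∃ S : Finset Z,
      (∀ z, z ∉ S → f z ∈ (I ^ n • ⊤ : Submodule A M)) ∧
        m - (∑ z ∈ S, f z) ∈ (I ^ n • ⊤ : Submodule A M) := by
  classical
  constructor
  · intro hf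
    rw [mem_decaying_iff] at hf
    have hmono : ∀ {a b : ℕ}, a ≤ b → (I ^ b • ⊤ : Submodule A M) ≤ (I ^ a • ⊤ : Submodule A M) :=
      fun {a b} hab => Submodule.smul_mono_left (Ideal.pow_le_pow_right hab)
    have hnot : ∀ n z, z ∉ (hf n).toFinset → f z ∈ (I ^ n • ⊤ : Submodule A M) := by
      intro n z hz
      by_contra h
      exact hz ((hf n).mem_toFinset.mpr h)
    have hsub : ∀ {a b : ℕ}, a ≤ b → (hf a).toFinset ⊆ (hf b).toFinset := by
      intro a b hab z hz
      rw [Set.Finite.mem_toFinset] at hz ⊢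
      exact fun h => hz (hmono hab h)
    obtain ⟨L, hL⟩ := IsPrecomplete.prec' (I := I) (M := M)
      (fun n => ∑ z ∈ (hf n).toFinset, f z) (by
        intro a b hab
        rw [SModEq.sub_mem]
        have h1 : ∑ z ∈ (hf a).toFinset, f z - ∑ z ∈ (hf b).toFinset, f z =
            - ∑ z ∈ (hf b).toFinset \ (hf a).toFinset, f z := by
          rw [← Finset.sum_sdiff (hsub hab)]
          abel
        rw [h1]
        refine Submodule.neg_mem _ (Submodule.sum_mem _ fun z hz => ?_)
        exact hnot a z (Finset.mem_sdiff.mp hz).2)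
    refine ⟨L, fun n => ⟨(hf n).toFinset, hnot n, ?_⟩⟩
    have h2 := (hL n).symm
    rw [SModEq.sub_mem] at h2
    exact h2
  · rintro ⟨m, hm⟩
    rw [mem_decaying_iff]
    intro n
    obtain ⟨S, hS, _⟩ := hm n
    refine S.finite_toSet.subset ?_
    intro z hz
    by_contra h
    exact hz (hS z h)

/-- Let A be a commutative ring, I an ideal of A, M an I-adically complete A-module, Z a set and f : Z →
M a function. Then f is I-adically decaying (for every n, all but finitely many values f(z) lie in
I^n M) if and only if the family (f(z))_{z ∈ Z} has an I-adic sum in M, i.e. there is an element m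
of M such that for every n some finite subset S of Z has f(z) ∈ I^n M for all z outside S and m −
Σ_{z ∈ S} f(z) ∈ I^n M. -/
theorem result {A : Type u} [CommRing A] (I : Ideal A) (Z : Type v)
    (M : Type w) [AddCommGroup M] [Module A M] [IsAdicComplete I M] (f : Z → M) :
    f ∈ decaying I Z M ↔ ∃ m : M, ∀ n : ℕ, ∃ S : Finset Z,
      (∀ z, z ∉ S → f z ∈ (I ^ n • ⊤ : Submodule A M)) ∧ m - (∑ z ∈ S, f z) ∈ (I ^ n • ⊤ : Submodule A M) := by
  exact main I Z M f

end Groth.Agent.S19708
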