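import Groth.Statements.S19710
import Mathlib
import Groth.Agent.Lib.lead.FF13
-- import your own Groth.Agent.* helpers here

set_option autoImplicit false
open FunFld

namespace Groth.Agent.S19710
open FunFld Groth.Agent.Lib.lead.FF Groth.Agent.Lib.lead.FF4 Groth.Agent.Lib.lead.FF5 Groth.Agent.Lib.lead.FF6 Groth.Agent.Lib.lead.FF7 Groth.Agent.Lib.lead.FF8 Groth.Agent.Lib.lead.FF9 Groth.Agent.Lib.lead.FF10 Groth.Agent.Lib.lead.FF11 Groth.Agent.Lib.lead.FF12 Groth.Agent.Lib.lead.FF13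


/-- Let `k` be an algebraically closed field of characteristic zero. A `g^r_d` on a function field `K/k`
of one variable is a divisor `D` of degree `d` with a subspace `V ⊆ L(D)` of dimension `r + 1`;
`V(-nP) = V ∩ L(D - nP)`, and the `i`-th vanishing order `m_i(V, P)` (`m_0 < ⋯ < m_r`) equals `m`
exactly when `dim V(-mP) = r + 1 - i` and `dim V(-(m+1)P) = r - i`. Let `K_Y` have genus `0` and
carry a `g^r_d` `(D_Y, V_Y)` with at least a cusp at a place `Q_Y` (`dim V_Y(-2Q_Y) ≥ r`); let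
`(D_Z, V_Z)` be a `g^r_d` on a second function field `K_Z`, compatible with `(D_Y, V_Y)` at a node
formed by a place `P ≠ Q_Y` of `K_Y` and a place `Q` of `K_Z` (`dim V_Y(-nP) + dim V_Z(-(d+1-n)Q) =
r + 1` for `0 ≤ n ≤ d + 1`), and let `P'` be a place of `K_Y` different from `P` and from `Q_Y`.
Then `m_i(V_Y, P') < m_i(V_Z, Q)` for all but at most one index: the set of `i ≤ r` for which the
`i`-th vanishing order of `V_Y` at `P'` equals the `i`-th vanishing order of `V_Z` at `Q` has at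
most one element. (In the source `Q_Y` is the point where the rational component `Y` meets a chain
of curves ending in a curve of positive genus, which forces the cusp condition assumed here; the
source works over the complex numbers.) -/
theorem result
    (k : Type*) [Field k] [IsAlgClosed k] [CharZero k]
    (KY : Type*) [Field KY] [Algebra k KY] (hKY : FunFld.IsFunctionField k KY) (hg0 : FunFld.genus k KY = 0)
    (KZ : Type*) [Field KZ] [Algebra k KZ] (hKZ : FunFld.IsFunctionField k KZ)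
    (d r : ℕ) (DY : FunFld.Divisor k KY) (hDY : DY.deg = d) (DZ : FunFld.Divisor k KZ) (hDZ : DZ.deg = d)
    (VY : Submodule k KY) (hVY : VY ≤ FunFld.L DY) (hVYr : Module.finrank k ↥VY = r + 1)
    (VZ : Submodule k KZ) (hVZ : VZ ≤ FunFld.L DZ) (hVZr : Module.finrank k ↥VZ = r + 1)
    (QY : FunFld.Place k KY) (hcusp : r ≤ Module.finrank k ↥(VY ⊓ FunFld.L (DY - Finsupp.single QY ((2 : ℤ)))))
    (P : FunFld.Place k KY) (hP : P ≠ QY) (Q : FunFld.Place k KZ)
    (hcomp : ∀ n : ℕ, n ≤ d + 1 →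
      Module.finrank k ↥(VY ⊓ FunFld.L (DY - Finsupp.single P ((n : ℤ)))) + Module.finrank k ↥(VZ ⊓ FunFld.L (DZ - Finsupp.single Q ((d : ℤ) + 1 - n))) = r + 1)
    (P' : FunFld.Place k KY) (hP'P : P' ≠ P) (hP'Q : P' ≠ QY) :
    {i : ℕ | i ≤ r ∧ ∃ m : ℕ,
        Module.finrank k ↥(VY ⊓ FunFld.L (DY - Finsupp.single P' ((m : ℤ)))) = r + 1 - i ∧
        Module.finrank k ↥(VY ⊓ FunFld.L (DY - Finsupp.single P' ((m : ℤ) + 1))) = r - i ∧
        Module.finrank k ↥(VZ ⊓ FunFld.L (DZ - Finsupp.single Q ((m : ℤ)))) = r + 1 - i ∧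
        Module.finrank k ↥(VZ ⊓ FunFld.L (DZ - Finsupp.single Q ((m : ℤ) + 1))) = r - i}.Subsingleton := by
  classical
  haveI : Module.Finite k ↥VY := Module.finite_of_finrank_pos (by rw [hVYr]; omega)
  have key : ∀ i : ℕ, i ≤ r → ∀ m : ℕ,
      Module.finrank k ↥(VY ⊓ FunFld.L (DY - Finsupp.single P' ((m : ℤ)))) = r + 1 - i →
      Module.finrank k ↥(VZ ⊓ FunFld.L (DZ - Finsupp.single Q ((m : ℤ) + 1))) = r - i →
      ∃ s : KY, s ∈ VY ∧ s ≠ 0 ∧
        FunFld.div k s = Finsupp.single P' (m : ℤ) + Finsupp.single P ((d : ℤ) - m) - DY := by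
    intro i hi m h1 h4
    have hmd : m ≤ d := by
      by_contra hlt
      push Not at hlt
      have h0 : FunFld.L (DY - Finsupp.single P' (m : ℤ)) = ⊥ :=
        L_single_neg_eq_bot hKY d DY hDY P' _ (by exact_mod_cast hlt)
      rw [h0, inf_bot_eq, finrank_bot] at h1
      omega
    have c2 := hcomp (d - m) (by omega)
    have e2 : (d : ℤ) + 1 - ((d - m : ℕ) : ℤ) = (m : ℤ) + 1 := by omega
    have e3 : ((d - m : ℕ) : ℤ) = (d : ℤ) - m := by omega
    rw [e2, h4, e3] at c2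
    exact exists_section' hKY d DY hDY VY hP'P (m : ℤ) ((d : ℤ) - m) (by ring)
      (by rw [hVYr]; omega)
  have supp : ∀ (s : KY) (m : ℕ),
      FunFld.div k s = Finsupp.single P' (m : ℤ) + Finsupp.single P ((d : ℤ) - m) - DY →
      ∀ R : FunFld.Place k KY, R ≠ P' → R ≠ P → (FunFld.div k s + DY) R = 0 := by
    intro s m hs R hR1 hR2
    rw [hs, Finsupp.add_apply, Finsupp.sub_apply, Finsupp.add_apply, Finsupp.single_apply,
      Finsupp.single_apply, if_neg (Ne.symm hR1), if_neg (Ne.symm hR2)]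
    ring
  intro i₁ hi₁ i₂ hi₂
  obtain ⟨h1r, m₁, a1, a2, a3, a4⟩ := hi₁
  obtain ⟨h2r, m₂, b1, b2, b3, b4⟩ := hi₂
  obtain ⟨s₁, hs₁V, hs₁0, hs₁⟩ := key i₁ h1r m₁ a1 a4
  obtain ⟨s₂, hs₂V, hs₂0, hs₂⟩ := key i₂ h2r m₂ b1 b4
  obtain ⟨c, hc⟩ := unique_member hKY hg0 d r DY hDY VY hVY hVYr QY hcusp P' P hP'Q hP s₁ s₂
    hs₁V hs₂V hs₁0 hs₂0 (supp s₁ m₁ hs₁) (supp s₂ m₂ hs₂)
  have hc0 : c ≠ 0 := by
    rintro rfl
    rw [zero_smul] at hc
    exact hs₂0 hc
  have hdiveq : FunFld.div k s₂ = FunFld.div k s₁ := by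
    have h0 : FunFld.div k (algebraMap k KY c) = 0 := by
      ext R
      rw [div_apply hKY, ord_algebraMap, Finsupp.zero_apply]
    rw [hc, Algebra.smul_def, Groth.Agent.Lib.lead.FF11.div_mul hKY ((map_ne_zero _).2 hc0) hs₁0, h0, zero_add]
  have h0 : ∀ x : ℤ, (Finsupp.single P x : FunFld.Divisor k KY) P' = 0 := fun x => by
    rw [Finsupp.single_apply, if_neg (Ne.symm hP'P)]
  have hm : (m₁ : ℤ) = m₂ := by
    have h : FunFld.div k s₂ P' = FunFld.div k s₁ P' := by rw [hdiveq]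
    rw [hs₁, hs₂] at h
    simp only [Finsupp.sub_apply, Finsupp.add_apply, Finsupp.single_eq_same, h0] at h
    omega
  have hm' : m₁ = m₂ := by exact_mod_cast hm
  subst hm'
  rw [a1] at b1
  omega

end Groth.Agent.S19710
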