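import Groth.Statements.S19711
import Mathlib

set_option autoImplicit false
universe u
open CategoryTheory
open Coh

namespace Groth.Agent.S19711

theorem key_lemma {A : Type u} [CommRing A] [IsDomain A] {N M : Type u} [AddCommGroup N]
    [Module A N] [AddCommGroup M] [Module A M] [Module.Finite A M] (j : N →ₗ[A] M)
    (hj : Function.Injective j) :
    ∃ g : A, g ≠ 0 ∧ ∀ (u : Ideal A) (x : N), j x ∈ u • (⊤ : Submodule A M) →
      g • x ∈ u • (⊤ : Submodule A N) := by
  classical
  obtain ⟨n, s, hs⟩ := Module.Finite.exists_fin (R := A) (M := M ⧸ LinearMap.range j)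
  obtain ⟨I, hI, hImax⟩ := exists_maximal_linearIndepOn A s
  have hex : ∀ i : Fin n, ∃ a : A, a ≠ 0 ∧
      a • s i ∈ Submodule.span A (Set.range (fun i : I => s i)) := by
    intro i
    by_cases hi : i ∈ I
    · refine ⟨1, one_ne_zero, ?_⟩
      rw [one_smul]
      exact Submodule.subset_span ⟨⟨i, hi⟩, rfl⟩
    · obtain ⟨a, ha, hmem⟩ := hImax i hi
      refine ⟨a, ha, ?_⟩
      rwa [Set.image_eq_range] at hmem
  choose a ha0 ha using hex
  obtain ⟨g, hgdef⟩ : ∃ g : A, g = ∏ i, a i := ⟨_, rfl⟩
  have hg0 : g ≠ 0 := by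
    rw [hgdef]
    exact Finset.prod_ne_zero_iff.mpr (fun i _ => ha0 i)
  obtain ⟨W, hWdef⟩ : ∃ W : Submodule A (M ⧸ LinearMap.range j),
      W = Submodule.span A (Set.range (fun i : I => s i)) := ⟨_, rfl⟩
  have hgs : ∀ i, g • s i ∈ W := by
    intro i
    have e : g = (∏ k ∈ Finset.univ.erase i, a k) * a i := by
      rw [hgdef, Finset.prod_erase_mul _ _ (Finset.mem_univ i)]
    rw [e, mul_smul, hWdef]
    exact Submodule.smul_mem _ _ (ha i)
  have hgW : ∀ q : M ⧸ LinearMap.range j, g • q ∈ W := by
    intro q
    have hq : q ∈ Submodule.span A (Set.range s) := by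
      rw [hs]
      trivial
    induction hq using Submodule.span_induction with
    | mem x hx =>
      obtain ⟨i, rfl⟩ := hx
      exact hgs i
    | zero =>
      rw [smul_zero]
      exact W.zero_mem
    | add x y _ _ hx hy =>
      rw [smul_add]
      exact W.add_mem hx hy
    | smul c x _ hx =>
      rw [smul_comm]
      exact W.smul_mem c hx
  have hli : LinearIndependent A (fun i : I => s i) := hI
  haveI : Module.Free A W := by
    rw [hWdef]
    exact Module.Free.of_basis (Module.Basis.span hli)
  obtain ⟨σ, hσ⟩ := Module.projective_lifting_property (LinearMap.range j).mkQ W.subtype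
    (Submodule.mkQ_surjective _)
  obtain ⟨c, hc⟩ : ∃ c : M →ₗ[A] W, ∀ m, (c m : M ⧸ LinearMap.range j) =
      g • (LinearMap.range j).mkQ m :=
    ⟨LinearMap.codRestrict W (g • (LinearMap.range j).mkQ) (fun m => hgW _), fun m => rfl⟩
  obtain ⟨τ, hτ⟩ : ∃ τ : M →ₗ[A] M, ∀ m, τ m = g • m - σ (c m) :=
    ⟨g • LinearMap.id - σ ∘ₗ c, fun m => rfl⟩
  have hσ' : ∀ w : W, (LinearMap.range j).mkQ (σ w) = (w : M ⧸ LinearMap.range j) := by
    intro w
    exact congrArg (fun φ => φ w) hσ
  have hτrange : ∀ m, τ m ∈ LinearMap.range j := by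
    intro m
    rw [← Submodule.ker_mkQ (LinearMap.range j), LinearMap.mem_ker, hτ, map_sub, map_smul,
      hσ', hc, sub_self]
  refine ⟨g, hg0, fun u x hx => ?_⟩
  have h1 : τ (j x) ∈ Submodule.map j (u • (⊤ : Submodule A N)) := by
    have h2 : τ (j x) ∈ Submodule.map τ (u • (⊤ : Submodule A M)) :=
      Submodule.mem_map_of_mem hx
    rw [Submodule.map_smul''] at h2
    rw [Submodule.map_smul'']
    refine Submodule.smul_mono le_rfl ?_ h2
    rintro _ ⟨m, _, rfl⟩
    obtain ⟨n', hn'⟩ := hτrange m
    exact ⟨n', trivial, hn'⟩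
  have h3 : τ (j x) = j (g • x) := by
    have hc0 : c (j x) = 0 := by
      have hq0 : (LinearMap.range j).mkQ (j x) = 0 := by
        rw [Submodule.mkQ_apply, Submodule.Quotient.mk_eq_zero]
        exact ⟨x, rfl⟩
      apply Subtype.ext
      rw [hc, hq0, smul_zero]
      rfl
    rw [hτ, hc0, map_zero, sub_zero, map_smul]
  rw [h3] at h1
  obtain ⟨y, hy, hyx⟩ := h1
  rw [← hj hyx]
  exact hy

/-- Let A be a Noetherian integral domain and F an A-linear additive functor from A-modules to A-modules
with F(A) a finitely generated A-module. Call such a functor generically injective when there is a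
dense open subset U of Spec A such that for every point u of U whose residue field κ(u) is a
finitely generated A-algebra the comparison map F(A) ⊗_A κ(u) → F(κ(u)) is injective; since F is
A-linear this injectivity says: every m in F(A) whose image under F(A → κ(u)) vanishes satisfies s·m
∈ u·F(A) for some s outside u. If F is generically injective then so is every A-linear additive
subfunctor K ⊆ F (a natural transformation K → F with injective components). (The published
statement is over a reduced Noetherian affine scheme, for additive functors on quasi-coherent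
sheaves with values in abelian groups and the induced A-action, assumes F weakly bounded (F(A/p)
finitely generated for every prime ideal p) and also records that K is again weakly bounded; only
the finite generation of F(A), which its argument uses, is assumed here, and the integral case with
A-linear functors stated here is the one its argument by generic flatness treats.) -/
theorem result {A : Type u} [CommRing A] [IsNoetherianRing A] [IsDomain A]
    (F K : ModuleCat.{u} A ⥤ ModuleCat.{u} A) [F.Additive] [F.Linear A] [K.Additive] [K.Linear A]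
    (ι : K ⟶ F) (hι : ∀ X : ModuleCat.{u} A, Function.Injective (ι.app X).hom)
    (hfin : Module.Finite A (F.obj (ModuleCat.of A A)))
    (hGI : ∃ U : Set (PrimeSpectrum A), IsOpen U ∧ Dense U ∧ ∀ u ∈ U, Algebra.FiniteType A u.asIdeal.ResidueField →
        ∀ m : F.obj (ModuleCat.of A A),
          (F.map (ModuleCat.ofHom (Algebra.linearMap A u.asIdeal.ResidueField))).hom m = 0 →
            ∃ s ∉ u.asIdeal, s • m ∈ u.asIdeal • (⊤ : Submodule A (F.obj (ModuleCat.of A A)))) :
    ∃ U : Set (PrimeSpectrum A), IsOpen U ∧ Dense U ∧ ∀ u ∈ U, Algebra.FiniteType A u.asIdeal.ResidueField →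
        ∀ m : K.obj (ModuleCat.of A A),
          (K.map (ModuleCat.ofHom (Algebra.linearMap A u.asIdeal.ResidueField))).hom m = 0 →
            ∃ s ∉ u.asIdeal, s • m ∈ u.asIdeal • (⊤ : Submodule A (K.obj (ModuleCat.of A A))) := by
  classical
  obtain ⟨U, hUo, hUd, hU⟩ := hGI
  obtain ⟨j, hj⟩ : ∃ j : (K.obj (ModuleCat.of A A)) →ₗ[A] (F.obj (ModuleCat.of A A)),
      j = (ι.app (ModuleCat.of A A)).hom := ⟨_, rfl⟩
  have hjinj : Function.Injective j := by
    rw [hj]
    exact hι _
  haveI := hfin
  obtain ⟨g, hg0, hclaim⟩ := key_lemma j hjinj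
  refine ⟨U ∩ (PrimeSpectrum.basicOpen g : Set (PrimeSpectrum A)),
    hUo.inter (PrimeSpectrum.basicOpen g).isOpen, ?_, ?_⟩
  · apply hUd.inter_of_isOpen_left _ hUo
    apply (PrimeSpectrum.basicOpen g).isOpen.dense
    refine ⟨⟨⊥, Ideal.isPrime_bot⟩, ?_⟩
    show g ∉ (⊥ : Ideal A)
    rw [Ideal.mem_bot]
    exact hg0
  · rintro u ⟨huU, hug⟩ hft m hm
    have hnat := ι.naturality (ModuleCat.ofHom (Algebra.linearMap A u.asIdeal.ResidueField))
    have h1 : (F.map (ModuleCat.ofHom (Algebra.linearMap A u.asIdeal.ResidueField))).hom (j m)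
        = 0 := by
      have h2 := congrArg (fun φ => φ.hom m) hnat
      simp only [ModuleCat.hom_comp, LinearMap.comp_apply] at h2
      rw [hj, ← h2, hm, map_zero]
    obtain ⟨s, hs, hsm⟩ := hU u huU hft (j m) h1
    refine ⟨g * s, ?_, ?_⟩
    · intro hmem
      rcases u.2.mem_or_mem hmem with h | h
      · exact hug h
      · exact hs h
    · rw [mul_smul]
      apply hclaim u.asIdeal (s • m)
      rw [map_smul]
      exact hsm

end Groth.Agent.S19711
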