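import Groth.Statements.S19799
import Mathlib
import Groth.Agent.Lib.helper9.BasisCoord

set_option autoImplicit false
universe u v w
open scoped TensorProduct
open CAlg

namespace Groth.Agent.S19799

theorem sep {k : Type*} [Field k] [IsAlgClosed k] {C : Type*} [CommRing C] [Algebra k C]
    [Module.Finite k C] (c : C) (h : ∀ χ : C →ₐ[k] k, χ c = 0) : c ∈ nilradical C := by
  rw [nilradical_eq_sInf, Ideal.mem_sInf]
  intro P hP
  haveI : P.IsPrime := hP
  haveI : Module.Finite k (C ⧸ P) := Module.Finite.of_surjective (Ideal.Quotient.mkₐ k P).toLinearMap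
    (Ideal.Quotient.mkₐ_surjective k P)
  haveI : Algebra.IsIntegral k (C ⧸ P) := Algebra.IsIntegral.of_finite k (C ⧸ P)
  have hbij := IsAlgClosed.algebraMap_bijective_of_isIntegral (k := k) (K := C ⧸ P)
  obtain ⟨e, he⟩ : ∃ e : k ≃ₐ[k] (C ⧸ P), True := ⟨AlgEquiv.ofBijective (Algebra.ofId k (C ⧸ P)) hbij, trivial⟩
  have h3 : e.symm (Ideal.Quotient.mk P c) = 0 :=
    h ((e.symm : (C ⧸ P) →ₐ[k] k).comp (Ideal.Quotient.mkₐ k P))
  have h2 : Ideal.Quotient.mk P c = 0 := by
    have h4 := congrArg e h3
    rwa [AlgEquiv.apply_symm_apply, map_zero] at h4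
  exact Ideal.Quotient.eq_zero_iff_mem.mp h2

/-- Let k be an algebraically closed field and A, B commutative k-algebras, each finite-dimensional as a
k-vector space. Then reduction commutes with tensor products: the kernel of the canonical surjection
A ⊗_k B ⟶ (A/nilradical A) ⊗_k (B/nilradical B) equals the nilradical of A ⊗_k B, so that this
surjection induces an isomorphism (A ⊗_k B)_red ≅ A_red ⊗_k B_red and in particular A_red ⊗_k B_red
is reduced. -/
theorem result (k : Type u) [Field k]
    [IsAlgClosed k] (A : Type v) [CommRing A] [Algebra k A] [Module.Finite k A]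
    (B : Type w) [CommRing B] [Algebra k B] [Module.Finite k B] :
    RingHom.ker (Algebra.TensorProduct.map (Ideal.Quotient.mkₐ k (nilradical A))
      (Ideal.Quotient.mkₐ k (nilradical B))).toRingHom = nilradical (A ⊗[k] B) := by
  haveI : IsReduced (A ⧸ nilradical A) :=
    (Ideal.isRadical_iff_quotient_reduced (nilradical A)).mp (Ideal.radical_isRadical ⊥)
  haveI : IsReduced (B ⧸ nilradical B) :=
    (Ideal.isRadical_iff_quotient_reduced (nilradical B)).mp (Ideal.radical_isRadical ⊥)
  haveI : Module.Finite k (A ⧸ nilradical A) :=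
    Module.Finite.of_surjective (Ideal.Quotient.mkₐ k (nilradical A)).toLinearMap
      (Ideal.Quotient.mkₐ_surjective k _)
  haveI : Module.Finite k (B ⧸ nilradical B) :=
    Module.Finite.of_surjective (Ideal.Quotient.mkₐ k (nilradical B)).toLinearMap
      (Ideal.Quotient.mkₐ_surjective k _)
  apply le_antisymm
  · intro z hz
    have hz' : z ∈ RingHom.ker (Algebra.TensorProduct.map (Ideal.Quotient.mkₐ k (nilradical A))
        (Ideal.Quotient.mkₐ k (nilradical B))) := hz
    rw [Algebra.TensorProduct.map_ker _ _ (Ideal.Quotient.mkₐ_surjective k _)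
      (Ideal.Quotient.mkₐ_surjective k _)] at hz'
    refine (sup_le ?_ ?_ : _ ≤ nilradical (A ⊗[k] B)) hz'
    · rw [Ideal.map_le_iff_le_comap]
      intro a ha
      rw [RingHom.mem_ker, Ideal.Quotient.mkₐ_eq_mk, Ideal.Quotient.eq_zero_iff_mem] at ha
      rw [Ideal.mem_comap, mem_nilradical]
      exact (mem_nilradical.mp ha).map _
    · rw [Ideal.map_le_iff_le_comap]
      intro a ha
      rw [RingHom.mem_ker, Ideal.Quotient.mkₐ_eq_mk, Ideal.Quotient.eq_zero_iff_mem] at ha
      rw [Ideal.mem_comap, mem_nilradical]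
      exact (mem_nilradical.mp ha).map _
  · intro z hz
    rw [mem_nilradical] at hz
    rw [RingHom.mem_ker]
    obtain ⟨w, hw⟩ : ∃ w, w = (Algebra.TensorProduct.map (Ideal.Quotient.mkₐ k (nilradical A))
      (Ideal.Quotient.mkₐ k (nilradical B))) z := ⟨_, rfl⟩
    have hwn : IsNilpotent w := by rw [hw]; exact hz.map _
    show (Algebra.TensorProduct.map (Ideal.Quotient.mkₐ k (nilradical A))
      (Ideal.Quotient.mkₐ k (nilradical B))) z = 0
    rw [← hw]
    apply H9BC.eq_zero_of_cf
    intro β
    have hmem : H9BC.cf (B ⧸ nilradical B) β w ∈ nilradical (B ⧸ nilradical B) := by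
      apply sep (k := k)
      intro ψ
      -- (id ⊗ ψ) w is nilpotent in A' ⊗ k ≅ A', hence zero
      have h1 : IsNilpotent ((Algebra.TensorProduct.rid k k (A ⧸ nilradical A))
          ((Algebra.TensorProduct.map (AlgHom.id k (A ⧸ nilradical A)) ψ) w)) :=
        (hwn.map _).map _
      have h2 : (Algebra.TensorProduct.map (AlgHom.id k (A ⧸ nilradical A)) ψ) w = 0 := by
        have h3 := h1.eq_zero
        exact (map_eq_zero_iff _ (Algebra.TensorProduct.rid k k (A ⧸ nilradical A)).injective).mp h3
      have h4 : ∀ y : (A ⧸ nilradical A) ⊗[k] (B ⧸ nilradical B),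
          (Algebra.TensorProduct.map (AlgHom.id k (A ⧸ nilradical A)) ψ) y
            = ψ.toLinearMap.lTensor (A ⧸ nilradical A) y := by
        intro y
        induction y using TensorProduct.induction_on with
        | zero => simp
        | tmul a b => rfl
        | add a b ha hb => rw [map_add, map_add, ha, hb]
      have h5 := H9BC.cf_map ψ.toLinearMap β w
      rw [← h4, h2, map_zero] at h5
      exact h5.symm
    exact (mem_nilradical.mp hmem).eq_zero

end Groth.Agent.S19799
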