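import Groth.Statements.S19804
import Mathlib

set_option autoImplicit false
open scoped TensorProduct
universe u v w
open Brauer

namespace Groth.Agent.S19804

/-- Let R be a commutative ring with Spec R connected, A an Azumaya R-algebra and e an idempotent
element of A. If for some nonzero commutative R-algebra R' the element 1 ⊗ e of R' ⊗_R A is 0, then
e = 0; and if 1 ⊗ e = 1 in R' ⊗_R A, then e = 1. (The published statement is for an Azumaya algebra
over a connected scheme S and base change to an arbitrary nonempty S-scheme T; this row takes S and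
T affine.) -/
theorem result {R : Type u} [CommRing R]
    [ConnectedSpace (PrimeSpectrum R)] {A : Type v} [Ring A] [Algebra R A] [IsAzumaya R A]
    (e : A) (he : IsIdempotentElem e) (R' : Type w) [CommRing R'] [Nontrivial R'] [Algebra R R'] :
    ((1 : R') ⊗ₜ[R] e = (0 : R' ⊗[R] A) → e = 0) ∧ ((1 : R') ⊗ₜ[R] e = (1 : R' ⊗[R] A) → e = 1) := by
  have main : ∀ e : A, IsIdempotentElem e → (1 : R') ⊗ₜ[R] e = (0 : R' ⊗[R] A) → e = 0 := by
    intro e he h0
    let π : A →ₗ[R] A := LinearMap.mulLeft R e
    let M : Submodule R A := LinearMap.range π
    let s : A →ₗ[R] M := π.rangeRestrict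
    have hs : s ∘ₗ M.subtype = LinearMap.id := by
      ext ⟨m, a, rfl⟩
      simp [s, π, ← mul_assoc, he.eq]
    have : Module.Projective R M := Module.Projective.of_split M.subtype s hs
    have : Module.Finite R M := Module.Finite.range π
    have : Module.FinitePresentation R M := Module.finitePresentation_of_projective R M
    have hsub : Subsingleton (R' ⊗[R] M) := by
      have hinj : Function.Injective (LinearMap.lTensor R' M.subtype) := by
        apply Function.LeftInverse.injective (g := LinearMap.lTensor R' s)
        intro z
        rw [← LinearMap.comp_apply, ← LinearMap.lTensor_comp, hs, LinearMap.lTensor_id]; rfl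
      have hzero : LinearMap.lTensor R' M.subtype = 0 := by
        have h1 : M.subtype = π ∘ₗ M.subtype := by
          ext ⟨m, a, rfl⟩; simp [π, ← mul_assoc, he.eq]
        have h2 : LinearMap.lTensor R' π = 0 := by
          apply TensorProduct.ext'
          intro r a
          have : r ⊗ₜ[R] (e * a) = ((1 : R') ⊗ₜ[R] e) * (r ⊗ₜ[R] a) := by simp
          simp [π, this, h0]
        rw [h1, LinearMap.lTensor_comp, h2, LinearMap.zero_comp]
      constructor; intro x y; apply hinj; simp [hzero]
    have hrank0 : ∀ q : PrimeSpectrum R, Module.rankAtStalk (R := R) M q = 0 := by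
      obtain ⟨p⟩ := (inferInstance : Nonempty (PrimeSpectrum R'))
      have h1 : Module.rankAtStalk (R := R) M (p.comap (algebraMap R R')) = 0 := by
        rw [← Module.rankAtStalk_baseChange]
        simp [Module.rankAtStalk_eq_zero_of_subsingleton]
      intro q
      have hlc := Module.isLocallyConstant_rankAtStalk (R := R) (M := M)
      rw [← h1]
      exact hlc.apply_eq_of_preconnectedSpace q _
    have : Subsingleton M := Module.rankAtStalk_eq_zero_iff_subsingleton.1 (funext hrank0)
    have hem : (⟨e, ⟨1, by simp [π]⟩⟩ : M) = 0 := Subsingleton.elim _ _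
    exact congrArg Subtype.val hem
  refine ⟨main e he, fun h1 => ?_⟩
  have : (1 : R') ⊗ₜ[R] (1 - e) = (0 : R' ⊗[R] A) := by
    rw [TensorProduct.tmul_sub, h1]; simp [Algebra.TensorProduct.one_def]
  have := main (1 - e) he.one_sub this
  exact (sub_eq_zero.1 this).symm

end Groth.Agent.S19804
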