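import Groth.Statements.S19856
import Mathlib

set_option autoImplicit false
universe u v
open CAlg

namespace Groth.Agent.S19856

/-- Ring-level form: let O be a discrete valuation ring and G a finite group acting faithfully on O by
ring automorphisms, such that every element of G acts trivially on the residue field of O (that is,
g • a - a lies in the maximal ideal for all a) and such that the order of G is nonzero in the
residue field of O. Then G is cyclic. (The source states this for a finite group of order invertible
in an algebraically closed field k acting faithfully on a smooth connected k-variety and the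
subgroup of elements fixing pointwise a codimension-one irreducible component of the ramification
locus, applied to the local ring at the generic point of that component; it is stated here for an
arbitrary discrete valuation ring with a faithful action. The source also shows that this subgroup
is nontrivial; that geometric part is not stated.) -/
theorem result
    (O : Type u) [CommRing O] [IsDomain O] [IsDiscreteValuationRing O]
    (G : Type v) [Group G] [Finite G] [MulSemiringAction G O] [FaithfulSMul G O]
    (htriv : ∀ (g : G) (a : O), g • a - a ∈ IsLocalRing.maximalIdeal O)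
    (hcard : ((Nat.card G : ℕ) : IsLocalRing.ResidueField O) ≠ 0) :
    IsCyclic G := by
  classical
  obtain ⟨π, hπ⟩ := IsDiscreteValuationRing.exists_irreducible O
  have hm : IsLocalRing.maximalIdeal O = Ideal.span {π} := hπ.maximalIdeal_eq
  have hπ0 : π ≠ 0 := hπ.ne_zero
  have hπm : π ∈ IsLocalRing.maximalIdeal O := by
    rw [hm]
    exact Ideal.mem_span_singleton_self π
  have hgm : ∀ (g : G) (x : O), x ∈ IsLocalRing.maximalIdeal O →
      g • x ∈ IsLocalRing.maximalIdeal O := by
    intro g x hx
    have h := Ideal.add_mem _ (htriv g x) hx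
    rwa [sub_add_cancel] at h
  have F3 : ∀ (g : G), g • π - π ∈ IsLocalRing.maximalIdeal O ^ 2 → ∀ (i : ℕ) (x : O),
      x ∈ IsLocalRing.maximalIdeal O ^ i → g • x - x ∈ IsLocalRing.maximalIdeal O ^ (i + 1) := by
    intro g hg i x hx
    have hx' := hx
    rw [hm, Ideal.span_singleton_pow, Ideal.mem_span_singleton] at hx'
    obtain ⟨w, rfl⟩ := hx'
    have e : g • (π ^ i * w) - π ^ i * w =
        (g • π) ^ i * (g • w - w) + ((g • π) ^ i - π ^ i) * w := by
      rw [smul_mul', smul_pow']
      ring
    rw [e]
    refine Ideal.add_mem _ ?_ (Ideal.mul_mem_right _ _ ?_)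
    · rw [pow_succ]
      exact Ideal.mul_mem_mul (Ideal.pow_mem_pow (hgm g π hπm) i) (htriv g w)
    · rcases Nat.eq_zero_or_pos i with rfl | hi
      · simp
      · have hsum : (g • π) ^ i - π ^ i =
            (∑ j ∈ Finset.range i, (g • π) ^ j * π ^ (i - 1 - j)) * (g • π - π) :=
          (geom_sum₂_mul (g • π) π i).symm
        rw [hsum]
        have hS : (∑ j ∈ Finset.range i, (g • π) ^ j * π ^ (i - 1 - j)) ∈
            IsLocalRing.maximalIdeal O ^ (i - 1) := by
          refine Ideal.sum_mem _ (fun j hj => ?_)
          have hj' : j + (i - 1 - j) = i - 1 := by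
            have := Finset.mem_range.mp hj
            omega
          have e3 : IsLocalRing.maximalIdeal O ^ (i - 1) =
              IsLocalRing.maximalIdeal O ^ j * IsLocalRing.maximalIdeal O ^ (i - 1 - j) := by
            rw [← pow_add, hj']
          rw [e3]
          exact Ideal.mul_mem_mul (Ideal.pow_mem_pow (hgm g π hπm) j) (Ideal.pow_mem_pow hπm _)
        have e2 : i + 1 = (i - 1) + 2 := by omega
        rw [e2, pow_add]
        exact Ideal.mul_mem_mul hS hg
  -- the units u g
  have hu : ∀ g : G, ∃ w : O, g • π = π * w := by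
    intro g
    have h := hgm g π hπm
    rw [hm, Ideal.mem_span_singleton] at h
    exact h
  choose w hw using hu
  have hw1 : w 1 = 1 := by
    have h := hw 1
    rw [one_smul] at h
    have h' : π * w 1 = π * 1 := by rw [← h, mul_one]
    exact mul_left_cancel₀ hπ0 h'
  have hwmul : ∀ g h : G, w (g * h) = w g * g • w h := by
    intro g h
    have h1 : (g * h) • π = π * (w g * g • w h) := by
      rw [mul_smul, hw h, smul_mul', hw g]
      ring
    have h2 : π * w (g * h) = π * (w g * g • w h) := by rw [← hw (g * h), h1]
    exact mul_left_cancel₀ hπ0 h2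
  have hres : ∀ (g : G) (a : O), IsLocalRing.residue O (g • a) = IsLocalRing.residue O a := by
    intro g a
    have h := (IsLocalRing.residue_eq_zero_iff _).mpr (htriv g a)
    rw [map_sub, sub_eq_zero] at h
    exact h
  obtain ⟨θ, hθ⟩ : ∃ θ : G →* IsLocalRing.ResidueField O,
      ∀ g, θ g = IsLocalRing.residue O (w g) :=
    ⟨{ toFun := fun g => IsLocalRing.residue O (w g)
       map_one' := by rw [hw1, map_one]
       map_mul' := fun g h => by rw [hwmul, map_mul, hres] }, fun _ => rfl⟩
  -- θ g = 1 implies the F3 hypothesis
  have hθ2 : ∀ g : G, θ g = 1 → g • π - π ∈ IsLocalRing.maximalIdeal O ^ 2 := by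
    intro g hg
    have h1 : w g - 1 ∈ IsLocalRing.maximalIdeal O := by
      rw [← IsLocalRing.residue_eq_zero_iff, map_sub, map_one, ← hθ, hg, sub_self]
    have e : g • π - π = π * (w g - 1) := by
      rw [hw g]
      ring
    rw [e, pow_two]
    exact Ideal.mul_mem_mul hπm h1
  have hnu : IsUnit ((Nat.card G : ℕ) : O) := by
    rw [← IsLocalRing.notMem_maximalIdeal]
    intro h
    apply hcard
    rw [← map_natCast (IsLocalRing.residue O)]
    exact (IsLocalRing.residue_eq_zero_iff _).mpr h
  have htel : ∀ (g : G) (N : ℕ) (a : O),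
      g ^ N • a - a = ∑ j ∈ Finset.range N, g ^ j • (g • a - a) := by
    intro g N a
    induction N with
    | zero => simp
    | succ N ih =>
      rw [Finset.sum_range_succ, ← ih, pow_succ, mul_smul, smul_sub]
      ring
  have hker : ∀ g : G, θ g = 1 → g = 1 := by
    intro g hg
    by_contra hne
    have hex1 : ∃ a : O, g • a ≠ a := by
      by_contra h
      push_neg at h
      exact hne (FaithfulSMul.eq_of_smul_eq_smul (α := O) (fun a => by rw [h a, one_smul]))
    obtain ⟨a₁, ha₁⟩ := hex1
    have hD1 : g • a₁ - a₁ ≠ 0 := sub_ne_zero.mpr ha₁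
    have hex : ∃ j : ℕ, ∃ a : O, g • a - a ∉ IsLocalRing.maximalIdeal O ^ j := by
      by_contra h
      push_neg at h
      apply hD1
      have hbot := Ideal.iInf_pow_eq_bot_of_isLocalRing (IsLocalRing.maximalIdeal O)
        (Ideal.IsPrime.ne_top inferInstance)
      have hmem : g • a₁ - a₁ ∈ ⨅ i : ℕ, IsLocalRing.maximalIdeal O ^ i := by
        rw [Ideal.mem_iInf]
        intro i
        exact h i a₁
      rw [hbot] at hmem
      exact hmem
    obtain ⟨a₀, ha₀⟩ := Nat.find_spec hex
    have hj0 : Nat.find hex ≠ 0 := by
      intro h0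
      rw [h0, pow_zero, Ideal.one_eq_top] at ha₀
      exact ha₀ trivial
    obtain ⟨i, hi⟩ : ∃ i, Nat.find hex = i + 1 := ⟨Nat.find hex - 1, by omega⟩
    have hmin : ∀ a : O, g • a - a ∈ IsLocalRing.maximalIdeal O ^ i := by
      intro a
      by_contra h
      exact Nat.find_min hex (m := i) (by omega) ⟨a, h⟩
    have hgn : g ^ Nat.card G = 1 := pow_card_eq_one'
    have hθpow : ∀ j : ℕ, θ (g ^ j) = 1 := fun j => by rw [map_pow, hg, one_pow]
    have hsum0 : ∑ j ∈ Finset.range (Nat.card G), g ^ j • (g • a₀ - a₀) = 0 := by
      rw [← htel, hgn, one_smul, sub_self]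
    have hsum1 : ∑ j ∈ Finset.range (Nat.card G), (g ^ j • (g • a₀ - a₀) - (g • a₀ - a₀)) ∈
        IsLocalRing.maximalIdeal O ^ (i + 1) :=
      Ideal.sum_mem _ (fun j _ => F3 (g ^ j) (hθ2 _ (hθpow j)) i _ (hmin a₀))
    rw [Finset.sum_sub_distrib, hsum0, Finset.sum_const, Finset.card_range, nsmul_eq_mul,
      zero_sub, neg_mem_iff, Ideal.unit_mul_mem_iff_mem _ hnu] at hsum1
    rw [hi] at ha₀
    exact ha₀ hsum1
  have hinj : Function.Injective θ := by
    intro g h hgh
    have h1 : θ (g⁻¹ * h) = 1 := by
      rw [map_mul, ← hgh, ← map_mul, inv_mul_cancel, map_one]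
    have h2 := hker _ h1
    rw [inv_mul_eq_one] at h2
    exact h2
  exact isCyclic_of_injective_ringHom θ hinj

end Groth.Agent.S19856
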