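import Groth.Statements.S19890
import Mathlib
import Groth.Agent.S17722

set_option autoImplicit false
universe u
open CAlg

namespace Groth.Agent.S19890

/-- Let R → R' be a faithfully flat ring map between Noetherian integrally closed local domains. Then
unique factorization descends along this map: when R' is a UFD, so is R. (The first assertion of the
lemma, descent of principality for an ideal whose extension to R' is principal, is a separate
statement.) -/
theorem result
    (R R' : Type u) [CommRing R] [CommRing R'] [IsDomain R] [IsDomain R']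
    [IsNoetherianRing R] [IsNoetherianRing R'] [IsLocalRing R] [IsLocalRing R']
    [IsIntegrallyClosed R] [IsIntegrallyClosed R']
    [Algebra R R'] [Module.FaithfullyFlat R R'] [UniqueFactorizationMonoid R'] :
    UniqueFactorizationMonoid R := by
  classical
  rw [UniqueFactorizationMonoid.iff_exists_prime_mem_of_isPrime]
  intro P hP0 hPprime
  obtain ⟨a, haP, ha0⟩ := Submodule.exists_mem_ne_zero_of_ne_bot hP0
  obtain ⟨p, hpmin, hpP⟩ := Ideal.exists_minimalPrimes_le (I := Ideal.span {a}) (J := P)
    (by rw [Ideal.span_singleton_le_iff_mem]; exact haP)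
  have hpass : p ∈ associatedPrimes R (R ⧸ Ideal.span {a}) := by
    apply Module.associatedPrimes.minimalPrimes_annihilator_subset_associatedPrimes R
      (R ⧸ Ideal.span {a})
    rw [Ideal.annihilator_quotient]
    exact hpmin
  obtain ⟨hpprime, cbar, hpc⟩ := isAssociatedPrime_iff.mp hpass
  obtain ⟨c, rfl⟩ := Ideal.Quotient.mk_surjective cbar
  haveI := hpprime
  have hsm : ∀ r c' : R, r • (Ideal.Quotient.mk (Ideal.span {a}) c') =
      Ideal.Quotient.mk (Ideal.span {a}) (r * c') := fun r c' => rfl
  have hpdef : ∀ r, r ∈ p ↔ ∃ t, r * c = t * a := by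
    intro r
    rw [hpc, Submodule.mem_colon_singleton, Submodule.mem_bot, hsm,
      Ideal.Quotient.eq_zero_iff_mem, Ideal.mem_span_singleton']
    constructor <;> rintro ⟨t, ht⟩ <;> exact ⟨t, ht.symm⟩
  have hap : a ∈ p := hpmin.1.2 (Ideal.mem_span_singleton_self a)
  set φ := algebraMap R R' with hφ
  letI : GCDMonoid R' := UniqueFactorizationMonoid.toGCDMonoid R'
  obtain ⟨a', c', ha', hc', hunit⟩ := extract_gcd (φ a) (φ c)
  set d := gcd (φ a) (φ c) with hd
  have hφinj : Function.Injective φ := FaithfulSMul.algebraMap_injective R R'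
  have hφa : φ a ≠ 0 := by rw [Ne, map_eq_zero_iff φ hφinj]; exact ha0
  have hd0 : d ≠ 0 := by
    intro h
    rw [h, zero_mul] at ha'
    exact hφa ha'
  have hmap : p.map φ = Ideal.span {a'} := by
    apply le_antisymm
    · rw [Ideal.map_le_iff_le_comap]
      intro r hr
      obtain ⟨t, ht⟩ := (hpdef r).mp hr
      rw [Ideal.mem_comap, Ideal.mem_span_singleton]
      have h1 : φ r * φ c = φ t * φ a := by rw [← map_mul, ← map_mul, ht]
      rw [ha', hc'] at h1
      have h2 : φ r * c' = φ t * a' := by
        apply mul_left_cancel₀ hd0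
        calc d * (φ r * c') = φ r * (d * c') := by ring
          _ = φ t * (d * a') := h1
          _ = d * (φ t * a') := by ring
      have h3 : a' ∣ c' * φ r := ⟨φ t, by rw [mul_comm c', h2]; ring⟩
      have h4 := dvd_gcd_mul_of_dvd_mul h3
      exact (hunit.dvd_mul_left).mp h4
    · rw [Ideal.span_singleton_le_iff_mem]
      have hrel : ∑ i : Fin 2, ![c, -a] i • ![a', c'] i = 0 := by
        rw [Fin.sum_univ_two]
        simp only [Matrix.cons_val_zero, Matrix.cons_val_one, Algebra.smul_def]
        show φ c * a' + φ (-a) * c' = 0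
        rw [map_neg, hc', ha']
        ring
      obtain ⟨k, A, y, hxy, hA⟩ := Module.Flat.isTrivialRelation_of_sum_smul_eq_zero (R := R) (M := R')
        (f := ![c, -a]) (x := ![a', c']) hrel
      have h0 := hxy 0
      simp only [Matrix.cons_val_zero] at h0
      rw [h0]
      refine Ideal.sum_mem _ fun j _ => ?_
      rw [Algebra.smul_def]
      apply Ideal.mul_mem_right
      apply Ideal.mem_map_of_mem
      rw [hpdef]
      have hj := hA j
      rw [Fin.sum_univ_two] at hj
      simp only [Matrix.cons_val_zero, Matrix.cons_val_one] at hj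
      exact ⟨A 1 j, by linear_combination hj⟩
  have hprinc : (p.map (algebraMap R R')).IsPrincipal := by
    rw [← hφ, hmap]
    exact ⟨⟨a', rfl⟩⟩
  have hpp : p.IsPrincipal := Groth.Agent.S17722.result R R' p hprinc
  obtain ⟨π, hπ⟩ := hpp.principal
  have hπ' : p = Ideal.span {π} := hπ
  have hπ0 : π ≠ 0 := by
    intro h
    rw [hπ', h, Ideal.span_singleton_eq_bot.mpr rfl] at hap
    exact ha0 (by simpa using hap)
  have hπprime : Prime π := by
    rw [← Ideal.span_singleton_prime hπ0, ← hπ']
    exact hpprime
  exact ⟨π, hpP (by rw [hπ']; exact Ideal.mem_span_singleton_self π), hπprime⟩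

end Groth.Agent.S19890
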