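import Groth.Statements.S19919
import Mathlib

set_option autoImplicit false
universe u v w
open DPow

namespace Groth.Agent.S19919

/-- Let R be a commutative ring and P = R⟨X_1, …, X_N⟩ the divided power polynomial algebra over R,
presented concretely as an R-algebra P with elements x i n = X_i^[n] (i < N, n ≥ 0) such that
X_i^[0] = 1, X_i^[n] · X_i^[m] = C(n+m, n) X_i^[n+m], and the monomials ∏_i X_i^[e_i] form an
R-basis of P; let P_+ be the ideal generated by the X_i^[n] with n ≥ 1 and γ the divided power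
structure on P_+ with γ_n(X_i^[1]) = X_i^[n]. Then (P, P_+, γ) is the free divided power R-algebra
on N variables: for every commutative R-algebra S, every ideal J of S with a divided power structure
δ and every family s_1, …, s_N of elements of J there is exactly one R-algebra homomorphism φ : P →
S that is a divided power morphism from (P_+, γ) to (J, δ) and satisfies φ(X_i^[1]) = s_i for all i. -/
theorem result (R : Type u) [CommRing R] (N : ℕ)
    (P : Type v) [CommRing P] [Algebra R P] (x : Fin N → ℕ → P)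
    (hx0 : ∀ i, x i 0 = 1)
    (hxmul : ∀ i n m, x i n * x i m = ((n + m).choose n : P) * x i (n + m))
    (b : Module.Basis (Fin N →₀ ℕ) R P) (hb : ∀ e : Fin N →₀ ℕ, b e = e.prod (fun i k => x i k))
    (γ : DividedPowers (Ideal.span {y : P | ∃ (i : Fin N) (n : ℕ), 1 ≤ n ∧ y = x i n}))
    (hγ : ∀ (i : Fin N) (n : ℕ), γ.dpow n (x i 1) = x i n)
    (S : Type w) [CommRing S] [Algebra R S] (J : Ideal S) (δ : DividedPowers J)
    (s : Fin N → S) (hs : ∀ i, s i ∈ J) :
    ∃! φ : P →ₐ[R] S, γ.IsDPMorphism δ φ.toRingHom ∧ ∀ i, φ (x i 1) = s i := by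
  classical
  have hb' : ∀ e : Fin N →₀ ℕ, b e = ∏ i, x i (e i) := by
    intro e
    rw [hb e]
    exact Finsupp.prod_fintype e _ (fun i => hx0 i)
  obtain ⟨φ₀, hφ₀⟩ : ∃ φ₀ : P →ₗ[R] S,
      φ₀ = b.constr R (fun e : Fin N →₀ ℕ => ∏ i, δ.dpow (e i) (s i)) := ⟨_, rfl⟩
  have hφb : ∀ e : Fin N →₀ ℕ, φ₀ (b e) = ∏ i, δ.dpow (e i) (s i) := by
    intro e
    rw [hφ₀, Module.Basis.constr_basis]
  have h1 : (1 : P) = b 0 := by
    rw [hb' 0]
    simp [hx0]
  have hmulb : ∀ e f : Fin N →₀ ℕ,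
      b e * b f = ((∏ i, ((e i + f i).choose (e i)) : ℕ) : R) • b (e + f) := by
    intro e f
    rw [hb' e, hb' f, hb' (e + f), ← Finset.prod_mul_distrib]
    have h2 : ∀ i, x i (e i) * x i (f i) =
        (((e i + f i).choose (e i) : ℕ) : P) * x i ((e + f) i) := by
      intro i
      rw [hxmul]
      rfl
    simp_rw [h2]
    rw [Finset.prod_mul_distrib, ← Nat.cast_prod, Nat.cast_smul_eq_nsmul, nsmul_eq_mul]
  have hmulφ : ∀ p q : P, φ₀ (p * q) = φ₀ p * φ₀ q := by
    have hbil : (LinearMap.mul R P).compr₂ φ₀ = (LinearMap.mul R S).compl₁₂ φ₀ φ₀ := by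
      refine LinearMap.ext_basis b b (fun e f => ?_)
      rw [LinearMap.compr₂_apply, LinearMap.compl₁₂_apply, LinearMap.mul_apply',
        LinearMap.mul_apply', hmulb, map_smul, hφb, hφb, hφb, ← Finset.prod_mul_distrib]
      have h2 : ∀ i, δ.dpow (e i) (s i) * δ.dpow (f i) (s i) =
          (((e i + f i).choose (e i) : ℕ) : S) * δ.dpow ((e + f) i) (s i) := by
        intro i
        exact δ.mul_dpow (hs i)
      simp_rw [h2]
      rw [Finset.prod_mul_distrib, ← Nat.cast_prod, Nat.cast_smul_eq_nsmul, nsmul_eq_mul]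
    intro p q
    have h3 := LinearMap.congr_fun (LinearMap.congr_fun hbil p) q
    simpa using h3
  have hone : φ₀ 1 = 1 := by
    rw [h1, hφb 0]
    exact Finset.prod_eq_one (fun i _ => δ.dpow_zero (hs i))
  obtain ⟨φ, hφ⟩ : ∃ φ : P →ₐ[R] S, ∀ y, φ y = φ₀ y :=
    ⟨AlgHom.ofLinearMap φ₀ hone hmulφ, fun y => rfl⟩
  have hφx : ∀ i n, φ₀ (x i n) = δ.dpow n (s i) := by
    intro i n
    have hxb : x i n = b (Finsupp.single i n) := by
      rw [hb, Finsupp.prod_single_index (hx0 i)]
    rw [hxb, hφb, Finset.prod_eq_single i]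
    · rw [Finsupp.single_eq_same]
    · intro j _ hji
      have h0 : (Finsupp.single i n) j = 0 := by simp [Finsupp.single_apply, Ne.symm hji]
      rw [h0]
      exact δ.dpow_zero (hs j)
    · intro h
      exact absurd (Finset.mem_univ i) h
  have hx1 : ∀ i, x i 1 ∈ Ideal.span {y : P | ∃ (i : Fin N) (n : ℕ), 1 ≤ n ∧ y = x i n} :=
    fun i => Ideal.subset_span ⟨i, 1, le_rfl, rfl⟩
  have hDP : γ.IsDPMorphism δ φ.toRingHom := by
    refine DividedPowers.IsDPMorphism.on_span γ δ rfl ?_ ?_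
    · rintro y ⟨i, n, hn, rfl⟩
      show φ (x i n) ∈ J
      rw [hφ, hφx]
      exact δ.dpow_mem (by omega) (hs i)
    · intro n y hy
      obtain ⟨i, m, hm, rfl⟩ := hy
      have e1 : γ.dpow n (x i m) = (Nat.uniformBell n m : P) * x i (n * m) := by
        rw [← hγ i m, γ.dpow_comp (by omega) (hx1 i), hγ]
      show φ (γ.dpow n (x i m)) = δ.dpow n (φ (x i m))
      rw [e1, map_mul, map_natCast, hφ, hφ, hφx, hφx, δ.dpow_comp (by omega) (hs i)]
  refine ⟨φ, ⟨hDP, fun i => ?_⟩, ?_⟩
  · rw [hφ, hφx, δ.dpow_one (hs i)]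
  · rintro ψ ⟨hψ, hψx⟩
    have hψxn : ∀ i n, ψ (x i n) = δ.dpow n (s i) := by
      intro i n
      have h4 := hψ.dpow_comp (n := n) (x i 1) (hx1 i)
      rw [hγ] at h4
      have h2 : ψ.toRingHom (x i 1) = s i := hψx i
      rw [h2] at h4
      exact h4.symm
    apply AlgHom.toLinearMap_injective
    refine b.ext (fun e => ?_)
    show ψ (b e) = φ (b e)
    rw [hφ, hφb, hb' e, map_prod]
    exact Finset.prod_congr rfl (fun i _ => hψxn i (e i))

end Groth.Agent.S19919
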