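import Groth.Statements.S1992
import Mathlib

set_option autoImplicit false
universe u
open Polynomial
open EtAlg

namespace Groth.Agent.S1992

theorem exists_scaleRoots_eq_prod {A : Type u} [CommRing A]
    (hA : ∀ f : A[X], f.Monic → ∃ s : Multiset A, f = (s.map fun a => X - C a).prod)
    (p : Ideal A) [p.IsPrime] (f : (Localization.AtPrime p)[X]) (hf : f.Monic) :
    ∃ (s : Localization.AtPrime p) (t : Multiset (Localization.AtPrime p)), IsUnit s ∧
      f.scaleRoots s = (t.map fun a => X - C a).prod := by
  classical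
  obtain ⟨b, hb⟩ := IsLocalization.exist_integer_multiples_of_finset p.primeCompl
    (Finset.image f.coeff (Finset.range f.natDegree))
  have hsu : IsUnit (algebraMap A (Localization.AtPrime p) (b : A)) :=
    IsLocalization.map_units _ b
  have hlift : f.scaleRoots (algebraMap A (Localization.AtPrime p) (b : A)) ∈
      lifts (algebraMap A (Localization.AtPrime p)) := by
    rw [lifts_iff_coeff_lifts]
    intro i
    rw [coeff_scaleRoots]
    rcases lt_trichotomy i f.natDegree with h | h | h
    · obtain ⟨a, ha⟩ := RingHom.mem_rangeS.mp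
        (hb (f.coeff i) (Finset.mem_image.mpr ⟨i, Finset.mem_range.mpr h, rfl⟩))
      obtain ⟨m, hm⟩ : ∃ m, f.natDegree - i = m + 1 := ⟨f.natDegree - i - 1, by omega⟩
      refine ⟨a * (b : A) ^ m, ?_⟩
      rw [hm, map_mul, map_pow, ha, Algebra.smul_def, pow_succ]
      ring
    · subst h
      refine ⟨1, ?_⟩
      rw [hf.coeff_natDegree, Nat.sub_self, pow_zero, mul_one, map_one]
    · refine ⟨0, ?_⟩
      rw [coeff_eq_zero_of_natDegree_lt h, zero_mul, map_zero]
  obtain ⟨G, hG, -, hGm⟩ := lifts_and_natDegree_eq_and_monic hlift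
    ((monic_scaleRoots_iff _).mpr hf)
  obtain ⟨t, ht⟩ := hA G hGm
  refine ⟨_, t.map (algebraMap A _), hsu, ?_⟩
  rw [← hG, ht, Polynomial.map_multiset_prod, Multiset.map_map, Multiset.map_map]
  congr 1
  apply Multiset.map_congr rfl
  intro a _
  simp

theorem eval_eq_zero_of_scaleRoots_eq_prod {R : Type u} [CommRing R] (f : R[X]) (u : Rˣ)
    (t : Multiset R) (hst : f.scaleRoots (u : R) = (t.map fun a => X - C a).prod) (a : R)
    (hat : a ∈ t) : f.eval (↑u⁻¹ * a) = 0 := by
  have h4 : (f.scaleRoots (u : R)).eval ((u : R) * (↑u⁻¹ * a)) =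
      (u : R) ^ f.natDegree * f.eval (↑u⁻¹ * a) := by
    have h := scaleRoots_eval₂_mul (p := f) (RingHom.id R) (↑u⁻¹ * a) (u : R)
    simpa [eval₂_id] using h
  have h5 : (f.scaleRoots (u : R)).eval a = 0 := by
    rw [hst, eval_multiset_prod]
    apply Multiset.prod_eq_zero
    rw [Multiset.map_map, Multiset.mem_map]
    exact ⟨a, hat, by simp⟩
  rw [Units.mul_inv_cancel_left, h5] at h4
  exact ((u.isUnit.pow f.natDegree).mul_right_eq_zero).mp h4.symm


/-- Let A be an absolutely integrally closed ring, i.e. every monic polynomial over A is a product of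
linear factors X - a. Then for every prime p of A the localization A_p is a strictly henselian local
ring (henselian with separably closed residue field). -/
theorem result (A : Type u) [CommRing A]
    (hA : ∀ f : A[X], f.Monic → ∃ s : Multiset A, f = (s.map fun a => X - C a).prod)
    (p : Ideal A) [p.IsPrime] :
    EtCoh.IsStrictlyHenselianLocalRing (Localization.AtPrime p) := by
  have hH : HenselianLocalRing (Localization.AtPrime p) := by
    refine { toIsLocalRing := inferInstance, is_henselian := ?_ }
    intro f hf a₀ h₁ _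
    obtain ⟨s, t, hsu, hst⟩ := exists_scaleRoots_eq_prod hA p f hf
    obtain ⟨u, rfl⟩ := hsu
    have h2 : (f.scaleRoots (u : Localization.AtPrime p)).eval ((u : Localization.AtPrime p) * a₀) =
        (u : Localization.AtPrime p) ^ f.natDegree * f.eval a₀ := by
      have h := scaleRoots_eval₂_mul (p := f) (RingHom.id (Localization.AtPrime p)) a₀
        (u : Localization.AtPrime p)
      simpa [eval₂_id] using h
    have h3 : (f.scaleRoots (u : Localization.AtPrime p)).eval
        ((u : Localization.AtPrime p) * a₀) ∈ IsLocalRing.maximalIdeal (Localization.AtPrime p) := by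
      rw [h2]
      exact Ideal.mul_mem_left _ _ h₁
    rw [hst, eval_multiset_prod, Multiset.map_map] at h3
    obtain ⟨x, hx, hxm⟩ := (Ideal.IsPrime.multiset_prod_mem_iff_exists_mem
      (IsLocalRing.maximalIdeal.isMaximal (Localization.AtPrime p)).isPrime _).mp h3
    rw [Multiset.mem_map] at hx
    obtain ⟨a, hat, rfl⟩ := hx
    simp only [Function.comp, eval_sub, eval_X, eval_C] at hxm
    refine ⟨↑u⁻¹ * a, IsRoot.def.mpr (eval_eq_zero_of_scaleRoots_eq_prod f u t hst a hat), ?_⟩
    have h6 : ↑u⁻¹ * a - a₀ = -(↑u⁻¹ : Localization.AtPrime p) * (↑u * a₀ - a) := by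
      rw [neg_mul, mul_sub, Units.inv_mul_cancel_left]
      ring
    rw [h6]
    exact Ideal.mul_mem_left _ _ hxm
  refine ⟨hH, ?_⟩
  apply IsSepClosed.of_exists_root
  intro q hqm hqi _
  obtain ⟨f, hfq, hfdeg, hfm⟩ := lifts_and_natDegree_eq_and_monic
    (mem_lifts_of_surjective IsLocalRing.residue_surjective q) hqm
  obtain ⟨s, t, hsu, hst⟩ := exists_scaleRoots_eq_prod hA p f hfm
  obtain ⟨u, rfl⟩ := hsu
  have hcard : 0 < Multiset.card t := by
    have h1 := congrArg natDegree hst
    rw [natDegree_scaleRoots, natDegree_multiset_prod_X_sub_C_eq_card, hfdeg] at h1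
    rw [← h1]
    exact natDegree_pos_iff_degree_pos.mpr (degree_pos_of_irreducible hqi)
  obtain ⟨a, hat⟩ := Multiset.card_pos_iff_exists_mem.mp hcard
  refine ⟨IsLocalRing.residue _ (↑u⁻¹ * a), ?_⟩
  rw [← hfq, eval_map, eval₂_at_apply, eval_eq_zero_of_scaleRoots_eq_prod f u t hst a hat, map_zero]

end Groth.Agent.S1992
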