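import Groth.Statements.S19974
import Mathlib
-- import your own Groth.Agent.* helpers here

set_option autoImplicit false
universe u v w x
open scoped BigOperators
open DefMod

namespace Groth.Agent.S19974



/-- Let K be a field of characteristic 0, O a commutative K-algebra with a K-linear derivation δ, and D
the ring of differential operators O[∂], presented abstractly as a K-algebra D with an algebra map ι
: O → D and an element ∂ of D such that ∂ ι(f) = ι(f) ∂ + ι(δ f) for every f in O and such that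
every element of D is in a unique way a finite sum of terms ι(f_i) ∂^i. Let E be a left D-module,
given as a K-vector space with a K-algebra map ρ : D → End_K(E), which is finite free as an
O-module. A K-derivation of D with values in the D-bimodule End_K(E) is a K-linear map s with s(PQ)
= s(P) ρ(Q) + ρ(P) s(Q); a K-derivation of O with values in End_K(E) is a K-linear map r with r(fg)
= r(f) ρ(ι g) + ρ(ι f) r(g). Then: (a) for every K-derivation s of D into End_K(E), the pair (r, v)
= (s ∘ ι, s(∂)) satisfies the identity [r(f), ρ(∂)] + [ρ(ι f), v] + r(δ f) = 0 for all f in O; (b)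
conversely, for every K-derivation r of O into End_K(E) and every v in End_K(E) satisfying that
identity for all f, there is exactly one K-derivation s of D into End_K(E) with s ∘ ι = r and s(∂) =
v. In other words s ↦ (s ∘ ι, s(∂)) maps the K-derivations of D injectively onto the pairs
satisfying the identity. -/
theorem result
    (K : Type u) [Field K] [CharZero K]
    (O : Type v) [CommRing O] [Algebra K O] (δ : Derivation K O O)
    (D : Type w) [Ring D] [Algebra K D] (ι : O →ₐ[K] D) (d : D)
    (hd : ∀ f : O, d * ι f = ι f * d + ι (δ f))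
    (hbasis : Function.Bijective (fun c : ℕ →₀ O => c.sum (fun i f => ι f * d ^ i)))
    (E : Type x) [AddCommGroup E] [Module K E] (ρ : D →ₐ[K] Module.End K E)
    (hE : ∃ (n : ℕ) (b : Fin n → E), Function.Bijective (fun c : Fin n → O => ∑ i, ρ (ι (c i)) (b i))) :
    (∀ s : D →ₗ[K] Module.End K E, (∀ P Q : D, s (P * Q) = s P * ρ Q + ρ P * s Q) →
      ∀ f : O, (s (ι f) * ρ d - ρ d * s (ι f)) + (ρ (ι f) * s d - s d * ρ (ι f)) + s (ι (δ f)) = 0) ∧
    ∀ (r : O →ₗ[K] Module.End K E) (v : Module.End K E),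
      (∀ f g : O, r (f * g) = r f * ρ (ι g) + ρ (ι f) * r g) →
      (∀ f : O, (r f * ρ d - ρ d * r f) + (ρ (ι f) * v - v * ρ (ι f)) + r (δ f) = 0) →
      ∃! s : D →ₗ[K] Module.End K E,
        (∀ P Q : D, s (P * Q) = s P * ρ Q + ρ P * s Q) ∧ s ∘ₗ ι.toLinearMap = r ∧ s d = v := by
  classical
  refine ⟨?_, ?_⟩
  · intro s hs f
    have h := congrArg s (hd f)
    rw [hs, map_add, hs] at h
    have h2 : (s (ι f) * ρ d - ρ d * s (ι f)) + (ρ (ι f) * s d - s d * ρ (ι f)) + s (ι (δ f))
        = (s (ι f) * ρ d + ρ (ι f) * s d + s (ι (δ f))) - (s d * ρ (ι f) + ρ d * s (ι f)) := by abel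
    rw [h2, ← h, sub_self]
  · intro r v hr hrv
    -- the parametrization
    obtain ⟨Φ, hΦsingle, hΦsum⟩ : ∃ Φ : (ℕ →₀ O) →ₗ[K] D,
        (∀ i f, Φ (Finsupp.single i f) = ι f * d ^ i) ∧
        (∀ c : ℕ →₀ O, Φ c = c.sum (fun i f => ι f * d ^ i)) := by
      refine ⟨Finsupp.lsum ℕ (fun i : ℕ => (LinearMap.mulRight K (d ^ i)).comp ι.toLinearMap),
        fun i f => ?_, fun c => ?_⟩
      · rw [Finsupp.lsum_single]
        simp
      · rw [Finsupp.lsum_apply]
        refine Finsupp.sum_congr (fun i _ => ?_)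
        simp
    have hΦ : Function.Bijective Φ := by
      have hΦeq : (⇑Φ : (ℕ →₀ O) → D) = fun c : ℕ →₀ O => c.sum (fun i f => ι f * d ^ i) :=
        funext hΦsum
      rw [hΦeq]; exact hbasis
    have hind : ∀ (motive : D → Prop), motive 0 → (∀ P Q, motive P → motive Q → motive (P + Q)) →
        (∀ i f, motive (ι f * d ^ i)) → ∀ P, motive P := by
      intro motive h0 hadd hsingle P
      obtain ⟨c, rfl⟩ := hΦ.2 P
      induction c using Finsupp.induction_linear with
      | zero => rw [map_zero]; exact h0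
      | add c₁ c₂ h₁ h₂ => rw [map_add]; exact hadd _ _ h₁ h₂
      | single i f => rw [hΦsingle]; exact hsingle i f
    -- general facts on derivations
    have hone : ∀ t : D →ₗ[K] Module.End K E,
        (∀ P Q : D, t (P * Q) = t P * ρ Q + ρ P * t Q) → t 1 = 0 := by
      intro t ht
      have h1 := ht 1 1
      rw [mul_one, map_one ρ, mul_one, one_mul] at h1
      have h2 : t 1 + 0 = t 1 + t 1 := by rw [add_zero]; exact h1
      exact (add_left_cancel h2).symm
    have huniq : ∀ t₁ t₂ : D →ₗ[K] Module.End K E,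
        (∀ P Q : D, t₁ (P * Q) = t₁ P * ρ Q + ρ P * t₁ Q) →
        (∀ P Q : D, t₂ (P * Q) = t₂ P * ρ Q + ρ P * t₂ Q) →
        (∀ f, t₁ (ι f) = t₂ (ι f)) → t₁ d = t₂ d → t₁ = t₂ := by
      intro t₁ t₂ h₁ h₂ hι hdd
      have hpow : ∀ i : ℕ, t₁ (d ^ i) = t₂ (d ^ i) := by
        intro i
        induction i with
        | zero => rw [pow_zero, hone t₁ h₁, hone t₂ h₂]
        | succ i ih => rw [pow_succ, h₁, h₂, ih, hdd]
      refine LinearMap.ext (fun P => ?_)
      refine hind (fun P => t₁ P = t₂ P) ?_ ?_ ?_ P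
      · simp only [map_zero]
      · intro P Q hP hQ
        beta_reduce at hP hQ ⊢
        rw [map_add, map_add, hP, hQ]
      · intro i f
        beta_reduce
        rw [h₁, h₂, hι, hpow]
    -- r 1 = 0
    have hr1 : r 1 = 0 := by
      have h1 := hr 1 1
      rw [mul_one, map_one ι, map_one ρ, mul_one, one_mul] at h1
      have h2 : r 1 + 0 = r 1 + r 1 := by rw [add_zero]; exact h1
      exact (add_left_cancel h2).symm
    -- the sequence W
    obtain ⟨W, hW0, hWs⟩ : ∃ W : ℕ → Module.End K E, W 0 = 0 ∧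
        ∀ i, W (i + 1) = W i * ρ d + ρ (d ^ i) * v :=
      ⟨fun i => Nat.rec 0 (fun j Wj => Wj * ρ d + ρ (d ^ j) * v) i, rfl, fun i => rfl⟩
    -- the candidate s
    obtain ⟨s, hsP1⟩ : ∃ s : D →ₗ[K] Module.End K E,
        ∀ i f, s (ι f * d ^ i) = r f * ρ (d ^ i) + ρ (ι f) * W i := by
      let e : (ℕ →₀ O) ≃ₗ[K] D := LinearEquiv.ofBijective Φ hΦ
      let s₀ : (ℕ →₀ O) →ₗ[K] Module.End K E := Finsupp.lsum ℕ (fun i : ℕ =>
        (LinearMap.mulRight K (ρ (d ^ i))).comp r +
          (LinearMap.mulRight K (W i)).comp (ρ.toLinearMap.comp ι.toLinearMap))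
      refine ⟨s₀.comp e.symm.toLinearMap, fun i f => ?_⟩
      have h1 : e.symm (ι f * d ^ i) = Finsupp.single i f := by
        rw [LinearEquiv.symm_apply_eq]
        exact (hΦsingle i f).symm
      rw [LinearMap.comp_apply]
      change s₀ (e.symm (ι f * d ^ i)) = _
      rw [h1, Finsupp.lsum_single]
      simp
    have hsι : ∀ f, s (ι f) = r f := by
      intro f
      have h1 := hsP1 0 f
      rw [pow_zero, mul_one, hW0, mul_zero, add_zero, map_one, mul_one] at h1
      exact h1
    have hs1 : s 1 = 0 := by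
      have h1 := hsι 1
      rw [map_one, hr1] at h1
      exact h1
    have hsd : s d = v := by
      have h1 := hsP1 1 1
      rw [map_one, one_mul, pow_one, hr1, zero_mul, zero_add, map_one, one_mul, hWs 0, hW0, zero_mul,
        zero_add, pow_zero, map_one, one_mul] at h1
      exact h1
    -- Good(d)
    have hGd : ∀ P, s (P * d) = s P * ρ d + ρ P * v := by
      refine hind (fun P => s (P * d) = s P * ρ d + ρ P * v) ?_ ?_ ?_
      · simp only [zero_mul, map_zero, add_zero]
      · intro P Q hP hQ
        beta_reduce at hP hQ ⊢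
        rw [add_mul, map_add, hP, hQ, map_add, map_add, add_mul, add_mul]
        abel
      · intro i f
        beta_reduce
        rw [mul_assoc, ← pow_succ, hsP1 (i + 1) f, hsP1 i f, hWs, pow_succ, map_mul ρ (d ^ i) d,
          map_mul ρ (ι f) (d ^ i)]
        noncomm_ring
    have halg : ∀ S Rho a b a' x x' v' : Module.End K E, a * b + a' = b * a →
        x * b + a * v' + x' = b * x + v' * a →
        (S * a + Rho * x) * b + (Rho * a) * v' + (S * a' + Rho * x') =
          (S * b + Rho * v') * a + (Rho * b) * x := by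
      intro S Rho a b a' x x' v' h1 h2
      calc (S * a + Rho * x) * b + (Rho * a) * v' + (S * a' + Rho * x')
          = S * (a * b + a') + Rho * (x * b + a * v' + x') := by noncomm_ring
        _ = (S * b + Rho * v') * a + (Rho * b) * x := by rw [h1, h2]; noncomm_ring
    have hA : ∀ i f g, s (ι f * d ^ i * ι g) = s (ι f * d ^ i) * ρ (ι g) + ρ (ι f * d ^ i) * r g := by
      intro i
      induction i with
      | zero =>
        intro f g
        rw [pow_zero, mul_one, ← map_mul, hsι, hsι, hr]
      | succ i ih =>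
        intro f g
        have e1 : ι f * d ^ (i + 1) * ι g = (ι f * d ^ i * ι g) * d + ι f * d ^ i * ι (δ g) := by
          calc ι f * d ^ (i + 1) * ι g = ι f * d ^ i * (d * ι g) := by
                rw [pow_succ]; simp only [mul_assoc]
            _ = _ := by rw [hd, mul_add, ← mul_assoc]
        have e2 : s (ι f * d ^ (i + 1)) = s (ι f * d ^ i) * ρ d + ρ (ι f * d ^ i) * v := by
          rw [pow_succ, ← mul_assoc, hGd]
        have e3 : ρ (ι f * d ^ (i + 1)) = ρ (ι f * d ^ i) * ρ d := by
          rw [pow_succ, ← mul_assoc, map_mul]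
        have e4 : ρ (ι g) * ρ d + ρ (ι (δ g)) = ρ d * ρ (ι g) := by
          rw [← map_mul, ← map_mul, ← map_add, ← hd]
        have e5 : r g * ρ d + ρ (ι g) * v + r (δ g) = ρ d * r g + v * ρ (ι g) := by
          have h1 := hrv g
          have h' : r g * ρ d + ρ (ι g) * v + r (δ g) - (ρ d * r g + v * ρ (ι g)) = 0 := by
            rw [← h1]; abel
          exact sub_eq_zero.1 h'
        rw [e1, map_add, hGd, ih f g, ih f (δ g), e2, e3, map_mul ρ (ι f * d ^ i) (ι g)]
        exact halg _ _ _ _ _ _ _ _ e4 e5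
    have hGι : ∀ g P, s (P * ι g) = s P * ρ (ι g) + ρ P * r g := by
      intro g
      refine hind (fun P => s (P * ι g) = s P * ρ (ι g) + ρ P * r g) ?_ ?_ ?_
      · simp only [zero_mul, map_zero, add_zero]
      · intro P Q hP hQ
        beta_reduce at hP hQ ⊢
        rw [add_mul, map_add, hP, hQ, map_add, map_add, add_mul, add_mul]
        abel
      · intro i f
        exact hA i f g
    -- Good
    have hgood_mul : ∀ Q₁ Q₂ : D, (∀ P, s (P * Q₁) = s P * ρ Q₁ + ρ P * s Q₁) →
        (∀ P, s (P * Q₂) = s P * ρ Q₂ + ρ P * s Q₂) →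
        ∀ P, s (P * (Q₁ * Q₂)) = s P * ρ (Q₁ * Q₂) + ρ P * s (Q₁ * Q₂) := by
      intro Q₁ Q₂ h₁ h₂ P
      rw [← mul_assoc, h₂ (P * Q₁), h₁ P, map_mul ρ P Q₁, map_mul ρ Q₁ Q₂, h₂ Q₁]
      noncomm_ring
    have hgood_d : ∀ P, s (P * d) = s P * ρ d + ρ P * s d := by
      intro P; rw [hGd, hsd]
    have hgood_pow : ∀ (j : ℕ) (P : D), s (P * d ^ j) = s P * ρ (d ^ j) + ρ P * s (d ^ j) := by
      intro j
      induction j with
      | zero =>
        intro P
        rw [pow_zero, mul_one, map_one, mul_one, hs1, mul_zero, add_zero]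
      | succ j ih =>
        intro P
        rw [pow_succ]
        exact hgood_mul _ _ ih hgood_d P
    have hgood_ι : ∀ (g : O) (P : D), s (P * ι g) = s P * ρ (ι g) + ρ P * s (ι g) := by
      intro g P; rw [hGι g P, hsι g]
    have hgood_all : ∀ Q P : D, s (P * Q) = s P * ρ Q + ρ P * s Q := by
      refine hind (fun Q => ∀ P : D, s (P * Q) = s P * ρ Q + ρ P * s Q) ?_ ?_ ?_
      · intro P
        simp only [mul_zero, map_zero, add_zero]
      · intro Q₁ Q₂ h₁ h₂ P
        rw [mul_add, map_add, h₁ P, h₂ P, map_add, map_add, mul_add, mul_add]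
        abel
      · intro i f
        exact hgood_mul _ _ (hgood_ι f) (hgood_pow i)
    refine ⟨s, ⟨fun P Q => hgood_all Q P, LinearMap.ext (fun f => hsι f), hsd⟩, ?_⟩
    rintro s' ⟨h1, h2, h3⟩
    refine huniq s' s h1 (fun P Q => hgood_all Q P) (fun f => ?_) (h3.trans hsd.symm)
    rw [hsι f]
    exact LinearMap.congr_fun h2 f

end Groth.Agent.S19974
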