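import Groth.Statements.S2001


set_option autoImplicit false
universe u
open TensorProduct
open EtAlg

namespace Groth.Agent.S2001

/-- Let (R -> R', f) be a glueing pair and M, N R-modules glueable for it. Given an R'-linear map φ' :
R' ⊗_R M -> R' ⊗_R N and an R-linear map φ₁ : M_f -> N_f which induce the same map into (R' ⊗_R N)_f
on elements of M, there is a unique R-linear map ψ : M -> N whose base change to R' is φ' and whose
localization is φ₁. -/
theorem result (R R' : Type u) [CommRing R] [CommRing R'] [Algebra R R'] (f : R)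
    (hRR : EtGlue.IsGlueingPair R R' f) (M N : Type u) [AddCommGroup M] [Module R M] [AddCommGroup N] [Module R N]
    (hM : EtGlue.IsGlueable R R' f M) (hN : EtGlue.IsGlueable R R' f N)
    (φ' : R' ⊗[R] M →ₗ[R'] R' ⊗[R] N)
    (φ₁ : LocalizedModule (Submonoid.powers f) M →ₗ[R] LocalizedModule (Submonoid.powers f) N)
    (hc : ∀ m : M, EtGlue.locOfTensor R R' f N (φ' ((1 : R') ⊗ₜ[R] m)) =
      EtGlue.tensorOfLoc R R' f N (φ₁ (LocalizedModule.mkLinearMap (Submonoid.powers f) M m))) :
    ∃! ψ : M →ₗ[R] N, ψ.baseChange R' = φ' ∧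
      IsLocalizedModule.map (Submonoid.powers f) (LocalizedModule.mkLinearMap (Submonoid.powers f) M)
        (LocalizedModule.mkLinearMap (Submonoid.powers f) N) ψ = φ₁ := by
  have hex : ∀ m : M, ∃ n : N, (1 : R') ⊗ₜ[R] n = φ' ((1 : R') ⊗ₜ[R] m) ∧
      LocalizedModule.mkLinearMap (Submonoid.powers f) N n =
        φ₁ (LocalizedModule.mkLinearMap (Submonoid.powers f) M m) := fun m => hN.2 _ _ (hc m)
  choose ψ₀ hψ₁ hψ₂ using hex
  have hinj : ∀ n n' : N, (1 : R') ⊗ₜ[R] n = (1 : R') ⊗ₜ[R] n' →
      LocalizedModule.mkLinearMap (Submonoid.powers f) N n =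
        LocalizedModule.mkLinearMap (Submonoid.powers f) N n' → n = n' :=
    fun n n' h1 h2 => hN.1 (Prod.ext h1 h2)
  let ψ : M →ₗ[R] N :=
    { toFun := ψ₀
      map_add' := fun a b => by
        apply hinj
        · rw [hψ₁, TensorProduct.tmul_add, map_add, TensorProduct.tmul_add, hψ₁, hψ₁]
        · simp only [map_add, hψ₂]
      map_smul' := fun r a => by
        apply hinj
        · rw [hψ₁, RingHom.id_apply, TensorProduct.tmul_smul, TensorProduct.tmul_smul,
            LinearMap.map_smul_of_tower, hψ₁]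
        · simp only [map_smul, RingHom.id_apply, hψ₂] }
  have hψ : ∀ m, ψ m = ψ₀ m := fun m => rfl
  refine ⟨ψ, ⟨?_, ?_⟩, ?_⟩
  · refine TensorProduct.AlgebraTensorModule.ext fun r' m => ?_
    have h1 : r' ⊗ₜ[R] m = r' • ((1 : R') ⊗ₜ[R] m) := by
      rw [TensorProduct.smul_tmul', smul_eq_mul, mul_one]
    rw [LinearMap.baseChange_tmul, h1, map_smul, hψ, ← hψ₁, TensorProduct.smul_tmul', smul_eq_mul,
      mul_one]
  · apply IsLocalizedModule.ext (Submonoid.powers f)
      (LocalizedModule.mkLinearMap (Submonoid.powers f) M)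
      (IsLocalizedModule.map_units (LocalizedModule.mkLinearMap (Submonoid.powers f) N))
    refine LinearMap.ext fun m => ?_
    rw [LinearMap.comp_apply, LinearMap.comp_apply, IsLocalizedModule.map_apply, hψ, hψ₂]
  · rintro ψ' ⟨h1, h2⟩
    refine LinearMap.ext fun m => ?_
    apply hinj
    · have e1 : (1 : R') ⊗ₜ[R] ψ' m = φ' ((1 : R') ⊗ₜ[R] m) := by
        rw [← h1, LinearMap.baseChange_tmul]
      rw [e1, hψ, hψ₁]
    · have e2 : LocalizedModule.mkLinearMap (Submonoid.powers f) N (ψ' m) =
          φ₁ (LocalizedModule.mkLinearMap (Submonoid.powers f) M m) := by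
        rw [← h2, IsLocalizedModule.map_apply]
      rw [e2, hψ, hψ₂]

end Groth.Agent.S2001
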