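import Groth.Statements.S20018
import Mathlib
-- import your own Groth.Agent.* helpers here

set_option autoImplicit false
open CAlg

namespace Groth.Agent.S20018

open PowerSeries in
theorem coeff_mul_one_sub {R : Type*} [CommRing R] (P : PowerSeries R) (a : R) (m k : ℕ) :
    coeff k (P * (1 - C a * X ^ m)) = coeff k P - (if m ≤ k then a * coeff (k - m) P else 0) := by
  have h : P * (1 - C a * X ^ m) = P - C a * (P * X ^ m) := by ring
  rw [h, map_sub, coeff_C_mul, coeff_mul_X_pow']
  split_ifs <;> simp


open PowerSeries in
/-- Product expansion of big Witt vectors: let R be a commutative ring and x ∈ 1 + tR[[t]] a formal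
power series with constant term 1. Then x can be written uniquely as an infinite product ∏_{i ≥ 1}
(1 - α_i t^i) with α_i ∈ R. The infinite product is expressed through its truncations: there is a
unique sequence α : ℕ → R (α i standing for the coefficient attached to t^{i+1}) such that for every
N the series x and the finite product ∏_{i=0}^{N} (1 - α_i t^{i+1}) agree modulo t^{N+2}. -/
theorem result
    (R : Type*) [CommRing R] (x : PowerSeries R) (hx : PowerSeries.constantCoeff x = 1) :
    ∃! α : ℕ → R, ∀ N : ℕ,
      PowerSeries.trunc (N + 2) x =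
        PowerSeries.trunc (N + 2) (∏ i ∈ Finset.range (N + 1),
          (1 - PowerSeries.C (α i) * PowerSeries.X ^ (i + 1) : PowerSeries R)) := by
  classical
  let Q : ℕ → PowerSeries R := fun N => Nat.rec (motive := fun _ => PowerSeries R) 1
      (fun N q => q * (1 - C (coeff (N + 1) q - coeff (N + 1) x) * X ^ (N + 1))) N
  have hQ0 : Q 0 = 1 := rfl
  have hQs : ∀ N, Q (N + 1) =
      Q N * (1 - C (coeff (N + 1) (Q N) - coeff (N + 1) x) * X ^ (N + 1)) := fun N => rfl
  have hE : ∀ N, ∀ k ≤ N, coeff k (Q N) = coeff k x := by
    intro N
    induction N with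
    | zero =>
      intro k hk
      obtain rfl : k = 0 := by omega
      rw [hQ0, coeff_zero_eq_constantCoeff_apply, coeff_zero_eq_constantCoeff_apply, hx, map_one]
    | succ N ih =>
      intro k hk
      rw [hQs, coeff_mul_one_sub]
      by_cases hkN : k ≤ N
      · rw [if_neg (show ¬ (N + 1 ≤ k) by omega), sub_zero, ih k hkN]
      · obtain rfl : k = N + 1 := by omega
        rw [if_pos (le_refl (N + 1)), Nat.sub_self, ih 0 (Nat.zero_le _),
          coeff_zero_eq_constantCoeff_apply, hx]
        ring
  have hPQ : ∀ N, ∏ i ∈ Finset.range N,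
      (1 - C (coeff (i + 1) (Q i) - coeff (i + 1) x) * X ^ (i + 1) : PowerSeries R) = Q N := by
    intro N
    induction N with
    | zero => simp [hQ0]
    | succ N ih => rw [Finset.prod_range_succ, ih, hQs]
  refine ⟨fun N => coeff (N + 1) (Q N) - coeff (N + 1) x, ?_, ?_⟩
  · intro N
    ext k
    rw [coeff_trunc, coeff_trunc, hPQ]
    split_ifs with hk
    · exact (hE (N + 1) k (by omega)).symm
    · rfl
  · intro β hβ
    funext N
    induction N using Nat.strong_induction_on with
    | _ N ih =>
      have hprod : ∏ i ∈ Finset.range N, (1 - C (β i) * X ^ (i + 1) : PowerSeries R) = Q N := by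
        rw [← hPQ N]
        exact Finset.prod_congr rfl fun i hi => by rw [ih i (Finset.mem_range.mp hi)]
      have h1 := congrArg (fun p => Polynomial.coeff p (N + 1)) (hβ N)
      simp only [coeff_trunc] at h1
      rw [if_pos (show N + 1 < N + 2 by omega), if_pos (show N + 1 < N + 2 by omega),
        Finset.prod_range_succ, hprod, coeff_mul_one_sub,
        if_pos (le_refl (N + 1)), Nat.sub_self, hE N 0 (Nat.zero_le _),
        coeff_zero_eq_constantCoeff_apply, hx, mul_one] at h1
      show β N = coeff (N + 1) (Q N) - coeff (N + 1) x
      rw [h1]; ring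

end Groth.Agent.S20018
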