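import Groth.Statements.S20022
import Mathlib

set_option autoImplicit false
universe u
open GrLC

namespace Groth.Agent.S20022

theorem exists_basis_of_isField {k : Type u} [CommRing k] (h : IsField k) (V : Type u)
    [AddCommGroup V] [Module k V] : ∃ (I : Type u) (_ : Module.Basis I k V), True := by
  letI := h.toField
  exact ⟨_, Module.Basis.ofVectorSpace k V, trivial⟩

theorem proj_smul {R M : Type u} [CommRing R] [AddCommGroup M] [Module R M]
    (𝒜 : ℤ → AddSubgroup R) [GradedRing 𝒜]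
    (ℳ : ℤ → AddSubgroup M) [DirectSum.Decomposition ℳ] [SetLike.GradedSMul 𝒜 ℳ]
    (g : R) (r : ℤ) (e : M) (he : e ∈ ℳ r) (N : ℤ) :
    ((DirectSum.decompose ℳ (g • e)) N : M) = ((DirectSum.decompose 𝒜 g) (N - r) : R) • e := by
  classical
  have hdec : g • e = ∑ m ∈ (DirectSum.decompose 𝒜 g).support,
      ((DirectSum.decompose 𝒜 g) m : R) • e := by
    conv_lhs => rw [← DirectSum.sum_support_decompose 𝒜 g]
    rw [Finset.sum_smul]
  obtain ⟨pN, hpN⟩ : ∃ pN : M →+ M, ∀ x, pN x = ((DirectSum.decompose ℳ x) N : M) :=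
    ⟨AddMonoidHom.mk' (fun x => ((DirectSum.decompose ℳ x) N : M)) (by
      intro a b
      simp [DirectSum.decompose_add]), fun x => rfl⟩
  rw [← hpN, hdec, map_sum]
  have hterm : ∀ m : ℤ, pN (((DirectSum.decompose 𝒜 g) m : R) • e) =
      if m = N - r then ((DirectSum.decompose 𝒜 g) m : R) • e else 0 := by
    intro m
    have hmem : ((DirectSum.decompose 𝒜 g) m : R) • e ∈ ℳ (m + r) := by
      have h1 := SetLike.GradedSMul.smul_mem (A := 𝒜) (B := ℳ)
        (SetLike.coe_mem ((DirectSum.decompose 𝒜 g) m)) he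
      rwa [vadd_eq_add] at h1
    rw [hpN]
    split_ifs with h
    · have h' : m + r = N := by omega
      rw [← h']
      exact DirectSum.decompose_of_mem_same ℳ hmem
    · have h' : m + r ≠ N := by omega
      exact DirectSum.decompose_of_mem_ne ℳ hmem h'
  simp_rw [hterm]
  rw [Finset.sum_ite_eq']
  split_ifs with h
  · rfl
  · have h2 : (DirectSum.decompose 𝒜 g) (N - r) = 0 := by simpa using h
    rw [h2]
    simp

/-- Let R be a commutative ℤ-graded ring whose degree-zero subring R_0 is a field k and which is the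
Laurent polynomial ring k[T, T⁻¹] on a homogeneous invertible element T of positive degree d, in the
following intrinsic sense: T is a unit lying in R_d, and every nonzero homogeneous element of degree
n equals a·T^j for some a ∈ R_0 and some integer j with j·d = n (so R_n = 0 unless d divides n, and
R_{jd} = k·T^j). Then every graded R-module M is free in the graded sense: M has an R-basis
consisting of homogeneous elements. (The other case of condition (2), R = k concentrated in degree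
zero, is not included.) -/
theorem result (R : Type u) [CommRing R]
    (𝒜 : ℤ → AddSubgroup R) [GradedRing 𝒜] (h0 : IsField (GrLC.deg0 𝒜))
    (d : ℤ) (hd : 0 < d) (T : Rˣ) (hT : (T : R) ∈ 𝒜 d)
    (hA : ∀ (n : ℤ) (x : R), x ∈ 𝒜 n → x ≠ 0 →
      ∃ j : ℤ, ∃ a ∈ 𝒜 0, j * d = n ∧ x = a * ((T ^ j : Rˣ) : R))
    (M : Type u) [AddCommGroup M] [Module R M] (ℳ : ℤ → AddSubgroup M)
    [DirectSum.Decomposition ℳ] [SetLike.GradedSMul 𝒜 ℳ] :
    ∃ (κ : Type u) (b : Module.Basis κ R M), ∀ i : κ, SetLike.IsHomogeneousElem ℳ (b i) := by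
  classical
  have hTinv : ((T⁻¹ : Rˣ) : R) ∈ 𝒜 (-d) := by
    have h1 := proj_smul 𝒜 𝒜 ((T⁻¹ : Rˣ) : R) d (T : R) hT 0
    have h2 : ((T⁻¹ : Rˣ) : R) • (T : R) = 1 := by rw [smul_eq_mul, Units.inv_mul]
    rw [h2, DirectSum.decompose_of_mem_same 𝒜 (SetLike.GradedOne.one_mem), zero_sub,
      smul_eq_mul] at h1
    have h3 : ((DirectSum.decompose 𝒜 ((T⁻¹ : Rˣ) : R)) (-d) : R) = ((T⁻¹ : Rˣ) : R) := by
      have h4 := congrArg (fun y => y * ((T⁻¹ : Rˣ) : R)) h1
      simp only [one_mul, mul_assoc, Units.mul_inv, mul_one] at h4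
      exact h4.symm
    rw [← h3]
    exact SetLike.coe_mem _
  have hTpow : ∀ j : ℤ, ((T ^ j : Rˣ) : R) ∈ 𝒜 (j * d) := by
    intro j
    obtain ⟨n, rfl | rfl⟩ := Int.eq_nat_or_neg j
    · have h1 := SetLike.pow_mem_graded n hT
      rw [zpow_natCast, Units.val_pow_eq_pow_val]
      have e : (n : ℤ) * d = n • d := by rw [nsmul_eq_mul]
      rw [e]
      exact h1
    · have h1 := SetLike.pow_mem_graded n hTinv
      rw [zpow_neg, zpow_natCast, ← inv_pow, Units.val_pow_eq_pow_val]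
      have e : -(n : ℤ) * d = n • (-d) := by rw [nsmul_eq_mul]; ring
      rw [e]
      exact h1
  choose I b _hb using fun ρ : {ρ : ℤ // 0 ≤ ρ ∧ ρ < d} =>
    exists_basis_of_isField h0 (GrLC.comp 𝒜 ℳ ρ.1)
  obtain ⟨e, he⟩ : ∃ e : (Σ ρ : {ρ : ℤ // 0 ≤ ρ ∧ ρ < d}, I ρ) → M,
      ∀ i, e i = ((b i.1 i.2 : GrLC.comp 𝒜 ℳ i.1.1) : M) := ⟨_, fun i => rfl⟩
  have he_mem : ∀ i, e i ∈ ℳ i.1.1 := fun i => by
    rw [he]
    exact (b i.1 i.2).2
  have hspan : ⊤ ≤ Submodule.span R (Set.range e) := by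
    intro m _
    rw [← DirectSum.sum_support_decompose ℳ m]
    refine Submodule.sum_mem _ (fun n _ => ?_)
    obtain ⟨mn, hmn, hmn'⟩ : ∃ mn : M, mn ∈ ℳ n ∧ mn = ((DirectSum.decompose ℳ m) n : M) :=
      ⟨_, SetLike.coe_mem _, rfl⟩
    rw [← hmn']
    have hρ : 0 ≤ n % d ∧ n % d < d := ⟨Int.emod_nonneg n hd.ne', Int.emod_lt_of_pos n hd⟩
    have hm' : ((T ^ (-(n / d)) : Rˣ) : R) • mn ∈ ℳ (n % d) := by
      have h1 := SetLike.GradedSMul.smul_mem (A := 𝒜) (B := ℳ) (hTpow (-(n / d))) hmn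
      rw [vadd_eq_add] at h1
      have e1 : -(n / d) * d + n = n % d := by
        have h2 := Int.emod_def n d
        linarith
      rwa [e1] at h1
    have key : ∀ x : GrLC.comp 𝒜 ℳ (n % d), (x : M) ∈ Submodule.span R (Set.range e) := by
      intro x
      have hx := (b ⟨n % d, hρ⟩).mem_span x
      induction hx using Submodule.span_induction with
      | mem y hy =>
        obtain ⟨i, rfl⟩ := hy
        exact Submodule.subset_span ⟨⟨⟨n % d, hρ⟩, i⟩, he _⟩
      | zero => simp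
      | add y z _ _ hy hz =>
        rw [Submodule.coe_add]
        exact Submodule.add_mem _ hy hz
      | smul a y _ hy =>
        rw [Submodule.coe_smul, Subring.smul_def]
        exact Submodule.smul_mem _ _ hy
    have h1 := key ⟨_, hm'⟩
    have h2 : mn = ((T ^ (n / d) : Rˣ) : R) • (((T ^ (-(n / d)) : Rˣ) : R) • mn) := by
      rw [smul_smul, ← Units.val_mul, ← zpow_add, add_neg_cancel, zpow_zero, Units.val_one,
        one_smul]
    rw [h2]
    exact Submodule.smul_mem _ _ h1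
  have hli : LinearIndependent R e := by
    rw [linearIndependent_iff']
    intro s g hsum i₀ hi₀
    rw [← DirectSum.sum_support_decompose 𝒜 (g i₀)]
    refine Finset.sum_eq_zero (fun m₀ _ => ?_)
    obtain ⟨ρ₀, x₀⟩ := i₀
    obtain ⟨N, hN⟩ : ∃ N : ℤ, N = m₀ + ρ₀.1 := ⟨_, rfl⟩
    obtain ⟨c, hc⟩ : ∃ c : (Σ ρ : {ρ : ℤ // 0 ≤ ρ ∧ ρ < d}, I ρ) → R,
        ∀ i, c i = ((DirectSum.decompose 𝒜 (g i)) (N - i.1.1) : R) := ⟨_, fun i => rfl⟩
    have hc_mem : ∀ i, c i ∈ 𝒜 (N - i.1.1) := fun i => by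
      rw [hc]
      exact SetLike.coe_mem _
    have hgoal : ((DirectSum.decompose 𝒜 (g ⟨ρ₀, x₀⟩)) m₀ : R) = c ⟨ρ₀, x₀⟩ := by
      rw [hc]
      have h1 : N - ρ₀.1 = m₀ := by rw [hN]; ring
      show _ = ((DirectSum.decompose 𝒜 (g ⟨ρ₀, x₀⟩)) (N - ρ₀.1) : R)
      rw [h1]
    rw [hgoal]
    have hrel : ∑ i ∈ s, c i • e i = 0 := by
      obtain ⟨pN, hpN⟩ : ∃ pN : M →+ M, ∀ x, pN x = ((DirectSum.decompose ℳ x) N : M) :=
        ⟨AddMonoidHom.mk' (fun x => ((DirectSum.decompose ℳ x) N : M)) (by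
          intro a b
          simp [DirectSum.decompose_add]), fun x => rfl⟩
      have h1 := congrArg pN hsum
      rw [map_sum, map_zero] at h1
      rw [← h1]
      refine Finset.sum_congr rfl (fun i _ => ?_)
      rw [hpN, hc]
      exact (proj_smul 𝒜 ℳ (g i) i.1.1 (e i) (he_mem i) N).symm
    by_contra hne
    obtain ⟨j₀, a₀, ha₀, hj₀, hca⟩ := hA _ _ (hc_mem ⟨ρ₀, x₀⟩) hne
    have hj₀' : j₀ * d = N - ρ₀.1 := hj₀
    have hvanish : ∀ i : (Σ ρ : {ρ : ℤ // 0 ≤ ρ ∧ ρ < d}, I ρ), i.1 ≠ ρ₀ → c i = 0 := by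
      intro i hi
      by_contra hci
      obtain ⟨j, a, ha, hj, _⟩ := hA _ _ (hc_mem i) hci
      have hdvd : d ∣ ρ₀.1 - i.1.1 := ⟨j - j₀, by
        rw [mul_sub, mul_comm d j, mul_comm d j₀, hj, hj₀']
        ring⟩
      have habs : |ρ₀.1 - i.1.1| < d :=
        abs_lt.mpr ⟨by linarith [ρ₀.2.1, i.1.2.2], by linarith [ρ₀.2.2, i.1.2.1]⟩
      have h1 := Int.eq_zero_of_abs_lt_dvd hdvd habs
      exact hi (Subtype.ext (by linarith))
    obtain ⟨u, hu⟩ : ∃ u : Rˣ, u = T ^ (-j₀) := ⟨_, rfl⟩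
    have hu_mem : (u : R) ∈ 𝒜 (-j₀ * d) := by
      rw [hu]
      exact hTpow (-j₀)
    have hF : ∑ i ∈ s, ((u : R) * c i) • e i = 0 := by
      have h1 := congrArg (fun x => (u : R) • x) hrel
      simp only [Finset.smul_sum, smul_smul, smul_zero] at h1
      exact h1
    have hpre := Finset.sum_preimage (Sigma.mk ρ₀) s (sigma_mk_injective.injOn)
      (fun i => ((u : R) * c i) • e i) (by
        rintro ⟨ρ, x⟩ _ hi
        have hρ : ρ ≠ ρ₀ := by
          rintro rfl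
          exact hi ⟨x, rfl⟩
        show ((u : R) * c ⟨ρ, x⟩) • e ⟨ρ, x⟩ = 0
        rw [hvanish ⟨ρ, x⟩ hρ, mul_zero, zero_smul])
    rw [hF] at hpre
    have hmem0 : ∀ x : I ρ₀, (u : R) * c ⟨ρ₀, x⟩ ∈ 𝒜 0 := by
      intro x
      have h1 : (u : R) * c ⟨ρ₀, x⟩ ∈ 𝒜 (-j₀ * d + (N - ρ₀.1)) :=
        SetLike.GradedMul.mul_mem hu_mem (hc_mem ⟨ρ₀, x⟩)
      have e1 : -j₀ * d + (N - ρ₀.1) = 0 := by linarith
      rwa [e1] at h1
    have hli0 := (b ρ₀).linearIndependent
    rw [linearIndependent_iff'] at hli0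
    have h0x := hli0 (s.preimage (Sigma.mk ρ₀) sigma_mk_injective.injOn)
      (fun x => (⟨(u : R) * c ⟨ρ₀, x⟩, hmem0 x⟩ : GrLC.deg0 𝒜)) (by
        apply Subtype.ext
        rw [Submodule.coe_sum, Submodule.coe_zero, ← hpre]
        refine Finset.sum_congr rfl (fun x _ => ?_)
        rw [Submodule.coe_smul, Subring.smul_def]
        exact congrArg (fun y => ((u : R) * c ⟨ρ₀, x⟩) • y) (he ⟨ρ₀, x⟩).symm) x₀
      (Finset.mem_preimage.mpr hi₀)
    have h5 : (u : R) * c ⟨ρ₀, x₀⟩ = 0 := congrArg Subtype.val h0x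
    exact hne ((Units.mul_right_eq_zero u).mp h5)
  refine ⟨_, Module.Basis.mk hli hspan, fun i => ?_⟩
  rw [Module.Basis.mk_apply]
  exact ⟨i.1.1, he_mem i⟩

end Groth.Agent.S20022
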