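import Groth.Statements.S20025
import Mathlib

set_option autoImplicit false
universe u
open InvQ

namespace Groth.Agent.S20025

open MvPolynomial in
lemma subst_X {k : Type u} [Field k] (M : Matrix (Fin 2) (Fin 2) k) (i : Fin 2) :
    W4c6intromoduli.subst M (X i) = C (M i 0) * X 0 + C (M i 1) * X 1 := by
  simp [W4c6intromoduli.subst, Fin.sum_univ_two]

lemma prop_of_cross {k : Type u} [Field k] (a b c d : k) (h1 : a ≠ 0 ∨ b ≠ 0) (h2 : c ≠ 0 ∨ d ≠ 0)
    (h : c * b = a * d) : ∃ t, t ≠ 0 ∧ c = t * a ∧ d = t * b := by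
  by_cases ha : a = 0
  · subst ha
    have hb : b ≠ 0 := by
      rcases h1 with h1 | h1
      · exact absurd rfl h1
      · exact h1
    have hc : c = 0 := by
      rw [zero_mul] at h
      exact (mul_eq_zero.mp h).resolve_right hb
    subst hc
    have hd : d ≠ 0 := by
      rcases h2 with h2 | h2
      · exact absurd rfl h2
      · exact h2
    exact ⟨d / b, div_ne_zero hd hb, by simp, (div_mul_cancel₀ d hb).symm⟩
  · have hc : c ≠ 0 := by
      intro hc
      subst hc
      rw [zero_mul] at h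
      have hd : d = 0 := (mul_eq_zero.mp h.symm).resolve_left ha
      rcases h2 with h2 | h2
      · exact h2 rfl
      · exact h2 hd
    refine ⟨c / a, div_ne_zero hc ha, (div_mul_cancel₀ c ha).symm, ?_⟩
    rw [div_mul_eq_mul_div, eq_div_iff ha]
    linear_combination -h

lemma two_zero {k : Type u} [Field k] (u0 u1 x0 x1 y0 y1 : k) (hx : u0 * x0 + u1 * x1 = 0)
    (hy : u0 * y0 + u1 * y1 = 0) (hdet : x0 * y1 - x1 * y0 ≠ 0) : u0 = 0 ∧ u1 = 0 := by
  have h1 : u0 * (x0 * y1 - x1 * y0) = 0 := by linear_combination y1 * hx - x1 * hy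
  have h2 : u1 * (x0 * y1 - x1 * y0) = 0 := by linear_combination x0 * hy - y0 * hx
  exact ⟨(mul_eq_zero.mp h1).resolve_right hdet, (mul_eq_zero.mp h2).resolve_right hdet⟩

lemma zero_of {k : Type u} [Field k] (a0 a1 b0 b1 u0 u1 v0 v1 c1 c2 : k) (hc2 : c2 ≠ 0) (x y : k)
    (h : c1 * ((a0 * x + a1 * y) ^ 2 * (b0 * x + b1 * y) * ((a0 * x + a1 * y) - (b0 * x + b1 * y)))
      = c2 * ((u0 * x + u1 * y) ^ 2 * (v0 * x + v1 * y) ^ 2))
    (hz : (a0 * x + a1 * y) * (b0 * x + b1 * y) * ((a0 * x + a1 * y) - (b0 * x + b1 * y)) = 0) :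
    u0 * x + u1 * y = 0 ∨ v0 * x + v1 * y = 0 := by
  have h0 : c2 * ((u0 * x + u1 * y) ^ 2 * (v0 * x + v1 * y) ^ 2) = 0 := by
    rw [← h]; linear_combination (c1 * (a0 * x + a1 * y)) * hz
  rcases mul_eq_zero.mp h0 with h' | h'
  · exact absurd h' hc2
  · rcases mul_eq_zero.mp h' with h'' | h''
    · exact Or.inl ((pow_eq_zero_iff two_ne_zero).mp h'')
    · exact Or.inr ((pow_eq_zero_iff two_ne_zero).mp h'')

open MvPolynomial in
lemma excl {k : Type u} [Field k] (M1 M2 : Matrix (Fin 2) (Fin 2) k) (c1 c2 : k)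
    (hM1 : IsUnit M1.det) (hM2 : IsUnit M2.det) (hc2 : c2 ≠ 0)
    (e : C c1 * W4c6intromoduli.subst M1 (X 0 ^ 2 * X 1 * (X 0 - X 1))
      = C c2 * W4c6intromoduli.subst M2 (X 0 ^ 2 * X 1 ^ 2)) : False := by
  have hev : ∀ x y : k, c1 * ((M1 0 0 * x + M1 0 1 * y) ^ 2 * (M1 1 0 * x + M1 1 1 * y) *
      ((M1 0 0 * x + M1 0 1 * y) - (M1 1 0 * x + M1 1 1 * y)))
      = c2 * ((M2 0 0 * x + M2 0 1 * y) ^ 2 * (M2 1 0 * x + M2 1 1 * y) ^ 2) := by
    intro x y
    have := congrArg (MvPolynomial.eval ![x, y]) e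
    simpa [subst_X, map_mul, map_pow, map_sub, map_add] using this
  rw [Matrix.det_fin_two, isUnit_iff_ne_zero] at hM1 hM2
  have key : ∀ x y, (M1 0 0 * x + M1 0 1 * y) * (M1 1 0 * x + M1 1 1 * y) *
      ((M1 0 0 * x + M1 0 1 * y) - (M1 1 0 * x + M1 1 1 * y)) = 0 →
      M2 0 0 * x + M2 0 1 * y = 0 ∨ M2 1 0 * x + M2 1 1 * y = 0 :=
    fun x y hz => zero_of _ _ _ _ _ _ _ _ c1 c2 hc2 x y (hev x y) hz
  have h0 := key (M1 0 1) (-M1 0 0) (by ring)
  have h1 := key (M1 1 1) (-M1 1 0) (by ring)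
  have h2 := key (M1 0 1 - M1 1 1) (-(M1 0 0 - M1 1 0)) (by ring)
  have hU : ¬ (M2 0 0 = 0 ∧ M2 0 1 = 0) := by
    rintro ⟨h, h'⟩; apply hM2; rw [h, h']; ring
  have hV : ¬ (M2 1 0 = 0 ∧ M2 1 1 = 0) := by
    rintro ⟨h, h'⟩; apply hM2; rw [h, h']; ring
  have d01 : M1 0 1 * (-M1 1 0) - (-M1 0 0) * M1 1 1 ≠ 0 := by
    intro h; apply hM1; linear_combination h
  have d02 : M1 0 1 * (-(M1 0 0 - M1 1 0)) - (-M1 0 0) * (M1 0 1 - M1 1 1) ≠ 0 := by
    intro h; apply hM1; linear_combination -h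
  have d12 : M1 1 1 * (-(M1 0 0 - M1 1 0)) - (-M1 1 0) * (M1 0 1 - M1 1 1) ≠ 0 := by
    intro h; apply hM1; linear_combination -h
  rcases h0 with h0 | h0 <;> rcases h1 with h1 | h1 <;> rcases h2 with h2 | h2
  all_goals first
    | exact hU (two_zero _ _ _ _ _ _ h0 h1 d01)
    | exact hU (two_zero _ _ _ _ _ _ h0 h2 d02)
    | exact hU (two_zero _ _ _ _ _ _ h1 h2 d12)
    | exact hV (two_zero _ _ _ _ _ _ h0 h1 d01)
    | exact hV (two_zero _ _ _ _ _ _ h0 h2 d02)
    | exact hV (two_zero _ _ _ _ _ _ h1 h2 d12)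

open MvPolynomial in
lemma caseA {k : Type u} [Field k] (li mi ll ml lm mm t : k) (ht : t ≠ 0)
    (hDl : li * ml - ll * mi ≠ 0) (hDm : li * mm - lm * mi ≠ 0) (hE : ll * mm - lm * ml ≠ 0) :
    ∃ (M : Matrix (Fin 2) (Fin 2) k) (c : k), IsUnit M.det ∧ c ≠ 0 ∧
      (C t * (C mi * X 0 - C li * X 1) ^ 2 * (C ml * X 0 - C ll * X 1) * (C mm * X 0 - C lm * X 1) :
        MvPolynomial (Fin 2) k)
        = C c * W4c6intromoduli.subst M (X 0 ^ 2 * X 1 * (X 0 - X 1)) := by
  obtain ⟨x, hx⟩ : ∃ x : k, x * (li * ml - ll * mi) = -(ll * mm - lm * ml) :=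
    ⟨-(ll * mm - lm * ml) / (li * ml - ll * mi), div_mul_cancel₀ _ hDl⟩
  obtain ⟨y, hy⟩ : ∃ y : k, y * (li * ml - ll * mi) = li * mm - lm * mi :=
    ⟨(li * mm - lm * mi) / (li * ml - ll * mi), div_mul_cancel₀ _ hDl⟩
  have hx0 : x ≠ 0 := by
    intro h; rw [h, zero_mul] at hx; exact hE (neg_eq_zero.mp hx.symm)
  have hy0 : y ≠ 0 := by
    intro h; rw [h, zero_mul] at hy; exact hDm hy.symm
  have hxm : x * mi + y * ml = mm := by
    apply mul_right_cancel₀ hDl; linear_combination mi * hx + ml * hy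
  have hxl : x * li + y * ll = lm := by
    apply mul_right_cancel₀ hDl; linear_combination li * hx + ll * hy
  have hxy : x ^ 2 * y ≠ 0 := mul_ne_zero (pow_ne_zero 2 hx0) hy0
  obtain ⟨c, hc⟩ : ∃ c : k, c * (x ^ 2 * y) = -t := ⟨-t / (x ^ 2 * y), div_mul_cancel₀ _ hxy⟩
  have hc0 : c ≠ 0 := by
    intro h; rw [h, zero_mul] at hc; exact ht (neg_eq_zero.mp hc.symm)
  refine ⟨!![x * mi, -(x * li); -(y * ml), y * ll], c, ?_, hc0, ?_⟩
  · rw [Matrix.det_fin_two_of, isUnit_iff_ne_zero]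
    have : x * mi * (y * ll) - -(x * li) * -(y * ml) = -(x * y * (li * ml - ll * mi)) := by ring
    rw [this]
    exact neg_ne_zero.mpr (mul_ne_zero (mul_ne_zero hx0 hy0) hDl)
  · have ht' : t = -(c * (x ^ 2 * y)) := by rw [hc]; ring
    rw [map_mul, map_mul, map_pow, map_sub, subst_X, subst_X]
    have e00 : (!![x * mi, -(x * li); -(y * ml), y * ll] : Matrix (Fin 2) (Fin 2) k) 0 0 = x * mi := rfl
    have e01 : (!![x * mi, -(x * li); -(y * ml), y * ll] : Matrix (Fin 2) (Fin 2) k) 0 1 = -(x * li) := rfl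
    have e10 : (!![x * mi, -(x * li); -(y * ml), y * ll] : Matrix (Fin 2) (Fin 2) k) 1 0 = -(y * ml) := rfl
    have e11 : (!![x * mi, -(x * li); -(y * ml), y * ll] : Matrix (Fin 2) (Fin 2) k) 1 1 = y * ll := rfl
    rw [e00, e01, e10, e11, ht', ← hxm, ← hxl]
    simp only [map_neg, map_mul, map_add, map_pow]
    ring

open MvPolynomial in
lemma caseB {k : Type u} [Field k] (li mi ll ml t t' : k) (ht : t ≠ 0) (ht' : t' ≠ 0)
    (hDl : li * ml - ll * mi ≠ 0) :
    ∃ (M : Matrix (Fin 2) (Fin 2) k) (c : k), IsUnit M.det ∧ c ≠ 0 ∧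
      (C t * (C mi * X 0 - C li * X 1) ^ 2 * (C ml * X 0 - C ll * X 1) *
        (C t' * (C ml * X 0 - C ll * X 1)) : MvPolynomial (Fin 2) k)
        = C c * W4c6intromoduli.subst M (X 0 ^ 2 * X 1 ^ 2) := by
  refine ⟨!![mi, -li; ml, -ll], t * t', ?_, mul_ne_zero ht ht', ?_⟩
  · rw [Matrix.det_fin_two_of, isUnit_iff_ne_zero]
    have : mi * -ll - -li * ml = li * ml - ll * mi := by ring
    rw [this]
    exact hDl
  · have e00 : (!![mi, -li; ml, -ll] : Matrix (Fin 2) (Fin 2) k) 0 0 = mi := rfl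
    have e01 : (!![mi, -li; ml, -ll] : Matrix (Fin 2) (Fin 2) k) 0 1 = -li := rfl
    have e10 : (!![mi, -li; ml, -ll] : Matrix (Fin 2) (Fin 2) k) 1 0 = ml := rfl
    have e11 : (!![mi, -li; ml, -ll] : Matrix (Fin 2) (Fin 2) k) 1 1 = -ll := rfl
    simp only [map_mul, map_pow, subst_X, e00, e01, e10, e11, map_neg]
    ring

/-- For the special fibre of the invariant map, over a field in which 2 and 3 are nonzero, consider a
split binary quartic f = ∏_i (μ_i X₀ − λ_i X₁) given by four root points (λ_i, μ_i) ≠ (0, 0), with a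
double zero (vanishing discriminant ∏_{i<j} (λ_j μ_i − λ_i μ_j)²) and no triple zero (no three root
points pairwise proportional); these are the forms of the fibre over the special point P³/Q² = 6 of
the invariant map. Then exactly one of the two alternatives holds: f is a nonzero constant times the
form X₀² X₁ (X₀ − X₁) after an invertible linear substitution of the variables, or f is a nonzero
constant times X₀² X₁² after such a substitution. So this fibre consists of exactly two classes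
under substitutions and scalars (one double zero and two simple zeros; two double zeros). (The
dimensions of the two orbits and which of them is open or closed in the fibre are not part of this
row; stated for split forms over any such field.) -/
theorem result (k : Type u) [Field k]
    (h2 : (2 : k) ≠ 0) (h3 : (3 : k) ≠ 0) (la mu : Fin 4 → k)
    (hne : ∀ i, la i ≠ 0 ∨ mu i ≠ 0) (hd : W4c6intromoduli.disc la mu = 0)
    (h3z : ∀ i j l : Fin 4, i ≠ j → j ≠ l → i ≠ l →
      ¬ (la i * mu j = la j * mu i ∧ la j * mu l = la l * mu j)) :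
    Xor
      (∃ (M : Matrix (Fin 2) (Fin 2) k) (c : k), IsUnit M.det ∧ c ≠ 0 ∧
        W4c6intromoduli.binForm la mu =
          MvPolynomial.C c * W4c6intromoduli.subst M
            (MvPolynomial.X 0 ^ 2 * MvPolynomial.X 1 * (MvPolynomial.X 0 - MvPolynomial.X 1)))
      (∃ (M : Matrix (Fin 2) (Fin 2) k) (c : k), IsUnit M.det ∧ c ≠ 0 ∧
        W4c6intromoduli.binForm la mu =
          MvPolynomial.C c * W4c6intromoduli.subst M
            (MvPolynomial.X 0 ^ 2 * MvPolynomial.X 1 ^ 2)) := by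
  classical
  have hexcl : (∃ (M : Matrix (Fin 2) (Fin 2) k) (c : k), IsUnit M.det ∧ c ≠ 0 ∧
        W4c6intromoduli.binForm la mu =
          MvPolynomial.C c * W4c6intromoduli.subst M
            (MvPolynomial.X 0 ^ 2 * MvPolynomial.X 1 * (MvPolynomial.X 0 - MvPolynomial.X 1))) →
      (∃ (M : Matrix (Fin 2) (Fin 2) k) (c : k), IsUnit M.det ∧ c ≠ 0 ∧
        W4c6intromoduli.binForm la mu =
          MvPolynomial.C c * W4c6intromoduli.subst M
            (MvPolynomial.X 0 ^ 2 * MvPolynomial.X 1 ^ 2)) → False := by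
    rintro ⟨M1, c1, hM1, hc1, e1⟩ ⟨M2, c2, hM2, hc2, e2⟩
    exact excl M1 M2 c1 c2 hM1 hM2 hc2 (e1.symm.trans e2)
  have hex : (∃ (M : Matrix (Fin 2) (Fin 2) k) (c : k), IsUnit M.det ∧ c ≠ 0 ∧
        W4c6intromoduli.binForm la mu =
          MvPolynomial.C c * W4c6intromoduli.subst M
            (MvPolynomial.X 0 ^ 2 * MvPolynomial.X 1 * (MvPolynomial.X 0 - MvPolynomial.X 1))) ∨
      (∃ (M : Matrix (Fin 2) (Fin 2) k) (c : k), IsUnit M.det ∧ c ≠ 0 ∧
        W4c6intromoduli.binForm la mu =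
          MvPolynomial.C c * W4c6intromoduli.subst M
            (MvPolynomial.X 0 ^ 2 * MvPolynomial.X 1 ^ 2)) := by
    have hd' := hd
    unfold W4c6intromoduli.disc at hd'
    rw [Finset.prod_eq_zero_iff] at hd'
    obtain ⟨⟨i, j⟩, hp, hpz⟩ := hd'
    simp only [Finset.mem_filter, Finset.mem_univ, true_and] at hp
    dsimp only at hp hpz
    have hij : i ≠ j := ne_of_lt hp
    have hcross : la j * mu i = la i * mu j :=
      sub_eq_zero.mp ((pow_eq_zero_iff two_ne_zero).mp hpz)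
    obtain ⟨t, ht, hlj, hmj⟩ :=
      prop_of_cross (la i) (mu i) (la j) (mu j) (hne i) (hne j) hcross
    have hcard : ((Finset.univ.erase i).erase j).card = 2 := by
      rw [Finset.card_erase_of_mem (Finset.mem_erase.mpr ⟨hij.symm, Finset.mem_univ _⟩),
        Finset.card_erase_of_mem (Finset.mem_univ _)]
      simp
    obtain ⟨l, m, hlm, hset⟩ := Finset.card_eq_two.mp hcard
    have hl : l ∈ (Finset.univ.erase i).erase j := by rw [hset]; simp
    have hm : m ∈ (Finset.univ.erase i).erase j := by rw [hset]; simp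
    simp only [Finset.mem_erase, Finset.mem_univ, and_true] at hl hm
    obtain ⟨L, hL⟩ : ∃ L : Fin 4 → MvPolynomial (Fin 2) k,
        L = fun i => MvPolynomial.C (mu i) * MvPolynomial.X 0 - MvPolynomial.C (la i) * MvPolynomial.X 1 :=
      ⟨_, rfl⟩
    have hbin : W4c6intromoduli.binForm la mu = ∏ i, L i := by rw [hL]; rfl
    have hprod : ∏ i, L i = L i * (L j * (L l * L m)) := by
      rw [← Finset.mul_prod_erase Finset.univ L (Finset.mem_univ i),
        ← Finset.mul_prod_erase (Finset.univ.erase i) L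
          (Finset.mem_erase.mpr ⟨hij.symm, Finset.mem_univ j⟩), hset, Finset.prod_pair hlm]
    have hLj : L j = MvPolynomial.C t * L i := by
      simp only [hL]
      rw [hlj, hmj]
      simp only [map_mul]
      ring
    have hform : W4c6intromoduli.binForm la mu =
        MvPolynomial.C t * (MvPolynomial.C (mu i) * MvPolynomial.X 0 - MvPolynomial.C (la i) * MvPolynomial.X 1) ^ 2
          * (MvPolynomial.C (mu l) * MvPolynomial.X 0 - MvPolynomial.C (la l) * MvPolynomial.X 1)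
          * (MvPolynomial.C (mu m) * MvPolynomial.X 0 - MvPolynomial.C (la m) * MvPolynomial.X 1) := by
      rw [hbin, hprod, hLj]
      simp only [hL]
      ring
    have hDl : la i * mu l - la l * mu i ≠ 0 := by
      intro h
      apply h3z i j l hij hl.1.symm hl.2.symm
      refine ⟨hcross.symm, ?_⟩
      rw [hlj, hmj]; linear_combination t * h
    have hDm : la i * mu m - la m * mu i ≠ 0 := by
      intro h
      apply h3z i j m hij hm.1.symm hm.2.symm
      refine ⟨hcross.symm, ?_⟩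
      rw [hlj, hmj]; linear_combination t * h
    by_cases hE : la l * mu m - la m * mu l = 0
    · right
      obtain ⟨t', ht', hlm', hmm'⟩ :=
        prop_of_cross (la l) (mu l) (la m) (mu m) (hne l) (hne m) (by linear_combination -hE)
      obtain ⟨M, c, hM, hc, hid⟩ := caseB (la i) (mu i) (la l) (mu l) t t' ht ht' hDl
      refine ⟨M, c, hM, hc, ?_⟩
      rw [hform, ← hid, hlm', hmm']
      simp only [map_mul]
      ring
    · left
      obtain ⟨M, c, hM, hc, hid⟩ :=
        caseA (la i) (mu i) (la l) (mu l) (la m) (mu m) t ht hDl hDm hE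
      exact ⟨M, c, hM, hc, by rw [hform, ← hid]⟩
  rcases hex with h | h
  · exact Or.inl ⟨h, fun h' => hexcl h h'⟩
  · exact Or.inr ⟨h, fun h' => hexcl h' h⟩

end Groth.Agent.S20025
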