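import Groth.Statements.S2012
import Mathlib

set_option autoImplicit false
universe u
open EtAlg

namespace Groth.Agent.S2012

/-- Let A be a ring and I an ideal contained in its Jacobson radical. Let B be an A-algebra which is
flat, integral and of finite presentation over A and such that A/I -> B/IB is bijective. Then A -> B
is bijective. -/
theorem result (A B : Type u) [CommRing A] [CommRing B] [Algebra A B]
    (I : Ideal A) (hI : I ≤ (⊥ : Ideal A).jacobson) [Module.Flat A B] [Algebra.IsIntegral A B] [Algebra.FinitePresentation A B]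
    (hq : Function.Bijective (Ideal.quotientMap (I.map (algebraMap A B)) (algebraMap A B) Ideal.le_comap_map)) :
    Function.Bijective (algebraMap A B) := by
  haveI : Module.Finite A B := Algebra.IsIntegral.finite
  have hsurj : Function.Surjective (algebraMap A B) := by
    have htop : (⊤ : Submodule A B) ≤ LinearMap.range (Algebra.linearMap A B) := by
      apply Submodule.le_of_le_smul_of_le_jacobson_bot (I := I) Module.Finite.fg_top hI
      intro b _
      obtain ⟨abar, ha⟩ := hq.2 (Ideal.Quotient.mk _ b)
      obtain ⟨a, rfl⟩ := Ideal.Quotient.mk_surjective abar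
      rw [Ideal.quotientMap_mk, Ideal.Quotient.eq] at ha
      have hmem : b - algebraMap A B a ∈ I • (⊤ : Submodule A B) := by
        rw [Ideal.smul_top_eq_map]
        have := (I.map (algebraMap A B)).neg_mem ha
        simpa using this
      have hb : b = algebraMap A B a + (b - algebraMap A B a) := by ring
      rw [hb]
      exact Submodule.add_mem_sup ⟨a, rfl⟩ hmem
    intro b
    obtain ⟨a, ha⟩ := htop (Submodule.mem_top : b ∈ ⊤)
    exact ⟨a, ha⟩
  refine ⟨?_, hsurj⟩
  have hsurj' : Function.Surjective (Algebra.ofId A B) := hsurj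
  set K : Ideal A := RingHom.ker (Algebra.ofId A B) with hK
  have hKmem : ∀ k, k ∈ K ↔ algebraMap A B k = 0 := fun k => Iff.rfl
  have hKfg : K.FG := Algebra.FinitePresentation.ker_fG_of_surjective (Algebra.ofId A B) hsurj'
  have hKI : K ≤ I := by
    intro k hk
    have h0 : Ideal.quotientMap (I.map (algebraMap A B)) (algebraMap A B) Ideal.le_comap_map
        (Ideal.Quotient.mk I k) =
        Ideal.quotientMap (I.map (algebraMap A B)) (algebraMap A B) Ideal.le_comap_map 0 := by
      rw [Ideal.quotientMap_mk, map_zero, (hKmem k).mp hk, map_zero]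
    have := hq.1 h0
    exact Ideal.Quotient.eq_zero_iff_mem.mp this
  haveI : Module.Flat A (A ⧸ K) :=
    Module.Flat.of_linearEquiv (Ideal.quotientKerAlgEquivOfSurjective hsurj').toLinearEquiv
  have hmul : K ⊓ I = K * I := Ideal.inf_eq_mul_of_pure K I
  have hKle : K ≤ I • K := by
    rw [smul_eq_mul, mul_comm, ← hmul]; exact le_inf le_rfl hKI
  have hbot : K = ⊥ := Submodule.eq_bot_of_le_smul_of_le_jacobson_bot I K hKfg hKle hI
  rw [injective_iff_map_eq_zero]
  intro a ha
  have : a ∈ K := (hKmem a).mpr ha
  rw [hbot] at this
  simpa using this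

end Groth.Agent.S2012
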