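import Groth.Statements.S2014
import Mathlib

set_option autoImplicit false
universe u
open EtAlg

namespace Groth.Agent.S2014

/-- Let R be a Noetherian local ring of Krull dimension 1 and x an element of the maximal ideal
contained in no minimal prime of R. Then the number of minimal prime ideals of R is at most the
length of R/xR as an R-module. -/
theorem result (R : Type u) [CommRing R] [IsNoetherianRing R] [IsLocalRing R]
    (hdim : ringKrullDim R = 1) (x : R) (hx : x ∈ IsLocalRing.maximalIdeal R) (hmin : ∀ p ∈ minimalPrimes R, x ∉ p) :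
    (Set.ncard (minimalPrimes R) : ℕ∞) ≤ Module.length R (R ⧸ Ideal.span {x}) := by
  classical
  have hlen : ∀ (J J' : Ideal R), J ≤ J' → J ≠ J' →
      Module.length R (R ⧸ J') + 1 ≤ Module.length R (R ⧸ J) := by
    intro J J' hle hne
    obtain ⟨g, hg⟩ : ∃ g : (R ⧸ J) →ₗ[R] (R ⧸ J'),
        ∀ a : R, g (Ideal.Quotient.mk J a) = Ideal.Quotient.mk J' a :=
      ⟨Submodule.factor hle, fun a => Submodule.factor_mk hle a⟩
    have hsurj : Function.Surjective g := by
      intro y
      obtain ⟨a, rfl⟩ := Ideal.Quotient.mk_surjective y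
      exact ⟨Ideal.Quotient.mk J a, hg a⟩
    have hadd := Module.length_eq_add_of_exact (LinearMap.ker g).subtype g
      (Submodule.subtype_injective _) hsurj (LinearMap.exact_subtype_ker_map g)
    have hnt : Nontrivial (LinearMap.ker g) := by
      obtain ⟨a, haJ', haJ⟩ : ∃ a, a ∈ J' ∧ a ∉ J := by
        by_contra hcon
        push_neg at hcon
        exact hne (le_antisymm hle hcon)
      refine ⟨⟨⟨Ideal.Quotient.mk J a, ?_⟩, 0, ?_⟩⟩
      · rw [LinearMap.mem_ker, hg a]; exact Ideal.Quotient.eq_zero_iff_mem.mpr haJ'
      · intro h0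
        have h1 := congrArg Subtype.val h0
        exact haJ (Ideal.Quotient.eq_zero_iff_mem.mp h1)
    have hpos : 1 ≤ Module.length R (LinearMap.ker g) :=
      Order.one_le_iff_pos.mpr Module.length_pos
    rw [hadd, add_comm]
    gcongr
  have hfin : (minimalPrimes R).Finite := minimalPrimes.finite_of_isNoetherianRing R
  have hjac : Ideal.span {x} ≤ Ideal.jacobson ⊥ := by
    rw [IsLocalRing.jacobson_eq_maximalIdeal ⊥ bot_ne_top, Ideal.span_le,
      Set.singleton_subset_iff]
    exact hx
  have key : ∀ T : Finset (Ideal R), (∀ q ∈ T, q ∈ minimalPrimes R) →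
      (T.card : ℕ∞) ≤ Module.length R (R ⧸ (T.inf id ⊔ Ideal.span {x})) := by
    intro T
    induction T using Finset.induction_on with
    | empty => intro _; simp
    | insert q T' hq ih =>
      intro hT
      have hT' : ∀ q' ∈ T', q' ∈ minimalPrimes R :=
        fun q' hq' => hT q' (Finset.mem_insert_of_mem hq')
      have hqmin : q ∈ minimalPrimes R := hT q (Finset.mem_insert_self q T')
      have ih' := ih hT'
      rw [Finset.card_insert_of_notMem hq, Finset.inf_insert, id]
      have hne : q ⊓ T'.inf id ⊔ Ideal.span {x} ≠ T'.inf id ⊔ Ideal.span {x} := by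
        intro heq
        have hI_le : T'.inf id ≤ (q ⊓ T'.inf id) ⊔ Ideal.span {x} • (T'.inf id) := by
          intro a ha
          have ha' : a ∈ q ⊓ T'.inf id ⊔ Ideal.span {x} := by
            rw [heq]; exact Ideal.mem_sup_left ha
          obtain ⟨b, hb, y, hy, rfl⟩ := Submodule.mem_sup.mp ha'
          obtain ⟨c, rfl⟩ := Ideal.mem_span_singleton'.mp hy
          have hcx : c * x ∈ T'.inf id := by
            have h2 := (T'.inf id).sub_mem ha hb.2
            simpa using h2
          have hc : c ∈ T'.inf id := by
            rw [Submodule.mem_finsetInf] at hcx ⊢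
            intro q' hq'
            have hq'prime : q'.IsPrime := (hT' q' hq').1.1
            rcases hq'prime.mem_or_mem (hcx q' hq') with h | h
            · exact h
            · exact absurd h (hmin q' (hT' q' hq'))
          refine Submodule.add_mem_sup hb ?_
          rw [mul_comm]
          exact Submodule.smul_mem_smul (Ideal.subset_span rfl) hc
        have hI_le_q : T'.inf id ≤ q ⊓ T'.inf id :=
          Submodule.le_of_le_smul_of_le_jacobson_bot (IsNoetherian.noetherian _) hjac hI_le
        have hIq : T'.inf id ≤ q := hI_le_q.trans inf_le_left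
        have hqprime : q.IsPrime := hqmin.1.1
        obtain ⟨q', hq'T, hq'q⟩ := (Ideal.IsPrime.inf_le' hqprime).mp hIq
        have hq'min := hT' q' hq'T
        have hqq : q' = q := le_antisymm hq'q (hqmin.2 ⟨hq'min.1.1, bot_le⟩ hq'q)
        exact hq (hqq ▸ hq'T)
      have hstep := hlen (q ⊓ T'.inf id ⊔ Ideal.span {x}) (T'.inf id ⊔ Ideal.span {x})
        (sup_le_sup_right inf_le_right _) hne
      calc ((T'.card + 1 : ℕ) : ℕ∞) = (T'.card : ℕ∞) + 1 := Nat.cast_succ _
        _ ≤ Module.length R (R ⧸ (T'.inf id ⊔ Ideal.span {x})) + 1 := by gcongr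
        _ ≤ _ := hstep
  have h1 := key hfin.toFinset (fun q hq => hfin.mem_toFinset.mp hq)
  rw [Set.ncard_eq_toFinset_card _ hfin]
  refine h1.trans ?_
  exact Module.length_le_of_surjective (Submodule.factor le_sup_right)
    (Submodule.factor_surjective _)

end Groth.Agent.S2014
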