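import Groth.Statements.S2017
import Mathlib

set_option autoImplicit false
universe u
open EtAlg

namespace Groth.Agent.S2017

/-- Let R be a Noetherian ring, A, B, C R-algebras of finite type, f : A -> B a surjective R-algebra map
and g : C -> B an R-algebra map making B a finite C-module. Then the fibre product A ×_B C (the
equalizer of f ∘ pr₁ and g ∘ pr₂ in A × C) is an R-algebra of finite type. -/
theorem result (R A B C : Type u) [CommRing R] [IsNoetherianRing R] [CommRing A] [CommRing B]
    [CommRing C] [Algebra R A] [Algebra R B] [Algebra R C] [Algebra.FiniteType R A] [Algebra.FiniteType R B]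
    [Algebra.FiniteType R C] (f : A →ₐ[R] B) (hf : Function.Surjective f) (g : C →ₐ[R] B)
    (hg : (g.toRingHom).Finite) :
    Algebra.FiniteType R ↥(AlgHom.equalizer (f.comp (AlgHom.fst R A C)) (g.comp (AlgHom.snd R A C))) := by
  classical
  set D := AlgHom.equalizer (f.comp (AlgHom.fst R A C)) (g.comp (AlgHom.snd R A C)) with hD
  have hmemD : ∀ p : A × C, p ∈ D ↔ f p.1 = g p.2 := fun p => Iff.rfl
  letI : Algebra C B := g.toRingHom.toAlgebra
  have hfin : Module.Finite C B := hg
  obtain ⟨s, hs⟩ := hfin.fg_top
  choose aof haof using hf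
  have hAC : (⊤ : Subalgebra R (A × C)).FG :=
    (inferInstance : Algebra.FiniteType R (A × C)).out
  have hBC : (⊤ : Submodule D (A × C)).FG := by
    rw [Submodule.fg_def]
    refine ⟨(fun b => ((aof b, (0:C)) : A × C)) '' (s : Set B) ∪
      {((1:A),(0:C)), ((0:A),(1:C))}, ?_, ?_⟩
    · exact (s.finite_toSet.image _).union (Set.toFinite _)
    · rw [eq_top_iff]
      rintro ⟨a, c⟩ -
      set G : Set (A × C) := (fun b => ((aof b, (0:C)) : A × C)) '' (s : Set B) ∪
        {((1:A),(0:C)), ((0:A),(1:C))} with hG
      have h01 : ((0:A),(1:C)) ∈ Submodule.span D G :=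
        Submodule.subset_span (Or.inr (by simp))
      have h10 : ((1:A),(0:C)) ∈ Submodule.span D G :=
        Submodule.subset_span (Or.inr (by simp))
      have hb : ∀ b ∈ s, ((aof b, (0:C)) : A × C) ∈ Submodule.span D G :=
        fun b hb => Submodule.subset_span (Or.inl ⟨b, hb, rfl⟩)
      have h2 : ((0:A), c) ∈ Submodule.span D G := by
        have hd : ((aof (g c), c) : A × C) ∈ D := (hmemD _).mpr (haof _)
        have : ((0:A), c) = (⟨(aof (g c), c), hd⟩ : D) • ((0:A),(1:C)) := by
          rw [Subalgebra.smul_def]
          ext <;> simp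
        rw [this]; exact Submodule.smul_mem _ _ h01
      have h1 : (a, (0:C)) ∈ Submodule.span D G := by
        have hfa : f a ∈ Submodule.span C (s : Set B) := by rw [hs]; trivial
        obtain ⟨φ, -, hφ⟩ := Submodule.mem_span_finset.mp hfa
        have hdb : ∀ b, ((aof (g (φ b)), φ b) : A × C) ∈ D := fun b => (hmemD _).mpr (haof _)
        have hx : f (a - ∑ b ∈ s, aof (g (φ b)) * aof b) = 0 := by
          rw [map_sub, map_sum, ← hφ, sub_eq_zero]
          apply Finset.sum_congr rfl
          intro b _
          rw [map_mul, haof, haof, Algebra.smul_def]; rfl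
        have hdx : ((a - ∑ b ∈ s, aof (g (φ b)) * aof b, (0:C)) : A × C) ∈ D :=
          (hmemD _).mpr (by simp [hx])
        have : ((a, (0:C)) : A × C) =
            ∑ b ∈ s, (⟨_, hdb b⟩ : D) • ((aof b, (0:C)) : A × C) +
              (⟨_, hdx⟩ : D) • ((1:A),(0:C)) := by
          simp only [Subalgebra.smul_def]
          ext
          · simp [Prod.fst_sum]
          · simp [Prod.snd_sum]
        rw [this]
        exact Submodule.add_mem _ (Submodule.sum_mem _
          (fun b hb' => Submodule.smul_mem _ _ (hb b hb'))) (Submodule.smul_mem _ _ h10)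
      have : ((a, c) : A × C) = (a, 0) + (0, c) := by simp
      rw [this]; exact Submodule.add_mem _ h1 h2
  have := fg_of_fg_of_fg R D (A × C) hAC hBC Subtype.val_injective
  exact ⟨this⟩

end Groth.Agent.S2017
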