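import Groth.Statements.S2018
import Mathlib
-- import your own Groth.Agent.* helpers here

set_option autoImplicit false
universe u
open EtAlg

namespace Groth.Agent.S2018

/-- Let g : A' -> A be a surjective ring map and f : B -> A an integral ring map. Then the projection
from the fibre product B ×_A A' (the equalizer of f ∘ pr₁ and g ∘ pr₂ in B × A') to A' is integral. -/
theorem result (A A' B : Type u) [CommRing A] [CommRing A'] [CommRing B] (g : A' →+* A)
    (hg : Function.Surjective g) (f : B →+* A) (hf : f.IsIntegral) :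
    ((RingHom.snd B A').comp ((f.comp (RingHom.fst B A')).eqLocus (g.comp (RingHom.snd B A'))).subtype).IsIntegral := by
  intro a'
  let R := (f.comp (RingHom.fst B A')).eqLocus (g.comp (RingHom.snd B A'))
  let φ : R →+* A' := (RingHom.snd B A').comp R.subtype
  let ψ : R →+* B := (RingHom.fst B A').comp R.subtype
  show φ.IsIntegralElem a'
  have hcomm : f.comp ψ = g.comp φ := by
    ext r
    exact r.2
  have hψ : Function.Surjective ψ := by
    intro b
    obtain ⟨c, hc⟩ := hg (f b)
    exact ⟨⟨(b, c), by show f b = g c; exact hc.symm⟩, rfl⟩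
  have hker : ∀ ε : A', g ε = 0 → ∃ r : R, φ r = ε := by
    intro ε hε
    exact ⟨⟨(0, ε), by show f 0 = g ε; rw [map_zero, hε]⟩, rfl⟩
  rcases subsingleton_or_nontrivial B with hB | hB
  · have h0 : g a' = 0 := by
      have h1 : (1 : A) = 0 := by rw [← map_one f, Subsingleton.elim (1 : B) 0, map_zero]
      calc g a' = g a' * 1 := (mul_one _).symm
        _ = 0 := by rw [h1, mul_zero]
    obtain ⟨r, hr⟩ := hker a' h0
    rw [← hr]
    exact RingHom.isIntegralElem_map φ
  · have hRn : Nontrivial R := hψ.nontrivial
    obtain ⟨p, hp, hp0⟩ := hf (g a')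
    have hp1 : (p * Polynomial.X).Monic := hp.mul Polynomial.monic_X
    have hdeg : (p * Polynomial.X).natDegree = p.natDegree + 1 := by
      rw [hp.natDegree_mul Polynomial.monic_X, Polynomial.natDegree_X]
    obtain ⟨q, hq, hqdeg, hqm⟩ := Polynomial.lifts_and_natDegree_eq_and_monic
      (Polynomial.mem_lifts_of_surjective hψ _) hp1
    have hev : g (Polynomial.eval₂ φ a' q) = 0 := by
      rw [Polynomial.hom_eval₂, ← hcomm, ← Polynomial.eval₂_map, hq, Polynomial.eval₂_mul, hp0,
        zero_mul]
    obtain ⟨r, hr⟩ := hker _ hev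
    refine ⟨q - Polynomial.C r, ?_, ?_⟩
    · apply hqm.sub_of_left
      calc (Polynomial.C r).degree ≤ 0 := Polynomial.degree_C_le
        _ < q.degree := by
          rw [Polynomial.degree_eq_natDegree hqm.ne_zero, hqdeg, hdeg]
          exact_mod_cast Nat.succ_pos _
    · rw [Polynomial.eval₂_sub, Polynomial.eval₂_C, hr, sub_self]

end Groth.Agent.S2018
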