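import Groth.Statements.S2042
import Mathlib
import Groth.Agent.Lib.helper1.HensStage
import Groth.Agent.Lib.helper1.HenselPair
import Groth.Agent.Lib.helper1.EtaleNbhd

set_option autoImplicit false
universe u
open CAlg

namespace Groth.Agent.S2042

open Polynomial

noncomputable def genP (d : ℕ) {T : Type*} [CommRing T] (c : Fin d → T) : T[X] :=
  X ^ d + ∑ a : Fin d, C (c a) * X ^ (a : ℕ)

theorem genP_map (d : ℕ) {T T' : Type*} [CommRing T] [CommRing T'] (φ : T →+* T')
    (c : Fin d → T) : (genP d c).map φ = genP d (fun a => φ (c a)) := by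
  simp [genP, Polynomial.map_sum]

theorem genP_monic (d : ℕ) {T : Type*} [CommRing T] (c : Fin d → T) : (genP d c).Monic :=
  monic_X_pow_add (degree_sum_fin_lt c)

theorem genP_natDegree_le (d : ℕ) {T : Type*} [CommRing T] (c : Fin d → T) :
    (genP d c).natDegree ≤ d := by
  unfold genP
  refine natDegree_add_le_of_degree_le (natDegree_X_pow_le d) ?_
  exact natDegree_le_of_degree_le (le_of_lt (degree_sum_fin_lt c))

theorem eq_genP_of_monic {T : Type*} [CommRing T] (Q : T[X]) (hQ : Q.Monic) :
    Q = genP Q.natDegree (fun a => Q.coeff a) := by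
  unfold genP
  conv_lhs => rw [hQ.as_sum]
  rw [Finset.sum_range]

theorem hgen {A : Type u} [CommRing A] (f : A[X]) (dg dh : ℕ) {T : Type u} [CommRing T]
    [Algebra A T] (w : Fin dg ⊕ Fin dh → T) (l : ℕ) :
    MvPolynomial.aeval w
      ((genP dg (fun a => (MvPolynomial.X (Sum.inl a) : MvPolynomial (Fin dg ⊕ Fin dh) A)) *
        genP dh (fun b => (MvPolynomial.X (Sum.inr b) : MvPolynomial (Fin dg ⊕ Fin dh) A)) -
        f.map (algebraMap A (MvPolynomial (Fin dg ⊕ Fin dh) A))).coeff l) =
    (genP dg (fun a => w (Sum.inl a)) * genP dh (fun b => w (Sum.inr b)) -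
      f.map (algebraMap A T)).coeff l := by
  have e : ((genP dg (fun a => (MvPolynomial.X (Sum.inl a) : MvPolynomial (Fin dg ⊕ Fin dh) A)) *
        genP dh (fun b => (MvPolynomial.X (Sum.inr b) : MvPolynomial (Fin dg ⊕ Fin dh) A)) -
        f.map (algebraMap A (MvPolynomial (Fin dg ⊕ Fin dh) A))).map
          ((MvPolynomial.aeval w : MvPolynomial (Fin dg ⊕ Fin dh) A →ₐ[A] T) :
            MvPolynomial (Fin dg ⊕ Fin dh) A →+* T)) =
      genP dg (fun a => w (Sum.inl a)) * genP dh (fun b => w (Sum.inr b)) -
        f.map (algebraMap A T) := by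
    rw [Polynomial.map_sub, Polynomial.map_mul, genP_map, genP_map, Polynomial.map_map,
      AlgHom.comp_algebraMap]
    simp only [RingHom.coe_coe, MvPolynomial.aeval_X]
  rw [← e, Polynomial.coeff_map]
  rfl


open Polynomial in
/-- Let `I ⊆ A` be an ideal and `f ∈ A[X]` monic whose image in `(A/I)[X]` factors as a product of two
monic polynomials generating the unit ideal. Then over some étale `A`-algebra `A'` with `A/I →
A'/IA'` bijective, `f` factors as a product of two monic polynomials lifting the given factors. -/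
theorem result {A : Type u} [CommRing A] (I : Ideal A) (f : A[X])
    (hf : f.Monic) (g h : (A ⧸ I)[X]) (hg : g.Monic) (hh : h.Monic) (hcop : IsCoprime g h)
    (hfgh : f.map (Ideal.Quotient.mk I) = g * h) :
    ∃ (A' : Type u) (_ : CommRing A') (_ : Algebra A A'), Algebra.Etale A A' ∧
      Function.Bijective (algebraMap (A ⧸ I) (A' ⧸ I.map (algebraMap A A'))) ∧
      ∃ g' h' : A'[X], g'.Monic ∧ h'.Monic ∧ f.map (algebraMap A A') = g' * h' ∧
        g'.map (Ideal.Quotient.mk (I.map (algebraMap A A'))) =
          g.map (algebraMap (A ⧸ I) (A' ⧸ I.map (algebraMap A A'))) ∧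
        h'.map (Ideal.Quotient.mk (I.map (algebraMap A A'))) =
          h.map (algebraMap (A ⧸ I) (A' ⧸ I.map (algebraMap A A'))) := by
  classical
  rcases subsingleton_or_nontrivial (A ⧸ I) with hsub | hnt
  · have hItop : I = ⊤ := Ideal.Quotient.subsingleton_iff.mp hsub
    haveI : Subsingleton (A ⧸ I.map (algebraMap A A)) := by
      rw [Ideal.Quotient.subsingleton_iff, hItop, Ideal.map_top]
    refine ⟨A, inferInstance, inferInstance, inferInstance, ?_, f.map (algebraMap A A), 1, hf.map _,
      monic_one, (mul_one _).symm, Subsingleton.elim _ _, Subsingleton.elim _ _⟩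
    exact ⟨fun x y _ => Subsingleton.elim x y, fun y => ⟨0, Subsingleton.elim _ _⟩⟩
  haveI : HenselianRing (Helper1.Hens A I) (I.map (algebraMap A (Helper1.Hens A I))) :=
    Helper1.Hens.henselian A I
  have hG : Helper1.GabberCond (I.map (algebraMap A (Helper1.Hens A I))) :=
    Helper1.gabberCond_of_henselianRing _
  haveI : Nontrivial (Helper1.Hens A I) :=
    (Helper1.Hens.section' A I).toRingHom.domain_nontrivial
  let χ : A ⧸ I →+* Helper1.Hens A I ⧸ (I.map (algebraMap A (Helper1.Hens A I))) :=
    Ideal.quotientMap _ (algebraMap A (Helper1.Hens A I)) Ideal.le_comap_map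
  have hχ : χ.comp (Ideal.Quotient.mk I) =
      (Ideal.Quotient.mk (I.map (algebraMap A (Helper1.Hens A I)))).comp
        (algebraMap A (Helper1.Hens A I)) := RingHom.ext fun a => rfl
  have hfac : (f.map (algebraMap A (Helper1.Hens A I))).map
      (Ideal.Quotient.mk (I.map (algebraMap A (Helper1.Hens A I)))) = g.map χ * h.map χ := by
    rw [Polynomial.map_map, ← hχ, ← Polynomial.map_map, hfgh, Polynomial.map_mul]
  obtain ⟨G', H', hG'm, hH'm, hfGH, hG'map, hH'map⟩ :=
    Helper1.monic_factor_lift_of_gabber _ hG (f.map (algebraMap A (Helper1.Hens A I))) (hf.map _)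
      (g.map χ) (h.map χ) (hg.map _) (hh.map _) (hcop.map (Polynomial.mapRingHom χ)) hfac
  have hsec : ∀ (P : (Helper1.Hens A I)[X]) (p : (A ⧸ I)[X]),
      P.map (Ideal.Quotient.mk (I.map (algebraMap A (Helper1.Hens A I)))) = p.map χ →
      P.map (Helper1.Hens.section' A I : Helper1.Hens A I →+* A ⧸ I) = p := by
    intro P p hPp
    ext a
    rw [Polynomial.coeff_map]
    have h1 := congrArg (fun q => Polynomial.coeff q a) hPp
    simp only [Polynomial.coeff_map] at h1
    obtain ⟨ã, hã⟩ := Ideal.Quotient.mk_surjective (p.coeff a)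
    rw [← hã] at h1 ⊢
    have h2 : P.coeff a - algebraMap A (Helper1.Hens A I) ã ∈
        I.map (algebraMap A (Helper1.Hens A I)) := by
      rw [← Ideal.Quotient.eq]
      exact h1
    rw [← Helper1.Hens.ker_section, RingHom.mem_ker, map_sub, sub_eq_zero, AlgHom.commutes,
      Ideal.Quotient.algebraMap_eq] at h2
    exact h2
  set dg := G'.natDegree with hdg
  set dh := H'.natDegree with hdh
  have hN : f.natDegree = dg + dh := by
    have h1 := congrArg Polynomial.natDegree hfGH
    rw [hf.natDegree_map, hG'm.natDegree_mul hH'm] at h1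
    exact h1
  let z : Fin dg ⊕ Fin dh → Helper1.Hens A I :=
    Sum.elim (fun a => G'.coeff a) (fun b => H'.coeff b)
  have hzG : genP dg (fun a => z (Sum.inl a)) = G' := (eq_genP_of_monic G' hG'm).symm
  have hzH : genP dh (fun b => z (Sum.inr b)) = H' := (eq_genP_of_monic H' hH'm).symm
  obtain ⟨A', _, _, hA'et, σ', ι, z', hker, hsecι, hιz, hrel⟩ :=
    Helper1.exists_stage A I z
      (fun l : Fin (dg + dh + 1) =>
        (genP dg (fun a => (MvPolynomial.X (Sum.inl a) : MvPolynomial (Fin dg ⊕ Fin dh) A)) *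
          genP dh (fun b => (MvPolynomial.X (Sum.inr b) : MvPolynomial (Fin dg ⊕ Fin dh) A)) -
          f.map (algebraMap A (MvPolynomial (Fin dg ⊕ Fin dh) A))).coeff l)
      (fun l => by
        rw [hgen f dg dh z l, hzG, hzH, ← hfGH, sub_self, Polynomial.coeff_zero])
  set g' : A'[X] := genP dg (fun a => z' (Sum.inl a)) with hg'
  set h' : A'[X] := genP dh (fun b => z' (Sum.inr b)) with hh'
  have hg'ι : g'.map (ι : A' →+* Helper1.Hens A I) = G' := by
    rw [hg', genP_map, ← hzG]
    congr 1
    funext a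
    exact hιz (Sum.inl a)
  have hh'ι : h'.map (ι : A' →+* Helper1.Hens A I) = H' := by
    rw [hh', genP_map, ← hzH]
    congr 1
    funext b
    exact hιz (Sum.inr b)
  have hσι : (σ' : A' →+* A ⧸ I) =
      (Helper1.Hens.section' A I : Helper1.Hens A I →+* A ⧸ I).comp (ι : A' →+* Helper1.Hens A I) :=
    RingHom.ext fun x => (hsecι x).symm
  obtain ⟨hbij, hmk⟩ := Helper1.quotientMap_bijective_of_ker_eq I σ' hker
  have hamσ : (algebraMap (A ⧸ I) (A' ⧸ I.map (algebraMap A A'))).comp (σ' : A' →+* A ⧸ I) =
      Ideal.Quotient.mk (I.map (algebraMap A A')) := RingHom.ext fun b => (hmk b).symm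
  have hfact : f.map (algebraMap A A') = g' * h' := by
    symm
    rw [← sub_eq_zero]
    ext l
    rw [Polynomial.coeff_zero]
    rcases Nat.lt_or_ge l (dg + dh + 1) with hl | hl
    · have := hrel ⟨l, hl⟩
      rw [hgen f dg dh z' l] at this
      exact this
    · rw [Polynomial.coeff_sub]
      have h1 : (g' * h').coeff l = 0 := by
        apply Polynomial.coeff_eq_zero_of_natDegree_lt
        calc (g' * h').natDegree ≤ g'.natDegree + h'.natDegree := Polynomial.natDegree_mul_le
          _ ≤ dg + dh := add_le_add (genP_natDegree_le _ _) (genP_natDegree_le _ _)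
          _ < l := by omega
      have h2 : (f.map (algebraMap A A')).coeff l = 0 := by
        apply Polynomial.coeff_eq_zero_of_natDegree_lt
        calc (f.map (algebraMap A A')).natDegree ≤ f.natDegree := Polynomial.natDegree_map_le
          _ = dg + dh := hN
          _ < l := by omega
      rw [h1, h2, sub_zero]
  refine ⟨A', inferInstance, inferInstance, hA'et, hbij, g', h', genP_monic _ _, genP_monic _ _,
    hfact, ?_, ?_⟩
  · have e1 : g'.map (σ' : A' →+* A ⧸ I) = g := by
      rw [hσι, ← Polynomial.map_map, hg'ι]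
      exact hsec G' g hG'map
    rw [← e1, Polynomial.map_map, hamσ]
  · have e1 : h'.map (σ' : A' →+* A ⧸ I) = h := by
      rw [hσι, ← Polynomial.map_map, hh'ι]
      exact hsec H' h hH'map
    rw [← e1, Polynomial.map_map, hamσ]

end Groth.Agent.S2042
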