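import Groth.Statements.S2041
import Mathlib
import Groth.Agent.S2042
import Groth.Agent.Lib.helper1.HenselIdem3
import Groth.Agent.Lib.helper1.EtaleNbhd

set_option autoImplicit false
universe u
open CAlg

namespace Groth.Agent.S2041

open Polynomial TensorProduct


open TensorProduct in
/-- Let `I ⊆ A` be an ideal, `A → B` integral and `ē` an idempotent of `B/IB`. Then there is an étale
`A`-algebra `A'` with `A/I → A'/IA'` bijective and an idempotent of `A' ⊗ B` whose class modulo `I`
agrees with that of any lift of `ē`. -/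
theorem result {A B : Type u} [CommRing A] [CommRing B] [Algebra A B]
    [Algebra.IsIntegral A B] (I : Ideal A) (e : B ⧸ I.map (algebraMap A B)) (he : IsIdempotentElem e) :
    ∃ (A' : Type u) (_ : CommRing A') (_ : Algebra A A'), Algebra.Etale A A' ∧
      Function.Bijective (algebraMap (A ⧸ I) (A' ⧸ I.map (algebraMap A A'))) ∧
      ∃ e' : A' ⊗[A] B, IsIdempotentElem e' ∧
        ∀ b : B, Ideal.Quotient.mk (I.map (algebraMap A B)) b = e →
          e' - 1 ⊗ₜ b ∈ I.map (algebraMap A (A' ⊗[A] B)) := by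
  classical
  rcases subsingleton_or_nontrivial A with hA | hA
  · haveI : Subsingleton (A ⧸ I.map (algebraMap A A)) :=
      (Ideal.Quotient.mk_surjective).subsingleton
    haveI : Subsingleton (A ⧸ I) := (Ideal.Quotient.mk_surjective).subsingleton
    haveI : Subsingleton (A ⊗[A] B) := Module.subsingleton A _
    refine ⟨A, inferInstance, inferInstance, inferInstance,
      ⟨fun x y _ => Subsingleton.elim x y, fun y => ⟨0, Subsingleton.elim _ _⟩⟩, 0,
      IsIdempotentElem.zero, fun b _ => ?_⟩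
    rw [Subsingleton.elim (0 - (1 : A) ⊗ₜ[A] b) 0]
    exact Ideal.zero_mem _
  obtain ⟨b₀, hb₀⟩ := Ideal.Quotient.mk_surjective e
  have hc : b₀ * b₀ - b₀ ∈ I.map (algebraMap A B) := by
    rw [← Ideal.Quotient.eq_zero_iff_mem, map_sub, map_mul, hb₀, he.eq, sub_self]
  obtain ⟨N₀, Q₀, hQ₀m, hQ₀map, hQ₀c⟩ :=
    Helper1.exists_monic_aeval_eq_zero_of_mem_map_of_isIntegral I (b₀ * b₀ - b₀) hc
  have hm2 : (X ^ 2 - X : A[X]).Monic := monic_X_pow_sub (by rw [degree_X]; norm_num)
  have hd2 : (X ^ 2 - X : A[X]).natDegree = 2 := by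
    rw [natDegree_sub_eq_left_of_natDegree_lt] <;> simp
  set Q := Q₀ * X with hQ
  have hQm : Q.Monic := hQ₀m.mul monic_X
  have hQmap : Q.map (Ideal.Quotient.mk I) = X ^ (N₀ + 1) := by
    rw [hQ, Polynomial.map_mul, hQ₀map, Polynomial.map_X, pow_succ]
  have hQc : aeval (b₀ * b₀ - b₀) Q = 0 := by rw [hQ, map_mul, hQ₀c, zero_mul]
  set f := Q.comp (X ^ 2 - X) with hf
  have hfm : f.Monic := hQm.comp hm2 (by rw [hd2]; norm_num)
  have hfb : aeval b₀ f = 0 := by
    rw [hf, aeval_comp]
    have h1 : aeval b₀ (X ^ 2 - X : A[X]) = b₀ * b₀ - b₀ := by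
      rw [map_sub, map_pow, aeval_X, sq]
    rw [h1]
    exact hQc
  have hfmap : f.map (Ideal.Quotient.mk I) = X ^ (N₀ + 1) * (X - C 1) ^ (N₀ + 1) := by
    rw [hf, Polynomial.map_comp, hQmap, X_pow_comp, Polynomial.map_sub, Polynomial.map_pow,
      Polynomial.map_X, ← mul_pow]
    congr 1
    rw [C_1]
    ring
  have hcop : IsCoprime ((X : (A ⧸ I)[X]) ^ (N₀ + 1)) ((X - C 1) ^ (N₀ + 1)) := by
    apply IsCoprime.pow
    exact ⟨1, -1, by rw [C_1]; ring⟩
  obtain ⟨A₁, _, _, hA₁et, hbij₁, g₁, h₁, hg₁m, hh₁m, hfac₁, hg₁map, hh₁map⟩ :=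
    Groth.Agent.S2042.result I f hfm (X ^ (N₀ + 1)) ((X - C 1) ^ (N₀ + 1)) (monic_X_pow _)
      ((monic_X_sub_C 1).pow _) hcop hfmap
  rw [Polynomial.map_pow, Polynomial.map_X] at hg₁map
  rw [Polynomial.map_pow, Polynomial.map_sub, Polynomial.map_X, Polynomial.map_C, map_one]
    at hh₁map
  -- Step 5: an element `a ≡ 1` in the ideal generated by `g₁, h₁`
  have hcop₁ : IsCoprime (g₁.map (Ideal.Quotient.mk (I.map (algebraMap A A₁))))
      (h₁.map (Ideal.Quotient.mk (I.map (algebraMap A A₁)))) := by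
    rw [hg₁map, hh₁map]
    apply IsCoprime.pow
    exact ⟨1, -1, by rw [C_1]; ring⟩
  obtain ⟨ub, vb, huv⟩ := hcop₁
  obtain ⟨u, rfl⟩ := Polynomial.map_surjective (Ideal.Quotient.mk (I.map (algebraMap A A₁)))
    Ideal.Quotient.mk_surjective ub
  obtain ⟨v, rfl⟩ := Polynomial.map_surjective (Ideal.Quotient.mk (I.map (algebraMap A A₁)))
    Ideal.Quotient.mk_surjective vb
  set w := u * g₁ + v * h₁ - 1 with hw
  have hwmap : w.map (Ideal.Quotient.mk (I.map (algebraMap A A₁))) = 0 := by
    rw [hw, Polynomial.map_sub, Polynomial.map_add, Polynomial.map_mul, Polynomial.map_mul,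
      Polynomial.map_one, huv, sub_self]
  haveI : Module.Finite A₁ (AdjoinRoot g₁) := hg₁m.finite_adjoinRoot
  set δ : AdjoinRoot g₁ := aeval (AdjoinRoot.root g₁) w with hδ
  have hδJ : δ ∈ (I.map (algebraMap A A₁)).map (algebraMap A₁ (AdjoinRoot g₁)) :=
    Helper1.aeval_mem_map_of_map_eq_zero _ _ w hwmap
  have hδ1 : δ + 1 = AdjoinRoot.mk g₁ (v * h₁) := by
    rw [hδ, AdjoinRoot.aeval_eq, hw, map_sub, map_add, map_mul, AdjoinRoot.mk_self, mul_zero,
      zero_add, map_one, sub_add_cancel]
  obtain ⟨n, Q₂, hQ₂m, hQ₂map, hQ₂δ⟩ :=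
    Helper1.exists_monic_aeval_eq_zero_of_mem_map (I.map (algebraMap A A₁)) δ hδJ
  set a₀ := Q₂.eval (-1) with ha₀
  obtain ⟨q₃, hq₃⟩ := Polynomial.X_sub_C_dvd_sub_C_eval (a := (-1 : A₁)) (p := Q₂)
  have h6 := congrArg (aeval δ) hq₃
  rw [map_sub, hQ₂δ, zero_sub, aeval_C, map_mul, map_sub, aeval_X, aeval_C, map_neg, map_one,
    sub_neg_eq_add, hδ1] at h6
  have ha₀J : Ideal.Quotient.mk (I.map (algebraMap A A₁)) a₀ = (-1) ^ n := by
    have h7 := congrArg (Polynomial.eval (Ideal.Quotient.mk (I.map (algebraMap A A₁)) (-1))) hQ₂map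
    rw [Polynomial.eval_map, Polynomial.eval₂_at_apply, eval_pow, eval_X, map_neg, map_one] at h7
    exact h7
  set a : A₁ := (-1) ^ n * a₀ with ha
  have ha1 : a - 1 ∈ I.map (algebraMap A A₁) := by
    rw [← Ideal.Quotient.eq_zero_iff_mem, map_sub, ha, map_mul, map_pow, map_neg, map_one, ha₀J,
      ← mul_pow, neg_mul_neg, one_mul, one_pow, sub_self]
  obtain ⟨t₃, ht₃⟩ := AdjoinRoot.mk_surjective (aeval δ q₃)
  have hCa : ∃ u₂ v₂ : A₁[X], u₂ * g₁ + v₂ * h₁ = C a := by
    have h8 : AdjoinRoot.mk g₁ (C a + C ((-1) ^ n) * (v * h₁) * t₃) = 0 := by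
      have h9 : AdjoinRoot.mk g₁ (C a₀) =
          -(AdjoinRoot.mk g₁ (v * h₁) * AdjoinRoot.mk g₁ t₃) := by
        rw [ht₃, ← h6, neg_neg]
        rfl
      have h10 : (C a : A₁[X]) = C ((-1) ^ n) * C a₀ := by rw [ha, C_mul]
      rw [h10, map_add, map_mul (AdjoinRoot.mk g₁) (C ((-1) ^ n)) (C a₀), h9,
        map_mul (AdjoinRoot.mk g₁) (C ((-1) ^ n) * (v * h₁)) t₃,
        map_mul (AdjoinRoot.mk g₁) (C ((-1) ^ n)) (v * h₁)]
      ring
    rw [AdjoinRoot.mk_eq_zero] at h8
    obtain ⟨k, hk⟩ := h8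
    refine ⟨k, -(C ((-1) ^ n) * v * t₃), ?_⟩
    linear_combination -hk
  obtain ⟨u₂, v₂, huv₂⟩ := hCa
  -- Step 6: the localization and its section
  let eq₁ : (A ⧸ I) ≃+* (A₁ ⧸ I.map (algebraMap A A₁)) :=
    RingEquiv.ofBijective (algebraMap (A ⧸ I) (A₁ ⧸ I.map (algebraMap A A₁))) hbij₁
  let σ₁r : A₁ →+* A ⧸ I :=
    (eq₁.symm : (A₁ ⧸ I.map (algebraMap A A₁)) →+* A ⧸ I).comp (Ideal.Quotient.mk _)
  have hσ₁a : ∀ x : A, σ₁r (algebraMap A A₁ x) = algebraMap A (A ⧸ I) x := by
    intro x
    show eq₁.symm (Ideal.Quotient.mk _ (algebraMap A A₁ x)) = Ideal.Quotient.mk I x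
    rw [RingEquiv.symm_apply_eq]
    rfl
  let σ₁ : A₁ →ₐ[A] A ⧸ I := { σ₁r with commutes' := hσ₁a }
  have hσ₁ker : RingHom.ker σ₁ = I.map (algebraMap A A₁) := by
    ext x
    rw [RingHom.mem_ker]
    show eq₁.symm (Ideal.Quotient.mk _ x) = 0 ↔ _
    rw [map_eq_zero_iff _ eq₁.symm.injective, Ideal.Quotient.eq_zero_iff_mem]
  have hσ₁a1 : σ₁ a = 1 := by
    have h10 : a - 1 ∈ RingHom.ker σ₁ := by rw [hσ₁ker]; exact ha1
    rw [RingHom.mem_ker, map_sub, map_one, sub_eq_zero] at h10
    exact h10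
  obtain ⟨σ', -, hσ'ker⟩ := Helper1.exists_section_localization I σ₁ a
    (by rw [hσ₁a1]; exact isUnit_one)
    (fun s hs => by
      have h11 : s ∈ RingHom.ker σ₁ := hs
      rw [hσ₁ker] at h11
      exact Ideal.mul_mem_right _ _ h11)
  obtain ⟨hbij', -⟩ := Helper1.quotientMap_bijective_of_ker_eq I σ' hσ'ker
  haveI : Algebra.Etale A (Localization.Away a) := Algebra.Etale.comp A A₁ _
  -- Step 7: coprime factorization over the localization
  set g' : (Localization.Away a)[X] := g₁.map (algebraMap A₁ (Localization.Away a)) with hg'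
  set h' : (Localization.Away a)[X] := h₁.map (algebraMap A₁ (Localization.Away a)) with hh'
  have hfac' : f.map (algebraMap A (Localization.Away a)) = g' * h' := by
    rw [IsScalarTower.algebraMap_eq A A₁ (Localization.Away a), ← Polynomial.map_map, hfac₁,
      Polynomial.map_mul]
  set ainv : Localization.Away a := IsLocalization.Away.invSelf a with hainv
  have hainv1 : algebraMap A₁ (Localization.Away a) a * ainv = 1 :=
    IsLocalization.Away.mul_invSelf a
  set U : (Localization.Away a)[X] := C ainv * u₂.map (algebraMap A₁ (Localization.Away a)) with hU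
  set V : (Localization.Away a)[X] := C ainv * v₂.map (algebraMap A₁ (Localization.Away a)) with hV
  have hUV : U * g' + V * h' = 1 := by
    have h12 := congrArg (Polynomial.map (algebraMap A₁ (Localization.Away a))) huv₂
    rw [Polynomial.map_add, Polynomial.map_mul, Polynomial.map_mul, Polynomial.map_C] at h12
    have h13 : (C ainv : (Localization.Away a)[X]) *
        C (algebraMap A₁ (Localization.Away a) a) = 1 := by
      rw [← C_mul, mul_comm, hainv1, C_1]
    rw [hU, hV]
    linear_combination (C ainv : (Localization.Away a)[X]) * h12 + h13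
  -- Step 8: the idempotent
  set b' : Localization.Away a ⊗[A] B := (1 : Localization.Away a) ⊗ₜ[A] b₀ with hb'
  have hfb' : aeval b' (g' * h') = 0 := by
    rw [← hfac', aeval_map_algebraMap]
    have h14 : b' = (Algebra.TensorProduct.includeRight :
        B →ₐ[A] Localization.Away a ⊗[A] B) b₀ := rfl
    rw [h14, aeval_algHom_apply, hfb, map_zero]
  set G := aeval b' g' with hGdef
  set Hh := aeval b' h' with hHdef
  have hGH : G * Hh = 0 := by rw [hGdef, hHdef, ← map_mul]; exact hfb'
  have hsum : aeval b' U * G + aeval b' V * Hh = 1 := by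
    rw [hGdef, hHdef, ← map_mul, ← map_mul, ← map_add, hUV, map_one]
  refine ⟨Localization.Away a, inferInstance, inferInstance, inferInstance, hbij',
    aeval b' U * G, ?_, ?_⟩
  · show aeval b' U * G * (aeval b' U * G) = aeval b' U * G
    linear_combination (aeval b' U * G) * hsum - (aeval b' U * aeval b' V) * hGH
  · intro b hb
    have hincl : ∀ x ∈ I.map (algebraMap A B), (1 : Localization.Away a) ⊗ₜ[A] x ∈ (Ideal.map (algebraMap A (Localization.Away a ⊗[A] B)) I) := by
      intro x hx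
      have h15 := Ideal.mem_map_of_mem ((Algebra.TensorProduct.includeRight :
        B →ₐ[A] Localization.Away a ⊗[A] B) : B →+* Localization.Away a ⊗[A] B) hx
      rw [Ideal.map_map, AlgHom.comp_algebraMap] at h15
      exact h15
    have hIA' : (I.map (algebraMap A (Localization.Away a))).map
        (algebraMap (Localization.Away a) (Localization.Away a ⊗[A] B)) = (Ideal.map (algebraMap A (Localization.Away a ⊗[A] B)) I) := by
      rw [Ideal.map_map, ← IsScalarTower.algebraMap_eq]
    have hle : I.map (algebraMap A A₁) ≤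
        (I.map (algebraMap A (Localization.Away a))).comap (algebraMap A₁ (Localization.Away a)) := by
      rw [Ideal.map_le_iff_le_comap]
      intro x hx
      rw [Ideal.mem_comap, Ideal.mem_comap, ← IsScalarTower.algebraMap_apply]
      exact Ideal.mem_map_of_mem _ hx
    have hmkcomp : (Ideal.Quotient.mk (I.map (algebraMap A (Localization.Away a)))).comp
        (algebraMap A₁ (Localization.Away a)) =
        (Ideal.quotientMap _ (algebraMap A₁ (Localization.Away a)) hle).comp
          (Ideal.Quotient.mk (I.map (algebraMap A A₁))) := RingHom.ext fun x => rfl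
    have hg'map : g'.map (Ideal.Quotient.mk (I.map (algebraMap A (Localization.Away a)))) =
        X ^ (N₀ + 1) := by
      rw [hg', Polynomial.map_map, hmkcomp, ← Polynomial.map_map, hg₁map, Polynomial.map_pow,
        Polynomial.map_X]
    have hh'map : h'.map (Ideal.Quotient.mk (I.map (algebraMap A (Localization.Away a)))) =
        (X - C 1) ^ (N₀ + 1) := by
      rw [hh', Polynomial.map_map, hmkcomp, ← Polynomial.map_map, hh₁map]
      simp only [Polynomial.map_pow, Polynomial.map_sub, Polynomial.map_X, Polynomial.map_C,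
        map_one, Polynomial.map_one]
    have hGmem : G - b' ^ (N₀ + 1) ∈ (Ideal.map (algebraMap A (Localization.Away a ⊗[A] B)) I) := by
      have h16 : G - b' ^ (N₀ + 1) = aeval b' (g' - X ^ (N₀ + 1)) := by
        rw [map_sub, map_pow, aeval_X]
      rw [h16, ← hIA']
      apply Helper1.aeval_mem_map_of_map_eq_zero
      rw [Polynomial.map_sub, hg'map, Polynomial.map_pow, Polynomial.map_X, sub_self]
    have hHmem : Hh - (b' - 1) ^ (N₀ + 1) ∈ (Ideal.map (algebraMap A (Localization.Away a ⊗[A] B)) I) := by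
      have h16 : Hh - (b' - 1) ^ (N₀ + 1) = aeval b' (h' - (X - C 1) ^ (N₀ + 1)) := by
        rw [map_sub, map_pow, map_sub, aeval_X, aeval_C, map_one]
      rw [h16, ← hIA']
      apply Helper1.aeval_mem_map_of_map_eq_zero
      rw [Polynomial.map_sub, hh'map]
      simp only [Polynomial.map_pow, Polynomial.map_sub, Polynomial.map_X, Polynomial.map_C,
        map_one, Polynomial.map_one, sub_self]
    have hbb : b' * b' - b' ∈ (Ideal.map (algebraMap A (Localization.Away a ⊗[A] B)) I) := by
      have h17 : b' * b' - b' = (1 : Localization.Away a) ⊗ₜ[A] (b₀ * b₀ - b₀) := by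
        rw [hb', Algebra.TensorProduct.tmul_mul_tmul, one_mul, ← TensorProduct.tmul_sub]
      rw [h17]
      exact hincl _ hc
    -- compute in the quotient
    set π := Ideal.Quotient.mk (Ideal.map (algebraMap A (Localization.Away a ⊗[A] B)) I) with hπ
    set β := π b' with hβ
    have hββ : β * β = β := by
      rw [← sub_eq_zero, hβ, ← map_mul, ← map_sub, hπ, Ideal.Quotient.eq_zero_iff_mem]
      exact hbb
    have hπG : π G = β ^ (N₀ + 1) := by
      rw [← sub_eq_zero, hβ, ← map_pow, ← map_sub, hπ, Ideal.Quotient.eq_zero_iff_mem]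
      exact hGmem
    have hπH : π Hh = (β - 1) ^ (N₀ + 1) := by
      rw [← sub_eq_zero, hβ, ← map_one π, ← map_sub, ← map_pow, ← map_sub, hπ,
        Ideal.Quotient.eq_zero_iff_mem]
      exact hHmem
    have h18 : π (aeval b' U * G) * (1 - β) = 0 := by
      rw [map_mul, hπG, pow_succ]
      have h25 : β * (1 - β) = 0 := by linear_combination (-1 : _) * hββ
      linear_combination (π (aeval b' U) * β ^ N₀) * h25
    have h19 : β * π (aeval b' V * Hh) = 0 := by
      rw [map_mul, hπH, pow_succ]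
      have h25 : β * (β - 1) = 0 := by linear_combination hββ
      linear_combination (π (aeval b' V) * (β - 1) ^ N₀) * h25
    have h20 : π (aeval b' U * G) + π (aeval b' V * Hh) = 1 := by
      rw [← map_add, hsum, map_one]
    have h21 : π (aeval b' U * G) = β := by
      linear_combination h18 - h19 + β * h20
    have h22 : (1 : Localization.Away a) ⊗ₜ[A] b - b' ∈ (Ideal.map (algebraMap A (Localization.Away a ⊗[A] B)) I) := by
      have h23 : (1 : Localization.Away a) ⊗ₜ[A] b - b' =
          (1 : Localization.Away a) ⊗ₜ[A] (b - b₀) := by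
        rw [hb', TensorProduct.tmul_sub]
      rw [h23]
      apply hincl
      rw [← Ideal.Quotient.eq, hb, hb₀]
    have h24 : π ((1 : Localization.Away a) ⊗ₜ[A] b) = β := by
      rw [hβ, hπ, Ideal.Quotient.eq]
      exact h22
    rw [← Ideal.Quotient.eq, ← hπ, h21, h24]

end Groth.Agent.S2041
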