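import Groth.Statements.S2056
import Mathlib
import Groth.Agent.S2057

set_option autoImplicit false
universe u
open CAlg

namespace Groth.Agent.S2056

open TensorProduct


/-- A linear map of `R`-modules is universally injective (injective after tensoring with any module) if
and only if it is injective after tensoring with every finitely presented module. -/
theorem result {R M N : Type u} [CommRing R] [AddCommGroup M]
    [Module R M] [AddCommGroup N] [Module R N] (f : M →ₗ[R] N) :
    CAlgX.UniversallyInjective R f ↔
      ∀ (Q : Type u) [AddCommGroup Q] [Module R Q], Module.FinitePresentation R Q →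
        Function.Injective (f.rTensor Q) := by
  classical
  constructor
  · intro hUI Q _ _ _
    exact hUI Q
  · intro h
    have hfinj : Function.Injective f := by
      rw [injective_iff_map_eq_zero]
      intro x hx
      have h1 : f.rTensor R (x ⊗ₜ[R] (1 : R)) = 0 := by
        rw [LinearMap.rTensor_tmul, hx, TensorProduct.zero_tmul]
      have h2 : x ⊗ₜ[R] (1 : R) = 0 := (h R inferInstance) (h1.trans (map_zero _).symm)
      have h3 := congrArg (TensorProduct.rid R M) h2
      rwa [TensorProduct.rid_tmul, one_smul, map_zero] at h3
    refine (Groth.Agent.S2057.result f hfinj).mpr ?_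
    intro n m x y a hxy
    obtain ⟨K, hK⟩ : ∃ K : Submodule R (Fin n → R),
        K = Submodule.span R (Set.range fun j : Fin m => fun i : Fin n => a i j) := ⟨_, rfl⟩
    have hfp : Module.FinitePresentation R ((Fin n → R) ⧸ K) := by
      refine Module.finitePresentation_of_surjective K.mkQ K.mkQ_surjective ?_
      rw [Submodule.ker_mkQ, hK]
      exact Submodule.fg_span (Set.finite_range _)
    have hinj := h ((Fin n → R) ⧸ K) hfp
    have hsum : ∀ b : Fin n → R, ∑ i, b i • (Pi.single i (1 : R) : Fin n → R) = b := by
      intro b
      funext i'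
      simp [Finset.sum_apply, Pi.single_apply]
    have hcol : ∀ j, ∑ i, a i j • K.mkQ (Pi.single i (1 : R)) = 0 := by
      intro j
      calc ∑ i, a i j • K.mkQ (Pi.single i (1 : R))
          = K.mkQ (∑ i, a i j • (Pi.single i (1 : R) : Fin n → R)) := by
            rw [map_sum]
            exact Finset.sum_congr rfl fun i _ => (map_smul _ _ _).symm
        _ = K.mkQ (fun i => a i j) := by rw [hsum (fun i => a i j)]
        _ = 0 := (Submodule.Quotient.mk_eq_zero K).mpr (by
            rw [hK]; exact Submodule.subset_span ⟨j, rfl⟩)
    have hξ : f.rTensor ((Fin n → R) ⧸ K) (∑ i, x i ⊗ₜ[R] K.mkQ (Pi.single i (1 : R))) = 0 := by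
      rw [map_sum]
      simp only [LinearMap.rTensor_tmul, hxy, TensorProduct.sum_tmul, TensorProduct.smul_tmul]
      rw [Finset.sum_comm]
      simp only [← TensorProduct.tmul_sum, hcol, TensorProduct.tmul_zero, Finset.sum_const_zero]
    have h0 : ∑ i, x i ⊗ₜ[R] K.mkQ (Pi.single i (1 : R)) = 0 :=
      hinj (hξ.trans (map_zero _).symm)
    have hswap : ∑ i, K.mkQ (Pi.single i (1 : R)) ⊗ₜ[R] x i = 0 := by
      have h' := congrArg (TensorProduct.comm R M ((Fin n → R) ⧸ K)) h0
      rw [map_sum, map_zero] at h'
      simpa only [TensorProduct.comm_tmul] using h'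
    have hspan : Submodule.span R (Set.range fun i => K.mkQ (Pi.single i (1 : R))) = ⊤ := by
      rw [eq_top_iff]
      rintro q -
      obtain ⟨b, rfl⟩ := K.mkQ_surjective q
      rw [← hsum b, map_sum]
      refine Submodule.sum_mem _ fun i _ => ?_
      rw [map_smul]
      exact Submodule.smul_mem _ _ (Submodule.subset_span ⟨i, rfl⟩)
    obtain ⟨k, b, w, hw, hb⟩ :=
      TensorProduct.vanishesTrivially_of_sum_tmul_eq_zero R hspan hswap
    have hmemK : ∀ l, ∃ d : Fin m → R,
        ∑ j, d j • (fun i : Fin n => a i j) = fun i => b i l := by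
      intro l
      have h1 : K.mkQ (fun i => b i l) = 0 := by
        rw [← hsum (fun i => b i l), map_sum, ← hb l]
        exact Finset.sum_congr rfl fun i _ => map_smul _ _ _
      have h2 : (fun i => b i l) ∈ K := (Submodule.Quotient.mk_eq_zero K).mp h1
      rw [hK] at h2
      exact (Submodule.mem_span_range_iff_exists_fun R).mp h2
    choose d hd using hmemK
    refine ⟨fun j => ∑ l, d l j • w l, fun i => ?_⟩
    rw [hw i]
    simp only [Finset.smul_sum, smul_smul]
    rw [Finset.sum_comm]
    refine Finset.sum_congr rfl fun l _ => ?_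
    rw [← Finset.sum_smul]
    congr 1
    have h3 := congrFun (hd l) i
    simp only [Finset.sum_apply, Pi.smul_apply, smul_eq_mul] at h3
    rw [← h3]
    exact Finset.sum_congr rfl fun j _ => mul_comm _ _

end Groth.Agent.S2056
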