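import Groth.Statements.S2073
import Mathlib

set_option autoImplicit false
universe u
open CAlg

namespace Groth.Agent.S2073

open TensorProduct
attribute [local instance] MvPolynomial.algebraMvPolynomial


/-- Let `R` be a domain and `R → S` an injective ring map of finite type. Then there are elements `y_1,
…, y_d` of `S` algebraically independent over `R`, a finitely generated `R`-subalgebra `S'` of `S`
containing them and integral over `R[y_1, …, y_d]`, and a nonzero `f ∈ R` such that every element of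
`S` lands in `S'` after multiplication by a power of `f`. -/
theorem result {R S : Type u} [CommRing R] [IsDomain R] [CommRing S] [Algebra R S]
    [Algebra.FiniteType R S] (hinj : Function.Injective (algebraMap R S)) :
    ∃ (d : ℕ) (y : Fin d → S) (S' : Subalgebra R S), AlgebraicIndependent R y ∧ (∀ i, y i ∈ S') ∧ S'.FG ∧
      (∀ s ∈ S', IsIntegral (Algebra.adjoin R (Set.range y)) s) ∧
      ∃ f : R, f ≠ 0 ∧ ∀ s : S, ∃ n : ℕ, (f ^ n) • s ∈ S' := by
  classical
  let ι : S →ₐ[R] (FractionRing R ⊗[R] S) := Algebra.TensorProduct.includeRight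
  let f₀ : S →ₗ[R] (FractionRing R ⊗[R] S) := TensorProduct.mk R (FractionRing R) S 1
  have hf₀ : ∀ s, f₀ s = ι s := fun s => rfl
  haveI : IsLocalizedModule (nonZeroDivisors R) f₀ := inferInstance
  have F1 : ∀ t : (FractionRing R ⊗[R] S), ∃ r : R, r ∈ nonZeroDivisors R ∧ ∃ s : S, r • t = ι s := by
    intro t
    obtain ⟨⟨s, r⟩, h⟩ := IsLocalizedModule.surj (nonZeroDivisors R) f₀ t
    exact ⟨r, r.2, s, h⟩
  have F2 : ∀ s : S, ι s = 0 → ∃ r : R, r ∈ nonZeroDivisors R ∧ r • s = 0 := by
    intro s hs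
    obtain ⟨c, hc⟩ := IsLocalizedModule.exists_of_eq (S := nonZeroDivisors R) (f := f₀)
      (x₁ := s) (x₂ := 0) (by rw [map_zero]; exact hs)
    refine ⟨c, c.2, ?_⟩
    rw [smul_zero] at hc
    exact hc
  haveI : Nontrivial (FractionRing R ⊗[R] S) := by
    by_contra hnt
    rw [not_nontrivial_iff_subsingleton] at hnt
    obtain ⟨r, hr, hr1⟩ := F2 1 (Subsingleton.elim _ _)
    have h1 : algebraMap R S r = 0 := by rw [Algebra.algebraMap_eq_smul_one]; exact hr1
    have h2 : r = 0 := hinj (by rw [h1, map_zero])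
    exact nonZeroDivisors.ne_zero hr h2
  haveI : Algebra.FiniteType (FractionRing R) (FractionRing R ⊗[R] S) := inferInstance
  obtain ⟨d, g, hginj, hgint⟩ := exists_integral_inj_algHom_of_fg (FractionRing R) (FractionRing R ⊗[R] S)
  choose rr hrr y hy using fun i : Fin d => F1 (g (MvPolynomial.X i))
  let u : Fin d → (FractionRing R) := fun i => algebraMap R (FractionRing R) (rr i)
  have hu : ∀ i, u i ≠ 0 := fun i =>
    IsFractionRing.to_map_ne_zero_of_mem_nonZeroDivisors (hrr i)
  let θ : (MvPolynomial (Fin d) (FractionRing R)) →ₐ[(FractionRing R)] (MvPolynomial (Fin d) (FractionRing R)) :=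
    MvPolynomial.aeval (fun i => MvPolynomial.C (u i) * MvPolynomial.X i)
  let θ' : (MvPolynomial (Fin d) (FractionRing R)) →ₐ[(FractionRing R)] (MvPolynomial (Fin d) (FractionRing R)) :=
    MvPolynomial.aeval (fun i => MvPolynomial.C (u i)⁻¹ * MvPolynomial.X i)
  have hθX : ∀ i, θ (MvPolynomial.X i) = MvPolynomial.C (u i) * MvPolynomial.X i :=
    fun i => MvPolynomial.aeval_X _ i
  have hθ'X : ∀ i, θ' (MvPolynomial.X i) = MvPolynomial.C (u i)⁻¹ * MvPolynomial.X i :=
    fun i => MvPolynomial.aeval_X _ i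
  have hθC : ∀ c, θ (MvPolynomial.C c) = MvPolynomial.C c := fun c => by
    rw [← MvPolynomial.algebraMap_eq, AlgHom.commutes]
  have hθ'C : ∀ c, θ' (MvPolynomial.C c) = MvPolynomial.C c := fun c => by
    rw [← MvPolynomial.algebraMap_eq, AlgHom.commutes]
  have hθθ' : θ'.comp θ = AlgHom.id (FractionRing R) _ := by
    apply MvPolynomial.algHom_ext
    intro i
    rw [AlgHom.comp_apply, hθX, map_mul, hθ'C, hθ'X, AlgHom.id_apply, ← mul_assoc,
      ← MvPolynomial.C_mul, mul_inv_cancel₀ (hu i), MvPolynomial.C_1, one_mul]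
  have hθ'θ : θ.comp θ' = AlgHom.id (FractionRing R) _ := by
    apply MvPolynomial.algHom_ext
    intro i
    rw [AlgHom.comp_apply, hθ'X, map_mul, hθC, hθX, AlgHom.id_apply, ← mul_assoc,
      ← MvPolynomial.C_mul, inv_mul_cancel₀ (hu i), MvPolynomial.C_1, one_mul]
  have hθinj : Function.Injective θ := fun a b hab => by
    have h := congrArg θ' hab
    rw [← AlgHom.comp_apply, ← AlgHom.comp_apply, hθθ'] at h
    exact h
  let g' : (MvPolynomial (Fin d) (FractionRing R)) →ₐ[(FractionRing R)] (FractionRing R ⊗[R] S) := g.comp θ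
  have hg'inj : Function.Injective g' := hginj.comp hθinj
  have hg'X : ∀ i, g' (MvPolynomial.X i) = ι (y i) := by
    intro i
    show g (θ (MvPolynomial.X i)) = _
    rw [hθX, map_mul, ← hy i, ← MvPolynomial.algebraMap_eq, AlgHom.commutes, ← Algebra.smul_def]
    exact algebraMap_smul (FractionRing R) (rr i) (g (MvPolynomial.X i))
  have hg'int : g'.toRingHom.IsIntegral := by
    intro t
    obtain ⟨p, hpm, hp⟩ := hgint t
    refine ⟨p.map (θ' : (MvPolynomial (Fin d) (FractionRing R)) →+* (MvPolynomial (Fin d) (FractionRing R))), hpm.map _, ?_⟩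
    rw [Polynomial.eval₂_map]
    have hcomp : (g'.toRingHom).comp (θ' : (MvPolynomial (Fin d) (FractionRing R)) →+* (MvPolynomial (Fin d) (FractionRing R))) = g.toRingHom := by
      refine RingHom.ext fun x => ?_
      show g (θ (θ' x)) = g x
      rw [← AlgHom.comp_apply θ θ', hθ'θ, AlgHom.id_apply]
    rw [hcomp]
    exact hp
  -- algebraic independence
  have hai : AlgebraicIndependent R y := by
    have h1 : AlgebraicIndependent (FractionRing R) (fun i => ι (y i)) := by
      rw [algebraicIndependent_iff_injective_aeval]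
      have : (MvPolynomial.aeval (fun i => ι (y i)) : (MvPolynomial (Fin d) (FractionRing R)) →ₐ[(FractionRing R)] (FractionRing R ⊗[R] S)) = g' := by
        apply MvPolynomial.algHom_ext
        intro i
        rw [MvPolynomial.aeval_X, hg'X]
      rw [this]
      exact hg'inj
    have h2 : AlgebraicIndependent R (fun i => ι (y i)) :=
      h1.restrictScalars (IsFractionRing.injective R (FractionRing R))
    exact AlgebraicIndependent.of_comp ι h2
  -- the evaluation map
  let α : (MvPolynomial (Fin d) R) →ₐ[R] S := MvPolynomial.aeval y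
  have KI : (g'.toRingHom).comp (algebraMap (MvPolynomial (Fin d) R) (MvPolynomial (Fin d) (FractionRing R))) = (ι : S →+* (FractionRing R ⊗[R] S)).comp (α : (MvPolynomial (Fin d) R) →+* S) := by
    apply MvPolynomial.ringHom_ext
    · intro r
      show g' (MvPolynomial.map (algebraMap R (FractionRing R)) (MvPolynomial.C r)) = ι (α (MvPolynomial.C r))
      rw [MvPolynomial.map_C, ← MvPolynomial.algebraMap_eq, AlgHom.commutes,
        ← MvPolynomial.algebraMap_eq, AlgHom.commutes, AlgHom.commutes,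
        ← IsScalarTower.algebraMap_apply]
    · intro i
      show g' (MvPolynomial.map (algebraMap R (FractionRing R)) (MvPolynomial.X i)) = ι (α (MvPolynomial.X i))
      rw [MvPolynomial.map_X, hg'X, MvPolynomial.aeval_X]
  letI algT : Algebra (MvPolynomial (Fin d) (FractionRing R)) (FractionRing R ⊗[R] S) := g'.toRingHom.toAlgebra
  letI algT0 : Algebra (MvPolynomial (Fin d) R) (FractionRing R ⊗[R] S) := ((g'.toRingHom).comp (algebraMap (MvPolynomial (Fin d) R) (MvPolynomial (Fin d) (FractionRing R)))).toAlgebra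
  haveI : IsScalarTower (MvPolynomial (Fin d) R) (MvPolynomial (Fin d) (FractionRing R)) (FractionRing R ⊗[R] S) := IsScalarTower.of_algebraMap_eq (fun _ => rfl)
  have hclear : ∀ x : S, ∃ r : R, r ∈ nonZeroDivisors R ∧
      (α : (MvPolynomial (Fin d) R) →+* S).IsIntegralElem (r • x) := by
    intro x
    have h1 : IsIntegral (MvPolynomial (Fin d) (FractionRing R)) (ι x) := hg'int (ι x)
    obtain ⟨⟨_, r, hr, rfl⟩, q, hqm, hq⟩ :=
      IsIntegral.exists_multiple_integral_of_isLocalization
        ((nonZeroDivisors R).map (MvPolynomial.C : R →+* (MvPolynomial (Fin d) R))) (ι x) h1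
    have e1 : (⟨MvPolynomial.C r, ⟨r, hr, rfl⟩⟩ :
        (nonZeroDivisors R).map (MvPolynomial.C : R →+* (MvPolynomial (Fin d) R))) • ι x = ι (r • x) := by
      rw [Submonoid.smul_def, Algebra.smul_def]
      show ((g'.toRingHom).comp (algebraMap (MvPolynomial (Fin d) R) (MvPolynomial (Fin d) (FractionRing R)))) (MvPolynomial.C r) * ι x = _
      rw [KI]
      show ι (α (MvPolynomial.C r)) * ι x = _
      rw [← map_mul, ← MvPolynomial.algebraMap_eq, AlgHom.commutes, ← Algebra.smul_def]
    rw [e1] at hq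
    have e2 : algebraMap (MvPolynomial (Fin d) R) (FractionRing R ⊗[R] S) = (ι : S →+* (FractionRing R ⊗[R] S)).comp (α : (MvPolynomial (Fin d) R) →+* S) := KI
    have e4 : Polynomial.eval₂ ((ι : S →+* (FractionRing R ⊗[R] S)).comp (α : (MvPolynomial (Fin d) R) →+* S)) (ι (r • x)) q =
        ι (Polynomial.eval₂ (α : (MvPolynomial (Fin d) R) →+* S) (r • x) q) :=
      (Polynomial.hom_eval₂ q (α : (MvPolynomial (Fin d) R) →+* S) (ι : S →+* (FractionRing R ⊗[R] S)) (r • x)).symm
    rw [e2, e4] at hq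
    obtain ⟨r', hr', hw⟩ := F2 _ hq
    refine ⟨r' * r, mul_mem hr' hr, ?_⟩
    rcases Nat.eq_zero_or_pos q.natDegree with hN | hN
    · exfalso
      have hq1 : q = 1 := (Polynomial.Monic.natDegree_eq_zero hqm).mp hN
      rw [hq1, Polynomial.eval₂_one, map_one] at hq
      exact one_ne_zero hq
    · refine ⟨Polynomial.scaleRoots q (MvPolynomial.C r'),
        (Polynomial.monic_scaleRoots_iff _).mpr hqm, ?_⟩
      have e3 : (r' * r) • x = (α : (MvPolynomial (Fin d) R) →+* S) (MvPolynomial.C r') * (r • x) := by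
        show _ = α (MvPolynomial.C r') * (r • x)
        rw [← MvPolynomial.algebraMap_eq, AlgHom.commutes, ← Algebra.smul_def, mul_smul]
      rw [e3, Polynomial.scaleRoots_eval₂_mul]
      show α (MvPolynomial.C r') ^ q.natDegree * _ = 0
      rw [← MvPolynomial.algebraMap_eq, AlgHom.commutes]
      obtain ⟨k, hk⟩ := Nat.exists_eq_succ_of_ne_zero (Nat.pos_iff_ne_zero.mp hN)
      rw [hk, pow_succ, mul_assoc, ← Algebra.smul_def r', hw, mul_zero]
  -- integrality over the adjoin
  have hB : ∀ p : (MvPolynomial (Fin d) R), α p ∈ Algebra.adjoin R (Set.range y) := by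
    intro p
    rw [Algebra.adjoin_range_eq_range_aeval]
    exact ⟨p, rfl⟩
  let ρ : (MvPolynomial (Fin d) R) →ₐ[R] (Algebra.adjoin R (Set.range y)) := α.codRestrict _ hB
  have hρ : ((algebraMap (Algebra.adjoin R (Set.range y)) S).comp (ρ : (MvPolynomial (Fin d) R) →+* _)) =
      (α : (MvPolynomial (Fin d) R) →+* S) := RingHom.ext fun p => rfl
  have hint_of : ∀ z : S, (α : (MvPolynomial (Fin d) R) →+* S).IsIntegralElem z →
      IsIntegral (Algebra.adjoin R (Set.range y)) z := by
    rintro z ⟨q, hqm, hq⟩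
    refine ⟨q.map (ρ : (MvPolynomial (Fin d) R) →+* _), hqm.map _, ?_⟩
    rw [Polynomial.eval₂_map, hρ]
    exact hq
  obtain ⟨G, hG⟩ := (Algebra.FiniteType.out : (⊤ : Subalgebra R S).FG)
  choose c hc hcint using hclear
  set f : R := ∏ x ∈ G, c x with hf
  have hf0 : f ≠ 0 := nonZeroDivisors.ne_zero (Submonoid.prod_mem _ fun x _ => hc x)
  set S' : Subalgebra R S :=
    Algebra.adjoin R (Set.range y ∪ (fun x => c x • x) '' (G : Set S)) with hS'
  refine ⟨d, y, S', hai, ?_, ?_, ?_, f, hf0, ?_⟩
  · intro i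
    exact Algebra.subset_adjoin (Or.inl ⟨i, rfl⟩)
  · exact Subalgebra.fg_def.mpr ⟨_, (Set.finite_range y).union (G.finite_toSet.image _), rfl⟩
  · intro s hs
    have hle : S' ≤ (integralClosure (Algebra.adjoin R (Set.range y)) S).restrictScalars R := by
      apply Algebra.adjoin_le
      rintro z (⟨i, rfl⟩ | ⟨x, -, rfl⟩)
      · show IsIntegral (Algebra.adjoin R (Set.range y)) (y i)
        exact isIntegral_algebraMap (R := Algebra.adjoin R (Set.range y))
          (x := ⟨y i, Algebra.subset_adjoin ⟨i, rfl⟩⟩)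
      · exact hint_of _ (hcint x)
    exact hle hs
  · intro s
    have hs : s ∈ Algebra.adjoin R (G : Set S) := by rw [hG]; exact Algebra.mem_top
    induction hs using Algebra.adjoin_induction with
    | mem x hx =>
      refine ⟨1, ?_⟩
      have hx' : x ∈ G := hx
      have e : f ^ 1 • x = (∏ x' ∈ G.erase x, c x') • (c x • x) := by
        rw [pow_one, hf, ← Finset.mul_prod_erase G c hx', smul_smul, mul_comm]
      rw [e]
      exact Subalgebra.smul_mem S' (Algebra.subset_adjoin (Or.inr ⟨x, hx, rfl⟩)) _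
    | algebraMap r =>
      exact ⟨0, by rw [pow_zero, one_smul]; exact Subalgebra.algebraMap_mem S' r⟩
    | add a b _ _ iha ihb =>
      obtain ⟨n₁, h₁⟩ := iha
      obtain ⟨n₂, h₂⟩ := ihb
      refine ⟨n₁ + n₂, ?_⟩
      have e : f ^ (n₁ + n₂) • (a + b) = f ^ n₂ • (f ^ n₁ • a) + f ^ n₁ • (f ^ n₂ • b) := by
        rw [smul_add, smul_smul, smul_smul, ← pow_add, ← pow_add, add_comm n₂ n₁]
      rw [e]
      exact S'.add_mem (Subalgebra.smul_mem S' h₁ _) (Subalgebra.smul_mem S' h₂ _)
    | mul a b _ _ iha ihb =>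
      obtain ⟨n₁, h₁⟩ := iha
      obtain ⟨n₂, h₂⟩ := ihb
      refine ⟨n₁ + n₂, ?_⟩
      have e : f ^ (n₁ + n₂) • (a * b) = (f ^ n₁ • a) * (f ^ n₂ • b) := by
        rw [smul_mul_smul_comm, ← pow_add]
      rw [e]
      exact S'.mul_mem h₁ h₂

end Groth.Agent.S2073
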