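import Groth.Statements.S2089
import Mathlib
import Groth.Agent.Lib.helper1.DepthExt
import Groth.Agent.S0320

set_option autoImplicit false
universe u
open CAlg

namespace Groth.Agent.S2089

open Pointwise

theorem key (R : Type u) [CommRing R] [IsLocalRing R] [IsNoetherianRing R] (k : ℕ) :
    ∀ (M : Type u) [AddCommGroup M] [Module R M] [Module.Finite R M] (p : PrimeSpectrum R),
      IsAssociatedPrime p.asIdeal M → (k : ℕ∞) ≤ LocCoh.depth R M →
      (k : ℕ∞) ≤ Order.coheight p := by
  induction k with
  | zero => intro M _ _ _ p _ _; simp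
  | succ k ih =>
    intro M _ _ _ p hp hk
    classical
    obtain ⟨hprime, m₀, hm₀⟩ := isAssociatedPrime_iff.mp hp
    have hm₀ne : m₀ ≠ 0 := by
      intro h0
      apply hprime.ne_top
      rw [hm₀, h0, Ideal.eq_top_iff_one, Submodule.mem_colon_singleton]
      simp
    haveI : Nontrivial M := ⟨⟨m₀, 0, hm₀ne⟩⟩
    have hIM : IsLocalRing.maximalIdeal R • (⊤ : Submodule R M) ≠ ⊤ := by
      intro h
      have := Submodule.eq_bot_of_le_smul_of_le_jacobson_bot (IsLocalRing.maximalIdeal R)
        (⊤ : Submodule R M) Module.Finite.fg_top (le_of_eq h.symm)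
        (IsLocalRing.maximalIdeal_le_jacobson _)
      exact top_ne_bot this
    have h1 : ((1 : ℕ) : ℕ∞) ≤ LocCoh.idealDepth (IsLocalRing.maximalIdeal R) M := by
      refine le_trans ?_ hk
      exact_mod_cast Nat.succ_le_succ (Nat.zero_le k)
    obtain ⟨rs, hlen, hmem, hreg⟩ :=
      (Helper1.DepthExt.le_idealDepth_iff_exists_regular R _ M hIM 1).mp h1
    obtain ⟨x, rfl⟩ := List.length_eq_one_iff.mp hlen
    have hx : x ∈ IsLocalRing.maximalIdeal R := hmem x (by simp)
    have hxreg : IsSMulRegular M x :=
      (RingTheory.Sequence.isWeaklyRegular_singleton_iff M x).mp hreg.toIsWeaklyRegular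
    have hS := Groth.Agent.S0320.result R (IsLocalRing.maximalIdeal R) M hIM x hx hxreg
    have hkQ : (k : ℕ∞) ≤ LocCoh.depth R (QuotSMulTop x M) := by
      unfold LocCoh.depth at hk ⊢
      rw [← hS] at hk
      push_cast at hk
      exact (ENat.add_le_add_iff_right (ENat.one_ne_top)).mp hk
    let U : Submodule R M :=
      { carrier := {m | ∀ a ∈ p.asIdeal, a • m = 0}
        add_mem' := fun {a b} ha hb r hr => by rw [smul_add, ha r hr, hb r hr, add_zero]
        zero_mem' := fun r _ => smul_zero r
        smul_mem' := fun c m hm r hr => by rw [smul_comm, hm r hr, smul_zero] }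
    have hm₀U : m₀ ∈ U := by
      intro a ha
      rw [hm₀, Submodule.mem_colon_singleton] at ha
      simpa using ha
    have hnot : ¬ (U ≤ x • (⊤ : Submodule R M)) := by
      intro hle
      have hUle : U ≤ IsLocalRing.maximalIdeal R • U := by
        intro u hu
        obtain ⟨m', -, hm'⟩ := (Submodule.mem_smul_pointwise_iff_exists _ _ _).mp (hle hu)
        have hm'U : m' ∈ U := by
          intro a ha
          have h0 : x • (a • m') = x • (0 : M) := by
            rw [smul_comm, hm', smul_zero]; exact hu a ha
          exact hxreg h0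
        rw [← hm']
        exact Submodule.smul_mem_smul hx hm'U
      have hUbot : U = ⊥ := Submodule.eq_bot_of_le_smul_of_le_jacobson_bot _ U
        (IsNoetherian.noetherian U) hUle (IsLocalRing.maximalIdeal_le_jacobson _)
      apply hm₀ne
      have : m₀ ∈ (⊥ : Submodule R M) := hUbot ▸ hm₀U
      simpa using this
    obtain ⟨u, huU, hunot⟩ := SetLike.not_le_iff_exists.mp hnot
    have hū : (Submodule.Quotient.mk u : QuotSMulTop x M) ≠ 0 := by
      intro h; exact hunot ((Submodule.Quotient.mk_eq_zero _).mp h)
    obtain ⟨q, hqass, hqle⟩ := exists_le_isAssociatedPrime_of_isNoetherianRing R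
      (Submodule.Quotient.mk u : QuotSMulTop x M) hū
    have hpq : p.asIdeal ≤ q := by
      intro a ha
      apply hqle
      rw [Submodule.mem_colon_singleton, Submodule.mem_bot, ← Submodule.Quotient.mk_smul,
        huU a ha]
      rfl
    have hxq : x ∈ q := by
      apply hqle
      rw [Submodule.mem_colon_singleton, Submodule.mem_bot, ← Submodule.Quotient.mk_smul,
        Submodule.Quotient.mk_eq_zero]
      exact Submodule.smul_mem_pointwise_smul u x ⊤ trivial
    have hxp : x ∉ p.asIdeal := by
      intro hxp
      have := hm₀U x hxp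
      apply hm₀ne
      exact hxreg (show x • m₀ = x • (0 : M) by rw [this, smul_zero])
    let q' : PrimeSpectrum R := ⟨q, hqass.isPrime⟩
    have hlt : p < q' := by
      refine lt_of_le_of_ne hpq ?_
      intro h; apply hxp; rw [h]; exact hxq
    have hIH := ih (QuotSMulTop x M) q' hqass hkQ
    calc ((k + 1 : ℕ) : ℕ∞) = (k : ℕ∞) + 1 := by push_cast; rfl
      _ ≤ Order.coheight q' + 1 := by gcongr
      _ ≤ Order.coheight p := Order.coheight_add_one_le hlt


/-- Let `R` be a Noetherian local ring and `M` a finite `R`-module. For every associated prime `𝔭` of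
`M` the depth of `M` is at most the dimension of `R/𝔭`. -/
theorem result {R M : Type u} [CommRing R] [IsLocalRing R] [IsNoetherianRing R]
    [AddCommGroup M] [Module R M] [Module.Finite R M] (p : Ideal R) (hp : p ∈ associatedPrimes R M) :
    ((LocCoh.depth R M : ℕ∞) : WithBot ℕ∞) ≤ ringKrullDim (R ⧸ p) := by
  have hprime : p.IsPrime := hp.isPrime
  have hle : LocCoh.depth R M ≤ Order.coheight (⟨p, hprime⟩ : PrimeSpectrum R) := by
    rw [← ENat.forall_natCast_le_iff_le]
    intro k hk
    exact key R k M ⟨p, hprime⟩ hp hk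
  rw [ringKrullDim_quotient]
  have hz : PrimeSpectrum.zeroLocus (p : Set R) = Set.Ici (⟨p, hprime⟩ : PrimeSpectrum R) := by
    ext y
    rw [PrimeSpectrum.mem_zeroLocus, Set.mem_Ici, SetLike.coe_subset_coe]
    rfl
  rw [hz, ← Order.coheight_eq_krullDim_Ici]
  exact WithBot.coe_le_coe.mpr hle

end Groth.Agent.S2089
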