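import Groth.Statements.S2083
import Mathlib
import Groth.Agent.S2089
import Groth.Agent.S0785
import Groth.Agent.S0320

set_option autoImplicit false
universe u
open CAlg

namespace Groth.Agent.S2083

open Pointwise

theorem add_one_cancel (a b : WithBot ℕ∞) (h : a + 1 = b + 1) : a = b := by
  induction a using WithBot.recBotCoe with
  | bot =>
    induction b using WithBot.recBotCoe with
    | bot => rfl
    | coe b =>
      rw [WithBot.bot_add, ← WithBot.coe_one, ← WithBot.coe_add] at h
      exact absurd h.symm WithBot.coe_ne_bot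
  | coe a =>
    induction b using WithBot.recBotCoe with
    | bot =>
      rw [WithBot.bot_add, ← WithBot.coe_one, ← WithBot.coe_add] at h
      exact absurd h WithBot.coe_ne_bot
    | coe b =>
      rw [← WithBot.coe_one, ← WithBot.coe_add, ← WithBot.coe_add, WithBot.coe_inj] at h
      rw [ENat.add_left_injective_of_ne_top ENat.one_ne_top h]


/-- Let `R` be a Noetherian local ring, `M` a finite Cohen–Macaulay `R`-module and `g` a member of the
maximal ideal for which the support of `M/gM` has dimension exactly one less than that of `M`. Then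
`g` is a nonzerodivisor on `M`, and the quotient `M/gM` is again Cohen–Macaulay, with depth one
smaller than that of `M`. -/
theorem result {R M : Type u} [CommRing R] [IsLocalRing R] [IsNoetherianRing R]
    [AddCommGroup M] [Module R M] [Module.Finite R M] (hM : LocCoh.IsCohenMacaulayModule R M) (g : R)
    (hg : g ∈ IsLocalRing.maximalIdeal R)
    (hdim : Module.supportDim R (M ⧸ Ideal.span {g} • (⊤ : Submodule R M)) + 1 = Module.supportDim R M) :
    IsSMulRegular M g ∧ LocCoh.IsCohenMacaulayModule R (M ⧸ Ideal.span {g} • (⊤ : Submodule R M)) ∧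
      LocCoh.depth R (M ⧸ Ideal.span {g} • (⊤ : Submodule R M)) + 1 = LocCoh.depth R M := by
  classical
  have hMne : Nontrivial M := by
    rw [← Module.supportDim_ne_bot_iff_nontrivial R M]
    unfold LocCoh.IsCohenMacaulayModule at hM
    rw [hM]; exact WithBot.coe_ne_bot
  have hIM : IsLocalRing.maximalIdeal R • (⊤ : Submodule R M) ≠ ⊤ := by
    intro h
    have := Submodule.eq_bot_of_le_smul_of_le_jacobson_bot (IsLocalRing.maximalIdeal R)
      (⊤ : Submodule R M) Module.Finite.fg_top (le_of_eq h.symm)
      (IsLocalRing.maximalIdeal_le_jacobson _)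
    exact top_ne_bot this
  let e : (M ⧸ Ideal.span {g} • (⊤ : Submodule R M)) ≃ₗ[R] QuotSMulTop g M :=
    Submodule.quotEquivOfEq _ _ (Submodule.ideal_span_singleton_smul g ⊤)
  have hdepthQ : LocCoh.depth R (M ⧸ Ideal.span {g} • (⊤ : Submodule R M)) =
      LocCoh.depth R (QuotSMulTop g M) :=
    Groth.Agent.S0785.idealDepth_congr (IsLocalRing.maximalIdeal R) e
  have hreg : IsSMulRegular M g := by
    by_contra hnot
    rw [isSMulRegular_iff_right_eq_zero_of_smul] at hnot
    push Not at hnot
    obtain ⟨m, hgm, hm0⟩ := hnot
    obtain ⟨P, hPass, hPle⟩ := exists_le_isAssociatedPrime_of_isNoetherianRing R m hm0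
    have hgP : g ∈ P := hPle (by rw [Submodule.mem_colon_singleton]; simpa using hgm)
    have ha := Groth.Agent.S2089.result P hPass
    have hb : ringKrullDim (R ⧸ P) ≤
        Module.supportDim R (M ⧸ Ideal.span {g} • (⊤ : Submodule R M)) := by
      rw [ringKrullDim_quotient, Module.supportDim]
      have hsub : PrimeSpectrum.zeroLocus (P : Set R) ⊆
          Module.support R (M ⧸ Ideal.span {g} • (⊤ : Submodule R M)) := by
        intro q hq
        rw [Module.support_quotient]
        rw [PrimeSpectrum.mem_zeroLocus] at hq
        refine ⟨?_, ?_⟩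
        · rw [Module.mem_support_iff_exists_annihilator]
          refine ⟨m, fun a ha => hq (hPle ?_)⟩
          rw [Submodule.mem_annihilator_span_singleton] at ha
          rw [Submodule.mem_colon_singleton, ha]; exact Submodule.zero_mem _
        · rw [PrimeSpectrum.mem_zeroLocus]
          intro a ha
          obtain ⟨c, rfl⟩ := Ideal.mem_span_singleton'.mp ha
          exact q.asIdeal.mul_mem_left c (hq hgP)
      exact Order.krullDim_le_of_strictMono (Set.inclusion hsub) (fun a b h => h)
    unfold LocCoh.IsCohenMacaulayModule at hM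
    have hx : Module.supportDim R (M ⧸ Ideal.span {g} • (⊤ : Submodule R M)) + 1 ≤
        Module.supportDim R (M ⧸ Ideal.span {g} • (⊤ : Submodule R M)) := by
      rw [hdim, hM]; exact ha.trans hb
    have hfin : Module.supportDim R M ≠ ⊤ := fun h =>
      ringKrullDim_ne_top (R := R) (top_le_iff.mp (h ▸ Module.supportDim_le_ringKrullDim R M))
    revert hx hdim
    generalize Module.supportDim R (M ⧸ Ideal.span {g} • (⊤ : Submodule R M)) = x
    intro hdim hx
    induction x using WithBot.recBotCoe with
    | bot =>
      rw [WithBot.bot_add] at hdim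
      exact (Module.supportDim_ne_bot_iff_nontrivial R M).mpr hMne hdim.symm
    | coe y =>
      rw [← WithBot.coe_one, ← WithBot.coe_add, WithBot.coe_le_coe] at hx
      by_cases hy : y = ⊤
      · apply hfin; rw [← hdim, hy]; rfl
      · exact absurd ((ENat.add_one_le_iff hy).mp hx) (lt_irrefl _)
  have hS := Groth.Agent.S0320.result R (IsLocalRing.maximalIdeal R) M hIM g hg hreg
  have hdep : LocCoh.depth R (M ⧸ Ideal.span {g} • (⊤ : Submodule R M)) + 1 =
      LocCoh.depth R M := by
    rw [hdepthQ]; exact hS
  refine ⟨hreg, ?_, hdep⟩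
  unfold LocCoh.IsCohenMacaulayModule at hM ⊢
  apply add_one_cancel
  rw [hdim, hM, ← hdep, WithBot.coe_add, WithBot.coe_one]

end Groth.Agent.S2083
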