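import Groth.Statements.S2097
import Mathlib
-- import your own Groth.Agent.* helpers here

set_option autoImplicit false
universe u
open CAlg

namespace Groth.Agent.S2097

/-- Let `R → S` be smooth, `A` an `R`-algebra and `I ⊆ A` an ideal all of whose elements are nilpotent.
Every `R`-algebra map `S → A/I` lifts to an `R`-algebra map `S → A`. -/
theorem result {R S A : Type u} [CommRing R] [CommRing S] [Algebra R S] [Algebra.Smooth R S]
    [CommRing A] [Algebra R A] (I : Ideal A) (hI : ∀ x ∈ I, IsNilpotent x) (g : S →ₐ[R] A ⧸ I) :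
    ∃ f : S →ₐ[R] A, (Ideal.Quotient.mkₐ R I).comp f = g := by
  obtain ⟨n, φ, hφ, hker⟩ := (inferInstance : Algebra.FinitePresentation R S).out
  have hker' : (RingHom.ker φ).FG := hker
  choose a ha using fun i : Fin n => Ideal.Quotient.mk_surjective (g (φ (MvPolynomial.X i)))
  let ev : MvPolynomial (Fin n) R →ₐ[R] A := MvPolynomial.aeval a
  have hev : (Ideal.Quotient.mkₐ R I).comp ev = g.comp φ := by
    apply MvPolynomial.algHom_ext
    intro i
    simp [ev, ha]
  let I' : Ideal A := (RingHom.ker φ).map ev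
  have hmem : ∀ p, p ∈ RingHom.ker φ → ev p ∈ I' := fun p hp => Ideal.mem_map_of_mem _ hp
  have hI'I : I' ≤ I := by
    rw [Ideal.map_le_iff_le_comap]
    intro p hp
    rw [Ideal.mem_comap]
    have h1 : Ideal.Quotient.mk I (ev p) = g (φ p) := AlgHom.congr_fun hev p
    have h2 : φ p = 0 := hp
    rw [h2, map_zero] at h1
    exact Ideal.Quotient.eq_zero_iff_mem.mp h1
  have hI'fg : I'.FG := hker'.map _
  have hI'nil : IsNilpotent I' :=
    hI'fg.isNilpotent_iff_le_nilradical.mpr (fun x hx => mem_nilradical.mpr (hI x (hI'I hx)))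
  let g₀ : (MvPolynomial (Fin n) R ⧸ RingHom.ker φ) →ₐ[R] A ⧸ I' :=
    Ideal.Quotient.liftₐ (RingHom.ker φ) ((Ideal.Quotient.mkₐ R I').comp ev) (fun p hp => by
      show Ideal.Quotient.mk I' (ev p) = 0
      rw [Ideal.Quotient.eq_zero_iff_mem]
      exact hmem p hp)
  let g' : S →ₐ[R] A ⧸ I' := g₀.comp (Ideal.quotientKerAlgEquivOfSurjective hφ).symm.toAlgHom
  have hg' : ∀ p, g' (φ p) = Ideal.Quotient.mk I' (ev p) := by
    intro p
    simp [g', g₀]
  obtain ⟨f, hf⟩ := Algebra.FormallySmooth.exists_lift I' hI'nil g'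
  refine ⟨f, ?_⟩
  apply AlgHom.ext
  intro s
  obtain ⟨p, rfl⟩ := hφ s
  have h1 : Ideal.Quotient.mk I' (f (φ p)) = Ideal.Quotient.mk I' (ev p) := by
    rw [← hg']
    exact AlgHom.congr_fun hf (φ p)
  have h2 : f (φ p) - ev p ∈ I := hI'I (Ideal.Quotient.eq.mp h1)
  have h3 : Ideal.Quotient.mk I (f (φ p)) = Ideal.Quotient.mk I (ev p) := Ideal.Quotient.eq.mpr h2
  show Ideal.Quotient.mk I (f (φ p)) = g (φ p)
  rw [h3]
  exact AlgHom.congr_fun hev p

end Groth.Agent.S2097
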