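import Groth.Statements.S2098
import Mathlib
-- import your own Groth.Agent.* helpers here

set_option autoImplicit false
universe u
open CAlg

namespace Groth.Agent.S2098
lemma hom_smul_top_apply {R P Q : Type*} [CommRing R] [AddCommGroup P] [Module R P]
    [AddCommGroup Q] [Module R Q] (J : Ideal R) (g : P →ₗ[R] Q)
    (hg : g ∈ J • (⊤ : Submodule R (P →ₗ[R] Q))) (x : P) : g x ∈ J • (⊤ : Submodule R Q) := by
  refine Submodule.smul_induction_on (p := fun g : P →ₗ[R] Q => g x ∈ J • (⊤ : Submodule R Q)) hg ?_ ?_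
  · intro r hr f _
    show (r • f) x ∈ _
    rw [LinearMap.smul_apply]
    exact Submodule.smul_mem_smul hr Submodule.mem_top
  · intro f₁ f₂ h₁ h₂
    show (f₁ + f₂) x ∈ _
    rw [LinearMap.add_apply]
    exact Submodule.add_mem _ h₁ h₂

lemma mem_smul_top_of_forall {R Q : Type*} [CommRing R] [AddCommGroup Q] [Module R Q]
    (J : Ideal R) {a : ℕ} (h : (Fin a → R) →ₗ[R] Q)
    (hh : ∀ y, h y ∈ J • (⊤ : Submodule R Q)) :
    h ∈ J • (⊤ : Submodule R ((Fin a → R) →ₗ[R] Q)) := by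
  classical
  have key : ∀ (j : Fin a) (q : Q), q ∈ J • (⊤ : Submodule R Q) →
      LinearMap.smulRightₗ (LinearMap.proj j : (Fin a → R) →ₗ[R] R) q ∈
        J • (⊤ : Submodule R ((Fin a → R) →ₗ[R] Q)) := by
    intro j q hq
    have h1 : LinearMap.smulRightₗ (LinearMap.proj j : (Fin a → R) →ₗ[R] R) q ∈
        (J • (⊤ : Submodule R Q)).map
          (LinearMap.smulRightₗ (LinearMap.proj j : (Fin a → R) →ₗ[R] R)) :=
      Submodule.mem_map_of_mem hq
    rw [Submodule.map_smul''] at h1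
    exact Submodule.smul_mono le_rfl le_top h1
  have hsum : h = ∑ j, LinearMap.smulRightₗ (LinearMap.proj j : (Fin a → R) →ₗ[R] R)
      (h (Pi.single j 1)) := by
    apply LinearMap.pi_ext
    intro i r
    rw [LinearMap.sum_apply]
    simp only [LinearMap.smulRightₗ_apply, LinearMap.smulRight_apply, LinearMap.proj_apply]
    rw [Finset.sum_eq_single i]
    · rw [Pi.single_eq_same, ← map_smul]
      congr 1
      ext k
      simp [Pi.single_apply]
    · intro j _ hji
      rw [Pi.single_eq_of_ne hji, zero_smul]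
    · intro hi
      exact absurd (Finset.mem_univ i) hi
  rw [hsum]
  exact Submodule.sum_mem _ (fun j _ => key j _ (hh _))


/-- Let `R` be Noetherian, `I` an ideal inside the Jacobson radical and `u : N → M` a map of finite
`R`-modules. If for arbitrarily large `n` the induced map `N/IⁿN → M/IⁿM` has a left inverse, then
`u` has a left inverse. -/
theorem result {R M N : Type u} [CommRing R] [IsNoetherianRing R] (I : Ideal R)
    (hI : I ≤ (⊥ : Ideal R).jacobson) [AddCommGroup M] [Module R M] [Module.Finite R M] [AddCommGroup N] [Module R N]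
    [Module.Finite R N] (u : N →ₗ[R] M)
    (h : ∀ n₀ : ℕ, ∃ n, n₀ ≤ n ∧ ∃ s : (M ⧸ (I ^ n) • (⊤ : Submodule R M)) →ₗ[R] (N ⧸ (I ^ n) • (⊤ : Submodule R N)),
      ∀ x : N, s (Submodule.Quotient.mk (u x)) = Submodule.Quotient.mk x) :
    ∃ s : M →ₗ[R] N, s.comp u = LinearMap.id := by
  classical
  obtain ⟨b, π, hπ⟩ := Module.Finite.exists_fin' R M
  have hK : (LinearMap.ker π).FG := IsNoetherian.noetherian _
  obtain ⟨a, gen, hgen⟩ := (Submodule.fg_iff_exists_fin_generating_family).1 hK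
  obtain ⟨κ, hκ⟩ : ∃ κ : (Fin a → R) →ₗ[R] (Fin b → R), LinearMap.range κ = LinearMap.ker π :=
    ⟨Fintype.linearCombination R gen, by rw [Fintype.range_linearCombination, hgen]⟩
  obtain ⟨φ, hφ⟩ : ∃ φ : ((Fin b → R) →ₗ[R] N) →ₗ[R] ((Fin a → R) →ₗ[R] N),
      ∀ g z, φ g z = g (κ z) := ⟨LinearMap.lcomp R N κ, fun g z => rfl⟩
  obtain ⟨c, hc⟩ := Ideal.exists_pow_inf_eq_pow_smul I (LinearMap.range φ)
  obtain ⟨n, hn, s, hs⟩ := h (c + 1)
  obtain ⟨g, hg⟩ := Module.projective_lifting_property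
    (Submodule.mkQ ((I ^ n) • (⊤ : Submodule R N)))
    (s ∘ₗ Submodule.mkQ ((I ^ n) • (⊤ : Submodule R M)) ∘ₗ π) (Submodule.mkQ_surjective _)
  have hg' : ∀ y, (Submodule.Quotient.mk (g y) : N ⧸ (I ^ n) • (⊤ : Submodule R N)) =
      s (Submodule.Quotient.mk (π y)) := fun y => LinearMap.congr_fun hg y
  have hgK : ∀ y, π y = 0 → g y ∈ (I ^ n) • (⊤ : Submodule R N) := by
    intro y hy
    rw [← Submodule.Quotient.mk_eq_zero, hg' y, hy, Submodule.Quotient.mk_zero, map_zero]
  have hφg : φ g ∈ (I ^ n) • (⊤ : Submodule R ((Fin a → R) →ₗ[R] N)) := by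
    apply mem_smul_top_of_forall
    intro y
    rw [hφ]
    apply hgK
    have h1 : κ y ∈ LinearMap.ker π := hκ ▸ LinearMap.mem_range_self κ y
    exact LinearMap.mem_ker.1 h1
  have h2 : φ g ∈ (I ^ n) • (⊤ : Submodule R ((Fin a → R) →ₗ[R] N)) ⊓ LinearMap.range φ :=
    ⟨hφg, LinearMap.mem_range_self φ g⟩
  rw [hc n (by omega)] at h2
  have h3 : φ g ∈ (I ^ (n - c)) • LinearMap.range φ :=
    Submodule.smul_mono le_rfl inf_le_right h2
  rw [LinearMap.range_eq_map, ← Submodule.map_smul''] at h3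
  obtain ⟨g', hg'mem, hg'eq⟩ := h3
  have hdiff : ∀ y, π y = 0 → (g - g') y = 0 := by
    intro y hy
    have hy' : y ∈ LinearMap.range κ := by rw [hκ]; exact LinearMap.mem_ker.2 hy
    obtain ⟨z, rfl⟩ := hy'
    have h4 : φ g' z = φ g z := LinearMap.congr_fun hg'eq z
    rw [hφ, hφ] at h4
    rw [LinearMap.sub_apply, h4, sub_self]
  obtain ⟨st, hst⟩ : ∃ st : M →ₗ[R] N, ∀ y, st (π y) = g y - g' y := by
    refine ⟨(Submodule.liftQ (LinearMap.ker π) (g - g')
      (fun y hy => LinearMap.mem_ker.2 (hdiff y (LinearMap.mem_ker.1 hy)))) ∘ₗ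
      (π.quotKerEquivOfSurjective hπ).symm.toLinearMap, fun y => ?_⟩
    have h5 : (π.quotKerEquivOfSurjective hπ).symm (π y) = Submodule.Quotient.mk y := by
      rw [LinearEquiv.symm_apply_eq]; rfl
    rw [LinearMap.comp_apply, LinearEquiv.coe_coe, h5, Submodule.liftQ_apply, LinearMap.sub_apply]
  have hI1 : ∀ x : N, st (u x) - x ∈ I • (⊤ : Submodule R N) := by
    intro x
    obtain ⟨y, hy⟩ := hπ (u x)
    rw [← hy, hst]
    have e1 : g y - x ∈ (I ^ n) • (⊤ : Submodule R N) := by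
      rw [← Submodule.Quotient.eq, hg' y, hy, hs x]
    have e2 : g' y ∈ (I ^ (n - c)) • (⊤ : Submodule R N) := hom_smul_top_apply _ g' hg'mem y
    have le1 : (I ^ n) • (⊤ : Submodule R N) ≤ I • ⊤ :=
      Submodule.smul_mono_left (Ideal.pow_le_self (by omega))
    have le2 : (I ^ (n - c)) • (⊤ : Submodule R N) ≤ I • ⊤ :=
      Submodule.smul_mono_left (Ideal.pow_le_self (by omega))
    have e3 : g y - g' y - x = (g y - x) - g' y := by abel
    rw [e3]
    exact Submodule.sub_mem _ (le1 e1) (le2 e2)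
  have hsurj : Function.Surjective (st ∘ₗ u) := by
    rw [← LinearMap.range_eq_top]
    refine eq_top_iff.2 (Submodule.le_of_le_smul_of_le_jacobson_bot Module.Finite.fg_top hI ?_)
    intro x _
    have h5 := Submodule.add_mem_sup (LinearMap.mem_range_self (st ∘ₗ u) x)
      (Submodule.neg_mem _ (hI1 x))
    have h6 : (st ∘ₗ u) x + -(st (u x) - x) = x := by simp
    rw [h6] at h5
    exact h5
  have hinj : Function.Injective (st ∘ₗ u) :=
    OrzechProperty.injective_of_surjective_endomorphism (st ∘ₗ u) hsurj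
  refine ⟨(LinearEquiv.ofBijective (st ∘ₗ u) ⟨hinj, hsurj⟩).symm.toLinearMap ∘ₗ st, ?_⟩
  ext x
  simp only [LinearMap.comp_apply, LinearEquiv.coe_coe, LinearMap.id_apply]
  rw [LinearEquiv.symm_apply_eq]
  rfl

end Groth.Agent.S2098
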