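import Groth.Statements.S2111
import Mathlib

set_option autoImplicit false
universe u
open CAlg

namespace Groth.Agent.S2111

theorem height_one_of_colon {R : Type u} [CommRing R] [IsDomain R] [IsNoetherianRing R]
    [IsIntegrallyClosed R] (b c : R) (hb : b ≠ 0) (P : Ideal R) [hP : P.IsPrime]
    (hPdef : ∀ r, r ∈ P ↔ ∃ t, r * c = t * b) : P.height = 1 := by
  classical
  have hbP : b ∈ P := (hPdef b).mpr ⟨c, mul_comm b c⟩
  have hPne : P ≠ ⊥ := fun h => hb (by rw [h] at hbP; simpa using hbP)
  have hP0 : P.height ≠ 0 := by rw [Ne, Ideal.height_eq_zero_iff_eq_bot]; exact hPne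
  refine le_antisymm ?_ (Order.one_le_iff_ne_zero.mpr hP0)
  choose! t ht using fun r => (hPdef r).mp
  by_cases hcase : ∀ r ∈ P, t r ∈ P
  · exfalso
    have hbK : algebraMap R (FractionRing R) b ≠ 0 := by
      rw [Ne, map_eq_zero_iff _ (IsFractionRing.injective R (FractionRing R))]
      exact hb
    have hy : ∀ r ∈ P, algebraMap R (FractionRing R) c / algebraMap R (FractionRing R) b *
        algebraMap R (FractionRing R) r = algebraMap R (FractionRing R) (t r) := by
      intro r hr
      have := congrArg (algebraMap R (FractionRing R)) (ht r hr)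
      rw [map_mul, map_mul] at this
      rw [div_mul_eq_mul_div, div_eq_iff hbK, mul_comm]
      exact this
    let N : Submodule R (FractionRing R) :=
      Submodule.map (Algebra.linearMap R (FractionRing R)) P
    have hN0 : N ≠ ⊥ := by
      intro h
      have : algebraMap R (FractionRing R) b ∈ N := ⟨b, hbP, rfl⟩
      rw [h, Submodule.mem_bot] at this
      exact hbK this
    have hNfg : N.FG := (IsNoetherian.noetherian P).map _
    have hint : IsIntegral R
        (algebraMap R (FractionRing R) c / algebraMap R (FractionRing R) b) := by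
      apply isIntegral_of_smul_mem_submodule N hN0 hNfg
      rintro _ ⟨r, hr, rfl⟩
      refine ⟨t r, hcase r hr, ?_⟩
      rw [Algebra.linearMap_apply, Algebra.linearMap_apply, smul_eq_mul, hy r hr]
    obtain ⟨d, hd⟩ := IsIntegrallyClosed.isIntegral_iff.mp hint
    have hcd : c = d * b := by
      apply IsFractionRing.injective R (FractionRing R)
      rw [map_mul, hd]
      exact (div_mul_cancel₀ _ hbK).symm
    apply hP.ne_top
    rw [Ideal.eq_top_iff_one, hPdef]
    exact ⟨d, by rw [one_mul]; exact hcd⟩
  · push Not at hcase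
    obtain ⟨r0, hr0, ht0⟩ := hcase
    have hmin : P ∈ (Ideal.span {r0}).minimalPrimes := by
      refine ⟨⟨hP, (Ideal.span_singleton_le_iff_mem _).mpr hr0⟩, ?_⟩
      rintro Q ⟨hQprime, hQr0⟩ hQP
      intro r hr
      have h1 : r * t r0 = r0 * t r := by
        have e1 := ht r hr
        have e2 := ht r0 hr0
        apply mul_right_cancel₀ hb
        calc r * t r0 * b = r * (t r0 * b) := by ring
          _ = r * (r0 * c) := by rw [e2]
          _ = r0 * (r * c) := by ring
          _ = r0 * (t r * b) := by rw [e1]
          _ = r0 * t r * b := by ring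
      have h2 : r * t r0 ∈ Q := by
        rw [h1]; exact Q.mul_mem_right _ ((Ideal.span_singleton_le_iff_mem _).mp hQr0)
      rcases hQprime.mem_or_mem h2 with h | h
      · exact h
      · exact absurd (hQP h) ht0
    exact Ideal.height_le_one_of_isPrincipal_of_mem_minimalPrimes (Ideal.span {r0}) P hmin


/-- Let `R` be a Noetherian normal domain with fraction field `K`. An element of `K` which lies in `R_𝔭`
for every prime `𝔭` of height one lies in `R`. -/
theorem result {R : Type u} [CommRing R] [IsDomain R] [IsNoetherianRing R]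
    [IsIntegrallyClosed R] (x : FractionRing R)
    (hx : ∀ (p : Ideal R) [p.IsPrime], p.height = 1 →
      x ∈ Set.range (algebraMap (Localization.AtPrime p) (FractionRing R))) :
    x ∈ Set.range (algebraMap R (FractionRing R)) := by
  classical
  obtain ⟨⟨a, ⟨b, hbmem⟩⟩, hxab⟩ := IsLocalization.mk'_surjective (nonZeroDivisors R) x
  have hxab' : IsLocalization.mk' (FractionRing R) a ⟨b, hbmem⟩ = x := hxab
  have h2 : x * algebraMap R (FractionRing R) b = algebraMap R (FractionRing R) a :=
    IsLocalization.eq_mk'_iff_mul_eq.mp hxab'.symm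
  have hb : b ≠ 0 := nonZeroDivisors.ne_zero hbmem
  have hbK : algebraMap R (FractionRing R) b ≠ 0 := by
    rw [Ne, map_eq_zero_iff _ (IsFractionRing.injective R (FractionRing R))]
    exact hb
  by_contra hnot
  have hab : a ∉ Ideal.span {b} := by
    intro h
    obtain ⟨d, hd⟩ := Ideal.mem_span_singleton'.mp h
    apply hnot
    refine ⟨d, ?_⟩
    apply mul_right_cancel₀ hbK
    rw [h2, ← map_mul, hd]
  have hane : (Ideal.Quotient.mk (Ideal.span {b}) a) ≠ 0 := by
    rwa [Ne, Ideal.Quotient.eq_zero_iff_mem]
  obtain ⟨P, hPass, hPle⟩ := exists_le_isAssociatedPrime_of_isNoetherianRing R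
    (Ideal.Quotient.mk (Ideal.span {b}) a) hane
  obtain ⟨hPprime, cbar, hPc⟩ := isAssociatedPrime_iff.mp hPass
  obtain ⟨c, rfl⟩ := Ideal.Quotient.mk_surjective cbar
  haveI := hPprime
  have hsm : ∀ r c' : R, r • (Ideal.Quotient.mk (Ideal.span {b}) c') =
      Ideal.Quotient.mk (Ideal.span {b}) (r * c') := fun r c' => rfl
  have hPdef : ∀ r, r ∈ P ↔ ∃ t, r * c = t * b := by
    intro r
    rw [hPc, Submodule.mem_colon_singleton, Submodule.mem_bot, hsm,
      Ideal.Quotient.eq_zero_iff_mem, Ideal.mem_span_singleton']
    constructor <;> rintro ⟨t, ht⟩ <;> exact ⟨t, ht.symm⟩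
  have hheight := height_one_of_colon b c hb P hPdef
  obtain ⟨z, hz⟩ := hx P hheight
  obtain ⟨⟨r, ⟨s, hs⟩⟩, hzrs⟩ := IsLocalization.mk'_surjective P.primeCompl z
  have hzrs' : IsLocalization.mk' (Localization.AtPrime P) r ⟨s, hs⟩ = z := hzrs
  have h1 : algebraMap R (FractionRing R) r = x * algebraMap R (FractionRing R) s := by
    rw [← hz, ← hzrs', IsScalarTower.algebraMap_apply R (Localization.AtPrime P) (FractionRing R) r,
      IsScalarTower.algebraMap_apply R (Localization.AtPrime P) (FractionRing R) s, ← map_mul,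
      IsLocalization.mk'_spec]
  have h3 : s * a = r * b := by
    apply IsFractionRing.injective R (FractionRing R)
    rw [map_mul, map_mul, h1, ← h2]; ring
  have hsP : s ∈ P := by
    apply hPle
    rw [Submodule.mem_colon_singleton, Submodule.mem_bot, hsm,
      Ideal.Quotient.eq_zero_iff_mem, h3]
    exact Ideal.mul_mem_left _ _ (Ideal.mem_span_singleton_self b)
  exact hs hsP

end Groth.Agent.S2111
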