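import Groth.Statements.S2113
import Mathlib
import Groth.Agent.Lib.helper1.HeightOne

set_option autoImplicit false
universe u
open CAlg

namespace Groth.Agent.S2113

/-- A Noetherian ring in which each prime is maximal or else lies below infinitely many primes is a
Jacobson ring. -/
theorem result {R : Type u} [CommRing R] [IsNoetherianRing R]
    (h : ∀ (p : Ideal R) [p.IsPrime], p.IsMaximal ∨ {q : PrimeSpectrum R | p ≤ q.asIdeal}.Infinite) :
    IsJacobsonRing R := by
  classical
  rw [isJacobsonRing_iff_prime_eq]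
  by_contra hnot
  push Not at hnot
  let S : Set (Ideal R) := {P | P.IsPrime ∧ P.jacobson ≠ P}
  have hSne : S.Nonempty := by
    obtain ⟨P, hP, hPj⟩ := hnot
    exact ⟨P, hP, hPj⟩
  obtain ⟨P, ⟨hPprime, hPj⟩, hPmax⟩ := (wellFounded_gt (α := Ideal R)).has_min S hSne
  haveI := hPprime
  have hPnotmax : ¬ P.IsMaximal := fun hm => hPj (Ideal.jacobson_eq_self_of_isMaximal (I := P))
  have hinf := (h P).resolve_left hPnotmax
  have hlt : ¬ (P.jacobson ≤ P) := fun hle => hPj (le_antisymm hle Ideal.le_jacobson)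
  obtain ⟨f, hfJ, hfP⟩ := SetLike.not_le_iff_exists.mp hlt
  have hfQ : ∀ Q : Ideal R, Q.IsPrime → P < Q → f ∈ Q := by
    intro Q hQ hPQ
    have hQj : Q.jacobson = Q := by
      by_contra hne
      exact hPmax Q ⟨hQ, hne⟩ hPQ
    rw [← hQj]
    exact Ideal.jacobson_mono hPQ.le hfJ
  have hfbar : (Ideal.Quotient.mk P f) ≠ 0 := by
    rw [Ne, Ideal.Quotient.eq_zero_iff_mem]; exact hfP
  have hall : ∀ q : Ideal (R ⧸ P), q.IsPrime → q ≠ ⊥ → Ideal.Quotient.mk P f ∈ q := by
    intro q hq hq0
    haveI := hq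
    have hcomap : (q.comap (Ideal.Quotient.mk P)).IsPrime := inferInstance
    have hPle : P ≤ q.comap (Ideal.Quotient.mk P) := by
      intro a ha
      rw [Ideal.mem_comap, Ideal.Quotient.eq_zero_iff_mem.mpr ha]; exact q.zero_mem
    have hPlt : P < q.comap (Ideal.Quotient.mk P) := by
      refine lt_of_le_of_ne hPle ?_
      intro heq
      apply hq0
      rw [eq_bot_iff]
      intro b hb
      obtain ⟨a, rfl⟩ := Ideal.Quotient.mk_surjective b
      have : a ∈ q.comap (Ideal.Quotient.mk P) := hb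
      rw [← heq] at this
      rw [Ideal.mem_bot, Ideal.Quotient.eq_zero_iff_mem]; exact this
    exact hfQ _ hcomap hPlt
  have hfin := Helper1.HeightOne.finite_primes_of_mem_all (Ideal.Quotient.mk P f) hfbar hall
  apply hinf
  have hsurj : Function.Surjective (Ideal.Quotient.mk P) := Ideal.Quotient.mk_surjective
  have hcm : ∀ q : PrimeSpectrum R, P ≤ q.asIdeal →
      (q.asIdeal.map (Ideal.Quotient.mk P)).comap (Ideal.Quotient.mk P) = q.asIdeal := by
    intro q hq
    rw [Ideal.comap_map_of_surjective _ hsurj, ← RingHom.ker_eq_comap_bot, Ideal.mk_ker]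
    exact sup_eq_left.mpr hq
  refine Set.Finite.of_finite_image
    (f := fun q : PrimeSpectrum R => q.asIdeal.map (Ideal.Quotient.mk P)) (hfin.subset ?_) ?_
  · rintro _ ⟨q, hq, rfl⟩
    exact Ideal.map_isPrime_of_surjective hsurj (by rw [Ideal.mk_ker]; exact hq)
  · intro q1 hq1 q2 hq2 heq
    have heq' : q1.asIdeal.map (Ideal.Quotient.mk P) = q2.asIdeal.map (Ideal.Quotient.mk P) := heq
    apply PrimeSpectrum.ext
    rw [← hcm q1 hq1, ← hcm q2 hq2, heq']

end Groth.Agent.S2113
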