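import Groth.Statements.S2119
import Mathlib

set_option autoImplicit false
universe u
open CAlg

namespace Groth.Agent.S2119

/-- Nagata's criterion for factoriality, final assertion: let `A` be a domain in which every nonzero
nonunit factors into irreducibles, and `S` the multiplicative subset generated by a set of prime
elements. If the localization `S⁻¹A` is a unique factorization domain, then so is `A`. -/
theorem result {A : Type u} [CommRing A] [IsDomain A]
    (hfac : ∀ a : A, a ≠ 0 → ¬ IsUnit a → ∃ f : Multiset A, (∀ b ∈ f, Irreducible b) ∧ Associated f.prod a) (P : Set A)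
    (hP : ∀ p ∈ P, Prime p) [IsDomain (Localization (Submonoid.closure P))]
    (hS : UniqueFactorizationMonoid (Localization (Submonoid.closure P))) : UniqueFactorizationMonoid A := by
  classical
  haveI := hS
  have hS0 : ∀ s ∈ Submonoid.closure P, s ≠ 0 := by
    intro s hs
    induction hs using Submonoid.closure_induction with
    | mem x hx => exact (hP x hx).ne_zero
    | one => exact one_ne_zero
    | mul x y _ _ hx hy => exact mul_ne_zero hx hy
  have hSle : Submonoid.closure P ≤ nonZeroDivisors A :=
    fun s hs => mem_nonZeroDivisors_of_ne_zero (hS0 s hs)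
  have hinj : Function.Injective (algebraMap A (Localization (Submonoid.closure P))) :=
    IsLocalization.injective _ hSle
  have hM : ∀ s ∈ Submonoid.closure P, ∀ q a b : A, s * q = a * b →
      ∃ s1 ∈ Submonoid.closure P, ∃ s2 ∈ Submonoid.closure P, ∃ a' b' : A,
        a = s1 * a' ∧ b = s2 * b' ∧ q = a' * b' := by
    intro s hs
    induction hs using Submonoid.closure_induction with
    | mem p hp =>
      intro q a b h
      have hpr := hP p hp
      have hdvd : p ∣ a * b := ⟨q, h.symm⟩
      rcases hpr.dvd_or_dvd hdvd with ⟨a', rfl⟩ | ⟨b', rfl⟩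
      · refine ⟨p, Submonoid.subset_closure hp, 1, Submonoid.one_mem _, a', b, rfl,
          (one_mul b).symm, ?_⟩
        apply mul_left_cancel₀ hpr.ne_zero
        rw [h]; ring
      · refine ⟨1, Submonoid.one_mem _, p, Submonoid.subset_closure hp, a, b',
          (one_mul a).symm, rfl, ?_⟩
        apply mul_left_cancel₀ hpr.ne_zero
        rw [h]; ring
    | one =>
      intro q a b h
      exact ⟨1, Submonoid.one_mem _, 1, Submonoid.one_mem _, a, b, (one_mul a).symm,
        (one_mul b).symm, by rw [← h, one_mul]⟩
    | mul x y hx hy ihx ihy =>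
      intro q a b h
      obtain ⟨t1, ht1, t2, ht2, a', b', rfl, rfl, h'⟩ := ihx (y * q) a b (by rw [← h]; ring)
      obtain ⟨u1, hu1, u2, hu2, a'', b'', rfl, rfl, h''⟩ := ihy q a' b' h'
      exact ⟨t1 * u1, Submonoid.mul_mem _ ht1 hu1, t2 * u2, Submonoid.mul_mem _ ht2 hu2,
        a'', b'', by ring, by ring, h''⟩
  have hL : ∀ q : A, (∀ p ∈ P, ¬ p ∣ q) → ∀ s ∈ Submonoid.closure P, ∀ c : A,
      s ∣ q * c → s ∣ c := by
    intro q hq s hs
    induction hs using Submonoid.closure_induction with
    | mem p hp =>
      intro c h
      exact ((hP p hp).dvd_or_dvd h).resolve_left (hq p hp)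
    | one => intro c _; exact one_dvd c
    | mul x y hx hy ihx ihy =>
      intro c h
      obtain ⟨c1, rfl⟩ := ihx c (dvd_trans (dvd_mul_right x y) h)
      have h2 : y ∣ q * c1 := by
        have : x * y ∣ x * (q * c1) := by
          have e : q * (x * c1) = x * (q * c1) := by ring
          rw [← e]; exact h
        exact (mul_dvd_mul_iff_left (hS0 x hx)).mp this
      obtain ⟨c2, rfl⟩ := ihy c1 h2
      exact ⟨c2, by ring⟩
  have hprime_of_nodvd : ∀ q : A, Irreducible q → (∀ p ∈ P, ¬ p ∣ q) → Prime q := by
    intro q hqirr hq
    have hφunit : ∀ s ∈ Submonoid.closure P,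
        IsUnit (algebraMap A (Localization (Submonoid.closure P)) s) :=
      fun s hs => IsLocalization.map_units _ ⟨s, hs⟩
    have hsurj : ∀ w : Localization (Submonoid.closure P), ∃ a : A,
        ∃ s ∈ Submonoid.closure P,
          w * algebraMap A (Localization (Submonoid.closure P)) s =
            algebraMap A (Localization (Submonoid.closure P)) a := by
      intro w
      obtain ⟨⟨a, s⟩, h⟩ := IsLocalization.surj (Submonoid.closure P) w
      exact ⟨a, s.1, s.2, h⟩
    have hirrB : Irreducible (algebraMap A (Localization (Submonoid.closure P)) q) := by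
      constructor
      · intro hu
        obtain ⟨w, hw⟩ := hu.exists_right_inv
        obtain ⟨a, s, hs, hws⟩ := hsurj w
        have h1 : q * a = s := by
          apply hinj
          rw [map_mul, ← hws, ← mul_assoc, hw, one_mul]
        have h2 : s ∣ a := hL q hq s hs a ⟨1, by rw [mul_one]; exact h1⟩
        obtain ⟨a', rfl⟩ := h2
        have h3 : q * a' = 1 := by
          apply mul_left_cancel₀ (hS0 s hs)
          rw [mul_one]
          calc s * (q * a') = q * (s * a') := by ring
            _ = s := h1
        exact hqirr.not_isUnit ⟨⟨q, a', h3, by rw [mul_comm]; exact h3⟩, rfl⟩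
      · intro u v huv
        obtain ⟨a, s, hs, hus⟩ := hsurj u
        obtain ⟨b, t, ht, hvt⟩ := hsurj v
        have h1 : (s * t) * q = a * b := by
          apply hinj
          rw [map_mul, map_mul, map_mul, huv, ← hus, ← hvt]; ring
        obtain ⟨s1, hs1, s2, hs2, a', b', rfl, rfl, hq'⟩ :=
          hM (s * t) (Submonoid.mul_mem _ hs ht) q a b h1
        rcases hqirr.isUnit_or_isUnit hq' with ha' | hb'
        · left
          have : IsUnit (u * algebraMap A (Localization (Submonoid.closure P)) s) := by
            rw [hus, map_mul]; exact (hφunit s1 hs1).mul (ha'.map _)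
          exact isUnit_of_mul_isUnit_left this
        · right
          have : IsUnit (v * algebraMap A (Localization (Submonoid.closure P)) t) := by
            rw [hvt, map_mul]; exact (hφunit s2 hs2).mul (hb'.map _)
          exact isUnit_of_mul_isUnit_left this
    have hprimeB : Prime (algebraMap A (Localization (Submonoid.closure P)) q) :=
      UniqueFactorizationMonoid.irreducible_iff_prime.mp hirrB
    refine ⟨hqirr.ne_zero, hqirr.not_isUnit, ?_⟩
    intro a b hab
    have hdvdB : algebraMap A (Localization (Submonoid.closure P)) q ∣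
        algebraMap A (Localization (Submonoid.closure P)) a *
          algebraMap A (Localization (Submonoid.closure P)) b := by
      rw [← map_mul]; exact map_dvd _ hab
    have key : ∀ a : A, algebraMap A (Localization (Submonoid.closure P)) q ∣
        algebraMap A (Localization (Submonoid.closure P)) a → q ∣ a := by
      rintro a ⟨w, hw⟩
      obtain ⟨c, s, hs, hws⟩ := hsurj w
      have h1 : a * s = q * c := by
        apply hinj
        rw [map_mul, map_mul, hw, ← hws]; ring
      have h2 : s ∣ c := hL q hq s hs c ⟨a, by rw [← h1]; ring⟩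
      obtain ⟨c', rfl⟩ := h2
      refine ⟨c', ?_⟩
      apply mul_left_cancel₀ (hS0 s hs)
      calc s * a = a * s := mul_comm _ _
        _ = q * (s * c') := h1
        _ = s * (q * c') := by ring
    rcases hprimeB.dvd_or_dvd hdvdB with h | h
    · exact Or.inl (key a h)
    · exact Or.inr (key b h)
  have hirr_prime : ∀ q : A, Irreducible q → Prime q := by
    intro q hqirr
    by_cases hq : ∀ p ∈ P, ¬ p ∣ q
    · exact hprime_of_nodvd q hqirr hq
    · push Not at hq
      obtain ⟨p, hp, u, rfl⟩ := hq
      have hpr := hP p hp
      have hu : IsUnit u := (hqirr.isUnit_or_isUnit rfl).resolve_left hpr.not_unit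
      have hassoc : Associated p (p * u) := ⟨hu.unit, by rw [IsUnit.unit_spec]⟩
      exact hassoc.prime hpr
  apply UniqueFactorizationMonoid.of_exists_prime_factors
  intro a ha
  by_cases hau : IsUnit a
  · refine ⟨0, fun b hb => absurd hb (Multiset.notMem_zero b), ?_⟩
    rw [Multiset.prod_zero]
    exact (associated_one_iff_isUnit.mpr hau).symm
  · obtain ⟨f, hf, hfa⟩ := hfac a ha hau
    exact ⟨f, fun b hb => hirr_prime b (hf b hb), hfa⟩

end Groth.Agent.S2119
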