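import Groth.Statements.S2120
import Mathlib

set_option autoImplicit false
universe u
open CategoryTheory AlgebraicGeometry
open Mor

namespace Groth.Agent.S2120

lemma sep_of_univClosed_surj {S X Y : Scheme.{u}} (p : X ⟶ S) (q : Y ⟶ S)
    (π : X ⟶ Y) (hπ : π ≫ q = p) [UniversallyClosed π] [Surjective π] [IsSeparated p] :
    IsSeparated q := by
  have e : p = π ≫ q := hπ.symm
  obtain ⟨P2, hP2⟩ : ∃ P2 : Limits.pullback p p ⟶ Limits.pullback q q,
      P2 = Limits.pullback.map p p q q π π (𝟙 S) ((Category.comp_id _).trans e)
        ((Category.comp_id _).trans e) := ⟨_, rfl⟩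
  haveI : UniversallyClosed P2 := by
    rw [hP2]
    exact MorphismProperty.pullbackMap (P := @UniversallyClosed) inferInstance inferInstance e e
  have hnat : Limits.pullback.diagonal p ≫ P2 = π ≫ Limits.pullback.diagonal q := by
    rw [hP2]
    apply Limits.pullback.hom_ext
    · rw [Category.assoc, Category.assoc, Limits.pullback.lift_fst, ← Category.assoc,
        Limits.pullback.diagonal_fst, Category.id_comp, Limits.pullback.diagonal_fst,
        Category.comp_id]
    · rw [Category.assoc, Category.assoc, Limits.pullback.lift_snd, ← Category.assoc,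
        Limits.pullback.diagonal_snd, Category.id_comp, Limits.pullback.diagonal_snd,
        Category.comp_id]
  haveI : IsClosedImmersion (Limits.pullback.diagonal p) := IsSeparated.isClosedImmersion_diagonal
  have hrange : Set.range (Limits.pullback.diagonal q) = P2 '' (Set.range (Limits.pullback.diagonal p)) := by
    ext z
    constructor
    · rintro ⟨y, rfl⟩
      obtain ⟨x, rfl⟩ := π.surjective y
      refine ⟨Limits.pullback.diagonal p x, ⟨x, rfl⟩, ?_⟩
      have h2 := congrArg (fun g : X ⟶ Limits.pullback q q => g x) hnat
      simpa using h2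
    · rintro ⟨_, ⟨x, rfl⟩, rfl⟩
      refine ⟨π x, ?_⟩
      have h2 := congrArg (fun g : X ⟶ Limits.pullback q q => g x) hnat
      simpa using h2.symm
  constructor
  refine IsClosedImmersion.of_isPreimmersion _ ?_
  rw [hrange]
  exact P2.isClosedMap _ (Limits.pullback.diagonal p).isClosedEmbedding.isClosed_range

/-- Let `f : X → Y` be surjective and universally closed. If `X` is quasi-separated then so is `Y`; if
`X` is separated then so is `Y`. -/
theorem result {X Y : Scheme.{u}} (f : X ⟶ Y) [Surjective f] [UniversallyClosed f] :
    (QuasiSeparatedSpace X → QuasiSeparatedSpace Y) ∧ (X.IsSeparated → Y.IsSeparated) := by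
  constructor
  · intro hX
    constructor
    intro U V hU hU' hV hV'
    have h1 : IsCompact (f ⁻¹' U) := QuasiCompact.isCompact_preimage U hU hU'
    have h2 : IsCompact (f ⁻¹' V) := QuasiCompact.isCompact_preimage V hV hV'
    have h3 : IsCompact (f ⁻¹' U ∩ f ⁻¹' V) :=
      hX.inter_isCompact _ _ (hU.preimage f.continuous) h1 (hV.preimage f.continuous) h2
    have h4 : U ∩ V = f '' (f ⁻¹' U ∩ f ⁻¹' V) := by
      rw [← Set.preimage_inter, Set.image_preimage_eq _ f.surjective]
    rw [h4]
    exact h3.image f.continuous
  · intro hX
    constructor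
    exact sep_of_univClosed_surj (Limits.terminal.from X) (Limits.terminal.from Y) f
      (Limits.terminal.comp_from f)

end Groth.Agent.S2120
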