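import Groth.Statements.S2131
import Mathlib
-- import your own Groth.Agent.* helpers here

set_option autoImplicit false
universe u
open CAlg

namespace Groth.Agent.S2131



/-- For an `R`-linear map from a finite module to a finitely presented module, the primes at which its
localization is bijective form an open subset of `Spec R`. -/
theorem result {R M N : Type u} [CommRing R] [AddCommGroup M] [Module R M] [Module.Finite R M]
    [AddCommGroup N] [Module R N] [Module.FinitePresentation R N] (φ : M →ₗ[R] N) :
    IsOpen {p : PrimeSpectrum R | Function.Bijective (LocalizedModule.map p.asIdeal.primeCompl φ)} := by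
  rw [isOpen_iff_forall_mem_open]
  intro p hp
  have hp' : Function.Bijective (IsLocalizedModule.map p.asIdeal.primeCompl
      (LocalizedModule.mkLinearMap p.asIdeal.primeCompl M)
      (LocalizedModule.mkLinearMap p.asIdeal.primeCompl N) φ) :=
    (IsLocalizedModule.map_bijective_iff_localizedModuleMap_bijective _ _).mpr hp
  obtain ⟨g, hg, hbij⟩ := Module.FinitePresentation.exists_notMem_bijective φ p.asIdeal
    (LocalizedModule.mkLinearMap p.asIdeal.primeCompl M)
    (LocalizedModule.mkLinearMap p.asIdeal.primeCompl N) hp'
  refine ⟨(PrimeSpectrum.basicOpen g : Set (PrimeSpectrum R)), ?_,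
    (PrimeSpectrum.basicOpen g).isOpen, hg⟩
  intro q hq
  have hgq : g ∉ q.asIdeal := hq
  have hpow : ∀ k : ℕ, g ^ k ∈ q.asIdeal.primeCompl :=
    fun k h => hgq (q.isPrime.mem_of_pow_mem k h)
  change Function.Bijective _
  constructor
  · rw [injective_iff_map_eq_zero]
    intro x hx
    induction x using LocalizedModule.induction_on with
    | h m s =>
      rw [LocalizedModule.map_mk, ← LocalizedModule.zero_mk s, LocalizedModule.mk_eq] at hx
      obtain ⟨u, hu⟩ := hx
      have h1 : φ (((u : R) * (s : R)) • m) = 0 := by
        rw [map_smul, mul_smul]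
        simpa [Submonoid.smul_def] using hu
      have h2 : LocalizedModule.map (Submonoid.powers g) φ
          (LocalizedModule.mk (((u : R) * (s : R)) • m) 1) = 0 := by
        rw [LocalizedModule.map_mk, h1, LocalizedModule.zero_mk]
      have h3 := hbij.1 (h2.trans (map_zero _).symm)
      rw [← LocalizedModule.zero_mk 1, LocalizedModule.mk_eq] at h3
      obtain ⟨⟨_, k, rfl⟩, hv⟩ := h3
      have h4 : g ^ k • ((u : R) * (s : R)) • m = 0 := by
        simpa [Submonoid.smul_def] using hv
      rw [← LocalizedModule.zero_mk s, LocalizedModule.mk_eq]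
      refine ⟨⟨g ^ k * ((u : R) * (s : R)),
        q.asIdeal.primeCompl.mul_mem (hpow k) (q.asIdeal.primeCompl.mul_mem u.2 s.2)⟩, ?_⟩
      simp only [Submonoid.smul_def, smul_zero]
      rw [smul_comm, mul_smul, h4, smul_zero]
  · intro y
    induction y using LocalizedModule.induction_on with
    | h n s =>
      obtain ⟨x, hx⟩ := hbij.2 (LocalizedModule.mk n 1)
      induction x using LocalizedModule.induction_on with
      | h m t =>
        rw [LocalizedModule.map_mk, LocalizedModule.mk_eq] at hx
        obtain ⟨v, hv⟩ := hx
        obtain ⟨_, j, rfl⟩ := v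
        obtain ⟨_, k, rfl⟩ := t
        have h5 : φ (g ^ j • m) = (g ^ j * g ^ k) • n := by
          rw [map_smul, mul_smul]
          simpa [Submonoid.smul_def] using hv
        have hmem : g ^ j * g ^ k ∈ q.asIdeal.primeCompl :=
          q.asIdeal.primeCompl.mul_mem (hpow j) (hpow k)
        refine ⟨LocalizedModule.mk (g ^ j • m)
          ((⟨g ^ j * g ^ k, hmem⟩ : q.asIdeal.primeCompl) * s), ?_⟩
        rw [LocalizedModule.map_mk, h5]
        exact LocalizedModule.mk_cancel_common_left
          (⟨g ^ j * g ^ k, hmem⟩ : q.asIdeal.primeCompl) s n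

end Groth.Agent.S2131
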