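import Groth.Statements.S2134
import Mathlib

set_option autoImplicit false
universe u
open CAlg

namespace Groth.Agent.S2134

/-- Let `K/k` be a field extension and `(K_α)` a nonempty family of intermediate fields, directed
downwards, with intersection `k`. For a `K`-subspace `V` of `K^n` (`n ≥ 1`), `V` contains a nonzero
vector with all coordinates in `k` if and only if for every `α` it contains a nonzero vector with
all coordinates in `K_α`. -/
theorem result {k K : Type u} [Field k] [Field K] [Algebra k K] {ι : Type u} [Nonempty ι]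
    (F : ι → IntermediateField k K) (hdir : ∀ a b : ι, ∃ c, F c ≤ F a ⊓ F b) (hinf : ⨅ a, F a = ⊥) (n : ℕ) (hn : 1 ≤ n)
    (V : Submodule K (Fin n → K)) :
    (∃ v ∈ V, v ≠ 0 ∧ ∀ i, v i ∈ Set.range (algebraMap k K)) ↔
      ∀ a, ∃ v ∈ V, v ≠ 0 ∧ ∀ i, v i ∈ F a := by
  classical
  constructor
  · rintro ⟨v, hvV, hv0, hvk⟩ a
    refine ⟨v, hvV, hv0, fun i => ?_⟩
    obtain ⟨c, hc⟩ := hvk i
    rw [← hc]
    exact (F a).algebraMap_mem c
  · intro H
    let P : ι → Finset (Fin n) → Prop := fun a S =>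
      ∃ v ∈ V, v ≠ 0 ∧ (∀ i, v i ∈ F a) ∧ (∀ i, i ∉ S → v i = 0)
    have hPmono : ∀ a b S, F a ≤ F b → P a S → P b S := by
      rintro a b S hab ⟨v, hvV, hv0, hva, hvS⟩
      exact ⟨v, hvV, hv0, fun i => hab (hva i), hvS⟩
    have hQuniv : ∀ a, P a Finset.univ := by
      intro a
      obtain ⟨v, hvV, hv0, hva⟩ := H a
      exact ⟨v, hvV, hv0, hva, fun i hi => absurd (Finset.mem_univ i) hi⟩
    obtain ⟨S, hS⟩ := exists_minimal_of_wellFoundedLT
      (fun S : Finset (Fin n) => ∀ a, P a S) ⟨Finset.univ, hQuniv⟩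
    have hQS : ∀ a, P a S := hS.1
    have hmin : ∀ i ∈ S, ∃ a, ¬ P a (S.erase i) := by
      intro i hi
      by_contra hcon
      push_neg at hcon
      have h1 : S ≤ S.erase i := hS.2 hcon (Finset.erase_subset i S)
      exact (Finset.notMem_erase i S) (h1 hi)
    choose! α hα using hmin
    have hlb : ∀ T : Finset (Fin n), ∃ β, ∀ i ∈ T, F β ≤ F (α i) := by
      intro T
      induction T using Finset.induction_on with
      | empty => exact ⟨Classical.arbitrary ι, fun i hi => absurd hi (Finset.notMem_empty i)⟩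
      | insert i₀ T _ ih =>
        obtain ⟨β', hβ'⟩ := ih
        obtain ⟨c, hc⟩ := hdir β' (α i₀)
        refine ⟨c, fun i hi => ?_⟩
        rcases Finset.mem_insert.mp hi with rfl | hiT
        · exact hc.trans inf_le_right
        · exact (hc.trans inf_le_left).trans (hβ' i hiT)
    obtain ⟨β, hβ⟩ := hlb S
    have hnot : ∀ γ, F γ ≤ F β → ∀ i ∈ S, ¬ P γ (S.erase i) := by
      intro γ hγ i hi hP
      exact hα i hi (hPmono γ (α i) _ (hγ.trans (hβ i hi)) hP)
    obtain ⟨v₀, hv₀V, hv₀0, hv₀β, hv₀S⟩ := hQS β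
    obtain ⟨i₀, hi₀⟩ : ∃ i₀, v₀ i₀ ≠ 0 := by
      by_contra hcon
      push_neg at hcon
      exact hv₀0 (funext hcon)
    have hi₀S : i₀ ∈ S := by
      by_contra hcon
      exact hi₀ (hv₀S i₀ hcon)
    have hnz : ∀ γ, F γ ≤ F β → ∀ u ∈ V, u ≠ 0 → (∀ i, u i ∈ F γ) →
        (∀ i, i ∉ S → u i = 0) → u i₀ ≠ 0 := by
      intro γ hγ u huV hu0 huγ huS hui₀
      refine hnot γ hγ i₀ hi₀S ⟨u, huV, hu0, huγ, fun i hi => ?_⟩
      by_cases hiS : i ∈ S
      · have hii : i = i₀ := by
          by_contra hne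
          exact hi (Finset.mem_erase.mpr ⟨hne, hiS⟩)
        rw [hii, hui₀]
      · exact huS i hiS
    have hnormal : ∀ γ, F γ ≤ F β → ∃ u' ∈ V, (∀ i, u' i ∈ F γ) ∧
        (∀ i, i ∉ S → u' i = 0) ∧ u' i₀ = 1 := by
      intro γ hγ
      obtain ⟨u, huV, hu0, huγ, huS⟩ := hQS γ
      have h0 := hnz γ hγ u huV hu0 huγ huS
      refine ⟨(u i₀)⁻¹ • u, V.smul_mem _ huV, fun i => ?_, fun i hi => ?_, ?_⟩
      · rw [Pi.smul_apply, smul_eq_mul]
        exact (F γ).mul_mem ((F γ).inv_mem (huγ i₀)) (huγ i)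
      · rw [Pi.smul_apply, smul_eq_mul, huS i hi, mul_zero]
      · rw [Pi.smul_apply, smul_eq_mul, inv_mul_cancel₀ h0]
    obtain ⟨v, hvV, hvβ, hvS, hvi₀⟩ := hnormal β le_rfl
    have hv0 : v ≠ 0 := by
      intro h
      have h1 := congrFun h i₀
      rw [hvi₀] at h1
      exact one_ne_zero h1
    have hall : ∀ a i, v i ∈ F a := by
      intro a i
      obtain ⟨γ, hγ⟩ := hdir a β
      have hγa : F γ ≤ F a := hγ.trans inf_le_left
      have hγβ : F γ ≤ F β := hγ.trans inf_le_right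
      obtain ⟨u', hu'V, hu'γ, hu'S, hu'i₀⟩ := hnormal γ hγβ
      have hd : v - u' = 0 := by
        by_contra hd0
        refine hnot β le_rfl i₀ hi₀S
          ⟨v - u', V.sub_mem hvV hu'V, hd0, fun j => ?_, fun j hj => ?_⟩
        · rw [Pi.sub_apply]
          exact (F β).sub_mem (hvβ j) (hγβ (hu'γ j))
        · rw [Pi.sub_apply]
          by_cases hjS : j ∈ S
          · have hjj : j = i₀ := by
              by_contra hne
              exact hj (Finset.mem_erase.mpr ⟨hne, hjS⟩)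
            rw [hjj, hvi₀, hu'i₀, sub_self]
          · rw [hvS j hjS, hu'S j hjS, sub_self]
      have hvu : v = u' := sub_eq_zero.mp hd
      rw [hvu]
      exact hγa (hu'γ i)
    refine ⟨v, hvV, hv0, fun i => ?_⟩
    have h1 : v i ∈ ((⨅ a, F a : IntermediateField k K) : Set K) := by
      rw [IntermediateField.coe_iInf]
      exact Set.mem_iInter.mpr fun a => hall a i
    rw [hinf] at h1
    exact IntermediateField.mem_bot.mp h1

end Groth.Agent.S2134
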