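import Groth.Statements.S2138
import Mathlib

set_option autoImplicit false
universe u
open CAlg

namespace Groth.Agent.S2138

theorem exists_rep_of_mem_map {R T : Type*} [CommRing R] [CommRing T] [Algebra R T] (I : Ideal R)
    (z : T) (hz : z ∈ I.map (algebraMap R T)) :
    ∃ (k : ℕ) (a : Fin k → R) (w : Fin k → T), (∀ i, a i ∈ I) ∧ z = ∑ i, a i • w i := by
  change z ∈ Submodule.span T ((algebraMap R T) '' (I : Set R)) at hz
  rw [Submodule.mem_span_set'] at hz
  obtain ⟨k, f, g, hfg⟩ := hz
  have hg : ∀ i, ∃ a ∈ I, algebraMap R T a = (g i : T) := fun i => (g i).2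
  choose a ha ha' using hg
  refine ⟨k, a, f, ha, ?_⟩
  rw [← hfg]
  refine Finset.sum_congr rfl fun i _ => ?_
  rw [← ha' i, smul_eq_mul, Algebra.smul_def, mul_comm]

theorem smul_mem_map {R T : Type*} [CommRing R] [CommRing T] [Algebra R T] (I : Ideal R)
    {a : R} (ha : a ∈ I) (w : T) : a • w ∈ I.map (algebraMap R T) := by
  rw [Algebra.smul_def]
  exact Ideal.mul_mem_right _ _ (Ideal.mem_map_of_mem _ ha)

theorem sum_smul_mem_map {R T : Type*} [CommRing R] [CommRing T] [Algebra R T] (I : Ideal R)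
    {ι : Type*} (s : Finset ι) (a : ι → R) (w : ι → T) (ha : ∀ i ∈ s, a i ∈ I) :
    ∑ i ∈ s, a i • w i ∈ I.map (algebraMap R T) :=
  Ideal.sum_mem _ fun i hi => smul_mem_map I (ha i hi) (w i)

theorem colon_flat {R S : Type*} [CommRing R] [CommRing S] [Algebra R S] [Module.Flat R S]
    (I J : Ideal R) (s : R) (hJ : ∀ c, s * c ∈ I → c ∈ J) (y : S)
    (hy : algebraMap R S s * y ∈ I.map (algebraMap R S)) : y ∈ J.map (algebraMap R S) := by
  obtain ⟨k, b, f, hb, hsum⟩ := exists_rep_of_mem_map I _ hy
  have hrel : ∑ o : Option (Fin k), (Option.elim o s (fun l => - b l)) • (Option.elim o y f) = 0 := by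
    rw [Fintype.sum_option]
    simp only [Option.elim_none, Option.elim_some, neg_smul, Finset.sum_neg_distrib]
    rw [Algebra.smul_def, hsum, add_neg_cancel]
  obtain ⟨k', A, yy, hx, hA⟩ := Module.Flat.isTrivialRelation_of_sum_smul_eq_zero (R := R) (M := S)
    (f := fun o : Option (Fin k) => Option.elim o s (fun l => - b l))
    (x := fun o : Option (Fin k) => Option.elim o y f) hrel
  have h1 : ∀ j, A none j ∈ J := by
    intro j
    apply hJ
    have h2 := hA j
    rw [Fintype.sum_option] at h2
    simp only [Option.elim_none, Option.elim_some, neg_mul, Finset.sum_neg_distrib] at h2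
    have h3 : s * A none j = ∑ l, b l * A (some l) j := by linear_combination h2
    rw [h3]
    exact Ideal.sum_mem _ fun l _ => Ideal.mul_mem_right _ _ (hb l)
  have h4 := hx none
  simp only [Option.elim_none] at h4
  rw [h4]
  exact sum_smul_mem_map J Finset.univ (fun j => A none j) yy (fun j _ => h1 j)

theorem li_reduce {R T : Type*} [CommRing R] [CommRing T] [Algebra R T]
    (p : Ideal R) (hu : ∀ r : R, r ∉ p → IsUnit (algebraMap R T r)) (n : ℕ)
    {ι : Type*} [DecidableEq ι] (a : ι → R) (s : Finset ι) :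
    ∀ (w : ι → T), ∃ (s' : Finset ι) (w' : ι → T), s' ⊆ s ∧
      (∀ c : ι → R, ∑ i ∈ s', c i * a i ∈ p ^ (n + 1) → ∀ i ∈ s', c i ∈ p) ∧
      (∑ i ∈ s, a i • w i - ∑ i ∈ s', a i • w' i ∈ (p ^ (n + 1)).map (algebraMap R T)) := by
  induction s using Finset.strongInduction with
  | H s ih =>
    intro w
    by_cases hLI : ∀ c : ι → R, ∑ i ∈ s, c i * a i ∈ p ^ (n + 1) → ∀ i ∈ s, c i ∈ p
    · exact ⟨s, w, Finset.Subset.refl s, hLI, by rw [sub_self]; exact Ideal.zero_mem _⟩
    · push_neg at hLI
      obtain ⟨c, hc, i0, hi0, hci0⟩ := hLI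
      obtain ⟨u, hu'⟩ := hu (c i0) hci0
      obtain ⟨s', w', hs', hLI', hmem⟩ := ih (s.erase i0) (Finset.erase_ssubset hi0)
        (fun i => w i - c i • ((↑u⁻¹ : T) * w i0))
      refine ⟨s', w', hs'.trans (Finset.erase_subset _ _), hLI', ?_⟩
      have e1 : ∑ i ∈ s, a i • w i = a i0 • w i0 + ∑ i ∈ s.erase i0, a i • w i :=
        (Finset.add_sum_erase s (fun i => a i • w i) hi0).symm
      have e2 : ∑ i ∈ s, c i * a i = c i0 * a i0 + ∑ i ∈ s.erase i0, c i * a i :=
        (Finset.add_sum_erase s (fun i => c i * a i) hi0).symm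
      have key : ∑ i ∈ s, a i • w i -
          ∑ i ∈ s.erase i0, a i • (w i - c i • ((↑u⁻¹ : T) * w i0)) =
          (∑ i ∈ s, c i * a i) • ((↑u⁻¹ : T) * w i0) := by
        rw [e1, e2]
        simp only [smul_sub, Finset.sum_sub_distrib, add_smul, Finset.sum_smul]
        have h5 : (c i0 * a i0) • ((↑u⁻¹ : T) * w i0) = a i0 • w i0 := by
          rw [Algebra.smul_def, Algebra.smul_def, map_mul, ← hu']
          have h7 : (↑u : T) * ↑u⁻¹ = 1 := Units.mul_inv u
          linear_combination (algebraMap R T (a i0) * w i0) * h7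
        rw [h5]
        have h6 : ∀ i, a i • c i • ((↑u⁻¹ : T) * w i0) = (c i * a i) • ((↑u⁻¹ : T) * w i0) := by
          intro i
          rw [smul_smul, mul_comm (a i) (c i)]
        simp only [h6]
        abel
      have hsplit : ∑ i ∈ s, a i • w i - ∑ i ∈ s', a i • w' i =
          (∑ i ∈ s, a i • w i -
            ∑ i ∈ s.erase i0, a i • (w i - c i • ((↑u⁻¹ : T) * w i0))) +
          (∑ i ∈ s.erase i0, a i • (w i - c i • ((↑u⁻¹ : T) * w i0)) -
            ∑ i ∈ s', a i • w' i) := by abel
      rw [hsplit, key]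
      exact Ideal.add_mem _ (smul_mem_map _ hc _) hmem

theorem core {R T : Type*} [CommRing R] [CommRing T] [Algebra R T] [Module.Flat R T]
    (p : Ideal R) (hu : ∀ r : R, r ∉ p → IsUnit (algebraMap R T r))
    (hq : (p.map (algebraMap R T)).IsPrime) (t : T) (ht : t ∉ p.map (algebraMap R T)) :
    ∀ (n : ℕ) (z : T), t * z ∈ (p ^ n).map (algebraMap R T) →
      z ∈ (p ^ n).map (algebraMap R T) := by
  intro n
  induction n with
  | zero =>
    intro z _
    rw [pow_zero, Ideal.one_eq_top, Ideal.map_top]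
    exact Submodule.mem_top
  | succ n ih =>
    intro z hz
    have hle : (p ^ (n + 1)).map (algebraMap R T) ≤ (p ^ n).map (algebraMap R T) :=
      Ideal.map_mono (Ideal.pow_le_pow_right (Nat.le_succ n))
    have hz0 : z ∈ (p ^ n).map (algebraMap R T) := ih z (hle hz)
    obtain ⟨k, a, w, ha, hzw⟩ := exists_rep_of_mem_map _ z hz0
    obtain ⟨s', w', -, hLI, hmem⟩ := li_reduce p hu n a Finset.univ w
    rw [← hzw] at hmem
    suffices hsuff : ∑ i ∈ s', a i • w' i ∈ (p ^ (n + 1)).map (algebraMap R T) by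
      have h0 := Ideal.add_mem _ hmem hsuff
      rwa [sub_add_cancel] at h0
    have htsum : ∑ i ∈ s', a i • (t * w' i) ∈ (p ^ (n + 1)).map (algebraMap R T) := by
      have h1 : ∑ i ∈ s', a i • (t * w' i) = t * z - t * (z - ∑ i ∈ s', a i • w' i) := by
        rw [mul_sub, sub_sub_cancel, Finset.mul_sum]
        refine Finset.sum_congr rfl fun i _ => ?_
        rw [mul_smul_comm]
      rw [h1]
      exact Ideal.sub_mem _ hz (Ideal.mul_mem_left _ _ hmem)
    obtain ⟨k₂, b, v, hb, hbv⟩ := exists_rep_of_mem_map _ _ htsum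
    have hrel : ∑ o : Fin k ⊕ Fin k₂,
        (Sum.elim (fun i => if i ∈ s' then a i else 0) (fun l => - b l) o) •
        (Sum.elim (fun i => t * w' i) v o) = 0 := by
      rw [Fintype.sum_sum_type]
      simp only [Sum.elim_inl, Sum.elim_inr, neg_smul, Finset.sum_neg_distrib, ite_smul, zero_smul]
      rw [Finset.sum_ite_mem, Finset.univ_inter, hbv, add_neg_cancel]
    obtain ⟨k₃, A, y, hx, hA⟩ := Module.Flat.isTrivialRelation_of_sum_smul_eq_zero (R := R) (M := T)
      (f := fun o : Fin k ⊕ Fin k₂ => Sum.elim (fun i => if i ∈ s' then a i else 0) (fun l => - b l) o)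
      (x := fun o : Fin k ⊕ Fin k₂ => Sum.elim (fun i => t * w' i) v o) hrel
    have hAp : ∀ j, ∀ i ∈ s', A (Sum.inl i) j ∈ p := by
      intro j
      apply hLI (fun i => A (Sum.inl i) j)
      show ∑ i ∈ s', A (Sum.inl i) j * a i ∈ p ^ (n + 1)
      have h2 := hA j
      rw [Fintype.sum_sum_type] at h2
      simp only [Sum.elim_inl, Sum.elim_inr, neg_mul, Finset.sum_neg_distrib, ite_mul, zero_mul] at h2
      rw [Finset.sum_ite_mem, Finset.univ_inter] at h2
      have h3' : ∑ i ∈ s', A (Sum.inl i) j * a i = ∑ i ∈ s', a i * A (Sum.inl i) j :=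
        Finset.sum_congr rfl fun i _ => mul_comm _ _
      have h3 : ∑ i ∈ s', A (Sum.inl i) j * a i = ∑ l, b l * A (Sum.inr l) j := by
        rw [h3']
        linear_combination h2
      rw [h3]
      exact Ideal.sum_mem _ fun l _ => Ideal.mul_mem_right _ _ (hb l)
    have hw' : ∀ i ∈ s', w' i ∈ p.map (algebraMap R T) := by
      intro i hi
      have h4 := hx (Sum.inl i)
      simp only [Sum.elim_inl] at h4
      have h5 : t * w' i ∈ p.map (algebraMap R T) := by
        rw [h4]
        exact sum_smul_mem_map p Finset.univ (fun j => A (Sum.inl i) j) y (fun j _ => hAp j i hi)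
      exact (hq.mem_or_mem h5).resolve_left ht
    refine Ideal.sum_mem _ fun i hi => ?_
    rw [Algebra.smul_def, pow_succ, Ideal.map_mul]
    exact Ideal.mul_mem_mul (Ideal.mem_map_of_mem _ (ha i)) (hw' i hi)

theorem mem_symb {R : Type*} [CommRing R] (p : Ideal R) [p.IsPrime] (I : Ideal R) (x : R) :
    x ∈ (I.map (algebraMap R (Localization.AtPrime p))).comap
      (algebraMap R (Localization.AtPrime p)) ↔ ∃ s : R, s ∉ p ∧ s * x ∈ I := by
  rw [Ideal.mem_comap, IsLocalization.mem_map_algebraMap_iff p.primeCompl (Localization.AtPrime p)]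
  constructor
  · rintro ⟨⟨⟨a, ha⟩, ⟨m, hm⟩⟩, h⟩
    try dsimp only at h
    rw [← map_mul, IsLocalization.eq_iff_exists p.primeCompl] at h
    obtain ⟨⟨c, hc⟩, hc'⟩ := h
    try dsimp only at hc'
    refine ⟨c * m, p.primeCompl.mul_mem hc hm, ?_⟩
    have h1 : c * m * x = c * a := by rw [← hc']; ring
    rw [h1]
    exact Ideal.mul_mem_left _ _ ha
  · rintro ⟨s, hs, hsx⟩
    refine ⟨⟨⟨s * x, hsx⟩, ⟨s, hs⟩⟩, ?_⟩
    try dsimp only
    rw [← map_mul, mul_comm]


/-- Let `R → S` be flat and `𝔭` a prime of `R` whose extension `𝔮 = 𝔭S` is prime. Then for every `n` the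
extension to `S` of the symbolic power `𝔭^{(n)}` (the contraction of `𝔭ⁿR_𝔭`) equals the symbolic
power `𝔮^{(n)}`. -/
theorem result {R S : Type u} [CommRing R] [CommRing S] [Algebra R S] [Module.Flat R S]
    (p : Ideal R) [p.IsPrime] [(p.map (algebraMap R S)).IsPrime] (n : ℕ) :
    (((p ^ n).map (algebraMap R (Localization.AtPrime p))).comap (algebraMap R (Localization.AtPrime p))).map
        (algebraMap R S) =
      (((p.map (algebraMap R S)) ^ n).map (algebraMap S (Localization.AtPrime (p.map (algebraMap R S))))).comap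
        (algebraMap S (Localization.AtPrime (p.map (algebraMap R S)))) := by
  have hq : (p.map (algebraMap R S)).IsPrime := inferInstance
  have hnotin : ∀ s : R, s ∉ p → algebraMap R S s ∉ p.map (algebraMap R S) := by
    intro s hs hmem
    have h1 : (1 : S) ∈ p.map (algebraMap R S) := by
      apply colon_flat p p s
        (fun c hc => ((inferInstance : p.IsPrime).mem_or_mem hc).resolve_left hs) 1
      rwa [mul_one]
    exact hq.ne_top ((Ideal.eq_top_iff_one _).mpr h1)
  apply le_antisymm
  · rw [Ideal.map_le_iff_le_comap]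
    intro x hx
    rw [mem_symb] at hx
    obtain ⟨s, hs, hsx⟩ := hx
    rw [Ideal.mem_comap, mem_symb]
    refine ⟨algebraMap R S s, hnotin s hs, ?_⟩
    rw [← map_mul, ← Ideal.map_pow]
    exact Ideal.mem_map_of_mem _ hsx
  · intro y hy
    rw [mem_symb] at hy
    obtain ⟨t, ht, hty⟩ := hy
    rw [← Ideal.map_pow] at hty
    have hdisj : Disjoint ((Algebra.algebraMapSubmonoid S p.primeCompl : Submonoid S) : Set S)
        ((p.map (algebraMap R S) : Ideal S) : Set S) := by
      rw [Set.disjoint_left]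
      rintro _ ⟨r, hr, rfl⟩ hmem
      exact hnotin r hr hmem
    have hmapeq : ∀ I : Ideal R,
        I.map (algebraMap R (Localization (Algebra.algebraMapSubmonoid S p.primeCompl))) =
        (I.map (algebraMap R S)).map
          (algebraMap S (Localization (Algebra.algebraMapSubmonoid S p.primeCompl))) := by
      intro I
      rw [Ideal.map_map, ← IsScalarTower.algebraMap_eq]
    have hu : ∀ r : R, r ∉ p → IsUnit
        (algebraMap R (Localization (Algebra.algebraMapSubmonoid S p.primeCompl)) r) := by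
      intro r hr
      rw [IsScalarTower.algebraMap_apply R S
        (Localization (Algebra.algebraMapSubmonoid S p.primeCompl))]
      exact IsLocalization.map_units _
        (⟨algebraMap R S r, Algebra.mem_algebraMapSubmonoid_of_mem ⟨r, hr⟩⟩ :
          Algebra.algebraMapSubmonoid S p.primeCompl)
    have hq' : (p.map
        (algebraMap R (Localization (Algebra.algebraMapSubmonoid S p.primeCompl)))).IsPrime := by
      rw [hmapeq]
      exact IsLocalization.isPrime_of_isPrime_disjoint
        (Algebra.algebraMapSubmonoid S p.primeCompl) _ _ hq hdisj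
    have ht' : algebraMap S (Localization (Algebra.algebraMapSubmonoid S p.primeCompl)) t ∉
        p.map (algebraMap R (Localization (Algebra.algebraMapSubmonoid S p.primeCompl))) := by
      rw [hmapeq]
      intro hmem
      apply ht
      have h0 := IsLocalization.under_map_of_isPrime_disjoint
        (Algebra.algebraMapSubmonoid S p.primeCompl)
        (Localization (Algebra.algebraMapSubmonoid S p.primeCompl)) hq hdisj
      rw [← h0]
      exact hmem
    have h1 : algebraMap S (Localization (Algebra.algebraMapSubmonoid S p.primeCompl)) t *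
        algebraMap S (Localization (Algebra.algebraMapSubmonoid S p.primeCompl)) y ∈
        (p ^ n).map (algebraMap R (Localization (Algebra.algebraMapSubmonoid S p.primeCompl))) := by
      rw [hmapeq, ← map_mul]
      exact Ideal.mem_map_of_mem _ hty
    have h2 := core p hu hq' _ ht' n _ h1
    rw [hmapeq, IsLocalization.mem_map_algebraMap_iff
      (Algebra.algebraMapSubmonoid S p.primeCompl)] at h2
    obtain ⟨⟨⟨a, ha⟩, ⟨m, hm⟩⟩, h3⟩ := h2
    try dsimp only at h3
    rw [← map_mul, IsLocalization.eq_iff_exists (Algebra.algebraMapSubmonoid S p.primeCompl)] at h3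
    obtain ⟨⟨c, hc⟩, h4⟩ := h3
    try dsimp only at h4
    obtain ⟨r₁, hr₁, rfl⟩ := hc
    obtain ⟨r₂, hr₂, rfl⟩ := hm
    refine colon_flat (p ^ n) _ (r₁ * r₂) ?_ y ?_
    · intro c hc
      rw [mem_symb]
      exact ⟨r₁ * r₂, p.primeCompl.mul_mem hr₁ hr₂, hc⟩
    · rw [map_mul]
      have h5 : algebraMap R S r₁ * algebraMap R S r₂ * y = algebraMap R S r₁ * a := by
        rw [← h4]; ring
      rw [h5]
      exact Ideal.mul_mem_left _ _ ha

end Groth.Agent.S2138
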