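import Groth.Statements.S2145
import Mathlib
import Groth.Agent.Lib.helper1.SpreadIso

set_option autoImplicit false
universe u
open CAlg

namespace Groth.Agent.S2145

open Helper1 Helper1.Spread


/-- Let `S`, `S'` be finitely presented `R`-algebras and `𝔮 ⊆ S`, `𝔮' ⊆ S'` primes with `S_𝔮 ≅ S'_{𝔮'}`
as `R`-algebras. Then `S_g ≅ S'_{g'}` as `R`-algebras for some `g ∉ 𝔮`, `g' ∉ 𝔮'`. -/
theorem result {R S S' : Type u} [CommRing R] [CommRing S] [CommRing S'] [Algebra R S]
    [Algebra R S'] [Algebra.FinitePresentation R S] [Algebra.FinitePresentation R S'] (q : Ideal S) [q.IsPrime]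
    (q' : Ideal S') [q'.IsPrime] (e : Localization.AtPrime q ≃ₐ[R] Localization.AtPrime q') :
    ∃ (g : S) (g' : S'), g ∉ q ∧ g' ∉ q' ∧ Nonempty (Localization.Away g ≃ₐ[R] Localization.Away g') := by
  classical
  -- Step 1
  obtain ⟨s, hs, ψ', hψ'⟩ := exists_lift_of_fp R (T := S) (P := S') q.primeCompl
    (e.symm.toAlgHom.comp (locR R q'.primeCompl))
  have hψ'1 : ∀ y : S', toLocR R q.primeCompl s hs (ψ' y) = e.symm (locR R q'.primeCompl y) :=
    hψ'
  -- Step 2
  obtain ⟨g', hg', Ψ, hΨ⟩ := exists_lift_of_fp R (T := S') (P := Localization.Away s)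
    q'.primeCompl (e.toAlgHom.comp (toLocR R q.primeCompl s hs))
  have hΨ1 : ∀ x : Localization.Away s,
      toLocR R q'.primeCompl g' hg' (Ψ x) = e (toLocR R q.primeCompl s hs x) := hΨ
  -- Step 3
  obtain ⟨u', hu', h3⟩ := exists_mulR_eq R (T := S') (P := S') q'.primeCompl g' hg'
    (Ψ.comp ψ') (canR R g') (by
      intro y
      show toLocR R q'.primeCompl g' hg' (Ψ (ψ' y)) =
        toLocR R q'.primeCompl g' hg' (canR R g' y)
      rw [hΨ1, hψ'1, AlgEquiv.apply_symm_apply, toLocR_canR])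
  have hh' : g' * u' ∈ q'.primeCompl := mul_mem hg' hu'
  let Ψ₂ : Localization.Away s →ₐ[R] Localization.Away (g' * u') := (mulR R g' u').comp Ψ
  have hΨ₂a : ∀ y : S', Ψ₂ (ψ' y) = canR R (g' * u') y := by
    intro y
    exact (h3 y).trans (mulR_canR R g' u' y)
  have hΨ₂b : ∀ x, toLocR R q'.primeCompl (g' * u') hh' (Ψ₂ x) =
      e (toLocR R q.primeCompl s hs x) := by
    intro x
    show toLocR R q'.primeCompl (g' * u') (mul_mem hg' hu') (mulR R g' u' (Ψ x)) = _
    rw [toLocR_mulR R q'.primeCompl g' u' hg' hu', hΨ1]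
  -- Step 4
  obtain ⟨a, ha, Ψ', hΨ'⟩ := exists_extend R q s hs ψ' (g' * u') (by
    rw [hψ'1]
    exact (IsLocalization.map_units (Localization.AtPrime q')
      (⟨g' * u', hh'⟩ : q'.primeCompl)).map e.symm)
  have hh₁ : s * a ∈ q.primeCompl := mul_mem hs ha
  have hΨ'b : ∀ x', toLocR R q.primeCompl (s * a) hh₁ (Ψ' x') =
      e.symm (toLocR R q'.primeCompl (g' * u') hh' x') := by
    intro x'
    have : (toLocR R q.primeCompl (s * a) hh₁).comp Ψ' =
        e.symm.toAlgHom.comp (toLocR R q'.primeCompl (g' * u') hh') := by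
      apply ext_away R (g' * u')
      intro y
      show toLocR R q.primeCompl (s * a) (mul_mem hs ha) (Ψ' (canR R (g' * u') y)) =
        e.symm (toLocR R q'.primeCompl (g' * u') hh' (canR R (g' * u') y))
      rw [hΨ', toLocR_mulR R q.primeCompl s a hs ha, hψ'1, toLocR_canR]
    exact AlgHom.congr_fun this x'
  -- Step 5
  obtain ⟨u, hu, h5⟩ := exists_mulR_eq R (T := S) (P := Localization.Away s) q.primeCompl
    (s * a) hh₁ (Ψ'.comp Ψ₂) (mulR R s a) (by
      intro x
      show toLocR R q.primeCompl (s * a) hh₁ (Ψ' (Ψ₂ x)) =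
        toLocR R q.primeCompl (s * a) (mul_mem hs ha) (mulR R s a x)
      rw [hΨ'b, hΨ₂b, AlgEquiv.symm_apply_apply, toLocR_mulR R q.primeCompl s a hs ha])
  have hh : s * a * u ∈ q.primeCompl := mul_mem hh₁ hu
  let Ψ'₂ : Localization.Away (g' * u') →ₐ[R] Localization.Away (s * a * u) :=
    (mulR R (s * a) u).comp Ψ'
  let κ : Localization.Away s →ₐ[R] Localization.Away (s * a * u) :=
    (mulR R (s * a) u).comp (mulR R s a)
  have hκ : ∀ x : S, κ (canR R s x) = canR R (s * a * u) x := by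
    intro x
    show mulR R (s * a) u (mulR R s a (canR R s x)) = _
    rw [mulR_canR, mulR_canR]
  have h55 : ∀ x, Ψ'₂ (Ψ₂ x) = κ x := h5
  have hΨ'₂c : ∀ y : S', Ψ'₂ (canR R (g' * u') y) = κ (ψ' y) := by
    intro y
    exact congrArg (mulR R (s * a) u) (hΨ' y)
  -- Step 6
  obtain ⟨b', hb', k, hk⟩ := exists_num_of_isUnit q' (g' * u') hh'
    (Ψ₂ (canR R s (s * a * u))) (by
      show IsUnit (toLocR R q'.primeCompl (g' * u') hh' (Ψ₂ (canR R s (s * a * u))))
      rw [hΨ₂b, toLocR_canR]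
      exact (IsLocalization.map_units (Localization.AtPrime q)
        (⟨s * a * u, hh⟩ : q.primeCompl)).map e)
  have hΦunit : IsUnit (((mulR R (g' * u') b').comp (Ψ₂.comp (canR R s))) (s * a * u)) :=
    isUnit_awayMul_of_num (g' * u') b' (Ψ₂ (canR R s (s * a * u))) k hk
  let Φ : Localization.Away (s * a * u) →ₐ[R] Localization.Away (g' * u' * b') :=
    liftR R (s * a * u) ((mulR R (g' * u') b').comp (Ψ₂.comp (canR R s))) hΦunit
  have hΦ : ∀ x : S, Φ (canR R (s * a * u) x) = mulR R (g' * u') b' (Ψ₂ (canR R s x)) :=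
    fun x => liftR_canR R (s * a * u) _ hΦunit x
  have hu1 : IsUnit (Ψ'₂ (canR R (g' * u') (g' * u'))) :=
    (IsLocalization.Away.algebraMap_isUnit (g' * u') :
      IsUnit (algebraMap S' (Localization.Away (g' * u')) (g' * u'))).map Ψ'₂
  have hu2 : IsUnit (Ψ'₂ (canR R (g' * u') b')) := by
    have h1 := congrArg Ψ'₂ hk
    rw [map_mul, h55, hκ] at h1
    show IsUnit (Ψ'₂ (algebraMap S' (Localization.Away (g' * u')) b'))
    rw [← h1]
    refine IsUnit.mul (IsLocalization.Away.algebraMap_isUnit (s * a * u)) ?_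
    rw [map_pow, map_pow]
    exact hu1.pow k
  have hΦ'unit : IsUnit ((Ψ'₂.comp (canR R (g' * u'))) (g' * u' * b')) := by
    show IsUnit (Ψ'₂ (canR R (g' * u') (g' * u' * b')))
    rw [map_mul, map_mul]
    exact hu1.mul hu2
  let Φ' : Localization.Away (g' * u' * b') →ₐ[R] Localization.Away (s * a * u) :=
    liftR R (g' * u' * b') (Ψ'₂.comp (canR R (g' * u'))) hΦ'unit
  have hΦ' : ∀ y : S', Φ' (canR R (g' * u' * b') y) = Ψ'₂ (canR R (g' * u') y) :=
    fun y => liftR_canR R (g' * u' * b') _ hΦ'unit y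
  have hΦκ : ∀ x, Φ (κ x) = mulR R (g' * u') b' (Ψ₂ x) := by
    intro x
    have : Φ.comp κ = (mulR R (g' * u') b').comp Ψ₂ := by
      apply ext_away R s
      intro x
      show Φ (κ (canR R s x)) = mulR R (g' * u') b' (Ψ₂ (canR R s x))
      rw [hκ, hΦ]
    exact AlgHom.congr_fun this x
  have hΦ'm : ∀ x', Φ' (mulR R (g' * u') b' x') = Ψ'₂ x' := by
    intro x'
    have : Φ'.comp (mulR R (g' * u') b') = Ψ'₂ := by
      apply ext_away R (g' * u')
      intro y
      show Φ' (mulR R (g' * u') b' (canR R (g' * u') y)) = Ψ'₂ (canR R (g' * u') y)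
      rw [mulR_canR, hΦ']
    exact AlgHom.congr_fun this x'
  refine ⟨s * a * u, g' * u' * b', Ideal.mem_primeCompl_iff.mp hh,
    Ideal.mem_primeCompl_iff.mp (mul_mem hh' hb'), ⟨AlgEquiv.ofAlgHom Φ Φ' ?_ ?_⟩⟩
  · apply ext_away R (g' * u' * b')
    intro y
    show Φ (Φ' (canR R (g' * u' * b') y)) = canR R (g' * u' * b') y
    rw [hΦ', hΨ'₂c, hΦκ, hΨ₂a, mulR_canR]
  · apply ext_away R (s * a * u)
    intro x
    show Φ' (Φ (canR R (s * a * u) x)) = canR R (s * a * u) x
    rw [hΦ, hΦ'm, h55, hκ]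

end Groth.Agent.S2145
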