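import Groth.Statements.S2146
import Mathlib
import Groth.Agent.Lib.helper1.SpreadIso
import Groth.Agent.S2145

set_option autoImplicit false
universe u
open CAlg

namespace Groth.Agent.S2146

open Helper1 Helper1.Spread


/-- Let `S` be a finitely presented `R`-algebra and `𝔮` a prime of `S` over `𝔭` such that the induced
map `R_𝔭 → S_𝔮` is bijective. Then for some `f ∉ 𝔭` there is an `R_f`-algebra `C` with `S_f ≅ R_f ×
C` as `R_f`-algebras. -/
theorem result {R S : Type u} [CommRing R] [CommRing S] [Algebra R S]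
    [Algebra.FinitePresentation R S] (q : Ideal S) [q.IsPrime] (p : Ideal R) [p.IsPrime] [q.LiesOver p]
    (h : Function.Bijective (Localization.localRingHom p q (algebraMap R S) (q.over_def p))) :
    ∃ f : R, f ∉ p ∧ ∀ (Rf Sf : Type u) [CommRing Rf] [CommRing Sf] [Algebra R Rf] [IsLocalization.Away f Rf]
      [Algebra S Sf] [IsLocalization.Away (algebraMap R S f) Sf] [Algebra Rf Sf] [Algebra R Sf] [IsScalarTower R S Sf]
      [IsScalarTower R Rf Sf],
      ∃ (C : Type u) (_ : CommRing C) (_ : Algebra Rf C), Nonempty (Sf ≃ₐ[Rf] (Rf × C)) := by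
  classical
  -- Step 1: the algebra iso
  let e₀ : Localization.AtPrime p ≃+* Localization.AtPrime q :=
    RingEquiv.ofBijective (Localization.localRingHom p q (algebraMap R S) (q.over_def p)) h
  have he₀ : ∀ r : R, e₀ (algebraMap R (Localization.AtPrime p) r) =
      algebraMap R (Localization.AtPrime q) r := by
    intro r
    show Localization.localRingHom p q (algebraMap R S) (q.over_def p)
      (algebraMap R (Localization.AtPrime p) r) = _
    rw [Localization.localRingHom_to_map]
    exact (IsScalarTower.algebraMap_apply R S (Localization.AtPrime q) r).symm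
  let e₁ : Localization.AtPrime p ≃ₐ[R] Localization.AtPrime q := AlgEquiv.ofRingEquiv he₀
  obtain ⟨g, f, hg, hf, ⟨E⟩⟩ := Groth.Agent.S2145.result (R := R) (S := S) (S' := R) q p e₁.symm
  refine ⟨f, hf, ?_⟩
  intro Rf Sf _ _ _ _ _ _ _ _ _ _
  let ι : Localization.Away f ≃ₐ[R] Rf :=
    IsLocalization.algEquiv (Submonoid.powers f) (Localization.Away f) Rf
  let π₀ : S →ₐ[R] Rf := (ι.toAlgHom.comp E.toAlgHom).comp (canR R g)
  have hπ₀f : IsUnit (π₀ (algebraMap R S f)) := by
    rw [AlgHom.commutes]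
    exact IsLocalization.Away.algebraMap_isUnit f
  let π : Sf →+* Rf := IsLocalization.Away.lift (algebraMap R S f) (g := (π₀ : S →+* Rf)) hπ₀f
  have hπ : ∀ y : S, π (algebraMap S Sf y) = π₀ y :=
    fun y => IsLocalization.Away.lift_eq _ hπ₀f y
  have hπι : ∀ r : Rf, π (algebraMap Rf Sf r) = r := by
    have : π.comp (algebraMap Rf Sf) = RingHom.id Rf := by
      apply IsLocalization.ringHom_ext (Submonoid.powers f)
      ext r
      show π (algebraMap Rf Sf (algebraMap R Rf r)) = algebraMap R Rf r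
      rw [← IsScalarTower.algebraMap_apply R Rf Sf, IsScalarTower.algebraMap_apply R S Sf, hπ,
        AlgHom.commutes]
    intro r
    exact RingHom.congr_fun this r
  obtain ⟨g₁, hg₁⟩ : ∃ g₁, g₁ = algebraMap S Sf g := ⟨_, rfl⟩
  have hπg₁ : IsUnit (π g₁) := by
    rw [hg₁, hπ]
    show IsUnit (ι (E (canR R g g)))
    exact ((IsLocalization.Away.algebraMap_isUnit g :
      IsUnit (algebraMap S (Localization.Away g) g)).map E).map ι
  have hker : ∀ x : Sf, π x = 0 → ∃ m : ℕ, g₁ ^ m * x = 0 := by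
    intro x hx
    obtain ⟨⟨y, t⟩, hyt⟩ := IsLocalization.surj (Submonoid.powers (algebraMap R S f)) x
    have hyt' : x * algebraMap S Sf (t : S) = algebraMap S Sf y := hyt
    have h1 : π₀ y = 0 := by
      rw [← hπ, ← hyt', map_mul, hx, zero_mul]
    have h2 : algebraMap S (Localization.Away g) y = 0 := by
      have h3 : ι (E (canR R g y)) = ι 0 := by
        rw [map_zero]
        exact h1
      have h4 : E (canR R g y) = E 0 := by
        rw [map_zero]
        exact ι.injective h3
      exact E.injective h4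
    obtain ⟨c, hc⟩ :=
      (IsLocalization.map_eq_zero_iff (Submonoid.powers g) (Localization.Away g) y).mp h2
    obtain ⟨m, hm⟩ := c.2
    have hm' : g ^ m = (c : S) := hm
    refine ⟨m, ?_⟩
    have ht : IsUnit (algebraMap S Sf (t : S)) := IsLocalization.map_units Sf t
    have h5 : g₁ ^ m * x * algebraMap S Sf (t : S) = 0 := by
      rw [mul_assoc, hyt', hg₁, ← map_pow, ← map_mul, hm', hc, map_zero]
    exact (ht.mul_left_eq_zero).mp h5
  obtain ⟨v, hv⟩ := hπg₁.exists_left_inv
  obtain ⟨u, hu⟩ : ∃ u, u = algebraMap Rf Sf v * g₁ := ⟨_, rfl⟩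
  have hπu : π u = 1 := by rw [hu, map_mul, hπι, hv]
  obtain ⟨n, hn⟩ := hker (u - 1) (by rw [map_sub, hπu, map_one, sub_self])
  have hun : u ^ n * u = u ^ n := by
    have h1 : u ^ n * (u - 1) = (algebraMap Rf Sf v) ^ n * (g₁ ^ n * (u - 1)) := by
      rw [hu]; ring
    have h2 : u ^ n * (u - 1) = 0 := by rw [h1, hn, mul_zero]
    linear_combination h2
  have hunk : ∀ k : ℕ, u ^ n * u ^ k = u ^ n := by
    intro k
    induction k with
    | zero => rw [pow_zero, mul_one]
    | succ k ih => rw [pow_succ, ← mul_assoc, ih, hun]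
  obtain ⟨ε, hε⟩ : ∃ ε, ε = u ^ n := ⟨_, rfl⟩
  have hεε : ε * ε = ε := by rw [hε]; exact hunk n
  have hπε : π ε = 1 := by rw [hε, map_pow, hπu, one_pow]
  have hkerε : ∀ x : Sf, π x = 0 → ε * x = 0 := by
    intro x hx
    obtain ⟨m, hm⟩ := hker x hx
    have h1 : u ^ m * x = 0 := by
      have : u ^ m * x = (algebraMap Rf Sf v) ^ m * (g₁ ^ m * x) := by rw [hu]; ring
      rw [this, hm, mul_zero]
    rw [hε, ← hunk m, mul_assoc, h1, mul_zero]
  let πA : Sf →ₐ[Rf] Rf := { π with commutes' := fun r => hπι r }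
  let Θ : Sf →ₐ[Rf] Rf × (Sf ⧸ Ideal.span ({ε} : Set Sf)) :=
    AlgHom.prod πA (Ideal.Quotient.mkₐ Rf (Ideal.span ({ε} : Set Sf)))
  refine ⟨Sf ⧸ Ideal.span ({ε} : Set Sf), inferInstance, inferInstance,
    ⟨AlgEquiv.ofBijective Θ ⟨?_, ?_⟩⟩⟩
  · intro x y hxy
    have h0 : Θ (x - y) = 0 := by rw [map_sub, hxy, sub_self]
    have h1 : π (x - y) = 0 := congrArg Prod.fst h0
    have h2 : (Ideal.Quotient.mk (Ideal.span ({ε} : Set Sf))) (x - y) = 0 :=
      congrArg Prod.snd h0
    rw [Ideal.Quotient.eq_zero_iff_mem, Ideal.mem_span_singleton'] at h2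
    obtain ⟨w, hw⟩ := h2
    have h3 := hkerε (x - y) h1
    have h4 : x - y = 0 := by
      rw [← hw] at h3 ⊢
      calc w * ε = w * (ε * ε) := by rw [hεε]
        _ = ε * (w * ε) := by ring
        _ = 0 := h3
    exact sub_eq_zero.mp h4
  · rintro ⟨r, c⟩
    obtain ⟨y, rfl⟩ := Ideal.Quotient.mk_surjective c
    refine ⟨ε * algebraMap Rf Sf r + (1 - ε) * y, ?_⟩
    have h1 : π (ε * algebraMap Rf Sf r + (1 - ε) * y) = r := by
      rw [map_add, map_mul, map_mul, map_sub, hπε, hπι, map_one, sub_self, zero_mul, add_zero,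
        one_mul]
    have h2 : Ideal.Quotient.mk (Ideal.span ({ε} : Set Sf))
        (ε * algebraMap Rf Sf r + (1 - ε) * y) = Ideal.Quotient.mk _ y := by
      rw [Ideal.Quotient.eq, Ideal.mem_span_singleton']
      exact ⟨algebraMap Rf Sf r - y, by ring⟩
    exact Prod.ext h1 h2

end Groth.Agent.S2146
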