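import Groth.Statements.S2149
import Mathlib

set_option autoImplicit false
universe u
open CAlg

namespace Groth.Agent.S2149

open TensorProduct

theorem coe_eq {R S M M' : Type u} [CommRing R] [CommRing S] [Algebra R S]
    [AddCommGroup M] [Module S M] [Module R M] [IsScalarTower R S M] [AddCommGroup M']
    [Module S M'] [Module R M'] [IsScalarTower R S M'] (u : M →ₗ[S] M')
    (Q : Type u) [AddCommGroup Q] [Module R Q] (z : M ⊗[R] Q) :
    (u.restrictScalars R).rTensor Q z = TensorProduct.AlgebraTensorModule.rTensor R Q u z := by
  induction z using TensorProduct.induction_on with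
  | zero => simp
  | tmul m q => simp
  | add a b ha hb => rw [map_add, map_add, ha, hb]

theorem hid {R S M M' : Type u} [CommRing R] [CommRing S] [Algebra R S]
    [AddCommGroup M] [Module S M] [Module R M] [IsScalarTower R S M] [AddCommGroup M']
    [Module S M'] [Module R M'] [IsScalarTower R S M'] (u : M →ₗ[S] M')
    (m : Ideal S) [m.IsMaximal] (Q : Type u) [AddCommGroup Q] [Module R Q] :
    IsLocalizedModule.map m.primeCompl
      (TensorProduct.AlgebraTensorModule.rTensor R Q (LocalizedModule.mkLinearMap m.primeCompl M))
      (TensorProduct.AlgebraTensorModule.rTensor R Q (LocalizedModule.mkLinearMap m.primeCompl M'))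
      (TensorProduct.AlgebraTensorModule.rTensor R Q u) =
    TensorProduct.AlgebraTensorModule.rTensor R Q (LocalizedModule.map m.primeCompl u) := by
  apply IsLocalizedModule.linearMap_ext m.primeCompl
    (TensorProduct.AlgebraTensorModule.rTensor R Q (LocalizedModule.mkLinearMap m.primeCompl M))
    (TensorProduct.AlgebraTensorModule.rTensor R Q (LocalizedModule.mkLinearMap m.primeCompl M'))
  rw [IsLocalizedModule.map_comp]
  ext x q
  simp [LocalizedModule.map_mk]


/-- Let `R → S` be a ring map and `u : M → M'` a map of `S`-modules. Then `u`, viewed as an `R`-linear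
map, is universally injective exactly when, for every maximal ideal `𝔪` of `S`, the localized map
`M_𝔪 → M'_𝔪` is also universally injective as an `R`-linear map. -/
theorem result {R S M M' : Type u} [CommRing R] [CommRing S] [Algebra R S]
    [AddCommGroup M] [Module S M] [Module R M] [IsScalarTower R S M] [AddCommGroup M'] [Module S M'] [Module R M']
    [IsScalarTower R S M'] (u : M →ₗ[S] M') :
    CAlgX.UniversallyInjective R (u.restrictScalars R) ↔
      ∀ (m : Ideal S) [m.IsMaximal],
        CAlgX.UniversallyInjective R ((LocalizedModule.map m.primeCompl u).restrictScalars R) := by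
  constructor
  · intro h m hm Q _ _
    have hU : Function.Injective (TensorProduct.AlgebraTensorModule.rTensor R Q u) := by
      intro a b hab
      apply h Q
      rw [coe_eq, coe_eq]; exact hab
    have hloc := IsLocalizedModule.map_injective m.primeCompl
      (TensorProduct.AlgebraTensorModule.rTensor R Q (LocalizedModule.mkLinearMap m.primeCompl M))
      (TensorProduct.AlgebraTensorModule.rTensor R Q (LocalizedModule.mkLinearMap m.primeCompl M'))
      (TensorProduct.AlgebraTensorModule.rTensor R Q u) hU
    rw [hid] at hloc
    intro a b hab
    apply hloc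
    rw [coe_eq, coe_eq] at hab
    exact hab
  · intro h Q _ _
    have hU : Function.Injective (TensorProduct.AlgebraTensorModule.rTensor R Q u) := by
      apply injective_of_isLocalized_maximal
        (fun (P : Ideal S) [P.IsMaximal] => LocalizedModule P.primeCompl M ⊗[R] Q)
        (fun (P : Ideal S) [P.IsMaximal] =>
          TensorProduct.AlgebraTensorModule.rTensor R Q (LocalizedModule.mkLinearMap P.primeCompl M))
        (fun (P : Ideal S) [P.IsMaximal] => LocalizedModule P.primeCompl M' ⊗[R] Q)
        (fun (P : Ideal S) [P.IsMaximal] =>
          TensorProduct.AlgebraTensorModule.rTensor R Q (LocalizedModule.mkLinearMap P.primeCompl M'))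
      intro P hP
      rw [hid]
      intro a b hab
      apply h P Q
      rw [coe_eq, coe_eq]; exact hab
    intro a b hab
    apply hU
    rw [coe_eq, coe_eq] at hab
    exact hab

end Groth.Agent.S2149
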