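import Groth.Statements.S2159

set_option autoImplicit false
universe u
open CAlg

namespace Groth.Agent.S2159

section aux
variable {R M P₁ P₂ : Type u} [CommRing R] [AddCommGroup M] [Module R M] [AddCommGroup P₁]
  [Module R P₁] [AddCommGroup P₂] [Module R P₂]

/-- The map `(k, b) ↦ (b - s₁ (k + s₂ b), k + s₂ b)`. -/
noncomputable def schanuelMap (p₁ : P₁ →ₗ[R] M) (p₂ : P₂ →ₗ[R] M) (s₁ : P₁ →ₗ[R] P₂)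
    (s₂ : P₂ →ₗ[R] P₁) (hs₁ : p₂ ∘ₗ s₁ = p₁) (hs₂ : p₁ ∘ₗ s₂ = p₂) :
    (LinearMap.ker p₁ × P₂) →ₗ[R] (LinearMap.ker p₂ × P₁) :=
  LinearMap.prod
    (LinearMap.codRestrict (LinearMap.ker p₂)
      (LinearMap.snd R _ P₂ - s₁ ∘ₗ ((LinearMap.ker p₁).subtype ∘ₗ LinearMap.fst R _ P₂ +
        s₂ ∘ₗ LinearMap.snd R _ P₂))
      (by
        rintro ⟨⟨k, hk⟩, b⟩
        have e1 : ∀ a, p₂ (s₁ a) = p₁ a := fun a => LinearMap.congr_fun hs₁ a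
        have e2 : ∀ a, p₁ (s₂ a) = p₂ a := fun a => LinearMap.congr_fun hs₂ a
        have hk' : p₁ k = 0 := hk
        simp [e1, e2, hk']))
    ((LinearMap.ker p₁).subtype ∘ₗ LinearMap.fst R _ P₂ + s₂ ∘ₗ LinearMap.snd R _ P₂)

lemma schanuelMap_apply_fst (p₁ : P₁ →ₗ[R] M) (p₂ : P₂ →ₗ[R] M) (s₁ : P₁ →ₗ[R] P₂)
    (s₂ : P₂ →ₗ[R] P₁) (hs₁ : p₂ ∘ₗ s₁ = p₁) (hs₂ : p₁ ∘ₗ s₂ = p₂) (x : LinearMap.ker p₁ × P₂) :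
    ((schanuelMap p₁ p₂ s₁ s₂ hs₁ hs₂ x).1 : P₂) = x.2 - s₁ ((x.1 : P₁) + s₂ x.2) := by
  simp [schanuelMap]

lemma schanuelMap_apply_snd (p₁ : P₁ →ₗ[R] M) (p₂ : P₂ →ₗ[R] M) (s₁ : P₁ →ₗ[R] P₂)
    (s₂ : P₂ →ₗ[R] P₁) (hs₁ : p₂ ∘ₗ s₁ = p₁) (hs₂ : p₁ ∘ₗ s₂ = p₂) (x : LinearMap.ker p₁ × P₂) :
    (schanuelMap p₁ p₂ s₁ s₂ hs₁ hs₂ x).2 = (x.1 : P₁) + s₂ x.2 := by
  simp [schanuelMap]

lemma schanuelMap_comp (p₁ : P₁ →ₗ[R] M) (p₂ : P₂ →ₗ[R] M) (s₁ : P₁ →ₗ[R] P₂)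
    (s₂ : P₂ →ₗ[R] P₁) (hs₁ : p₂ ∘ₗ s₁ = p₁) (hs₂ : p₁ ∘ₗ s₂ = p₂) :
    (schanuelMap p₂ p₁ s₂ s₁ hs₂ hs₁) ∘ₗ (schanuelMap p₁ p₂ s₁ s₂ hs₁ hs₂) = LinearMap.id := by
  apply LinearMap.ext
  intro x
  apply Prod.ext
  · apply Subtype.ext
    simp only [LinearMap.comp_apply, LinearMap.id_apply]
    rw [schanuelMap_apply_fst, schanuelMap_apply_snd, schanuelMap_apply_fst]
    simp
  · simp only [LinearMap.comp_apply, LinearMap.id_apply]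
    rw [schanuelMap_apply_snd, schanuelMap_apply_snd, schanuelMap_apply_fst]
    simp

end aux

/-- Given surjections `p₁ : P₁ → M` and `p₂ : P₂ → M` from projective modules, with kernels `K` and `L`,
there is an isomorphism `K ⊕ P₂ ≅ L ⊕ P₁`. -/
theorem result {R M P₁ P₂ : Type u} [CommRing R] [AddCommGroup M] [Module R M] [AddCommGroup P₁] [Module R P₁]
    [Module.Projective R P₁] [AddCommGroup P₂] [Module R P₂] [Module.Projective R P₂] (p₁ : P₁ →ₗ[R] M) (p₂ : P₂ →ₗ[R] M)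
    (h₁ : Function.Surjective p₁) (h₂ : Function.Surjective p₂) :
    Nonempty ((LinearMap.ker p₁ × P₂) ≃ₗ[R] (LinearMap.ker p₂ × P₁)) := by
  obtain ⟨s₁, hs₁⟩ := Module.projective_lifting_property p₂ p₁ h₂
  obtain ⟨s₂, hs₂⟩ := Module.projective_lifting_property p₁ p₂ h₁
  exact ⟨LinearEquiv.ofLinear (schanuelMap p₁ p₂ s₁ s₂ hs₁ hs₂) (schanuelMap p₂ p₁ s₂ s₁ hs₂ hs₁)
    (schanuelMap_comp p₂ p₁ s₂ s₁ hs₂ hs₁) (schanuelMap_comp p₁ p₂ s₁ s₂ hs₁ hs₂)⟩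

end Groth.Agent.S2159
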