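import Groth.Statements.S2160
import Mathlib
import Groth.Agent.Lib.helper1.HeightOne

set_option autoImplicit false
universe u
open CAlg

namespace Groth.Agent.S2160

/-- Let `R` be a Noetherian local domain of Krull dimension at least `2`. Then every nonempty open
subset of `Spec R` is infinite. -/
theorem result {R : Type u} [CommRing R] [IsDomain R] [IsLocalRing R] [IsNoetherianRing R]
    (hdim : 2 ≤ ringKrullDim R) (U : Set (PrimeSpectrum R)) (hU : IsOpen U) (hne : U.Nonempty) : U.Infinite := by
  classical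
  have h2 : 2 ≤ (IsLocalRing.maximalIdeal R).height := by
    have := IsLocalRing.maximalIdeal_height_eq_ringKrullDim (R := R)
    rw [← this] at hdim
    exact WithBot.coe_le_coe.mp hdim
  have hinf := Helper1.HeightOne.infinite_height_one (IsLocalRing.maximalIdeal R) h2
  obtain ⟨x, hxU⟩ := hne
  obtain ⟨v, ⟨f, rfl⟩, hxv, hvU⟩ :=
    PrimeSpectrum.isTopologicalBasis_basic_opens.exists_subset_of_mem_open hxU hU
  have hf0 : f ≠ 0 := by
    rintro rfl
    simp at hxv
  have hminfin := Ideal.finite_minimalPrimes_of_isNoetherianRing R (Ideal.span {f})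
  have hdiff := hinf.sdiff hminfin
  intro hUfin
  apply hdiff
  apply (hUfin.image (fun q : PrimeSpectrum R => q.asIdeal)).subset
  rintro p ⟨⟨hpprime, hph, -⟩, hpnot⟩
  refine ⟨⟨p, hpprime⟩, hvU ?_, rfl⟩
  show (⟨p, hpprime⟩ : PrimeSpectrum R) ∈ (PrimeSpectrum.basicOpen f : Set _)
  rw [SetLike.mem_coe, PrimeSpectrum.mem_basicOpen]
  intro hfp
  haveI := hpprime
  exact hpnot (Helper1.HeightOne.mem_minimalPrimes_span_of_height_one p hph f hf0 hfp)

end Groth.Agent.S2160
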