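import Groth.Statements.S2170
import Mathlib.Tactic
-- import your own Groth.Agent.* helpers here

set_option autoImplicit false
open Finset
open Models

namespace Groth.Agent.S2170

/-- Let A be a symmetric real n × n matrix with non-negative off-diagonal entries and m a vector with
positive entries such that for every i, ∑_{j ≠ i} A_{ij} m_j ≤ −A_{ii} m_i. Then the kernel of A is
the span of the vectors equal to m on an index set I and zero off I, for those I such that A_{ij} =
0 whenever i ∈ I and j ∉ I and such that equality holds in the above inequality for every i ∈ I. The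
published statement omits the symmetry of A (without which it fails) and applies it only to
symmetric matrices; stated here with A symmetric. -/
theorem result {n : ℕ} (A : Matrix (Fin n) (Fin n) ℝ) (m : Fin n → ℝ)
    (hsymm : A.IsSymm) (hA : ∀ i j, i ≠ j → 0 ≤ A i j) (hm : ∀ i, 0 < m i)
    (hle : ∀ i, ∑ j ∈ univ.erase i, A i j * m j ≤ -(A i i * m i)) :
    LinearMap.ker (Matrix.mulVecLin A) = Submodule.span ℝ
      {x : Fin n → ℝ | ∃ I : Finset (Fin n), (∀ i ∈ I, ∀ j ∉ I, A i j = 0) ∧
        (∀ i ∈ I, ∑ j ∈ univ.erase i, A i j * m j = -(A i i * m i)) ∧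
        x = fun i => if i ∈ I then m i else 0} := by
  classical
  have hr : ∀ i, ∑ j, A i j * m j = A i i * m i + ∑ j ∈ univ.erase i, A i j * m j := fun i =>
    (Finset.add_sum_erase univ (fun j => A i j * m j) (Finset.mem_univ i)).symm
  have hrle : ∀ i, ∑ j, A i j * m j ≤ 0 := fun i => by rw [hr]; linarith [hle i]
  apply le_antisymm
  · intro x hx
    rw [LinearMap.mem_ker, Matrix.mulVecLin_apply] at hx
    set y : Fin n → ℝ := fun i => x i / m i with hy
    have hxy : ∀ i, m i * y i = x i := fun i => by
      simp only [hy]; field_simp [(hm i).ne']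
    have hcol : ∀ j, ∑ i, A i j * m i = ∑ i, A j i * m i := fun j =>
      Finset.sum_congr rfl fun i _ => by rw [hsymm.apply j i]
    obtain ⟨Q, hQ⟩ : ∃ Q : ℝ, Q = ∑ i, ∑ j, A i j * m i * m j * (y i - y j) ^ 2 := ⟨_, rfl⟩
    obtain ⟨R, hR⟩ : ∃ R : ℝ, R = ∑ i, (m i * y i ^ 2) * ∑ j, A i j * m j := ⟨_, rfl⟩
    have hS1 : ∑ i, ∑ j, A i j * m i * m j * y i ^ 2 = R := by
      rw [hR]
      apply Finset.sum_congr rfl; intro i _
      rw [Finset.mul_sum]; apply Finset.sum_congr rfl; intro j _; ring
    have hS3 : ∑ i, ∑ j, A i j * m i * m j * y j ^ 2 = R := by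
      rw [hR, Finset.sum_comm]
      apply Finset.sum_congr rfl; intro j _
      rw [← hcol j, Finset.mul_sum]; apply Finset.sum_congr rfl; intro i _; ring
    have hS2 : ∑ i, ∑ j, A i j * m i * m j * (y i * y j) = dotProduct x (A.mulVec x) := by
      simp only [dotProduct, Matrix.mulVec, Finset.mul_sum]
      apply Finset.sum_congr rfl; intro i _
      apply Finset.sum_congr rfl; intro j _
      rw [← hxy i, ← hxy j]; ring
    have hdot : dotProduct x (A.mulVec x) = 0 := by rw [hx, dotProduct_zero]
    have hQeq : Q = 2 * R := by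
      have : Q = (∑ i, ∑ j, A i j * m i * m j * y i ^ 2) -
          2 * (∑ i, ∑ j, A i j * m i * m j * (y i * y j)) +
          ∑ i, ∑ j, A i j * m i * m j * y j ^ 2 := by
        rw [hQ, Finset.mul_sum, ← Finset.sum_sub_distrib, ← Finset.sum_add_distrib]
        apply Finset.sum_congr rfl; intro i _
        rw [Finset.mul_sum, ← Finset.sum_sub_distrib, ← Finset.sum_add_distrib]
        apply Finset.sum_congr rfl; intro j _
        ring
      rw [this, hS1, hS2, hS3, hdot]; ring
    have hterm : ∀ i j, 0 ≤ A i j * m i * m j * (y i - y j) ^ 2 := by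
      intro i j
      by_cases hij : i = j
      · subst hij; simp
      · exact mul_nonneg (mul_nonneg (mul_nonneg (hA i j hij) (hm i).le) (hm j).le) (sq_nonneg _)
    have hQnn : 0 ≤ Q := by
      rw [hQ]; exact Finset.sum_nonneg fun i _ => Finset.sum_nonneg fun j _ => hterm i j
    have hRterm : ∀ i, (m i * y i ^ 2) * ∑ j, A i j * m j ≤ 0 := fun i =>
      mul_nonpos_of_nonneg_of_nonpos (mul_nonneg (hm i).le (sq_nonneg _)) (hrle i)
    have hRle : R ≤ 0 := by rw [hR]; exact Finset.sum_nonpos fun i _ => hRterm i
    have hQ0 : ∑ i, ∑ j, A i j * m i * m j * (y i - y j) ^ 2 = 0 := by rw [← hQ]; linarith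
    have hR0 : ∑ i, (m i * y i ^ 2) * ∑ j, A i j * m j = 0 := by rw [← hR]; linarith
    have hall : ∀ i j, A i j * m i * m j * (y i - y j) ^ 2 = 0 := by
      intro i j
      have h1 := (Finset.sum_eq_zero_iff_of_nonneg
        (fun i _ => Finset.sum_nonneg fun j _ => hterm i j)).mp hQ0 i (Finset.mem_univ i)
      exact (Finset.sum_eq_zero_iff_of_nonneg (fun j _ => hterm i j)).mp h1 j (Finset.mem_univ j)
    have hadj : ∀ i j, A i j ≠ 0 → y i = y j := by
      intro i j hne
      have := hall i j
      have hne2 : A i j * m i * m j ≠ 0 :=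
        mul_ne_zero (mul_ne_zero hne (hm i).ne') (hm j).ne'
      have h3 := (mul_eq_zero.mp this).resolve_left hne2
      exact sub_eq_zero.mp ((pow_eq_zero_iff (two_ne_zero)).mp h3)
    have hRall : ∀ i, (m i * y i ^ 2) * ∑ j, A i j * m j = 0 := fun i =>
      (Finset.sum_eq_zero_iff_of_nonpos (fun i _ => hRterm i)).mp hR0 i (Finset.mem_univ i)
    have hrow0 : ∀ i, y i ≠ 0 → ∑ j, A i j * m j = 0 := by
      intro i hyi
      have hne : m i * y i ^ 2 ≠ 0 := mul_ne_zero (hm i).ne' (pow_ne_zero 2 hyi)
      exact (mul_eq_zero.mp (hRall i)).resolve_left hne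
    have hxsum : x = ∑ c ∈ univ.image y,
        c • (fun i => if i ∈ univ.filter (fun k => y k = c) then m i else 0) := by
      funext i
      rw [Finset.sum_apply, Finset.sum_eq_single (y i)]
      · simp only [Pi.smul_apply, smul_eq_mul, Finset.mem_filter, Finset.mem_univ, true_and,
          if_true]
        rw [mul_comm, hxy]
      · intro c _ hc
        simp [Ne.symm hc]
      · intro h
        exact absurd (Finset.mem_image_of_mem y (Finset.mem_univ i)) h
    rw [hxsum]
    apply Submodule.sum_mem
    intro c _
    by_cases hc : c = 0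
    · rw [hc, zero_smul]; exact Submodule.zero_mem _
    · apply Submodule.smul_mem
      apply Submodule.subset_span
      refine ⟨univ.filter (fun k => y k = c), ?_, ?_, rfl⟩
      · intro i hi j hj
        by_contra hne
        apply hj
        have hi' : y i = c := by simpa using hi
        simp only [Finset.mem_filter, Finset.mem_univ, true_and]
        rw [← hadj i j hne, hi']
      · intro i hi
        have hi' : y i = c := by simpa using hi
        have h0 := hrow0 i (by rw [hi']; exact hc)
        rw [hr] at h0
        linarith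
  · apply Submodule.span_le.mpr
    rintro x ⟨I, hcl, heq, rfl⟩
    rw [SetLike.mem_coe, LinearMap.mem_ker, Matrix.mulVecLin_apply]
    funext i
    simp only [Matrix.mulVec, dotProduct, Pi.zero_apply]
    by_cases hi : i ∈ I
    · have : ∑ j, A i j * (if j ∈ I then m j else 0) = ∑ j, A i j * m j := by
        apply Finset.sum_congr rfl; intro j _
        by_cases hj : j ∈ I
        · simp [hj]
        · simp [hj, hcl i hi j hj]
      rw [this, hr, heq i hi]; ring
    · apply Finset.sum_eq_zero; intro j _
      by_cases hj : j ∈ I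
      · rw [if_pos hj, ← hsymm.apply i j, hcl j hj i hi, zero_mul]
      · rw [if_neg hj, mul_zero]

end Groth.Agent.S2170
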