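import Groth.Statements.S2171
import Mathlib

set_option autoImplicit false
open Finset
open Models

namespace Groth.Agent.S2171

/-- Let A be a symmetric real n by n matrix with non-negative off-diagonal entries, m a vector with
positive entries such that A m = 0, and assume no proper non-empty index set I has A i j = 0 for all
i in I and j outside I. Then x^t A x is at most 0 for every real vector x, with equality exactly
when x is a real multiple of m. -/
theorem result {n : ℕ} (A : Matrix (Fin n) (Fin n) ℝ)
    (m : Fin n → ℝ) (hsymm : A.IsSymm) (hA : ∀ i j, i ≠ j → 0 ≤ A i j) (hm : ∀ i, 0 < m i)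
    (hAm : A.mulVec m = 0)
    (hconn : ∀ I : Finset (Fin n), I.Nonempty → I ≠ univ → ∃ i ∈ I, ∃ j ∉ I, A i j ≠ 0)
    (x : Fin n → ℝ) :
    dotProduct x (A.mulVec x) ≤ 0 ∧ (dotProduct x (A.mulVec x) = 0 ↔ ∃ q : ℝ, x = q • m) := by
  classical
  set y : Fin n → ℝ := fun i => x i / m i with hy
  have hxy : ∀ i, m i * y i = x i := fun i => by
    simp only [hy]; field_simp [(hm i).ne']
  have hrow : ∀ i, ∑ j, A i j * m j = 0 := fun i => by
    have := congrFun hAm i
    simpa [Matrix.mulVec, dotProduct] using this
  have hcol : ∀ j, ∑ i, A i j * m i = 0 := fun j => by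
    rw [← hrow j]
    exact Finset.sum_congr rfl fun i _ => by rw [hsymm.apply j i]
  set Q : ℝ := ∑ i, ∑ j, A i j * m i * m j * (y i - y j) ^ 2 with hQ
  have hS1 : ∑ i, ∑ j, A i j * m i * m j * y i ^ 2 = 0 := by
    apply Finset.sum_eq_zero
    intro i _
    have : ∑ j, A i j * m i * m j * y i ^ 2 = (m i * y i ^ 2) * ∑ j, A i j * m j := by
      rw [Finset.mul_sum]; apply Finset.sum_congr rfl; intro j _; ring
    rw [this, hrow, mul_zero]
  have hS3 : ∑ i, ∑ j, A i j * m i * m j * y j ^ 2 = 0 := by
    rw [Finset.sum_comm]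
    apply Finset.sum_eq_zero
    intro j _
    have : ∑ i, A i j * m i * m j * y j ^ 2 = (m j * y j ^ 2) * ∑ i, A i j * m i := by
      rw [Finset.mul_sum]; apply Finset.sum_congr rfl; intro i _; ring
    rw [this, hcol, mul_zero]
  have hS2 : ∑ i, ∑ j, A i j * m i * m j * (y i * y j) = dotProduct x (A.mulVec x) := by
    simp only [dotProduct, Matrix.mulVec, Finset.mul_sum]
    apply Finset.sum_congr rfl; intro i _
    apply Finset.sum_congr rfl; intro j _
    rw [← hxy i, ← hxy j]; ring
  have hQeq : Q = -2 * dotProduct x (A.mulVec x) := by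
    have : Q = (∑ i, ∑ j, A i j * m i * m j * y i ^ 2) -
        2 * (∑ i, ∑ j, A i j * m i * m j * (y i * y j)) +
        ∑ i, ∑ j, A i j * m i * m j * y j ^ 2 := by
      rw [hQ, Finset.mul_sum, ← Finset.sum_sub_distrib, ← Finset.sum_add_distrib]
      apply Finset.sum_congr rfl; intro i _
      rw [Finset.mul_sum, ← Finset.sum_sub_distrib, ← Finset.sum_add_distrib]
      apply Finset.sum_congr rfl; intro j _
      ring
    rw [this, hS1, hS2, hS3]; ring
  have hterm : ∀ i j, 0 ≤ A i j * m i * m j * (y i - y j) ^ 2 := by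
    intro i j
    by_cases hij : i = j
    · subst hij; simp
    · exact mul_nonneg (mul_nonneg (mul_nonneg (hA i j hij) (hm i).le) (hm j).le) (sq_nonneg _)
  have hQnn : 0 ≤ Q := Finset.sum_nonneg fun i _ => Finset.sum_nonneg fun j _ => hterm i j
  refine ⟨by linarith, ?_⟩
  constructor
  · intro h0
    have hQ0 : Q = 0 := by rw [hQeq, h0, mul_zero]
    have hall : ∀ i j, A i j * m i * m j * (y i - y j) ^ 2 = 0 := by
      intro i j
      have h1 := (Finset.sum_eq_zero_iff_of_nonneg
        (fun i _ => Finset.sum_nonneg fun j _ => hterm i j)).mp hQ0 i (Finset.mem_univ i)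
      exact (Finset.sum_eq_zero_iff_of_nonneg (fun j _ => hterm i j)).mp h1 j (Finset.mem_univ j)
    have hadj : ∀ i j, A i j ≠ 0 → y i = y j := by
      intro i j hne
      have := hall i j
      have hne2 : A i j * m i * m j ≠ 0 :=
        mul_ne_zero (mul_ne_zero hne (hm i).ne') (hm j).ne'
      have h3 := (mul_eq_zero.mp this).resolve_left hne2
      exact sub_eq_zero.mp ((pow_eq_zero_iff (two_ne_zero)).mp h3)
    rcases Nat.eq_zero_or_pos n with hn | hn
    · subst hn
      exact ⟨0, funext fun i => i.elim0⟩
    · let i₀ : Fin n := ⟨0, hn⟩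
      refine ⟨y i₀, ?_⟩
      let I : Finset (Fin n) := univ.filter fun i => y i = y i₀
      have hI : I = univ := by
        by_contra hne
        obtain ⟨i, hi, j, hj, hAij⟩ := hconn I ⟨i₀, by simp [I]⟩ hne
        apply hj
        have hi' : y i = y i₀ := by simpa [I] using hi
        have := hadj i j hAij
        simp only [I, Finset.mem_filter, Finset.mem_univ, true_and]
        rw [← this, hi']
      funext i
      have hi : i ∈ I := by rw [hI]; exact Finset.mem_univ i
      have hi' : y i = y i₀ := by simpa [I] using hi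
      rw [Pi.smul_apply, smul_eq_mul, ← hi', mul_comm, hxy]
  · rintro ⟨q, rfl⟩
    rw [Matrix.mulVec_smul, hAm, smul_zero, dotProduct_zero]

end Groth.Agent.S2171
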