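import Groth.Statements.S2179
import Groth.Agent.Lib.helper1.NumType

set_option autoImplicit false
open Finset
open Models Models.NumericalType

namespace Groth.Agent.S2179

/-- For a numerical type T, the map Z^n -> Z^n multiplying the i-th coordinate by w i induces a
well-defined injective homomorphism from Pic(T), the cokernel of (a i j / w i), to the cokernel of
the matrix a. -/
theorem result {n : ℕ} (T : Models.NumericalType n) :
    ∃ f : T.Pic →+ T.CokerA, Function.Injective f ∧
      ∀ x : Fin n → ℤ, f (Submodule.Quotient.mk x) = Submodule.Quotient.mk (fun i => T.w i * x i) := by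
  classical
  let D : (Fin n → ℤ) →ₗ[ℤ] (Fin n → ℤ) :=
    { toFun := fun x i => T.w i * x i
      map_add' := by intros; funext i; simp [mul_add]
      map_smul' := by intros; funext i; simp; ring }
  have hD : ∀ x i, D x i = T.w i * x i := fun x i => rfl
  have hDP : ∀ y, D (T.picMatrix.mulVec y) = T.a.mulVec y := by
    intro y; funext i
    rw [hD]
    simp only [Matrix.mulVec, dotProduct, Models.NumericalType.picMatrix]
    rw [Finset.mul_sum]; apply Finset.sum_congr rfl; intro j _
    rw [← mul_assoc, Int.mul_ediv_cancel' (T.w_dvd i j)]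
  have hle : LinearMap.range (Matrix.mulVecLin T.picMatrix) ≤
      (LinearMap.range (Matrix.mulVecLin T.a)).comap D := by
    rintro _ ⟨y, rfl⟩
    exact ⟨y, by rw [Matrix.mulVecLin_apply, Matrix.mulVecLin_apply, hDP]⟩
  let f := Submodule.mapQ _ _ D hle
  refine ⟨f.toAddMonoidHom, ?_, fun x => rfl⟩
  rw [injective_iff_map_eq_zero]
  intro z hz
  obtain ⟨x, rfl⟩ := Submodule.Quotient.mk_surjective _ z
  change Submodule.Quotient.mk (D x) = 0 at hz
  rw [Submodule.Quotient.mk_eq_zero] at hz ⊢
  obtain ⟨y, hy⟩ := hz
  refine ⟨y, ?_⟩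
  rw [Matrix.mulVecLin_apply] at hy ⊢
  funext i
  have := congrFun hy i
  rw [← hDP, hD, hD] at this
  exact mul_left_cancel₀ (T.w_pos i).ne' this

end Groth.Agent.S2179
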