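import Groth.Statements.S2190
import Groth.Agent.Lib.helper1.NumType

set_option autoImplicit false
open Finset
open Models Models.NumericalType

namespace Groth.Agent.S2190

/-- A minimal numerical type of genus zero has a single index, with m = 1, a = 0, w = 1 and g = 0. -/
theorem result {n : ℕ} (T : Models.NumericalType n) (hmin : T.IsMinimal) (hg : T.genus = 0) :
    n = 1 ∧ ∀ i, T.m i = 1 ∧ T.a i i = 0 ∧ T.w i = 1 ∧ T.g i = 0 := by
  have hn1 : n = 1 := by
    by_contra hne
    have hn : 1 < n := by have := T.pos; omega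
    have := Helper1.NumType.one_le_genus T hmin hn
    omega
  subst hn1
  refine ⟨rfl, ?_⟩
  have hrow := Helper1.NumType.row_eq T 0
  have ha : T.a 0 0 = 0 := by
    have he : (Finset.univ.erase (0 : Fin 1)) = ∅ := by
      ext k; simp [Subsingleton.elim k 0]
    rw [he, Finset.sum_empty, add_zero] at hrow
    exact (mul_eq_zero.mp hrow).resolve_right (T.m_pos 0).ne'
  have hgen := Helper1.NumType.two_genus T
  rw [hg, Fin.sum_univ_one, ha] at hgen
  have hm := T.m_pos 0
  have hw := T.w_pos 0
  have hgn := T.g_nonneg 0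
  have hprod : T.m 0 * (T.w 0 * (1 - T.g 0)) = 1 := by linarith
  have hg0 : T.g 0 = 0 := by
    by_contra hne
    have : 1 ≤ T.g 0 := by omega
    have h1 : T.w 0 * (1 - T.g 0) ≤ 0 := mul_nonpos_of_nonneg_of_nonpos hw.le (by linarith)
    have h2 : T.m 0 * (T.w 0 * (1 - T.g 0)) ≤ 0 := mul_nonpos_of_nonneg_of_nonpos hm.le h1
    linarith
  rw [hg0, sub_zero, mul_one] at hprod
  have hm1 : T.m 0 = 1 := by
    have : T.m 0 ≤ T.m 0 * T.w 0 := le_mul_of_one_le_right hm.le hw
    omega
  have hw1 : T.w 0 = 1 := by rw [hm1, one_mul] at hprod; exact hprod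
  intro i
  have hi : i = 0 := Subsingleton.elim i 0
  subst hi
  exact ⟨hm1, ha, hw1, hg0⟩

end Groth.Agent.S2190
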