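import Groth.Statements.S2203
import Mathlib
-- import your own Groth.Agent.* helpers here

set_option autoImplicit false
universe u
open CategoryTheory
open QCohCat

namespace Groth.Agent.S2203


theorem lead_centerBij (A : Type u) [CommRing A] :
    Function.Bijective (Linear.toCatCenter A (ModuleCat.{u} A)) := by
  constructor
  · rw [injective_iff_map_eq_zero]
    intro a ha
    have h1 := congrArg
      (fun z : CatCenter (ModuleCat.{u} A) => (z.app (ModuleCat.of A A)).hom (1 : A)) ha
    simpa using h1
  · intro z
    refine ⟨(z.app (ModuleCat.of A A)).hom (1 : A), ?_⟩
    apply CatCenter.ext
    intro M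
    apply ModuleCat.hom_ext
    apply LinearMap.ext
    intro m
    have hn := z.naturality (ModuleCat.ofHom (LinearMap.toSpanSingleton A M m))
    have h2 := congrArg (fun f => f.hom (1 : A)) hn
    simp at h2
    simp [h2]

/-- Ring-isomorphism part of the statement: let A and B be commutative rings whose categories of modules
are equivalent. Then A and B are isomorphic as rings. (The source moreover describes the equivalence
as base change followed by tensoring with an invertible module.) -/
theorem result (A B : Type u) [CommRing A] [CommRing B]
    (F : ModuleCat.{u} A ≌ ModuleCat.{u} B) : Nonempty (A ≃+* B) := by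
  let L := F.functor
  let W := MorphismProperty.isomorphisms (ModuleCat.{u} A)
  have : L.IsLocalization W := Functor.IsLocalization.of_isEquivalence L W le_rfl
  have : L.Additive := Functor.additive_of_preserves_binary_products L
  let ρ : CatCenter (ModuleCat.{u} A) →+* CatCenter (ModuleCat.{u} B) :=
    CatCenter.localizationRingHom L W
  have hρapp : ∀ (r : CatCenter (ModuleCat.{u} A)) (X : ModuleCat.{u} A),
      (ρ r).app (L.obj X) = L.map (r.app X) := fun r X => CatCenter.localization_app r L W X
  have hρ : Function.Bijective ρ := by
    constructor
    · intro r s h
      apply CatCenter.ext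
      intro X
      apply L.map_injective
      rw [← hρapp, ← hρapp, h]
    · intro t
      refine ⟨{ app := fun X => L.preimage (t.app (L.obj X)), naturality := ?_ }, ?_⟩
      · intro X Y f
        apply L.map_injective
        simp only [Functor.id_obj, Functor.id_map, Functor.map_comp, Functor.map_preimage]
        exact t.naturality (L.map f)
      · apply CatCenter.ext_of_localization L W
        intro X
        rw [hρapp]
        exact L.map_preimage _
  exact ⟨(RingEquiv.ofBijective _ (lead_centerBij A)).trans
    ((RingEquiv.ofBijective ρ hρ).trans (RingEquiv.ofBijective _ (lead_centerBij B)).symm)⟩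

end Groth.Agent.S2203
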