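import Groth.Statements.S2211
import Mathlib
-- import your own Groth.Agent.* helpers here

set_option autoImplicit false
universe u
open DPow

namespace Groth.Agent.S2211
theorem not_dvd_choose (p : ℕ) [hp : Fact p.Prime] (m : ℕ) :
    ¬ p ∣ Nat.choose (m * p + p - 1) (p - 1) := by
  have hp1 : 1 < p := hp.out.one_lt
  have hlt : p - 1 < p := by omega
  have h := @Choose.choose_modEq_choose_mod_mul_choose_div_nat (m * p + p - 1) (p - 1) p _
  have e1 : m * p + p - 1 = (p - 1) + p * m := by
    have : m * p = p * m := mul_comm _ _
    omega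
  rw [e1, Nat.add_mul_mod_self_left, Nat.add_mul_div_left _ _ (by omega : 0 < p),
    Nat.mod_eq_of_lt hlt, Nat.div_eq_of_lt hlt, Nat.choose_self, zero_add,
    Nat.choose_zero_right, one_mul] at h
  intro hd
  rw [e1] at hd
  have h0 := (Nat.modEq_zero_iff_dvd).mpr hd
  have h1 : 1 ≡ 0 [MOD p] := h.symm.trans h0
  have h2 := (Nat.modEq_zero_iff_dvd).mp h1
  exact hp1.ne' (Nat.dvd_one.mp h2)

theorem not_dvd_uniformBell (p : ℕ) [hp : Fact p.Prime] (m : ℕ) :
    ¬ p ∣ Nat.uniformBell m p := by
  induction m with
  | zero =>
    rw [Nat.uniformBell_zero_left]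
    exact fun h => hp.out.one_lt.ne' (Nat.dvd_one.mp h)
  | succ m ih =>
    rw [Nat.uniformBell_succ_left, hp.out.dvd_mul]
    rintro (h | h)
    · exact not_dvd_choose p m h
    · exact ih h


/-- First part: let p be a prime and A a ring in which every integer prime to p is invertible, I an
ideal of A. Two divided power structures on I coincide exactly when their p-th divided power maps
agree on I. -/
theorem result {A : Type u} [CommRing A] (p : ℕ) (hp : p.Prime)
    (hA : ∀ n : ℕ, ¬ p ∣ n → IsUnit (n : A)) {I : Ideal A} (γ γ' : DividedPowers I) :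
    γ = γ' ↔ ∀ x ∈ I, γ.dpow p x = γ'.dpow p x := by
  haveI : Fact p.Prime := ⟨hp⟩
  constructor
  · rintro rfl x _; rfl
  · intro h
    apply DividedPowers.ext
    intro n
    induction n using Nat.strong_induction_on with
    | _ n ih =>
      intro x hx
      rcases Nat.eq_zero_or_pos n with hn | hn
      · subst hn; rw [γ.dpow_zero hx, γ'.dpow_zero hx]
      · by_cases hpn : p ∣ n
        · obtain ⟨m, rfl⟩ := hpn
          have hm0 : m ≠ 0 := by
            rintro rfl
            simp at hn
          have hm : m < p * m := by
            have := Nat.mul_le_mul_right m hp.two_le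
            omega
          have hy : γ.dpow p x ∈ I := γ.dpow_mem hp.ne_zero hx
          have e1 := γ.dpow_comp (m := m) hp.ne_zero hx
          have e2 := γ'.dpow_comp (m := m) hp.ne_zero hx
          have e3 : γ.dpow m (γ.dpow p x) = γ'.dpow m (γ'.dpow p x) := by
            rw [← h x hx]; exact ih m hm hy
          rw [e1, e2] at e3
          have hu := hA _ (not_dvd_uniformBell p m)
          rw [mul_comm p m]
          exact hu.mul_left_cancel e3
        · have e1 := γ.mul_dpow (m := 1) (n := n - 1) hx
          have e2 := γ'.mul_dpow (m := 1) (n := n - 1) hx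
          have hn1 : 1 + (n - 1) = n := by omega
          rw [hn1, γ.dpow_one hx, Nat.choose_one_right] at e1
          rw [hn1, γ'.dpow_one hx, Nat.choose_one_right] at e2
          have e4 : (n : A) * γ.dpow n x = (n : A) * γ'.dpow n x := by
            rw [← e1, ← e2, ih (n - 1) (by omega) hx]
          exact (hA n hpn).mul_left_cancel e4

end Groth.Agent.S2211
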