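import Groth.Statements.S3852
import Mathlib

set_option autoImplicit false
universe u
open FCompl

namespace Groth.Agent.S3852

open AlgebraicGeometry in
/-- Second assertion; stated for quasi-coherent ideal sheaves, with the condition on supports as an
inclusion, which is what the proof uses: Let X be a Noetherian scheme and I, J ideal sheaves such
that the zero locus of J is contained in the zero locus of I. Then I^n ≤ J for some n ≥ 1. -/
theorem result
    (X : Scheme.{u}) [IsNoetherian X] (I J : X.IdealSheafData)
    (h : (J.support : Set X) ⊆ I.support) :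
    ∃ n : ℕ, I ^ (n + 1) ≤ J := by
  obtain ⟨s, hs, hcov⟩ := (isCompact_iff_finite_and_eq_biUnion_affineOpens (X := X) (U := ⊤)).1
    (by simpa using CompactSpace.isCompact_univ (X := X))
  have hfin : Finite s := hs
  have hN : ∀ i : s, IsNoetherianRing Γ(X, (i : X.affineOpens)) := fun i =>
    IsLocallyNoetherian.component_noetherian _
  have hcov' : ⨆ i : s, ((i : X.affineOpens) : X.Opens) = ⊤ := by
    rw [hcov, iSup_subtype]
  have hle : I ≤ J.radical := by
    have h1 : J.support ≤ I.support := h
    rw [Scheme.IdealSheafData.le_support_iff_le_vanishingIdeal,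
      Scheme.IdealSheafData.vanishingIdeal_support] at h1
    exact h1
  have hex : ∀ i : s, ∃ k : ℕ, (I.ideal i) ^ k ≤ J.ideal i := by
    intro i
    have h2 : I.ideal i ≤ (J.ideal i).radical := hle i
    exact Ideal.exists_pow_le_of_le_radical_of_fg_radical h2 (IsNoetherian.noetherian _)
  choose k hk using hex
  have := Fintype.ofFinite s
  refine ⟨Finset.univ.sup k, ?_⟩
  apply Scheme.IdealSheafData.le_of_iSup_eq_top (fun i : s => (i : X.affineOpens)) hcov'
  intro i
  rw [Scheme.IdealSheafData.ideal_pow]
  show (I.ideal i) ^ (Finset.univ.sup k + 1) ≤ J.ideal i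
  refine (Ideal.pow_le_pow_right ?_).trans (hk i)
  exact (Finset.le_sup (Finset.mem_univ i)).trans (Nat.le_succ _)

end Groth.Agent.S3852
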