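import Groth.Statements.S2339
import Mathlib
import Groth.Agent.S2338

set_option autoImplicit false
set_option linter.style.haveILetI false
universe u
open CategoryTheory CategoryTheory.Limits AlgebraicGeometry
open EGA2

namespace Groth.Agent.S2339

/-- If f : X → Y is quasi-affine then so is its base change along any morphism Y' → Y. -/
theorem result {X Y Y' : Scheme.{u}} (f : X ⟶ Y) (hf : Mor2.IsQuasiAffine f) (g : Y' ⟶ Y) :
    Mor2.IsQuasiAffine (pullback.snd f g) := by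
  obtain ⟨hf1, hf2⟩ := hf
  haveI := hf1
  haveI hqc : QuasiCompact (pullback.snd f g) := inferInstance
  refine ⟨hqc, fun V' hV' => ?_⟩
  haveI : IsAffine (V' : Scheme.{u}) := hV'
  let p : pullback f g ⟶ Y' := pullback.snd f g
  let f' : (p ⁻¹ᵁ V' : Scheme.{u}) ⟶ (V' : Scheme.{u}) := p ∣_ V'
  haveI : QuasiCompact f' := by
    show QuasiCompact (p ∣_ V')
    infer_instance
  haveI : CompactSpace (p ⁻¹ᵁ V' : Scheme.{u}) := QuasiCompact.compactSpace_of_compactSpace f'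
  show Scheme.IsQuasiAffine (p ⁻¹ᵁ V' : Scheme.{u})
  apply Groth.Agent.S2338.quasiAffine_of_cover
  intro x
  obtain ⟨V, hV, hxV⟩ : ∃ V : Y.Opens, IsAffineOpen V ∧ g (V'.ι (f' x)) ∈ V := by
    obtain ⟨_, ⟨V, hV, rfl⟩, hxV, -⟩ := Y.isBasis_affineOpens.exists_subset_of_mem_open
      (Set.mem_univ (g (V'.ι (f' x)))) isOpen_univ
    exact ⟨V, hV, hxV⟩
  let O : (V' : Scheme.{u}).Opens := V'.ι ⁻¹ᵁ (g ⁻¹ᵁ V)
  obtain ⟨_, ⟨_, ⟨a, ha, rfl⟩, rfl⟩, hxa, haO⟩ :=
    (Scheme.IsQuasiAffine.isBasis_basicOpen (V' : Scheme.{u})).exists_subset_of_mem_open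
      (show f' x ∈ (O : Set _) from hxV) O.2
  refine ⟨f'.appTop a, ?_, ?_⟩
  · rw [← Scheme.preimage_basicOpen_top]
    have heq := image_morphismRestrict_preimage p V' ((V' : Scheme.{u}).basicOpen a)
    have hEaff : IsAffineOpen (V'.ι ''ᵁ ((V' : Scheme.{u}).basicOpen a)) :=
      ha.image_of_isOpenImmersion V'.ι
    have hEle : V'.ι ''ᵁ ((V' : Scheme.{u}).basicOpen a) ≤ g ⁻¹ᵁ V := by
      rintro _ ⟨y, hy, rfl⟩
      exact haO hy
    generalize V'.ι ''ᵁ ((V' : Scheme.{u}).basicOpen a) = E at heq hEaff hEle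
    haveI : IsAffine (E : Scheme.{u}) := hEaff
    haveI : IsAffine (V : Scheme.{u}) := hV
    haveI : Scheme.IsQuasiAffine (f ⁻¹ᵁ V : Scheme.{u}) := hf2 V hV
    let e : (E : Scheme.{u}) ⟶ (V : Scheme.{u}) := g.resLE V E hEle
    have he : e ≫ V.ι = E.ι ≫ g := Scheme.Hom.resLE_comp_ι _ _
    let i1 : (p ⁻¹ᵁ E : Scheme.{u}) ≅ pullback p E.ι := (pullbackRestrictIsoRestrict p E).symm
    let i2 : pullback p E.ι ≅ pullback f (E.ι ≫ g) := pullbackLeftPullbackSndIso f g E.ι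
    let i3 : pullback f (E.ι ≫ g) ≅ pullback f (e ≫ V.ι) := pullback.congrHom rfl he.symm
    let i4 : pullback f (e ≫ V.ι) ≅ pullback (pullback.snd f V.ι) e :=
      (pullbackLeftPullbackSndIso f V.ι e).symm
    let m : pullback (pullback.snd f V.ι) e ⟶ pullback f V.ι := pullback.fst _ _
    let i5 : pullback f V.ι ≅ (f ⁻¹ᵁ V : Scheme.{u}) := pullbackRestrictIsoRestrict f V
    haveI : IsAffineHom e := inferInstance
    haveI : IsAffineHom m := by
      show IsAffineHom (pullback.fst (pullback.snd f V.ι) e)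
      exact MorphismProperty.pullback_fst _ _ ‹IsAffineHom e›
    haveI : IsAffineHom (i1.hom ≫ i2.hom ≫ i3.hom ≫ i4.hom ≫ m ≫ i5.hom) := inferInstance
    haveI : Scheme.IsQuasiAffine (p ⁻¹ᵁ E : Scheme.{u}) :=
      Scheme.IsQuasiAffine.of_isAffineHom (i1.hom ≫ i2.hom ≫ i3.hom ≫ i4.hom ≫ m ≫ i5.hom)
    exact Scheme.IsQuasiAffine.of_isAffineHom
      (((p ⁻¹ᵁ V').ι.isoImage (f' ⁻¹ᵁ ((V' : Scheme.{u}).basicOpen a))).hom ≫ (Scheme.isoOfEq _ heq).hom)
  · rw [← Scheme.preimage_basicOpen_top]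
    exact hxa

end Groth.Agent.S2339
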