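import Groth.Statements.S2340
import Mathlib
import Groth.Agent.S2338

set_option autoImplicit false
universe u
open CategoryTheory CategoryTheory.Limits AlgebraicGeometry
open EGA2

namespace Groth.Agent.S2340

/-- Let f : X → Y and g : Y → Z be morphisms of schemes with g ∘ f quasi-affine and g quasi-separated.
Then f is quasi-affine. -/
theorem result {X Y Z : Scheme.{u}} (f : X ⟶ Y) (g : Y ⟶ Z) [QuasiSeparated g]
    (h : Mor2.IsQuasiAffine (f ≫ g)) : Mor2.IsQuasiAffine f := by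
  obtain ⟨h1, h2⟩ := h
  haveI := h1
  haveI hqc : QuasiCompact f := QuasiCompact.of_comp f g
  refine ⟨hqc, fun V' hV' => ?_⟩
  haveI : IsAffine (V' : Scheme.{u}) := hV'
  let f' : (f ⁻¹ᵁ V' : Scheme.{u}) ⟶ (V' : Scheme.{u}) := f ∣_ V'
  haveI : QuasiCompact f' := by
    show QuasiCompact (f ∣_ V')
    infer_instance
  haveI : CompactSpace (f ⁻¹ᵁ V' : Scheme.{u}) := QuasiCompact.compactSpace_of_compactSpace f'
  apply Groth.Agent.S2338.quasiAffine_of_cover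
  intro x
  obtain ⟨V, hV, hxV⟩ : ∃ V : Z.Opens, IsAffineOpen V ∧ g (V'.ι (f' x)) ∈ V := by
    obtain ⟨_, ⟨V, hV, rfl⟩, hxV, -⟩ := Z.isBasis_affineOpens.exists_subset_of_mem_open
      (Set.mem_univ (g (V'.ι (f' x)))) isOpen_univ
    exact ⟨V, hV, hxV⟩
  let O : (V' : Scheme.{u}).Opens := V'.ι ⁻¹ᵁ (g ⁻¹ᵁ V)
  obtain ⟨_, ⟨_, ⟨a, ha, rfl⟩, rfl⟩, hxa, haO⟩ :=
    (Scheme.IsQuasiAffine.isBasis_basicOpen (V' : Scheme.{u})).exists_subset_of_mem_open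
      (show f' x ∈ (O : Set _) from hxV) O.2
  refine ⟨f'.appTop a, ?_, ?_⟩
  · rw [← Scheme.preimage_basicOpen_top]
    have heq := image_morphismRestrict_preimage f V' ((V' : Scheme.{u}).basicOpen a)
    have hEaff : IsAffineOpen (V'.ι ''ᵁ ((V' : Scheme.{u}).basicOpen a)) :=
      ha.image_of_isOpenImmersion V'.ι
    have hEle : V'.ι ''ᵁ ((V' : Scheme.{u}).basicOpen a) ≤ g ⁻¹ᵁ V := by
      rintro _ ⟨y, hy, rfl⟩
      exact haO hy
    have hle : f ⁻¹ᵁ (V'.ι ''ᵁ ((V' : Scheme.{u}).basicOpen a)) ≤ (f ≫ g) ⁻¹ᵁ V := by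
      intro z hz
      have := hEle (show f z ∈ V'.ι ''ᵁ ((V' : Scheme.{u}).basicOpen a) from hz)
      simpa using this
    haveI : Scheme.IsQuasiAffine ((f ≫ g) ⁻¹ᵁ V : Scheme.{u}) := h2 V hV
    haveI : CompactSpace (f ⁻¹ᵁ (V'.ι ''ᵁ ((V' : Scheme.{u}).basicOpen a)) : Scheme.{u}) :=
      isCompact_iff_compactSpace.mp
        (hqc.isCompact_preimage _ (V'.ι ''ᵁ ((V' : Scheme.{u}).basicOpen a)).2 hEaff.isCompact)
    haveI : Scheme.IsQuasiAffine (f ⁻¹ᵁ (V'.ι ''ᵁ ((V' : Scheme.{u}).basicOpen a)) : Scheme.{u}) :=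
      Scheme.IsQuasiAffine.of_isImmersion (X.homOfLE hle)
    exact Scheme.IsQuasiAffine.of_isAffineHom
      (((f ⁻¹ᵁ V').ι.isoImage (f' ⁻¹ᵁ ((V' : Scheme.{u}).basicOpen a))).hom ≫ (X.isoOfEq heq).hom)
  · rw [← Scheme.preimage_basicOpen_top]
    exact hxa

end Groth.Agent.S2340
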