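import Groth.Statements.S2341
-- import your own Groth.Agent.* helpers here

set_option autoImplicit false
universe u
open CategoryTheory CategoryTheory.Limits AlgebraicGeometry
open EGA2

namespace Groth.Agent.S2341

/-- A quasi-compact morphism X → Y whose underlying map is a homeomorphism onto its image (for instance
a closed immersion) is quasi-affine. -/
theorem result {X Y : Scheme.{u}} (f : X ⟶ Y) [QuasiCompact f]
    (hf : Topology.IsEmbedding f.base) : Mor2.IsQuasiAffine f := by
  refine ⟨inferInstance, fun V hV => ?_⟩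
  haveI : IsAffine (V : Scheme.{u}) := hV
  have hc : CompactSpace ↥((f ⁻¹ᵁ V : X.Opens) : Scheme.{u}) :=
    isCompact_iff_compactSpace.mp (QuasiCompact.isCompact_preimage (f := f) _ V.2 hV.isCompact)
  have hg : Topology.IsEmbedding (f ∣_ V) := by
    rw [morphismRestrict_base]
    exact hf.restrictPreimage _
  apply Scheme.IsQuasiAffine.of_forall_exists_mem_basicOpen
  intro x
  obtain ⟨U, hU, hxU, -⟩ := exists_isAffineOpen_mem_and_subset (X := ((f ⁻¹ᵁ V : X.Opens) : Scheme.{u}))
    (x := x) (U := ⊤) trivial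
  obtain ⟨W, hW, hWU⟩ := hg.isInducing.isOpen_iff.mp U.2
  have hxW : (f ∣_ V) x ∈ W := by
    have : x ∈ (f ∣_ V) ⁻¹' W := by rw [hWU]; exact hxU
    exact this
  obtain ⟨_, ⟨_, ⟨b, rfl⟩, rfl⟩, hxb, hbW⟩ := (isBasis_basicOpen (V : Scheme.{u})).exists_subset_of_mem_open
    hxW hW
  refine ⟨(f ∣_ V).appTop b, ?_, ?_⟩
  · have hle : ((f ⁻¹ᵁ V : X.Opens) : Scheme.{u}).basicOpen ((f ∣_ V).appTop b) ≤ U := by
      rw [← Scheme.preimage_basicOpen_top]
      intro y hy
      have : y ∈ (f ∣_ V) ⁻¹' W := hbW hy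
      rw [hWU] at this
      exact this
    have h1 := hU.basicOpen (((f ⁻¹ᵁ V : X.Opens) : Scheme.{u}).presheaf.map (homOfLE le_top).op
      ((f ∣_ V).appTop b))
    rw [Scheme.basicOpen_res, inf_eq_right.mpr hle] at h1
    exact h1
  · rw [← Scheme.preimage_basicOpen_top]
    exact hxb

end Groth.Agent.S2341
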