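import Groth.Statements.S2461
import Mathlib

set_option autoImplicit false
universe u
open EGA41

namespace Groth.Agent.S2461

/-- Let A carry the 𝔞-adic topology and let B be a Noetherian A-algebra with the 𝔟-adic topology. Then B
is formally smooth over A if and only if the 𝔟-adic completion of B, with the adic topology of the
extended ideal, is formally smooth over A. -/
theorem result {A B : Type u} [CommRing A] (𝔞 : Ideal A) [CommRing B] [IsNoetherianRing B] [Algebra A B] (𝔟 : Ideal B) :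
    EGA41.IsFormallySmoothAdic A 𝔞 B 𝔟 ↔
      EGA41.IsFormallySmoothAdic A 𝔞 (AdicCompletion 𝔟 B) (𝔟.map (algebraMap B (AdicCompletion 𝔟 B))) := by
  classical
  have hfg : 𝔟.FG := IsNoetherian.noetherian 𝔟
  let Bh := AdicCompletion 𝔟 B
  let ι : B →+* Bh := algebraMap B Bh
  have hι : ∀ b, ι b = AdicCompletion.of 𝔟 B b := fun b => rfl
  let ιA : B →ₐ[A] Bh := IsScalarTower.toAlgHom A B Bh
  have hιA : ∀ b, ιA b = ι b := fun b => rfl
  have hpow : ∀ m, (𝔟.map ι) ^ m = (𝔟 ^ m).map ι := fun m => (Ideal.map_pow ι 𝔟 m).symm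
  have K2 : ∀ m (z : Bh), z ∈ (𝔟.map ι) ^ m → AdicCompletion.evalₐ 𝔟 m z = 0 := by
    intro m z hz
    rw [hpow] at hz
    have hle : (𝔟 ^ m).map ι ≤ RingHom.ker (AdicCompletion.evalₐ 𝔟 m).toRingHom := by
      rw [Ideal.map_le_iff_le_comap]
      intro b hb
      rw [Ideal.mem_comap, RingHom.mem_ker]
      change AdicCompletion.evalₐ 𝔟 m (AdicCompletion.of 𝔟 B b) = 0
      rw [AdicCompletion.evalₐ_of, Ideal.Quotient.eq_zero_iff_mem]
      exact hb
    exact hle hz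
  have K1 : ∀ m (z : Bh), AdicCompletion.evalₐ 𝔟 m z = 0 → z ∈ (𝔟.map ι) ^ m := by
    intro m z hz
    have h1 : AdicCompletion.eval 𝔟 B m z = 0 := by
      have hle : 𝔟 ^ m ≤ (𝔟 ^ m • ⊤ : Ideal B) := by
        rw [smul_eq_mul, Ideal.mul_top]
      rw [← AdicCompletion.factor_evalₐ_eq_eval 𝔟 z hle, hz, map_zero]
    have h2 : z ∈ (𝔟 ^ m • ⊤ : Submodule B Bh) := by
      rw [AdicCompletion.pow_smul_top_eq_ker_eval hfg]; exact h1
    rw [Ideal.smul_top_eq_map] at h2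
    rw [hpow]
    exact h2
  constructor
  · intro H C _ _ J hJ hk u hu
    obtain ⟨k, hu⟩ := hu
    obtain ⟨N, hN⟩ := hJ
    let u₀ : B →ₐ[A] C ⧸ J := u.comp ιA
    have hu₀ : ∀ x ∈ 𝔟 ^ k, u₀ x = 0 := by
      intro x hx
      apply hu
      rw [hpow]
      exact Ideal.mem_map_of_mem ι hx
    obtain ⟨v₀, hv₀⟩ := H C J ⟨N, hN⟩ hk u₀ ⟨k, hu₀⟩
    have hv₀' : ∀ b, Ideal.Quotient.mk J (v₀ b) = u₀ b := fun b => AlgHom.congr_fun hv₀ b
    have hvJ : (𝔟 ^ k).map v₀.toRingHom ≤ J := by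
      rw [Ideal.map_le_iff_le_comap]
      intro y hy
      rw [Ideal.mem_comap, ← Ideal.Quotient.eq_zero_iff_mem]
      change Ideal.Quotient.mk J (v₀ y) = 0
      rw [hv₀', hu₀ y hy]
    let m := k * N + k
    have hvm : ∀ x ∈ 𝔟 ^ m, v₀ x = 0 := by
      intro x hx
      have h1 : x ∈ (𝔟 ^ k) ^ N := by
        rw [← pow_mul]
        exact Ideal.pow_le_pow_right (Nat.le_add_right _ _) hx
      have h2 : v₀.toRingHom x ∈ ((𝔟 ^ k) ^ N).map v₀.toRingHom := Ideal.mem_map_of_mem _ h1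
      rw [Ideal.map_pow] at h2
      have h3 := Ideal.pow_right_mono hvJ N h2
      rw [hN] at h3
      exact h3
    let vb : B ⧸ 𝔟 ^ m →ₐ[A] C := Ideal.Quotient.liftₐ (𝔟 ^ m) v₀ hvm
    let v : Bh →ₐ[A] C := vb.comp ((AdicCompletion.evalₐ 𝔟 m).restrictScalars A)
    refine ⟨v, ?_⟩
    apply AlgHom.ext
    intro y
    obtain ⟨b, hb⟩ := Ideal.Quotient.mk_surjective (AdicCompletion.evalₐ 𝔟 m y)
    have hz : y - ι b ∈ (𝔟.map ι) ^ m := by
      apply K1
      rw [map_sub, hι, AdicCompletion.evalₐ_of, hb, sub_self]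
    have hz' : u (y - ι b) = 0 := hu _ (Ideal.pow_le_pow_right (Nat.le_add_left _ _) hz)
    have huy : u y = u₀ b := by
      rw [map_sub, sub_eq_zero] at hz'
      rw [hz']; rfl
    have hvy : v y = v₀ b := by
      change vb (AdicCompletion.evalₐ 𝔟 m y) = _
      rw [← hb]
      rfl
    change Ideal.Quotient.mk J (v y) = u y
    rw [hvy, huy, hv₀']
  · intro H C _ _ J hJ hk u hu
    obtain ⟨k, hu⟩ := hu
    let ub : B ⧸ 𝔟 ^ k →ₐ[A] C ⧸ J := Ideal.Quotient.liftₐ (𝔟 ^ k) u hu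
    let uh : Bh →ₐ[A] C ⧸ J := ub.comp ((AdicCompletion.evalₐ 𝔟 k).restrictScalars A)
    have huh : ∀ x ∈ (𝔟.map ι) ^ k, uh x = 0 := by
      intro x hx
      change ub (AdicCompletion.evalₐ 𝔟 k x) = 0
      rw [K2 k x hx, map_zero]
    obtain ⟨vh, hvh⟩ := H C J hJ hk uh ⟨k, huh⟩
    refine ⟨vh.comp ιA, ?_⟩
    apply AlgHom.ext
    intro b
    have h1 : Ideal.Quotient.mk J (vh (ιA b)) = uh (ιA b) := AlgHom.congr_fun hvh (ιA b)
    change Ideal.Quotient.mk J (vh (ιA b)) = u b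
    rw [h1]
    change ub (AdicCompletion.evalₐ 𝔟 k (AdicCompletion.of 𝔟 B b)) = u b
    rw [AdicCompletion.evalₐ_of]
    rfl

end Groth.Agent.S2461
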