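import Groth.Statements.S2464
import Groth.Agent.Lib.helper2.PBasisA

set_option autoImplicit false
universe u
open EGA41

namespace Groth.Agent.S2464

/-- Let p be a prime, B a ring of characteristic p and A → B an injective ring map whose image contains
every p-th power, and (x_α) a p-basis of B over A. Let E be an A-algebra and q : E → B a surjective
A-algebra homomorphism whose kernel K has K^p = 0. (i) q admits an A-algebra right inverse if and
only if, for all z ∈ E and a ∈ A with a ↦ q(z)^p in B, the image of a in E is z^p. (ii) When this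
holds, for every family (z_α) in E with q(z_α) = x_α there is a unique A-algebra homomorphism v : B
→ E with v(x_α) = z_α for all α, and q ∘ v is the identity. -/
theorem result (p : ℕ) [Fact p.Prime] {A B : Type u} [CommRing A] [CommRing B] [Algebra A B] [CharP B p]
    (hinj : Function.Injective (algebraMap A B)) (hpow : ∀ b : B, b ^ p ∈ Set.range (algebraMap A B))
    {ι : Type u} (x : ι → B) (hx : EGA41.IsPBasis p A x)
    {E : Type u} [CommRing E] [Algebra A E] (q : E →ₐ[A] B) (hq : Function.Surjective q) (hK : RingHom.ker q.toRingHom ^ p = ⊥) :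
    ((∃ v : B →ₐ[A] E, q.comp v = AlgHom.id A B) ↔ ∀ (z : E) (a : A), algebraMap A B a = q z ^ p → algebraMap A E a = z ^ p) ∧
    ((∀ (z : E) (a : A), algebraMap A B a = q z ^ p → algebraMap A E a = z ^ p) →
      ∀ z : ι → E, (∀ i, q (z i) = x i) →
        (∃! v : B →ₐ[A] E, ∀ i, v (x i) = z i) ∧ ∀ v : B →ₐ[A] E, (∀ i, v (x i) = z i) → q.comp v = AlgHom.id A B) := by
  classical
  have hp : p.Prime := Fact.out
  haveI : Nontrivial B := by
    by_contra hnt
    rw [not_nontrivial_iff_subsingleton] at hnt
    have h1 : ((1 : ℕ) : B) = 0 := Subsingleton.elim _ _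
    have h2 := (CharP.cast_eq_zero_iff B p 1).mp h1
    exact hp.one_lt.ne' (Nat.dvd_one.mp h2)
  haveI : Nontrivial E := q.toRingHom.domain_nontrivial
  have hpA : (p : A) = 0 := by
    apply hinj
    rw [map_natCast, map_zero]
    exact CharP.cast_eq_zero B p
  have hpE : (p : E) = 0 := by
    have h1 := congrArg (algebraMap A E) hpA
    rwa [map_natCast, map_zero] at h1
  haveI : CharP E p := (CharP.charP_iff_prime_eq_zero hp).mpr hpE
  have hii : (∀ (z : E) (a : A), algebraMap A B a = q z ^ p → algebraMap A E a = z ^ p) →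
      ∀ z : ι → E, (∀ i, q (z i) = x i) →
        (∃! v : B →ₐ[A] E, ∀ i, v (x i) = z i) ∧
          ∀ v : B →ₐ[A] E, (∀ i, v (x i) = z i) → q.comp v = AlgHom.id A B := by
    intro hcond z hz
    have hz' : ∀ i a, algebraMap A B a = x i ^ p → z i ^ p = algebraMap A E a := by
      intro i a ha
      refine (hcond (z i) a ?_).symm
      rw [hz i]
      exact ha
    obtain ⟨v, hv⟩ := h2_pbasis_liftA p hinj hpow x hx z hz'
    refine ⟨⟨v, hv, fun w hw => ?_⟩, fun w hw => ?_⟩
    · exact h2_pbasis_extA p x hx.2 hpow w v (fun i => by rw [hw, hv])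
    · refine h2_pbasis_extA p x hx.2 hpow _ _ (fun i => ?_)
      show q (w (x i)) = x i
      rw [hw, hz]
  refine ⟨⟨?_, ?_⟩, hii⟩
  · rintro ⟨v, hv⟩ z a ha
    have hqv : ∀ b, q (v b) = b := fun b => DFunLike.congr_fun hv b
    have hmem : z - v (q z) ∈ RingHom.ker q.toRingHom := by
      show q (z - v (q z)) = 0
      rw [map_sub, hqv, sub_self]
    have h0 : (z - v (q z)) ^ p = 0 := by
      have h1 := Ideal.pow_mem_pow hmem p
      rw [hK] at h1
      exact h1
    rw [sub_pow_char, sub_eq_zero] at h0
    rw [h0, ← map_pow, ← ha, v.commutes]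
  · intro hcond
    choose z hz using fun i => hq (x i)
    obtain ⟨⟨v, hv, -⟩, h2⟩ := hii hcond z hz
    exact ⟨v, h2 v hv⟩

end Groth.Agent.S2464
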