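import Groth.Statements.S2467
import Groth.Agent.Lib.helper2.PField

set_option autoImplicit false
universe u
open EGA41

namespace Groth.Agent.S2467

/-- Let k ⊆ K be fields of characteristic p > 0, S ⊆ K a system of p-generators of K over k and L ⊆ S a
subset which is p-free over k. Then there is a p-basis B of K over k with L ⊆ B ⊆ S. In particular
every extension of k has a p-basis over k. -/
theorem result (p : ℕ) [Fact p.Prime] {k K : Type u} [Field k] [Field K] [Algebra k K] [CharP K p]
    (S L : Set K) (hLS : L ⊆ S) (hS : EGA41.IsPGenerating p k (Subtype.val : S → K)) (hL : EGA41.IsPIndependent p k (Subtype.val : L → K)) :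
    ∃ B : Set K, L ⊆ B ∧ B ⊆ S ∧ EGA41.IsPBasis p k (Subtype.val : B → K) := by
  classical
  have hp : p.Prime := Fact.out
  have hCf := h2_ppow_isField p (k := k) (K := K)
  have hpowC : ∀ b : K, b ^ p ∈ Set.range (algebraMap (EGA41.pPowerSubalgebra p k K) K) :=
    fun b => ⟨⟨b ^ p, h2_ppow_mem p b⟩, rfl⟩
  have hL' : h2PInd p (EGA41.pPowerSubalgebra p k K) L := by
    have h1 := (h2_pind_iff_range p hp.pos (Subtype.val : L → K) Subtype.val_injective).mp hL
    rwa [Subtype.range_val] at h1
  obtain ⟨B, hLB, hBS, hB, hSB⟩ := h2_pind_exists_max p hCf hpowC S L hLS hL'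
  refine ⟨B, hLB, hBS, ?_, ?_⟩
  · have h1 : h2PInd p (EGA41.pPowerSubalgebra p k K) (Set.range (Subtype.val : B → K)) := by
      rw [Subtype.range_val]
      exact hB
    exact (h2_pind_iff_range p hp.pos (Subtype.val : B → K) Subtype.val_injective).mpr h1
  · rw [← h2_pgen_iff_adjoin, Subtype.range_val]
    have h1 : Algebra.adjoin (EGA41.pPowerSubalgebra p k K) S = ⊤ := by
      have h2 := (h2_pgen_iff_adjoin p (Subtype.val : S → K)).mpr hS
      rwa [Subtype.range_val] at h2
    rw [eq_top_iff, ← h1]
    exact Algebra.adjoin_le hSB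

end Groth.Agent.S2467
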