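import Groth.Statements.S2475
import Groth.Agent.Lib.helper2.PDesc
import Groth.Agent.S2468

set_option autoImplicit false
universe u
open EGA41

namespace Groth.Agent.S2475

/-- Let K be a field of characteristic p > 0, k₀ ⊆ K a subfield and (k_α) a decreasing filtered family
of subfields of K containing k₀. Then ⋂_α k_α(K^p) = k₀(K^p) if and only if the canonical map
Ω_{K/k₀} → lim_α Ω_{K/k_α} is injective (an element of Ω_{K/k₀} whose image in every Ω_{K/k_α}
vanishes is zero). (Conditions (b), (b') of the source, on admissible subfields, are not stated.) -/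
theorem result (p : ℕ) [Fact p.Prime] {k₀ K : Type u} [Field k₀] [Field K] [Algebra k₀ K] [CharP K p]
    {ι : Type u} [Preorder ι] [IsDirected ι (· ≤ ·)] [Nonempty ι] (k : ι → IntermediateField k₀ K) (hk : Antitone k) :
    (⨅ i, k i ⊔ IntermediateField.adjoin k₀ (Set.range fun y : K => y ^ p)) = IntermediateField.adjoin k₀ (Set.range fun y : K => y ^ p) ↔
      ∀ ω : Ω[K⁄k₀], (∀ i, KaehlerDifferential.map k₀ (k i) K K ω = 0) → ω = 0 := by
  classical
  have hp : p.Prime := Fact.out
  have hCf := h2_ppow_isField p (k := k₀) (K := K)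
  have hpowC : ∀ b : K, b ^ p ∈ Set.range (algebraMap (EGA41.pPowerSubalgebra p k₀ K) K) :=
    fun b => ⟨⟨b ^ p, h2_ppow_mem p b⟩, rfl⟩
  have hempty : h2PInd p (EGA41.pPowerSubalgebra p k₀ K) (∅ : Set K) :=
    h2_pind_empty p hp.pos Subtype.val_injective
  constructor
  · -- (⇒)
    intro hinf ω hω
    obtain ⟨B, -, -, hB, hgen⟩ := h2_pind_exists_max p hCf hpowC Set.univ ∅
      (Set.empty_subset _) hempty
    obtain ⟨bΩ, hbΩ⟩ := Groth.Agent.S2466.result p (Subtype.val : B → K)
      (h2_pbasis_of_pind_gen p B hB hgen)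
    let F : Finset ↥B := (bΩ.repr ω).support
    let F' : Set K := (fun β : ↥B => (β : K)) '' (F : Set ↥B)
    have hF'fin : F'.Finite := (Finset.finite_toSet F).image _
    have hF'B : F' ⊆ B := by
      rintro _ ⟨β, _, rfl⟩
      exact β.2
    have hF'ind : h2PInd p (EGA41.pPowerSubalgebra p k₀ K) F' :=
      LinearIndepOn.mono hB (fun e he => Set.Subset.trans he hF'B)
    haveI := h2_jt_finite p F' hF'fin
    let E : ι → IntermediateField k₀ K := fun i =>
      k i ⊔ IntermediateField.adjoin k₀ (Set.range fun y : K => y ^ p)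
    have hE : Antitone E := fun i j hij => sup_le_sup_right (hk hij) _
    have h1 : LinearIndependent ↥(⨅ i, E i) (fun e : ↥(h2JT p F') => h2Mon p e.1) := by
      refine h2_linIndep_transfer (R₂ := EGA41.pPowerSubalgebra p k₀ K) Subtype.val_injective
        ?_ _ hF'ind
      rintro _ ⟨c, rfl⟩
      have hc : (c : K) ∈ IntermediateField.adjoin k₀ (Set.range fun y : K => y ^ p) := by
        rw [← hinf]
        exact c.2
      have hc' : (c : K) ∈ (EGA41.pPowerSubalgebra p k₀ K : Set K) := by
        rw [h2_ppow_carrier₀]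
        exact hc
      exact ⟨⟨c, hc'⟩, rfl⟩
    obtain ⟨i, hi⟩ := h2_linIndep_descend' E hE _ h1
    have h2 : h2PInd p (EGA41.pPowerSubalgebra p ↥(k i) K) F' := by
      refine h2_linIndep_transfer (R₂ := ↥(E i)) Subtype.val_injective ?_ _ hi
      rintro _ ⟨c, rfl⟩
      have hc : (c : K) ∈ ((k i ⊔ IntermediateField.adjoin k₀ (Set.range fun y : K => y ^ p) :
          IntermediateField k₀ K) : Set K) := by
        rw [← h2_ppow_carrier p (k i)]
        exact c.2
      exact ⟨⟨c, hc⟩, rfl⟩
    have hCfi := h2_ppow_isField p (k := ↥(k i)) (K := K)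
    have hpowCi : ∀ b : K,
        b ^ p ∈ Set.range (algebraMap (EGA41.pPowerSubalgebra p ↥(k i) K) K) :=
      fun b => ⟨⟨b ^ p, h2_ppow_mem p b⟩, rfl⟩
    obtain ⟨Bi, hF'Bi, -, hBi, hgeni⟩ := h2_pind_exists_max p hCfi hpowCi Set.univ F'
      (Set.subset_univ _) h2
    have hli := h2_pbasis_kaehler_li p (k₀ := ↥(k i)) Bi hBi hgeni
    have hsum : ω = ∑ β ∈ F, bΩ.repr ω β • bΩ β :=
      (bΩ.linearCombination_repr ω).symm.trans (by
        rw [Finsupp.linearCombination_apply]
        rfl)
    have hωi := hω i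
    rw [hsum, map_sum] at hωi
    have hterm : ∀ β : ↥B, KaehlerDifferential.map k₀ (k i) K K (bΩ β) =
        KaehlerDifferential.D (k i) K (β : K) := by
      intro β
      rw [hbΩ, KaehlerDifferential.map_D]
      rfl
    have hliF : LinearIndependent K
        (fun β : ↥F => KaehlerDifferential.D (k i) K ((β : ↥B) : K)) :=
      hli.comp (fun β : ↥F => (⟨((β : ↥B) : K), hF'Bi ⟨β.1, β.2, rfl⟩⟩ : Bi))
        (fun β β' h => by
          have h' : ((β : ↥B) : K) = ((β' : ↥B) : K) := congrArg (fun z : Bi => (z : K)) h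
          exact Subtype.ext (Subtype.ext h'))
    have hzero : ∀ β : ↥F, bΩ.repr ω β = 0 := by
      refine Fintype.linearIndependent_iff.mp hliF (fun β => bΩ.repr ω β) ?_
      rw [← hωi, ← Finset.sum_coe_sort F]
      refine Finset.sum_congr rfl (fun β _ => ?_)
      rw [map_smul, hterm]
    have hrepr : bΩ.repr ω = 0 := by
      ext β
      by_cases hβ : β ∈ F
      · exact hzero ⟨β, hβ⟩
      · exact Finsupp.notMem_support_iff.mp hβ
    exact bΩ.repr.map_eq_zero_iff.mp hrepr
  · -- (⇐)
    intro hinj
    apply le_antisymm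
    · intro y hy
      have hyi : ∀ i, y ∈ k i ⊔ IntermediateField.adjoin k₀ (Set.range fun y : K => y ^ p) :=
        fun i => (iInf_le (fun i => k i ⊔
          IntermediateField.adjoin k₀ (Set.range fun y : K => y ^ p)) i) hy
      have hD : KaehlerDifferential.D k₀ K y = 0 := by
        apply hinj
        intro i
        rw [KaehlerDifferential.map_D]
        have hyC : y ∈ (EGA41.pPowerSubalgebra p ↥(k i) K : Set K) := by
          rw [h2_ppow_carrier p (k i)]
          exact hyi i
        have h1 := h2_adjoin_kaehler_mem p (A := ↥(k i)) (∅ : Set K) y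
          (Subalgebra.algebraMap_mem _ (⟨y, hyC⟩ : EGA41.pPowerSubalgebra p ↥(k i) K))
        rw [Set.image_empty, Submodule.span_empty, Submodule.mem_bot] at h1
        exact h1
      by_contra hyP
      have hyC₀ : y ∉ Algebra.adjoin (EGA41.pPowerSubalgebra p k₀ K) (∅ : Set K) := by
        rw [Algebra.adjoin_empty, Algebra.mem_bot]
        rintro ⟨c, rfl⟩
        apply hyP
        have h1 : (c : K) ∈ (EGA41.pPowerSubalgebra p k₀ K : Set K) := c.2
        rw [h2_ppow_carrier₀] at h1
        exact h1
      have hind := h2_pind_insert p hCf hpowC ∅ hempty y hyC₀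
      let x : PUnit.{u+1} → K := fun _ => y
      have hxinj : Function.Injective x := fun a b _ => Subsingleton.elim a b
      have hrange : Set.range x = insert y ∅ := by
        ext z
        simp [x, eq_comm]
      have hxind : EGA41.IsPIndependent p k₀ x :=
        (h2_pind_iff_range p hp.pos x hxinj).mpr (by rw [hrange]; exact hind)
      have hli := (Groth.Agent.S2468.result p x).1.mp hxind
      exact hli.ne_zero PUnit.unit hD
    · exact le_iInf (fun i => le_sup_right)

end Groth.Agent.S2475
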