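import Groth.Statements.S2483
import Groth.Agent.Lib.helper2.PSmooth

set_option autoImplicit false
universe u
open EGA41

namespace Groth.Agent.S2483

open IsLocalRing in
/-- Let C be a complete Noetherian local ring with maximal ideal 𝔍 ≠ 0 and residue field K, and u : K →
C a ring homomorphism which is a section of the residue map. Then u is the only such section if and
only if Ω_{K/ℤ} = 0. -/
theorem result {C : Type u} [CommRing C] [IsLocalRing C] [IsNoetherianRing C] [IsAdicComplete (maximalIdeal C) C]
    (hm : maximalIdeal C ≠ ⊥) (u : ResidueField C →+* C) (hu : ∀ x, residue C (u x) = x) :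
    (∀ v : ResidueField C →+* C, (∀ x, residue C (v x) = x) → v = u) ↔ Subsingleton (Ω[ResidueField C⁄ℤ]) := by
  classical
  have hres : ∀ c : C, residue C c = 0 ↔ c ∈ (maximalIdeal C) := fun c => Ideal.Quotient.eq_zero_iff_mem
  constructor
  · -- uniqueness ⇒ Ω = 0
    intro huniq
    by_contra hns
    rw [not_subsingleton_iff_nontrivial] at hns
    obtain ⟨ω, hω⟩ := exists_ne (0 : Ω[ResidueField C⁄ℤ])
    have hℓ : ∃ ℓ : Module.Dual (ResidueField C) (Ω[ResidueField C⁄ℤ]), ℓ ω ≠ 0 := by
      by_contra h
      push Not at h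
      exact hω ((Module.forall_dual_apply_eq_zero_iff (ResidueField C) ω).mp h)
    obtain ⟨ℓ, hℓω⟩ := hℓ
    let D₀ : ResidueField C → ResidueField C := fun x => ℓ (KaehlerDifferential.D ℤ (ResidueField C) x)
    have hD1 : D₀ 1 = 0 := by
      show ℓ (KaehlerDifferential.D ℤ (ResidueField C) 1) = 0
      rw [(KaehlerDifferential.D ℤ (ResidueField C)).map_one_eq_zero, map_zero]
    have hD0 : D₀ 0 = 0 := by
      show ℓ (KaehlerDifferential.D ℤ (ResidueField C) 0) = 0
      rw [map_zero, map_zero]
    have hDadd : ∀ x y, D₀ (x + y) = D₀ x + D₀ y := by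
      intro x y
      show ℓ (KaehlerDifferential.D ℤ (ResidueField C) (x + y)) = _
      rw [map_add, map_add]
    have hDmul : ∀ x y, D₀ (x * y) = x * D₀ y + y * D₀ x := by
      intro x y
      show ℓ (KaehlerDifferential.D ℤ (ResidueField C) (x * y)) = _
      rw [(KaehlerDifferential.D ℤ (ResidueField C)).leibniz, map_add, map_smul, map_smul]
      rfl
    have hx₀ : ∃ x₀, D₀ x₀ ≠ 0 := by
      by_contra h
      push Not at h
      have hℓ0 : ℓ = 0 := by
        refine LinearMap.ext_on (KaehlerDifferential.span_range_derivation ℤ (ResidueField C)) ?_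
        rintro _ ⟨x, rfl⟩
        exact h x
      exact hℓω (by rw [hℓ0]; rfl)
    obtain ⟨x₀, hx₀⟩ := hx₀
    -- t ∈ (maximalIdeal C) \ (maximalIdeal C)²
    have ht : ∃ t ∈ (maximalIdeal C), t ∉ (maximalIdeal C) ^ 2 := by
      by_contra h
      push Not at h
      have hle : (maximalIdeal C) ≤ (maximalIdeal C) • (maximalIdeal C) := by
        intro t ht
        have := h t ht
        rwa [sq] at this
      exact hm (Submodule.eq_bot_of_le_smul_of_le_jacobson_bot (maximalIdeal C) (maximalIdeal C) (IsNoetherian.noetherian (maximalIdeal C)) hle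
        (IsLocalRing.maximalIdeal_le_jacobson _))
    obtain ⟨t, htm, ht2⟩ := ht
    haveI : IsAdicComplete ((maximalIdeal C) ^ 2) C := h2_isAdicComplete_pow (maximalIdeal C) 2 (by norm_num)
    have ht2' : t ^ 2 ∈ (maximalIdeal C) ^ 2 := Ideal.pow_mem_pow htm 2
    let v₂ : ResidueField C →+* C ⧸ (maximalIdeal C) ^ 2 :=
      { toFun := fun x => Ideal.Quotient.mk ((maximalIdeal C) ^ 2) (u x + t * u (D₀ x))
        map_one' := by
          rw [hD1, map_zero, mul_zero, add_zero, map_one, map_one]
        map_mul' := fun x y => by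
          rw [← map_mul, Ideal.Quotient.eq]
          rw [hDmul, map_add, map_mul, map_mul, map_mul]
          have h2 : u x * u y + t * (u x * u (D₀ y) + u y * u (D₀ x)) -
              (u x + t * u (D₀ x)) * (u y + t * u (D₀ y)) =
              - (t ^ 2 * (u (D₀ x) * u (D₀ y))) := by ring
          rw [h2]
          exact neg_mem (Ideal.mul_mem_right _ _ ht2')
        map_zero' := by
          rw [hD0, map_zero, mul_zero, add_zero, map_zero]
        map_add' := fun x y => by
          show Ideal.Quotient.mk (maximalIdeal C ^ 2) (u (x + y) + t * u (D₀ (x + y))) =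
            Ideal.Quotient.mk (maximalIdeal C ^ 2) (u x + t * u (D₀ x)) +
            Ideal.Quotient.mk (maximalIdeal C ^ 2) (u y + t * u (D₀ y))
          rw [← RingHom.map_add]
          congr 1
          rw [hDadd, RingHom.map_add u, RingHom.map_add u]
          ring }
    obtain ⟨g, hg⟩ := h2_field_lift_complete u ((maximalIdeal C) ^ 2) v₂
    have hg' : ∀ x, g x - (u x + t * u (D₀ x)) ∈ (maximalIdeal C) ^ 2 := fun x =>
      Ideal.Quotient.eq.mp (hg x)
    have h2le : (maximalIdeal C) ^ 2 ≤ (maximalIdeal C) := Ideal.pow_le_self (by norm_num)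
    have hgres : ∀ x, residue C (g x) = x := by
      intro x
      have h1 : g x - u x ∈ (maximalIdeal C) := by
        have h2 : g x - u x = (g x - (u x + t * u (D₀ x))) + t * u (D₀ x) := by ring
        rw [h2]
        exact add_mem (h2le (hg' x)) (Ideal.mul_mem_right _ _ htm)
      have h3 : residue C (g x - u x) = 0 := (hres _).mpr h1
      rw [map_sub, sub_eq_zero, hu] at h3
      exact h3
    have hgu : g = u := huniq g hgres
    have h4 := hg' x₀
    rw [hgu] at h4
    have h5 : t * u (D₀ x₀) ∈ (maximalIdeal C) ^ 2 := by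
      have h6 : t * u (D₀ x₀) = -(u x₀ - (u x₀ + t * u (D₀ x₀))) := by ring
      rw [h6]
      exact neg_mem h4
    have hunit : IsUnit (u (D₀ x₀)) := by
      by_contra hnu
      have h7 : u (D₀ x₀) ∈ (maximalIdeal C) := (IsLocalRing.mem_maximalIdeal _).mpr hnu
      have h8 := (hres _).mpr h7
      rw [hu] at h8
      exact hx₀ h8
    exact ht2 ((Ideal.mul_unit_mem_iff_mem _ hunit).mp h5)
  · -- Ω = 0 ⇒ uniqueness
    intro hΩ v hv
    have inst : Algebra.FormallyUnramified ℤ (ResidueField C) := ⟨hΩ⟩
    have hinf : ⨅ i, (maximalIdeal C) ^ i = ⊥ := Ideal.iInf_pow_eq_bot_of_isLocalRing _ (Ideal.IsMaximal.ne_top inferInstance)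
    have h := @Algebra.FormallyUnramified.ext_of_iInf ℤ _ (ResidueField C) _ _ C _ _ (maximalIdeal C)
      inst hinf (v.toIntAlgHom) (u.toIntAlgHom) (fun x => by
        show residue C (v x) = residue C (u x)
        rw [hv, hu])
    ext x
    exact congrArg (fun w : ResidueField C →ₐ[ℤ] C => w x) h

end Groth.Agent.S2483
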