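import Groth.Statements.S2485
import Groth.Agent.Lib.helper2.UnramPI

set_option autoImplicit false
universe u
open EGA41

namespace Groth.Agent.S2485

/-- Let p be a prime and A → B a ring homomorphism making B an A-algebra of finite type, with B of
characteristic p, such that for some s ≥ 0 every p^s-th power of an element of B lies in the image
of A. If Ω_{B/A} = 0 then A → B is surjective. -/
theorem result (p : ℕ) [Fact p.Prime] {A B : Type u} [CommRing A] [CommRing B] [Algebra A B] [CharP B p]
    [Algebra.FiniteType A B] (s : ℕ) (hpow : ∀ b : B, b ^ p ^ s ∈ Set.range (algebraMap A B)) [Subsingleton (Ω[B⁄A])] :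
    Function.Surjective (algebraMap A B) := by
  classical
  have hp : p.Prime := Fact.out
  haveI : Algebra.FormallyUnramified A B := ⟨inferInstance⟩
  haveI : Algebra.IsIntegral A B := ⟨fun b => by
    obtain ⟨a, ha⟩ := hpow b
    refine ⟨Polynomial.X ^ (p ^ s) - Polynomial.C a,
      Polynomial.monic_X_pow_sub_C a (pow_pos hp.pos s).ne', ?_⟩
    simp [ha]⟩
  haveI : Module.Finite A B := Algebra.IsIntegral.finite
  let N : Submodule A B := LinearMap.range (Algebra.linearMap A B)
  suffices hN : N = ⊤ by
    intro b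
    have hb : b ∈ N := by rw [hN]; trivial
    obtain ⟨a, ha⟩ := hb
    exact ⟨a, ha⟩
  by_contra hne
  have hcol : N.colon (Set.univ : Set B) ≠ ⊤ := by
    intro h
    apply hne
    rw [eq_top_iff]
    intro b _
    have h1 : (1 : A) ∈ N.colon (Set.univ : Set B) := by rw [h]; trivial
    have h2 := Submodule.mem_colon.mp h1 b trivial
    rwa [one_smul] at h2
  obtain ⟨m, hm, hle⟩ := Ideal.exists_le_maximal _ hcol
  letI : Field (A ⧸ m) := Ideal.Quotient.field m
  have hsurj : Function.Surjective (algebraMap (A ⧸ m) (B ⧸ m.map (algebraMap A B))) := by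
    rcases subsingleton_or_nontrivial (B ⧸ m.map (algebraMap A B)) with hT | hT
    · intro t
      exact ⟨0, Subsingleton.elim _ _⟩
    have hpT : (p : B ⧸ m.map (algebraMap A B)) = 0 := by
      have h1 : (p : B ⧸ m.map (algebraMap A B)) =
          Ideal.Quotient.mk (m.map (algebraMap A B)) (p : B) := (map_natCast _ p).symm
      rw [h1, CharP.cast_eq_zero, map_zero]
    have hpk : (p : A ⧸ m) = 0 := by
      apply (algebraMap (A ⧸ m) (B ⧸ m.map (algebraMap A B))).injective
      rw [map_natCast, map_zero, hpT]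
    haveI : CharP (A ⧸ m) p := (CharP.charP_iff_prime_eq_zero hp).mpr hpk
    haveI : ExpChar (A ⧸ m) p := ExpChar.prime hp
    refine h2_unram_purelyInsep_surj p (fun t => ?_)
    obtain ⟨b, rfl⟩ := Ideal.Quotient.mk_surjective t
    obtain ⟨a, ha⟩ := hpow b
    refine ⟨s, Ideal.Quotient.mk m a, ?_⟩
    rw [← map_pow, ← ha]
    rfl
  have hsup : (⊤ : Submodule A B) ≤ N ⊔ m • (⊤ : Submodule A B) := by
    intro b _
    obtain ⟨a', ha⟩ := hsurj (Ideal.Quotient.mk _ b)
    obtain ⟨a, rfl⟩ := Ideal.Quotient.mk_surjective a'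
    have h1 : Ideal.Quotient.mk (m.map (algebraMap A B)) (algebraMap A B a) =
        Ideal.Quotient.mk _ b := ha
    rw [Ideal.Quotient.eq] at h1
    have h2 : algebraMap A B a - b ∈ (m • ⊤ : Submodule A B) := by
      rw [Ideal.smul_top_eq_map]
      exact h1
    have h3 : b = algebraMap A B a - (algebraMap A B a - b) := by ring
    rw [h3]
    exact Submodule.sub_mem _ (Submodule.mem_sup_left ⟨a, rfl⟩) (Submodule.mem_sup_right h2)
  obtain ⟨r, hr1, hr2⟩ := Submodule.exists_sub_one_mem_and_smul_le_of_fg_of_le_sup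
    (Module.Finite.fg_top) le_rfl hsup
  have hr : r ∈ N.colon (Set.univ : Set B) := Submodule.mem_colon.mpr (fun b _ =>
    hr2 (Submodule.smul_mem_pointwise_smul b r ⊤ trivial))
  have h1m : (1 : A) ∈ m := by
    have h1 := hle hr
    have h2 : (1 : A) = r - (r - 1) := by ring
    rw [h2]
    exact m.sub_mem h1 hr1
  exact hm.ne_top ((Ideal.eq_top_iff_one m).mpr h1m)

end Groth.Agent.S2485
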