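import Groth.Statements.S2486
import Groth.Agent.Lib.helper2.PBasisK
import Groth.Agent.S2485

set_option autoImplicit false
universe u
open EGA41

namespace Groth.Agent.S2486

/-- Let p be a prime, B an A-algebra of characteristic p and (x_α) a family of elements of B. Then (a) B
is generated as an A[B^p]-algebra by the x_α if and only if (b) (x_α) is a system of p-generators of
B over A; these imply (c) Ω_{B/A} is generated by the d x_α; and if B is an A[B^p]-algebra of finite
type, (c) implies (a). -/
theorem result (p : ℕ) [Fact p.Prime] {A B : Type u} [CommRing A] [CommRing B] [Algebra A B] [CharP B p]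
    {ι : Type u} (x : ι → B) :
    (Algebra.adjoin (EGA41.pPowerSubalgebra p A B) (Set.range x) = ⊤ ↔ EGA41.IsPGenerating p A x) ∧
    (EGA41.IsPGenerating p A x → Submodule.span B (Set.range fun i => KaehlerDifferential.D A B (x i)) = ⊤) ∧
    (Algebra.FiniteType (EGA41.pPowerSubalgebra p A B) B →
      Submodule.span B (Set.range fun i => KaehlerDifferential.D A B (x i)) = ⊤ → EGA41.IsPGenerating p A x) := by
  classical
  have hp : p.Prime := Fact.out
  refine ⟨h2_pgen_iff_adjoin p x, h2_pgen_kaehler_span p x, ?_⟩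
  intro hft hspan
  rw [← h2_pgen_iff_adjoin p x]
  -- the `A`-subalgebra generated by the `x i` and the `p`-th powers
  let B'' : Subalgebra A B := Algebra.adjoin A (Set.range x ∪ Set.range (fun b : B => b ^ p))
  have hxi : ∀ i, x i ∈ B'' := fun i => Algebra.subset_adjoin (Or.inl ⟨i, rfl⟩)
  have hpw : ∀ b : B, b ^ p ∈ B'' := fun b => Algebra.subset_adjoin (Or.inr ⟨b, rfl⟩)
  have hCle : EGA41.pPowerSubalgebra p A B ≤ B'' := h2_ppow_le p B'' hpw
  letI : Algebra (EGA41.pPowerSubalgebra p A B) B'' :=
    (Subalgebra.inclusion hCle).toRingHom.toAlgebra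
  haveI : IsScalarTower (EGA41.pPowerSubalgebra p A B) B'' B :=
    IsScalarTower.of_algebraMap_eq (fun c => rfl)
  haveI : Algebra.FiniteType (EGA41.pPowerSubalgebra p A B) B := hft
  haveI : Algebra.FiniteType B'' B :=
    Algebra.FiniteType.of_restrictScalars_finiteType (EGA41.pPowerSubalgebra p A B) B'' B
  have hz : ∀ ω : Ω[B⁄A], KaehlerDifferential.map A B'' B B ω = 0 := by
    intro ω
    have hω : ω ∈ Submodule.span B (Set.range fun i => KaehlerDifferential.D A B (x i)) := by
      rw [hspan]; trivial
    refine Submodule.span_induction ?_ ?_ ?_ ?_ hω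
    · rintro _ ⟨i, rfl⟩
      rw [KaehlerDifferential.map_D]
      have h1 : algebraMap B B (x i) = algebraMap B'' B ⟨x i, hxi i⟩ := rfl
      rw [h1, Derivation.map_algebraMap]
    · exact map_zero _
    · intro a b _ _ ha hb
      rw [map_add, ha, hb, add_zero]
    · intro r a _ ha
      rw [map_smul, ha, smul_zero]
  haveI : Subsingleton (Ω[B⁄B'']) := by
    refine subsingleton_of_forall_eq 0 (fun ω' => ?_)
    have hω' : ω' ∈ Submodule.span B (Set.range (KaehlerDifferential.D B'' B)) := by
      rw [KaehlerDifferential.span_range_derivation]; trivial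
    refine Submodule.span_induction ?_ ?_ ?_ ?_ hω'
    · rintro _ ⟨b, rfl⟩
      have h1 := hz (KaehlerDifferential.D A B b)
      rw [KaehlerDifferential.map_D] at h1
      exact h1
    · rfl
    · intro a b _ _ ha hb
      rw [ha, hb, add_zero]
    · intro r a _ ha
      rw [ha, smul_zero]
  have hsurj : Function.Surjective (algebraMap B'' B) :=
    Groth.Agent.S2485.result p 1 (fun b => by
      rw [pow_one]
      exact ⟨⟨b ^ p, hpw b⟩, rfl⟩)
  rw [eq_top_iff]
  rintro b -
  obtain ⟨b', rfl⟩ := hsurj b
  have hb' : (b' : B) ∈ B'' := b'.2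
  show (b' : B) ∈ Algebra.adjoin (EGA41.pPowerSubalgebra p A B) (Set.range x)
  refine Algebra.adjoin_induction ?_ ?_ ?_ ?_ hb'
  · rintro y (⟨i, rfl⟩ | ⟨c, rfl⟩)
    · exact Algebra.subset_adjoin ⟨i, rfl⟩
    · exact Subalgebra.algebraMap_mem _ (⟨c ^ p, h2_ppow_mem p c⟩ : EGA41.pPowerSubalgebra p A B)
  · intro a
    exact Subalgebra.algebraMap_mem _ (algebraMap A (EGA41.pPowerSubalgebra p A B) a)
  · intro a b _ _ ha hb
    exact Subalgebra.add_mem _ ha hb
  · intro a b _ _ ha hb
    exact Subalgebra.mul_mem _ ha hb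

end Groth.Agent.S2486
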