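import Groth.Statements.S2913
import Mathlib

set_option autoImplicit false
open CategoryTheory CategoryTheory.Limits AlgebraicGeometry Opposite
universe u
open SGA1

namespace Groth.Agent.S2913

/-- Let g : S' ⟶ S be a surjective morphism of schemes such that for every open U of S the map O_S(U) →
O_{S'}(g⁻¹U) is injective. Then g is an epimorphism in the category of schemes. -/
theorem result {S' S : Scheme.{u}} (g : S' ⟶ S) [Surjective g]
    (hinj : ∀ U : S.Opens, Function.Injective (g.app U).hom) : Epi g := by
  constructor
  intro T a b hab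
  have h_base : a.base = b.base := by
    apply ConcreteCategory.hom_ext
    intro s
    obtain ⟨s', rfl⟩ := g.surjective s
    have h1 := congrArg (fun m => m.base s') hab
    simpa using h1
  refine Scheme.Hom.ext h_base (fun U => ?_)
  have hi := hinj (b ⁻¹ᵁ U)
  have e1 : ∀ (V : S'.Opens) (m : Opposite.op V ⟶ Opposite.op V),
      S'.presheaf.map m = 𝟙 _ := by
    intro V m
    have : m = 𝟙 _ := Subsingleton.elim _ _
    rw [this, CategoryTheory.Functor.map_id]
  have e2 : ∀ {V W : S'.Opens} (m1 : Opposite.op V ⟶ Opposite.op W)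
      (m2 : Opposite.op W ⟶ Opposite.op V),
      S'.presheaf.map m1 ≫ S'.presheaf.map m2 = 𝟙 _ := by
    intro V W m1 m2
    rw [← CategoryTheory.Functor.map_comp]
    exact e1 V _
  have key : (a.app U ≫ S.presheaf.map
      (eqToHom congr((TopologicalSpace.Opens.map $h_base.symm).obj U)).op) ≫ g.app (b ⁻¹ᵁ U) =
      b.app U ≫ g.app (b ⁻¹ᵁ U) := by
    rw [Category.assoc, Scheme.Hom.naturality, ← Category.assoc, ← Scheme.Hom.comp_app,
      ← Scheme.Hom.comp_app, Scheme.Hom.congr_app hab U]
    exact (Category.assoc _ _ _).trans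
      ((congrArg (fun z => (g ≫ b).app U ≫ z) (e2 _ _)).trans (Category.comp_id _))
  apply CommRingCat.hom_ext
  apply RingHom.ext
  intro x
  apply hi
  exact congrArg (fun m => m.hom x) key

end Groth.Agent.S2913
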