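import Groth.Statements.S2952
import Groth.Agent.Lib.helper2.RootW

set_option autoImplicit false
open RootPairing
open scoped Pointwise
universe u
open RootD

namespace Groth.Agent.S2952

/-- For a finite crystallographic reduced root pairing over a characteristic-zero domain with a base b:
(1) the Weyl group is generated by the reflections in the simple roots; (2) every root is the image
of a simple root under an element of the Weyl group (acting on the indexing type). (The published
statement also covers the non-reduced case.) -/
theorem result {ι R M N : Type*} [CommRing R] [CharZero R] [IsDomain R] [AddCommGroup M] [Module R M]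
    [AddCommGroup N] [Module R N] (P : RootPairing ι R M N) [Finite ι] [P.IsCrystallographic] [P.IsReduced]
    (b : P.Base) :
    Subgroup.closure ((fun i : ι => Equiv.reflection P i) '' (b.support : Set ι)) = P.weylGroup ∧
    ∀ i : ι, ∃ g : P.Aut, g ∈ P.weylGroup ∧ ∃ j ∈ b.support, g • j = i := by
  classical
  have hW₀le : Subgroup.closure ((fun i : ι => Equiv.reflection P i) '' (b.support : Set ι)) ≤
      P.weylGroup := Subgroup.closure_mono (Set.image_subset_range _ _)
  have key : ∀ i : ι, ∃ g : P.Aut,
      g ∈ Subgroup.closure ((fun i : ι => Equiv.reflection P i) '' (b.support : Set ι)) ∧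
      ∃ j ∈ b.support, g • j = i := by
    intro i
    refine b.induction_reflect i (p := fun i => ∃ g : P.Aut,
      g ∈ Subgroup.closure ((fun i : ι => Equiv.reflection P i) '' (b.support : Set ι)) ∧
      ∃ j ∈ b.support, g • j = i) ?_ ?_ ?_
    · rintro i ⟨g, hg, j, hj, rfl⟩
      refine ⟨g * Equiv.reflection P j,
        Subgroup.mul_mem _ hg (Subgroup.subset_closure ⟨j, hj, rfl⟩), j, hj, ?_⟩
      have h1 : Equiv.reflection P (g • j) = g * Equiv.reflection P j * g⁻¹ :=
        (h2_conj_reflection P g j).symm
      have h2 : P.reflectionPerm (g • j) (g • j) = Equiv.reflection P (g • j) • (g • j) := rfl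
      rw [h2, h1, mul_smul, mul_smul, inv_smul_smul, mul_smul]
    · intro i hi
      exact ⟨1, Subgroup.one_mem _, i, hi, one_smul _ _⟩
    · rintro i j ⟨g, hg, j₀, hj₀, rfl⟩ hj
      refine ⟨Equiv.reflection P j * g,
        Subgroup.mul_mem _ (Subgroup.subset_closure ⟨j, hj, rfl⟩) hg, j₀, hj₀, ?_⟩
      rw [mul_smul]
      rfl
  constructor
  · apply le_antisymm hW₀le
    rw [RootPairing.weylGroup, Subgroup.closure_le]
    rintro _ ⟨i, rfl⟩
    obtain ⟨g, hg, j, hj, rfl⟩ := key i
    rw [SetLike.mem_coe, ← h2_conj_reflection P g j]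
    exact Subgroup.mul_mem _ (Subgroup.mul_mem _ hg (Subgroup.subset_closure ⟨j, hj, rfl⟩))
      (Subgroup.inv_mem _ hg)
  · intro i
    obtain ⟨g, hg, j, hj, h⟩ := key i
    exact ⟨g, hW₀le hg, j, hj, h⟩

end Groth.Agent.S2952
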