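import Groth.Statements.S2953
import Groth.Agent.Lib.helper2.RootW
import Groth.Agent.S2952

set_option autoImplicit false
open RootPairing
open scoped Pointwise
universe u
open RootD

namespace Groth.Agent.S2953

/-- For a finite crystallographic reduced root pairing with a base b: an element of the Weyl group which
maps positive roots (relative to b) to positive roots is the identity. -/
theorem result {ι R M N : Type*} [CommRing R] [CharZero R] [IsDomain R] [AddCommGroup M] [Module R M]
    [AddCommGroup N] [Module R N] (P : RootPairing ι R M N) [Finite ι] [P.IsCrystallographic] [P.IsReduced]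
    (b : P.Base) (g : P.Aut) (hg : g ∈ P.weylGroup) (hpos : ∀ i, b.IsPos i → b.IsPos (g • i)) : g = 1 := by
  classical
  let prod : List ι → P.Aut := fun l => (l.map (fun i => Equiv.reflection P i)).prod
  have prod_cons : ∀ a l, prod (a :: l) = Equiv.reflection P a * prod l := fun a l => by
    simp [prod]
  have prod_nil : prod [] = 1 := by simp [prod]
  have prod_append : ∀ l m, prod (l ++ m) = prod l * prod m := fun l m => by simp [prod]
  have prod_single : ∀ a, prod [a] = Equiv.reflection P a := fun a => by simp [prod]
  have hsq : ∀ j, Equiv.reflection P j * Equiv.reflection P j = 1 := fun j => by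
    calc Equiv.reflection P j * Equiv.reflection P j
        = (Equiv.reflection P j)⁻¹ * Equiv.reflection P j := by rw [Equiv.reflection_inv]
      _ = 1 := inv_mul_cancel _
  have prod_reverse : ∀ l, prod l.reverse = (prod l)⁻¹ := by
    intro l
    induction l with
    | nil => simp [prod]
    | cons a l ih =>
      rw [List.reverse_cons, prod_append, ih, prod_single, prod_cons, mul_inv_rev,
        Equiv.reflection_inv]
  have hex : ∀ g : P.Aut, g ∈ P.weylGroup →
      ∃ l : List ι, (∀ j ∈ l, j ∈ b.support) ∧ prod l = g := by
    intro g hg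
    rw [← (Groth.Agent.S2952.result P b).1] at hg
    induction hg using Subgroup.closure_induction with
    | mem x hx =>
      obtain ⟨j, hj, rfl⟩ := hx
      exact ⟨[j], by simpa using hj, prod_single j⟩
    | one => exact ⟨[], by simp, prod_nil⟩
    | mul x y _ _ hx hy =>
      obtain ⟨l, hl, rfl⟩ := hx
      obtain ⟨m, hm, rfl⟩ := hy
      refine ⟨l ++ m, ?_, prod_append l m⟩
      intro j hj
      rcases List.mem_append.mp hj with h | h
      · exact hl j h
      · exact hm j h
    | inv x _ hx =>
      obtain ⟨l, hl, rfl⟩ := hx
      exact ⟨l.reverse, fun j hj => hl j (List.mem_reverse.mp hj), prod_reverse l⟩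
  have hdel : ∀ (l' : List ι), (∀ a ∈ l', a ∈ b.support) → ∀ j ∈ b.support,
      ¬ b.IsPos (prod l' • j) →
      ∃ l'' : List ι, (∀ a ∈ l'', a ∈ b.support) ∧ l''.length + 1 = l'.length ∧
        prod l' * Equiv.reflection P j = prod l'' := by
    intro l'
    induction l' with
    | nil =>
      intro _ j hj hneg
      exact absurd (by
        rw [prod_nil, one_smul]
        exact RootPairing.Base.isPos_of_mem_support hj) hneg
    | cons a m ih =>
      intro hl j hj hneg
      have ha : a ∈ b.support := hl a (List.mem_cons_self ..)
      have hm : ∀ c ∈ m, c ∈ b.support := fun c hc => hl c (List.mem_cons_of_mem _ hc)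
      by_cases hpos' : b.IsPos (prod m • j)
      · have heq : prod m • j = a := by
          by_contra hne
          apply hneg
          rw [prod_cons, mul_smul]
          exact hpos'.reflectionPerm ha hne
        refine ⟨m, hm, rfl, ?_⟩
        have h1 := h2_conj_reflection P (prod m) j
        rw [heq] at h1
        rw [prod_cons, ← h1]
        calc prod m * Equiv.reflection P j * (prod m)⁻¹ * prod m * Equiv.reflection P j
            = prod m * (Equiv.reflection P j * Equiv.reflection P j) := by group
          _ = prod m := by rw [hsq, mul_one]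
      · obtain ⟨m'', hm'', hlen, hprod⟩ := ih hm j hj hpos'
        refine ⟨a :: m'', ?_, by simp [hlen], ?_⟩
        · intro c hc
          rcases List.mem_cons.mp hc with rfl | h
          · exact ha
          · exact hm'' c h
        · rw [prod_cons, prod_cons, mul_assoc, hprod]
  obtain ⟨l₀, hl₀, hprod₀⟩ := hex g hg
  have hmin : ∃ n : ℕ, ∃ l : List ι, l.length = n ∧ (∀ j ∈ l, j ∈ b.support) ∧ prod l = g :=
    ⟨l₀.length, l₀, rfl, hl₀, hprod₀⟩
  obtain ⟨l, hlen, hl, hprod⟩ := Nat.find_spec hmin
  have hminimal : ∀ l' : List ι, (∀ j ∈ l', j ∈ b.support) → prod l' = g →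
      Nat.find hmin ≤ l'.length := fun l' h1 h2 => Nat.find_min' hmin ⟨l', rfl, h1, h2⟩
  rcases List.eq_nil_or_concat l with rfl | ⟨l', j, rfl⟩
  · rw [← hprod, prod_nil]
  · exfalso
    rw [List.concat_eq_append] at hlen hl hprod
    have hj : j ∈ b.support := hl j (by simp)
    have hl' : ∀ a ∈ l', a ∈ b.support := fun a ha => hl a (by simp [ha])
    have hg_eq : g = prod l' * Equiv.reflection P j := by
      rw [← hprod, prod_append, prod_single]
    have h1 : g • j = P.reflectionPerm (prod l' • j) (prod l' • j) := by
      have h2 : P.reflectionPerm (prod l' • j) (prod l' • j) =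
          Equiv.reflection P (prod l' • j) • (prod l' • j) := rfl
      rw [h2, ← h2_conj_reflection P (prod l') j, mul_smul, mul_smul, inv_smul_smul, ← mul_smul,
        ← hg_eq]
    have h3 : b.IsPos (g • j) := hpos j (RootPairing.Base.isPos_of_mem_support hj)
    rw [h1] at h3
    have hneg : ¬ b.IsPos (prod l' • j) :=
      (RootPairing.Base.IsPos.neg_iff_not b (prod l' • j)).mp h3
    obtain ⟨l'', hl'', hlen'', hprod''⟩ := hdel l' hl' j hj hneg
    have h4 := hminimal l'' hl'' (by rw [← hprod'', ← hg_eq])
    rw [← hlen, List.length_append] at h4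
    simp at h4
    omega

end Groth.Agent.S2953
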