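import Groth.Statements.S2954
import Groth.Agent.Lib.helper2.RootW2
import Groth.Agent.S2953

set_option autoImplicit false
open RootPairing
open scoped Pointwise
universe u
open RootD

namespace Groth.Agent.S2954

/-- For a finite crystallographic reduced root pairing (over a domain of characteristic zero), the Weyl
group acts freely and transitively on bases: for two bases b, b' there is exactly one element of the
Weyl group carrying the set of simple roots of b onto that of b'. -/
theorem result {ι R M N : Type*} [CommRing R] [CharZero R] [IsDomain R] [AddCommGroup M] [Module R M]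
    [AddCommGroup N] [Module R N] (P : RootPairing ι R M N) [Finite ι] [P.IsCrystallographic] [P.IsReduced]
    (b b' : P.Base) :
    ∃! g : P.weylGroup, (fun i : ι => (g : P.Aut) • i) '' (b.support : Set ι) = (b'.support : Set ι) := by
  classical
  haveI : Fintype ι := Fintype.ofFinite ι
  let S : P.Aut → Finset ι := fun g =>
    Finset.univ.filter (fun i => b.IsPos i ∧ ¬ b'.IsPos (g • i))
  have hSmem : ∀ g i, i ∈ S g ↔ (b.IsPos i ∧ ¬ b'.IsPos (g • i)) := by
    intro g i
    simp only [S, Finset.mem_filter, Finset.mem_univ, true_and]
  have hstep : ∀ n : ℕ, ∀ g : P.Aut, g ∈ P.weylGroup → (S g).card = n →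
      ∃ g' : P.Aut, g' ∈ P.weylGroup ∧ ∀ i, b.IsPos i → b'.IsPos (g' • i) := by
    intro n
    induction n using Nat.strong_induction_on with
    | _ n ih =>
      intro g hg hcard
      by_cases hall : ∀ j ∈ b.support, b'.IsPos (g • j)
      · exact ⟨g, hg, fun i hi => h2_pos_of_simple_pos b b' g hall hi⟩
      · push_neg at hall
        obtain ⟨j, hj, hjneg⟩ := hall
        have hjpos : b.IsPos j := RootPairing.Base.isPos_of_mem_support hj
        have hjS : j ∈ S g := (hSmem g j).mpr ⟨hjpos, hjneg⟩
        have hg' : g * Equiv.reflection P j ∈ P.weylGroup :=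
          P.weylGroup.mul_mem hg (P.reflection_mem_weylGroup j)
        have hlt : (S (g * Equiv.reflection P j)).card < (S g).card := by
          have hinj : (S (g * Equiv.reflection P j)).card ≤ ((S g).erase j).card := by
            refine Finset.card_le_card_of_injOn (fun i => P.reflectionPerm j i) ?_ ?_
            · intro i hi
              obtain ⟨hipos, hineg⟩ := (hSmem _ i).mp hi
              have hineg' : ¬ b'.IsPos (g • P.reflectionPerm j i) := by
                rw [mul_smul] at hineg
                exact hineg
              have hij : i ≠ j := by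
                rintro rfl
                apply hineg'
                rw [h2_smul_neg, h2_isPos_neg]
                exact hjneg
              refine Finset.mem_coe.mpr (Finset.mem_erase.mpr ⟨?_, ?_⟩)
              · intro h
                have h5 : i = P.reflectionPerm j j := by
                  have h4 := (P.reflectionPerm_involutive j) i
                  have h' : P.reflectionPerm j i = j := h
                  rw [h'] at h4
                  exact h4.symm
                rw [h5, h2_isPos_neg] at hipos
                exact hipos hjpos
              · exact (hSmem g _).mpr ⟨hipos.reflectionPerm hj hij, hineg'⟩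
            · exact (P.reflectionPerm j).injective.injOn
          rw [Finset.card_erase_of_mem hjS] at hinj
          have h6 : 0 < (S g).card := Finset.card_pos.mpr ⟨j, hjS⟩
          omega
        exact ih _ (hcard ▸ hlt) _ hg' rfl
  obtain ⟨g, hg, hgpos⟩ := hstep _ 1 (one_mem _) rfl
  have hiff : ∀ i, b.IsPos i ↔ b'.IsPos (g • i) := by
    intro i
    refine ⟨hgpos i, fun h => ?_⟩
    by_contra hni
    have h1 : b.IsPos (P.reflectionPerm i i) := (h2_isPos_neg b i).mpr hni
    have h2 := hgpos _ h1
    rw [h2_smul_neg, h2_isPos_neg] at h2
    exact h2 h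
  have hiff' : ∀ i, b'.IsPos i ↔ b.IsPos (g⁻¹ • i) := fun i => by rw [hiff, smul_inv_smul]
  have himage : (fun i : ι => g • i) '' (b.support : Set ι) = (b'.support : Set ι) := by
    apply Set.Subset.antisymm
    · rintro _ ⟨j, hj, rfl⟩
      exact h2_simple_of_pos_iff b b' g hiff hj
    · intro a ha
      exact ⟨g⁻¹ • a, h2_simple_of_pos_iff b' b g⁻¹ hiff' ha, smul_inv_smul g a⟩
  refine ⟨⟨g, hg⟩, himage, ?_⟩
  rintro ⟨g', hg'⟩ himage'
  have himage'' : (fun i : ι => g' • i) '' (b.support : Set ι) = (b'.support : Set ι) := himage'
  have hh : ∀ j ∈ b.support, (g⁻¹ * g') • j ∈ b.support := by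
    intro j hj
    have h1 : g' • j ∈ (b'.support : Set ι) := by
      rw [← himage'']
      exact ⟨j, hj, rfl⟩
    rw [← himage] at h1
    obtain ⟨j₀, hj₀, h2⟩ := h1
    have h3 : g • j₀ = g' • j := h2
    rw [mul_smul, ← h3, inv_smul_smul]
    exact hj₀
  have hpos : ∀ i, b.IsPos i → b.IsPos ((g⁻¹ * g') • i) := fun i hi =>
    h2_pos_of_simple_pos b b (g⁻¹ * g')
      (fun j hj => RootPairing.Base.isPos_of_mem_support (hh j hj)) hi
  have h1 := Groth.Agent.S2953.result P b (g⁻¹ * g')
    (P.weylGroup.mul_mem (P.weylGroup.inv_mem hg) hg') hpos
  apply Subtype.ext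
  show g' = g
  exact (inv_mul_eq_one.mp h1).symm

end Groth.Agent.S2954
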