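import Groth.Statements.S2955
-- import your own Groth.Agent.* helpers here

set_option autoImplicit false
open RootPairing
open scoped Pointwise Classical
universe u
open RootD

namespace Groth.Agent.S2955

/-- Let P be a finite crystallographic reduced root pairing over a domain of characteristic zero, with a
base b, and write 2ρ for the sum of the positive roots with respect to b. Then for every simple root
β (an index in the support of b) the reflection in β sends 2ρ to 2ρ − 2β (equivalently, the coroot
of β pairs to 1 with ρ; only the reflection identity is asserted). -/
theorem result {ι R M N : Type*} [CommRing R] [CharZero R] [IsDomain R] [AddCommGroup M] [Module R M]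
    [AddCommGroup N] [Module R N] (P : RootPairing ι R M N) [Finite ι] [P.IsCrystallographic] [P.IsReduced]
    [Fintype ι] (b : P.Base) (j : ι) (hj : j ∈ b.support) :
    P.reflection j (∑ i, if b.IsPos i then P.root i else 0) =
      (∑ i, if b.IsPos i then P.root i else 0) - (2 : R) • P.root j := by
  classical
  have hjpos : b.IsPos j := RootPairing.Base.isPos_of_mem_support hj
  have hσj : ¬ b.IsPos (P.reflectionPerm j j) := by
    have h1 : b.height (P.reflectionPerm j j) = -b.height j := b.height_reflectionPerm_self j
    rw [RootPairing.Base.isPos_iff, h1]
    have h2 := (RootPairing.Base.isPos_iff b).mp hjpos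
    omega
  have hsum : (∑ i, if b.IsPos i then P.root i else 0) =
      ∑ i ∈ Finset.univ.filter (fun i => b.IsPos i), P.root i := (Finset.sum_filter _ _).symm
  rw [hsum, map_sum]
  have hjmem : j ∈ Finset.univ.filter (fun i => b.IsPos i) := by simp [hjpos]
  rw [← Finset.add_sum_erase _ _ hjmem, ← Finset.add_sum_erase _ (fun i => P.root i) hjmem]
  have hbij : ∑ i ∈ (Finset.univ.filter (fun i => b.IsPos i)).erase j,
      P.reflection j (P.root i) =
      ∑ i ∈ (Finset.univ.filter (fun i => b.IsPos i)).erase j, P.root i := by
    refine Finset.sum_equiv (P.reflectionPerm j) ?_ ?_
    · intro i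
      simp only [Finset.mem_erase, Finset.mem_filter, Finset.mem_univ, true_and]
      constructor
      · rintro ⟨hij, hi⟩
        refine ⟨?_, hi.reflectionPerm hj hij⟩
        intro h
        have h3 : i = P.reflectionPerm j j := by
          have h4 := (P.reflectionPerm_involutive j) i
          rw [h] at h4
          exact h4.symm
        exact hσj (h3 ▸ hi)
      · rintro ⟨hne, hpos⟩
        have h1 := hpos.reflectionPerm hj hne
        rw [(P.reflectionPerm_involutive j) i] at h1
        refine ⟨?_, h1⟩
        rintro rfl
        exact hσj hpos
    · intro i _
      rw [P.root_reflectionPerm]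
  rw [hbij, P.reflection_apply_self, two_smul]
  abel

end Groth.Agent.S2955
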