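import Groth.Statements.S2965
-- import your own Groth.Agent.* helpers here

set_option autoImplicit false
universe u
open SGA3t2b

namespace Groth.Agent.S2965

open Polynomial in
/-- Implication (iv) ⇒ (i) (global form, finite free module): let u be an endomorphism of a finite free
module M over a commutative ring A whose characteristic polynomial is X^r · Q with Q(0) invertible.
Then M is the direct sum of two u-stable submodules M', M'' such that u is nilpotent on M' and
bijective on M''. -/
theorem result {A : Type u} [CommRing A] {M : Type u} [AddCommGroup M] [Module A M]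
    [Module.Free A M] [Module.Finite A M] (u : M →ₗ[A] M) (r : ℕ) (Q : A[X]) (hQ : IsUnit (Q.coeff 0))
    (h : u.charpoly = X ^ r * Q) :
    ∃ M' M'' : Submodule A M, IsCompl M' M'' ∧ (∀ x ∈ M', u x ∈ M') ∧ (∀ x ∈ M'', u x ∈ M'') ∧
      (∃ n : ℕ, ∀ x ∈ M', (u ^ n) x = 0) ∧ Set.BijOn u M'' M'' := by
  classical
  obtain ⟨c, hc⟩ := hQ.exists_left_inv
  have hQd : Polynomial.X * Q.divX + Polynomial.C (Q.coeff 0) = Q := Polynomial.X_mul_divX_add Q
  have hcop1 : IsCoprime (Polynomial.X : A[X]) Q := by
    refine ⟨-(Polynomial.C c * Q.divX), Polynomial.C c, ?_⟩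
    have e : Polynomial.C c * Q = Polynomial.C c * (Polynomial.X * Q.divX + Polynomial.C (Q.coeff 0)) := by
      rw [hQd]
    rw [e]
    have : Polynomial.C c * Polynomial.C (Q.coeff 0) = (1 : A[X]) := by
      rw [← Polynomial.C_mul, hc, Polynomial.C_1]
    linear_combination this
  have hcop : IsCoprime ((Polynomial.X : A[X]) ^ r) Q := hcop1.pow_left
  have hCH : Polynomial.aeval u ((Polynomial.X : A[X]) ^ r * Q) = 0 := by
    rw [← h]; exact LinearMap.aeval_self_charpoly u
  have hcomm : ∀ (p : A[X]) (x : M), Polynomial.aeval u p (u x) = u (Polynomial.aeval u p x) := by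
    intro p x
    have h1 : Polynomial.aeval u (p * Polynomial.X) = Polynomial.aeval u (Polynomial.X * p) := by
      rw [mul_comm]
    rw [map_mul, map_mul, Polynomial.aeval_X] at h1
    exact LinearMap.congr_fun h1 x
  have hcomm2 : ∀ (p q : A[X]) (x : M),
      Polynomial.aeval u p (Polynomial.aeval u q x) = Polynomial.aeval u q (Polynomial.aeval u p x) := by
    intro p q x
    have h1 : Polynomial.aeval u (p * q) = Polynomial.aeval u (q * p) := by rw [mul_comm]
    rw [map_mul, map_mul] at h1
    exact LinearMap.congr_fun h1 x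
  refine ⟨LinearMap.ker (Polynomial.aeval u ((Polynomial.X : A[X]) ^ r)),
    LinearMap.ker (Polynomial.aeval u Q), ⟨?_, ?_⟩, ?_, ?_, ?_, ?_⟩
  · exact Polynomial.disjoint_ker_aeval_of_isCoprime u hcop
  · rw [codisjoint_iff, Polynomial.sup_ker_aeval_eq_ker_aeval_mul_of_coprime u hcop, hCH]
    exact LinearMap.ker_zero
  · intro x hx
    rw [LinearMap.mem_ker] at hx ⊢
    rw [hcomm, hx, map_zero]
  · intro x hx
    rw [LinearMap.mem_ker] at hx ⊢
    rw [hcomm, hx, map_zero]
  · refine ⟨r, fun x hx => ?_⟩
    rw [LinearMap.mem_ker, map_pow, Polynomial.aeval_X] at hx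
    exact hx
  · -- key identity on ker Q(u)
    have key : ∀ y : M, Polynomial.aeval u Q y = 0 →
        y = u (-(c • Polynomial.aeval u Q.divX y)) := by
      intro y hy
      have h1 : Polynomial.aeval u Q y = u (Polynomial.aeval u Q.divX y) + Q.coeff 0 • y := by
        conv_lhs => rw [← hQd]
        rw [map_add, map_mul, Polynomial.aeval_X, Polynomial.aeval_C]
        simp [Module.End.mul_apply]
      rw [hy] at h1
      have h2 : Q.coeff 0 • y = - u (Polynomial.aeval u Q.divX y) := by
        rw [eq_neg_iff_add_eq_zero, add_comm]; exact h1.symm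
      calc y = (c * Q.coeff 0) • y := by rw [hc, one_smul]
        _ = c • (Q.coeff 0 • y) := by rw [mul_smul]
        _ = u (-(c • Polynomial.aeval u Q.divX y)) := by
          rw [h2, map_neg, map_smul, smul_neg]
    refine ⟨?_, ?_, ?_⟩
    · intro x hx
      have hx' : Polynomial.aeval u Q x = 0 := hx
      change Polynomial.aeval u Q (u x) = 0
      rw [hcomm, hx', map_zero]
    · intro x hx y hy hxy
      have hx' : Polynomial.aeval u Q x = 0 := hx
      have hy' : Polynomial.aeval u Q y = 0 := hy
      have hw : Polynomial.aeval u Q (x - y) = 0 := by rw [map_sub, hx', hy', sub_zero]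
      have := key (x - y) hw
      have h0 : x - y = 0 := by
        calc x - y = u (-(c • Polynomial.aeval u Q.divX (x - y))) := this
          _ = 0 := by
            rw [map_neg, map_smul, ← hcomm, map_sub, hxy, sub_self, map_zero, smul_zero, neg_zero]
      exact sub_eq_zero.1 h0
    · intro y hy
      have hy' : Polynomial.aeval u Q y = 0 := hy
      refine ⟨-(c • Polynomial.aeval u Q.divX y), ?_, (key y hy').symm⟩
      change Polynomial.aeval u Q (-(c • Polynomial.aeval u Q.divX y)) = 0
      rw [map_neg, map_smul, hcomm2, hy', map_zero, smul_zero, neg_zero]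

end Groth.Agent.S2965
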