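import Groth.Statements.S2967
-- import your own Groth.Agent.* helpers here

set_option autoImplicit false
universe u
open SGA3t2b

namespace Groth.Agent.S2967

/-- A commutative p-Lie algebra over a field k of characteristic p is recorded as a k-vector space g
together with its p-th power map φ, which is additive and Frobenius-semilinear. Let g be
finite-dimensional and non-zero, and assume every element of g is killed by some iterate of φ (g is
unipotent). Then the k-subspace of g spanned by the image φ(g) is a proper subspace. -/
theorem result {k : Type u} [Field k] (p : ℕ) [Fact p.Prime] [CharP k p]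
    {V : Type u} [AddCommGroup V] [Module k V] [FiniteDimensional k V] [Nontrivial V]
    (φ : V →ₛₗ[frobenius k p] V) (hφ : ∀ x : V, ∃ n : ℕ, φ^[n] x = 0) :
    Submodule.span k (Set.range φ) ≠ ⊤ := by
  classical
  intro htop
  -- the sets killed by iterates are submodules
  have hiter_add : ∀ (n : ℕ) (x y : V), φ^[n] (x + y) = φ^[n] x + φ^[n] y := by
    intro n
    induction n with
    | zero => intro x y; rfl
    | succ n ih => intro x y; rw [Function.iterate_succ_apply', Function.iterate_succ_apply',
        Function.iterate_succ_apply', ih, map_add]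
  have hiter_zero : ∀ n : ℕ, φ^[n] (0 : V) = 0 := by
    intro n
    induction n with
    | zero => rfl
    | succ n ih => rw [Function.iterate_succ_apply', ih, map_zero]
  have hiter_smul : ∀ (n : ℕ) (c : k) (x : V), ∃ c' : k, φ^[n] (c • x) = c' • φ^[n] x := by
    intro n
    induction n with
    | zero => intro c x; exact ⟨c, rfl⟩
    | succ n ih =>
      intro c x
      obtain ⟨c', hc'⟩ := ih c x
      refine ⟨frobenius k p c', ?_⟩
      rw [Function.iterate_succ_apply', hc', Function.iterate_succ_apply', map_smulₛₗ]
  let Kn : ℕ → Submodule k V := fun n =>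
    { carrier := {x | φ^[n] x = 0}
      add_mem' := by
        intro x y hx hy
        simp only [Set.mem_ofPred_eq] at hx hy ⊢
        rw [hiter_add, hx, hy, add_zero]
      zero_mem' := hiter_zero n
      smul_mem' := by
        intro c x hx
        simp only [Set.mem_ofPred_eq] at hx ⊢
        obtain ⟨c', hc'⟩ := hiter_smul n c x
        rw [hc', hx, smul_zero] }
  have hmono : ∀ n m : ℕ, n ≤ m → Kn n ≤ Kn m := by
    intro n m hnm x hx
    change φ^[m] x = 0
    have hx' : φ^[n] x = 0 := hx
    obtain ⟨d, rfl⟩ := Nat.exists_eq_add_of_le hnm
    rw [add_comm, Function.iterate_add_apply, hx', hiter_zero]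
  -- a uniform bound
  obtain ⟨N, hN⟩ : ∃ N : ℕ, Kn N = ⊤ := by
    let b := Module.finBasis k V
    choose n hn using fun i => hφ (b i)
    refine ⟨Finset.univ.sup n, ?_⟩
    rw [eq_top_iff, ← b.span_eq, Submodule.span_le]
    rintro _ ⟨i, rfl⟩
    exact hmono (n i) _ (Finset.le_sup (Finset.mem_univ i)) (hn i)
  -- spans of the iterated images are everything
  have hspan : ∀ n : ℕ, Submodule.span k (Set.range (φ^[n])) = ⊤ := by
    intro n
    induction n with
    | zero => simp
    | succ n ih =>
      rw [eq_top_iff, ← htop, Submodule.span_le]
      rintro _ ⟨v, rfl⟩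
      have hv : v ∈ Submodule.span k (Set.range (φ^[n])) := by rw [ih]; trivial
      induction hv using Submodule.span_induction with
      | mem x hx =>
        obtain ⟨y, rfl⟩ := hx
        apply Submodule.subset_span
        exact ⟨y, by rw [Function.iterate_succ_apply']⟩
      | zero => rw [map_zero]; exact Submodule.zero_mem _
      | add x y _ _ hx hy => rw [map_add]; exact Submodule.add_mem _ hx hy
      | smul c x _ hx => rw [map_smulₛₗ]; exact Submodule.smul_mem _ _ hx
  have h0 : Submodule.span k (Set.range (φ^[N])) = ⊥ := by
    rw [Submodule.span_eq_bot]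
    rintro _ ⟨v, rfl⟩
    have : v ∈ Kn N := by rw [hN]; trivial
    exact this
  rw [hspan N] at h0
  exact top_ne_bot h0

end Groth.Agent.S2967
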