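import Groth.Statements.S2978
import Mathlib

set_option autoImplicit false
universe u
open SGA3b

namespace Groth.Agent.S2978

/-- Let A be a Noetherian ring, M a set and a : M × M → A a family vanishing off the diagonal which is a
finite sum of decomposable families: a(m, m') = Σ_i b_i(m) c_i(m') for finitely many b_i, c_i : M →
A. Then a has finite support. -/
theorem result (A : Type u) [CommRing A] [IsNoetherianRing A] (M : Type u)
    (a : M × M → A) (hdiag : ∀ m m', m ≠ m' → a (m, m') = 0)
    (ι : Type u) [Fintype ι] (b c : ι → M → A) (hdec : ∀ m m', a (m, m') = ∑ i, b i m * c i m') :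
    Set.Finite {p : M × M | a p ≠ 0} := by
  classical
  let c' : M → (ι → A) := fun m i => c i m
  let φ : M → ((ι → A) →ₗ[A] A) := fun m => ∑ i, b i m • LinearMap.proj i
  have hφ : ∀ m m', φ m (c' m') = a (m, m') := by
    intro m m'
    simp [φ, c', hdec, LinearMap.sum_apply]
  have hfg : (Submodule.span A (Set.range c')).FG := IsNoetherian.noetherian _
  obtain ⟨t, ht, hspan⟩ := (Submodule.fg_span_iff_fg_span_finset_subset (Set.range c')).mp hfg
  have hex : ∀ v : {v // v ∈ t}, ∃ m, c' m = v.1 := fun v => ht (Finset.mem_coe.mpr v.2)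
  choose g hg using hex
  have key : ∀ m, m ∉ t.attach.image g → a (m, m) = 0 := by
    intro m hm
    rw [← hφ m m]
    have hmem : c' m ∈ Submodule.span A (↑t : Set (ι → A)) := by
      rw [← hspan]
      exact Submodule.subset_span ⟨m, rfl⟩
    have hle : Submodule.span A (↑t : Set (ι → A)) ≤ LinearMap.ker (φ m) := by
      rw [Submodule.span_le]
      intro v hv
      have hv' : v ∈ t := Finset.mem_coe.mp hv
      have hgv : c' (g ⟨v, hv'⟩) = v := hg ⟨v, hv'⟩
      rw [SetLike.mem_coe, LinearMap.mem_ker, ← hgv, hφ]
      apply hdiag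
      intro e
      exact hm (Finset.mem_image.mpr ⟨⟨v, hv'⟩, Finset.mem_attach _ _, e.symm⟩)
    exact hle hmem
  apply Set.Finite.subset ((t.attach.image g).finite_toSet.image (fun m => (m, m)))
  rintro ⟨m, m'⟩ hne
  have hmm : m = m' := by
    by_contra h
    exact hne (hdiag m m' h)
  subst hmm
  refine ⟨m, ?_, rfl⟩
  by_contra hm
  exact hne (key m hm)

end Groth.Agent.S2978
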