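import Groth.Statements.S3032
import Mathlib
import Groth.Agent.Lib.helper4.Comod

set_option autoImplicit false
universe u
open CategoryTheory MonoidalCategory CartesianMonoidalCategory MonObj GrpObj AlgebraicGeometry TensorProduct
open SGA3

namespace Groth.Agent.S3032

theorem nat_assoc {R : Type*} [CommRing R] {C : Type*} [AddCommGroup C] [Module R C]
    [Coalgebra R C] {V V' : Type*} [AddCommGroup V] [Module R V] [AddCommGroup V'] [Module R V']
    (p : V →ₗ[R] V') (y : V ⊗[R] C) :
    (p.rTensor C).rTensor C ((TensorProduct.assoc R V C C).symm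
        ((CoalgebraStruct.comul (R := R) (A := C)).lTensor V y)) =
      (TensorProduct.assoc R V' C C).symm
        ((CoalgebraStruct.comul (R := R) (A := C)).lTensor V' (p.rTensor C y)) := by
  induction y using TensorProduct.induction_on with
  | zero => simp
  | tmul v c =>
    simp only [LinearMap.lTensor_tmul, LinearMap.rTensor_tmul]
    generalize (CoalgebraStruct.comul (R := R) c : C ⊗[R] C) = u
    induction u using TensorProduct.induction_on with
    | zero => simp
    | tmul x y => simp
    | add u₁ u₂ h₁ h₂ => simp only [TensorProduct.tmul_add, map_add, h₁, h₂]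
  | add y z hy hz => simp only [map_add, hy, hz]


/-- Let R be a Noetherian commutative ring, C an R-coalgebra which is flat as an R-module, V a
C-comodule and M a finitely generated R-submodule of V. Then M is contained in a subcomodule of V
which is finitely generated over R. -/
theorem result (R : Type u) [CommRing R] [IsNoetherianRing R] (C : Type u) [AddCommGroup C]
    [Module R C] [Coalgebra R C] [Module.Flat R C] (V : Type u) [AddCommGroup V] [Module R V] [HopfRep.Comod R C V]
    (M : Submodule R V) (hM : M.FG) :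
    ∃ W : Submodule R V, HopfRep.IsSubcomod (k := R) (A := C) W ∧ M ≤ W ∧ W.FG := by
  classical
  obtain ⟨S, hS⟩ := hM
  choose T hT using fun v : V =>
    TensorProduct.exists_finset (HopfRep.Comod.coact (k := R) (A := C) v)
  obtain ⟨N, hNdef⟩ : ∃ N : Submodule R V, N = Submodule.span R
      ((S.biUnion (fun v => (T v).image Prod.fst) : Finset V) : Set V) := ⟨_, rfl⟩
  have hNfg : N.FG := ⟨_, hNdef.symm⟩
  have hTN : ∀ v ∈ S, ∀ i ∈ T v, i.1 ∈ N := by
    intro v hv i hi
    rw [hNdef]
    apply Submodule.subset_span
    rw [Finset.mem_coe, Finset.mem_biUnion]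
    exact ⟨v, hv, Finset.mem_image_of_mem _ hi⟩
  obtain ⟨ρb, hρb⟩ : ∃ ρb : V →ₗ[R] (V ⧸ N) ⊗[R] C,
      ρb = N.mkQ.rTensor C ∘ₗ HopfRep.Comod.coact (k := R) (A := C) := ⟨_, rfl⟩
  have hρb_apply : ∀ v, ρb v = N.mkQ.rTensor C (HopfRep.Comod.coact (k := R) (A := C) v) :=
    fun v => by rw [hρb]; rfl
  refine ⟨LinearMap.ker ρb, ?_, ?_, ?_⟩
  · intro w hw
    have hex := Module.Flat.rTensor_exact C (LinearMap.exact_subtype_ker_map ρb)
    have hco : (HopfRep.Comod.coact (k := R) (A := C) (V := V)).rTensor C
          (HopfRep.Comod.coact (k := R) (A := C) w)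
        = (TensorProduct.assoc R V C C).symm ((CoalgebraStruct.comul (R := R) (A := C)).lTensor V
          (HopfRep.Comod.coact (k := R) (A := C) w)) := by
      have := LinearMap.congr_fun (HopfRep.Comod.coassoc (k := R) (A := C) (V := V)) w
      simp only [LinearMap.comp_apply, LinearEquiv.coe_coe] at this
      rw [← this, LinearEquiv.symm_apply_apply]
    have h0 : N.mkQ.rTensor C (HopfRep.Comod.coact (k := R) (A := C) w) = 0 := by
      rw [← hρb_apply]; exact hw
    have key : ρb.rTensor C (HopfRep.Comod.coact (k := R) (A := C) w) = 0 := by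
      rw [hρb, LinearMap.rTensor_comp, LinearMap.comp_apply, hco, nat_assoc, h0, map_zero, map_zero]
    exact (hex _).1 key
  · rw [← hS, Submodule.span_le]
    intro v hv
    rw [SetLike.mem_coe, LinearMap.mem_ker, hρb_apply, hT v, map_sum]
    apply Finset.sum_eq_zero
    intro i hi
    rw [LinearMap.rTensor_tmul, Submodule.mkQ_apply,
      (Submodule.Quotient.mk_eq_zero N).2 (hTN v hv i hi), TensorProduct.zero_tmul]
  · apply Submodule.FG.of_le hNfg
    intro w hw
    have h0 : N.mkQ.rTensor C (HopfRep.Comod.coact (k := R) (A := C) w) = 0 := by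
      rw [← hρb_apply]; exact hw
    have h1 : N.mkQ (Groth.Agent.Lib.helper4.h4T (CoalgebraStruct.counit (R := R) (A := C)) w)
        = 0 := by
      rw [Groth.Agent.Lib.helper4.h4T_apply, ← Groth.Agent.Lib.helper4.h4_rid_rTensor,
        ← Groth.Agent.Lib.helper4.h4_lTensor_rTensor_comm, h0, map_zero, map_zero]
    rw [Groth.Agent.Lib.helper4.h4T_counit] at h1
    exact (Submodule.Quotient.mk_eq_zero N).1 h1

end Groth.Agent.S3032
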