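import Groth.Statements.S3045
import Mathlib

set_option autoImplicit false
universe u
open TensorProduct
open SGA3

namespace Groth.Agent.S3045

/-- Let A be a commutative Hopf algebra over a commutative ring k (the coordinate ring of an affine
group G = Spec A) and φ, ψ two k[ε]-valued points of G reducing to the unit point modulo ε (tangent
vectors at the identity). Then for every a ∈ A the ε-component of the product point φ · ψ at a — the
product of points being convolution, formed here as the triple convolution of φ, ψ and the unit
point — is the sum of the ε-components of φ(a) and ψ(a): on tangent vectors at the identity the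
group law of G induces addition. -/
theorem result (k : Type u) [CommRing k] (A : Type u) [CommRing A] [HopfAlgebra k A]
    (φ ψ : LieHopf.LiePts k A) (a : A) :
    TrivSqZeroExt.snd (Dyn.conv3 k A φ.1 ψ.1 ((Algebra.ofId k (DualNumber k)).comp (Bialgebra.counitAlgHom k A)) a) =
      LieHopf.LiePts.tangent k A φ a + LieHopf.LiePts.tangent k A ψ a := by
  have hA : ∀ t : (A ⊗[k] A) ⊗[k] A,
      Algebra.TensorProduct.lmul' (S := DualNumber k) k
        ((Algebra.TensorProduct.map
          ((Algebra.TensorProduct.lmul' (S := DualNumber k) k).comp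
            (Algebra.TensorProduct.map φ.1 ψ.1))
          ((Algebra.ofId k (DualNumber k)).comp (Bialgebra.counitAlgHom k A))) t) =
      Algebra.TensorProduct.lmul' (S := DualNumber k) k (Algebra.TensorProduct.map φ.1 ψ.1
        ((TensorProduct.rid k (A ⊗[k] A))
          ((Coalgebra.counit (R := k) (A := A)).lTensor (A ⊗[k] A) t))) := by
    intro t
    induction t using TensorProduct.induction_on with
    | zero => simp
    | tmul s z =>
      rw [Algebra.TensorProduct.map_tmul, Algebra.TensorProduct.lmul'_apply_tmul,
        LinearMap.lTensor_tmul, TensorProduct.rid_tmul, map_smul, map_smul]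
      simp only [AlgHom.comp_apply, Bialgebra.counitAlgHom_apply, Algebra.ofId_apply]
      rw [Algebra.smul_def, mul_comm]
    | add t₁ t₂ h₁ h₂ => simp only [map_add, h₁, h₂]
  have hB : ∀ t : A ⊗[k] A,
      (TensorProduct.rid k (A ⊗[k] A))
        ((Coalgebra.counit (R := k) (A := A)).lTensor (A ⊗[k] A)
          ((Algebra.TensorProduct.map (Bialgebra.comulAlgHom k A) (AlgHom.id k A)) t)) =
      Coalgebra.comul (R := k)
        ((TensorProduct.rid k A) ((Coalgebra.counit (R := k) (A := A)).lTensor A t)) := by
    intro t
    induction t using TensorProduct.induction_on with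
    | zero => simp
    | tmul x y =>
      rw [Algebra.TensorProduct.map_tmul, LinearMap.lTensor_tmul, TensorProduct.rid_tmul,
        LinearMap.lTensor_tmul, TensorProduct.rid_tmul, map_smul]
      rfl
    | add t₁ t₂ h₁ h₂ => simp only [map_add, h₁, h₂]
  have hC : ∀ t : A ⊗[k] A,
      TrivSqZeroExt.snd (Algebra.TensorProduct.lmul' (S := DualNumber k) k
        (Algebra.TensorProduct.map φ.1 ψ.1 t)) =
        TrivSqZeroExt.snd (ψ.1 ((TensorProduct.lid k A)
          ((Coalgebra.counit (R := k) (A := A)).rTensor A t))) +
        TrivSqZeroExt.snd (φ.1 ((TensorProduct.rid k A)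
          ((Coalgebra.counit (R := k) (A := A)).lTensor A t))) := by
    intro t
    induction t using TensorProduct.induction_on with
    | zero => simp
    | tmul x y =>
      rw [Algebra.TensorProduct.map_tmul, Algebra.TensorProduct.lmul'_apply_tmul,
        LinearMap.rTensor_tmul, TensorProduct.lid_tmul, LinearMap.lTensor_tmul,
        TensorProduct.rid_tmul, map_smul, map_smul, TrivSqZeroExt.snd_mul,
        TrivSqZeroExt.snd_smul, TrivSqZeroExt.snd_smul, φ.2 x, ψ.2 y]
      simp [Bialgebra.counitAlgHom_apply, mul_comm]
    | add t₁ t₂ h₁ h₂ =>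
      simp only [map_add, TrivSqZeroExt.snd_add, h₁, h₂]
      abel
  show TrivSqZeroExt.snd (Algebra.TensorProduct.lmul' (S := DualNumber k) k
    ((Algebra.TensorProduct.map
      ((Algebra.TensorProduct.lmul' (S := DualNumber k) k).comp
        (Algebra.TensorProduct.map φ.1 ψ.1))
      ((Algebra.ofId k (DualNumber k)).comp (Bialgebra.counitAlgHom k A)))
      ((Algebra.TensorProduct.map (Bialgebra.comulAlgHom k A) (AlgHom.id k A))
        (Bialgebra.comulAlgHom k A a)))) = _
  rw [hA, hB, Bialgebra.comulAlgHom_apply, Coalgebra.lTensor_counit_comul,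
    TensorProduct.rid_tmul, one_smul, hC, Coalgebra.rTensor_counit_comul,
    Coalgebra.lTensor_counit_comul, TensorProduct.lid_tmul, TensorProduct.rid_tmul, one_smul, add_comm]
  rfl

end Groth.Agent.S3045
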