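import Groth.Statements.S3046
import Mathlib

set_option autoImplicit false
universe u
open TensorProduct
open SGA3

namespace Groth.Agent.S3046

open scoped TensorProduct
open LinearMap WithConv Coalgebra

section
variable {k : Type u} [CommRing k] {A : Type u} [CommRing A] [HopfAlgebra k A]

theorem conv3_eq {R : Type u} [CommRing R] [Algebra k R] (f g h : A →ₐ[k] R) (a : A) :
    Dyn.conv3 k A f g h a =
      (toConv f.toLinearMap * toConv g.toLinearMap * toConv h.toLinearMap :
        WithConv (A →ₗ[k] R)) a := by
  have h2 : ∀ z : A ⊗[k] A,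
      Algebra.TensorProduct.lmul' (S := R) k (Algebra.TensorProduct.map f g z) =
      LinearMap.mul' k R (TensorProduct.map f.toLinearMap g.toLinearMap z) := by
    intro z
    induction z using TensorProduct.induction_on with
    | zero => simp
    | tmul x y => simp
    | add x y hx hy => simp only [map_add, hx, hy]
  rw [LinearMap.convMul_apply]
  show Algebra.TensorProduct.lmul' (S := R) k
      (Algebra.TensorProduct.map ((Algebra.TensorProduct.lmul' (S := R) k).comp
        (Algebra.TensorProduct.map f g)) h
        (Algebra.TensorProduct.map (Bialgebra.comulAlgHom k A) (AlgHom.id k A)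
          (CoalgebraStruct.comul a))) = _
  generalize (CoalgebraStruct.comul a : A ⊗[k] A) = z
  induction z using TensorProduct.induction_on with
  | zero => simp
  | tmul x y =>
    simp only [Algebra.TensorProduct.map_tmul, AlgHom.comp_apply,
      Algebra.TensorProduct.lmul'_apply_tmul, TensorProduct.map_tmul, LinearMap.mul'_apply,
      AlgHom.id_apply, Bialgebra.comulAlgHom_apply, h2, LinearMap.convMul_apply,
      AlgHom.toLinearMap_apply]
  | add x y hx hy => simp only [map_add, hx, hy]

theorem dlin_antipode (D : LieHopf.Lie k A) (a : A) :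
    LieHopf.dlin D (HopfAlgebra.antipode k a) = - LieHopf.dlin D a := by
  have h1 := HopfAlgebra.sum_antipode_mul_eq_algebraMap_counit (R := k) (ℛ k a)
  have h2 := congrArg (LieHopf.dlin D) h1
  rw [LieHopf.dlin_algebraMap, map_sum] at h2
  have h3 : ∀ i ∈ (ℛ k a).index,
      LieHopf.dlin D (HopfAlgebra.antipode k ((ℛ k a).left i) * (ℛ k a).right i) =
      LieHopf.dlin D (counit (R := k) ((ℛ k a).left i) • (ℛ k a).right i) +
      LieHopf.dlin D (HopfAlgebra.antipode k
        (counit (R := k) ((ℛ k a).right i) • (ℛ k a).left i)) := by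
    intro i _
    rw [LieHopf.dlin_mul, map_smul, map_smul, map_smul, smul_eq_mul, smul_eq_mul]
    simp only [Bialgebra.counitAlgHom_apply, HopfAlgebra.counit_antipode]
  rw [Finset.sum_congr rfl h3, Finset.sum_add_distrib, ← map_sum, ← map_sum, ← map_sum,
    sum_counit_smul] at h2
  have h4 : ∑ x ∈ (ℛ k a).index, counit (R := k) ((ℛ k a).right x) • (ℛ k a).left x = a := by
    have := congrArg (TensorProduct.lift ((LinearMap.lsmul k A).flip))
      (sum_tmul_counit_eq (R := k) (ℛ k a))
    simpa only [map_sum, TensorProduct.lift.tmul, LinearMap.flip_apply, LinearMap.lsmul_apply,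
      one_smul] using this
  rw [h4] at h2
  exact eq_neg_of_add_eq_zero_right h2

variable {R : Type u} [CommRing R] [Algebra k R]

/-- the derivation as an element of the convolution algebra -/
noncomputable def dW (D : LieHopf.Lie k A) : WithConv (A →ₗ[k] R) :=
  toConv ((Algebra.linearMap k R) ∘ₗ LieHopf.dlin D)

theorem pt_eq (D : LieHopf.Lie k A) (t : R) (ht : t * t = 0) :
    (toConv (LieHopf.ptOfLie D R t ht).toLinearMap : WithConv (A →ₗ[k] R)) =
      1 + t • dW (R := R) D := by
  apply WithConv.ext
  ext a
  show algebraMap k R (Bialgebra.counitAlgHom k A a) + algebraMap k R (LieHopf.dlin D a) * t =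
    algebraMap k R (counit (R := k) a) + t • algebraMap k R (LieHopf.dlin D a)
  rw [smul_eq_mul, mul_comm t]
  rfl

theorem ptS_eq (D : LieHopf.Lie k A) (t : R) (ht : t * t = 0) :
    (toConv ((LieHopf.ptOfLie D R t ht).comp (HopfAlgebra.antipodeAlgHom k A)).toLinearMap :
      WithConv (A →ₗ[k] R)) = 1 - t • dW (R := R) D := by
  apply WithConv.ext
  ext a
  show algebraMap k R (Bialgebra.counitAlgHom k A (HopfAlgebra.antipode k a)) +
      algebraMap k R (LieHopf.dlin D (HopfAlgebra.antipode k a)) * t =
    algebraMap k R (counit (R := k) a) - t • algebraMap k R (LieHopf.dlin D a)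
  rw [dlin_antipode, Bialgebra.counitAlgHom_apply, HopfAlgebra.counit_antipode, smul_eq_mul,
    map_neg]
  ring

theorem e_eq : (toConv ((Algebra.ofId k R).comp (Bialgebra.counitAlgHom k A)).toLinearMap :
      WithConv (A →ₗ[k] R)) = 1 := by
  apply WithConv.ext
  ext a
  rfl

theorem comm_expand {W : Type*} [Ring W] (p q : W) (hpp : p * p = 0) (hqq : q * q = 0)
    (hpqp : p * q * p = 0) (hqpq : q * p * q = 0) :
    (1 + p) * (1 + q) * (1 - p) * (1 - q) * 1 = 1 + (p * q - q * p) := by
  have h1 : (1 + p) * (1 + q) * (1 - p) = 1 + q + p * q - q * p - p * p - p * q * p := by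
    noncomm_ring
  rw [hpp, hpqp, sub_zero, sub_zero] at h1
  have h2 : (1 + q + p * q - q * p) * (1 - q) =
      1 + (p * q - q * p) - q * q - p * (q * q) + q * p * q := by
    noncomm_ring
  rw [mul_one, h1, h2, hqq, hqpq, mul_zero, sub_zero, sub_zero, add_zero]

theorem dW_mul_apply (D E : LieHopf.Lie k A) (a : A) :
    (dW (R := R) D * dW (R := R) E) a =
      algebraMap k R (LieHopf.conv (LieHopf.dlin D) (LieHopf.dlin E) a) := by
  rw [LinearMap.convMul_apply]
  show _ = algebraMap k R (LinearMap.mul' k k (TensorProduct.map (LieHopf.dlin D) (LieHopf.dlin E)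
    (CoalgebraStruct.comul a)))
  generalize (CoalgebraStruct.comul a : A ⊗[k] A) = z
  induction z using TensorProduct.induction_on with
  | zero => simp
  | tmul x y =>
    simp only [dW, TensorProduct.map_tmul, LinearMap.mul'_apply, LinearMap.comp_apply,
      Algebra.linearMap_apply, map_mul]
  | add x y hx hy => simp only [map_add, hx, hy]

end


/-- Let A be a commutative Hopf algebra over a commutative ring k, D and E two ε-derivations A → k
(tangent vectors at the identity of G = Spec A), R a commutative k-algebra and t, t' ∈ R with t² = 0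
= t'². Let x = e + tD and y = e + t'E be the corresponding R-points of G. Then the commutator x y
x⁻¹ y⁻¹ (product of points; the inverse of a point is its composite with the antipode) is the point
a ↦ ε(a) + [D, E](a) · t t', where [D, E] = D ⋆ E − E ⋆ D is the convolution commutator. -/
theorem result (k : Type u) [CommRing k] (A : Type u) [CommRing A] [HopfAlgebra k A]
    (D E : LieHopf.Lie k A) (R : Type u) [CommRing R] [Algebra k R] (t t' : R) (ht : t * t = 0) (ht' : t' * t' = 0)
    (a : A) :
    Dyn.conv3 k A
        (Dyn.conv3 k A (LieHopf.ptOfLie D R t ht) (LieHopf.ptOfLie E R t' ht')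
          ((LieHopf.ptOfLie D R t ht).comp (HopfAlgebra.antipodeAlgHom k A)))
        ((LieHopf.ptOfLie E R t' ht').comp (HopfAlgebra.antipodeAlgHom k A))
        ((Algebra.ofId k R).comp (Bialgebra.counitAlgHom k A)) a =
      algebraMap k R (Bialgebra.counitAlgHom k A a) + algebraMap k R (LieHopf.bracketLin D E a) * (t * t') := by
  rw [conv3_eq]
  have hx : ∀ b : A, Dyn.conv3 k A (LieHopf.ptOfLie D R t ht) (LieHopf.ptOfLie E R t' ht')
          ((LieHopf.ptOfLie D R t ht).comp (HopfAlgebra.antipodeAlgHom k A)) b =
      ((1 + t • dW (R := R) D) * (1 + t' • dW (R := R) E) * (1 - t • dW (R := R) D) :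
        WithConv (A →ₗ[k] R)) b := by
    intro b
    rw [conv3_eq, pt_eq, pt_eq, ptS_eq]
  have hx' : (WithConv.toConv (Dyn.conv3 k A (LieHopf.ptOfLie D R t ht) (LieHopf.ptOfLie E R t' ht')
          ((LieHopf.ptOfLie D R t ht).comp (HopfAlgebra.antipodeAlgHom k A))).toLinearMap :
        WithConv (A →ₗ[k] R)) =
      (1 + t • dW (R := R) D) * (1 + t' • dW (R := R) E) * (1 - t • dW (R := R) D) := by
    apply WithConv.ext
    ext b
    exact hx b
  rw [hx', ptS_eq, e_eq]
  have hpp : (t • dW (R := R) D) * (t • dW (R := R) D) = 0 := by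
    rw [smul_mul_smul_comm, ht, zero_smul]
  have hqq : (t' • dW (R := R) E) * (t' • dW (R := R) E) = 0 := by
    rw [smul_mul_smul_comm, ht', zero_smul]
  have hpqp : (t • dW (R := R) D) * (t' • dW (R := R) E) * (t • dW (R := R) D) = 0 := by
    rw [smul_mul_smul_comm, smul_mul_smul_comm]
    have : t * t' * t = 0 := by
      calc t * t' * t = t' * (t * t) := by ring
        _ = 0 := by rw [ht, mul_zero]
    rw [this, zero_smul]
  have hqpq : (t' • dW (R := R) E) * (t • dW (R := R) D) * (t' • dW (R := R) E) = 0 := by
    rw [smul_mul_smul_comm, smul_mul_smul_comm]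
    have : t' * t * t' = 0 := by
      calc t' * t * t' = t * (t' * t') := by ring
        _ = 0 := by rw [ht', mul_zero]
    rw [this, zero_smul]
  rw [comm_expand _ _ hpp hqq hpqp hqpq, smul_mul_smul_comm, smul_mul_smul_comm]
  show algebraMap k R (Coalgebra.counit (R := k) a) +
      (((t * t') • (dW (R := R) D * dW (R := R) E)) a -
        ((t' * t) • (dW (R := R) E * dW (R := R) D)) a) = _
  have e1 : ((t * t') • (dW (R := R) D * dW (R := R) E)) a =
      (t * t') • ((dW (R := R) D * dW (R := R) E) a) := rfl
  have e2 : ((t' * t) • (dW (R := R) E * dW (R := R) D)) a =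
      (t' * t) • ((dW (R := R) E * dW (R := R) D) a) := rfl
  rw [e1, e2, dW_mul_apply, dW_mul_apply, smul_eq_mul, smul_eq_mul]
  have e3 : LieHopf.bracketLin D E a =
      LieHopf.conv (LieHopf.dlin D) (LieHopf.dlin E) a -
        LieHopf.conv (LieHopf.dlin E) (LieHopf.dlin D) a := rfl
  rw [e3, map_sub, Bialgebra.counitAlgHom_apply]
  ring

end Groth.Agent.S3046
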