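import Groth.Statements.S3063
import Groth.Agent.Lib.helper2.Topos

set_option autoImplicit false
open CategoryTheory CategoryTheory.Limits Opposite
universe u
open ToposFin

namespace Groth.Agent.S3063

/-- For a topos of sheaves of sets on a small site: suppose given a family of quasi-compact objects G_a
which is generating (every object receives a jointly epimorphic family from the G_a). Then f : X ->
Y is quasi-compact if and only if X x_Y G_a is quasi-compact for every a and every morphism G_a ->
Y. -/
theorem result {C : Type u} [SmallCategory C] {J : GrothendieckTopology C} {α : Type u} (G : α → ToposFin.Sh J)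
    (hG : ∀ a, ToposFin.IsQC (G a))
    (hgen : ∀ X : ToposFin.Sh J, ∃ (ι : Type u) (a : ι → α) (π : ∀ i, G (a i) ⟶ X), Epi (Sigma.desc π))
    {X Y : ToposFin.Sh J} (f : X ⟶ Y) :
    ToposFin.IsQCHom f ↔ ∀ (a : α) (s : G a ⟶ Y), ToposFin.IsQC (pullback f s) := by
  constructor
  · intro h a s
    exact h (G a) s (hG a)
  · intro h
    have hE := H2Topos.genBy_of_family G hgen (fun A => ∀ s : A ⟶ Y, ToposFin.IsQC (pullback f s))
      (fun a s => h a s)
    refine H2Topos.isQCHom_of_local hE f (fun _ : PUnit.{u+1} => Y) (fun _ => 𝟙 Y)
      (fun T a b hab => by simpa using hab PUnit.unit) (fun _ A α hA => hA _)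

end Groth.Agent.S3063
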