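import Groth.Statements.S3068
import Groth.Agent.Lib.helper2.Topos

set_option autoImplicit false
open CategoryTheory CategoryTheory.Limits Opposite
universe u
open ToposFin

namespace Groth.Agent.S3068

/-- For a topos of sheaves of sets on a small site: given a generating family of quasi-compact objects
G_a, an object Y is quasi-separated if and only if every morphism G_a -> Y is quasi-compact. -/
theorem result {C : Type u} [SmallCategory C] {J : GrothendieckTopology C} {α : Type u} (G : α → ToposFin.Sh J) (hG : ∀ a, ToposFin.IsQC (G a))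
    (hgen : ∀ X : ToposFin.Sh J, ∃ (ι : Type u) (a : ι → α) (π : ∀ i, G (a i) ⟶ X), Epi (Sigma.desc π))
    (Y : ToposFin.Sh J) :
    ToposFin.IsQS Y ↔ ∀ (a : α) (s : G a ⟶ Y), ToposFin.IsQCHom s := by
  constructor
  · intro hY a s
    exact H2Topos.isQCHom_of_isQC_of_isQS s (hG a) hY
  · intro h Y' Z' a b hY' hZ'
    have hE := H2Topos.genBy_of_family G hgen
      (fun A => ∀ s : A ⟶ Y, ToposFin.IsQCHom s) (fun a s => h a s)
    obtain ⟨κ, hκ, A, c, hA, hc⟩ := H2Topos.exists_finite_cover hE hY'
    haveI := hκ
    exact H2Topos.isQC_pullback_of_cover_left a b A c hc (fun k => hA k (c k ≫ a) Z' b hZ')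

end Groth.Agent.S3068
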