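import Groth.Statements.S3140
import Mathlib
import Groth.Agent.Lib.helper2.RegChain

set_option autoImplicit false
universe u
open RingTheory.Sequence
open SGA4h

namespace Groth.Agent.S3140

/-- Let A be a Noetherian local ring and u, v two regular sequences of elements of A generating the same
ideal. Then there is a finite chain of regular sequences generating that same ideal, starting at u
and ending at v, in which each sequence is obtained from the previous one either by a permutation or
by changing only its last element. -/
theorem result (A : Type u) [CommRing A] [IsLocalRing A] [IsNoetherianRing A]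
    (u v : List A) (hu : IsRegular A u) (hv : IsRegular A v) (huv : Ideal.span {x | x ∈ u} = Ideal.span {x | x ∈ v}) :
    ∃ ws : List (List A), ws.head? = some u ∧ ws.getLast? = some v ∧
      (∀ w ∈ ws, IsRegular A w ∧ Ideal.span {x | x ∈ w} = Ideal.span {x | x ∈ u}) ∧
      List.IsChain (fun w w' : List A => w.Perm w' ∨ (w.length = w'.length ∧ w.dropLast = w'.dropLast)) ws := by
  obtain ⟨hrtg, hreg⟩ := h2_regchain u v hu hv huv
  obtain ⟨l, hl1, hl2⟩ := List.exists_isChain_cons_of_relationReflTransGen hrtg
  have hgood : ∀ w ∈ u :: l, h2Good (Ideal.span {x | x ∈ u}) u.length w :=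
    List.IsChain.induction (h2Good (Ideal.span {x | x ∈ u}) u.length) (u :: l) hl1
      (fun x y h _ => h.2) (fun _ => ⟨rfl, rfl⟩)
  refine ⟨u :: l, rfl, ?_, ?_, ?_⟩
  · rw [List.getLast?_eq_some_getLast (List.cons_ne_nil _ _), hl2]
  · intro w hw
    exact ⟨hreg w (hgood w hw), (hgood w hw).2⟩
  · exact hl1.imp (fun a b h => h.1)

end Groth.Agent.S3140
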