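import Groth.Statements.S3208
import Mathlib

set_option autoImplicit false
open SGA7

namespace Groth.Agent.S3208

/-- Let E be a commutative ring which is finitely generated and torsion-free as an additive group, u an
element of E of finite multiplicative order (u^m = 1 for some m > 0), and n ≥ 2 an integer with u ≡
1 modulo nE (i.e. 1 - u = n·v for some v ∈ E). Then u² = 1, and if n ≥ 3 then u = 1. -/
theorem result (E : Type) [CommRing E] [NoZeroSMulDivisors ℤ E] [Module.Finite ℤ E] (u : E) (m : ℕ) (hm : 0 < m)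
    (hu : u ^ m = 1) (n : ℕ) (hn : 2 ≤ n) (hcong : ∃ v : E, 1 - u = (n : E) * v) :
    u ^ 2 = 1 ∧ (3 ≤ n → u = 1) := by
  classical
  have hcancel : ∀ (k : ℕ) (z : E), 0 < k → (k : E) * z = 0 → z = 0 := by
    intro k z hk hz
    have h1 : (k : ℤ) • z = 0 := by rw [zsmul_eq_mul, Int.cast_natCast]; exact hz
    rcases smul_eq_zero.mp h1 with h | h
    · exact absurd (by exact_mod_cast h) hk.ne'
    · exact h
  have hfree : Module.Free ℤ E := inferInstance
  have hmult : ∀ (p : ℕ), 2 ≤ p → ∀ x : E, (∀ j : ℕ, (p : E) ^ j ∣ x) → x = 0 := by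
    intro p hp x hx
    let b := Module.Free.chooseBasis ℤ E
    apply b.repr.injective
    ext i
    rw [map_zero, Finsupp.zero_apply]
    by_contra hne
    obtain ⟨a, ha⟩ : ∃ a, a = b.repr x i := ⟨_, rfl⟩
    rw [← ha] at hne
    obtain ⟨z, hz⟩ := hx (a.natAbs)
    have h1 : b.repr x i = (p : ℤ) ^ a.natAbs * b.repr z i := by
      have h0 : ((p : E) ^ a.natAbs * z) = ((p : ℤ) ^ a.natAbs) • z := by
        rw [zsmul_eq_mul]; push_cast; rfl
      rw [hz, h0, map_smul, Finsupp.smul_apply, smul_eq_mul]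
    have h2 : (p : ℤ) ^ a.natAbs ∣ a := ⟨_, ha.trans h1⟩
    have h3 := Int.natAbs_dvd_natAbs.mpr h2
    rw [Int.natAbs_pow, Int.natAbs_natCast] at h3
    have h4 : p ^ a.natAbs ≤ a.natAbs := Nat.le_of_dvd (Int.natAbs_pos.mpr hne) h3
    have h5 : a.natAbs < p ^ a.natAbs := Nat.lt_pow_self hp
    omega
  have ML : ∀ (p e : ℕ), p.Prime → 1 ≤ e → ¬ (p = 2 ∧ e = 1) → ∀ (ℓ : ℕ), ℓ.Prime →
      ∀ w : E, w ^ ℓ = 1 → (p : E) ^ e ∣ w - 1 → w = 1 := by
    intro p e hp he hpe ℓ hℓ w hw hdvd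
    by_contra hw1
    have hx0 : w - 1 ≠ 0 := sub_ne_zero.mpr hw1
    have hex : ∃ j, ¬ (p : E) ^ j ∣ w - 1 := by
      by_contra hall
      push Not at hall
      exact hx0 (hmult p hp.two_le _ hall)
    have hj₁ : ¬ (p : E) ^ (Nat.find hex) ∣ w - 1 := Nat.find_spec hex
    have hj₁e : e < Nat.find hex := by
      by_contra hle
      push Not at hle
      exact hj₁ (dvd_trans (pow_dvd_pow _ hle) hdvd)
    obtain ⟨j, hj⟩ : ∃ j, Nat.find hex = j + 1 := ⟨Nat.find hex - 1, by omega⟩
    have hjdvd : (p : E) ^ j ∣ w - 1 := by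
      have h0 := Nat.find_min hex (m := j) (by omega)
      push Not at h0
      exact h0
    have hjn : ¬ (p : E) ^ (j + 1) ∣ w - 1 := hj ▸ hj₁
    have hej : e ≤ j := by omega
    obtain ⟨y, hy⟩ := hjdvd
    have hyp : ¬ (p : E) ∣ y := by
      rintro ⟨y', rfl⟩
      exact hjn ⟨y', by rw [hy, pow_succ]; ring⟩
    obtain ⟨c, hc⟩ : ∃ c : E, c = ∑ i ∈ Finset.range ℓ, ∑ r ∈ Finset.range i, w ^ r := ⟨_, rfl⟩
    have hgeom : ∑ i ∈ Finset.range ℓ, w ^ i = (ℓ : E) + (w - 1) * c := by
      rw [hc, Finset.mul_sum]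
      have h0 : ∀ i, (w - 1) * ∑ r ∈ Finset.range i, w ^ r = w ^ i - 1 :=
        fun i => mul_geom_sum w i
      simp only [h0, Finset.sum_sub_distrib, Finset.sum_const, Finset.card_range, nsmul_eq_mul,
        mul_one]
      ring
    have hmain : (w - 1) * ((ℓ : E) + (w - 1) * c) = 0 := by
      rw [← hgeom, mul_geom_sum, hw, sub_self]
    rw [hy] at hmain
    have h1 : y * ((ℓ : E) + (p : E) ^ j * y * c) = 0 := by
      have h0 : ((p ^ j : ℕ) : E) * (y * ((ℓ : E) + (p : E) ^ j * y * c)) = 0 := by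
        push_cast; linear_combination hmain
      exact hcancel (p ^ j) _ (pow_pos hp.pos j) h0
    have hj1 : 1 ≤ j := le_trans he hej
    obtain ⟨j', rfl⟩ : ∃ j', j = j' + 1 := ⟨j - 1, by omega⟩
    by_cases hℓp : ℓ = p
    · subst hℓp
      have h2 : y * (1 + (ℓ : E) ^ j' * y * c) = 0 := by
        have h0 : ((ℓ : ℕ) : E) * (y * (1 + (ℓ : E) ^ j' * y * c)) = 0 := by
          linear_combination h1
        exact hcancel ℓ _ hℓ.pos h0
      have h3 : y = -((ℓ : E) ^ j' * y * y * c) := by linear_combination h2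
      by_cases hj' : 1 ≤ j'
      · apply hyp
        obtain ⟨j'', rfl⟩ : ∃ j'', j' = j'' + 1 := ⟨j' - 1, by omega⟩
        exact ⟨-((ℓ : E) ^ j'' * y * y * c), by linear_combination h3⟩
      · have hj'0 : j' = 0 := by omega
        subst hj'0
        have he1 : e = 1 := by omega
        have hp2 : ℓ ≠ 2 := fun h => hpe ⟨h, he1⟩
        have hcdvd : (ℓ : E) ∣ c := by
          rw [← Ideal.mem_span_singleton, ← Ideal.Quotient.eq_zero_iff_mem]
          have hℓq : Ideal.Quotient.mk (Ideal.span {(ℓ : E)}) (ℓ : E) = 0 :=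
            Ideal.Quotient.eq_zero_iff_mem.mpr (Ideal.mem_span_singleton_self _)
          have hwq : Ideal.Quotient.mk (Ideal.span {(ℓ : E)}) w = 1 := by
            have h0 : w - 1 ∈ Ideal.span {(ℓ : E)} := by
              rw [Ideal.mem_span_singleton]; exact ⟨y, by rw [hy]; ring⟩
            have h00 := Ideal.Quotient.eq_zero_iff_mem.mpr h0
            rwa [map_sub, map_one, sub_eq_zero] at h00
          rw [hc]
          simp only [map_sum, map_pow, hwq, one_pow, Finset.sum_const, Finset.card_range,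
            nsmul_eq_mul, mul_one]
          rw [← Nat.cast_sum, Finset.sum_range_id]
          obtain ⟨k, hk⟩ : ∃ k, ℓ - 1 = 2 * k := by
            rcases hℓ.eq_two_or_odd' with h | ⟨k, hk⟩
            · exact absurd h hp2
            · exact ⟨k, by omega⟩
          have h6 : ℓ * (2 * k) / 2 = ℓ * k := by
            rw [show ℓ * (2 * k) = 2 * (ℓ * k) by ring]
            exact Nat.mul_div_cancel_left _ (by norm_num)
          rw [hk, h6]
          have h5 : ((ℓ * k : ℕ) : E ⧸ Ideal.span {(ℓ : E)}) =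
              Ideal.Quotient.mk (Ideal.span {(ℓ : E)}) (ℓ : E) * (k : E ⧸ Ideal.span {(ℓ : E)}) := by
            push_cast
            rw [map_natCast]
          rw [h5, hℓq, zero_mul]
        obtain ⟨c', rfl⟩ := hcdvd
        apply hyp
        exact ⟨-(y * y * c'), by linear_combination h3⟩
    · have hcop : IsCoprime (ℓ : ℤ) (p : ℤ) :=
        Nat.isCoprime_iff_coprime.mpr ((Nat.coprime_primes hℓ hp).mpr hℓp)
      obtain ⟨s, t, hst⟩ := hcop
      have hstE : (s : E) * (ℓ : E) + (t : E) * (p : E) = 1 := by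
        exact_mod_cast congrArg (Int.cast : ℤ → E) hst
      apply hyp
      refine ⟨(t : E) * y - (s : E) * (p : E) ^ j' * y * y * c, ?_⟩
      linear_combination (-y) * hstE + (s : E) * h1
  have MAIN : ∀ (p e : ℕ), p.Prime → 1 ≤ e → ¬ (p = 2 ∧ e = 1) → ∀ (m : ℕ), 0 < m →
      ∀ w : E, w ^ m = 1 → (p : E) ^ e ∣ w - 1 → w = 1 := by
    intro p e hp he hpe m
    induction m using Nat.strong_induction_on with
    | _ m ih =>
      intro hm w hw hdvd
      by_cases hm1 : m = 1
      · subst hm1; simpa using hw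
      · obtain ⟨ℓ, hℓ, hℓm⟩ := Nat.exists_prime_and_dvd hm1
        obtain ⟨m', rfl⟩ := hℓm
        have hm' : 0 < m' := Nat.pos_of_mul_pos_left hm
        have h1 : (w ^ m') ^ ℓ = 1 := by rw [← pow_mul, mul_comm]; exact hw
        have h2 : (p : E) ^ e ∣ w ^ m' - 1 :=
          dvd_trans hdvd (by simpa using sub_dvd_pow_sub_pow w 1 m')
        have h3 := ML p e hp he hpe ℓ hℓ (w ^ m') h1 h2
        exact ih m' (by nlinarith [hℓ.two_le]) hm' w h3 hdvd
  obtain ⟨v, hv⟩ := hcong
  have hu1 : (n : E) ∣ u - 1 := ⟨-v, by linear_combination -hv⟩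
  have big : ∀ n' : ℕ, 3 ≤ n' → ∀ (m : ℕ), 0 < m → ∀ w : E, w ^ m = 1 → (n' : E) ∣ w - 1 →
      w = 1 := by
    intro n' hn' m hm w hw hd
    by_cases hodd : ∃ p, p.Prime ∧ p ∣ n' ∧ p ≠ 2
    · obtain ⟨p, hp, hpn, hp2⟩ := hodd
      refine MAIN p 1 hp le_rfl (fun h => hp2 h.1) m hm w hw ?_
      rw [pow_one]; exact dvd_trans (Nat.cast_dvd_cast hpn) hd
    · push Not at hodd
      have h4 : 4 ∣ n' := by
        have h0 := Nat.eq_prime_pow_of_unique_prime_dvd (by omega : n' ≠ 0) (p := 2)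
          (fun {d} hd hdn => hodd d hd hdn)
        obtain ⟨k, hk⟩ : ∃ k, n' = 2 ^ k := ⟨_, h0⟩
        have hk2 : 2 ≤ k := by
          by_contra hlt
          push Not at hlt
          interval_cases k <;> omega
        rw [hk]
        exact pow_dvd_pow 2 hk2
      refine MAIN 2 2 Nat.prime_two (by norm_num) (by norm_num) m hm w hw ?_
      have h5 : ((4 : ℕ) : E) ∣ (n' : E) := Nat.cast_dvd_cast h4
      refine dvd_trans ?_ (dvd_trans h5 hd)
      norm_num
  constructor
  · by_cases h3 : 3 ≤ n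
    · rw [big n h3 m hm u hu hu1]; simp
    · have hn2 : n = 2 := by omega
      subst hn2
      have h4 : ((4 : ℕ) : E) ∣ u ^ 2 - 1 :=
        ⟨v * v - v, by push_cast at hv ⊢; linear_combination (-(u + 1 - 2 * v)) * hv⟩
      have h5 := big 4 (by norm_num) m hm (u ^ 2)
        (by rw [← pow_mul, mul_comm, pow_mul, hu, one_pow]) h4
      exact h5
  · intro h3; exact big n h3 m hm u hu hu1

end Groth.Agent.S3208
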