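import Groth.Statements.S3209
import Mathlib

set_option autoImplicit false
universe u
open TensorProduct
open SGA7

namespace Groth.Agent.S3209

/-- Let f : B' → B be a surjective map of R-algebras with kernel J, g : C → B a map of R-algebras, P =
B' ×_B C their fibre product (the equalizer of f ∘ pr₁ and g ∘ pr₂ in B' × C) and S an R-algebra
such that S ⊗_R J → S ⊗_R B' is injective (this holds when Tor_1^R(B, S) = 0, the published
hypothesis, and in particular when S is flat). Then the canonical map S ⊗_R P → (S ⊗_R B') ×_{S ⊗_R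
B} (S ⊗_R C) is bijective: it is injective, and every pair with the same image in S ⊗_R B comes from
S ⊗_R P. -/
theorem result (R B' B C S : Type u) [CommRing R] [CommRing B'] [CommRing B] [CommRing C]
    [CommRing S] [Algebra R B'] [Algebra R B] [Algebra R C] [Algebra R S]
    (f : B' →ₐ[R] B) (hf : Function.Surjective f) (g : C →ₐ[R] B)
    (hJ : Function.Injective (LinearMap.lTensor S (LinearMap.ker f.toLinearMap).subtype)) :
    letI P := AlgHom.equalizer (f.comp (AlgHom.fst R B' C)) (g.comp (AlgHom.snd R B' C))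
    letI φ₁ := Algebra.TensorProduct.map (AlgHom.id R S) ((AlgHom.fst R B' C).comp P.val)
    letI φ₂ := Algebra.TensorProduct.map (AlgHom.id R S) ((AlgHom.snd R B' C).comp P.val)
    Function.Injective (fun z : S ⊗[R] ↥P => (φ₁ z, φ₂ z)) ∧
    ∀ (x : S ⊗[R] B') (y : S ⊗[R] C),
      Algebra.TensorProduct.map (AlgHom.id R S) f x = Algebra.TensorProduct.map (AlgHom.id R S) g y →
        ∃ z : S ⊗[R] ↥P, φ₁ z = x ∧ φ₂ z = y := by
  let P := AlgHom.equalizer (f.comp (AlgHom.fst R B' C)) (g.comp (AlgHom.snd R B' C))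
  let φ₁ := Algebra.TensorProduct.map (AlgHom.id R S) ((AlgHom.fst R B' C).comp P.val)
  let φ₂ := Algebra.TensorProduct.map (AlgHom.id R S) ((AlgHom.snd R B' C).comp P.val)
  show Function.Injective (fun z : S ⊗[R] ↥P => (φ₁ z, φ₂ z)) ∧
    ∀ (x : S ⊗[R] B') (y : S ⊗[R] C),
      Algebra.TensorProduct.map (AlgHom.id R S) f x = Algebra.TensorProduct.map (AlgHom.id R S) g y →
        ∃ z : S ⊗[R] ↥P, φ₁ z = x ∧ φ₂ z = y
  -- linear data
  let J : Submodule R B' := LinearMap.ker f.toLinearMap
  let pr₁ : ↥P →ₗ[R] B' := ((AlgHom.fst R B' C).comp P.val).toLinearMap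
  let pr₂ : ↥P →ₗ[R] C := ((AlgHom.snd R B' C).comp P.val).toLinearMap
  have hPmem : ∀ x : B' × C, x ∈ P ↔ f x.1 = g x.2 := fun x => Iff.rfl
  let j : ↥J →ₗ[R] ↥P :=
    LinearMap.codRestrict (Subalgebra.toSubmodule P) ((LinearMap.inl R B' C).comp J.subtype)
      (fun b => by
        show ((b : B'), (0 : C)) ∈ P
        rw [hPmem]
        have : f (b : B') = 0 := b.2
        simp [this])
  have hj1 : ∀ b : ↥J, pr₁ (j b) = (b : B') := fun b => rfl
  have hj2 : ∀ b : ↥J, pr₂ (j b) = 0 := fun b => rfl
  have hpr₂surj : Function.Surjective pr₂ := by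
    intro c
    obtain ⟨b', hb'⟩ := hf (g c)
    exact ⟨⟨(b', c), (hPmem _).2 hb'⟩, rfl⟩
  have hex : Function.Exact j pr₂ := by
    intro x
    constructor
    · intro hx
      obtain ⟨⟨b', c⟩, hbc⟩ := x
      have hc : c = 0 := hx
      subst hc
      have hb : f b' = 0 := by
        have := (hPmem _).1 hbc
        simpa using this
      exact ⟨⟨b', hb⟩, rfl⟩
    · rintro ⟨b, rfl⟩
      exact hj2 b
  have hexf : Function.Exact J.subtype f.toLinearMap := LinearMap.exact_subtype_ker_map _
  have hfsurj : Function.Surjective f.toLinearMap := hf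
  have hexS := lTensor_exact S hex hpr₂surj
  have hexfS := lTensor_exact S hexf hfsurj
  -- identification of the algebra maps with lTensor
  have hφ₁ : ∀ z, φ₁ z = pr₁.lTensor S z := by
    intro z
    induction z using TensorProduct.induction_on with
    | zero => simp
    | tmul s p => rfl
    | add x y hx hy => rw [map_add, map_add, hx, hy]
  have hφ₂ : ∀ z, φ₂ z = pr₂.lTensor S z := by
    intro z
    induction z using TensorProduct.induction_on with
    | zero => simp
    | tmul s p => rfl
    | add x y hx hy => rw [map_add, map_add, hx, hy]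
  have hmapf : ∀ x, Algebra.TensorProduct.map (AlgHom.id R S) f x = f.toLinearMap.lTensor S x := by
    intro z
    induction z using TensorProduct.induction_on with
    | zero => simp
    | tmul s p => rfl
    | add x y hx hy => rw [map_add, map_add, hx, hy]
  have hmapg : ∀ y, Algebra.TensorProduct.map (AlgHom.id R S) g y = g.toLinearMap.lTensor S y := by
    intro z
    induction z using TensorProduct.induction_on with
    | zero => simp
    | tmul s p => rfl
    | add x y hx hy => rw [map_add, map_add, hx, hy]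
  have hcomp1 : ∀ w, pr₁.lTensor S (j.lTensor S w) = J.subtype.lTensor S w := by
    intro w
    rw [← LinearMap.comp_apply, ← LinearMap.lTensor_comp]
    rfl
  have hcomp2 : ∀ w, pr₂.lTensor S (j.lTensor S w) = 0 := by
    intro w
    rw [← LinearMap.comp_apply, ← LinearMap.lTensor_comp]
    have : pr₂.comp j = 0 := by ext b; exact hj2 b
    rw [this, LinearMap.lTensor_zero, LinearMap.zero_apply]
  have hsq : ∀ z, f.toLinearMap.lTensor S (pr₁.lTensor S z) = g.toLinearMap.lTensor S (pr₂.lTensor S z) := by
    intro z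
    rw [← LinearMap.comp_apply, ← LinearMap.comp_apply, ← LinearMap.lTensor_comp,
      ← LinearMap.lTensor_comp]
    congr 2
    ext p
    exact (hPmem _).1 p.2
  refine ⟨?_, ?_⟩
  · intro z z' hzz'
    have h1 : φ₁ z = φ₁ z' := congrArg Prod.fst hzz'
    have h2 : φ₂ z = φ₂ z' := congrArg Prod.snd hzz'
    have hd1 : pr₁.lTensor S (z - z') = 0 := by
      rw [map_sub, ← hφ₁, ← hφ₁, h1, sub_self]
    have hd2 : pr₂.lTensor S (z - z') = 0 := by
      rw [map_sub, ← hφ₂, ← hφ₂, h2, sub_self]
    obtain ⟨w, hw⟩ := (hexS (z - z')).1 hd2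
    have hw0 : J.subtype.lTensor S w = 0 := by
      rw [← hcomp1, hw, hd1]
    have : w = 0 := hJ (by rw [hw0, map_zero])
    rw [this, map_zero] at hw
    exact sub_eq_zero.1 hw.symm
  · intro x y hxy
    rw [hmapf, hmapg] at hxy
    obtain ⟨z₀, hz₀⟩ := LinearMap.lTensor_surjective S hpr₂surj y
    have hker : f.toLinearMap.lTensor S (x - pr₁.lTensor S z₀) = 0 := by
      rw [map_sub, hsq, hz₀, hxy, sub_self]
    obtain ⟨w, hw⟩ := (hexfS _).1 hker
    refine ⟨z₀ + j.lTensor S w, ?_, ?_⟩
    · rw [hφ₁, map_add, hcomp1, hw]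
      abel
    · rw [hφ₂, map_add, hcomp2, hz₀, add_zero]

end Groth.Agent.S3209
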