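import Groth.Statements.S3248
import Mathlib
import Groth.Agent.Lib.helper2.CSAIdeal

set_option autoImplicit false
universe u
open TensorProduct
open Dix

namespace Groth.Agent.S3248

/-- Stated for a commutative subalgebra: let A be a central simple algebra of dimension r² over a field
k and L a commutative k-algebra embedded in A by an injective k-algebra homomorphism ι, such that A
is free of rank r for the right L-module structure a · l = a ι(l) (given here as a module structure
together with that compatibility). Then L ⊗_k A is isomorphic as an L-algebra to the matrix algebra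
M_r(L). (Only the existence of an isomorphism is stated; the text names the map a ⊗ l ↦ (y ↦ a y
l).) -/
theorem result (k : Type u) [Field k] (A : Type u) [Ring A] [Algebra k A] [Algebra.IsCentral k A] [IsSimpleRing A] [FiniteDimensional k A] (L : Type u) [CommRing L] [Algebra k L] (ι : L →ₐ[k] A) (hι : Function.Injective ι) [Module L A] (hmod : ∀ (l : L) (a : A), l • a = a * ι l) [Module.Free L A] (r : ℕ) (hr : 0 < r) (hA : Module.finrank k A = r ^ 2) (hrank : Module.finrank L A = r) : Nonempty ((L ⊗[k] A) ≃ₐ[L] Matrix (Fin r) (Fin r) L) := by
  classical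
  haveI : Nontrivial A := inferInstance
  haveI : Nontrivial L := by
    by_contra hL
    rw [not_nontrivial_iff_subsingleton] at hL
    haveI := hL
    haveI : Subsingleton A := Module.subsingleton L A
    exact not_subsingleton A ‹_›
  haveI hfinLA : Module.Finite L A := Module.finite_of_finrank_pos (by rw [hrank]; exact hr)
  haveI hfinkL : Module.Finite k L := Module.Finite.of_injective ι.toLinearMap hι
  haveI scc : SMulCommClass L k A := ⟨fun l c a => by
    rw [hmod, hmod, smul_mul_assoc]⟩
  haveI ist : IsScalarTower k L A := ⟨fun c l a => by
    rw [hmod, hmod, map_smul, mul_smul_comm]⟩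
  haveI scc' : SMulCommClass k L A := SMulCommClass.symm _ _ _
  -- the two maps
  let g : A →ₐ[k] Module.End L A :=
    { toFun := fun a =>
        { toFun := fun y => a * y
          map_add' := mul_add a
          map_smul' := fun l y => by simp only [hmod, RingHom.id_apply, mul_assoc] }
      map_one' := by ext y; simp
      map_mul' := fun a b => by ext y; simp [mul_assoc]
      map_zero' := by ext y; simp
      map_add' := fun a b => by ext y; simp [add_mul]
      commutes' := fun c => by
        ext y
        simp [Algebra.algebraMap_eq_smul_one] }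
  have hg : ∀ a y, g a y = a * y := fun a y => rfl
  let f : L →ₐ[L] Module.End L A := Algebra.ofId L (Module.End L A)
  have hf : ∀ l y, f l y = y * ι l := fun l y => by
    show (algebraMap L (Module.End L A) l) y = _
    rw [Module.algebraMap_end_apply, hmod]
  have hcomm : ∀ l a, Commute (f l) (g a) := fun l a => by
    ext y
    simp only [Module.End.mul_apply, hf, hg, mul_assoc]
  let φ : L ⊗[k] A →ₐ[L] Module.End L A := Algebra.TensorProduct.lift f g hcomm
  have hφ : ∀ l a y, φ (l ⊗ₜ[k] a) y = a * y * ι l := fun l a y => by
    show (Algebra.TensorProduct.lift f g hcomm (l ⊗ₜ[k] a)) y = _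
    rw [Algebra.TensorProduct.lift_tmul, Module.End.mul_apply, hf, hg]
  -- injectivity
  have hinj : Function.Injective φ := by
    rw [injective_iff_map_eq_zero]
    intro z hz
    by_contra hz0
    obtain ⟨l, hl0, hl⟩ := H2CSA.exists_tmul_one_mem (K := k) (L := L) (A := A)
      (TwoSidedIdeal.ker (φ : L ⊗[k] A →+* Module.End L A)) z
      ((TwoSidedIdeal.mem_ker _).2 hz) hz0
    rw [TwoSidedIdeal.mem_ker] at hl
    have h1 : φ (l ⊗ₜ[k] (1 : A)) (1 : A) = 0 := by
      have : φ (l ⊗ₜ[k] (1 : A)) = 0 := hl
      rw [this]; rfl
    rw [hφ, one_mul, one_mul] at h1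
    exact hl0 (hι (by rw [h1, map_zero]))
  -- dimension count
  haveI : Module.Finite k (Module.End L A) := Module.Finite.trans L _
  have hdim : Module.finrank k (L ⊗[k] A) = Module.finrank k (Module.End L A) := by
    rw [Module.finrank_tensorProduct, ← Module.finrank_mul_finrank k L (Module.End L A),
      Module.finrank_linearMap, hrank, hA, pow_two]
  have hsurj : Function.Surjective φ := by
    have := (LinearMap.injective_iff_surjective_of_finrank_eq_finrank hdim
      (f := (φ.toLinearMap.restrictScalars k))).1 hinj
    exact this
  let e1 : L ⊗[k] A ≃ₐ[L] Module.End L A := AlgEquiv.ofBijective φ ⟨hinj, hsurj⟩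
  exact ⟨e1.trans (LinearMap.toMatrixAlgEquiv (Module.finBasisOfFinrankEq L A hrank))⟩

end Groth.Agent.S3248
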