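import Groth.Statements.S3291
-- import your own Groth.Agent.* helpers here

set_option autoImplicit false
universe u
open Finset
open LambdaRing

namespace Groth.Agent.S3291

/-- The γ-filtration F^n K of a λ-ring with positive structure (F^0 = K, F^n for n ≥ 1 generated
additively by products γ^(r₁)(x₁)⋯γ^(r_k)(x_k) with ε(x_i) = 0 and Σ r_i ≥ n) consists of ideals,
and F^m · F^n ⊆ F^(m+n). -/
theorem result (K : Type u) [CommRing K] [LambdaRing.LambdaOps K] (P : LambdaRing.PosStructure K) :
    (∀ (n : ℕ) (a x : K), x ∈ LambdaRing.gammaFiltration P n → a * x ∈ LambdaRing.gammaFiltration P n) ∧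
    ∀ (m n : ℕ) (x y : K), x ∈ LambdaRing.gammaFiltration P m → y ∈ LambdaRing.gammaFiltration P n →
      x * y ∈ LambdaRing.gammaFiltration P (m + n) := by
  have hg1 : ∀ x : K, LambdaRing.gamma 1 x = x := by
    intro x
    simp [LambdaRing.gamma, Finset.sum_range_succ, LambdaRing.LambdaOps.lam_one]
  have part1 : ∀ (n : ℕ) (a x : K), x ∈ LambdaRing.gammaFiltration P n →
      a * x ∈ LambdaRing.gammaFiltration P n := by
    intro n a x hx
    by_cases hn : n = 0
    · subst hn; simp [LambdaRing.gammaFiltration]
    · simp only [LambdaRing.gammaFiltration, if_neg hn] at hx ⊢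
      induction hx using AddSubgroup.closure_induction with
      | mem y hy =>
        obtain ⟨l, hl, hsum, rfl⟩ := hy
        have hsplit : a * (l.map fun p => LambdaRing.gamma p.1 p.2).prod =
            (((1, a - ((P.aug a : ℤ) : K)) :: l).map fun p => LambdaRing.gamma p.1 p.2).prod +
              (P.aug a) • (l.map fun p => LambdaRing.gamma p.1 p.2).prod := by
          simp only [List.map_cons, List.prod_cons, hg1, zsmul_eq_mul]
          ring
        rw [hsplit]
        apply add_mem
        swap
        · apply zsmul_mem
          apply AddSubgroup.subset_closure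
          exact ⟨l, hl, hsum, rfl⟩
        apply AddSubgroup.subset_closure
        refine ⟨_, ?_, ?_, rfl⟩
        · intro p hp
          rcases List.mem_cons.1 hp with rfl | hp
          · simp
          · exact hl p hp
        · simp only [List.map_cons, List.sum_cons]
          omega
      | zero => simp
      | add x y _ _ hx hy => rw [mul_add]; exact add_mem hx hy
      | neg x _ hx => rw [mul_neg]; exact neg_mem hx
  refine ⟨part1, ?_⟩
  intro m n x y hx hy
  by_cases hm : m = 0
  · subst hm; rw [zero_add]; exact part1 n x y hy
  by_cases hn : n = 0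
  · subst hn; rw [add_zero, mul_comm]; exact part1 m y x hx
  have hmn : m + n ≠ 0 := by omega
  simp only [LambdaRing.gammaFiltration, if_neg hm, if_neg hn, if_neg hmn] at hx hy ⊢
  induction hx using AddSubgroup.closure_induction with
  | mem x hx =>
    obtain ⟨l, hl, hsum, rfl⟩ := hx
    induction hy using AddSubgroup.closure_induction with
    | mem y hy =>
      obtain ⟨l', hl', hsum', rfl⟩ := hy
      refine AddSubgroup.subset_closure ⟨l ++ l', ?_, ?_, ?_⟩
      · intro p hp
        rcases List.mem_append.1 hp with hp | hp
        · exact hl p hp
        · exact hl' p hp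
      · simp only [List.map_append, List.sum_append]; omega
      · simp only [List.map_append, List.prod_append]
    | zero => simp
    | add x y _ _ hx hy => rw [mul_add]; exact add_mem hx hy
    | neg x _ hx => rw [mul_neg]; exact neg_mem hx
  | zero => simp
  | add x y _ _ hx hy => rw [add_mul]; exact add_mem hx hy
  | neg x _ hx => rw [neg_mul]; exact neg_mem hx

end Groth.Agent.S3291
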