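import Groth.Statements.S3350
-- import your own Groth.Agent.* helpers here

set_option autoImplicit false
open Finset
open Models Models.NumericalType

namespace Groth.Agent.S3350

/-- Classification of proper subgraphs with two vertices: Let T be a numerical type on n > 2 indices and
i ≠ j two (-2)-indices (g = 0 and a_ii = -2 w_i, a_jj = -2 w_j) with a_ij > 0. Then, after possibly
exchanging i and j, one of the following holds with w = w_i: (A2) w_j = w, a_ij = w, 2 m_i ≥ m_j and
2 m_j ≥ m_i; (B2) w_j = 2w, a_ij = 2w, m_i ≥ m_j and 2 m_j ≥ m_i; (G2) w_j = 3w, a_ij = 3w, 2 m_i ≥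
3 m_j and 2 m_j ≥ m_i. -/
theorem result {n : ℕ} (T : Models.NumericalType n) (hn : 2 < n) (i j : Fin n)
    (hij : i ≠ j) (hi : T.IsMinusTwo i) (hj : T.IsMinusTwo j) (hpos : 0 < T.a i j) :
    ∃ i' j' : Fin n, ((i' = i ∧ j' = j) ∨ (i' = j ∧ j' = i)) ∧
      ((T.w j' = T.w i' ∧ T.a i' j' = T.w i' ∧ T.m j' ≤ 2 * T.m i' ∧ T.m i' ≤ 2 * T.m j') ∨
        (T.w j' = 2 * T.w i' ∧ T.a i' j' = 2 * T.w i' ∧ T.m j' ≤ T.m i' ∧ T.m i' ≤ 2 * T.m j') ∨
        (T.w j' = 3 * T.w i' ∧ T.a i' j' = 3 * T.w i' ∧ 3 * T.m j' ≤ 2 * T.m i' ∧ T.m i' ≤ 2 * T.m j')) := by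
  classical
  obtain ⟨-, hii⟩ := hi
  obtain ⟨-, hjj⟩ := hj
  have hmi := T.m_pos i
  have hmj := T.m_pos j
  have hwi := T.w_pos i
  have hwj := T.w_pos j
  have hsym : T.a j i = T.a i j := by
    have := T.symm
    exact (Matrix.IsSymm.apply this j i).symm ▸ rfl
  -- split a row sum
  have hsplit : ∀ (r : Fin n), ∑ k, T.a r k * T.m k
      = T.a r i * T.m i + T.a r j * T.m j + ∑ k ∈ (univ.erase i).erase j, T.a r k * T.m k := by
    intro r
    rw [← Finset.add_sum_erase univ _ (mem_univ i),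
      ← Finset.add_sum_erase (univ.erase i) _ (Finset.mem_erase.mpr ⟨hij.symm, mem_univ j⟩)]
    ring
  have hrow : ∀ r : Fin n, ∑ k, T.a r k * T.m k = 0 := by
    intro r
    have := congrFun T.mulVec_m r
    simpa [Matrix.mulVec, dotProduct] using this
  have hrest_nonneg : ∀ r : Fin n, (r = i ∨ r = j) →
      0 ≤ ∑ k ∈ (univ.erase i).erase j, T.a r k * T.m k := by
    intro r hr
    apply Finset.sum_nonneg
    intro k hk
    have hkj : k ≠ j := (Finset.mem_erase.mp hk).1
    have hki : k ≠ i := (Finset.mem_erase.mp (Finset.mem_erase.mp hk).2).1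
    have hrk : r ≠ k := by
      rcases hr with rfl | rfl
      · exact hki.symm
      · exact hkj.symm
    exact mul_nonneg (T.offDiag_nonneg r k hrk) (T.m_pos k).le
  have hRi := hrest_nonneg i (Or.inl rfl)
  have hRj := hrest_nonneg j (Or.inr rfl)
  have hEi := hrow i
  have hEj := hrow j
  rw [hsplit i] at hEi
  rw [hsplit j] at hEj
  rw [hii] at hEi
  rw [hjj, hsym] at hEj
  -- not both rests vanish
  have hnot : ¬ ((∑ k ∈ (univ.erase i).erase j, T.a i k * T.m k) = 0 ∧
      (∑ k ∈ (univ.erase i).erase j, T.a j k * T.m k) = 0) := by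
    rintro ⟨h1, h2⟩
    have hz : ∀ r : Fin n, (r = i ∨ r = j) → (∑ k ∈ (univ.erase i).erase j, T.a r k * T.m k) = 0 →
        ∀ k, k ≠ i → k ≠ j → T.a r k = 0 := by
      intro r hr h0 k hki hkj
      have hmem : k ∈ (univ.erase i).erase j :=
        Finset.mem_erase.mpr ⟨hkj, Finset.mem_erase.mpr ⟨hki, mem_univ k⟩⟩
      have hterm := (Finset.sum_eq_zero_iff_of_nonneg (fun k hk => by
        have hkj : k ≠ j := (Finset.mem_erase.mp hk).1
        have hki : k ≠ i := (Finset.mem_erase.mp (Finset.mem_erase.mp hk).2).1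
        have hrk : r ≠ k := by
          rcases hr with rfl | rfl
          · exact hki.symm
          · exact hkj.symm
        exact mul_nonneg (T.offDiag_nonneg r k hrk) (T.m_pos k).le)).mp h0 k hmem
      rcases mul_eq_zero.mp hterm with h | h
      · exact h
      · have := T.m_pos k
        omega
    have hI : ({i, j} : Finset (Fin n)).Nonempty := ⟨i, by simp⟩
    have hI' : ({i, j} : Finset (Fin n)) ≠ univ := by
      intro h
      have hc := congrArg Finset.card h
      rw [Finset.card_univ, Fintype.card_fin, Finset.card_pair hij] at hc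
      omega
    obtain ⟨i₀, hi₀, j₀, hj₀, hne⟩ := T.connected _ hI hI'
    have hj₀i : j₀ ≠ i := by
      rintro rfl
      exact hj₀ (by simp)
    have hj₀j : j₀ ≠ j := by
      rintro rfl
      exact hj₀ (by simp)
    rw [Finset.mem_insert, Finset.mem_singleton] at hi₀
    rcases hi₀ with rfl | rfl
    · exact hne (hz _ (Or.inl rfl) h1 j₀ hj₀i hj₀j)
    · exact hne (hz _ (Or.inr rfl) h2 j₀ hj₀i hj₀j)
  obtain ⟨p, hp⟩ := T.w_dvd i j
  obtain ⟨q, hq⟩ := T.w_dvd j i
  rw [hsym] at hq
  have hp_pos : 0 < p := by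
    by_contra h
    have : p ≤ 0 := by omega
    nlinarith
  have hq_pos : 0 < q := by
    by_contra h
    have : q ≤ 0 := by omega
    nlinarith
  -- inequalities
  have h1 : p * T.m j ≤ 2 * T.m i := by
    have : T.w i * (p * T.m j) ≤ T.w i * (2 * T.m i) := by
      have : T.a i j * T.m j ≤ 2 * T.w i * T.m i := by linarith
      rw [hp] at this
      nlinarith
    exact le_of_mul_le_mul_left this hwi
  have h2 : q * T.m i ≤ 2 * T.m j := by
    have : T.w j * (q * T.m i) ≤ T.w j * (2 * T.m j) := by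
      have : T.a i j * T.m i ≤ 2 * T.w j * T.m j := by linarith
      rw [hq] at this
      nlinarith
    exact le_of_mul_le_mul_left this hwj
  have hstrict : p * T.m j < 2 * T.m i ∨ q * T.m i < 2 * T.m j := by
    by_contra hcon
    push Not at hcon
    obtain ⟨c1, c2⟩ := hcon
    have e1 : p * T.m j = 2 * T.m i := le_antisymm h1 c1
    have e2 : q * T.m i = 2 * T.m j := le_antisymm h2 c2
    apply hnot
    constructor
    · have : T.a i j * T.m j = 2 * T.w i * T.m i := by
        rw [hp]
        calc T.w i * p * T.m j = T.w i * (p * T.m j) := by ring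
          _ = T.w i * (2 * T.m i) := by rw [e1]
          _ = 2 * T.w i * T.m i := by ring
      linarith
    · have : T.a i j * T.m i = 2 * T.w j * T.m j := by
        rw [hq]
        calc T.w j * q * T.m i = T.w j * (q * T.m i) := by ring
          _ = T.w j * (2 * T.m j) := by rw [e2]
          _ = 2 * T.w j * T.m j := by ring
      linarith
  have hpq : p * q < 4 := by
    have hmm : 0 < T.m i * T.m j := mul_pos hmi hmj
    have hprod : (p * T.m j) * (q * T.m i) < (2 * T.m i) * (2 * T.m j) := by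
      have hX : (0:ℤ) < p * T.m j := mul_pos hp_pos hmj
      have hY : (0:ℤ) < q * T.m i := mul_pos hq_pos hmi
      have hA : (0:ℤ) < 2 * T.m i := by linarith
      have hB : (0:ℤ) < 2 * T.m j := by linarith
      rcases hstrict with h | h
      · calc (p * T.m j) * (q * T.m i) < (2 * T.m i) * (q * T.m i) := mul_lt_mul_of_pos_right h hY
          _ ≤ (2 * T.m i) * (2 * T.m j) := mul_le_mul_of_nonneg_left h2 hA.le
      · calc (p * T.m j) * (q * T.m i) < (p * T.m j) * (2 * T.m j) := mul_lt_mul_of_pos_left h hX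
          _ ≤ (2 * T.m i) * (2 * T.m j) := mul_le_mul_of_nonneg_right h1 hB.le
    by_contra hcon
    have : 4 ≤ p * q := by omega
    nlinarith
  have hp3 : p ≤ 3 := by nlinarith
  have hq3 : q ≤ 3 := by nlinarith
  have hai : T.a i j = T.w i * p := hp
  have haj : T.a i j = T.w j * q := hq
  interval_cases p <;> interval_cases q <;> first
    | (exfalso; omega)
    | (refine ⟨i, j, Or.inl ⟨rfl, rfl⟩, Or.inl ⟨by linarith, by linarith, by linarith, by linarith⟩⟩)
    | (refine ⟨i, j, Or.inl ⟨rfl, rfl⟩, Or.inr (Or.inl ⟨by linarith, by linarith, by linarith, by linarith⟩)⟩)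
    | (refine ⟨i, j, Or.inl ⟨rfl, rfl⟩, Or.inr (Or.inr ⟨by linarith, by linarith, by linarith, by linarith⟩)⟩)
    | (refine ⟨j, i, Or.inr ⟨rfl, rfl⟩, Or.inr (Or.inl ⟨by linarith, by rw [hsym]; linarith, by linarith, by linarith⟩)⟩)
    | (refine ⟨j, i, Or.inr ⟨rfl, rfl⟩, Or.inr (Or.inr ⟨by linarith, by rw [hsym]; linarith, by linarith, by linarith⟩)⟩)

end Groth.Agent.S3350
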