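import Groth.Statements.S3351
import Groth.Agent.Lib.helper2.Lattice

set_option autoImplicit false
open Models

namespace Groth.Agent.S3351

/-- Let L be a finite free Z-module with a positive definite symmetric integral bilinear form, A ⊆ L a
submodule with L/A torsion free and B the orthogonal complement of A. Write M^# for the dual lattice
of a sublattice M, identified here with the Z-dual Hom(M, Z) through the form. Then the natural maps
L/(A ⊕ B) → B^#/B and L/(A ⊕ B) → A^#/A are injective: an element x of L whose functional ⟨x, -⟩ on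
B (resp. on A) is represented by an element of B (resp. of A) lies in A ⊕ B. Moreover the
restriction maps L^# → B^# and L^# → A^# are surjective, so that the cokernels of the two injections
are quotients of L^#/L. -/
theorem result {L : Type} [AddCommGroup L] [Module.Finite ℤ L] [Module.Free ℤ L]
    (B : LinearMap.BilinForm ℤ L) (hsymm : B.IsSymm) (hpos : ∀ x, x ≠ 0 → 0 < B x x)
    (A : Submodule ℤ L) (htf : ∀ (c : ℤ) (x : L), c ≠ 0 → c • x ∈ A → x ∈ A) :
    (∀ x : L, (∃ b ∈ B.orthogonal A, ∀ b' ∈ B.orthogonal A, B x b' = B b b') → x ∈ A ⊔ B.orthogonal A) ∧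
      (∀ x : L, (∃ a ∈ A, ∀ a' ∈ A, B x a' = B a a') → x ∈ A ⊔ B.orthogonal A) ∧
      (∀ ψ : Module.Dual ℤ ↥(B.orthogonal A), ∃ φ : Module.Dual ℤ L, φ ∘ₗ (B.orthogonal A).subtype = ψ) ∧
      (∀ ψ : Module.Dual ℤ ↥A, ∃ φ : Module.Dual ℤ L, φ ∘ₗ A.subtype = ψ) := by
  classical
  have hsy : ∀ x y : L, B x y = B y x := fun x y => hsymm.eq x y
  have hzero : ∀ x : L, B x x = 0 → x = 0 := by
    intro x hx
    by_contra hne
    have := hpos x hne
    rw [hx] at this
    exact lt_irrefl _ this
  -- Step A
  have stepA : ∀ x : L, ∃ c : ℤ, c ≠ 0 ∧ c • x ∈ A ⊔ B.orthogonal A := by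
    intro x
    have hsA : (B.restrict A).IsSymm := hsymm.restrict A
    have hpA : ∀ a : ↥A, a ≠ 0 → 0 < (B.restrict A) a a := by
      intro a ha
      have : (a : L) ≠ 0 := fun h => ha (Subtype.ext h)
      exact hpos a this
    obtain ⟨c, a, hc, hca⟩ := Groth.Agent.Lib.helper2.h2_exists_repr_of_posDef (B.restrict A) hsA hpA
      ((B x) ∘ₗ A.subtype)
    refine ⟨c, hc, ?_⟩
    have hmem : c • x - (a : L) ∈ B.orthogonal A := by
      rw [LinearMap.BilinForm.mem_orthogonal_iff]
      intro n hn
      have h1 := hca ⟨n, hn⟩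
      have h2 : c * B x n = B (a : L) n := h1
      rw [map_sub, map_smul, smul_eq_mul, hsy n x, hsy n a, h2, sub_self]
    have : c • x = (a : L) + (c • x - (a : L)) := by abel
    rw [this]
    exact Submodule.add_mem_sup a.2 hmem
  -- Step B
  have stepB : ∀ y : L, (∀ b' ∈ B.orthogonal A, B y b' = 0) → y ∈ A := by
    intro y hy
    obtain ⟨c, hc, hmem⟩ := stepA y
    obtain ⟨a, ha, b, hb, hab⟩ := Submodule.mem_sup.mp hmem
    have hb0 : b = 0 := by
      apply hzero
      have hbeq : b = c • y - a := by rw [← hab]; abel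
      have h1 : B (c • y - a) b = 0 := by
        rw [map_sub, LinearMap.sub_apply, map_smul, LinearMap.smul_apply, hy b hb, smul_zero,
          (LinearMap.BilinForm.mem_orthogonal_iff.mp hb) a ha, sub_zero]
      rw [← hbeq] at h1
      exact h1
    rw [hb0, add_zero] at hab
    apply htf c y hc
    rw [← hab]
    exact ha
  refine ⟨?_, ?_, ?_, ?_⟩
  · rintro x ⟨b, hb, hxb⟩
    have hy : x - b ∈ A := by
      apply stepB
      intro b' hb'
      rw [map_sub, LinearMap.sub_apply, hxb b' hb', sub_self]
    have : x = (x - b) + b := by abel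
    rw [this]
    exact Submodule.add_mem_sup hy hb
  · rintro x ⟨a, ha, hxa⟩
    have hy : x - a ∈ B.orthogonal A := by
      rw [LinearMap.BilinForm.mem_orthogonal_iff]
      intro n hn
      rw [map_sub, hsy n x, hsy n a, hxa n hn, sub_self]
    have : x = a + (x - a) := by abel
    rw [this]
    exact Submodule.add_mem_sup ha hy
  · intro ψ
    apply Groth.Agent.Lib.helper2.h2_exists_extension_of_saturated
    intro c x hc hx
    rw [LinearMap.BilinForm.mem_orthogonal_iff] at hx ⊢
    intro n hn
    have := hx n hn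
    rw [map_smul, smul_eq_mul] at this
    rcases mul_eq_zero.mp this with h | h
    · exact absurd h hc
    · exact h
  · intro ψ
    exact Groth.Agent.Lib.helper2.h2_exists_extension_of_saturated A htf ψ

end Groth.Agent.S3351
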