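import Groth.Statements.S3352
import Groth.Agent.Lib.helper2.Lattice

set_option autoImplicit false
open Models

namespace Groth.Agent.S3352

/-- Let L₀, L₁ be finite free ℤ-modules with positive definite symmetric integral bilinear forms, the
form on L₀ unimodular (x ↦ ⟨x, −⟩ is a bijection L₀ → Hom(L₀, ℤ)), and let d : L₀ → L₁ and d* : L₁ →
L₀ be adjoint. Identify Im(d)^# (the dual lattice of Im(d)) with Hom(Im(d), ℤ) through the form on
L₁. Then there is an isomorphism Φ from the torsion subgroup of Coker(d* d) onto Im(d)^#/Im(d),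
determined by: for x ∈ L₀ whose class is torsion, Φ[x] is the class of the functional d(y') ↦ ⟨x,
y'⟩ (equivalently the class of (1/a)·d(y) when a·x = d* d(y)). -/
theorem result {L₀ L₁ : Type} [AddCommGroup L₀] [AddCommGroup L₁]
    [Module.Finite ℤ L₀] [Module.Free ℤ L₀] [Module.Finite ℤ L₁] [Module.Free ℤ L₁]
    (B₀ : LinearMap.BilinForm ℤ L₀) (B₁ : LinearMap.BilinForm ℤ L₁) (h₀s : B₀.IsSymm) (h₁s : B₁.IsSymm)
    (h₀p : ∀ x, x ≠ 0 → 0 < B₀ x x) (h₁p : ∀ x, x ≠ 0 → 0 < B₁ x x) (huni : Function.Bijective B₀)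
    (d : L₀ →ₗ[ℤ] L₁) (ds : L₁ →ₗ[ℤ] L₀) (hadj : ∀ x y, B₁ (d x) y = B₀ x (ds y)) :
    ∃ Φ : ↥(Submodule.torsion ℤ (L₀ ⧸ LinearMap.range (ds ∘ₗ d))) ≃ₗ[ℤ]
        (Module.Dual ℤ ↥(LinearMap.range d) ⧸
          LinearMap.range ((B₁.compl₂ (LinearMap.range d).subtype) ∘ₗ (LinearMap.range d).subtype)),
      ∀ (x : L₀) (hx : Submodule.Quotient.mk x ∈ Submodule.torsion ℤ (L₀ ⧸ LinearMap.range (ds ∘ₗ d)))
        (ψ : Module.Dual ℤ ↥(LinearMap.range d)),
        (∀ y' : L₀, ψ ⟨d y', LinearMap.mem_range_self d y'⟩ = B₀ x y') →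
          Φ ⟨Submodule.Quotient.mk x, hx⟩ = Submodule.Quotient.mk ψ := by
  classical
  have hs0 : ∀ x y : L₀, B₀ x y = B₀ y x := fun x y => h₀s.eq x y
  have hs1 : ∀ x y : L₁, B₁ x y = B₁ y x := fun x y => h₁s.eq x y
  -- key adjunction identity
  have hadj' : ∀ y y' : L₀, B₀ (ds (d y)) y' = B₁ (d y) (d y') := by
    intro y y'
    rw [hs0, ← hadj, hs1]
  let e : L₀ ≃ₗ[ℤ] Module.Dual ℤ L₀ := LinearEquiv.ofBijective B₀ huni
  have he : ∀ x, e x = B₀ x := fun x => rfl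
  have hinj : ∀ x x' : L₀, (∀ y', B₀ x y' = B₀ x' y') → x = x' := by
    intro x x' h
    apply huni.1
    ext y'
    exact h y'
  let Ψ : Module.Dual ℤ ↥(LinearMap.range d) →ₗ[ℤ] L₀ :=
    e.symm.toLinearMap ∘ₗ d.rangeRestrict.dualMap
  have hΨ : ∀ (ψ : Module.Dual ℤ ↥(LinearMap.range d)) (y' : L₀),
      B₀ (Ψ ψ) y' = ψ ⟨d y', LinearMap.mem_range_self d y'⟩ := by
    intro ψ y'
    have h1 : e (Ψ ψ) = d.rangeRestrict.dualMap ψ := e.apply_symm_apply _
    have h2 : (e (Ψ ψ)) y' = (d.rangeRestrict.dualMap ψ) y' := congrArg (fun f => f y') h1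
    rw [he, LinearMap.dualMap_apply] at h2
    exact h2
  set R := LinearMap.range ((B₁.compl₂ (LinearMap.range d).subtype) ∘ₗ (LinearMap.range d).subtype)
    with hR
  set K := LinearMap.range (ds ∘ₗ d) with hK
  have hflat : ∀ (m m' : ↥(LinearMap.range d)),
      ((B₁.compl₂ (LinearMap.range d).subtype) ∘ₗ (LinearMap.range d).subtype) m m'
        = B₁ (m : L₁) (m' : L₁) := fun m m' => rfl
  let Θ₀ : Module.Dual ℤ ↥(LinearMap.range d) →ₗ[ℤ] L₀ ⧸ K := K.mkQ ∘ₗ Ψ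
  have hΘ₀ : R ≤ LinearMap.ker Θ₀ := by
    rintro _ ⟨m, rfl⟩
    obtain ⟨y, hy⟩ := m.2
    rw [LinearMap.mem_ker]
    change K.mkQ (Ψ _) = 0
    rw [Submodule.mkQ_apply, Submodule.Quotient.mk_eq_zero]
    have : Ψ (((B₁.compl₂ (LinearMap.range d).subtype) ∘ₗ (LinearMap.range d).subtype) m)
        = ds (d y) := by
      apply hinj
      intro y'
      rw [hΨ, hflat, hadj', hy]
    rw [this]
    exact ⟨y, rfl⟩
  let Θ₁ : (Module.Dual ℤ ↥(LinearMap.range d) ⧸ R) →ₗ[ℤ] L₀ ⧸ K := R.liftQ Θ₀ hΘ₀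
  have hΘ₁ : ∀ ψ, Θ₁ (Submodule.Quotient.mk ψ) = Submodule.Quotient.mk (Ψ ψ) := fun ψ => rfl
  have htors : ∀ q, Θ₁ q ∈ Submodule.torsion ℤ (L₀ ⧸ K) := by
    intro q
    obtain ⟨ψ, rfl⟩ := Submodule.Quotient.mk_surjective R q
    have hsM : (B₁.restrict (LinearMap.range d)).IsSymm := h₁s.restrict _
    have hpM : ∀ a : ↥(LinearMap.range d), a ≠ 0 → 0 < (B₁.restrict (LinearMap.range d)) a a := by
      intro a ha
      have : (a : L₁) ≠ 0 := fun h => ha (Subtype.ext h)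
      exact h₁p a this
    obtain ⟨a, m, ha, ham⟩ := Groth.Agent.Lib.helper2.h2_exists_repr_of_posDef
      (B₁.restrict (LinearMap.range d)) hsM hpM ψ
    rw [Submodule.mem_torsion_iff]
    refine ⟨⟨a, mem_nonZeroDivisors_of_ne_zero ha⟩, ?_⟩
    change a • Θ₁ (Submodule.Quotient.mk ψ) = 0
    rw [← map_smul, ← Submodule.Quotient.mk_smul]
    have : a • ψ = ((B₁.compl₂ (LinearMap.range d).subtype) ∘ₗ (LinearMap.range d).subtype) m := by
      ext m'
      rw [LinearMap.smul_apply, smul_eq_mul, ham m', hflat]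
      rfl
    have hmemR : a • ψ ∈ R := ⟨m, this.symm⟩
    rw [(Submodule.Quotient.mk_eq_zero R).mpr hmemR, map_zero]
  let Θ : (Module.Dual ℤ ↥(LinearMap.range d) ⧸ R) →ₗ[ℤ] ↥(Submodule.torsion ℤ (L₀ ⧸ K)) :=
    LinearMap.codRestrict _ Θ₁ htors
  have hΘinj : Function.Injective Θ := by
    rw [injective_iff_map_eq_zero]
    intro q hq
    obtain ⟨ψ, rfl⟩ := Submodule.Quotient.mk_surjective R q
    have h1 : Θ₁ (Submodule.Quotient.mk ψ) = 0 := congrArg Subtype.val hq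
    rw [hΘ₁, Submodule.Quotient.mk_eq_zero] at h1
    obtain ⟨y, hy⟩ := h1
    rw [Submodule.Quotient.mk_eq_zero]
    refine ⟨⟨d y, LinearMap.mem_range_self d y⟩, ?_⟩
    ext m'
    obtain ⟨y', hy'⟩ := m'.2
    have hm' : m' = ⟨d y', LinearMap.mem_range_self d y'⟩ := Subtype.ext hy'.symm
    rw [hflat, hm', ← hΨ, ← hy]
    exact (hadj' y y').symm
  have hΘsurj : Function.Surjective Θ := by
    rintro ⟨t, ht⟩
    obtain ⟨x, rfl⟩ := Submodule.Quotient.mk_surjective K t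
    obtain ⟨a, ha⟩ := (Submodule.mem_torsion_iff _).mp ht
    have ha0 : (a : ℤ) ≠ 0 := nonZeroDivisors.coe_ne_zero a
    have ha' : (a : ℤ) • x ∈ K := by
      rw [← Submodule.Quotient.mk_eq_zero K, Submodule.Quotient.mk_smul]
      exact ha
    obtain ⟨y, hy⟩ := ha'
    have hker : LinearMap.ker d ≤ LinearMap.ker (B₀ x) := by
      intro y' hy'
      rw [LinearMap.mem_ker] at hy' ⊢
      have h1 : (a : ℤ) * B₀ x y' = 0 := by
        have : B₀ ((a : ℤ) • x) y' = B₁ (d y) (d y') := by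
          rw [← hy]
          exact hadj' y y'
        rw [map_smul, LinearMap.smul_apply, smul_eq_mul] at this
        rw [this, hy', map_zero]
      rcases mul_eq_zero.mp h1 with h | h
      · exact absurd h ha0
      · exact h
    let ψx : Module.Dual ℤ ↥(LinearMap.range d) :=
      ((LinearMap.ker d).liftQ (B₀ x) hker) ∘ₗ (d.quotKerEquivRange).symm.toLinearMap
    have hψx : ∀ y', ψx ⟨d y', LinearMap.mem_range_self d y'⟩ = B₀ x y' := by
      intro y'
      change ((LinearMap.ker d).liftQ (B₀ x) hker) ((d.quotKerEquivRange).symm ⟨d y', _⟩) = _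
      rw [LinearMap.quotKerEquivRange_symm_apply_image]
      rfl
    refine ⟨Submodule.Quotient.mk ψx, ?_⟩
    apply Subtype.ext
    change Θ₁ (Submodule.Quotient.mk ψx) = Submodule.Quotient.mk x
    rw [hΘ₁]
    congr 1
    apply hinj
    intro y'
    rw [hΨ, hψx]
  refine ⟨(LinearEquiv.ofBijective Θ ⟨hΘinj, hΘsurj⟩).symm, ?_⟩
  intro x hx ψ hψ
  rw [LinearEquiv.symm_apply_eq]
  apply Subtype.ext
  change Submodule.Quotient.mk x = Θ₁ (Submodule.Quotient.mk ψ)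
  rw [hΘ₁]
  congr 1
  apply hinj
  intro y'
  rw [hΨ, hψ]

end Groth.Agent.S3352
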