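import Groth.Statements.S3406
import Mathlib
import Groth.Agent.Lib.helper2.SuppDim

set_option autoImplicit false
universe u
open EGA41

namespace Groth.Agent.S3406

/-- The equality s(M) = dim(M): let A be a Noetherian ring with finitely many maximal ideals, r its
Jacobson radical and M a nonzero finitely generated A-module. Then the dimension of M (the Krull
dimension of its support) is the least n for which there are elements x_1, …, x_n of r such that
M/(x_1 M + ⋯ + x_n M) has finite length. -/
theorem result (A : Type u) [CommRing A] [IsNoetherianRing A]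
    [Finite (MaximalSpectrum A)] (M : Type u) [AddCommGroup M] [Module A M] [Module.Finite A M] [Nontrivial M] :
    Module.supportDim A M =
      sInf {k : WithBot ℕ∞ | ∃ (n : ℕ) (x : Fin n → A), k = n ∧ (∀ i, x i ∈ Ring.jacobson A) ∧
        IsFiniteLength A (M ⧸ (Ideal.span (Set.range x) • (⊤ : Submodule A M)))} := by
  classical
  apply le_antisymm
  · refine le_sInf ?_
    rintro k ⟨n, x, rfl, hx, hfl⟩
    have h1 := h2_supportDim_le_add n M x hx
    have h2 := h2_supportDim_le_zero_of_isFiniteLength _ hfl
    calc Module.supportDim A M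
        ≤ Module.supportDim A (M ⧸ (Ideal.span (Set.range x) • (⊤ : Submodule A M))) + n := h1
      _ ≤ 0 + n := add_le_add_left h2 n
      _ = n := zero_add _
  · have hne : Module.supportDim A M ≠ ⊥ := Module.supportDim_ne_bot_of_nontrivial A M
    obtain ⟨e, he⟩ := WithBot.ne_bot_iff_exists.mp hne
    induction e using ENat.recTopCoe with
    | top =>
      rw [← he]
      have h0 : ((⊤ : ℕ∞) : WithBot ℕ∞) = ⊤ := rfl
      rw [h0]; exact le_top
    | coe d =>
      obtain ⟨n, x, hn, hx, hfl⟩ := h2_exists_params d M (by rw [← he]; rfl)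
      have hmem : ((n : ℕ) : WithBot ℕ∞) ∈ {k : WithBot ℕ∞ | ∃ (n : ℕ) (x : Fin n → A), k = n ∧
          (∀ i, x i ∈ Ring.jacobson A) ∧
          IsFiniteLength A (M ⧸ (Ideal.span (Set.range x) • (⊤ : Submodule A M)))} :=
        ⟨n, x, rfl, hx, hfl⟩
      refine (sInf_le hmem).trans ?_
      rw [← he]
      exact_mod_cast hn

end Groth.Agent.S3406
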