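import Groth.Statements.S3431
import Mathlib
import Groth.Agent.Lib.helper2.Jac

set_option autoImplicit false
universe u
open EGA43

namespace Groth.Agent.S3431

/-- Let A be a Noetherian ring. Then A is a Jacobson ring if and only if there is no prime ideal p of A
such that A/p is semi-local (finitely many maximal ideals) of Krull dimension 1. -/
theorem result (A : Type u) [CommRing A] [IsNoetherianRing A] :
    IsJacobsonRing A ↔
      ∀ (p : Ideal A) [p.IsPrime], ¬ (Finite (MaximalSpectrum (A ⧸ p)) ∧ ringKrullDim (A ⧸ p) = 1) := by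
  classical
  constructor
  · intro hJ p hp hcon
    obtain ⟨hfin, hdim⟩ := hcon
    have hdom : IsDomain (A ⧸ p) := Ideal.Quotient.isDomain p
    have hbot : (⊥ : Ideal (A ⧸ p)).IsPrime := Ideal.isPrime_bot
    have h1 : (⊥ : Ideal (A ⧸ p)).jacobson = ⊥ := IsJacobsonRing.out inferInstance hbot.isRadical
    have hfinset : {J : Ideal (A ⧸ p) | J.IsMaximal}.Finite := by
      have h0 : {J : Ideal (A ⧸ p) | J.IsMaximal} =
          Set.range (fun m : MaximalSpectrum (A ⧸ p) => m.asIdeal) := by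
        ext J; constructor
        · intro hJ; exact ⟨⟨J, hJ⟩, rfl⟩
        · rintro ⟨m, rfl⟩; exact m.isMaximal
      rw [h0]; exact Set.finite_range _
    have h2 : hfinset.toFinset.inf id ≤ (⊥ : Ideal (A ⧸ p)) := by
      rw [← h1]
      apply le_sInf
      rintro J ⟨-, hJ⟩
      exact Finset.inf_le (f := id) (hfinset.mem_toFinset.mpr hJ)
    obtain ⟨M, hM, hM0⟩ := (Ideal.IsPrime.inf_le' hbot).mp h2
    have hMmax : M.IsMaximal := hfinset.mem_toFinset.mp hM
    have hM0' : M = ⊥ := le_bot_iff.mp hM0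
    have hfld : IsField (A ⧸ p) := Ring.isField_iff_maximal_bot.mpr (hM0' ▸ hMmax)
    rw [ringKrullDim_eq_zero_of_isField hfld] at hdim
    exact zero_ne_one hdim
  · intro h
    rw [isJacobsonRing_iff_prime_eq]
    intro P hP
    by_contra hne
    have hlt : ¬ P.jacobson ≤ P := fun hle => hne (le_antisymm hle Ideal.le_jacobson)
    obtain ⟨f, hfJ, hfP⟩ := Set.not_subset.mp hlt
    let T : Set (Ideal A) := {q | q.IsPrime ∧ P ≤ q ∧ f ∉ q}
    have hT : T.Nonempty := ⟨P, hP, le_rfl, hfP⟩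
    obtain ⟨p, ⟨hp, hPp, hfp⟩, hpmax⟩ := set_has_maximal_iff_noetherian.mpr inferInstance T hT
    have hall : ∀ q : Ideal A, q.IsPrime → p < q → f ∈ q := by
      intro q hq hpq
      by_contra hfq
      exact hpmax q ⟨hq, hPp.trans hpq.le, hfq⟩ hpq
    have hnm : ∃ q : Ideal A, q.IsPrime ∧ p < q := by
      obtain ⟨M, hM, hpM⟩ := Ideal.exists_le_maximal p hp.ne_top
      have hfM : f ∈ M := (Ideal.mem_sInf.mp hfJ) ⟨hPp.trans hpM, hM⟩
      refine ⟨M, hM.isPrime, lt_of_le_of_ne hpM ?_⟩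
      rintro rfl; exact hfp hfM
    obtain ⟨hd, hfin, -⟩ := h2_above_prime p f hfp hall hnm
    exact h p ⟨hfin, hd⟩

end Groth.Agent.S3431
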