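import Groth.Statements.S3433
import Mathlib
import Groth.Agent.Lib.helper2.Jac

set_option autoImplicit false
universe u
open EGA43

namespace Groth.Agent.S3433

/-- Let A be a Noetherian local ring with maximal ideal m and let Y be the punctured spectrum Spec A ∖
{m}. Then Y is a Jacobson space, and a point p of Y is closed in Y if and only if dim A/p = 1. -/
theorem result (A : Type u) [CommRing A] [IsNoetherianRing A] [IsLocalRing A] :
    JacobsonSpace ↥({IsLocalRing.closedPoint A}ᶜ : Set (PrimeSpectrum A)) ∧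
      ∀ p : ↥({IsLocalRing.closedPoint A}ᶜ : Set (PrimeSpectrum A)),
        IsClosed ({p} : Set ↥({IsLocalRing.closedPoint A}ᶜ : Set (PrimeSpectrum A))) ↔
          ringKrullDim (A ⧸ p.1.asIdeal) = 1 := by
  classical
  have hcp : ∀ q : PrimeSpectrum A, q = IsLocalRing.closedPoint A ↔
      q.asIdeal = IsLocalRing.maximalIdeal A := by
    intro q; constructor
    · rintro rfl; rfl
    · intro h; exact PrimeSpectrum.ext h
  have hclosed : ∀ p : ↥({IsLocalRing.closedPoint A}ᶜ : Set (PrimeSpectrum A)),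
      IsClosed ({p} : Set ↥({IsLocalRing.closedPoint A}ᶜ : Set (PrimeSpectrum A))) ↔
        ∀ q : ↥({IsLocalRing.closedPoint A}ᶜ : Set (PrimeSpectrum A)),
          p.1.asIdeal ≤ q.1.asIdeal → q = p := by
    intro p
    rw [← closure_eq_iff_isClosed,
      Topology.IsEmbedding.subtypeVal.closure_eq_preimage_closure_image,
      Set.image_singleton, PrimeSpectrum.closure_singleton]
    constructor
    · intro h q hq
      have h0 : q ∈ Subtype.val ⁻¹' PrimeSpectrum.zeroLocus (p.1.asIdeal : Set A) := by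
        rw [Set.mem_preimage, PrimeSpectrum.mem_zeroLocus]; exact hq
      rw [h] at h0; exact h0
    · intro h
      ext q
      rw [Set.mem_preimage, PrimeSpectrum.mem_zeroLocus, Set.mem_singleton_iff]
      constructor
      · intro hq; exact h q hq
      · rintro rfl; exact le_rfl
  refine ⟨?_, fun p => ?_⟩
  · rw [jacobsonSpace_iff_locallyClosed]
    intro Z hZne hZlc
    obtain ⟨y, hyZ⟩ := hZne
    obtain ⟨U, C, hU, hC, rfl⟩ := hZlc
    obtain ⟨U', hU', rfl⟩ := isOpen_induced_iff.mp hU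
    obtain ⟨C', hC', rfl⟩ := isClosed_induced_iff.mp hC
    obtain ⟨I, rfl⟩ := (PrimeSpectrum.isClosed_iff_zeroLocus_ideal C').mp hC'
    have hyU : y.1 ∈ U' := hyZ.1
    have hyC : y.1 ∈ PrimeSpectrum.zeroLocus (I : Set A) := hyZ.2
    obtain ⟨_, ⟨f, rfl⟩, hyf, hfU⟩ :=
      PrimeSpectrum.isTopologicalBasis_basic_opens.exists_subset_of_mem_open hyU hU'
    have hfy : f ∉ y.1.asIdeal := hyf
    have hym : y.1.asIdeal ≠ IsLocalRing.maximalIdeal A := fun h => y.2 ((hcp y.1).mpr h)
    have hylt : y.1.asIdeal < IsLocalRing.maximalIdeal A :=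
      lt_of_le_of_ne (IsLocalRing.le_maximalIdeal y.1.isPrime.ne_top) hym
    obtain ⟨g, hgm, hgy⟩ := SetLike.exists_of_lt hylt
    have hfgy : f * g ∉ y.1.asIdeal := fun h => (y.1.isPrime.mem_or_mem h).elim hfy hgy
    let T : Set (Ideal A) := {q | q.IsPrime ∧ y.1.asIdeal ≤ q ∧ f * g ∉ q}
    obtain ⟨p, ⟨hp, hyp, hfgp⟩, hpmax⟩ := set_has_maximal_iff_noetherian.mpr inferInstance T
      ⟨y.1.asIdeal, y.1.isPrime, le_rfl, hfgy⟩
    have hpm : p ≠ IsLocalRing.maximalIdeal A := by
      rintro rfl; exact hfgp (Ideal.mul_mem_left _ f hgm)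
    have hplt : p < IsLocalRing.maximalIdeal A :=
      lt_of_le_of_ne (IsLocalRing.le_maximalIdeal hp.ne_top) hpm
    have hall : ∀ q : Ideal A, q.IsPrime → p < q → f * g ∈ q := by
      intro q hq hpq
      by_contra hfq
      exact hpmax q ⟨hq, hyp.trans hpq.le, hfq⟩ hpq
    obtain ⟨-, -, hmaxabove⟩ := h2_above_prime p (f * g) hfgp hall
      ⟨_, (IsLocalRing.maximalIdeal.isMaximal A).isPrime, hplt⟩
    have hPY : (⟨p, hp⟩ : PrimeSpectrum A) ∈
        ({IsLocalRing.closedPoint A}ᶜ : Set (PrimeSpectrum A)) :=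
      fun h => hpm ((hcp ⟨p, hp⟩).mp h)
    refine ⟨⟨⟨p, hp⟩, hPY⟩, ⟨?_, ?_⟩, ?_⟩
    · apply hfU
      exact (PrimeSpectrum.mem_basicOpen f ⟨p, hp⟩).mpr
        (fun h => hfgp (Ideal.mul_mem_right _ _ h))
    · change (⟨p, hp⟩ : PrimeSpectrum A) ∈ PrimeSpectrum.zeroLocus (I : Set A)
      rw [PrimeSpectrum.mem_zeroLocus] at hyC ⊢
      exact hyC.trans hyp
    · rw [mem_closedPoints_iff, hclosed]
      intro q hq
      by_contra hne
      have hpq : p < q.1.asIdeal :=
        lt_of_le_of_ne hq (fun h => hne (Subtype.ext (PrimeSpectrum.ext h.symm)))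
      have h1 := hmaxabove q.1.asIdeal q.1.isPrime hpq
      exact q.2 ((hcp q.1).mpr (IsLocalRing.eq_maximalIdeal h1))
  · rw [hclosed p]
    have hpm : p.1.asIdeal ≠ IsLocalRing.maximalIdeal A := fun h => p.2 ((hcp p.1).mpr h)
    rw [← h2_dim_crit p.1.asIdeal hpm]
    constructor
    · intro h q hq hpq hqm
      have h1 := h ⟨⟨q, hq⟩, fun hh => hqm ((hcp _).mp hh)⟩ hpq
      exact congrArg (fun z => z.1.asIdeal) h1
    · intro h q hq
      have h1 := h q.1.asIdeal q.1.isPrime hq (fun hh => q.2 ((hcp q.1).mpr hh))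
      exact Subtype.ext (PrimeSpectrum.ext h1)

end Groth.Agent.S3433
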