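import Groth.Statements.S3435
import Mathlib

set_option autoImplicit false
universe u
open EGA41

namespace Groth.Agent.S3435

open TensorProduct in
/-- Let Λ → A → B → C be ring homomorphisms. The homomorphism Ω_{B/Λ} ⊗_B C → Ω_{B/A} ⊗_B C maps the
imperfection module Υ_{C/B/Λ} (the kernel of Ω_{B/Λ} ⊗_B C → Ω_{C/Λ}) onto the imperfection module
Υ_{C/B/A} (the kernel of Ω_{B/A} ⊗_B C → Ω_{C/A}): every element of Υ_{C/B/A} is the image of some
element of Υ_{C/B/Λ}. -/
theorem result (Λ A B C : Type u) [CommRing Λ] [CommRing A] [CommRing B] [CommRing C]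
    [Algebra Λ A] [Algebra Λ B] [Algebra Λ C] [Algebra A B] [Algebra A C] [Algebra B C]
    [IsScalarTower Λ A B] [IsScalarTower Λ A C] [IsScalarTower Λ B C] [IsScalarTower A B C] :
    ∀ ω ∈ EGA41.imperfection A B C, ∃ η ∈ EGA41.imperfection Λ B C,
      (KaehlerDifferential.map Λ A B B).baseChange C η = ω := by
  intro ω hω
  have hω' : KaehlerDifferential.mapBaseChange A B C ω = 0 := hω
  obtain ⟨η₀, hη₀⟩ := LinearMap.baseChange_surjective C
    (KaehlerDifferential.map_surjective (R := Λ) (S := A) (B := B)) ω
  -- key: every element of `C ⊗[A] Ω[A⁄Λ]` comes from an element of `C ⊗[B] Ω[B⁄Λ]` killed in `Ω[B⁄A]`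
  have key : ∀ ξ : TensorProduct A C (Ω[A⁄Λ]), ∃ η₁ : TensorProduct B C (Ω[B⁄Λ]),
      KaehlerDifferential.mapBaseChange Λ B C η₁ = KaehlerDifferential.mapBaseChange Λ A C ξ ∧
      (KaehlerDifferential.map Λ A B B).baseChange C η₁ = 0 := by
    intro ξ
    induction ξ using TensorProduct.induction_on with
    | zero => exact ⟨0, by simp⟩
    | add x y hx hy =>
      obtain ⟨a, ha1, ha2⟩ := hx
      obtain ⟨b, hb1, hb2⟩ := hy
      exact ⟨a + b, by rw [map_add, map_add, ha1, hb1], by rw [map_add, ha2, hb2, add_zero]⟩
    | tmul c w =>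
      have hw : w ∈ Submodule.span A (Set.range (KaehlerDifferential.D Λ A)) := by
        rw [KaehlerDifferential.span_range_derivation]; trivial
      revert c
      induction hw using Submodule.span_induction with
      | mem x hx =>
        obtain ⟨a, rfl⟩ := hx
        intro c
        refine ⟨c ⊗ₜ[B] KaehlerDifferential.D Λ B (algebraMap A B a), ?_, ?_⟩
        · rw [KaehlerDifferential.mapBaseChange_tmul, KaehlerDifferential.mapBaseChange_tmul,
            KaehlerDifferential.map_D, KaehlerDifferential.map_D,
            ← IsScalarTower.algebraMap_apply A B C]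
        · rw [LinearMap.baseChange_tmul, KaehlerDifferential.map_D]
          have : KaehlerDifferential.D A B (algebraMap B B (algebraMap A B a)) = 0 := by
            rw [Algebra.algebraMap_self_apply]
            exact Derivation.map_algebraMap _ a
          rw [this, TensorProduct.tmul_zero]
      | zero =>
        intro c
        exact ⟨0, by simp⟩
      | add x y _ _ hx hy =>
        intro c
        obtain ⟨a, ha1, ha2⟩ := hx c
        obtain ⟨b, hb1, hb2⟩ := hy c
        refine ⟨a + b, ?_, ?_⟩
        · rw [TensorProduct.tmul_add, map_add, map_add, ha1, hb1]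
        · rw [map_add, ha2, hb2, add_zero]
      | smul a x _ hx =>
        intro c
        obtain ⟨b, hb1, hb2⟩ := hx (a • c)
        refine ⟨b, ?_, hb2⟩
        rw [hb1, TensorProduct.smul_tmul]
  have h1 : KaehlerDifferential.map Λ A C C (KaehlerDifferential.mapBaseChange Λ B C η₀) = 0 := by
    rw [← hω', ← hη₀]
    clear hη₀ hω hω'
    induction η₀ using TensorProduct.induction_on with
    | zero => simp
    | add x y hx hy => rw [map_add, map_add, map_add, map_add, hx, hy]
    | tmul c w =>
      rw [KaehlerDifferential.mapBaseChange_tmul, LinearMap.baseChange_tmul,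
        KaehlerDifferential.mapBaseChange_tmul, map_smul]
      congr 1
      have hw : w ∈ Submodule.span B (Set.range (KaehlerDifferential.D Λ B)) := by
        rw [KaehlerDifferential.span_range_derivation]; trivial
      induction hw using Submodule.span_induction with
      | mem x hx =>
        obtain ⟨b, rfl⟩ := hx
        simp only [KaehlerDifferential.map_D, Algebra.algebraMap_self_apply]
      | zero => simp
      | add x y _ _ hx hy => simp only [map_add, hx, hy]
      | smul b x _ hx =>
        rw [map_smul, LinearMap.map_smul_of_tower, map_smul, map_smul, hx]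
  obtain ⟨ξ, hξ⟩ := (KaehlerDifferential.exact_mapBaseChange_map Λ A C _).mp h1
  obtain ⟨η₁, h2, h3⟩ := key ξ
  refine ⟨η₀ - η₁, ?_, ?_⟩
  · change KaehlerDifferential.mapBaseChange Λ B C (η₀ - η₁) = 0
    rw [map_sub, h2, hξ, sub_self]
  · rw [map_sub, h3, hη₀, sub_zero]

end Groth.Agent.S3435
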