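import Groth.Statements.S3544
import Groth.Agent.Lib.helper2.Euler2

set_option autoImplicit false
universe u
open HomAlg3

namespace Groth.Agent.S3544

open CategoryTheory CategoryTheory.Limits in
/-- Let E be a cohomological spectral sequence of modules over a ring A, starting at page 2, such that
the E₂ terms have finite length and only finitely many of them (all inside the finite set s of
bidegrees) are nonzero. Then for every r ≥ 2 the Euler–Poincaré characteristic of page r, the
alternating sum over s of (-1)^{p+q} times the length of E_r^{pq}, equals that of page 2. -/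
theorem result {A : Type u} [Ring A]
    (E : E₂CohomologicalSpectralSequence (ModuleCat.{u} A)) (s : Finset (ℤ × ℤ))
    (hs : ∀ pq : ℤ × ℤ, pq ∉ s → IsZero ((E.page 2).X pq))
    (hfl : ∀ pq : ℤ × ℤ, IsFiniteLength A ((E.page 2).X pq)) (r : ℤ) (hr : 2 ≤ r) :
    (s.sum fun pq => (((pq.1 + pq.2).negOnePow : ℤˣ) : ℤ) * ((Module.length A ((E.page r hr).X pq)).toNat : ℤ)) =
      s.sum fun pq => (((pq.1 + pq.2).negOnePow : ℤˣ) : ℤ) * ((Module.length A ((E.page 2).X pq)).toNat : ℤ) := by
  have key : ∀ (r : ℤ) (hr : 2 ≤ r),
      (∀ pq : ℤ × ℤ, pq ∉ s → IsZero ((E.page r hr).X pq)) ∧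
      (∀ pq : ℤ × ℤ, IsFiniteLength A ((E.page r hr).X pq)) ∧
      (s.sum fun pq => (((pq.1 + pq.2).negOnePow : ℤˣ) : ℤ) *
          ((Module.length A ((E.page r hr).X pq)).toNat : ℤ)) =
        s.sum fun pq => (((pq.1 + pq.2).negOnePow : ℤˣ) : ℤ) *
          ((Module.length A ((E.page 2).X pq)).toNat : ℤ) := by
    intro r hr
    induction r, hr using Int.le_induction with
    | base => exact ⟨hs, hfl, rfl⟩
    | succ r hr ih =>
      obtain ⟨h1, h2, h3⟩ := ih
      have hH : ∀ pq, IsFiniteLength A ((E.page r hr).homology pq) := fun pq =>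
        (H2Euler.key H2Euler.addInv_length ((E.page r hr).sc pq) (h2 pq)).2.2.1
      have hiso : ∀ pq, (E.page r hr).homology pq ≅ (E.page (r + 1) (by omega)).X pq :=
        fun pq => E.iso r (r + 1) pq rfl hr
      refine ⟨?_, ?_, ?_⟩
      · intro pq hpq
        have hz : IsZero ((E.page r hr).homology pq) := by
          apply HomologicalComplex.ExactAt.isZero_homology
          exact ShortComplex.exact_of_isZero_X₂ _ (h1 pq hpq)
        exact IsZero.of_iso hz (hiso pq).symm
      · intro pq
        exact (hiso pq).toLinearEquiv.isFiniteLength (hH pq)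
      · rw [← h3]
        have hε : ∀ pq : ℤ × ℤ,
            ((((pq + (r, 1 - r)).1 + (pq + (r, 1 - r)).2).negOnePow : ℤˣ) : ℤ) =
              - (((pq.1 + pq.2).negOnePow : ℤˣ) : ℤ) := by
          intro pq
          have : (pq + (r, 1 - r)).1 + (pq + (r, 1 - r)).2 = pq.1 + pq.2 + 1 := by
            simp only [Prod.fst_add, Prod.snd_add]; ring
          rw [this, Int.negOnePow_succ, Units.val_neg]
        have he := H2Euler.euler' (r, 1 - r) H2Euler.addInv_length (E.page r hr) s h1 h2
          (fun pq => (((pq.1 + pq.2).negOnePow : ℤˣ) : ℤ)) hε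
        simp only [smul_eq_mul] at he
        rw [he]
        apply Finset.sum_congr rfl
        intro pq _
        rw [(hiso pq).toLinearEquiv.length_eq]
  exact (key r hr).2.2

end Groth.Agent.S3544
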