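import Groth.Statements.S3547
import Mathlib
import Groth.Agent.Lib.helper2.GrComp

set_option autoImplicit false
universe u
open CategoryTheory CategoryTheory.Limits AlgebraicGeometry
open EGA2

namespace Groth.Agent.S3547

/-- Let S be a graded ring, M a graded S-module, X = Proj S and p a point of X. The stalk of M(n)~ at p
is the module of fractions m/f in M_p with m, f homogeneous, f not in p and deg m = deg f + n:
precisely, evaluation at p is a bijection from the stalk at p of the sheaf of local sections of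
M(n)~ onto that module of fractions. -/
theorem result {R A : Type u} [CommRing R] [CommRing A] [Algebra R A] (𝒜 : ℕ → Submodule R A) [GradedAlgebra 𝒜]
    {M : Type u} [AddCommGroup M] [Module R M] [Module A M] [IsScalarTower R A M] (ℳ : ℕ → Submodule R M) [DirectSum.Decomposition ℳ] [SetLike.GradedSMul 𝒜 ℳ] (n : ℤ)
    (p : ProjectiveSpectrum 𝒜) :
    Function.Bijective (TopCat.stalkToFiber (GrTilde.isLocFrac 𝒜 ℳ n) p) := by
  classical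
  have hmemgen : ∀ (x : ProjectiveSpectrum 𝒜) (i j : ℕ) (m : ℳ i) (s : 𝒜 j)
      (hs : s.1 ∉ x.asHomogeneousIdeal), (i : ℤ) = j + n →
      (LocalizedModule.mk m.1 ⟨s.1, hs⟩ : GrTilde.LocMod 𝒜 (M := M) x) ∈ GrTilde.tildeAt 𝒜 ℳ n x :=
    fun x i j m s hs hij => Submodule.subset_span ⟨i, j, m, s, hs, hij, rfl⟩
  letI : PartialOrder (TopologicalSpace.OpenNhds (X := ProjectiveSpectrum.top 𝒜) p) :=
    TopologicalSpace.OpenNhds.partialOrder (X := ProjectiveSpectrum.top 𝒜) p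
  have hsm : ∀ (W : TopologicalSpace.Opens (ProjectiveSpectrum.top 𝒜)) (hpW : p ∈ W)
      (k : ℕ) (a b : 𝒜 k) (nb : ∀ y : W, b.1 ∉ y.1.asHomogeneousIdeal)
      (g : ∀ w : W, GrTilde.tildeAt 𝒜 ℳ n w.1) (hg : (GrTilde.isLocFrac 𝒜 ℳ n).pred g),
      ∃ (f : ∀ w : W, GrTilde.tildeAt 𝒜 ℳ n w.1) (_ : (GrTilde.isLocFrac 𝒜 ℳ n).pred f),
        f ⟨p, hpW⟩ = (HomogeneousLocalization.mk ⟨k, a, b, nb ⟨p, hpW⟩⟩ : Twist.A0 𝒜 p) •
          g ⟨p, hpW⟩ := by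
    intro W hpW k a b nb g hg
    let sO : Twist.O (𝒜 := 𝒜) (Opposite.op W) :=
      ⟨fun y => HomogeneousLocalization.mk ⟨k, a, b, nb y⟩,
        fun y => ⟨W, y.2, 𝟙 _, k, a, b, nb, fun _ => rfl⟩⟩
    exact ⟨(GrTilde.smulSect n (Opposite.op W)).smul sO g,
      GrTilde.smul_mem' n (Opposite.op W) sO g hg, rfl⟩
  constructor
  · -- injective
    apply TopCat.stalkToFiber_injective
    intro U V fU hU fV hV e
    obtain ⟨U', hpU', iU', i, j, a, s, nins, ca, wa⟩ := hU ⟨p, U.2⟩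
    obtain ⟨V', hpV', iV', i', j', b, t, nint, cb, wb⟩ := hV ⟨p, V.2⟩
    have e1 : ((fU ⟨p, U.2⟩ : GrTilde.tildeAt 𝒜 ℳ n p) : GrTilde.LocMod 𝒜 (M := M) p)
        = LocalizedModule.mk a.1 ⟨s.1, nins ⟨p, hpU'⟩⟩ := wa ⟨p, hpU'⟩
    have e2 : ((fV ⟨p, V.2⟩ : GrTilde.tildeAt 𝒜 ℳ n p) : GrTilde.LocMod 𝒜 (M := M) p)
        = LocalizedModule.mk b.1 ⟨t.1, nint ⟨p, hpV'⟩⟩ := wb ⟨p, hpV'⟩
    have e3 : (LocalizedModule.mk a.1 ⟨s.1, nins ⟨p, hpU'⟩⟩ : GrTilde.LocMod 𝒜 (M := M) p)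
        = LocalizedModule.mk b.1 ⟨t.1, nint ⟨p, hpV'⟩⟩ :=
      e1.symm.trans ((congrArg Subtype.val e).trans e2)
    obtain ⟨u, hu⟩ := LocalizedModule.mk_eq.mp e3
    have hu' : (u : A) • (t.1 • a.1 - s.1 • b.1) = 0 := by
      rw [smul_sub, sub_eq_zero]
      exact hu
    have hzh : ∃ D, t.1 • a.1 - s.1 • b.1 ∈ ℳ D := by
      have hta : t.1 • a.1 ∈ ℳ (j' + i) :=
        SetLike.GradedSMul.smul_mem (A := 𝒜) (B := ℳ) t.2 a.2
      have hsb : s.1 • b.1 ∈ ℳ (j + i') :=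
        SetLike.GradedSMul.smul_mem (A := 𝒜) (B := ℳ) s.2 b.2
      rcases ca with ha | ha
      · rcases cb with hb | hb
        · have e : j + i' = j' + i := by omega
          rw [e] at hsb
          exact ⟨j' + i, Submodule.sub_mem _ hta hsb⟩
        · refine ⟨j' + i, ?_⟩
          rw [hb, smul_zero, sub_zero]
          exact hta
      · refine ⟨j + i', ?_⟩
        rw [ha, smul_zero, zero_sub]
        exact Submodule.neg_mem _ hsb
    obtain ⟨D, hzD⟩ := hzh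
    have hk : ∃ k, ((DirectSum.decompose 𝒜 (u : A) k : 𝒜 k) : A) ∉
        p.asHomogeneousIdeal.toIdeal := by
      by_contra! hall
      apply u.2
      show (u : A) ∈ p.asHomogeneousIdeal.toIdeal
      rw [← DirectSum.sum_support_decompose 𝒜 (u : A)]
      exact Ideal.sum_mem _ fun k _ => hall k
    obtain ⟨k, hkp⟩ := hk
    have hkz := H2GrComp.comp_smul_eq_zero 𝒜 ℳ hzD (u : A) hu' k
    refine ⟨⟨U' ⊓ V' ⊓ ProjectiveSpectrum.basicOpen 𝒜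
      ((DirectSum.decompose 𝒜 (u : A) k : 𝒜 k) : A), ⟨⟨hpU', hpV'⟩, hkp⟩⟩,
      homOfLE (fun y hy => iU'.le hy.1.1), homOfLE (fun y hy => iV'.le hy.1.2), ?_⟩
    intro w
    apply Subtype.ext
    have hwU' : w.1 ∈ U' := w.2.1.1
    have hwV' : w.1 ∈ V' := w.2.1.2
    have hwu : ((DirectSum.decompose 𝒜 (u : A) k : 𝒜 k) : A) ∉ w.1.asHomogeneousIdeal := w.2.2
    have ea : ((fU ⟨w.1, iU'.le hwU'⟩ : GrTilde.tildeAt 𝒜 ℳ n w.1) :
        GrTilde.LocMod 𝒜 (M := M) w.1) = LocalizedModule.mk a.1 ⟨s.1, nins ⟨w.1, hwU'⟩⟩ :=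
      wa ⟨w.1, hwU'⟩
    have eb : ((fV ⟨w.1, iV'.le hwV'⟩ : GrTilde.tildeAt 𝒜 ℳ n w.1) :
        GrTilde.LocMod 𝒜 (M := M) w.1) = LocalizedModule.mk b.1 ⟨t.1, nint ⟨w.1, hwV'⟩⟩ :=
      wb ⟨w.1, hwV'⟩
    have hab : (LocalizedModule.mk a.1 ⟨s.1, nins ⟨w.1, hwU'⟩⟩ : GrTilde.LocMod 𝒜 (M := M) w.1)
        = LocalizedModule.mk b.1 ⟨t.1, nint ⟨w.1, hwV'⟩⟩ := by
      rw [LocalizedModule.mk_eq]
      refine ⟨⟨_, hwu⟩, ?_⟩
      show ((DirectSum.decompose 𝒜 (u : A) k : 𝒜 k) : A) • (t.1 • a.1)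
        = ((DirectSum.decompose 𝒜 (u : A) k : 𝒜 k) : A) • (s.1 • b.1)
      rw [← sub_eq_zero, ← smul_sub]
      exact hkz
    exact ea.trans (hab.trans eb.symm)
  · -- surjective
    apply TopCat.stalkToFiber_surjective
    rintro ⟨q, hq⟩
    have claim : ∀ (q : GrTilde.LocMod 𝒜 (M := M) p) (hq : q ∈ GrTilde.tildeAt 𝒜 ℳ n p),
        ∃ (U : TopologicalSpace.OpenNhds (X := ProjectiveSpectrum.top 𝒜) p)
          (f : ∀ y : U.1, GrTilde.tildeAt 𝒜 ℳ n y.1)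
          (_ : (GrTilde.isLocFrac 𝒜 ℳ n).pred f), f ⟨p, U.2⟩ = ⟨q, hq⟩ := by
      intro q hq
      induction hq using Submodule.span_induction with
      | mem x hx =>
        obtain ⟨i, j, m, s, hs, hij, rfl⟩ := hx
        have nin : ∀ y : (ProjectiveSpectrum.basicOpen 𝒜 s.1 :
            TopologicalSpace.Opens (ProjectiveSpectrum.top 𝒜)),
            s.1 ∉ y.1.asHomogeneousIdeal := fun y => y.2
        refine ⟨⟨ProjectiveSpectrum.basicOpen 𝒜 s.1, hs⟩,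
          fun y => ⟨LocalizedModule.mk m.1 ⟨s.1, nin y⟩, hmemgen y.1 i j m s (nin y) hij⟩,
          ?_, rfl⟩
        exact fun y => ⟨ProjectiveSpectrum.basicOpen 𝒜 s.1, y.2, 𝟙 _, i, j, m, s, nin,
          Or.inl hij, fun _ => rfl⟩
      | zero =>
        exact ⟨⟨⊤, trivial⟩, 0, GrTilde.zero_mem' (𝒜 := 𝒜) (ℳ := ℳ) n (Opposite.op ⊤), rfl⟩
      | add x y hx hy ihx ihy =>
        obtain ⟨U1, f1, h1, e1⟩ := ihx
        obtain ⟨U2, f2, h2, e2⟩ := ihy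
        refine ⟨⟨U1.1 ⊓ U2.1, ⟨U1.2, U2.2⟩⟩,
          (fun w => f1 ⟨w.1, w.2.1⟩ + f2 ⟨w.1, w.2.2⟩), ?_, ?_⟩
        · exact GrTilde.add_mem' n (Opposite.op (U1.1 ⊓ U2.1)) _ _
            ((GrTilde.isLocFrac 𝒜 ℳ n).res (TopologicalSpace.Opens.infLELeft U1.1 U2.1) f1 h1)
            ((GrTilde.isLocFrac 𝒜 ℳ n).res (TopologicalSpace.Opens.infLERight U1.1 U2.1) f2 h2)
        · exact congrArg₂ (· + ·) e1 e2
      | smul c x hx ihx =>
        obtain ⟨U1, f1, h1, e1⟩ := ihx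
        obtain ⟨⟨k, a, b, hb⟩, rfl⟩ := HomogeneousLocalization.mk_surjective c
        obtain ⟨f, hf, ef⟩ := hsm (ProjectiveSpectrum.basicOpen 𝒜 b.1 ⊓ U1.1) ⟨hb, U1.2⟩ k a b
          (fun y => y.2.1) (fun w => f1 ⟨w.1, w.2.2⟩)
          ((GrTilde.isLocFrac 𝒜 ℳ n).res
            (TopologicalSpace.Opens.infLERight (ProjectiveSpectrum.basicOpen 𝒜 b.1) U1.1) f1 h1)
        exact ⟨⟨ProjectiveSpectrum.basicOpen 𝒜 b.1 ⊓ U1.1, ⟨hb, U1.2⟩⟩, f, hf,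
          ef.trans (congrArg (fun t => (HomogeneousLocalization.mk ⟨k, a, b, hb⟩ :
            Twist.A0 𝒜 p) • t) e1)⟩
    exact claim q hq

end Groth.Agent.S3547
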