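import Groth.Statements.S3548
import Mathlib

set_option autoImplicit false
universe u
open CategoryTheory CategoryTheory.Limits AlgebraicGeometry
open EGA2

namespace Groth.Agent.S3548

/-- Let S be a graded ring, M a graded S-module and X = Proj S. If for every z in M and every
homogeneous f of positive degree some power of f annihilates z, then the O_X-module M~ is zero. -/
theorem result {R A : Type u} [CommRing R] [CommRing A] [Algebra R A] (𝒜 : ℕ → Submodule R A) [GradedAlgebra 𝒜]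
    {M : Type u} [AddCommGroup M] [Module R M] [Module A M] [IsScalarTower R A M] (ℳ : ℕ → Submodule R M) [DirectSum.Decomposition ℳ] [SetLike.GradedSMul 𝒜 ℳ]
    (h : ∀ (z : M) (d : ℕ) (f : A), 0 < d → f ∈ 𝒜 d → ∃ k : ℕ, f ^ k • z = 0) :
    IsZero (GrTilde.tilde 𝒜 ℳ 0) := by
  classical
  have hpt : ∀ x : ProjectiveSpectrum 𝒜,
      ∃ (f : A) (d : ℕ), f ∈ 𝒜 d ∧ 0 < d ∧ f ∉ x.asHomogeneousIdeal := by
    intro x
    by_contra! hcon
    refine x.not_irrelevant_le fun z hz => ?_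
    rw [← DirectSum.sum_support_decompose 𝒜 z]
    refine x.asHomogeneousIdeal.toIdeal.sum_mem fun k _ => ?_
    by_cases hk0 : k = 0
    · subst hk0
      rw [HomogeneousIdeal.mem_irrelevant_iff, GradedRing.proj_apply] at hz
      rw [hz]
      exact zero_mem _
    · exact hcon _ k (SetLike.coe_mem _) (Nat.pos_of_ne_zero hk0)
  have hfun : ∀ (U : (TopologicalSpace.Opens (ProjectiveSpectrum.top 𝒜))ᵒᵖ)
      (s : ∀ x : U.unop, GrTilde.tildeAt 𝒜 ℳ 0 x.1),
      (GrTilde.isLocFrac 𝒜 ℳ 0).pred s → s = 0 := by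
    intro U s hs
    funext x
    refine Subtype.ext ?_
    show ((s x : GrTilde.tildeAt 𝒜 ℳ 0 x.1) : GrTilde.LocMod 𝒜 (M := M) x.1) = 0
    obtain ⟨V, hxV, iV, i, j, m, t, nin, -, w⟩ := hs x
    have hw : ((s x : GrTilde.tildeAt 𝒜 ℳ 0 x.1) : GrTilde.LocMod 𝒜 (M := M) x.1)
        = LocalizedModule.mk m.1 ⟨t.1, nin ⟨x.1, hxV⟩⟩ := w ⟨x.1, hxV⟩
    obtain ⟨f, d, hfd, hd, hfx⟩ := hpt x.1
    obtain ⟨k, hk⟩ := h m.1 d f hd hfd
    haveI : x.1.asHomogeneousIdeal.toIdeal.IsPrime := x.1.isPrime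
    have hfk : f ^ k ∈ x.1.asHomogeneousIdeal.toIdeal.primeCompl :=
      fun hmem => hfx (x.1.isPrime.mem_of_pow_mem k hmem)
    rw [hw, ← LocalizedModule.zero_mk (M := M) (⟨t.1, nin ⟨x.1, hxV⟩⟩ :
      x.1.asHomogeneousIdeal.toIdeal.primeCompl), LocalizedModule.mk_eq]
    refine ⟨⟨f ^ k, hfk⟩, ?_⟩
    rw [smul_zero, smul_zero]
    show f ^ k • (t.1 • m.1) = 0
    rw [smul_comm, hk, smul_zero]
  have hsub : ∀ U : (TopologicalSpace.Opens (ProjectiveSpectrum.top 𝒜))ᵒᵖ,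
      Subsingleton (GrTilde.sect 𝒜 ℳ 0 U) := fun U =>
    ⟨fun a b => Subtype.ext ((hfun U a.1 a.2).trans (hfun U b.1 b.2).symm)⟩
  rw [IsZero.iff_id_eq_zero]
  apply SheafOfModules.hom_ext
  ext U x
  exact @Subsingleton.elim _ (hsub U) _ _

end Groth.Agent.S3548
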