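import Groth.Statements.S3587
import Mathlib

set_option autoImplicit false
universe u
open CategoryTheory AlgebraicGeometry Opposite TopologicalSpace
open EGA2

namespace Groth.Agent.S3587

/-- Let S be a graded ring, M a graded S-module, f a homogeneous element of degree d > 0 and m a
homogeneous element of M. If the fraction m/f^k vanishes in the localized module M_x for every point
x of D_+(f), then f^N m = 0 for some N (so m/f^k = 0 in M_(f)); this is the injectivity half of the
identification of the sections of M~ over D_+(f) with M_(f). -/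
theorem result {R A : Type u} [CommRing R] [CommRing A] [Algebra R A] (𝒜 : ℕ → Submodule R A) [GradedAlgebra 𝒜]
    {M : Type u} [AddCommGroup M] [Module R M] [Module A M] [IsScalarTower R A M] (ℳ : ℕ → Submodule R M) [DirectSum.Decomposition ℳ] [SetLike.GradedSMul 𝒜 ℳ] {d : ℕ} (hd : 0 < d) {f : A} (hf : f ∈ 𝒜 d) (k i : ℕ) (m : ℳ i)
    (h : ∀ x : ProjectiveSpectrum.basicOpen 𝒜 f,
      (LocalizedModule.mk m.1 ⟨f ^ k, fun h => (ProjectiveSpectrum.mem_basicOpen 𝒜 f x.1).mp x.2
        (x.1.isPrime.mem_of_pow_mem k h)⟩ : GrTilde.LocMod 𝒜 (M := M) x.1) = 0) :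
    ∃ N : ℕ, f ^ N • m.1 = 0 := by
  classical
  -- component lemma
  have key : ∀ (j0 : ℕ) (t : A),
      ((DirectSum.decompose ℳ (t • m.1) (j0 + i) : ℳ (j0 + i)) : M)
        = ((DirectSum.decompose 𝒜 t j0 : 𝒜 j0) : A) • m.1 := by
    intro j0 t
    induction t using DirectSum.Decomposition.inductionOn 𝒜 with
    | zero => simp
    | @homogeneous j a =>
      have hmem : (a : A) • m.1 ∈ ℳ (j + i) :=
        SetLike.GradedSMul.smul_mem (A := 𝒜) (B := ℳ) a.2 m.2
      by_cases hj : j = j0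
      · subst hj
        rw [DirectSum.decompose_of_mem_same ℳ hmem, DirectSum.decompose_of_mem_same 𝒜 a.2]
      · have hne : j + i ≠ j0 + i := fun h => hj (Nat.add_right_cancel h)
        rw [DirectSum.decompose_of_mem_ne ℳ hmem hne, DirectSum.decompose_of_mem_ne 𝒜 a.2 hj,
          zero_smul]
    | add a b ha hb =>
      rw [add_smul, DirectSum.decompose_add, DirectSum.decompose_add, DirectSum.add_apply,
        DirectSum.add_apply, Submodule.coe_add, Submodule.coe_add, add_smul, ha, hb]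
  have hrad : f ∈ (Ideal.torsionOf A M m.1).radical := by
    rw [Ideal.radical_eq_sInf, Ideal.mem_sInf]
    rintro 𝔮 ⟨hle, hprime⟩
    by_contra hfq
    have hp : (𝔮.homogeneousCore 𝒜).toIdeal.IsPrime := Ideal.IsPrime.homogeneousCore hprime
    have hcle : (𝔮.homogeneousCore 𝒜).toIdeal ≤ 𝔮 := Ideal.toIdeal_homogeneousCore_le 𝒜 𝔮
    have hfp : f ∉ (𝔮.homogeneousCore 𝒜).toIdeal := fun h => hfq (hcle h)
    have hirr : f ∈ HomogeneousIdeal.irrelevant 𝒜 := by
      rw [HomogeneousIdeal.mem_irrelevant_iff, GradedRing.proj_apply]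
      exact DirectSum.decompose_of_mem_ne 𝒜 hf hd.ne'
    let x : ProjectiveSpectrum 𝒜 := ⟨𝔮.homogeneousCore 𝒜, hp, fun hle' => hfp (hle' hirr)⟩
    have hx : x ∈ ProjectiveSpectrum.basicOpen 𝒜 f :=
      (ProjectiveSpectrum.mem_basicOpen 𝒜 f x).mpr hfp
    have hfk : f ^ k ∈ x.asHomogeneousIdeal.toIdeal.primeCompl :=
      fun h => hfp (hp.mem_of_pow_mem k h)
    have h0 := (h ⟨x, hx⟩).trans (LocalizedModule.zero_mk (M := M) (⟨f ^ k, hfk⟩ :
      x.asHomogeneousIdeal.toIdeal.primeCompl)).symm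
    rw [LocalizedModule.mk_eq] at h0
    obtain ⟨u, hu⟩ := h0
    rw [smul_zero, smul_zero] at hu
    have ht : ((u : A) * f ^ k) • m.1 = 0 := by
      rw [mul_smul]
      exact hu
    have htn : (u : A) * f ^ k ∉ (𝔮.homogeneousCore 𝒜).toIdeal := by
      intro hmem
      rcases hp.mem_or_mem hmem with h1 | h1
      · exact u.2 h1
      · exact hfp (hp.mem_of_pow_mem k h1)
    apply htn
    rw [← DirectSum.sum_support_decompose 𝒜 ((u : A) * f ^ k)]
    refine Ideal.sum_mem _ fun j _ => ?_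
    refine Ideal.mem_homogeneousCore_of_homogeneous_of_mem ⟨j, SetLike.coe_mem _⟩ (hle ?_)
    rw [Ideal.mem_torsionOf_iff, ← key j, ht]
    simp
  obtain ⟨N, hN⟩ := hrad
  exact ⟨N, (Ideal.mem_torsionOf_iff _ _).mp hN⟩

end Groth.Agent.S3587
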