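import Groth.Statements.S3549
import Mathlib
import Groth.Agent.S3587

set_option autoImplicit false
universe u
open CategoryTheory CategoryTheory.Limits AlgebraicGeometry
open EGA2

namespace Groth.Agent.S3549

/-- Let S be a graded ring whose irrelevant ideal S_+ is generated by the degree-one elements, M a
graded S-module and X = Proj S. If the O_X-module M~ is zero, then for every z in M and every
homogeneous f of positive degree some power of f annihilates z. -/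
theorem result {R A : Type u} [CommRing R] [CommRing A] [Algebra R A] (𝒜 : ℕ → Submodule R A) [GradedAlgebra 𝒜]
    (hgen : (HomogeneousIdeal.irrelevant 𝒜).toIdeal = Ideal.span (𝒜 1 : Set A))
    {M : Type u} [AddCommGroup M] [Module R M] [Module A M] [IsScalarTower R A M] (ℳ : ℕ → Submodule R M) [DirectSum.Decomposition ℳ] [SetLike.GradedSMul 𝒜 ℳ]
    (h : IsZero (GrTilde.tilde 𝒜 ℳ 0)) (z : M) (d : ℕ) (f : A) (hd : 0 < d) (hf : f ∈ 𝒜 d) :
    ∃ k : ℕ, f ^ k • z = 0 := by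
  classical
  have e : (𝟙 (GrTilde.tilde 𝒜 ℳ 0)) = 0 := h.eq_of_src _ _
  have e2 : ∀ (U : (TopologicalSpace.Opens (ProjectiveSpectrum.top 𝒜))ᵒᵖ)
      (s : GrTilde.sect 𝒜 ℳ 0 U), s = 0 := by
    intro U s
    have := congrArg (fun φ : GrTilde.tilde 𝒜 ℳ 0 ⟶ GrTilde.tilde 𝒜 ℳ 0 =>
      (φ.val.app U).hom s) e
    exact this
  have hmk : ∀ (x : ProjectiveSpectrum 𝒜) (a : M)
      (s s' : x.asHomogeneousIdeal.toIdeal.primeCompl),
      (LocalizedModule.mk a s : GrTilde.LocMod 𝒜 (M := M) x) = 0 →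
      (LocalizedModule.mk a s' : GrTilde.LocMod 𝒜 (M := M) x) = 0 := by
    intro x a s s' h0
    rw [← LocalizedModule.zero_mk (M := M) s, LocalizedModule.mk_eq] at h0
    obtain ⟨u, hu⟩ := h0
    rw [smul_zero, smul_zero] at hu
    rw [← LocalizedModule.zero_mk (M := M) s', LocalizedModule.mk_eq]
    refine ⟨u * s, ?_⟩
    rw [smul_zero, smul_zero]
    show ((u : A) * (s : A)) • ((s' : A) • a) = 0
    have hu' : (u : A) • ((s : A) • a) = 0 := hu
    rw [smul_comm, mul_smul, hu', smul_zero]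
  have hg1 : ∀ x : ProjectiveSpectrum 𝒜, ∃ g : A, g ∈ 𝒜 1 ∧ g ∉ x.asHomogeneousIdeal := by
    intro x
    by_contra! hcon
    have hle : (HomogeneousIdeal.irrelevant 𝒜).toIdeal ≤ x.asHomogeneousIdeal.toIdeal := by
      rw [hgen, Ideal.span_le]
      intro g hg
      exact hcon g hg
    exact x.not_irrelevant_le fun z hz => hle hz
  have hmem : ∀ (x : ProjectiveSpectrum 𝒜) (i : ℕ) (m : ℳ i) (g : A) (hgi : g ∈ 𝒜 i)
      (hgx : g ∉ x.asHomogeneousIdeal),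
      (LocalizedModule.mk m.1 ⟨g, hgx⟩ : GrTilde.LocMod 𝒜 (M := M) x) ∈ GrTilde.tildeAt 𝒜 ℳ 0 x :=
    fun x i m g hgi hgx => Submodule.subset_span ⟨i, i, m, ⟨g, hgi⟩, hgx, by simp, rfl⟩
  have hloc : ∀ (i : ℕ) (m : ℳ i) (x : ProjectiveSpectrum 𝒜)
      (s' : x.asHomogeneousIdeal.toIdeal.primeCompl),
      (LocalizedModule.mk m.1 s' : GrTilde.LocMod 𝒜 (M := M) x) = 0 := by
    intro i m x s'
    obtain ⟨g, hg, hgx⟩ := hg1 x
    let U : TopologicalSpace.Opens (ProjectiveSpectrum.top 𝒜) := ProjectiveSpectrum.basicOpen 𝒜 g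
    have hxU : x ∈ U := (ProjectiveSpectrum.mem_basicOpen 𝒜 g x).mpr hgx
    have nin : ∀ y : U, g ^ i ∉ y.1.asHomogeneousIdeal := fun y hy =>
      (ProjectiveSpectrum.mem_basicOpen 𝒜 g y.1).mp y.2 (y.1.isPrime.mem_of_pow_mem i hy)
    have hgi : g ^ i ∈ 𝒜 i := by simpa using SetLike.pow_mem_graded i hg
    let s : ∀ y : U, GrTilde.tildeAt 𝒜 ℳ 0 y.1 := fun y =>
      ⟨LocalizedModule.mk m.1 ⟨g ^ i, nin y⟩,
        hmem y.1 i m (g ^ i) hgi (nin y)⟩
    have hs : (GrTilde.isLocFrac 𝒜 ℳ 0).pred s := fun y =>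
      ⟨U, y.2, 𝟙 U, i, i, m, ⟨g ^ i, hgi⟩, nin, Or.inl (by simp), fun _ => rfl⟩
    have h0 : (⟨s, hs⟩ : GrTilde.sect 𝒜 ℳ 0 (Opposite.op U)) = 0 := e2 _ _
    have h1 : (LocalizedModule.mk m.1 ⟨g ^ i, nin ⟨x, hxU⟩⟩ :
        GrTilde.LocMod 𝒜 (M := M) x) = 0 := by
      have := congrArg (fun t : GrTilde.sect 𝒜 ℳ 0 (Opposite.op U) =>
        ((t.1 ⟨x, hxU⟩ : GrTilde.tildeAt 𝒜 ℳ 0 x) : GrTilde.LocMod 𝒜 (M := M) x)) h0
      exact this
    exact hmk x m.1 _ s' h1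
  induction z using DirectSum.Decomposition.inductionOn ℳ with
  | zero => exact ⟨0, by simp⟩
  | @homogeneous i m =>
    exact Groth.Agent.S3587.result 𝒜 ℳ hd hf 0 i m (fun x => hloc i m x.1 _)
  | add a b ha hb =>
    obtain ⟨k1, h1⟩ := ha
    obtain ⟨k2, h2⟩ := hb
    have e1 : f ^ (k1 + k2) • a = 0 := by rw [pow_add, mul_comm, mul_smul, h1, smul_zero]
    have e2' : f ^ (k1 + k2) • b = 0 := by rw [pow_add, mul_smul, h2, smul_zero]
    exact ⟨k1 + k2, by rw [smul_add, e1, e2', add_zero]⟩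

end Groth.Agent.S3549
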