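import Groth.Statements.S3553
import Mathlib

set_option autoImplicit false
universe u
open CategoryTheory CategoryTheory.Limits AlgebraicGeometry
open EGA2

namespace Groth.Agent.S3553

/-- In the case where the induced morphism is defined on all of Proj S: let φ : S' → S be a homomorphism
of graded rings such that S_+ is contained in the ideal generated by φ(S'_+), and suppose every
element of the kernel of φ is nilpotent. Then the induced morphism from Proj S to Proj S' has dense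
image. -/
theorem result {R A : Type u} [CommRing R] [CommRing A] [Algebra R A] (𝒜 : ℕ → Submodule R A) [GradedAlgebra 𝒜]
    {B : Type u} [CommRing B] [Algebra R B] (ℬ : ℕ → Submodule R B) [GradedAlgebra ℬ]
    (φ : 𝒜 →+*ᵍ ℬ) (hφ : HomogeneousIdeal.irrelevant ℬ ≤ (HomogeneousIdeal.irrelevant 𝒜).map φ)
    (hker : ∀ a : A, φ a = 0 → IsNilpotent a) :
    DenseRange (Proj.map φ hφ).base := by
  classical
  show Dense (Set.range (ProjectiveSpectrum.comap φ hφ) : Set (ProjectiveSpectrum 𝒜))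
  rw [(ProjectiveSpectrum.isTopologicalBasis_basic_opens 𝒜).dense_iff]
  rintro _ ⟨r, rfl⟩ ⟨x, hx⟩
  have hx' : r ∉ x.asHomogeneousIdeal := (ProjectiveSpectrum.mem_basicOpen 𝒜 r x).mp hx
  -- a component of r outside x
  have h1 : ∃ i, ((DirectSum.decompose 𝒜 r i : 𝒜 i) : A) ∉ x.asHomogeneousIdeal := by
    by_contra! hall
    apply hx'
    rw [← DirectSum.sum_support_decompose 𝒜 r]
    exact x.asHomogeneousIdeal.toIdeal.sum_mem fun i _ => hall i
  obtain ⟨i, hri⟩ := h1
  -- a positive degree homogeneous element outside x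
  have h2 : ∃ (f : A) (d : ℕ), f ∈ 𝒜 d ∧ 0 < d ∧ f ∉ x.asHomogeneousIdeal := by
    by_contra! hcon
    refine x.not_irrelevant_le fun z hz => ?_
    rw [← DirectSum.sum_support_decompose 𝒜 z]
    refine x.asHomogeneousIdeal.toIdeal.sum_mem fun k _ => ?_
    by_cases hk0 : k = 0
    · subst hk0
      rw [HomogeneousIdeal.mem_irrelevant_iff, GradedRing.proj_apply] at hz
      rw [hz]
      exact zero_mem _
    · exact hcon _ k (SetLike.coe_mem _) (Nat.pos_of_ne_zero hk0)
  obtain ⟨f, d, hfd, hd, hfx⟩ := h2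
  set ri : A := ((DirectSum.decompose 𝒜 r i : 𝒜 i) : A) with hri_def
  have ha : ri * f ∉ x.asHomogeneousIdeal := fun hmem =>
    (x.isPrime.mem_or_mem hmem).elim hri hfx
  have h4 : ¬ IsNilpotent (ri * f) := by
    rintro ⟨n, hn⟩
    refine ha (x.isPrime.mem_of_pow_mem n ?_)
    rw [hn]
    exact zero_mem _
  have h5 : ¬ IsNilpotent (φ (ri * f)) := by
    rintro ⟨n, hn⟩
    obtain ⟨m, hm⟩ := hker ((ri * f) ^ n) (by rw [map_pow, hn])
    exact h4 ⟨n * m, by rw [pow_mul]; exact hm⟩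
  have h6 : ∃ 𝔮 : Ideal B, 𝔮.IsPrime ∧ φ (ri * f) ∉ 𝔮 := by
    by_contra! hall
    apply h5
    rw [← mem_nilradical, nilradical_eq_sInf, Ideal.mem_sInf]
    intro J hJ
    exact hall J hJ
  obtain ⟨𝔮, h𝔮, haq⟩ := h6
  have hp : (𝔮.homogeneousCore ℬ).toIdeal.IsPrime := Ideal.IsPrime.homogeneousCore h𝔮
  have hap : φ (ri * f) ∉ (𝔮.homogeneousCore ℬ).toIdeal := fun hmem =>
    haq (Ideal.toIdeal_homogeneousCore_le ℬ 𝔮 hmem)
  have hφf : φ f ∈ ℬ d := φ.map_mem hfd
  have hirr : φ f ∈ HomogeneousIdeal.irrelevant ℬ := by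
    rw [HomogeneousIdeal.mem_irrelevant_iff, GradedRing.proj_apply]
    exact DirectSum.decompose_of_mem_ne ℬ hφf hd.ne'
  have hφfp : φ f ∉ (𝔮.homogeneousCore ℬ).toIdeal := fun hmem =>
    hap (by rw [map_mul]; exact Ideal.mul_mem_left _ _ hmem)
  let y : ProjectiveSpectrum ℬ := ⟨𝔮.homogeneousCore ℬ, hp, fun hle => hφfp (hle hirr)⟩
  refine ⟨ProjectiveSpectrum.comap φ hφ y, ?_, ⟨y, rfl⟩⟩
  refine (ProjectiveSpectrum.mem_basicOpen 𝒜 r _).mpr fun hr => ?_
  have h10 := ((ProjectiveSpectrum.comap φ hφ y).asHomogeneousIdeal.isHomogeneous.mem_iff.mp hr) i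
  have h11 : φ ri ∈ (𝔮.homogeneousCore ℬ).toIdeal := h10
  exact hap (by rw [map_mul]; exact Ideal.mul_mem_right _ _ h11)

end Groth.Agent.S3553
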