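import Groth.Statements.S3555
import Mathlib

set_option autoImplicit false
universe u
open CategoryTheory CategoryTheory.Limits AlgebraicGeometry
open EGA2

namespace Groth.Agent.S3555

/-- Let S be a graded ring whose irrelevant ideal S_+ is generated by the degree-one elements, X = Proj
S, and f homogeneous of degree d > 0. Then D_+(f) is the set of points p of X at which the global
section f/1 of O_X(d) does not vanish, i.e. at which its value generates the module of degree-d
fractions at p. -/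
theorem result {R A : Type u} [CommRing R] [CommRing A] [Algebra R A] (𝒜 : ℕ → Submodule R A) [GradedAlgebra 𝒜]
    (hgen : (HomogeneousIdeal.irrelevant 𝒜).toIdeal = Ideal.span (𝒜 1 : Set A))
    {d : ℕ} (hd : 0 < d) (f : 𝒜 d) (p : ProjectiveSpectrum 𝒜) :
    p ∈ ProjectiveSpectrum.basicOpen 𝒜 (f : A) ↔
      Submodule.span (Twist.A0 𝒜 p) {(Twist.globalOf 𝒜 f).1 ⟨p, trivial⟩} = ⊤ := by
  classical
  have h1 : (1 : A) ∈ p.asHomogeneousIdeal.toIdeal.primeCompl :=
    fun h => p.isPrime.ne_top ((Ideal.eq_top_iff_one _).mpr h)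
  constructor
  · intro hp
    have hfp : (f : A) ∉ p.asHomogeneousIdeal.toIdeal :=
      (ProjectiveSpectrum.mem_basicOpen 𝒜 _ p).mp hp
    rw [Submodule.eq_top_iff']
    rintro ⟨q, hq⟩
    have key : ∀ (q : Twist.Loc 𝒜 p) (hq : q ∈ Twist.twistAt 𝒜 (d : ℤ) p),
        (⟨q, hq⟩ : Twist.twistAt 𝒜 (d : ℤ) p) ∈
          Submodule.span (Twist.A0 𝒜 p) {(Twist.globalOf 𝒜 f).1 ⟨p, trivial⟩} := by
      intro q hq
      induction hq using Submodule.span_induction with
      | mem x hx =>
        obtain ⟨i, j, a, s, hs, hij, rfl⟩ := hx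
        have hij' : i = j + d := by exact_mod_cast hij
        subst hij'
        rw [Submodule.mem_span_singleton]
        refine ⟨HomogeneousLocalization.mk ⟨j + d, a,
          ⟨s.1 * f.1, SetLike.mul_mem_graded s.2 f.2⟩,
          fun hmem => (p.isPrime.mem_or_mem hmem).elim hs hfp⟩, ?_⟩
        apply Subtype.ext
        show (HomogeneousLocalization.mk _ : Twist.A0 𝒜 p) •
          (Localization.mk (f : A) ⟨1, h1⟩ : Twist.Loc 𝒜 p) = Localization.mk a.1 ⟨s.1, hs⟩
        rw [Algebra.smul_def, HomogeneousLocalization.algebraMap_apply,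
          HomogeneousLocalization.val_mk, Localization.mk_mul, Localization.mk_eq_mk_iff,
          Localization.r_iff_exists]
        refine ⟨1, ?_⟩
        simp only [Submonoid.coe_mul, Submonoid.coe_one, one_mul, mul_one]
        ring
      | zero => exact Submodule.zero_mem _
      | add x y hx hy ihx ihy => exact Submodule.add_mem _ ihx ihy
      | smul c x hx ihx => exact Submodule.smul_mem _ c ihx
    exact key q hq
  · intro htop
    rw [ProjectiveSpectrum.mem_basicOpen]
    intro hfp
    obtain ⟨g, hg, hgp⟩ : ∃ g : A, g ∈ 𝒜 1 ∧ g ∉ p.asHomogeneousIdeal := by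
      by_contra! hcon
      have hle : (HomogeneousIdeal.irrelevant 𝒜).toIdeal ≤ p.asHomogeneousIdeal.toIdeal := by
        rw [hgen, Ideal.span_le]
        intro g hg
        exact hcon g hg
      exact p.not_irrelevant_le fun z hz => hle hz
    have hgd : g ^ d ∈ 𝒜 d := by simpa using SetLike.pow_mem_graded d hg
    have hmem : (Localization.mk (g ^ d) ⟨1, h1⟩ : Twist.Loc 𝒜 p) ∈ Twist.twistAt 𝒜 (d : ℤ) p :=
      Submodule.subset_span ⟨d, 0, ⟨g ^ d, hgd⟩, ⟨1, SetLike.GradedOne.one_mem⟩, h1,
        by simp, rfl⟩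
    have h2 : (⟨_, hmem⟩ : Twist.twistAt 𝒜 (d : ℤ) p) ∈
        Submodule.span (Twist.A0 𝒜 p) {(Twist.globalOf 𝒜 f).1 ⟨p, trivial⟩} := by
      rw [htop]
      exact Submodule.mem_top
    rw [Submodule.mem_span_singleton] at h2
    obtain ⟨c, hc⟩ := h2
    have hc' : c • (Localization.mk (f : A) ⟨1, h1⟩ : Twist.Loc 𝒜 p)
        = Localization.mk (g ^ d) ⟨1, h1⟩ := congrArg Subtype.val hc
    rw [Algebra.smul_def] at hc'
    have hfm : (Localization.mk (f : A) ⟨1, h1⟩ : Twist.Loc 𝒜 p) ∈
        IsLocalRing.maximalIdeal (Twist.Loc 𝒜 p) := by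
      have e : (Localization.mk (f : A) ⟨1, h1⟩ : Twist.Loc 𝒜 p) = algebraMap A _ (f : A) :=
        Localization.mk_one_eq_algebraMap _
      rw [e, IsLocalization.AtPrime.to_map_mem_maximal_iff _ p.asHomogeneousIdeal.toIdeal]
      exact hfp
    have hgm : (Localization.mk (g ^ d) ⟨1, h1⟩ : Twist.Loc 𝒜 p) ∈
        IsLocalRing.maximalIdeal (Twist.Loc 𝒜 p) := by
      rw [← hc']
      exact Ideal.mul_mem_left _ _ hfm
    have hgdp : g ^ d ∈ p.asHomogeneousIdeal.toIdeal := by
      have e : (Localization.mk (g ^ d) ⟨1, h1⟩ : Twist.Loc 𝒜 p) = algebraMap A _ (g ^ d) :=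
        Localization.mk_one_eq_algebraMap _
      rw [e, IsLocalization.AtPrime.to_map_mem_maximal_iff _ p.asHomogeneousIdeal.toIdeal] at hgm
      exact hgm
    exact hgp (p.isPrime.mem_of_pow_mem d hgdp)

end Groth.Agent.S3555
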