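import Groth.Statements.S3578
import Mathlib

set_option autoImplicit false
universe u
open EGA2

namespace Groth.Agent.S3578

/-- Via the correspondence between closed subsets of Proj S and radical graded ideals of S_+: let S be a
graded ring and Z a closed subset of Proj S, with J = S_+ ∩ (vanishing ideal of Z). Then Z is
irreducible if and only if J is a prime ideal of the ring-without-unit S_+: J ≠ S_+ and a product of
two elements of S_+ lies in J only if one factor does. -/
theorem result {R A : Type u} [CommRing R] [CommRing A] [Algebra R A] (𝒜 : ℕ → Submodule R A) [GradedAlgebra 𝒜]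
    (Z : Set (ProjectiveSpectrum 𝒜)) (hZ : IsClosed Z) :
    IsIrreducible Z ↔
      (¬ (HomogeneousIdeal.irrelevant 𝒜).toIdeal ≤ (ProjectiveSpectrum.vanishingIdeal Z).toIdeal ∧
        ∀ f ∈ (HomogeneousIdeal.irrelevant 𝒜).toIdeal, ∀ g ∈ (HomogeneousIdeal.irrelevant 𝒜).toIdeal,
          f * g ∈ (ProjectiveSpectrum.vanishingIdeal Z).toIdeal →
            f ∈ (ProjectiveSpectrum.vanishingIdeal Z).toIdeal ∨ g ∈ (ProjectiveSpectrum.vanishingIdeal Z).toIdeal) := by
  classical
  constructor
  · rintro ⟨⟨x, hxZ⟩, hpre⟩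
    have hIx : ∀ a, a ∈ (ProjectiveSpectrum.vanishingIdeal Z).toIdeal →
        a ∈ x.asHomogeneousIdeal.toIdeal :=
      fun a ha => (ProjectiveSpectrum.mem_vanishingIdeal Z a).mp ha x hxZ
    refine ⟨fun hle => x.not_irrelevant_le fun a ha => hIx a (hle ha), ?_⟩
    intro f _ g _ hfg
    rw [isPreirreducible_iff_isClosed_union_isClosed] at hpre
    have hcov : Z ⊆ ProjectiveSpectrum.zeroLocus 𝒜 {f} ∪ ProjectiveSpectrum.zeroLocus 𝒜 {g} := by
      intro w hw
      have hm : f * g ∈ w.asHomogeneousIdeal.toIdeal :=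
        (ProjectiveSpectrum.mem_vanishingIdeal Z (f * g)).mp hfg w hw
      rcases w.isPrime.mem_or_mem hm with h | h
      · exact Or.inl ((ProjectiveSpectrum.mem_zeroLocus 𝒜 w {f}).mpr
          (Set.singleton_subset_iff.mpr h))
      · exact Or.inr ((ProjectiveSpectrum.mem_zeroLocus 𝒜 w {g}).mpr
          (Set.singleton_subset_iff.mpr h))
    rcases hpre _ _ (ProjectiveSpectrum.isClosed_zeroLocus 𝒜 {f})
      (ProjectiveSpectrum.isClosed_zeroLocus 𝒜 {g}) hcov with h | h
    · left
      refine (ProjectiveSpectrum.mem_vanishingIdeal Z f).mpr fun w hw => ?_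
      exact Set.singleton_subset_iff.mp ((ProjectiveSpectrum.mem_zeroLocus 𝒜 w {f}).mp (h hw))
    · right
      refine (ProjectiveSpectrum.mem_vanishingIdeal Z g).mpr fun w hw => ?_
      exact Set.singleton_subset_iff.mp ((ProjectiveSpectrum.mem_zeroLocus 𝒜 w {g}).mp (h hw))
  · rintro ⟨hne, hprime⟩
    have hZne : Z.Nonempty := by
      by_contra hemp
      rw [Set.not_nonempty_iff_eq_empty] at hemp
      apply hne
      intro a _
      refine (ProjectiveSpectrum.mem_vanishingIdeal Z a).mpr fun x hx => ?_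
      rw [hemp] at hx
      exact ((Set.mem_empty_iff_false x).mp hx).elim
    refine ⟨hZne, ?_⟩
    rw [isPreirreducible_iff_isClosed_union_isClosed]
    intro Z1 Z2 hZ1 hZ2 hcov
    obtain ⟨s1, rfl⟩ := (ProjectiveSpectrum.isClosed_iff_zeroLocus 𝒜 Z1).mp hZ1
    obtain ⟨s2, rfl⟩ := (ProjectiveSpectrum.isClosed_iff_zeroLocus 𝒜 Z2).mp hZ2
    by_contra hcon
    rw [not_or] at hcon
    obtain ⟨h1, h2⟩ := hcon
    rw [Set.not_subset] at h1 h2
    obtain ⟨x1, hx1Z, hx1⟩ := h1
    obtain ⟨x2, hx2Z, hx2⟩ := h2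
    rw [ProjectiveSpectrum.mem_zeroLocus, Set.not_subset] at hx1 hx2
    obtain ⟨a, ha1, hax1⟩ := hx1
    obtain ⟨b, hb2, hbx2⟩ := hx2
    have hu : ∃ u, u ∈ HomogeneousIdeal.irrelevant 𝒜 ∧ u ∉ x1.asHomogeneousIdeal := by
      by_contra! hall
      exact x1.not_irrelevant_le fun u hu => hall u hu
    obtain ⟨u, hu, hux1⟩ := hu
    have hv : ∃ v, v ∈ HomogeneousIdeal.irrelevant 𝒜 ∧ v ∉ x2.asHomogeneousIdeal := by
      by_contra! hall
      exact x2.not_irrelevant_le fun v hv => hall v hv
    obtain ⟨v, hv, hvx2⟩ := hv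
    have hab : a * b ∈ (ProjectiveSpectrum.vanishingIdeal Z).toIdeal := by
      refine (ProjectiveSpectrum.mem_vanishingIdeal Z _).mpr fun w hw => ?_
      show a * b ∈ w.asHomogeneousIdeal.toIdeal
      rcases hcov hw with h | h
      · exact w.asHomogeneousIdeal.toIdeal.mul_mem_right b
          ((ProjectiveSpectrum.mem_zeroLocus 𝒜 w s1).mp h ha1)
      · exact w.asHomogeneousIdeal.toIdeal.mul_mem_left a
          ((ProjectiveSpectrum.mem_zeroLocus 𝒜 w s2).mp h hb2)
    have hprod : (u * a) * (v * b) ∈ (ProjectiveSpectrum.vanishingIdeal Z).toIdeal := by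
      have e : (u * a) * (v * b) = (u * v) * (a * b) := by ring
      rw [e]
      exact Ideal.mul_mem_left _ _ hab
    rcases hprime (u * a) ((HomogeneousIdeal.irrelevant 𝒜).toIdeal.mul_mem_right a hu)
      (v * b) ((HomogeneousIdeal.irrelevant 𝒜).toIdeal.mul_mem_right b hv) hprod with h | h
    · have hm : u * a ∈ x1.asHomogeneousIdeal.toIdeal :=
        (ProjectiveSpectrum.mem_vanishingIdeal Z _).mp h x1 hx1Z
      rcases x1.isPrime.mem_or_mem hm with h' | h'
      · exact hux1 h'
      · exact hax1 h'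
    · have hm : v * b ∈ x2.asHomogeneousIdeal.toIdeal :=
        (ProjectiveSpectrum.mem_vanishingIdeal Z _).mp h x2 hx2Z
      rcases x2.isPrime.mem_or_mem hm with h' | h'
      · exact hvx2 h'
      · exact hbx2 h'

end Groth.Agent.S3578
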