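import Groth.Statements.S3557
import Mathlib
import Groth.Agent.S3578

set_option autoImplicit false
universe u
open CategoryTheory CategoryTheory.Limits AlgebraicGeometry
open EGA2

namespace Groth.Agent.S3557

/-- Let S be a graded ring which is essentially reduced (S_+ contains no nonzero nilpotent). Then Proj S
is an integral scheme if and only if S is essentially integral, i.e. S_+ is nonzero and the product
of two nonzero elements of S_+ is nonzero. -/
theorem result {R A : Type u} [CommRing R] [CommRing A] [Algebra R A] (𝒜 : ℕ → Submodule R A) [GradedAlgebra 𝒜]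
    (hred : ∀ f ∈ (HomogeneousIdeal.irrelevant 𝒜).toIdeal, IsNilpotent f → f = 0) :
    AlgebraicGeometry.IsIntegral (Proj 𝒜) ↔
      ((∃ f ∈ (HomogeneousIdeal.irrelevant 𝒜).toIdeal, f ≠ 0) ∧
        ∀ f ∈ (HomogeneousIdeal.irrelevant 𝒜).toIdeal, ∀ g ∈ (HomogeneousIdeal.irrelevant 𝒜).toIdeal,
          f * g = 0 → f = 0 ∨ g = 0) := by
  classical
  have hvan : ∀ h ∈ (HomogeneousIdeal.irrelevant 𝒜).toIdeal,
      (h ∈ (ProjectiveSpectrum.vanishingIdeal
        (Set.univ : Set (ProjectiveSpectrum 𝒜))).toIdeal ↔ h = 0) := by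
    intro h hh
    constructor
    · intro hv
      apply hred h hh
      by_contra hnn
      obtain ⟨𝔮, h𝔮, hq⟩ : ∃ 𝔮 : Ideal A, 𝔮.IsPrime ∧ h ∉ 𝔮 := by
        by_contra! hall
        apply hnn
        rw [← mem_nilradical, nilradical_eq_sInf, Ideal.mem_sInf]
        intro J hJ
        exact hall J hJ
      have hp : (𝔮.homogeneousCore 𝒜).toIdeal.IsPrime := Ideal.IsPrime.homogeneousCore h𝔮
      have hhp : h ∉ (𝔮.homogeneousCore 𝒜).toIdeal := fun hm =>
        hq (Ideal.toIdeal_homogeneousCore_le 𝒜 𝔮 hm)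
      let y : ProjectiveSpectrum 𝒜 := ⟨𝔮.homogeneousCore 𝒜, hp, fun hle => hhp (hle hh)⟩
      exact hhp ((ProjectiveSpectrum.mem_vanishingIdeal _ h).mp hv y (Set.mem_univ y))
    · rintro rfl
      exact zero_mem _
  have hirr := Groth.Agent.S3578.result 𝒜 (Set.univ : Set (ProjectiveSpectrum 𝒜)) isClosed_univ
  have hredP : AlgebraicGeometry.IsReduced (Proj 𝒜) := by
    haveI : ∀ i, IsReduced ((Proj.affineOpenCover 𝒜).openCover.X i) := by
      rintro ⟨⟨d, hd⟩, ⟨f, hf⟩⟩
      have hf' : f ∈ 𝒜 d := hf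
      have hfirr : f ∈ (HomogeneousIdeal.irrelevant 𝒜).toIdeal :=
        (HomogeneousIdeal.mem_irrelevant_iff 𝒜 f).mpr
          (DirectSum.decompose_of_mem_ne 𝒜 hf' hd.ne')
      haveI : _root_.IsReduced (HomogeneousLocalization.Away 𝒜 f) := by
        refine ⟨fun x hx => ?_⟩
        obtain ⟨m, hm⟩ := hx
        obtain ⟨n, b, hb, rfl⟩ := HomogeneousLocalization.Away.mk_surjective 𝒜 hf' x
        apply HomogeneousLocalization.val_injective
        rw [HomogeneousLocalization.val_zero]
        have hv : (HomogeneousLocalization.Away.mk 𝒜 hf' n b hb).val ^ m = 0 := by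
          rw [← HomogeneousLocalization.val_pow, hm, HomogeneousLocalization.val_zero]
        rw [HomogeneousLocalization.Away.val_mk] at hv ⊢
        rw [Localization.mk_pow, Localization.mk_eq_mk'_apply,
          IsLocalization.mk'_eq_zero_iff] at hv
        obtain ⟨⟨_, N, rfl⟩, hN⟩ := hv
        have hfb : f * b = 0 := by
          apply hred
          · exact Ideal.mul_mem_right _ _ hfirr
          · refine ⟨N + m, ?_⟩
            have e : (f * b) ^ (N + m) = (f ^ N * b ^ m) * (f ^ m * b ^ N) := by ring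
            rw [e, hN, zero_mul]
        rw [Localization.mk_eq_mk'_apply, IsLocalization.mk'_eq_zero_iff]
        exact ⟨⟨f, 1, pow_one f⟩, hfb⟩
      show IsReduced (Spec (CommRingCat.of (HomogeneousLocalization.Away 𝒜 f)))
      infer_instance
    exact AlgebraicGeometry.IsReduced.of_openCover _ (Proj.affineOpenCover 𝒜).openCover
  have hirrsp : IrreducibleSpace ↥(Proj 𝒜) ↔
      IsIrreducible (Set.univ : Set (ProjectiveSpectrum 𝒜)) := irreducibleSpace_def _
  rw [isIntegral_iff_irreducibleSpace_and_isReduced, hirrsp, hirr]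
  constructor
  · rintro ⟨⟨h1, h2⟩, -⟩
    refine ⟨?_, ?_⟩
    · by_contra! hall
      apply h1
      intro f hf
      rw [hall f hf]
      exact zero_mem _
    · intro f hf g hg hfg
      have hfgv : f * g ∈ (ProjectiveSpectrum.vanishingIdeal
          (Set.univ : Set (ProjectiveSpectrum 𝒜))).toIdeal := by
        rw [hfg]
        exact zero_mem _
      rcases h2 f hf g hg hfgv with h | h
      · exact Or.inl ((hvan f hf).mp h)
      · exact Or.inr ((hvan g hg).mp h)
  · rintro ⟨⟨f, hf, hf0⟩, h2⟩
    refine ⟨⟨?_, ?_⟩, hredP⟩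
    · intro hle
      exact hf0 ((hvan f hf).mp (hle hf))
    · intro f hf g hg hfg
      have hfgirr : f * g ∈ (HomogeneousIdeal.irrelevant 𝒜).toIdeal :=
        Ideal.mul_mem_right _ _ hf
      rcases h2 f hf g hg ((hvan _ hfgirr).mp hfg) with h | h
      · exact Or.inl ((hvan f hf).mpr h)
      · exact Or.inr ((hvan g hg).mpr h)

end Groth.Agent.S3557
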