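import Groth.Statements.S3559
import Groth.Agent.Lib.helper2.Proj

set_option autoImplicit false
universe u
open CategoryTheory CategoryTheory.Limits AlgebraicGeometry
open EGA2

namespace Groth.Agent.S3559

/-- Let S be a graded ring and (f_i) a family of homogeneous elements of positive degree. The opens
D_+(f_i) cover Proj S if and only if every element of S_+ has a power in the ideal generated by the
f_i. -/
theorem result {R A : Type u} [CommRing R] [CommRing A] [Algebra R A] (𝒜 : ℕ → Submodule R A) [GradedAlgebra 𝒜]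
    {ι : Type u} (f : ι → A) (hf : ∀ i, ∃ d : ℕ, 0 < d ∧ f i ∈ 𝒜 d) :
    (⨆ i, Proj.basicOpen 𝒜 (f i)) = ⊤ ↔
      (HomogeneousIdeal.irrelevant 𝒜).toIdeal ≤ (Ideal.span (Set.range f)).radical := by
  classical
  constructor
  · intro hcov g hg
    rw [Ideal.radical_eq_sInf, Ideal.mem_sInf]
    rintro q ⟨hfq, hq⟩
    by_contra hgq
    have : q.IsPrime := hq
    -- some positive-degree component of g is not in q
    have hsum : g = ∑ i ∈ (DirectSum.decompose 𝒜 g).support, (DirectSum.decompose 𝒜 g i : A) :=
      (DirectSum.sum_support_decompose 𝒜 g).symm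
    have hex : ∃ i, 0 < i ∧ (DirectSum.decompose 𝒜 g i : A) ∉ q := by
      by_contra hall
      push Not at hall
      apply hgq
      rw [hsum]
      refine Ideal.sum_mem _ (fun i _ => ?_)
      by_cases hi : i = 0
      · subst hi
        have : (DirectSum.decompose 𝒜 g 0 : A) = 0 := by
          have := (HomogeneousIdeal.mem_irrelevant_iff 𝒜 g).1 hg
          simpa [GradedRing.proj_apply] using this
        rw [this]; exact Ideal.zero_mem _
      · exact hall i (Nat.pos_of_ne_zero hi)
    obtain ⟨i, hi, hgi⟩ := hex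
    obtain ⟨x, hx, -, hxcore⟩ := Groth.Agent.Lib.helper2.h2_exists_proj_point_of_prime 𝒜 hi
      (SetLike.coe_mem (DirectSum.decompose 𝒜 g i)) q hgi
    have hxtop : (show (Proj 𝒜 : Scheme) from x) ∈ (⊤ : (Proj 𝒜).Opens) := trivial
    rw [← hcov, TopologicalSpace.Opens.mem_iSup] at hxtop
    obtain ⟨j, hj⟩ := hxtop
    rw [Proj.mem_basicOpen] at hj
    apply hj
    show f j ∈ x.asHomogeneousIdeal
    rw [hxcore]
    obtain ⟨d, -, hd⟩ := hf j
    exact Ideal.mem_homogeneousCore_of_homogeneous_of_mem ⟨d, hd⟩ (hfq (Ideal.subset_span ⟨j, rfl⟩))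
  · intro hle
    refine top_le_iff.mp fun x _ => TopologicalSpace.Opens.mem_iSup.mpr ?_
    by_contra! H
    simp only [Proj.mem_basicOpen, Decidable.not_not] at H
    have x' : ProjectiveSpectrum 𝒜 := x
    refine x.not_irrelevant_le (hle.trans ?_)
    have h1 : Ideal.span (Set.range f) ≤ x.asHomogeneousIdeal.toIdeal := by
      rwa [Ideal.span_le, Set.range_subset_iff]
    exact (Ideal.radical_mono h1).trans x.isPrime.radical.le

end Groth.Agent.S3559
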