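import Groth.Statements.S3560
import Mathlib

set_option autoImplicit false
universe u
open CategoryTheory CategoryTheory.Limits AlgebraicGeometry
open EGA2

namespace Groth.Agent.S3560

/-- Let S be a graded ring whose irrelevant ideal S_+ is finitely generated. Then Proj S is empty if and
only if there is n such that S_k = 0 for all k ≥ n. -/
theorem result {R A : Type u} [CommRing R] [CommRing A] [Algebra R A] (𝒜 : ℕ → Submodule R A) [GradedAlgebra 𝒜]
    (hfg : (HomogeneousIdeal.irrelevant 𝒜).toIdeal.FG) :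
    IsEmpty (Proj 𝒜) ↔ ∃ n : ℕ, ∀ k : ℕ, n ≤ k → 𝒜 k = ⊥ := by
  classical
  have hE : IsEmpty (Proj 𝒜) ↔ IsEmpty (ProjectiveSpectrum 𝒜) := Iff.rfl
  rw [hE]
  constructor
  · intro hemp
    have hnil : ∀ i > 0, ∀ f ∈ 𝒜 i, IsNilpotent f := by
      intro i hi f hf
      by_contra hf'
      have h1 : f ∉ (⊥ : Ideal A).radical := fun h => hf' (mem_nilradical.mp h)
      rw [(Ideal.IsHomogeneous.bot 𝒜).radical_eq, Ideal.mem_sInf] at h1
      push Not at h1
      obtain ⟨J, ⟨hJh, -, hJp⟩, hfJ⟩ := h1
      exact hemp.false ⟨⟨J, hJh⟩, hJp,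
        fun hle => hfJ (hle (HomogeneousIdeal.mem_irrelevant_of_mem 𝒜 hi hf))⟩
    have hI : (HomogeneousIdeal.irrelevant 𝒜).toIdeal ≤ nilradical A := by
      rw [HomogeneousIdeal.irrelevant_eq_span, Ideal.span_le]
      intro f hf
      simp only [Set.mem_iUnion] at hf
      obtain ⟨i, hi, hf⟩ := hf
      exact mem_nilradical.mpr (hnil i hi f hf)
    obtain ⟨M, hM⟩ := (Ideal.FG.isNilpotent_iff_le_nilradical hfg).mpr hI
    obtain ⟨s, hs⟩ := hfg
    let D : ℕ := s.sup (fun g => (DirectSum.decompose 𝒜 g).support.sup id)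
    have hD : ∀ g ∈ s, ∀ i ∈ (DirectSum.decompose 𝒜 g).support, i ≤ D := by
      intro g hg i hi
      have h1 : i ≤ (DirectSum.decompose 𝒜 g).support.sup id := Finset.le_sup (f := id) hi
      exact h1.trans (Finset.le_sup (f := fun g => (DirectSum.decompose 𝒜 g).support.sup id) hg)
    have claim : ∀ j k, j * D < k → ∀ x ∈ 𝒜 k,
        x ∈ (HomogeneousIdeal.irrelevant 𝒜).toIdeal ^ (j + 1) := by
      intro j
      induction j with
      | zero =>
        intro k hk x hx
        rw [zero_add, pow_one]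
        exact HomogeneousIdeal.mem_irrelevant_of_mem 𝒜 (by omega) hx
      | succ j ih =>
        intro k hk x hx
        have hk0 : 0 < k := by omega
        have hxI : x ∈ (HomogeneousIdeal.irrelevant 𝒜).toIdeal :=
          HomogeneousIdeal.mem_irrelevant_of_mem 𝒜 hk0 hx
        rw [← hs] at hxI
        obtain ⟨a, -, ha⟩ := Submodule.mem_span_finset.mp hxI
        have hxk : ((DirectSum.decompose 𝒜 x) k : A) = x := DirectSum.decompose_of_mem_same 𝒜 hx
        rw [← hxk, ← ha, DirectSum.decompose_sum, DFinsupp.finset_sum_apply,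
          AddSubmonoidClass.coe_finset_sum]
        refine Ideal.sum_mem _ (fun g hg => ?_)
        have hgI : g ∈ (HomogeneousIdeal.irrelevant 𝒜).toIdeal := by
          rw [← hs]; exact Ideal.subset_span hg
        have hg_dec : ∑ i ∈ (DirectSum.decompose 𝒜 g).support,
            ((DirectSum.decompose 𝒜 g) i : A) = g := DirectSum.sum_support_decompose 𝒜 g
        have h2 : a g • g = ∑ i ∈ (DirectSum.decompose 𝒜 g).support,
            a g * ((DirectSum.decompose 𝒜 g) i : A) := by
          rw [smul_eq_mul, ← Finset.mul_sum, hg_dec]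
        rw [h2, DirectSum.decompose_sum, DFinsupp.finset_sum_apply,
          AddSubmonoidClass.coe_finset_sum]
        refine Ideal.sum_mem _ (fun i hi => ?_)
        have hgi : ((DirectSum.decompose 𝒜 g) i : A) ∈ 𝒜 i := SetLike.coe_mem _
        have hi0 : 0 < i := by
          rcases Nat.eq_zero_or_pos i with h0 | h0
          · exfalso
            have h3 : ((DirectSum.decompose 𝒜 g) 0 : A) = 0 :=
              (HomogeneousIdeal.mem_irrelevant_iff 𝒜 g).mp hgI
            rw [h0] at hi
            rw [DFinsupp.mem_support_iff] at hi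
            exact hi (Subtype.ext h3)
          · exact h0
        have hiD : i ≤ D := hD g hg i hi
        by_cases hik : i ≤ k
        · rw [DirectSum.coe_decompose_mul_of_right_mem_of_le 𝒜 hgi hik, pow_succ]
          have h4 : (j + 1) * D = j * D + D := by ring
          exact Ideal.mul_mem_mul (ih (k - i) (by omega) _ (SetLike.coe_mem _))
            (HomogeneousIdeal.mem_irrelevant_of_mem 𝒜 hi0 hgi)
        · rw [DirectSum.coe_decompose_mul_of_right_mem_of_not_le 𝒜 hgi hik]
          exact zero_mem _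
    refine ⟨M * D + 1, fun k hk => ?_⟩
    rw [eq_bot_iff]
    intro x hx
    have h5 := claim M k (by omega) x hx
    rw [pow_succ, hM] at h5
    have h6 : (0 : Ideal A) * (HomogeneousIdeal.irrelevant 𝒜).toIdeal = ⊥ := by
      rw [Submodule.zero_eq_bot, Ideal.bot_mul]
    rw [h6] at h5
    exact h5
  · rintro ⟨n, hn⟩
    refine ⟨fun x => ?_⟩
    apply x.not_irrelevant_le
    rw [HomogeneousIdeal.irrelevant_le]
    intro i hi f hf
    have hf' : f ∈ 𝒜 i := hf
    have h1 : f ^ (n + 1) ∈ 𝒜 ((n + 1) • i) := SetLike.pow_mem_graded (n + 1) hf'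
    have h2 : n ≤ (n + 1) • i := by
      rw [smul_eq_mul]
      nlinarith
    rw [hn _ h2, Submodule.mem_bot] at h1
    have h3 : f ^ (n + 1) ∈ x.asHomogeneousIdeal.toIdeal := by rw [h1]; exact zero_mem _
    exact x.isPrime.mem_of_pow_mem _ h3

end Groth.Agent.S3560
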