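import Groth.Statements.S3563
import Mathlib

set_option autoImplicit false
universe u
open CategoryTheory CategoryTheory.Limits AlgebraicGeometry
open EGA2

namespace Groth.Agent.S3563

/-- Let φ : S → S' be a surjective homomorphism of graded rings (graded algebras over a base ring R).
Then the induced morphism Proj S' → Proj S is defined everywhere and is a closed immersion. The
hypothesis that the irrelevant ideal of S' is contained in the extension of the irrelevant ideal of
S, needed to define the morphism on all of Proj S', is carried explicitly; it follows from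
surjectivity. This is the case of a surjective φ; the published statement is more general. -/
theorem result {R A : Type u} [CommRing R] [CommRing A] [Algebra R A] (𝒜 : ℕ → Submodule R A) [GradedAlgebra 𝒜]
    {B : Type u} [CommRing B] [Algebra R B] (ℬ : ℕ → Submodule R B) [GradedAlgebra ℬ]
    (φ : 𝒜 →+*ᵍ ℬ) (hsurj : Function.Surjective φ)
    (hφ : HomogeneousIdeal.irrelevant ℬ ≤ (HomogeneousIdeal.irrelevant 𝒜).map φ) :
    IsClosedImmersion (Proj.map φ hφ) := by
  classical
  have hsurjAway : ∀ {d : ℕ} (s : A) (hs : s ∈ 𝒜 d),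
      Function.Surjective (HomogeneousLocalization.Away.map φ s) := by
    intro d s hs x
    obtain ⟨n, b, hb, rfl⟩ := HomogeneousLocalization.Away.mk_surjective ℬ (φ.map_mem hs) x
    obtain ⟨a, rfl⟩ := hsurj b
    have ha' : ((DirectSum.decompose 𝒜 a (n • d) : 𝒜 (n • d)) : A) ∈ 𝒜 (n • d) :=
      SetLike.coe_mem _
    have hφa' : φ ((DirectSum.decompose 𝒜 a (n • d) : 𝒜 (n • d)) : A) = φ a := by
      rw [GradedRingHom.map_directSumDecompose (𝒜 := 𝒜) (ℬ := ℬ) φ]
      exact DirectSum.decompose_of_mem_same ℬ hb
    refine ⟨HomogeneousLocalization.Away.mk 𝒜 hs n _ ha', ?_⟩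
    rw [HomogeneousLocalization.Away.map_mk]
    have key : ∀ (x y : B) (hx : x ∈ ℬ (n • d)) (hy : y ∈ ℬ (n • d)), x = y →
        HomogeneousLocalization.Away.mk ℬ (φ.map_mem hs) n x hx
          = HomogeneousLocalization.Away.mk ℬ (φ.map_mem hs) n y hy := by
      intro x y hx hy hxy
      subst hxy
      rfl
    exact key _ _ _ _ hφa'
  apply IsZariskiLocalAtTarget.of_openCover (P := @IsClosedImmersion)
    (Proj.affineOpenCover 𝒜).openCover
  rintro ⟨⟨d, hd⟩, ⟨s, hs⟩⟩
  have hs' : s ∈ 𝒜 d := hs
  have sq : IsPullback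
      (Spec.map (CommRingCat.ofHom (HomogeneousLocalization.Away.map φ s)))
      (Proj.awayι ℬ (φ s) (φ.map_mem hs') hd) (Proj.awayι 𝒜 s hs' hd)
      (Proj.map φ hφ) :=
    IsOpenImmersion.isPullback _ _ _ _ (Proj.awayι_comp_map φ hφ hd s hs')
      (by rw [Proj.opensRange_awayι, Proj.opensRange_awayι, Proj.map_preimage_basicOpen])
  have hg : IsClosedImmersion
      (Spec.map (CommRingCat.ofHom (HomogeneousLocalization.Away.map φ s))) :=
    IsClosedImmersion.spec_of_surjective _ (hsurjAway s hs')
  show IsClosedImmersion (pullback.snd (Proj.map φ hφ) (Proj.awayι 𝒜 s hs' hd))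
  refine (MorphismProperty.cancel_left_of_respectsIso @IsClosedImmersion
    sq.flip.isoPullback.hom _).mp ?_
  rw [IsPullback.isoPullback_hom_snd]
  exact hg

end Groth.Agent.S3563
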