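import Groth.Statements.S3570
import Mathlib

set_option autoImplicit false
universe u
open CategoryTheory CategoryTheory.Limits AlgebraicGeometry
open EGA2

namespace Groth.Agent.S3570

/-- Let f : X → S and g : Y → S be affine morphisms and h : Y → X an S-morphism. Then h is an
isomorphism if and only if A(h) : f_*O_X → g_*O_Y is an isomorphism (of presheaves of rings on S). -/
theorem result {X Y S : Scheme.{u}} (f : X ⟶ S) [IsAffineHom f] (g : Y ⟶ S)
    [IsAffineHom g] (h : Y ⟶ X) (w : h ≫ f = g) :
    IsIso h ↔ IsIso (AffAlg.algHom f g h w) := by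
  subst w
  have key : AffAlg.algHom f (h ≫ f) h rfl =
      (TopCat.Presheaf.pushforward CommRingCat.{u} f.base).map h.c := by
    unfold AffAlg.algHom
    exact Category.comp_id _
  rw [key]
  constructor
  · intro hh
    haveI : IsIso h.c := PresheafedSpace.c_isIso_of_iso h.toPshHom
    exact Functor.map_isIso _ _
  · intro hiso
    haveI : IsAffineHom h := IsAffineHom.of_comp h f
    have hU : ⨆ U : S.affineOpens, f ⁻¹ᵁ U.1 = ⊤ := by
      rw [← Scheme.Hom.preimage_iSup, iSup_affineOpens_eq_top, Scheme.Hom.preimage_top]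
    apply (IsZariskiLocalAtTarget.iff_of_iSup_eq_top (P := MorphismProperty.isomorphisms Scheme)
      (fun U : S.affineOpens => f ⁻¹ᵁ U.1) hU).2
    intro U
    show IsIso (h ∣_ (f ⁻¹ᵁ U.1))
    rw [isIso_morphismRestrict_iff_isIso_app h (U.2.preimage f)]
    exact @NatIso.isIso_app_of_isIso _ _ _ _ _ _
      ((TopCat.Presheaf.pushforward CommRingCat.{u} f.base).map h.c) hiso (Opposite.op U.1)

end Groth.Agent.S3570
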