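import Groth.Statements.S3582
-- import your own Groth.Agent.* helpers here
import Mathlib

set_option autoImplicit false
universe u
open CategoryTheory CategoryTheory.Limits AlgebraicGeometry
open EGA2

namespace Groth.Agent.S3582

section
variable (n : ℕ) (R : Type u) [CommRing R]

open HomogeneousLocalization in
noncomputable def ev : MvPolynomial (Fin (n + 1)) R →+* R :=
  MvPolynomial.eval (fun i => if i = 0 then (1 : R) else 0)

lemma ev_X0 : ev n R (MvPolynomial.X 0) = 1 := by simp [ev]

lemma X0_mem : (MvPolynomial.X 0 : MvPolynomial (Fin (n + 1)) R) ∈ CohB1.polyGrading n R 1 := by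
  rw [CohB1.polyGrading, MvPolynomial.mem_homogeneousSubmodule]
  exact MvPolynomial.isHomogeneous_X R 0

noncomputable def rho : HomogeneousLocalization.Away (CohB1.polyGrading n R)
    (MvPolynomial.X 0 : MvPolynomial (Fin (n + 1)) R) →+* R :=
  (IsLocalization.Away.lift (S := Localization.Away (MvPolynomial.X 0 : MvPolynomial (Fin (n + 1)) R))
    (MvPolynomial.X 0 : MvPolynomial (Fin (n + 1)) R) (g := ev n R)
    (by rw [ev_X0]; exact isUnit_one)).comp
  (algebraMap _ _)

lemma val_fromZero (z : CohB1.polyGrading n R 0) :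
    (HomogeneousLocalization.fromZeroRingHom (CohB1.polyGrading n R)
      (Submonoid.powers (MvPolynomial.X 0 : MvPolynomial (Fin (n + 1)) R)) z).val =
    algebraMap (MvPolynomial (Fin (n + 1)) R) (Localization.Away (MvPolynomial.X 0 : MvPolynomial (Fin (n + 1)) R)) (z : MvPolynomial (Fin (n + 1)) R) := by
  rw [← Localization.mk_one_eq_algebraMap]
  rfl

lemma rho_comp : (rho n R).comp ((HomogeneousLocalization.fromZeroRingHom (CohB1.polyGrading n R)
    (Submonoid.powers (MvPolynomial.X 0 : MvPolynomial (Fin (n + 1)) R))).comp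
      (algebraMap R (CohB1.polyGrading n R 0))) = RingHom.id R := by
  ext a
  simp only [rho, RingHom.comp_apply, HomogeneousLocalization.algebraMap_apply, RingHom.id_apply]
  rw [val_fromZero, IsLocalization.Away.lift_eq]
  show ev n R (algebraMap R (MvPolynomial (Fin (n + 1)) R) a) = a
  simp [ev]
end

lemma surj_of_section {X Y : Scheme.{u}} (f : X ⟶ Y) (t : Y ⟶ X) (h : t ≫ f = 𝟙 Y) :
    Surjective f :=
  ⟨fun y => ⟨t y, by
    have := congrArg (fun g : Y ⟶ Y => g y) h
    simpa using this⟩⟩

noncomputable def sec' (n : ℕ) (R : Type u) [CommRing R] :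
    Spec (CommRingCat.of R) ⟶ Proj (CohB1.polyGrading n R) :=
  Spec.map (CommRingCat.ofHom (rho n R)) ≫
    Proj.awayι (CohB1.polyGrading n R) (MvPolynomial.X 0) (X0_mem n R) one_pos

lemma sec'_comp (n : ℕ) (R : Type u) [CommRing R] :
    sec' n R ≫ (Proj.toSpecZero (CohB1.polyGrading n R) ≫
      Spec.map (CommRingCat.ofHom (algebraMap R (CohB1.polyGrading n R 0)))) = 𝟙 _ := by
  unfold sec'
  rw [Category.assoc, Proj.awayι_toSpecZero_assoc, ← Spec.map_comp, ← Spec.map_comp]
  have key : (CommRingCat.ofHom (algebraMap R (CohB1.polyGrading n R 0)) ≫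
      CommRingCat.ofHom (HomogeneousLocalization.fromZeroRingHom (CohB1.polyGrading n R)
        (Submonoid.powers (MvPolynomial.X 0 : MvPolynomial (Fin (n + 1)) R)))) ≫
      CommRingCat.ofHom (rho n R) = 𝟙 (CommRingCat.of R) := by
    apply CommRingCat.hom_ext
    simp only [CommRingCat.hom_comp, CommRingCat.hom_ofHom, CommRingCat.hom_id]
    exact rho_comp n R
  rw [key, Spec.map_id]

noncomputable def sec (n : ℕ) (R : Type u) [CommRing R] :
    Spec (CommRingCat.of R) ⟶ CohB1.ProjSpace n R := sec' n R

lemma sec_toSpec (n : ℕ) (R : Type u) [CommRing R] :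
    sec n R ≫ CohB1.ProjSpace.toSpec n R = 𝟙 _ := sec'_comp n R

/-- For every scheme Y and every r ≥ 0 the structure morphism from projective r-space over Y to Y is
surjective. -/
theorem result (r : ℕ) (Y : Scheme.{u}) :
    Surjective (CohB1.ProjSpaceOver.toBase r Y) := by
  unfold CohB1.ProjSpaceOver.toBase
  have hcond : (specULiftZIsTerminal.from Y ≫ sec r (ULift.{u} ℤ)) ≫
      CohB1.ProjSpace.toSpec r (ULift.{u} ℤ) = 𝟙 Y ≫ specULiftZIsTerminal.from Y := by
    rw [Category.assoc, sec_toSpec, Category.comp_id, Category.id_comp]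
  exact surj_of_section _ (pullback.lift (specULiftZIsTerminal.from Y ≫ sec r _) (𝟙 Y) hcond)
    (pullback.lift_snd _ _ _)

end Groth.Agent.S3582
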