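import Groth.Statements.S3581
-- import your own Groth.Agent.* helpers here
import Groth.Agent.S3582

set_option autoImplicit false
universe u
open CategoryTheory CategoryTheory.Limits AlgebraicGeometry
open EGA2

namespace Groth.Agent.S3581


lemma hom_fin_one {A : Type u} [CommRing A] (d : ℕ) (f : MvPolynomial (Fin (0 + 1)) A)
    (hf : f.IsHomogeneous d) :
    f = MvPolynomial.C (MvPolynomial.coeff (Finsupp.single 0 d) f) * MvPolynomial.X 0 ^ d := by
  ext m
  rw [MvPolynomial.C_mul_X_pow_eq_monomial, MvPolynomial.coeff_monomial]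
  split_ifs with h
  · rw [h]
  · apply hf.coeff_eq_zero
    intro hdeg
    apply h
    have h1 : m.degree = m 0 := by
      rw [Finsupp.degree_eq_sum]
      simp
    ext i
    have hi : i = 0 := Fin.fin_one_eq_zero i
    rw [hi, Finsupp.single_eq_same, ← hdeg, h1]

section
variable (A : Type u) [CommRing A]

lemma irr_le : (HomogeneousIdeal.irrelevant (CohB1.polyGrading 0 A)).toIdeal ≤
    Ideal.span (Set.range fun _ : Unit => (MvPolynomial.X 0 : MvPolynomial (Fin (0 + 1)) A)) := by
  intro p hp
  rw [Set.range_const, Ideal.mem_span_singleton]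
  have h1 : GradedRing.proj (CohB1.polyGrading 0 A) 0 p = 0 := hp
  have h2 : GradedRing.proj (CohB1.polyGrading 0 A) 0 p = MvPolynomial.homogeneousComponent 0 p :=
    MvPolynomial.decomposition.decompose'_apply p 0
  rw [h2, MvPolynomial.homogeneousComponent_zero] at h1
  have h3 : MvPolynomial.coeff 0 p = 0 :=
    MvPolynomial.C_injective _ _ (by rw [h1, MvPolynomial.C_0])
  rw [MvPolynomial.as_sum p]
  apply Finset.dvd_sum
  intro v hv
  rw [MvPolynomial.X_dvd_monomial]
  right
  have hv' : MvPolynomial.coeff v p ≠ 0 := MvPolynomial.mem_support_iff.mp hv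
  have hv0 : v ≠ 0 := by
    rintro rfl
    exact hv' h3
  obtain ⟨i, hi⟩ := DFunLike.ne_iff.mp hv0
  have hi0 : i = 0 := Fin.fin_one_eq_zero i
  rw [hi0] at hi
  simpa using hi

lemma basicOpen_top : Proj.basicOpen (CohB1.polyGrading 0 A)
    (MvPolynomial.X 0 : MvPolynomial (Fin (0 + 1)) A) = ⊤ := by
  have h := Proj.iSup_basicOpen_eq_top (CohB1.polyGrading 0 A) (ι := Unit)
    (fun _ => (MvPolynomial.X 0 : MvPolynomial (Fin (0 + 1)) A)) (irr_le A)
  rwa [iSup_const] at h

noncomputable def psi : A →+* HomogeneousLocalization.Away (CohB1.polyGrading 0 A)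
    (MvPolynomial.X 0 : MvPolynomial (Fin (0 + 1)) A) :=
  (HomogeneousLocalization.fromZeroRingHom (CohB1.polyGrading 0 A)
      (Submonoid.powers (MvPolynomial.X 0 : MvPolynomial (Fin (0 + 1)) A))).comp
    (algebraMap A (CohB1.polyGrading 0 A 0))

lemma psi_bij : Function.Bijective (psi A) := by
  constructor
  · have hleft : Function.LeftInverse (Groth.Agent.S3582.rho 0 A) (psi A) :=
      fun a => RingHom.congr_fun (Groth.Agent.S3582.rho_comp 0 A) a
    exact hleft.injective
  · intro z
    obtain ⟨k, a, ha, rfl⟩ := HomogeneousLocalization.Away.mk_surjective (CohB1.polyGrading 0 A)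
      (Groth.Agent.S3582.X0_mem 0 A) z
    have ha' : a.IsHomogeneous k := by
      have h : a ∈ CohB1.polyGrading 0 A k := by simpa using ha
      rwa [CohB1.polyGrading, MvPolynomial.mem_homogeneousSubmodule] at h
    have hak := hom_fin_one k a ha'
    refine ⟨MvPolynomial.coeff (Finsupp.single 0 k) a, ?_⟩
    apply HomogeneousLocalization.val_injective
    rw [HomogeneousLocalization.Away.val_mk]
    show (HomogeneousLocalization.fromZeroRingHom _ _
      (algebraMap A (CohB1.polyGrading 0 A 0) _)).val = _
    rw [Groth.Agent.S3582.val_fromZero, Localization.mk_eq_mk', IsLocalization.eq_mk'_iff_mul_eq,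
      ← map_mul]
    exact congrArg _ hak.symm

end

/-- Over an affine base Spec A, Proj of the graded polynomial algebra A[T] (T of degree one) is
identified with Spec A by its structure morphism: the structure morphism from projective 0-space
over A to Spec A is an isomorphism. -/
theorem result (A : Type u) [CommRing A] :
    IsIso (CohB1.ProjSpace.toSpec 0 A) := by
  show IsIso (Proj.toSpecZero (CohB1.polyGrading 0 A) ≫
    Spec.map (CommRingCat.ofHom (algebraMap A (CohB1.polyGrading 0 A 0))))
  have hx := Groth.Agent.S3582.X0_mem 0 A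
  haveI h1 : IsIso (Proj.awayι (CohB1.polyGrading 0 A) (MvPolynomial.X 0) hx one_pos) := by
    apply isIso_of_isOpenImmersion_of_opensRange_eq_top
    rw [Proj.opensRange_awayι]
    exact basicOpen_top A
  have heq : Proj.awayι (CohB1.polyGrading 0 A) (MvPolynomial.X 0) hx one_pos ≫
      (Proj.toSpecZero (CohB1.polyGrading 0 A) ≫
        Spec.map (CommRingCat.ofHom (algebraMap A (CohB1.polyGrading 0 A 0)))) =
      Spec.map (CommRingCat.ofHom (psi A)) := by
    rw [Proj.awayι_toSpecZero_assoc, ← Spec.map_comp]
    rfl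
  haveI h2 : IsIso (CommRingCat.ofHom (psi A)) := by
    rw [ConcreteCategory.isIso_iff_bijective]
    exact psi_bij A
  haveI h3 : IsIso (Proj.awayι (CohB1.polyGrading 0 A) (MvPolynomial.X 0) hx one_pos ≫
      (Proj.toSpecZero (CohB1.polyGrading 0 A) ≫
        Spec.map (CommRingCat.ofHom (algebraMap A (CohB1.polyGrading 0 A 0))))) := by
    rw [heq]; infer_instance
  exact IsIso.of_isIso_comp_left
    (Proj.awayι (CohB1.polyGrading 0 A) (MvPolynomial.X 0) hx one_pos) _

end Groth.Agent.S3581
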