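import Groth.Statements.S3583
import Mathlib

set_option autoImplicit false
universe u
open CategoryTheory AlgebraicGeometry Opposite
open EGA2

namespace Groth.Agent.S3583

/-- In the form stated after its proof: let f : X → S and f' : X' → S be affine morphisms and h : X' → X
an S-morphism such that the O_S-algebra homomorphism A(h) : f_*O_X → f'_*O_{X'} is surjective (as a
map of quasi-coherent O_S-modules, i.e. on sections over every affine open of S). Then h is a closed
immersion. -/
theorem result {X X' S : Scheme.{u}} (f : X ⟶ S) [IsAffineHom f]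
    (f' : X' ⟶ S) [IsAffineHom f'] (h : X' ⟶ X) (w : h ≫ f = f')
    (hsurj : ∀ U : S.affineOpens, Function.Surjective ((AffAlg.algHom f f' h w).app (op U.1)).hom) :
    IsClosedImmersion h := by
  subst w
  haveI : IsAffineHom h := IsAffineHom.of_comp h f
  have key : AffAlg.algHom f (h ≫ f) h rfl =
      (TopCat.Presheaf.pushforward CommRingCat.{u} f.base).map h.c := by
    unfold AffAlg.algHom
    exact Category.comp_id _
  have hsurj' : ∀ U : S.affineOpens, Function.Surjective (h.app (f ⁻¹ᵁ U.1)).hom := by
    intro U
    have := hsurj U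
    rw [key] at this
    exact this
  have hU : ⨆ U : S.affineOpens, f ⁻¹ᵁ U.1 = ⊤ := by
    rw [← Scheme.Hom.preimage_iSup, iSup_affineOpens_eq_top, Scheme.Hom.preimage_top]
  haveI H := IsClosedImmersion.hasAffineProperty
  refine (@HasAffineProperty.iff_of_iSup_eq_top _ _ H _ _ h _
    (fun U : S.affineOpens => (⟨f ⁻¹ᵁ U.1, U.2.preimage f⟩ : X.affineOpens)) hU).2 ?_
  intro U
  refine ⟨?_, ?_⟩
  · exact ((U.2.preimage f).preimage h)
  · rw [morphismRestrict_appTop]
    have hb : Function.Bijective (X'.presheaf.map
        (eqToHom (image_morphismRestrict_preimage h (f ⁻¹ᵁ U.1) ⊤)).op).hom :=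
      ConcreteCategory.bijective_of_isIso _
    have hs : ∀ W : X.Opens, W = f ⁻¹ᵁ U.1 → Function.Surjective (h.app W).hom := by
      rintro W rfl; exact hsurj' U
    have h3 := hs _ (Scheme.Opens.ι_image_top (f ⁻¹ᵁ U.1))
    exact hb.2.comp h3

end Groth.Agent.S3583
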