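import Groth.Statements.S3588
import Mathlib
import Groth.Agent.S3563
import Groth.Agent.S3553

set_option autoImplicit false
universe u
open CategoryTheory CategoryTheory.Limits AlgebraicGeometry
open EGA2

namespace Groth.Agent.S3588

/-- Let S be a graded ring, N_+ the set of nilpotent elements of S_+ (an ideal of S), and S → S/N_+ the
quotient (here: any surjective homomorphism of graded rings φ : S → S' whose kernel is N_+). Then
the induced morphism Proj S' → Proj S is a closed immersion which is a homeomorphism of the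
underlying spaces, and Proj S' is reduced; thus Proj S' is the reduced closed subscheme (Proj
S)_red. -/
theorem result {R A : Type u} [CommRing R] [CommRing A] [Algebra R A] (𝒜 : ℕ → Submodule R A) [GradedAlgebra 𝒜]
    {B : Type u} [CommRing B] [Algebra R B] (ℬ : ℕ → Submodule R B) [GradedAlgebra ℬ]
    (φ : 𝒜 →+*ᵍ ℬ) (hsurj : Function.Surjective φ)
    (hker : ∀ a : A, φ a = 0 ↔ a ∈ (HomogeneousIdeal.irrelevant 𝒜).toIdeal ∧ IsNilpotent a)
    (hφ : HomogeneousIdeal.irrelevant ℬ ≤ (HomogeneousIdeal.irrelevant 𝒜).map φ) :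
    IsClosedImmersion (Proj.map φ hφ) ∧ IsHomeomorph (Proj.map φ hφ).base ∧
      AlgebraicGeometry.IsReduced (Proj ℬ) := by
  classical
  have hci : IsClosedImmersion (Proj.map φ hφ) := Groth.Agent.S3563.result 𝒜 ℬ φ hsurj hφ
  have hdense : DenseRange (Proj.map φ hφ).base :=
    Groth.Agent.S3553.result 𝒜 ℬ φ hφ (fun a ha => ((hker a).mp ha).2)
  have hce : Topology.IsClosedEmbedding (Proj.map φ hφ).base :=
    (Proj.map φ hφ).isClosedEmbedding
  have hsurjTop : Function.Surjective (Proj.map φ hφ).base := by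
    rw [← Set.range_eq_univ, ← hce.isClosed_range.closure_eq]
    exact hdense.closure_range
  refine ⟨hci, isHomeomorph_iff_isEmbedding_surjective.mpr ⟨hce.isEmbedding, hsurjTop⟩, ?_⟩
  have hnil : ∀ b : B, b ∈ (HomogeneousIdeal.irrelevant ℬ).toIdeal → IsNilpotent b → b = 0 := by
    rintro b hb ⟨m, hm⟩
    obtain ⟨a, rfl⟩ := hsurj b
    have hb' : ((DirectSum.decompose ℬ (φ a) 0 : ℬ 0) : B) = 0 :=
      (HomogeneousIdeal.mem_irrelevant_iff ℬ (φ a)).mp hb
    obtain ⟨a0, ha0mem, ha0⟩ : ∃ a0 : A, a0 ∈ 𝒜 0 ∧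
        a0 = ((DirectSum.decompose 𝒜 a 0 : 𝒜 0) : A) := ⟨_, SetLike.coe_mem _, rfl⟩
    have hφa0 : φ a0 = 0 := by
      rw [ha0, GradedRingHom.map_directSumDecompose (𝒜 := 𝒜) (ℬ := ℬ) φ]
      exact hb'
    have ha' : a - a0 ∈ (HomogeneousIdeal.irrelevant 𝒜).toIdeal := by
      show a - a0 ∈ HomogeneousIdeal.irrelevant 𝒜
      rw [HomogeneousIdeal.mem_irrelevant_iff, GradedRing.proj_apply, DirectSum.decompose_sub,
        DirectSum.sub_apply, Submodule.coe_sub, DirectSum.decompose_of_mem_same 𝒜 ha0mem, ha0,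
        sub_self]
    have hφa' : φ (a - a0) = φ a := by rw [map_sub, hφa0, sub_zero]
    have hnilp : IsNilpotent (a - a0) := by
      have h1 : φ ((a - a0) ^ m) = 0 := by rw [map_pow, hφa', hm]
      obtain ⟨-, ⟨r, hr⟩⟩ := (hker _).mp h1
      exact ⟨m * r, by rw [pow_mul]; exact hr⟩
    rw [← hφa']
    exact (hker _).mpr ⟨ha', hnilp⟩
  haveI : ∀ i, IsReduced ((Proj.affineOpenCover ℬ).openCover.X i) := by
    rintro ⟨⟨d, hd⟩, ⟨f, hf⟩⟩
    have hf' : f ∈ ℬ d := hf
    have hfirr : f ∈ (HomogeneousIdeal.irrelevant ℬ).toIdeal :=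
      (HomogeneousIdeal.mem_irrelevant_iff ℬ f).mpr (DirectSum.decompose_of_mem_ne ℬ hf' hd.ne')
    haveI : _root_.IsReduced (HomogeneousLocalization.Away ℬ f) := by
      refine ⟨fun x hx => ?_⟩
      obtain ⟨m, hm⟩ := hx
      obtain ⟨n, b, hb, rfl⟩ := HomogeneousLocalization.Away.mk_surjective ℬ hf' x
      apply HomogeneousLocalization.val_injective
      rw [HomogeneousLocalization.val_zero]
      have hv : (HomogeneousLocalization.Away.mk ℬ hf' n b hb).val ^ m = 0 := by
        rw [← HomogeneousLocalization.val_pow, hm, HomogeneousLocalization.val_zero]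
      rw [HomogeneousLocalization.Away.val_mk] at hv ⊢
      rw [Localization.mk_pow, Localization.mk_eq_mk'_apply,
        IsLocalization.mk'_eq_zero_iff] at hv
      obtain ⟨⟨_, N, rfl⟩, hN⟩ := hv
      have hfb : f * b = 0 := by
        apply hnil
        · exact Ideal.mul_mem_right _ _ hfirr
        · refine ⟨N + m, ?_⟩
          have e : (f * b) ^ (N + m) = (f ^ N * b ^ m) * (f ^ m * b ^ N) := by ring
          rw [e, hN, zero_mul]
      rw [Localization.mk_eq_mk'_apply, IsLocalization.mk'_eq_zero_iff]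
      exact ⟨⟨f, 1, pow_one f⟩, hfb⟩
    show IsReduced (Spec (CommRingCat.of (HomogeneousLocalization.Away ℬ f)))
    infer_instance
  exact AlgebraicGeometry.IsReduced.of_openCover _ (Proj.affineOpenCover ℬ).openCover

end Groth.Agent.S3588
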