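import Groth.Statements.S3594
import Mathlib

set_option autoImplicit false
universe u
open CategoryTheory CategoryTheory.Limits AlgebraicGeometry
open EGA2

namespace Groth.Agent.S3594

/-- The closed immersion at infinity of a projective cone: let S be a graded R-algebra and Ŝ a graded
R-algebra over S such that the structure map φ : S → Ŝ is a graded homomorphism and Ŝ = S[z] is the
polynomial algebra on an element z of degree one (evaluation at z is a bijection S[T] → Ŝ); let ψ :
Ŝ → S be a graded homomorphism retracting φ and killing z, with S₊ contained in the ideal generated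
by ψ(Ŝ₊) so that j = Proj(ψ) : X = Proj S → Ĉ = Proj Ŝ is defined (it is the canonical closed
immersion). Then the image of j is exactly the complement of the open subset D₊(z) of Proj Ŝ (which
is the affine cone C = Spec S). -/
theorem result {R A : Type u} [CommRing R] [CommRing A] [Algebra R A] (𝒜 : ℕ → Submodule R A) [GradedAlgebra 𝒜]
    {B : Type u} [CommRing B] [Algebra R B] (ℬ : ℕ → Submodule R B) [GradedAlgebra ℬ]
    [Algebra A B] [IsScalarTower R A B] (φ : 𝒜 →+*ᵍ ℬ) (hφ : ∀ a : A, φ a = algebraMap A B a)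
    (z : B) (hz : z ∈ ℬ 1) (hhat : Function.Bijective (Polynomial.aeval (R := A) z))
    (ψ : ℬ →+*ᵍ 𝒜) (hψφ : ∀ a : A, ψ (φ a) = a) (hψz : ψ z = 0)
    (hψ : HomogeneousIdeal.irrelevant 𝒜 ≤ (HomogeneousIdeal.irrelevant ℬ).map ψ) :
    Set.range (Proj.map ψ hψ).base = ((Proj.basicOpen ℬ z : Set (Proj ℬ)))ᶜ := by
  classical
  have hdecomp : ∀ b : B, ∃ c : B, b = z * c + φ (ψ b) := by
    intro b
    obtain ⟨p, rfl⟩ := hhat.2 b
    refine ⟨Polynomial.aeval z p.divX, ?_⟩
    have hp : p = Polynomial.X * p.divX + Polynomial.C (p.coeff 0) :=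
      (Polynomial.X_mul_divX_add p).symm
    have h1 : Polynomial.aeval z p
        = z * Polynomial.aeval z p.divX + algebraMap A B (p.coeff 0) := by
      conv_lhs => rw [hp]
      rw [map_add, map_mul, Polynomial.aeval_X, Polynomial.aeval_C]
    have h2 : ψ (Polynomial.aeval z p) = p.coeff 0 := by
      rw [h1, map_add, map_mul, hψz, zero_mul, zero_add, ← hφ, hψφ]
    rw [h2, hφ]
    exact h1
  ext y
  constructor
  · rintro ⟨x, rfl⟩
    rw [Set.mem_compl_iff]
    intro hmem
    have h1 : z ∉ (ProjectiveSpectrum.comap ψ hψ x).asHomogeneousIdeal := hmem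
    apply h1
    show ψ z ∈ x.asHomogeneousIdeal
    rw [hψz]
    exact zero_mem _
  · intro hy
    rw [Set.mem_compl_iff] at hy
    have hzy : z ∈ y.asHomogeneousIdeal := by
      by_contra h
      exact hy h
    have hirr : ¬ HomogeneousIdeal.irrelevant 𝒜 ≤ y.asHomogeneousIdeal.comap φ := by
      intro hle
      apply y.not_irrelevant_le
      intro b hb
      obtain ⟨c, hc⟩ := hdecomp b
      have hψb : ψ b ∈ HomogeneousIdeal.irrelevant 𝒜 := by
        rw [HomogeneousIdeal.mem_irrelevant_iff, GradedRing.proj_apply] at hb ⊢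
        rw [← GradedRingHom.map_directSumDecompose (𝒜 := ℬ) (ℬ := 𝒜) ψ, hb, map_zero]
      have h3 : φ (ψ b) ∈ y.asHomogeneousIdeal.toIdeal := hle hψb
      rw [hc]
      exact y.asHomogeneousIdeal.toIdeal.add_mem (Ideal.mul_mem_right _ _ hzy) h3
    let x : ProjectiveSpectrum 𝒜 := ⟨y.asHomogeneousIdeal.comap φ, y.isPrime.comap φ, hirr⟩
    refine ⟨x, ?_⟩
    show ProjectiveSpectrum.comap ψ hψ x = y
    refine ProjectiveSpectrum.ext ?_
    refine HomogeneousIdeal.toIdeal_injective (𝒜 := ℬ) ?_
    refine Ideal.ext fun b => ?_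
    show φ (ψ b) ∈ y.asHomogeneousIdeal.toIdeal ↔ b ∈ y.asHomogeneousIdeal.toIdeal
    obtain ⟨c, hc⟩ := hdecomp b
    constructor
    · intro h
      rw [hc]
      exact y.asHomogeneousIdeal.toIdeal.add_mem (Ideal.mul_mem_right _ _ hzy) h
    · intro h
      have h4 : φ (ψ b) = b - z * c := by
        rw [eq_sub_iff_add_eq']
        exact hc.symm
      rw [h4]
      exact y.asHomogeneousIdeal.toIdeal.sub_mem h (Ideal.mul_mem_right _ _ hzy)

end Groth.Agent.S3594
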