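import Groth.Statements.S3596
import Mathlib

set_option autoImplicit false
universe u
open CategoryTheory CategoryTheory.Limits AlgebraicGeometry
open EGA2

namespace Groth.Agent.S3596

/-- For a homomorphism of graded rings φ : S' → S, the induced morphism p : G(φ) → Proj S'
(characterised on the charts as in the previous result) is affine. -/
theorem result {R A : Type u} [CommRing R] [CommRing A] [Algebra R A] (𝒜 : ℕ → Submodule R A) [GradedAlgebra 𝒜]
    {B : Type u} [CommRing B] [Algebra R B] (ℬ : ℕ → Submodule R B) [GradedAlgebra ℬ] (φ : 𝒜 →+*ᵍ ℬ)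
    (p : (PCone.dom φ : Scheme.{u}) ⟶ Proj 𝒜) (hp : ∀ (d : ℕ) (f : A) (hd : 0 < d) (hf : f ∈ 𝒜 d),
        PCone.chart φ hf hd ≫ p =
          Spec.map (CommRingCat.ofHom (HomogeneousLocalization.Away.map φ f)) ≫ Proj.awayι 𝒜 f hf hd) :
    IsAffineHom p := by
  classical
  have keymk : ∀ {e : ℕ} {g : B} (hg : g ∈ ℬ e) (n : ℕ) (x y : B) (hx : x ∈ ℬ (n • e))
      (hy : y ∈ ℬ (n • e)), x = y →
      HomogeneousLocalization.Away.mk ℬ hg n x hx = HomogeneousLocalization.Away.mk ℬ hg n y hy := by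
    intro e g hg n x y hx hy hxy
    subst hxy
    rfl
  have F1 : ∀ {e : ℕ} {g : A} (hg : g ∈ 𝒜 e) (he : 0 < e),
      PCone.chart φ hg he ≫ (PCone.dom φ).ι = Proj.awayι ℬ (φ g) (φ.2 hg) he :=
    fun hg he => IsOpenImmersion.lift_fac _ _ _
  have hinj : Function.Injective (PCone.dom φ).ι := (PCone.dom φ).ι.isOpenEmbedding.injective
  have F2 : ∀ {e : ℕ} {g : A} (hg : g ∈ 𝒜 e) (he : 0 < e) (x : (PCone.dom φ : Scheme.{u})),
      x ∈ Set.range (PCone.chart φ hg he) ↔ (PCone.dom φ).ι x ∈ Proj.basicOpen ℬ (φ g) := by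
    intro e g hg he x
    rw [← Proj.opensRange_awayι ℬ (φ g) (φ.2 hg) he]
    constructor
    · rintro ⟨x', rfl⟩
      exact ⟨x', (congr($(F1 hg he) x')).symm⟩
    · rintro ⟨x', hx'⟩
      refine ⟨x', hinj ?_⟩
      exact (congr($(F1 hg he) x')).trans hx'
  haveI hri : MorphismProperty.RespectsIso @IsAffineHom.{u} := by
    set_option backward.isDefEq.respectTransparency false in
    infer_instance
  haveI hloc : IsZariskiLocalAtTarget @IsAffineHom.{u} := by
    set_option backward.isDefEq.respectTransparency false in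
    infer_instance
  apply IsZariskiLocalAtTarget.of_openCover (P := @IsAffineHom) (Proj.affineOpenCover 𝒜).openCover
  rintro ⟨⟨d, hd⟩, ⟨f, hf⟩⟩
  have hf' : f ∈ 𝒜 d := hf
  haveI : IsOpenImmersion (PCone.chart φ hf' hd) := by
    haveI : IsOpenImmersion (PCone.chart φ hf' hd ≫ (PCone.dom φ).ι) := by
      rw [F1 hf' hd]
      infer_instance
    exact IsOpenImmersion.of_comp _ (PCone.dom φ).ι
  have H' : p ⁻¹ᵁ (Proj.awayι 𝒜 f hf' hd).opensRange = (PCone.chart φ hf' hd).opensRange := by
    rw [Proj.opensRange_awayι]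
    apply TopologicalSpace.Opens.ext
    ext x
    show p x ∈ Proj.basicOpen 𝒜 f ↔ x ∈ Set.range (PCone.chart φ hf' hd)
    constructor
    · intro hx
      obtain ⟨⟨g, e, he, hg⟩, hxg⟩ := TopologicalSpace.Opens.mem_iSup.mp x.2
      have hxg' : (PCone.dom φ).ι x ∈ Proj.basicOpen ℬ (φ g) := hxg
      obtain ⟨x', rfl⟩ := (F2 hg he x).mpr hxg'
      have hφg : φ g ∈ ℬ e := φ.2 hg
      have hφf : φ f ∈ ℬ d := φ.2 hf'
      have e1 : p (PCone.chart φ hg he x') = Proj.awayι 𝒜 g hg he
          (Spec.map (CommRingCat.ofHom (HomogeneousLocalization.Away.map φ g)) x') :=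
        congr($(hp e g he hg) x')
      rw [e1] at hx
      have h2 : Spec.map (CommRingCat.ofHom (HomogeneousLocalization.Away.map φ g)) x' ∈
          Proj.awayι 𝒜 g hg he ⁻¹ᵁ Proj.basicOpen 𝒜 f := hx
      rw [Proj.awayι_preimage_basicOpen 𝒜 hg he hf' hd] at h2
      have h3 : HomogeneousLocalization.Away.map φ g
          (HomogeneousLocalization.Away.isLocalizationElem hg hf') ∉ x'.asIdeal := h2
      have h4 : HomogeneousLocalization.Away.map φ g
          (HomogeneousLocalization.Away.isLocalizationElem hg hf') =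
          HomogeneousLocalization.Away.isLocalizationElem (𝒜 := ℬ) (hφg)
            (hφf) := by
        rw [HomogeneousLocalization.Away.map_mk]
        exact keymk _ _ _ _ _ _ (map_pow φ f e)
      rw [h4] at h3
      have h5 : x' ∈ Proj.awayι ℬ (φ g) (φ.2 hg) he ⁻¹ᵁ Proj.basicOpen ℬ (φ f) := by
        have h7 := Proj.awayι_preimage_basicOpen ℬ (f := φ g) (g := φ f) (hφg) he
          (hφf) hd
        rw [h7]
        exact h3
      rw [F2 hf' hd]
      have h6 : (PCone.dom φ).ι (PCone.chart φ hg he x') =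
          Proj.awayι ℬ (φ g) (φ.2 hg) he x' := congr($(F1 hg he) x')
      rw [h6]
      exact h5
    · rintro ⟨x', rfl⟩
      have e1 : p (PCone.chart φ hf' hd x') = Proj.awayι 𝒜 f hf' hd
          (Spec.map (CommRingCat.ofHom (HomogeneousLocalization.Away.map φ f)) x') :=
        congr($(hp d f hd hf') x')
      rw [e1, ← Proj.opensRange_awayι 𝒜 f hf' hd]
      exact ⟨_, rfl⟩
  have sq : IsPullback (Spec.map (CommRingCat.ofHom (HomogeneousLocalization.Away.map φ f)))
      (PCone.chart φ hf' hd) (Proj.awayι 𝒜 f hf' hd) p :=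
    IsOpenImmersion.isPullback _ _ _ _ (hp d f hd hf') H'
  show IsAffineHom (pullback.snd p (Proj.awayι 𝒜 f hf' hd))
  refine (MorphismProperty.cancel_left_of_respectsIso @IsAffineHom
    sq.flip.isoPullback.hom _).mp ?_
  rw [IsPullback.isoPullback_hom_snd]
  infer_instance

end Groth.Agent.S3596
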