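import Groth.Statements.S3707
import Mathlib

set_option autoImplicit false
universe u
open SGA1

namespace Groth.Agent.S3707

open AlgebraicGeometry CategoryTheory Limits in
lemma eq_locus {X Y S : Scheme.{u}} (p : Y ⟶ S) (f g : X ⟶ Y) (hfg : f ≫ p = g ≫ p) :
    ∃ (E : Scheme.{u}) (ι : E ⟶ X), ι ≫ f = ι ≫ g ∧
      (∀ {T : Scheme.{u}} (k : T ⟶ X), k ≫ f = k ≫ g → ∃ l : T ⟶ E, l ≫ ι = k) ∧
      (IsOpenImmersion (pullback.diagonal p) → IsOpenImmersion ι) ∧
      (IsClosedImmersion (pullback.diagonal p) → IsClosedImmersion ι) := by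
  refine ⟨pullback (pullback.lift f g hfg) (pullback.diagonal p), pullback.fst _ _, ?_, ?_, ?_, ?_⟩
  · have h := pullback.condition (f := pullback.lift f g hfg) (g := pullback.diagonal p)
    have h1 := congrArg (fun k => k ≫ pullback.fst p p) h
    have h2 := congrArg (fun k => k ≫ pullback.snd p p) h
    simp only [Category.assoc, pullback.lift_fst, pullback.lift_snd, pullback.diagonal_fst,
      pullback.diagonal_snd, Category.comp_id] at h1 h2
    rw [h1, h2]
  · intro T k hk
    have hc : k ≫ pullback.lift f g hfg = (k ≫ f) ≫ pullback.diagonal p := by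
      apply pullback.hom_ext
      · rw [Category.assoc, pullback.lift_fst, Category.assoc, pullback.diagonal_fst,
          Category.comp_id]
      · rw [Category.assoc, pullback.lift_snd, Category.assoc, pullback.diagonal_snd,
          Category.comp_id, hk]
    exact ⟨pullback.lift k (k ≫ f) hc, pullback.lift_fst _ _ _⟩
  · intro h
    infer_instance
  · intro h
    exact MorphismProperty.pullback_fst (P := @IsClosedImmersion) _ _ h


open AlgebraicGeometry CategoryTheory CategoryTheory.Limits in
/-- Let g : S' -> S be a surjective morphism of schemes, X and Y schemes over S with Y unramified over S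
(formally unramified and locally of finite type), and X', Y' their base changes to S'. Then the map
sending an S-morphism X -> Y to the induced S'-morphism X' -> Y' is injective. -/
theorem result {S S' X Y : Scheme.{u}} (g : S' ⟶ S) [Surjective g]
    (p : X ⟶ S) (q : Y ⟶ S) [FormallyUnramified q] [LocallyOfFiniteType q]
    (u v : X ⟶ Y) (hu : p ≫ 𝟙 S = u ≫ q) (hv : p ≫ 𝟙 S = v ≫ q)
    (h : pullback.map p g q g u (𝟙 S') (𝟙 S) hu ((Category.comp_id _).trans (Category.id_comp _).symm) =
      pullback.map p g q g v (𝟙 S') (𝟙 S) hv ((Category.comp_id _).trans (Category.id_comp _).symm)) :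
    u = v := by
  obtain ⟨E, ι, hι, hlift, hopen, -⟩ := eq_locus q u v (hu.symm.trans hv)
  haveI : IsOpenImmersion ι := hopen inferInstance
  have h1 : pullback.fst p g ≫ u = pullback.fst p g ≫ v := by
    have e1 := congrArg (fun k => k ≫ pullback.fst q g) h
    simp only [pullback.lift_fst] at e1
    exact e1
  obtain ⟨l, hl⟩ := hlift _ h1
  have huniv : Set.range ι = Set.univ := by
    rw [Set.eq_univ_iff_forall]
    intro x
    obtain ⟨x', rfl⟩ := (pullback.fst p g).surjective x
    refine ⟨l x', ?_⟩
    have h3 := congrArg (fun k : pullback p g ⟶ X => k x') hl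
    exact h3
  have hr : Set.range (𝟙 _ : X ⟶ X) ⊆ Set.range ι := by
    rw [huniv]
    exact Set.subset_univ _
  have hs := IsOpenImmersion.lift_fac ι (𝟙 _) hr
  calc u = (IsOpenImmersion.lift ι (𝟙 _) hr ≫ ι) ≫ u := by rw [hs, Category.id_comp]
    _ = (IsOpenImmersion.lift ι (𝟙 _) hr ≫ ι) ≫ v := by rw [Category.assoc, hι, Category.assoc]
    _ = v := by rw [hs, Category.id_comp]

end Groth.Agent.S3707
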