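import Groth.Statements.S3791
import Groth.Agent.Lib.helper2.Lam2

set_option autoImplicit false
universe v u
open CategoryTheory CategoryTheory.Limits AlgebraicGeometry
attribute [local instance] HasDerivedCategory.standard
open KRR

namespace Groth.Agent.S3791

/-- Let K be a λ-ring with positive structure P and u an ample line element (for every x, u^n x is a
positive element minus a natural number for all large n). Then for every line element v, the element
v - 1 is nilpotent. -/
theorem result (K : Type v) [CommRing K] [LambdaRing.LambdaOps K] (P : LambdaRing.PosStructure K)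
    (u : K) (hu : KRR.IsAmpleElt P u) (w : K) (hw : P.IsLine w) : IsNilpotent (w - 1) := by
  classical
  obtain ⟨hul, hamp⟩ := hu
  -- general claim: for a line element `w'`, `u ^ n * w' - 1` is nilpotent for all large `n`
  have key : ∀ w' : K, P.IsLine w' → ∃ n₀ : ℕ, ∀ n : ℕ, n₀ ≤ n → IsNilpotent (u ^ n * w' - 1) := by
    intro w' hw'
    obtain ⟨n₀, hn₀⟩ := hamp (-w')
    refine ⟨n₀, fun n hn => ?_⟩
    obtain ⟨e, m, he, hem⟩ := hn₀ n hn
    have hline : P.IsLine (u ^ n * w') :=
      LambdaRing.h2_isLine_mul P (LambdaRing.h2_isLine_pow P hul n) hw'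
    have haug := congrArg P.aug hem
    rw [mul_neg, map_neg, hline.2, map_sub, map_natCast] at haug
    have hpos : 0 < P.aug e := P.aug_pos e he
    have hm : m = (P.aug e).toNat + 1 := by omega
    have hsum : e + u ^ n * w' = (((P.aug e).toNat + 1 : ℕ) : K) := by
      rw [← hm]
      have : u ^ n * w' = -(u ^ n * -w') := by ring
      rw [this, hem]
      ring
    exact ⟨_, LambdaRing.h2_line_sub_one_pow_eq_zero P hline he hsum⟩
  obtain ⟨n₁, h₁⟩ := key w hw
  obtain ⟨n₂, h₂⟩ := key 1 (LambdaRing.h2_isLine_one P)
  have ha := h₁ (max n₁ n₂) (le_max_left _ _)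
  have hb := h₂ (max n₁ n₂) (le_max_right _ _)
  set n := max n₁ n₂
  rw [mul_one] at hb
  have hunit : IsUnit (u ^ n) := by
    have : u ^ n = (u ^ n - 1) + 1 := by ring
    rw [this]
    exact hb.isUnit_add_one
  have hdiff : IsNilpotent (u ^ n * (w - 1)) := by
    have : u ^ n * (w - 1) = (u ^ n * w - 1) - (u ^ n - 1) := by ring
    rw [this]
    exact (Commute.all _ _).isNilpotent_sub ha hb
  obtain ⟨c, hc⟩ := hunit.exists_left_inv
  have : w - 1 = c * (u ^ n * (w - 1)) := by
    rw [← mul_assoc, hc, one_mul]
  rw [this]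
  exact (Commute.all _ _).isNilpotent_mul_left hdiff

end Groth.Agent.S3791
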