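import Groth.Statements.S3808
-- import your own Groth.Agent.* helpers here

set_option autoImplicit false
universe u
open scoped TensorProduct
open PP16

namespace Groth.Agent.S3808

/-- Let A → B be a ring map, R a multiplicative subset of A, S one of B containing the image of R, and
A' = R⁻¹A, B' = S⁻¹B with the induced map A' → B'. Then the canonical map P^n_{B'/A} → P^n_{B'/A'}
is bijective. -/
theorem result (n : ℕ) (A B A' B' : Type u) [CommRing A] [CommRing B] [Algebra A B]
    [CommRing A'] [CommRing B'] [Algebra A A'] [Algebra B B'] [Algebra A' B'] [Algebra A B']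
    [IsScalarTower A A' B'] [IsScalarTower A B B'] (R : Submonoid A) (S : Submonoid B) [IsLocalization R A']
    [IsLocalization S B'] (hRS : ∀ r ∈ R, algebraMap A B r ∈ S) :
    Function.Bijective (PP16.map n A B' A' B') := by
  classical
  have hπ : ∀ c c' : B', PP16.tensorMap A B' A' B' (c ⊗ₜ[A] c') = c ⊗ₜ[A'] c' := by
    intro c c'
    rw [PP16.tensorMap_tmul]
    rfl
  have hπsurj : Function.Surjective (PP16.tensorMap A B' A' B') := by
    intro t
    induction t using TensorProduct.induction_on with
    | zero => exact ⟨0, map_zero _⟩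
    | tmul c c' => exact ⟨c ⊗ₜ[A] c', hπ c c'⟩
    | add x y hx hy =>
      obtain ⟨x', rfl⟩ := hx
      obtain ⟨y', rfl⟩ := hy
      exact ⟨x' + y', map_add _ _ _⟩
  have hπinj : Function.Injective (PP16.tensorMap A B' A' B') := by
    let e := IsLocalization.algebraTensorEquiv R A' B' B'
    have he : ∀ t : B' ⊗[A] B', e (PP16.tensorMap A B' A' B' t) = t := by
      intro t
      induction t using TensorProduct.induction_on with
      | zero => simp
      | tmul c c' =>
        rw [hπ]
        rfl
      | add x y hx hy => rw [map_add, map_add, hx, hy]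
    intro t t' h
    rw [← he t, ← he t', h]
  have hI' : (KaehlerDifferential.ideal A B').map (PP16.tensorMap A B' A' B')
      = KaehlerDifferential.ideal A' B' := by
    apply le_antisymm (PP16.ideal_map_tensorMap_le A B' A' B')
    rw [← KaehlerDifferential.span_range_eq_ideal A' B', Ideal.span_le]
    rintro _ ⟨s, rfl⟩
    have : (1 : B') ⊗ₜ[A'] s - s ⊗ₜ[A'] (1 : B')
        = PP16.tensorMap A B' A' B' ((1 : B') ⊗ₜ[A] s - s ⊗ₜ[A] (1 : B')) := by
      rw [map_sub, hπ, hπ]
    beta_reduce
    rw [this]
    exact Ideal.mem_map_of_mem _ (KaehlerDifferential.one_smul_sub_smul_one_mem_ideal A s)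
  refine ⟨?_, ?_⟩
  · rw [injective_iff_map_eq_zero]
    intro x hx
    obtain ⟨t, rfl⟩ := Ideal.Quotient.mk_surjective x
    have hx' : Ideal.Quotient.mk (KaehlerDifferential.ideal A' B' ^ (n + 1))
        (PP16.tensorMap A B' A' B' t) = 0 := hx
    rw [Ideal.Quotient.eq_zero_iff_mem, ← hI'] at hx'
    have e1 := Ideal.map_pow (PP16.tensorMap A B' A' B') (KaehlerDifferential.ideal A B') (n + 1)
    rw [← e1] at hx'
    obtain ⟨s, hs, hst⟩ := (Ideal.mem_map_iff_of_surjective _ hπsurj).mp hx'
    have : s = t := hπinj hst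
    subst this
    exact Ideal.Quotient.eq_zero_iff_mem.mpr hs
  · intro y
    obtain ⟨t', rfl⟩ := Ideal.Quotient.mk_surjective y
    obtain ⟨t, rfl⟩ := hπsurj t'
    exact ⟨Ideal.Quotient.mk _ t, PP16.map_mk n A B' A' B' t⟩

end Groth.Agent.S3808
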