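import Groth.Statements.S3809
-- import your own Groth.Agent.* helpers here

set_option autoImplicit false
universe u
open scoped TensorProduct
open PP16

namespace Groth.Agent.S3809

/-- Let A → B → C be ring maps. Then the canonical map P^n_{C/A} → P^n_{C/B} is surjective, and its
kernel is the ideal generated by the image, under the canonical map P^n_{B/A} → P^n_{C/A}, of the
augmentation ideal of P^n_{B/A}. -/
theorem result (n : ℕ) (A B C : Type u) [CommRing A] [CommRing B] [CommRing C]
    [Algebra A B] [Algebra B C] [Algebra A C] [IsScalarTower A B C] :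
    Function.Surjective (PP16.map n A C B C) ∧
      RingHom.ker (PP16.map n A C B C) = (PP16.augIdeal n A B).map (PP16.map n A B A C) := by
  classical
  have hπ : ∀ c c' : C, PP16.tensorMap A C B C (c ⊗ₜ[A] c') = c ⊗ₜ[B] c' := by
    intro c c'
    rw [PP16.tensorMap_tmul]
    rfl
  have hπsurj : Function.Surjective (PP16.tensorMap A C B C) := by
    intro t
    induction t using TensorProduct.induction_on with
    | zero => exact ⟨0, map_zero _⟩
    | tmul c c' => exact ⟨c ⊗ₜ[A] c', hπ c c'⟩
    | add x y hx hy =>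
      obtain ⟨x', rfl⟩ := hx
      obtain ⟨y', rfl⟩ := hy
      exact ⟨x' + y', map_add _ _ _⟩
  have hI' : (KaehlerDifferential.ideal A C).map (PP16.tensorMap A C B C)
      = KaehlerDifferential.ideal B C := by
    apply le_antisymm (PP16.ideal_map_tensorMap_le A C B C)
    rw [← KaehlerDifferential.span_range_eq_ideal B C, Ideal.span_le]
    rintro _ ⟨s, rfl⟩
    have : (1 : C) ⊗ₜ[B] s - s ⊗ₜ[B] (1 : C)
        = PP16.tensorMap A C B C ((1 : C) ⊗ₜ[A] s - s ⊗ₜ[A] (1 : C)) := by
      rw [map_sub, hπ, hπ]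
    beta_reduce
    rw [this]
    exact Ideal.mem_map_of_mem _ (KaehlerDifferential.one_smul_sub_smul_one_mem_ideal A s)
  -- kernel of π
  let J₀ : Ideal (C ⊗[A] C) := Ideal.span (Set.range fun b : B =>
    (1 : C) ⊗ₜ[A] (algebraMap B C b) - (algebraMap B C b) ⊗ₜ[A] (1 : C))
  have hcompat : ∀ t : C ⊗[A] C,
      TensorProduct.mapOfCompatibleSMul B A B C C t = PP16.tensorMap A C B C t := by
    intro t
    induction t using TensorProduct.induction_on with
    | zero => simp
    | tmul c c' => rw [hπ]; simp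
    | add x y hx hy => rw [map_add, map_add, hx, hy]
  have hker : RingHom.ker (PP16.tensorMap A C B C) ≤ J₀ := by
    intro t ht
    rw [RingHom.mem_ker] at ht
    have h1 : t ∈ LinearMap.ker (TensorProduct.mapOfCompatibleSMul B A B C C) := by
      rw [LinearMap.mem_ker, hcompat, ht]
    rw [TensorProduct.AlgebraTensorModule.ker_mapOfCompatibleSMul] at h1
    clear ht
    induction h1 using Submodule.span_induction with
    | mem x hx =>
      obtain ⟨b, m, n', rfl⟩ := hx
      have : (b • m) ⊗ₜ[A] n' - m ⊗ₜ[A] (b • n')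
          = - ((m ⊗ₜ[A] n') * ((1 : C) ⊗ₜ[A] (algebraMap B C b) - (algebraMap B C b) ⊗ₜ[A] (1 : C))) := by
        rw [mul_sub, Algebra.TensorProduct.tmul_mul_tmul, Algebra.TensorProduct.tmul_mul_tmul,
          mul_one, mul_one, Algebra.smul_def, Algebra.smul_def, mul_comm m, mul_comm n']
        abel
      rw [this]
      exact neg_mem (Ideal.mul_mem_left _ _ (Ideal.subset_span ⟨b, rfl⟩))
    | zero => exact zero_mem _
    | add x y _ _ hx hy => exact add_mem hx hy
    | smul b x _ hx =>
      rw [Algebra.smul_def]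
      exact Ideal.mul_mem_left _ _ hx
  have hJ₀ : J₀ ≤ ((PP16.augIdeal n A B).map (PP16.map n A B A C)).comap
      (Ideal.Quotient.mk (KaehlerDifferential.ideal A C ^ (n + 1))) := by
    rw [Ideal.span_le]
    rintro _ ⟨b, rfl⟩
    rw [SetLike.mem_coe, Ideal.mem_comap]
    have : Ideal.Quotient.mk (KaehlerDifferential.ideal A C ^ (n + 1))
        ((1 : C) ⊗ₜ[A] (algebraMap B C b) - (algebraMap B C b) ⊗ₜ[A] (1 : C))
        = PP16.map n A B A C (Ideal.Quotient.mk (KaehlerDifferential.ideal A B ^ (n + 1))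
          ((1 : B) ⊗ₜ[A] b - b ⊗ₜ[A] (1 : B))) := by
      rw [PP16.map_mk]
      congr 1
      rw [map_sub, PP16.tensorMap_tmul, PP16.tensorMap_tmul, map_one]
    rw [this]
    apply Ideal.mem_map_of_mem
    exact Ideal.mem_map_of_mem _ (KaehlerDifferential.one_smul_sub_smul_one_mem_ideal A b)
  refine ⟨?_, ?_⟩
  · intro y
    obtain ⟨t', rfl⟩ := Ideal.Quotient.mk_surjective y
    obtain ⟨t, rfl⟩ := hπsurj t'
    exact ⟨Ideal.Quotient.mk _ t, PP16.map_mk n A C B C t⟩
  · apply le_antisymm
    · intro x hx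
      obtain ⟨t, rfl⟩ := Ideal.Quotient.mk_surjective x
      rw [RingHom.mem_ker] at hx
      have hx' : Ideal.Quotient.mk (KaehlerDifferential.ideal B C ^ (n + 1))
          (PP16.tensorMap A C B C t) = 0 := hx
      rw [Ideal.Quotient.eq_zero_iff_mem, ← hI'] at hx'
      have e1 := Ideal.map_pow (PP16.tensorMap A C B C) (KaehlerDifferential.ideal A C) (n + 1)
      rw [← e1] at hx'
      obtain ⟨s, hs, hst⟩ := (Ideal.mem_map_iff_of_surjective _ hπsurj).mp hx'
      have hts : t - s ∈ RingHom.ker (PP16.tensorMap A C B C) := by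
        rw [RingHom.mem_ker, map_sub, hst, sub_self]
      have hqs : Ideal.Quotient.mk (KaehlerDifferential.ideal A C ^ (n + 1)) s = 0 :=
        Ideal.Quotient.eq_zero_iff_mem.mpr hs
      have hqt : Ideal.Quotient.mk (KaehlerDifferential.ideal A C ^ (n + 1)) t
          = Ideal.Quotient.mk (KaehlerDifferential.ideal A C ^ (n + 1)) (t - s) := by
        rw [map_sub, hqs, sub_zero]
      rw [hqt]
      exact hJ₀ (hker hts)
    · rw [Ideal.map_le_iff_le_comap]
      unfold PP16.augIdeal
      rw [Ideal.map_le_iff_le_comap]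
      conv_lhs => rw [← KaehlerDifferential.span_range_eq_ideal A B]
      rw [Ideal.span_le]
      rintro _ ⟨b, rfl⟩
      rw [SetLike.mem_coe, Ideal.mem_comap, Ideal.mem_comap, RingHom.mem_ker]
      rw [PP16.map_mk, PP16.map_mk, map_sub, PP16.tensorMap_tmul, PP16.tensorMap_tmul, map_one,
        map_sub, hπ, hπ]
      have : (1 : C) ⊗ₜ[B] (algebraMap B C b) = (algebraMap B C b) ⊗ₜ[B] (1 : C) := by
        rw [Algebra.algebraMap_eq_smul_one, TensorProduct.tmul_smul, TensorProduct.smul_tmul']
      rw [this, sub_self, map_zero]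

end Groth.Agent.S3809
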