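import Groth.Statements.S3810
-- import your own Groth.Agent.* helpers here

set_option autoImplicit false
universe u
open scoped TensorProduct
open PP16

namespace Groth.Agent.S3810

/-- Let B be an A-algebra, K an ideal of B and C = B/K. Then the canonical map P^n_{B/A} → P^n_{C/A} is
surjective and its kernel is the ideal generated by the image of K under the structure map B →
P^n_{B/A} together with the image of K under the principal-part map d^n (the latter is an additive
subgroup, not a B-submodule, in general). -/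
theorem result (n : ℕ) (A B : Type u) [CommRing A] [CommRing B] [Algebra A B]
    (K : Ideal B) :
    Function.Surjective (PP16.map n A B A (B ⧸ K)) ∧
      RingHom.ker (PP16.map n A B A (B ⧸ K)) =
        K.map (algebraMap B (PP16.P n A B)) ⊔ K.map (PP16.dn n A B) := by
  classical
  have hsurjK : Function.Surjective (Ideal.Quotient.mkₐ A K) := Ideal.Quotient.mkₐ_surjective A K
  have hπeq : PP16.tensorMap A B A (B ⧸ K)
      = Algebra.TensorProduct.map (Ideal.Quotient.mkₐ A K) (Ideal.Quotient.mkₐ A K) := by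
    apply Algebra.TensorProduct.ext'
    intro b c
    rw [PP16.tensorMap_tmul, Algebra.TensorProduct.map_tmul]
    rfl
  have hπsurj : Function.Surjective (PP16.tensorMap A B A (B ⧸ K)) := by
    rw [hπeq]
    exact Algebra.TensorProduct.map_surjective _ _ hsurjK hsurjK
  have hπker : RingHom.ker (PP16.tensorMap A B A (B ⧸ K))
      = K.map (Algebra.TensorProduct.includeLeft : B →ₐ[A] B ⊗[A] B)
        ⊔ K.map (Algebra.TensorProduct.includeRight : B →ₐ[A] B ⊗[A] B) := by
    have hk : RingHom.ker (Ideal.Quotient.mkₐ A K) = K := by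
      ext x
      rw [RingHom.mem_ker, Ideal.Quotient.mkₐ_eq_mk, Ideal.Quotient.eq_zero_iff_mem]
    rw [hπeq, Algebra.TensorProduct.map_ker _ _ hsurjK hsurjK, hk]
  have hI' : (KaehlerDifferential.ideal A B).map (PP16.tensorMap A B A (B ⧸ K))
      = KaehlerDifferential.ideal A (B ⧸ K) := by
    apply le_antisymm (PP16.ideal_map_tensorMap_le A B A (B ⧸ K))
    rw [← KaehlerDifferential.span_range_eq_ideal A (B ⧸ K), Ideal.span_le]
    rintro _ ⟨s, rfl⟩
    obtain ⟨b, rfl⟩ := Ideal.Quotient.mk_surjective s
    have : (1 : B ⧸ K) ⊗ₜ[A] (Ideal.Quotient.mk K b) - (Ideal.Quotient.mk K b) ⊗ₜ[A] (1 : B ⧸ K)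
        = PP16.tensorMap A B A (B ⧸ K) ((1 : B) ⊗ₜ[A] b - b ⊗ₜ[A] (1 : B)) := by
      rw [map_sub, PP16.tensorMap_tmul, PP16.tensorMap_tmul, map_one]
      rfl
    beta_reduce
    rw [this]
    exact Ideal.mem_map_of_mem _ (KaehlerDifferential.one_smul_sub_smul_one_mem_ideal A b)
  have halg : ∀ b : B, algebraMap B (PP16.P n A B) b
      = Ideal.Quotient.mk (KaehlerDifferential.ideal A B ^ (n + 1)) (b ⊗ₜ[A] (1 : B)) := fun b => rfl
  have hdn : ∀ c : B, PP16.dn n A B c
      = Ideal.Quotient.mk (KaehlerDifferential.ideal A B ^ (n + 1)) ((1 : B) ⊗ₜ[A] c) := fun c => rfl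
  refine ⟨?_, ?_⟩
  · intro y
    obtain ⟨t', rfl⟩ := Ideal.Quotient.mk_surjective y
    obtain ⟨t, rfl⟩ := hπsurj t'
    exact ⟨Ideal.Quotient.mk _ t, PP16.map_mk n A B A (B ⧸ K) t⟩
  · apply le_antisymm
    · intro x hx
      obtain ⟨t, rfl⟩ := Ideal.Quotient.mk_surjective x
      rw [RingHom.mem_ker] at hx
      have hx' : Ideal.Quotient.mk (KaehlerDifferential.ideal A (B ⧸ K) ^ (n + 1))
          (PP16.tensorMap A B A (B ⧸ K) t) = 0 := hx
      rw [Ideal.Quotient.eq_zero_iff_mem, ← hI'] at hx'
      have e1 := Ideal.map_pow (PP16.tensorMap A B A (B ⧸ K)) (KaehlerDifferential.ideal A B) (n + 1)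
      rw [← e1] at hx'
      obtain ⟨s, hs, hst⟩ := (Ideal.mem_map_iff_of_surjective _ hπsurj).mp hx'
      have hts : t - s ∈ RingHom.ker (PP16.tensorMap A B A (B ⧸ K)) := by
        rw [RingHom.mem_ker, map_sub, hst, sub_self]
      have hqs : Ideal.Quotient.mk (KaehlerDifferential.ideal A B ^ (n + 1)) s = 0 :=
        Ideal.Quotient.eq_zero_iff_mem.mpr hs
      have hqt : Ideal.Quotient.mk (KaehlerDifferential.ideal A B ^ (n + 1)) t
          = Ideal.Quotient.mk (KaehlerDifferential.ideal A B ^ (n + 1)) (t - s) := by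
        rw [map_sub, hqs, sub_zero]
      rw [hqt]
      have hle : RingHom.ker (PP16.tensorMap A B A (B ⧸ K)) ≤
          (K.map (algebraMap B (PP16.P n A B)) ⊔ K.map (PP16.dn n A B)).comap
            (Ideal.Quotient.mk (KaehlerDifferential.ideal A B ^ (n + 1))) := by
        rw [hπker]
        apply sup_le
        · rw [Ideal.map_le_iff_le_comap]
          intro b hb
          rw [Ideal.mem_comap, Ideal.mem_comap]
          apply Ideal.mem_sup_left
          change Ideal.Quotient.mk _ (b ⊗ₜ[A] (1 : B)) ∈ _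
          rw [← halg]
          exact Ideal.mem_map_of_mem _ hb
        · rw [Ideal.map_le_iff_le_comap]
          intro b hb
          rw [Ideal.mem_comap, Ideal.mem_comap]
          apply Ideal.mem_sup_right
          change Ideal.Quotient.mk _ ((1 : B) ⊗ₜ[A] b) ∈ _
          rw [← hdn]
          exact Ideal.mem_map_of_mem _ hb
      exact hle hts
    · apply sup_le
      · rw [Ideal.map_le_iff_le_comap]
        intro b hb
        rw [Ideal.mem_comap, RingHom.mem_ker]
        have := PP16.map_algebraMap n A B A (B ⧸ K) b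
        rw [this]
        have : algebraMap B (B ⧸ K) b = 0 := Ideal.Quotient.eq_zero_iff_mem.mpr hb
        rw [this, map_zero]
      · rw [Ideal.map_le_iff_le_comap]
        intro b hb
        rw [Ideal.mem_comap, RingHom.mem_ker]
        have := PP16.map_dn n A B A (B ⧸ K) b
        rw [this]
        have : algebraMap B (B ⧸ K) b = 0 := Ideal.Quotient.eq_zero_iff_mem.mpr hb
        rw [this, map_zero]

end Groth.Agent.S3810
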