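import Groth.Statements.S3811
-- import your own Groth.Agent.* helpers here

set_option autoImplicit false
universe u
open scoped TensorProduct
open PP16

namespace Groth.Agent.S3811

/-- Let B be an A-algebra with an A-algebra retraction g : B → A, and K the kernel of g. The composite
of d^n : B → P^n_{B/A} with the projection P^n_{B/A} → P^n_{B/A} / K P^n_{B/A} (base change of
P^n_{B/A} along g) is surjective with kernel K^(n+1); thus P^n_{B/A} ⊗_B A is identified with
B/K^(n+1), the class of d^n t corresponding to the class of t. -/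
theorem result (n : ℕ) (A B : Type u) [CommRing A] [CommRing B] [Algebra A B]
    (g : B →ₐ[A] A) :
    Function.Surjective ((Ideal.Quotient.mk ((RingHom.ker g).map (algebraMap B (PP16.P n A B)))).comp
        (PP16.dn n A B).toRingHom) ∧
      RingHom.ker ((Ideal.Quotient.mk ((RingHom.ker g).map (algebraMap B (PP16.P n A B)))).comp
        (PP16.dn n A B).toRingHom) = RingHom.ker g ^ (n + 1) := by
  classical
  have hgK : ∀ b : B, b - algebraMap A B (g b) ∈ RingHom.ker g := by
    intro b
    rw [RingHom.mem_ker, map_sub, AlgHom.commutes]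
    simp
  have halg : ∀ b : B, algebraMap B (PP16.P n A B) b
      = Ideal.Quotient.mk (KaehlerDifferential.ideal A B ^ (n + 1)) (b ⊗ₜ[A] (1 : B)) := fun b => rfl
  have hdn : ∀ c : B, PP16.dn n A B c
      = Ideal.Quotient.mk (KaehlerDifferential.ideal A B ^ (n + 1)) ((1 : B) ⊗ₜ[A] c) := fun c => rfl
  -- the map φ : B ⊗ B → B / K^(n+1)
  let φ : B ⊗[A] B →ₐ[A] B ⧸ (RingHom.ker g) ^ (n + 1) :=
    Algebra.TensorProduct.lift ((Algebra.ofId A (B ⧸ (RingHom.ker g) ^ (n + 1))).comp g)
      (Ideal.Quotient.mkₐ A ((RingHom.ker g) ^ (n + 1))) (fun _ _ => Commute.all _ _)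
  have hφ : ∀ b c : B, φ (b ⊗ₜ[A] c)
      = algebraMap A (B ⧸ (RingHom.ker g) ^ (n + 1)) (g b) * Ideal.Quotient.mk _ c := by
    intro b c
    simp [φ, Algebra.TensorProduct.lift_tmul, Algebra.ofId_apply]
  have hφI : (KaehlerDifferential.ideal A B).map φ
      ≤ (RingHom.ker g).map (Ideal.Quotient.mk ((RingHom.ker g) ^ (n + 1))) := by
    rw [← KaehlerDifferential.span_range_eq_ideal, Ideal.map_span, Ideal.span_le]
    rintro _ ⟨_, ⟨s, rfl⟩, rfl⟩
    have : φ ((1 : B) ⊗ₜ[A] s - s ⊗ₜ[A] (1 : B))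
        = Ideal.Quotient.mk ((RingHom.ker g) ^ (n + 1)) (s - algebraMap A B (g s)) := by
      rw [map_sub, hφ, hφ, map_one, map_one, one_mul, map_one, mul_one, map_sub]
      rfl
    rw [this]
    exact Ideal.mem_map_of_mem _ (hgK s)
  have hφI' : ∀ x ∈ (KaehlerDifferential.ideal A B) ^ (n + 1), φ x = 0 := by
    intro x hx
    have h1 : φ x ∈ ((KaehlerDifferential.ideal A B) ^ (n + 1)).map φ := Ideal.mem_map_of_mem _ hx
    rw [Ideal.map_pow] at h1
    have h2 := Ideal.pow_right_mono hφI (n + 1) h1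
    rw [← Ideal.map_pow, Ideal.map_quotient_self] at h2
    simpa using h2
  let ψ : PP16.P n A B →+* B ⧸ (RingHom.ker g) ^ (n + 1) :=
    Ideal.Quotient.lift _ φ.toRingHom hφI'
  have hψ : ∀ t, ψ (Ideal.Quotient.mk _ t) = φ t := fun t => rfl
  have hψK : ∀ x ∈ (RingHom.ker g).map (algebraMap B (PP16.P n A B)), ψ x = 0 := by
    intro x hx
    have : (RingHom.ker g).map (algebraMap B (PP16.P n A B)) ≤ RingHom.ker ψ := by
      rw [Ideal.map_le_iff_le_comap]
      intro b hb
      rw [Ideal.mem_comap, RingHom.mem_ker, halg, hψ, hφ]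
      rw [RingHom.mem_ker] at hb
      rw [hb, map_zero, zero_mul]
    exact this hx
  let ψ' : (PP16.P n A B ⧸ (RingHom.ker g).map (algebraMap B (PP16.P n A B))) →+*
      B ⧸ (RingHom.ker g) ^ (n + 1) := Ideal.Quotient.lift _ ψ hψK
  set θ : B →+* (PP16.P n A B ⧸ (RingHom.ker g).map (algebraMap B (PP16.P n A B))) :=
    (Ideal.Quotient.mk ((RingHom.ker g).map (algebraMap B (PP16.P n A B)))).comp
        (PP16.dn n A B).toRingHom with hθ
  have hθ' : ∀ c, θ c = Ideal.Quotient.mk _ (Ideal.Quotient.mk _ ((1 : B) ⊗ₜ[A] c)) := fun c => rfl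
  have hψθ : ∀ c, ψ' (θ c) = Ideal.Quotient.mk _ c := by
    intro c
    rw [hθ']
    change φ ((1 : B) ⊗ₜ[A] c) = _
    rw [hφ, map_one, map_one, one_mul]
  -- elements of K·P die
  have hKP0 : ∀ b ∈ RingHom.ker g,
      Ideal.Quotient.mk ((RingHom.ker g).map (algebraMap B (PP16.P n A B)))
        (Ideal.Quotient.mk (KaehlerDifferential.ideal A B ^ (n + 1)) (b ⊗ₜ[A] (1 : B))) = 0 := by
    intro b hb
    rw [Ideal.Quotient.eq_zero_iff_mem, ← halg]
    exact Ideal.mem_map_of_mem _ hb
  refine ⟨?_, ?_⟩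
  · -- surjectivity
    let φ₀ : B ⊗[A] B →ₐ[A] B :=
      Algebra.TensorProduct.lift ((Algebra.ofId A B).comp g) (AlgHom.id A B) (fun _ _ => Commute.all _ _)
    have hφ₀ : ∀ b c : B, φ₀ (b ⊗ₜ[A] c) = algebraMap A B (g b) * c := by
      intro b c
      simp [φ₀, Algebra.TensorProduct.lift_tmul, Algebra.ofId_apply]
    have key : ∀ t : B ⊗[A] B, Ideal.Quotient.mk ((RingHom.ker g).map (algebraMap B (PP16.P n A B)))
        (Ideal.Quotient.mk (KaehlerDifferential.ideal A B ^ (n + 1)) t) = θ (φ₀ t) := by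
      intro t
      induction t using TensorProduct.induction_on with
      | zero => simp
      | tmul b c =>
        rw [hφ₀, map_mul, hθ', hθ']
        have e1 : b ⊗ₜ[A] c = (b ⊗ₜ[A] (1 : B)) * ((1 : B) ⊗ₜ[A] c) := by
          rw [Algebra.TensorProduct.tmul_mul_tmul, mul_one, one_mul]
        rw [e1, map_mul, map_mul]
        congr 1
        have e2 : (1 : B) ⊗ₜ[A] (algebraMap A B (g b)) = (algebraMap A B (g b)) ⊗ₜ[A] (1 : B) := by
          rw [Algebra.algebraMap_eq_smul_one, TensorProduct.tmul_smul, TensorProduct.smul_tmul']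
        rw [e2]
        have e3 : b ⊗ₜ[A] (1 : B) = (b - algebraMap A B (g b)) ⊗ₜ[A] (1 : B)
            + (algebraMap A B (g b)) ⊗ₜ[A] (1 : B) := by
          rw [← TensorProduct.add_tmul, sub_add_cancel]
        rw [e3, map_add, map_add, hKP0 _ (hgK b), zero_add]
      | add x y hx hy =>
        rw [map_add, map_add, map_add, map_add, hx, hy]
    intro y
    obtain ⟨p, rfl⟩ := Ideal.Quotient.mk_surjective y
    obtain ⟨t, rfl⟩ := Ideal.Quotient.mk_surjective p
    exact ⟨φ₀ t, (key t).symm⟩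
  · -- kernel
    apply le_antisymm
    · intro c hc
      rw [RingHom.mem_ker] at hc
      have := hψθ c
      change ψ' (θ c) = _ at this
      have hc' : θ c = 0 := hc
      rw [hc', map_zero] at this
      exact Ideal.Quotient.eq_zero_iff_mem.mp this.symm
    · -- K^(n+1) ≤ ker θ
      have hKθ : (RingHom.ker g).map θ ≤ (KaehlerDifferential.ideal A B).map
          ((Ideal.Quotient.mk ((RingHom.ker g).map (algebraMap B (PP16.P n A B)))).comp
            (Ideal.Quotient.mk (KaehlerDifferential.ideal A B ^ (n + 1)))) := by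
        rw [Ideal.map_le_iff_le_comap]
        intro c hc
        rw [Ideal.mem_comap, hθ']
        have e : (1 : B) ⊗ₜ[A] c = ((1 : B) ⊗ₜ[A] c - c ⊗ₜ[A] (1 : B)) + c ⊗ₜ[A] (1 : B) := by
          rw [sub_add_cancel]
        rw [e, map_add, map_add, hKP0 c hc, add_zero]
        exact Ideal.mem_map_of_mem
          ((Ideal.Quotient.mk ((RingHom.ker g).map (algebraMap B (PP16.P n A B)))).comp
            (Ideal.Quotient.mk (KaehlerDifferential.ideal A B ^ (n + 1))))
          (KaehlerDifferential.one_smul_sub_smul_one_mem_ideal A c)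
      intro c hc
      have h1 : θ c ∈ ((RingHom.ker g) ^ (n + 1)).map θ := Ideal.mem_map_of_mem _ hc
      have e1 := Ideal.map_pow θ (RingHom.ker g) (n + 1)
      rw [e1] at h1
      have h2 := Ideal.pow_right_mono hKθ (n + 1) h1
      have e2 := Ideal.map_pow ((Ideal.Quotient.mk ((RingHom.ker g).map (algebraMap B (PP16.P n A B)))).comp
            (Ideal.Quotient.mk (KaehlerDifferential.ideal A B ^ (n + 1)))) (KaehlerDifferential.ideal A B) (n + 1)
      rw [← e2, ← Ideal.map_map, Ideal.map_quotient_self, Ideal.map_bot] at h2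
      rw [RingHom.mem_ker]
      simpa using h2

end Groth.Agent.S3811
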