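import Groth.Statements.S3812
import Mathlib

set_option autoImplicit false
universe u
open scoped TensorProduct
open PP16

namespace Groth.Agent.S3812

/-- Let B = A[T_i] be a polynomial algebra. There is an isomorphism of B-algebras from P^n_{B/A} onto
B[U_i]/(U)^(n+1), where (U) is the ideal generated by the new indeterminates, sending the principal
part d^n T_i to the class of T_i + U_i for every i (so d^n F(T) goes to the class of F(T + U)). -/
theorem result (n : ℕ) (A : Type u) [CommRing A] (σ : Type u) :
    ∃ e : PP16.P n A (MvPolynomial σ A) ≃ₐ[MvPolynomial σ A]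
        (MvPolynomial σ (MvPolynomial σ A) ⧸
          Ideal.span (Set.range (MvPolynomial.X : σ → MvPolynomial σ (MvPolynomial σ A))) ^ (n + 1)),
      ∀ i : σ, e (PP16.dn n A (MvPolynomial σ A) (MvPolynomial.X i)) =
        Ideal.Quotient.mk _ (MvPolynomial.C (MvPolynomial.X i : MvPolynomial σ A) +
          (MvPolynomial.X i : MvPolynomial σ (MvPolynomial σ A))) := by
  classical
  let B := MvPolynomial σ A
  let φ : B ⊗[A] B →ₐ[B] MvPolynomial σ B :=
    Algebra.TensorProduct.lift (Algebra.ofId B (MvPolynomial σ B))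
      (MvPolynomial.aeval (fun i => MvPolynomial.C (MvPolynomial.X i : B) +
        (MvPolynomial.X i : MvPolynomial σ B))) (fun _ _ => Commute.all _ _)
  let ψ : MvPolynomial σ B →ₐ[B] B ⊗[A] B :=
    MvPolynomial.aeval (fun i => (1 : B) ⊗ₜ[A] (MvPolynomial.X i : B) -
      (MvPolynomial.X i : B) ⊗ₜ[A] (1 : B))
  have hφ1 : ∀ b : B, φ ((1 : B) ⊗ₜ[A] b) = MvPolynomial.aeval (fun i => MvPolynomial.C (MvPolynomial.X i : B) +
        (MvPolynomial.X i : MvPolynomial σ B)) b := by
    intro b
    simp [φ, Algebra.TensorProduct.lift_tmul]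
  have hφ2 : ∀ b : B, φ (b ⊗ₜ[A] (1 : B)) = MvPolynomial.C b := by
    intro b
    simp [φ, Algebra.TensorProduct.lift_tmul, Algebra.ofId_apply, MvPolynomial.algebraMap_eq]
  have h1 : φ.comp ψ = AlgHom.id B _ := by
    apply MvPolynomial.algHom_ext
    intro i
    simp only [AlgHom.comp_apply, ψ, MvPolynomial.aeval_X, map_sub, hφ1, hφ2, AlgHom.id_apply]
    ring
  have h2 : ψ.comp φ = AlgHom.id B _ := by
    apply Algebra.TensorProduct.ext
    · ext
    · apply MvPolynomial.algHom_ext
      intro i
      simp only [AlgHom.comp_apply, AlgHom.coe_restrictScalars', Algebra.TensorProduct.includeRight_apply,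
        hφ1, MvPolynomial.aeval_X, map_add, ψ, AlgHom.id_apply, MvPolynomial.aeval_C]
      rw [Algebra.TensorProduct.algebraMap_apply]
      simp
  let E : (B ⊗[A] B) ≃ₐ[B] MvPolynomial σ B := AlgEquiv.ofAlgHom φ ψ h1 h2
  have hE : ∀ x, E x = φ x := fun x => rfl
  have hcc : ∀ p : MvPolynomial σ B, p ∈ Ideal.span (Set.range (MvPolynomial.X : σ → MvPolynomial σ B)) ↔
      MvPolynomial.constantCoeff p = 0 := by
    intro p
    have := MvPolynomial.mem_pow_idealOfVars_iff' (σ := σ) (R := B) 1 p
    rw [pow_one] at this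
    rw [this]
    constructor
    · intro h
      exact h 0 (by simp)
    · intro h x hx
      have : x = 0 := by
        have h0 : x.degree = 0 := by omega
        exact (Finsupp.degree_eq_zero_iff x).mp h0
      subst this
      exact h
  have hI : (KaehlerDifferential.ideal A B).map (E : (B ⊗[A] B) →+* MvPolynomial σ B) =
      Ideal.span (Set.range (MvPolynomial.X : σ → MvPolynomial σ B)) := by
    apply le_antisymm
    · rw [← KaehlerDifferential.span_range_eq_ideal, Ideal.map_span, Ideal.span_le]
      rintro _ ⟨_, ⟨s, rfl⟩, rfl⟩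
      rw [SetLike.mem_coe, hcc]
      change MvPolynomial.constantCoeff (φ _) = 0
      rw [map_sub, hφ1, hφ2]
      have hc : ((MvPolynomial.constantCoeff (R := B) (σ := σ)).comp
          ((MvPolynomial.aeval (fun i => MvPolynomial.C (MvPolynomial.X i : B) +
        (MvPolynomial.X i : MvPolynomial σ B)) : B →ₐ[A] MvPolynomial σ B) : B →+* MvPolynomial σ B)) = RingHom.id B := by
        apply MvPolynomial.ringHom_ext
        · intro a
          simp
          rfl
        · intro i
          simp
          rfl
      have := congrArg (fun f => f s) hc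
      simp only [RingHom.comp_apply, RingHom.id_apply] at this
      rw [map_sub]
      erw [this]
      simp
    · rw [Ideal.span_le]
      rintro _ ⟨i, rfl⟩
      have : (MvPolynomial.X i : MvPolynomial σ B) = E ((1 : B) ⊗ₜ[A] (MvPolynomial.X i : B) -
          (MvPolynomial.X i : B) ⊗ₜ[A] (1 : B)) := by
        rw [hE, map_sub, hφ1, hφ2]
        simp
      rw [this]
      exact Ideal.mem_map_of_mem _ (KaehlerDifferential.one_smul_sub_smul_one_mem_ideal A _)
  have hI' : Ideal.span (Set.range (MvPolynomial.X : σ → MvPolynomial σ B)) ^ (n + 1) =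
      ((KaehlerDifferential.ideal A B) ^ (n + 1)).map (E : (B ⊗[A] B) →+* MvPolynomial σ B) := by
    rw [Ideal.map_pow, hI]
  refine ⟨Ideal.quotientEquivAlg _ _ E hI', ?_⟩
  intro i
  change Ideal.quotientEquivAlg _ _ E hI' (Ideal.Quotient.mk _ ((1 : B) ⊗ₜ[A] (MvPolynomial.X i : B))) = _
  rw [Ideal.quotientEquivAlg_mk]
  congr 1
  rw [hE, hφ1]
  simp

end Groth.Agent.S3812
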