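import Groth.Statements.S3814
import Mathlib

set_option autoImplicit false
universe u
open scoped TensorProduct
open PP16

namespace Groth.Agent.S3814

/-- If B is an A-algebra of finite presentation, then for every n the B-module P^n_{B/A} of principal
parts of order n is of finite presentation. -/
theorem result (n : ℕ) (A B : Type u) [CommRing A] [CommRing B]
    [Algebra A B] [Algebra.FinitePresentation A B] :
    Module.FinitePresentation B (PP16.P n A B) := by
  classical
  have hfg : ((KaehlerDifferential.ideal A B) ^ (n + 1)).FG :=
    Ideal.FG.pow (KaehlerDifferential.ideal_fg A B)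
  have : Algebra.FinitePresentation B (B ⊗[A] B) := inferInstance
  have hfp : Algebra.FinitePresentation B (PP16.P n A B) :=
    Algebra.FinitePresentation.quotient hfg
  have : Algebra.FiniteType B (PP16.P n A B) := inferInstance
  -- integrality
  have hint : ∀ x : PP16.P n A B, IsIntegral B x := by
    intro x
    obtain ⟨y, rfl⟩ := Ideal.Quotient.mk_surjective x
    induction y using TensorProduct.induction_on with
    | zero => rw [map_zero]; exact isIntegral_zero
    | add x y hx hy => rw [map_add]; exact hx.add hy
    | tmul b c =>
      have h1 : (b ⊗ₜ[A] c : B ⊗[A] B) = (b ⊗ₜ[A] (1 : B)) * ((c ⊗ₜ[A] (1 : B)) +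
          ((1 : B) ⊗ₜ[A] c - c ⊗ₜ[A] (1 : B))) := by
        rw [add_sub_cancel, Algebra.TensorProduct.tmul_mul_tmul, mul_one, one_mul]
      rw [h1, map_mul, map_add]
      have hb : ∀ b' : B, IsIntegral B (Ideal.Quotient.mk ((KaehlerDifferential.ideal A B) ^ (n + 1))
          (b' ⊗ₜ[A] (1 : B))) := by
        intro b'
        exact isIntegral_algebraMap (x := b')
      refine (hb b).mul ((hb c).add ?_)
      apply IsIntegral.of_pow (n := n + 1) (Nat.succ_pos n)
      have : (Ideal.Quotient.mk ((KaehlerDifferential.ideal A B) ^ (n + 1))
          ((1 : B) ⊗ₜ[A] c - c ⊗ₜ[A] (1 : B))) ^ (n + 1) = 0 := by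
        rw [← map_pow, Ideal.Quotient.eq_zero_iff_mem]
        exact Ideal.pow_mem_pow (KaehlerDifferential.one_smul_sub_smul_one_mem_ideal A c) _
      rw [this]
      exact isIntegral_zero
  have : Algebra.IsIntegral B (PP16.P n A B) := ⟨hint⟩
  have : Module.Finite B (PP16.P n A B) := Algebra.IsIntegral.finite
  exact Module.FinitePresentation.of_finite_of_finitePresentation B (PP16.P n A B)

end Groth.Agent.S3814
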