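import Groth.Statements.S3818
import Groth.Agent.Lib.helper2.DiffBasis

set_option autoImplicit false
universe u
open scoped TensorProduct
open scoped BigOperators
open PP16

namespace Groth.Agent.S3818

/-- Last assertion (affine form, finite family): let B be an A-algebra, z_1, …, z_r elements of B whose
differentials generate the module of differentials, and (D_p) a family of differential operators B →
B (each of some finite order) with D_p(z^q) = (∏ binom(q_i, p_i)) z^(q-p). Then D_p has order at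
most |p|, and every differential operator B → B of order at most m relative to A can be written in
exactly one way as a B-linear combination ∑_{|p| ≤ m} a_p D_p. -/
theorem result (A B : Type u) [CommRing A] [CommRing B] [Algebra A B]
    (ι : Type) [Fintype ι] [DecidableEq ι] (z : ι → B)
    (hz : Submodule.span B (Set.range fun i => KaehlerDifferential.D A B (z i)) = ⊤)
    (Dp : (ι → ℕ) → (B →ₗ[A] B)) (hD : ∀ p, ∃ k : ℕ, Diff16.IsDiffOpLE A B B B k (Dp p))
    (hDz : ∀ p q : ι → ℕ, Dp p (∏ i, z i ^ q i) =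
        ((∏ i, Nat.choose (q i) (p i) : ℕ) : B) * ∏ i, z i ^ (q i - p i)) :
    (∀ p, Diff16.IsDiffOpLE A B B B (∑ i, p i) (Dp p)) ∧
      ∀ (m : ℕ) (D : B →ₗ[A] B), Diff16.IsDiffOpLE A B B B m D →
        ∃! a : {p : ι → ℕ // ∑ i, p i ≤ m} →₀ B, D = a.sum fun p c => c • Dp p.1 := by
  classical
  have hDz' : ∀ p q : ι → ℕ, Dp p (∏ i, z i ^ q i) = Groth.Agent.Lib.helper2.h2G z p q := hDz
  have hord : ∀ p, Diff16.IsDiffOpLE A B B B (∑ i, p i) (Dp p) := fun p =>
    Groth.Agent.Lib.helper2.h2_Dp_order z hz Dp hD hDz' _ p rfl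
  refine ⟨hord, ?_⟩
  intro m D hDm
  have hmem : ∀ x : ι → ℕ, x ∈ Groth.Agent.Lib.helper2.h2F ι (m + 1) ↔ ∑ i, x i ≤ m := by
    intro x
    rw [Groth.Agent.Lib.helper2.h2_mem_F, Nat.lt_succ_iff]
  letI : Fintype {p : ι → ℕ // ∑ i, p i ≤ m} :=
    Fintype.subtype (Groth.Agent.Lib.helper2.h2F ι (m + 1)) hmem
  have hsum : ∀ a : {p : ι → ℕ // ∑ i, p i ≤ m} →₀ B,
      (a.sum fun p c => c • Dp p.1) = ∑ t : {p : ι → ℕ // ∑ i, p i ≤ m}, a t • Dp t.1 := by
    intro a
    apply Finsupp.sum_fintype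
    intro i
    simp
  obtain ⟨a, ha⟩ := Groth.Agent.Lib.helper2.h2_exists_coeffs z hz Dp hD hDz' m D hDm
  refine ⟨Finsupp.equivFunOnFinite.symm (fun t : {p : ι → ℕ // ∑ i, p i ≤ m} => a t.1), ?_, ?_⟩
  · show D = _
    rw [hsum, ha]
    rw [Finset.sum_subtype (Groth.Agent.Lib.helper2.h2F ι (m + 1)) hmem]
    apply Finset.sum_congr rfl
    intro t _
    simp
  · intro a' ha'
    have ha'' : D = _ := ha'
    rw [hsum] at ha''
    let d : (ι → ℕ) → B := fun p => if h : ∑ i, p i ≤ m then a' ⟨p, h⟩ - a p else 0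
    have hd : ∑ p ∈ Groth.Agent.Lib.helper2.h2F ι (m + 1), d p • Dp p = 0 := by
      rw [Finset.sum_subtype (Groth.Agent.Lib.helper2.h2F ι (m + 1)) hmem]
      have : ∀ t : {p : ι → ℕ // ∑ i, p i ≤ m}, d t.1 • Dp t.1 = a' t • Dp t.1 - a t.1 • Dp t.1 := by
        intro t
        simp only [d]
        rw [dif_pos t.2]
        ext x
        simp only [LinearMap.smul_apply, LinearMap.sub_apply, smul_eq_mul, sub_mul]
      rw [Finset.sum_congr rfl (fun t _ => this t), Finset.sum_sub_distrib, ← ha'', ha,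
        Finset.sum_subtype (Groth.Agent.Lib.helper2.h2F ι (m + 1)) hmem, sub_self]
    have hzero := Groth.Agent.Lib.helper2.h2_coeffs_unique z Dp hDz' _ d hd
    ext t
    have := hzero t.1 ((hmem t.1).mpr t.2)
    simp only [d] at this
    rw [dif_pos t.2, sub_eq_zero] at this
    rw [this]
    simp

end Groth.Agent.S3818
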