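import Groth.Statements.S3825
import Mathlib
import Groth.Agent.Lib.helper2.QReg

set_option autoImplicit false
universe u
open QReg16

namespace Groth.Agent.S3825

/-- a) iff c) (affine local form): let A be a local ring and I a proper ideal generated by some
quasi-regular sequence. For a finite family (f_i) of elements of I, the following are equivalent:
(a) (f_i) is a quasi-regular sequence generating I; (c) the classes of the f_i form a basis of the
A/I-module I/I² (equivalently, b): (f_i) is a minimal system of generators of I). -/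
theorem result {A : Type u} [CommRing A] [IsLocalRing A]
    (I : Ideal A) (hI : I ≤ IsLocalRing.maximalIdeal A)
    (hq : ∃ (r : ℕ) (g : Fin r → A), CAlgX.IsQuasiRegular g ∧ Ideal.span (Set.range g) = I)
    {m : ℕ} (f : Fin m → I) :
    (CAlgX.IsQuasiRegular (fun i => (f i : A)) ∧ Ideal.span (Set.range fun i => (f i : A)) = I) ↔
      (LinearIndependent (A ⧸ I) (fun i => I.toCotangent (f i)) ∧
        Submodule.span (A ⧸ I) (Set.range fun i => I.toCotangent (f i)) = ⊤) := by
  classical
  obtain ⟨r, g, hg, hgI⟩ := hq
  have hIne : I ≠ ⊤ := fun h0 =>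
    (IsLocalRing.maximalIdeal.isMaximal A).ne_top (top_le_iff.mp (h0 ▸ hI))
  have hnt : Nontrivial (A ⧸ I) := Ideal.Quotient.nontrivial_iff.mpr hIne
  have hsm : ∀ (a : A) (x : I.Cotangent), (Ideal.Quotient.mk I a) • x = a • x := fun a x =>
    algebraMap_smul (A ⧸ I) a x
  have fwd : ∀ {m : ℕ} (f : Fin m → I), CAlgX.IsQuasiRegular (fun i => (f i : A)) →
      Ideal.span (Set.range fun i => (f i : A)) = I →
      (LinearIndependent (A ⧸ I) (fun i => I.toCotangent (f i)) ∧
        Submodule.span (A ⧸ I) (Set.range fun i => I.toCotangent (f i)) = ⊤) := by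
    intro m f hf hfI
    constructor
    · rw [Fintype.linearIndependent_iff]
      intro c hc i
      choose c' hc' using fun i => Ideal.Quotient.mk_surjective (c i)
      have h1 : I.toCotangent (∑ i, c' i • f i) = 0 := by
        rw [map_sum, ← hc]
        refine Finset.sum_congr rfl fun i _ => ?_
        rw [map_smul, ← hc' i, hsm]
      rw [Ideal.toCotangent_eq_zero] at h1
      let L : MvPolynomial (Fin m) A := ∑ i, MvPolynomial.C (c' i) * MvPolynomial.X i
      have hL : L.IsHomogeneous 1 :=
        MvPolynomial.IsHomogeneous.sum _ _ _ (fun j _ => MvPolynomial.isHomogeneous_C_mul_X _ _)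
      have hev : MvPolynomial.eval (fun i => (f i : A)) L = ((∑ i, c' i • f i : I) : A) := by
        simp only [L, map_sum, map_mul, MvPolynomial.eval_C, MvPolynomial.eval_X,
          Submodule.coe_sum, Submodule.coe_smul, smul_eq_mul]
      have h2 := hf 1 L hL (by rw [hev, hfI]; exact h1) (Finsupp.single i 1)
      have hcoef : L.coeff (Finsupp.single i 1) = c' i := by
        simp only [L, MvPolynomial.coeff_sum, MvPolynomial.coeff_C_mul, MvPolynomial.coeff_X,
          Finsupp.single_left_inj one_ne_zero, mul_ite, mul_one, mul_zero, Finset.sum_ite_eq',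
          Finset.mem_univ, if_true]
      rw [hcoef, hfI] at h2
      rw [← hc' i]; exact Ideal.Quotient.eq_zero_iff_mem.mpr h2
    · rw [eq_top_iff]
      rintro x -
      obtain ⟨y, rfl⟩ := Ideal.toCotangent_surjective I x
      have hy : (y : A) ∈ Ideal.span (Set.range fun i => (f i : A)) := by rw [hfI]; exact y.2
      obtain ⟨c, hc⟩ := Ideal.mem_span_range_iff_exists_fun.mp hy
      have hy' : y = ∑ i, c i • f i := by
        apply Subtype.ext
        rw [← hc]
        simp only [Submodule.coe_sum, Submodule.coe_smul, smul_eq_mul]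
      rw [hy', map_sum]
      refine Submodule.sum_mem _ fun i _ => ?_
      rw [map_smul, ← hsm]
      exact Submodule.smul_mem _ _ (Submodule.subset_span ⟨i, rfl⟩)
  constructor
  · rintro ⟨h1, h2⟩
    exact fwd f h1 h2
  · rintro ⟨hli, hsp⟩
    -- `g` as a family in `I`
    let g' : Fin r → I := fun i => ⟨g i, by rw [← hgI]; exact Ideal.subset_span ⟨i, rfl⟩⟩
    obtain ⟨hli', hsp'⟩ := fwd g' hg hgI
    have hmr : m = r := by
      have e1 := Module.finrank_eq_card_basis (Module.Basis.mk hli hsp.ge)
      have e2 := Module.finrank_eq_card_basis (Module.Basis.mk hli' hsp'.ge)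
      rw [Fintype.card_fin] at e1 e2
      rw [← e1, ← e2]
    subst hmr
    have hfI : Ideal.span (Set.range fun i => (f i : A)) = I := by
      apply le_antisymm
      · rw [Ideal.span_le]; rintro _ ⟨i, rfl⟩; exact (f i).2
      · have hIfg : (I : Submodule A A).FG := by
          rw [← hgI]; exact ⟨(Finset.univ.image g), by simp⟩
        refine Submodule.le_of_le_smul_of_le_jacobson_bot (I := I) hIfg ?_ ?_
        · rw [IsLocalRing.jacobson_eq_maximalIdeal ⊥ bot_ne_top]; exact hI
        · intro x hx
          have hx' : I.toCotangent ⟨x, hx⟩ ∈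
              Submodule.span (A ⧸ I) (Set.range fun i => I.toCotangent (f i)) := by
            rw [hsp]; trivial
          obtain ⟨c, hc⟩ := (Submodule.mem_span_range_iff_exists_fun _).mp hx'
          choose c' hc' using fun i => Ideal.Quotient.mk_surjective (c i)
          have h3 : I.toCotangent (⟨x, hx⟩ - ∑ i, c' i • f i) = 0 := by
            rw [map_sub, map_sum, ← hc, sub_eq_zero]
            refine Finset.sum_congr rfl fun i _ => ?_
            rw [map_smul, ← hc' i, hsm]
          rw [Ideal.toCotangent_eq_zero] at h3
          have h4 : x = ((∑ i, c' i • f i : I) : A) + (x - ((∑ i, c' i • f i : I) : A)) := by ring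
          rw [h4]
          refine Submodule.add_mem_sup ?_ ?_
          · simp only [Submodule.coe_sum, Submodule.coe_smul, smul_eq_mul]
            exact Ideal.sum_mem _ fun i _ =>
              Ideal.mul_mem_left _ _ (Ideal.subset_span ⟨i, rfl⟩)
          · have h5 : (I • (I : Submodule A A)) = I ^ 2 := by
              rw [smul_eq_mul, pow_two]
            rw [h5]
            simpa using h3
    refine ⟨h2_qreg_of_span_eq g (fun i => (f i : A)) hg (hfI.trans hgI.symm), hfI⟩

end Groth.Agent.S3825
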