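import Groth.Statements.S3828
import Mathlib
import Groth.Agent.Lib.helper2.QReg3

set_option autoImplicit false
universe u
open QReg16

namespace Groth.Agent.S3828

/-- Let A be a Noetherian ring, J an ideal of A, and f_1, …, f_r elements of A forming a weakly regular
sequence on A/J (each f_i a nonzerodivisor on A/(J + (f_1, …, f_{i−1}))) and generating an ideal R
contained in the Jacobson radical of A; put Q = J + R. Then J ∩ Rⁿ = J·Rⁿ for every n > 0, and J ∩
Q² = J·Q (equivalently, the canonical map J/JQ → Q/Q² is injective). -/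
theorem result {A : Type u} [CommRing A] [IsNoetherianRing A] (J : Ideal A)
    {r : ℕ} (f : Fin r → A) (hf : RingTheory.Sequence.IsWeaklyRegular (A ⧸ J) (List.ofFn f))
    (hrad : Ideal.span (Set.range f) ≤ (⊥ : Ideal A).jacobson) :
    (∀ n : ℕ, 0 < n → J ⊓ Ideal.span (Set.range f) ^ n = J * Ideal.span (Set.range f) ^ n) ∧
      J ⊓ (J ⊔ Ideal.span (Set.range f)) ^ 2 = J * (J ⊔ Ideal.span (Set.range f)) := by
  set Rf := Ideal.span (Set.range f) with hRf
  have part1 : ∀ n : ℕ, 0 < n → J ⊓ Rf ^ n = J * Rf ^ n := by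
    intro n _
    apply le_antisymm
    · intro x hx
      -- work in the finite module `A ⧸ (J * Rf ^ n)`
      have hkrull := Ideal.iInf_pow_smul_eq_bot_of_le_jacobson (R := A)
        (M := A ⧸ (J * Rf ^ n)) Rf hrad
      have hmem : (Ideal.Quotient.mk (J * Rf ^ n) x) ∈
          (⨅ i : ℕ, Rf ^ i • ⊤ : Submodule A (A ⧸ (J * Rf ^ n))) := by
        rw [Submodule.mem_iInf]
        intro N
        have h1 : x ∈ J * Rf ^ n ⊔ J ⊓ Rf ^ (max n N) :=
          h2_inf_pow_le J f hf n (max n N) (le_max_left _ _) hx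
        obtain ⟨y, hy, z, hz, rfl⟩ := Submodule.mem_sup.mp h1
        have hz' : z ∈ Rf ^ N := Ideal.pow_le_pow_right (le_max_right n N) hz.2
        have h2 : Ideal.Quotient.mk (J * Rf ^ n) (y + z) =
            z • (Ideal.Quotient.mk (J * Rf ^ n) 1) := by
          rw [map_add, Ideal.Quotient.eq_zero_iff_mem.mpr hy, zero_add, Algebra.smul_def,
            map_one, mul_one]
          rfl
        rw [h2]
        exact Submodule.smul_mem_smul hz' trivial
      rw [hkrull, Submodule.mem_bot] at hmem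
      exact Ideal.Quotient.eq_zero_iff_mem.mp hmem
    · exact le_inf Ideal.mul_le_left Ideal.mul_le_right
  refine ⟨part1, ?_⟩
  apply le_antisymm
  · intro x hx
    obtain ⟨hxJ, hxQ⟩ := hx
    have hQ2 : (J ⊔ Rf) ^ 2 = J * (J ⊔ Rf) ⊔ Rf ^ 2 := by
      rw [pow_two, pow_two, Ideal.sup_mul, Ideal.mul_sup, Ideal.mul_sup]
      apply le_antisymm
      · refine sup_le le_sup_left (sup_le ?_ le_sup_right)
        rw [mul_comm]
        exact le_sup_of_le_left le_sup_right
      · exact sup_le le_sup_left (le_sup_of_le_right le_sup_right)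
    rw [hQ2] at hxQ
    obtain ⟨y, hy, z, hz, rfl⟩ := Submodule.mem_sup.mp hxQ
    have hyJ : y ∈ J := Ideal.mul_le_left hy
    have hzJ : z ∈ J := by
      have h3 := J.sub_mem hxJ hyJ
      rwa [add_sub_cancel_left] at h3
    have hz2 : z ∈ J * Rf ^ 2 := by
      rw [← part1 2 (by norm_num)]
      exact Submodule.mem_inf.mpr ⟨hzJ, hz⟩
    have hz3 : z ∈ J * (J ⊔ Rf) :=
      Ideal.mul_mono_right ((Ideal.pow_le_self (by norm_num)).trans le_sup_right) hz2
    exact Ideal.add_mem _ hy hz3
  · refine le_inf Ideal.mul_le_left ?_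
    rw [pow_two]
    exact Ideal.mul_mono_left le_sup_left

end Groth.Agent.S3828
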