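import Groth.Statements.S3830
import Mathlib

set_option autoImplicit false
universe u
open Unram17

namespace Groth.Agent.S3830

/-- b) implies a) (affine pointwise form): let B be an A-algebra of finite presentation and q a prime of
B. If B is smooth over A at q and quasi-finite over A at q, then B is étale over A at q. -/
theorem result (A B : Type u) [CommRing A] [CommRing B] [Algebra A B]
    [Algebra.FinitePresentation A B] (q : Ideal B) [q.IsPrime] [Algebra.QuasiFiniteAt A q]
    (h : Algebra.IsSmoothAt A q) : Algebra.IsEtaleAt A q := by
  classical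
  haveI := h
  obtain ⟨f, hfq, n, alg, htower, hstd⟩ :=
    Algebra.IsSmoothAt.exists_isStandardEtale_mvPolynomial (R := A) (p := q)
  haveI : Algebra.Etale (MvPolynomial (Fin n) A) (Localization.Away f) := inferInstance
  cases n with
  | zero =>
    haveI : Algebra.Etale A (MvPolynomial (Fin 0) A) :=
      Algebra.Etale.of_equiv (MvPolynomial.isEmptyAlgEquiv A (Fin 0)).symm
    haveI : Algebra.Etale A (Localization.Away f) :=
      Algebra.Etale.comp A (MvPolynomial (Fin 0) A) _
    have hsub := (Algebra.basicOpen_subset_etaleLocus_iff (R := A) (A := B) (f := f)).mpr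
      inferInstance
    exact hsub (show (⟨q, inferInstance⟩ : PrimeSpectrum B) ∈ PrimeSpectrum.basicOpen f from hfq)
  | succ m =>
    exfalso
    have hdisj : Disjoint (Submonoid.powers f : Set B) (q : Set B) :=
      (Ideal.disjoint_powers_iff_notMem_of_isPrime f).mpr hfq
    haveI hq'prime : (q.map (algebraMap B (Localization.Away f))).IsPrime :=
      IsLocalization.isPrime_of_isPrime_disjoint (.powers f) _ _ ‹_› hdisj
    haveI : (q.map (algebraMap B (Localization.Away f))).LiesOver q :=
      ⟨(IsLocalization.under_map_of_isPrime_disjoint (.powers f) (Localization.Away f)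
        ‹q.IsPrime› hdisj).symm⟩
    haveI hQF : Algebra.QuasiFiniteAt A (q.map (algebraMap B (Localization.Away f))) :=
      Algebra.QuasiFiniteAt.of_surjectiveOnStalks_of_liesOver q
        (RingHom.surjectiveOnStalks_of_isLocalization (.powers f) (Localization.Away f)) _
    generalize hq' : q.map (algebraMap B (Localization.Away f)) = q' at hq'prime hQF
    -- the polynomial in `X 0`
    let f0 : Polynomial A →ₐ[A] Localization.Away f :=
      Polynomial.aeval (algebraMap (MvPolynomial (Fin (m + 1)) A) (Localization.Away f)
        (MvPolynomial.X 0))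
    have hlt := Polynomial.map_under_lt_comap_of_quasiFiniteAt f0 q'
    obtain ⟨g, hg1, hg2⟩ := SetLike.exists_of_lt hlt
    -- the two primes of the polynomial ring
    have h𝔭1 : ((q'.under A).map
        (MvPolynomial.C : A →+* MvPolynomial (Fin (m + 1)) A)).IsPrime := by
      have h0 := MvPolynomial.ker_map (σ := Fin (m + 1)) (Ideal.Quotient.mk (q'.under A))
      rw [Ideal.mk_ker] at h0
      rw [← h0]
      exact RingHom.ker_isPrime _
    have hunder2 : (q'.under (MvPolynomial (Fin (m + 1)) A)).under A = q'.under A :=
      Ideal.under_under _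
    have h12 : (q'.under A).map (MvPolynomial.C : A →+* MvPolynomial (Fin (m + 1)) A) ≤
        q'.under (MvPolynomial (Fin (m + 1)) A) := by
      rw [Ideal.map_le_iff_le_comap]
      intro x hx
      rw [← hunder2] at hx
      exact hx
    have hne : (q'.under A).map (MvPolynomial.C : A →+* MvPolynomial (Fin (m + 1)) A) ≠
        q'.under (MvPolynomial (Fin (m + 1)) A) := by
      intro heq
      have hmem : Polynomial.aeval (MvPolynomial.X 0 : MvPolynomial (Fin (m + 1)) A) g ∈
          q'.under (MvPolynomial (Fin (m + 1)) A) := by
        rw [Ideal.mem_under, ← Polynomial.aeval_algebraMap_apply]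
        exact hg1
      rw [← heq] at hmem
      let r : MvPolynomial (Fin (m + 1)) A →ₐ[A] Polynomial A :=
        MvPolynomial.aeval (fun i => if i = 0 then Polynomial.X else 0)
      have h1 := Ideal.mem_map_of_mem (r : MvPolynomial (Fin (m + 1)) A →+* Polynomial A) hmem
      rw [Ideal.map_map] at h1
      have h2 : (r : MvPolynomial (Fin (m + 1)) A →+* Polynomial A).comp MvPolynomial.C =
          Polynomial.C := by
        ext a
        simp [r]
      rw [h2] at h1
      have h3 : (r : MvPolynomial (Fin (m + 1)) A →+* Polynomial A)
          (Polynomial.aeval (MvPolynomial.X 0 : MvPolynomial (Fin (m + 1)) A) g) = g := by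
        change r (Polynomial.aeval (MvPolynomial.X 0 : MvPolynomial (Fin (m + 1)) A) g) = g
        rw [← Polynomial.aeval_algHom_apply]
        simp [r]
      rw [h3] at h1
      exact hg2 h1
    -- going down
    haveI : Module.Flat (MvPolynomial (Fin (m + 1)) A) (Localization.Away f) := inferInstance
    obtain ⟨Q, hQle, hQprime, hQover⟩ :=
      Ideal.exists_ideal_le_liesOver_of_le
        (p := (q'.under A).map (MvPolynomial.C : A →+* MvPolynomial (Fin (m + 1)) A))
        (q := q'.under (MvPolynomial (Fin (m + 1)) A)) q' h12
    have hQP : Q.under (MvPolynomial (Fin (m + 1)) A) =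
        (q'.under A).map (MvPolynomial.C : A →+* MvPolynomial (Fin (m + 1)) A) :=
      (Q.over_def _).symm
    have hQA : Q.under A = q'.under A := by
      rw [← Ideal.under_under (B := MvPolynomial (Fin (m + 1)) A) Q, hQP]
      apply le_antisymm
      · exact (Ideal.comap_mono h12).trans hunder2.le
      · exact Ideal.le_comap_map
    have hQq : Q = q' := Algebra.QuasiFiniteAt.eq_of_le_of_under_eq hQle hQA
    apply hne
    rw [← hQP, hQq]

end Groth.Agent.S3830
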