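import Groth.Statements.S3833
import Mathlib

set_option autoImplicit false
universe u
open CategoryTheory CategoryTheory.Limits AlgebraicGeometry TopologicalSpace
open Rat20

namespace Groth.Agent.S3833

/-- Stated for a global section, the case of a section over an open subset U being the same statement
for the open subscheme U: let X be a scheme and s a global section of O_X which is regular in the
sense that its germ at every point x is a non-zero-divisor of the local ring O_{X,x} (on an affine
scheme this is the same as being a non-zero-divisor of Γ(X, O_X), but not in general). Then the open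
subset X_s where s is invertible is schematically dense in X. -/
theorem result (X : Scheme.{u}) (s : Γ(X, ⊤))
    (hs : ∀ x : ↥X, (X.presheaf.germ ⊤ x trivial s) ∈ nonZeroDivisors ↑(X.presheaf.stalk x)) :
    CInt.IsSchematicallyDense (X.basicOpen s) := by
  intro V
  rw [injective_iff_map_eq_zero]
  intro a ha
  refine TopCat.Presheaf.section_ext X.sheaf V a 0 fun x hx => ?_
  rw [map_zero]
  obtain ⟨W, hW, hxW, hWV⟩ : ∃ W : X.Opens, IsAffineOpen W ∧ x ∈ W ∧ W ≤ V := by
    obtain ⟨_, ⟨W, hW, rfl⟩, hxW, hWV⟩ :=
      X.isBasis_affineOpens.exists_subset_of_mem_open hx V.2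
    exact ⟨W, hW, hxW, hWV⟩
  have hbo : X.basicOpen (X.presheaf.map (homOfLE (le_top : W ≤ ⊤)).op s) = W ⊓ X.basicOpen s :=
    Scheme.basicOpen_res _ _ _
  have hle : X.basicOpen (X.presheaf.map (homOfLE (le_top : W ≤ ⊤)).op s) ≤ V ⊓ X.basicOpen s := by
    rw [hbo]
    exact inf_le_inf_right _ hWV
  have hzero : X.presheaf.map (homOfLE (X.basicOpen_le
      (X.presheaf.map (homOfLE (le_top : W ≤ ⊤)).op s))).op
      (X.presheaf.map (homOfLE hWV).op a) = 0 := by
    have e : X.presheaf.map ((homOfLE hWV).op ≫ (homOfLE (X.basicOpen_le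
        (X.presheaf.map (homOfLE (le_top : W ≤ ⊤)).op s))).op) =
        X.presheaf.map ((homOfLE (inf_le_left : V ⊓ X.basicOpen s ≤ V)).op ≫
          (homOfLE hle).op) := congrArg _ (Subsingleton.elim _ _)
    rw [Functor.map_comp, Functor.map_comp] at e
    have e' := congr($e a)
    rw [CommRingCat.comp_apply, CommRingCat.comp_apply, ha, map_zero] at e'
    exact e'
  haveI := hW.isLocalization_basicOpen (X.presheaf.map (homOfLE (le_top : W ≤ ⊤)).op s)
  have halg : algebraMap Γ(X, W)
      Γ(X, X.basicOpen (X.presheaf.map (homOfLE (le_top : W ≤ ⊤)).op s))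
      (X.presheaf.map (homOfLE hWV).op a) = 0 := hzero
  obtain ⟨⟨_, n, rfl⟩, hn⟩ := (IsLocalization.map_eq_zero_iff
    (Submonoid.powers (X.presheaf.map (homOfLE (le_top : W ≤ ⊤)).op s)) _ _).mp halg
  have hg : X.presheaf.germ W x hxW
      ((X.presheaf.map (homOfLE (le_top : W ≤ ⊤)).op s) ^ n *
        X.presheaf.map (homOfLE hWV).op a) = 0 := by
    rw [hn, map_zero]
  rw [map_mul, map_pow] at hg
  have e1 : X.presheaf.germ W x hxW (X.presheaf.map (homOfLE (le_top : W ≤ ⊤)).op s)
      = X.presheaf.germ ⊤ x trivial s :=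
    TopCat.Presheaf.germ_res_apply X.presheaf (homOfLE le_top) x hxW s
  have e2 : X.presheaf.germ W x hxW (X.presheaf.map (homOfLE hWV).op a)
      = X.presheaf.germ V x hx a :=
    TopCat.Presheaf.germ_res_apply X.presheaf (homOfLE hWV) x hxW a
  rw [e1, e2] at hg
  exact (mem_nonZeroDivisors_iff_left.mp (pow_mem (hs x) n)) _ hg

end Groth.Agent.S3833
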