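import Groth.Statements.S3842
import Mathlib

set_option autoImplicit false
universe u
open CategoryTheory CategoryTheory.Limits AlgebraicGeometry TopologicalSpace
open Rat20

namespace Groth.Agent.S3842

/-- For the open subset U = X; the general case is the same statement over the open subscheme U: let f :
X' → X be a morphism of schemes with X' reduced, suppose the irreducible components of X form a
locally finite family and that every irreducible component of X' dominates an irreducible component
of X (the closure of its image is an irreducible component of X). Then for every schematically dense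
open subset V of X, the preimage f⁻¹(V) is schematically dense in X'. -/
theorem result {X X' : Scheme.{u}} (f : X' ⟶ X) [IsReduced X']
    (hfin : ∀ x : ↥X, ∃ W : X.Opens, x ∈ W ∧ {Z ∈ irreducibleComponents ↥X | (Z ∩ (W : Set ↥X)).Nonempty}.Finite)
    (hdom : ∀ Z' ∈ irreducibleComponents ↥X', closure (f '' Z') ∈ irreducibleComponents ↥X)
    (V : X.Opens) (hV : CInt.IsSchematicallyDense V) : CInt.IsSchematicallyDense (f ⁻¹ᵁ V) := by
  classical
  have hC : ∀ (U' : X'.Opens), Dense (U' : Set X') → CInt.IsSchematicallyDense U' := by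
    intro U' hU' V'
    refine (injective_iff_map_eq_zero _).mpr ?_
    intro s hs
    have h1 : X'.basicOpen (X'.presheaf.map (homOfLE (inf_le_left : V' ⊓ U' ≤ V')).op s) =
        (V' ⊓ U') ⊓ X'.basicOpen s := Scheme.basicOpen_res _ _ _
    have hs' : X'.presheaf.map (homOfLE (inf_le_left : V' ⊓ U' ≤ V')).op s = 0 := hs
    rw [hs', Scheme.basicOpen_zero] at h1
    have h2 : X'.basicOpen s = ⊥ := by
      by_contra hne
      obtain ⟨y, hy⟩ := (TopologicalSpace.Opens.ne_bot_iff_nonempty _).mp hne
      obtain ⟨z, hz1, hz2⟩ := hU'.inter_open_nonempty _ (X'.basicOpen s).2 ⟨y, hy⟩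
      have hz : z ∈ ((V' ⊓ U') ⊓ X'.basicOpen s : X'.Opens) :=
        TopologicalSpace.Opens.mem_inf.mpr
          ⟨TopologicalSpace.Opens.mem_inf.mpr ⟨X'.basicOpen_le s hz1, hz2⟩, hz1⟩
      rw [← h1] at hz
      exact TopologicalSpace.Opens.mem_bot.mp hz
    simpa using h2
  have hA : Dense (V : Set X) := by
    rw [dense_iff_inter_open]
    intro W hW hWne
    by_contra hcon
    let W' : X.Opens := ⟨W, hW⟩
    have hbot : W' ⊓ V = ⊥ :=
      TopologicalSpace.Opens.ext (Set.not_nonempty_iff_eq_empty.mp hcon)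
    have hinj := hV W'
    haveI : Subsingleton Γ(X, W' ⊓ V) := by rw [hbot]; infer_instance
    have h10 : (1 : Γ(X, W')) = 0 := hinj (Subsingleton.elim _ _)
    have e1 : X.basicOpen (1 : Γ(X, W')) = W' := Scheme.basicOpen_of_isUnit _ isUnit_one
    rw [h10, Scheme.basicOpen_zero] at e1
    obtain ⟨w, hw⟩ := hWne
    have hw' : w ∈ W' := hw
    rw [← e1] at hw'
    exact TopologicalSpace.Opens.mem_bot.mp hw'
  have hB : Dense ((f ⁻¹ᵁ V : X'.Opens) : Set X') := by
    rw [dense_iff_inter_open]
    rintro W' hW' ⟨y', hy'⟩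
    obtain ⟨ξ', hξ'⟩ := QuasiSober.sober (isIrreducible_irreducibleComponent (x := y'))
      (isClosed_irreducibleComponent (x := y'))
    have hξW : ξ' ∈ W' := (hξ'.mem_open_set_iff hW').mpr ⟨y', mem_irreducibleComponent, hy'⟩
    have hζ : IsGenericPoint (f ξ') (closure (f '' irreducibleComponent y')) :=
      hξ'.image f.continuous
    have hZ₀ : closure (f '' irreducibleComponent y') ∈ irreducibleComponents ↥X :=
      hdom _ (irreducibleComponent_mem_irreducibleComponents y')
    set Z₀ := closure (f '' irreducibleComponent y') with hZ₀def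
    obtain ⟨W, hζW, hfinW⟩ := hfin (f ξ')
    set 𝒮 : Set (Set ↥X) := {Z ∈ irreducibleComponents ↥X | (Z ∩ (W : Set ↥X)).Nonempty} with h𝒮
    have hT : IsClosed (⋃ Z ∈ 𝒮 \ {Z₀}, Z) :=
      Set.Finite.isClosed_biUnion (hfinW.subset Set.diff_subset)
        (fun Z hZ => isClosed_of_mem_irreducibleComponents Z hZ.1.1)
    have hζT : f ξ' ∉ ⋃ Z ∈ 𝒮 \ {Z₀}, Z := by
      intro hmem
      obtain ⟨Z, hZ, hζZ⟩ := Set.mem_iUnion₂.mp hmem
      apply hZ.2
      have hcl : IsClosed Z := isClosed_of_mem_irreducibleComponents Z hZ.1.1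
      have hle : Z₀ ≤ Z := by
        rw [← hζ.def]
        exact hcl.closure_subset_iff.mpr (Set.singleton_subset_iff.mpr hζZ)
      exact (hZ₀.eq_of_le hZ.1.1.1 hle).symm
    obtain ⟨y, ⟨hyW, hyT⟩, hyV⟩ := hA.inter_open_nonempty ((W : Set ↥X) ∩ (⋃ Z ∈ 𝒮 \ {Z₀}, Z)ᶜ)
      (W.2.inter hT.isOpen_compl) ⟨f ξ', hζW, hζT⟩
    have hyZ₀ : y ∈ Z₀ := by
      by_contra hne
      apply hyT
      refine Set.mem_iUnion₂.mpr ⟨irreducibleComponent y, ⟨⟨irreducibleComponent_mem_irreducibleComponents y,
        ⟨y, mem_irreducibleComponent, hyW⟩⟩, ?_⟩, mem_irreducibleComponent⟩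
      intro heq
      apply hne
      have : irreducibleComponent y = Z₀ := heq
      rw [← this]
      exact mem_irreducibleComponent
    have hζV : f ξ' ∈ V := (hζ.mem_open_set_iff V.2).mpr ⟨y, hyZ₀, hyV⟩
    exact ⟨ξ', hξW, hζV⟩
  exact hC _ hB

end Groth.Agent.S3842
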