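import Groth.Statements.S3859
import Mathlib

set_option autoImplicit false
universe u
open FCompl

namespace Groth.Agent.S3859

open AlgebraicGeometry in
open CategoryTheory in
/-- In the presentation by systems of thickenings: For morphisms of systems X -> S and Y -> S, the
levelwise fibre product with its two projections is a fibre product in the category of systems; it
presents the fibre product of formal schemes when one factor is adic over the base, and otherwise
only up to cofinality of the levels. -/
theorem result {𝔛 𝔜 𝔖 : FSch.Sys.{u}} (f : 𝔛 ⟶ 𝔖) (g : 𝔜 ⟶ 𝔖) :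
    IsPullback (FSch.pullbackFst f g) (FSch.pullbackSnd f g) f g := by
  open CategoryTheory.Limits in
  have eq : FSch.pullbackFst f g ≫ f = FSch.pullbackSnd f g ≫ g := by
    apply FSch.Hom.ext
    funext n
    exact pullback.condition
  have hc : ∀ (s : PullbackCone f g) (n : ℕ),
      (s.fst : FSch.Hom _ _).app n ≫ (f : FSch.Hom _ _).app n =
        (s.snd : FSch.Hom _ _).app n ≫ (g : FSch.Hom _ _).app n := by
    intro s n
    exact congrArg (fun (φ : FSch.Hom _ _) => φ.app n) s.condition
  let lift : ∀ s : PullbackCone f g, s.pt ⟶ FSch.pullbackSys f g := fun s =>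
    ⟨fun n => pullback.lift ((s.fst : FSch.Hom _ _).app n) ((s.snd : FSch.Hom _ _).app n)
        (hc s n), fun n => by
      apply pullback.hom_ext
      · have h1 := (s.fst : FSch.Hom _ _).comm n
        simp only [FSch.pullbackSys, Category.assoc, pullback.lift_fst, pullback.lift_fst_assoc]
        exact h1
      · have h1 := (s.snd : FSch.Hom _ _).comm n
        simp only [FSch.pullbackSys, Category.assoc, pullback.lift_snd, pullback.lift_snd_assoc]
        exact h1⟩
  have hlim : IsLimit (PullbackCone.mk (FSch.pullbackFst f g) (FSch.pullbackSnd f g) eq) := by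
    refine PullbackCone.IsLimit.mk eq lift ?_ ?_ ?_
    · intro s
      apply FSch.Hom.ext
      funext n
      exact pullback.lift_fst _ _ _
    · intro s
      apply FSch.Hom.ext
      funext n
      exact pullback.lift_snd _ _ _
    · intro s m hm1 hm2
      apply FSch.Hom.ext
      funext n
      apply pullback.hom_ext
      · have h1 := congrArg (fun (φ : FSch.Hom _ _) => φ.app n) hm1
        have h2 : (lift s : FSch.Hom _ _).app n ≫ pullback.fst _ _ = (s.fst : FSch.Hom _ _).app n :=
          pullback.lift_fst _ _ _
        exact h1.trans h2.symm
      · have h1 := congrArg (fun (φ : FSch.Hom _ _) => φ.app n) hm2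
        have h2 : (lift s : FSch.Hom _ _).app n ≫ pullback.snd _ _ = (s.snd : FSch.Hom _ _).app n :=
          pullback.lift_snd _ _ _
        exact h1.trans h2.symm
  exact IsPullback.of_isLimit hlim

end Groth.Agent.S3859
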