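import Groth.Statements.S3860
import Mathlib

set_option autoImplicit false
universe u
open FCompl

namespace Groth.Agent.S3860

open AlgebraicGeometry in
/-- (Affine adic case; the formal spectra presented as the systems Spec(A/I^(n+1)) and Spec(B/K^(n+1)).)
Let I be an ideal of a ring A which is complete and separated for the I-adic topology, and K an
ideal of a ring B. Then φ ↦ (Spec of the induced maps B/K^(n+1) -> A/I^(n+1)) is a bijection from
the ring homomorphisms φ : B -> A with φ(K) ⊆ I onto the morphisms of systems from Spf(A) to Spf(B),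
i.e. the compatible families of morphisms Spec(A/I^(n+1)) -> Spec(B/K^(n+1)). -/
theorem result (A B : Type u) [CommRing A] [CommRing B] (I : Ideal A) (K : Ideal B)
    [IsAdicComplete I A] :
    Function.Bijective (fun φ : {φ : B →+* A // K ≤ I.comap φ} ↦ FSch.spfMap I K φ.1 φ.2) := by
  open CategoryTheory in
  constructor
  · rintro ⟨φ, hφ⟩ ⟨ψ, hψ⟩ heq
    apply Subtype.ext
    change FSch.spfMap I K φ hφ = FSch.spfMap I K ψ hψ at heq
    have h1 : ∀ n, FSch.quotPowMap I K φ hφ n = FSch.quotPowMap I K ψ hψ n := by
      intro n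
      have h2 : (FSch.spfMap I K φ hφ : FSch.Hom _ _).app n =
          (FSch.spfMap I K ψ hψ : FSch.Hom _ _).app n := by rw [heq]
      rw [FSch.spfMap_app, FSch.spfMap_app] at h2
      have h3 := Spec.map_injective h2
      exact congrArg CommRingCat.Hom.hom h3
    apply RingHom.ext
    intro b
    change φ b = ψ b
    have h4 : ∀ n, φ b - ψ b ∈ I ^ (n + 1) := by
      intro n
      have h5 := congrArg (fun g => g (Ideal.Quotient.mk _ b)) (h1 n)
      simp only [FSch.quotPowMap, Ideal.quotientMap_mk] at h5
      exact (Ideal.Quotient.eq).mp h5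
    have h6 : φ b - ψ b = 0 := by
      apply IsHausdorff.haus (inferInstance : IsHausdorff I A)
      intro n
      rw [SModEq.zero, smul_eq_mul, Ideal.mul_top]
      exact Ideal.pow_le_pow_right (Nat.le_succ n) (h4 n)
    exact sub_eq_zero.mp h6
  · intro F
    let g : ∀ n, B ⧸ K ^ (n + 1) →+* A ⧸ I ^ (n + 1) := fun n =>
      (Spec.preimage ((F : FSch.Hom _ _).app n)).hom
    have hg : ∀ n, Spec.map (CommRingCat.ofHom (g n)) = (F : FSch.Hom _ _).app n := by
      intro n
      exact Spec.map_preimage _
    have hcomm : ∀ n, (g n).comp (Ideal.Quotient.factor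
          (Ideal.pow_le_pow_right (Nat.le_succ (n + 1)))) =
        (Ideal.Quotient.factor (Ideal.pow_le_pow_right (Nat.le_succ (n + 1)))).comp
          (g (n + 1)) := by
      intro n
      have h1 := (F : FSch.Hom _ _).comm n
      rw [← hg n, ← hg (n + 1)] at h1
      change Spec.map _ ≫ Spec.map _ = Spec.map _ ≫ Spec.map _ at h1
      rw [← Spec.map_comp, ← Spec.map_comp] at h1
      have h2 := Spec.map_injective h1
      have h3 := congrArg CommRingCat.Hom.hom h2
      exact h3
    have ha : StrictMono (fun n : ℕ => n + 1) := fun a b h => Nat.succ_lt_succ h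
    let f : ∀ n, B →+* A ⧸ I ^ (n + 1) := fun n => (g n).comp (Ideal.Quotient.mk (K ^ (n + 1)))
    have hf : ∀ {m : ℕ}, (Ideal.Quotient.factorPow I (ha.monotone m.le_succ)).comp (f (m + 1)) =
        f m := by
      intro m
      change (Ideal.Quotient.factor _).comp ((g (m + 1)).comp _) = (g m).comp _
      rw [← RingHom.comp_assoc]
      have := hcomm m
      rw [← this, RingHom.comp_assoc]
      congr 1
    let φ : B →+* A := IsAdicComplete.StrictMono.liftRingHom I ha f hf
    have hφmk : ∀ n b, Ideal.Quotient.mk (I ^ (n + 1)) (φ b) = g n (Ideal.Quotient.mk _ b) := by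
      intro n b
      exact IsAdicComplete.StrictMono.mk_liftRingHom I ha f hf b
    have hφ : K ≤ I.comap φ := by
      intro b hb
      rw [Ideal.mem_comap]
      have h1 := hφmk 0 b
      have h2 : Ideal.Quotient.mk (K ^ (0 + 1)) b = 0 := by
        rw [Ideal.Quotient.eq_zero_iff_mem]
        simpa using hb
      rw [h2, map_zero, Ideal.Quotient.eq_zero_iff_mem] at h1
      simpa using h1
    refine ⟨⟨φ, hφ⟩, ?_⟩
    change FSch.spfMap I K φ hφ = F
    apply FSch.Hom.ext
    funext n
    change Spec.map (CommRingCat.ofHom (FSch.quotPowMap I K φ hφ n)) = _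
    rw [← hg n]
    congr 2
    apply Ideal.Quotient.ringHom_ext
    apply RingHom.ext
    intro b
    change Ideal.quotientMap (I ^ (n + 1)) φ (FSch.pow_le_comap_pow I K φ hφ (n + 1))
      (Ideal.Quotient.mk (K ^ (n + 1)) b) = g n (Ideal.Quotient.mk (K ^ (n + 1)) b)
    rw [Ideal.quotientMap_mk, hφmk]

end Groth.Agent.S3860
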