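import Groth.Statements.S3867
import Mathlib

set_option autoImplicit false
universe u
open FCompl

namespace Groth.Agent.S3867

open AlgebraicGeometry in
/-- Formal spectra are presented as the systems Spec(A/I^(n+1)) and Spec(B/K^(n+1)), a morphism of
systems being adic when all its squares are cartesian. Let A be a Noetherian ring, complete and
separated for the I-adic topology of an ideal I, K an ideal of a ring B and φ : B → A a ring
homomorphism with φ(K) ⊆ I. Then the induced morphism Spf(A) → Spf(B) is adic if and only if the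
ideal of A generated by φ(K) is I. -/
theorem result (A B : Type u) [CommRing A] [CommRing B] [IsNoetherianRing A]
    (I : Ideal A) (K : Ideal B) [IsAdicComplete I A] (φ : B →+* A) (h : K ≤ I.comap φ) :
    FSch.IsAdicHom (FSch.spfMap I K φ h) ↔ K.map φ = I := by
  open CategoryTheory CategoryTheory.Limits in
  constructor
  · intro hadic
    have hsq := hadic 0
    let L : Ideal A := I ^ 2 ⊔ K.map φ
    have hL2 : I ^ (0 + 2) ≤ L := le_sup_left
    let a : (A ⧸ I ^ (0 + 2)) →+* A ⧸ L := Ideal.Quotient.factor hL2
    have hKL : K ^ (0 + 1) ≤ L.comap φ := by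
      intro x hx
      have hx' : x ∈ K := by simpa using hx
      rw [Ideal.mem_comap]
      exact Ideal.mem_sup_right (Ideal.mem_map_of_mem φ hx')
    let β : (B ⧸ K ^ (0 + 1)) →+* A ⧸ L := Ideal.quotientMap L φ hKL
    have hcond : Spec.map (CommRingCat.ofHom a) ≫
        (FSch.spfMap I K φ h : FSch.Hom _ _).app (0 + 1) =
        Spec.map (CommRingCat.ofHom β) ≫ (FSch.spf B K).ι 0 := by
      rw [FSch.spfMap_app]
      change Spec.map _ ≫ Spec.map _ = Spec.map _ ≫ Spec.map _
      rw [← Spec.map_comp, ← Spec.map_comp, ← CommRingCat.ofHom_comp, ← CommRingCat.ofHom_comp]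
      congr 2
      apply Ideal.Quotient.ringHom_ext
      ext b
      rfl
    let l := hsq.lift (Spec.map (CommRingCat.ofHom a)) (Spec.map (CommRingCat.ofHom β)) hcond
    have hl : l ≫ (FSch.spf A I).ι 0 = Spec.map (CommRingCat.ofHom a) := hsq.lift_fst _ _ _
    let lam : (A ⧸ I ^ (0 + 1)) →+* A ⧸ L := (Spec.preimage l).hom
    have hlam : lam.comp (Ideal.Quotient.factor
        (Ideal.pow_le_pow_right (Nat.le_succ (0 + 1)))) = a := by
      have h1 : Spec.map (CommRingCat.ofHom lam) = l := Spec.map_preimage l
      rw [← h1] at hl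
      change Spec.map _ ≫ Spec.map _ = _ at hl
      rw [← Spec.map_comp] at hl
      have h2 := Spec.map_injective hl
      exact congrArg CommRingCat.Hom.hom h2
    have hIL : I ≤ L := by
      intro x hx
      have h1 : a (Ideal.Quotient.mk _ x) = 0 := by
        rw [← hlam]
        change lam (Ideal.Quotient.mk (I ^ (0 + 1)) x) = 0
        rw [Ideal.Quotient.eq_zero_iff_mem.mpr (by simpa using hx), map_zero]
      change Ideal.Quotient.mk L x = 0 at h1
      exact Ideal.Quotient.eq_zero_iff_mem.mp h1
    have hfg : I.FG := IsNoetherian.noetherian I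
    have hjac : I ≤ Ideal.jacobson ⊥ := IsAdicComplete.le_jacobson_bot I
    have hle : I ≤ K.map φ := by
      apply Submodule.le_of_le_smul_of_le_jacobson_bot hfg hjac
      rw [smul_eq_mul, ← sq, sup_comm]
      exact hIL
    exact le_antisymm (Ideal.map_le_iff_le_comap.mpr h) hle
  · intro hKI n
    let fA : A ⧸ I ^ (n + 2) →+* A ⧸ I ^ (n + 1) :=
      Ideal.Quotient.factor (Ideal.pow_le_pow_right (Nat.le_succ (n + 1)))
    let fB : B ⧸ K ^ (n + 2) →+* B ⧸ K ^ (n + 1) :=
      Ideal.Quotient.factor (Ideal.pow_le_pow_right (Nat.le_succ (n + 1)))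
    let q0 : B ⧸ K ^ (n + 1) →+* A ⧸ I ^ (n + 1) := FSch.quotPowMap I K φ h n
    let q1 : B ⧸ K ^ (n + 2) →+* A ⧸ I ^ (n + 2) := FSch.quotPowMap I K φ h (n + 1)
    have hw : fA.comp q1 = q0.comp fB := by
      apply Ideal.Quotient.ringHom_ext
      ext b
      rfl
    have hker : ∀ (T : Type u) [CommRing T] (α : A ⧸ I ^ (n + 2) →+* T)
        (β : B ⧸ K ^ (n + 1) →+* T), α.comp q1 = β.comp fB →
        ∀ x ∈ I ^ (n + 1), α (Ideal.Quotient.mk _ x) = 0 := by
      intro T _ α β hαβ x hx
      rw [← hKI, ← Ideal.map_pow] at hx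
      have hle : (K ^ (n + 1)).map φ ≤
          RingHom.ker (α.comp (Ideal.Quotient.mk (I ^ (n + 2)))) := by
        rw [Ideal.map_le_iff_le_comap]
        intro b hb
        rw [Ideal.mem_comap, RingHom.mem_ker]
        have h1 := congrArg (fun g => g (Ideal.Quotient.mk _ b)) hαβ
        have h2 : α (Ideal.Quotient.mk _ (φ b)) = β (Ideal.Quotient.mk _ b) := h1
        change α (Ideal.Quotient.mk _ (φ b)) = 0
        rw [h2, Ideal.Quotient.eq_zero_iff_mem.mpr hb, map_zero]
      exact hle hx
    have hpo : IsPushout (CommRingCat.ofHom q1) (CommRingCat.ofHom fB)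
        (CommRingCat.ofHom fA) (CommRingCat.ofHom q0) := by
      have eq : CommRingCat.ofHom q1 ≫ CommRingCat.ofHom fA =
          CommRingCat.ofHom fB ≫ CommRingCat.ofHom q0 := by
        rw [← CommRingCat.ofHom_comp, ← CommRingCat.ofHom_comp, hw]
      have hcomp : ∀ s : PushoutCocone (CommRingCat.ofHom q1) (CommRingCat.ofHom fB),
          s.inl.hom.comp q1 = s.inr.hom.comp fB := by
        intro s
        exact congrArg CommRingCat.Hom.hom s.condition
      let desc : ∀ s : PushoutCocone (CommRingCat.ofHom q1) (CommRingCat.ofHom fB),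
          CommRingCat.of (A ⧸ I ^ (n + 1)) ⟶ s.pt := fun s =>
        CommRingCat.ofHom (Ideal.Quotient.lift (I ^ (n + 1))
          (s.inl.hom.comp (Ideal.Quotient.mk (I ^ (n + 2))))
          (fun x hx => hker s.pt s.inl.hom s.inr.hom (hcomp s) x hx))
      have hcolim : IsColimit (PushoutCocone.mk (CommRingCat.ofHom fA)
          (CommRingCat.ofHom q0) eq) := by
        refine PushoutCocone.IsColimit.mk eq desc ?_ ?_ ?_
        · intro s
          apply CommRingCat.hom_ext
          apply Ideal.Quotient.ringHom_ext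
          ext x
          rfl
        · intro s
          apply CommRingCat.hom_ext
          apply Ideal.Quotient.ringHom_ext
          ext b
          exact congrArg (fun g => g (Ideal.Quotient.mk _ b)) (hcomp s)
        · intro s m hm1 hm2
          apply CommRingCat.hom_ext
          apply Ideal.Quotient.ringHom_ext
          ext x
          exact congrArg (fun g => g.hom (Ideal.Quotient.mk _ x)) hm1
      exact IsPushout.of_isColimit hcolim
    exact isPullback_SpecMap_of_isPushout _ _ _ _ hpo

end Groth.Agent.S3867
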