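import Groth.Statements.S3874
import Mathlib

set_option autoImplicit false
universe u
open FCompl

namespace Groth.Agent.S3874

/-- Let A be a Noetherian ring, J an ideal, f ∈ A and n ≥ 0, and let A_{f} be the completion of the
localization A_f for the topology defined by the extension of J. There is a ring isomorphism from
the localization of A/J^(n+1) away from the class of f onto A_{f} modulo the (n+1)-st power of the
extension of J to A_{f}, compatible with the canonical maps from A (and hence unique). In terms of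
formal spectra: the open D(f) of Spf(A) is Spf(A_{f}), and at level n its ring is the ring
(A/J^(n+1))_f of the open D(f) of Spec(A/J^(n+1)). -/
theorem result (A : Type u) [CommRing A] [IsNoetherianRing A] (J : Ideal A)
    (f : A) (n : ℕ) :
    ∃ e : Localization.Away (Ideal.Quotient.mk (J ^ (n + 1)) f) ≃+*
        FSch.cAway A J f ⧸ (J.map (algebraMap A (FSch.cAway A J f))) ^ (n + 1),
      ∀ a : A, e (algebraMap (A ⧸ J ^ (n + 1)) _ (Ideal.Quotient.mk (J ^ (n + 1)) a)) =
        Ideal.Quotient.mk _ (algebraMap A (FSch.cAway A J f) a) := by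
  classical
  let R := Localization.Away f
  let Jf : Ideal R := J.map (algebraMap A R)
  let C := AdicCompletion Jf R
  have hfg : Jf.FG := Ideal.FG.map (IsNoetherian.noetherian J) _
  let ι : R →+* C := algebraMap R C
  have hι : ∀ b, ι b = AdicCompletion.of Jf R b := fun b => rfl
  have hpow : ∀ m, (Jf.map ι) ^ m = (Jf ^ m).map ι := fun m => (Ideal.map_pow ι Jf m).symm
  have K2 : ∀ m (z : C), z ∈ (Jf.map ι) ^ m → AdicCompletion.evalₐ Jf m z = 0 := by
    intro m z hz
    rw [hpow] at hz
    have hle : (Jf ^ m).map ι ≤ RingHom.ker (AdicCompletion.evalₐ Jf m).toRingHom := by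
      rw [Ideal.map_le_iff_le_comap]
      intro b hb
      rw [Ideal.mem_comap, RingHom.mem_ker]
      change AdicCompletion.evalₐ Jf m (AdicCompletion.of Jf R b) = 0
      rw [AdicCompletion.evalₐ_of, Ideal.Quotient.eq_zero_iff_mem]
      exact hb
    exact hle hz
  have K1 : ∀ m (z : C), AdicCompletion.evalₐ Jf m z = 0 → z ∈ (Jf.map ι) ^ m := by
    intro m z hz
    have h1 : AdicCompletion.eval Jf R m z = 0 := by
      have hle : Jf ^ m ≤ (Jf ^ m • ⊤ : Ideal R) := by
        rw [smul_eq_mul, Ideal.mul_top]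
      rw [← AdicCompletion.factor_evalₐ_eq_eval Jf z hle, hz, map_zero]
    have h2 : z ∈ (Jf ^ m • ⊤ : Submodule R C) := by
      rw [AdicCompletion.pow_smul_top_eq_ker_eval hfg]; exact h1
    rw [Ideal.smul_top_eq_map] at h2
    rw [hpow]
    exact h2
  have hJC : J.map (algebraMap A C) = Jf.map ι := by
    change _ = (J.map (algebraMap A R)).map ι
    rw [Ideal.map_map]
    rfl
  let ev : C →+* R ⧸ Jf ^ (n + 1) := (AdicCompletion.evalₐ Jf (n + 1)).toRingHom
  have hev : Function.Surjective ev := AdicCompletion.surjective_evalₐ Jf (n + 1)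
  have hker : (J.map (algebraMap A C)) ^ (n + 1) = RingHom.ker ev := by
    rw [hJC]
    ext z
    rw [RingHom.mem_ker]
    exact ⟨K2 _ z, K1 _ z⟩
  let e4 : (C ⧸ (J.map (algebraMap A C)) ^ (n + 1)) ≃+* C ⧸ RingHom.ker ev :=
    Ideal.quotEquivOfEq hker
  let e3 : (C ⧸ RingHom.ker ev) ≃+* R ⧸ Jf ^ (n + 1) :=
    RingHom.quotientKerEquivOfSurjective hev
  have hJf : (J ^ (n + 1)).map (algebraMap A R) = Jf ^ (n + 1) := Ideal.map_pow _ _ _
  let e2 : (R ⧸ (J ^ (n + 1)).map (algebraMap A R)) ≃+* R ⧸ Jf ^ (n + 1) :=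
    Ideal.quotEquivOfEq hJf
  have hloc : IsLocalization (Algebra.algebraMapSubmonoid (A ⧸ J ^ (n + 1)) (Submonoid.powers f))
      (R ⧸ (J ^ (n + 1)).map (algebraMap A R)) := inferInstance
  have hsub : Algebra.algebraMapSubmonoid (A ⧸ J ^ (n + 1)) (Submonoid.powers f) =
      Submonoid.powers (Ideal.Quotient.mk (J ^ (n + 1)) f) := by
    change Submonoid.map _ _ = _
    rw [Submonoid.map_powers]
    rfl
  rw [hsub] at hloc
  let e1 : Localization.Away (Ideal.Quotient.mk (J ^ (n + 1)) f) ≃ₐ[A ⧸ J ^ (n + 1)]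
      (R ⧸ (J ^ (n + 1)).map (algebraMap A R)) :=
    IsLocalization.algEquiv (Submonoid.powers (Ideal.Quotient.mk (J ^ (n + 1)) f)) _ _
  let g : (C ⧸ (J.map (algebraMap A C)) ^ (n + 1)) ≃+*
      Localization.Away (Ideal.Quotient.mk (J ^ (n + 1)) f) :=
    e4.trans (e3.trans (e2.symm.trans e1.symm.toRingEquiv))
  refine ⟨g.symm, ?_⟩
  intro a
  rw [RingEquiv.symm_apply_eq]
  change _ = e1.symm (e2.symm (e3 (e4 (Ideal.Quotient.mk _ (algebraMap A C a)))))
  have h4 : e4 (Ideal.Quotient.mk _ (algebraMap A C a)) = Ideal.Quotient.mk _ (algebraMap A C a) :=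
    Ideal.quotEquivOfEq_mk hker _
  have h3 : e3 (Ideal.Quotient.mk _ (algebraMap A C a)) =
      Ideal.Quotient.mk _ (algebraMap A R a) := by
    change ev (algebraMap A C a) = _
    change AdicCompletion.evalₐ Jf (n + 1) (AdicCompletion.of Jf R (algebraMap A R a)) = _
    rw [AdicCompletion.evalₐ_of]
  have h2 : e2.symm (Ideal.Quotient.mk _ (algebraMap A R a)) =
      Ideal.Quotient.mk _ (algebraMap A R a) := by
    rw [RingEquiv.symm_apply_eq]
    exact (Ideal.quotEquivOfEq_mk hJf _).symm
  have h1 : (Ideal.Quotient.mk ((J ^ (n + 1)).map (algebraMap A R)) (algebraMap A R a)) =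
      algebraMap (A ⧸ J ^ (n + 1)) _ (Ideal.Quotient.mk (J ^ (n + 1)) a) := rfl
  rw [h4, h3, h2, h1, AlgEquiv.commutes]

end Groth.Agent.S3874
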