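import Groth.Statements.S3894
import Mathlib

set_option autoImplicit false
universe u
open CategoryTheory CategoryTheory.Limits Opposite
open Tors

namespace Groth.Agent.S3894

/-- A torsor P under an abelian sheaf G is trivial, i.e. equivariantly isomorphic to G acting on itself
by translations, if and only if P has a global section (a morphism from the final sheaf of sets). -/
theorem result {C : Type u} [SmallCategory C] {J : GrothendieckTopology C}
    {G : Sheaf J AddCommGrpCat.{u}} (T : Tors.Torsor G) : T.IsTrivial ↔ T.HasSection := by
  open CategoryTheory CategoryTheory.Limits Opposite in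
  constructor
  · rintro ⟨e, he⟩
    refine ⟨ObjectProperty.homMk
      { app := fun U => ↾(fun _ => e.hom.hom.app U (0 : G.obj.obj U))
        naturality := ?_ }⟩
    intro U V f
    ext x
    have h1 := congrArg (fun m => m (0 : G.obj.obj U)) (e.hom.hom.naturality f)
    change e.hom.hom.app V (G.obj.map f (0 : G.obj.obj U)) =
      T.P.obj.map f (e.hom.hom.app U (0 : G.obj.obj U)) at h1
    change e.hom.hom.app V (0 : G.obj.obj V) = T.P.obj.map f (e.hom.hom.app U (0 : G.obj.obj U))
    rw [← h1, map_zero]
  · rintro ⟨σ⟩
    let FG := (sheafCompose J (forget AddCommGrpCat.{u})).obj G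
    let t : ∀ U : Cᵒᵖ, (⊤_ (Sheaf J (Type u))).obj.obj U := fun U =>
      (terminal.from FG).hom.app U (0 : G.obj.obj U)
    let p : ∀ U : Cᵒᵖ, T.P.obj.obj U := fun U => σ.hom.app U (t U)
    have ht : ∀ {U V : Cᵒᵖ} (f : U ⟶ V), (⊤_ (Sheaf J (Type u))).obj.map f (t U) = t V := by
      intro U V f
      have h1 := congrArg (fun m => m (0 : G.obj.obj U)) ((terminal.from FG).hom.naturality f)
      change (terminal.from FG).hom.app V (G.obj.map f (0 : G.obj.obj U)) =
        (⊤_ (Sheaf J (Type u))).obj.map f (t U) at h1
      rw [← h1, map_zero]
    have hp : ∀ {U V : Cᵒᵖ} (f : U ⟶ V), T.P.obj.map f (p U) = p V := by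
      intro U V f
      have h1 := congrArg (fun m => m (t U)) (σ.hom.naturality f)
      change σ.hom.app V ((⊤_ (Sheaf J (Type u))).obj.map f (t U)) = T.P.obj.map f (p U) at h1
      rw [← h1, ht f]
    have key : ∀ {U V : Cᵒᵖ} (f : U ⟶ V) (g : G.obj.obj U),
        T.P.obj.map f (T.vadd g (p U)) = T.vadd (G.obj.map f g) (p V) := fun f g => by
      rw [T.map_vadd, hp f]
    have key2 : ∀ {U V : Cᵒᵖ} (f : U ⟶ V) (q : T.P.obj.obj U),
        (Classical.choose (T.free_transitive (p V) (T.P.obj.map f q)) : G.obj.obj V) =
          G.obj.map f (Classical.choose (T.free_transitive (p U) q) : G.obj.obj U) := by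
      intro U V f q
      have h1 := (Classical.choose_spec (T.free_transitive (p U) q)).1
      have h2 := (Classical.choose_spec (T.free_transitive (p V) (T.P.obj.map f q))).2
      symm
      apply h2
      rw [← hp f, ← T.map_vadd, h1]
    let φ : FG ⟶ T.P := ObjectProperty.homMk
      { app := fun U => ↾(fun g : G.obj.obj U => T.vadd g (p U))
        naturality := by
          intro U V f
          ext g
          exact (key f g).symm }
    let ψ : T.P ⟶ FG := ObjectProperty.homMk
      { app := fun U => ↾(fun q : T.P.obj.obj U => (Classical.choose (T.free_transitive (p U) q) : G.obj.obj U))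
        naturality := by
          intro U V f
          ext q
          exact key2 f q }
    refine ⟨⟨φ, ψ, ?_, ?_⟩, ?_⟩
    · apply ObjectProperty.hom_ext
      ext U g
      change (Classical.choose (T.free_transitive (p U) (T.vadd g (p U))) : G.obj.obj U) = g
      have h2 := (Classical.choose_spec (T.free_transitive (p U) (T.vadd g (p U)))).2
      exact (h2 g rfl).symm
    · apply ObjectProperty.hom_ext
      ext U q
      change T.vadd (Classical.choose (T.free_transitive (p U) q) : G.obj.obj U) (p U) = q
      exact (Classical.choose_spec (T.free_transitive (p U) q)).1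
    · intro U g h
      change T.vadd (g + h) (p U) = T.vadd g (T.vadd h (p U))
      exact T.add_vadd g h (p U)

end Groth.Agent.S3894
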