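import Groth.Statements.S4183
import Mathlib
import Groth.Agent.Lib.helper2.AnPts

set_option autoImplicit false
open CategoryTheory AlgebraicGeometry Topology TopologicalSpace
open An

namespace Groth.Agent.S4183

/-- For affine n-space over ℂ, the map sending a ℂ-point to the values of the n coordinate functions is
a homeomorphism from its space of ℂ-points, with the complex topology of this problem, onto ℂ^n with
its usual topology. -/
theorem result (n : ℕ) :
    IsHomeomorph (fun (x : An.Pts (𝔸(Fin n; An.SC))) (i : Fin n) => x.evTop (AffineSpace.coord An.SC i)) := by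
  classical
  open CategoryTheory AlgebraicGeometry in
  have hsurj : Function.Surjective (MvPolynomial.eval₂Hom (An.strHom (𝔸(Fin n; An.SC)))
      (AffineSpace.coord An.SC)) := by
    have hiso : IsIso ((AffineSpace.isoOfIsAffine (Fin n) An.SC).hom.appTop) := by
      change IsIso ((AffineSpace.isoOfIsAffine (Fin n) An.SC).hom.app ⊤)
      infer_instance
    rw [AffineSpace.isoOfIsAffine_hom_appTop] at hiso
    have h2 : IsIso (CommRingCat.ofHom (MvPolynomial.eval₂Hom
        ((𝔸(Fin n; An.SC) ↘ An.SC).appTop).hom (AffineSpace.coord An.SC))) :=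
      IsIso.of_isIso_comp_left (Scheme.ΓSpecIso _).hom _
    have h3 : Function.Bijective (MvPolynomial.eval₂Hom
        ((𝔸(Fin n; An.SC) ↘ An.SC).appTop).hom (AffineSpace.coord An.SC)) :=
      ConcreteCategory.bijective_of_isIso (CommRingCat.ofHom (MvPolynomial.eval₂Hom
        ((𝔸(Fin n; An.SC) ↘ An.SC).appTop).hom (AffineSpace.coord An.SC)))
    have h4 : MvPolynomial.eval₂Hom (An.strHom (𝔸(Fin n; An.SC))) (AffineSpace.coord An.SC) =
        (MvPolynomial.eval₂Hom ((𝔸(Fin n; An.SC) ↘ An.SC).appTop).hom
          (AffineSpace.coord An.SC)).comp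
          (MvPolynomial.map (Scheme.ΓSpecIso (CommRingCat.of ℂ)).inv.hom) := by
      apply MvPolynomial.ringHom_ext
      · intro c
        simp [An.strHom]
      · intro i
        simp
    rw [h4]
    exact h3.2.comp (MvPolynomial.map_surjective _
      (Scheme.ΓSpecIso (CommRingCat.of ℂ)).symm.commRingCatIsoToRingEquiv.surjective)
  have hce := H2An.isClosedEmbedding_of_generators (X := 𝔸(Fin n; An.SC))
    (AffineSpace.coord An.SC) hsurj
  rw [isHomeomorph_iff_isEmbedding_surjective]
  refine ⟨hce.isEmbedding, ?_⟩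
  intro c
  let x : An.SC ⟶ 𝔸(Fin n; An.SC) := AffineSpace.homOfVector (𝟙 An.SC)
    (fun i => (Scheme.ΓSpecIso (CommRingCat.of ℂ)).inv (c i))
  let p : An.Pts (𝔸(Fin n; An.SC)) := ⟨x, AffineSpace.homOfVector_over _ _⟩
  refine ⟨p, ?_⟩
  funext i
  change p.evTop (AffineSpace.coord An.SC i) = c i
  rw [H2An.evTop_eq]
  change (Scheme.ΓSpecIso (CommRingCat.of ℂ)).hom (x.appTop (AffineSpace.coord An.SC i)) = c i
  rw [AffineSpace.homOfVector_appTop_coord]
  exact ConcreteCategory.congr_hom (Scheme.ΓSpecIso (CommRingCat.of ℂ)).inv_hom_id (c i)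

end Groth.Agent.S4183
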