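import Groth.Statements.S4185
import Mathlib
import Groth.Agent.Lib.helper2.AnPts

set_option autoImplicit false
open CategoryTheory AlgebraicGeometry Topology TopologicalSpace
open An

namespace Groth.Agent.S4185

/-- For X locally of finite type over ℂ the space X(ℂ) with its complex topology is locally compact. -/
theorem result (X : Scheme.{0}) [X.Over An.SC] [LocallyOfFiniteType (X ↘ An.SC)] :
    LocallyCompactSpace (An.Pts X) := by
  open CategoryTheory AlgebraicGeometry in
  refine ⟨fun x N hN => ?_⟩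
  obtain ⟨U, hU, hxU, -⟩ := exists_isAffineOpen_mem_and_subset (x := x.pt) (U := ⊤) trivial
  letI : (U : Scheme.{0}).Over An.SC := ⟨U.ι ≫ X ↘ An.SC⟩
  haveI : U.ι.IsOver An.SC := ⟨rfl⟩
  haveI : IsAffine (U : Scheme.{0}) := hU
  haveI : LocallyOfFiniteType ((U : Scheme.{0}) ↘ An.SC) :=
    inferInstanceAs (LocallyOfFiniteType (U.ι ≫ X ↘ An.SC))
  haveI : LocallyCompactSpace (An.Pts (U : Scheme.{0})) :=
    H2An.locallyCompactSpace_of_affine (X := (U : Scheme.{0}))
  have he := H2An.isOpenEmbedding_map_of_isOpenImmersion U.ι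
  have hx : x ∈ Set.range (An.Pts.map U.ι) := by
    rw [H2An.range_map_of_isOpenImmersion, Scheme.Opens.range_ι]
    exact hxU
  obtain ⟨y, rfl⟩ := hx
  have hN' : An.Pts.map U.ι ⁻¹' N ∈ nhds y := he.continuous.continuousAt hN
  obtain ⟨K, hK, hKN, hKc⟩ := LocallyCompactSpace.local_compact_nhds y _ hN'
  refine ⟨An.Pts.map U.ι '' K, he.isOpenMap.image_mem_nhds hK, ?_, hKc.image he.continuous⟩
  rintro _ ⟨k, hk, rfl⟩
  exact hKN hk

end Groth.Agent.S4185
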