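import Groth.Statements.S4186
import Mathlib
import Groth.Agent.Lib.helper2.AnPts

set_option autoImplicit false
open CategoryTheory AlgebraicGeometry Topology TopologicalSpace
open An

namespace Groth.Agent.S4186

/-- A scheme locally of finite type over ℂ is nonempty if and only if it has a ℂ-point. -/
theorem result (X : Scheme.{0}) [X.Over An.SC] [LocallyOfFiniteType (X ↘ An.SC)] :
    Nonempty ↥X ↔ Nonempty (An.Pts X) := by
  open CategoryTheory AlgebraicGeometry in
  constructor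
  · rintro ⟨x⟩
    obtain ⟨U, hU, hxU, -⟩ := exists_isAffineOpen_mem_and_subset (x := x) (U := ⊤) trivial
    letI : (U : Scheme.{0}).Over An.SC := ⟨U.ι ≫ X ↘ An.SC⟩
    haveI : U.ι.IsOver An.SC := ⟨rfl⟩
    haveI : IsAffine (U : Scheme.{0}) := hU
    haveI : LocallyOfFiniteType ((U : Scheme.{0}) ↘ An.SC) :=
      inferInstanceAs (LocallyOfFiniteType (U.ι ≫ X ↘ An.SC))
    haveI : Nonempty (U : Scheme.{0}) := ⟨⟨x, hxU⟩⟩
    obtain ⟨y⟩ := H2An.nonempty_pts_of_affine (X := (U : Scheme.{0}))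
    exact ⟨An.Pts.map U.ι y⟩
  · rintro ⟨x⟩
    exact ⟨x.pt⟩

end Groth.Agent.S4186
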