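import Groth.Statements.S4194
import Mathlib
import Groth.Agent.Lib.helper2.AnPts

set_option autoImplicit false
open CategoryTheory AlgebraicGeometry Topology TopologicalSpace
open An

namespace Groth.Agent.S4194

/-- A morphism f : X → Y of schemes locally of finite type over ℂ is injective (on underlying points) if
and only if the induced map X(ℂ) → Y(ℂ) is injective. -/
theorem result (X Y : Scheme.{0}) [X.Over An.SC] [LocallyOfFiniteType (X ↘ An.SC)]
    [Y.Over An.SC] [LocallyOfFiniteType (Y ↘ An.SC)] (f : X ⟶ Y) [f.IsOver An.SC] :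
    Function.Injective f.base ↔ Function.Injective (An.Pts.map f) := by
  open CategoryTheory CategoryTheory.Limits AlgebraicGeometry in
  constructor
  · intro hf x x' h
    apply H2An.pt_injective
    apply hf
    have := congrArg An.Pts.pt h
    rw [An.Pts.pt_map, An.Pts.pt_map] at this
    exact this
  · intro hf x₁ x₂ h12
    by_contra hne
    haveI : LocallyOfFiniteType f := by
      haveI : LocallyOfFiniteType (f ≫ Y ↘ An.SC) := by
        rw [comp_over f]; infer_instance
      exact locallyOfFiniteType_of_comp f (Y ↘ An.SC)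
    haveI : LocallyOfFiniteType ((pullback f f) ↘ An.SC) :=
      inferInstanceAs (LocallyOfFiniteType (pullback.fst f f ≫ X ↘ An.SC))
    haveI : JacobsonSpace ↥(pullback f f) := H2An.jacobsonSpace
    obtain ⟨z, hz1, hz2⟩ := Scheme.Pullback.exists_preimage_pullback (f := f) (g := f) x₁ x₂ h12
    have hzΔ : z ∉ Set.range (pullback.diagonal f) := by
      rintro ⟨x, rfl⟩
      apply hne
      rw [← hz1, ← hz2, ← Scheme.Hom.comp_apply, ← Scheme.Hom.comp_apply,
        pullback.diagonal_fst, pullback.diagonal_snd]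
    have hw : ∃ w ∈ closedPoints ↥(pullback f f), w ∉ Set.range (pullback.diagonal f) := by
      obtain ⟨U, C, hU, hC, hUC⟩ := (pullback.diagonal f).isLocallyClosed_range
      rw [hUC] at hzΔ ⊢
      by_cases hzU : z ∈ U
      · have hzC : z ∉ C := fun h => hzΔ ⟨hzU, h⟩
        obtain ⟨w, hwC, hwc⟩ := nonempty_inter_closedPoints (Z := Cᶜ) ⟨z, hzC⟩
          hC.isOpen_compl.isLocallyClosed
        exact ⟨w, hwc, fun h => hwC h.2⟩
      · obtain ⟨w, hwU, hwc⟩ := nonempty_inter_closedPoints (Z := Uᶜ) ⟨z, hzU⟩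
          hU.isClosed_compl.isLocallyClosed
        exact ⟨w, hwc, fun h => hwU h.1⟩
    obtain ⟨w, hwc, hwΔ⟩ := hw
    obtain ⟨ζ, hζ⟩ := H2An.exists_pt_eq w hwc
    have h1 := hf (An.Pts.map_pullback_condition f f ζ)
    have h2 : ζ.1 ≫ pullback.fst f f = ζ.1 ≫ pullback.snd f f := congrArg Subtype.val h1
    have h3 : ζ.1 = (ζ.1 ≫ pullback.fst f f) ≫ pullback.diagonal f := by
      apply pullback.hom_ext
      · rw [Category.assoc, pullback.diagonal_fst, Category.comp_id]
      · rw [Category.assoc, pullback.diagonal_snd, Category.comp_id, h2]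
    apply hwΔ
    refine ⟨(ζ.1 ≫ pullback.fst f f) An.cpt, ?_⟩
    rw [← Scheme.Hom.comp_apply, ← h3]
    exact hζ

end Groth.Agent.S4194
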