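import Groth.Statements.S4198
import Mathlib
import Groth.Agent.Lib.helper2.AnPts

set_option autoImplicit false
open CategoryTheory AlgebraicGeometry Topology TopologicalSpace
open An

namespace Groth.Agent.S4198

/-- Let f : X → Y be a morphism of finite type (here: quasi-compact, X and Y being locally of finite
type over ℂ). Then f is surjective if and only if the induced map on complex points X(ℂ) → Y(ℂ) is
surjective. (The finite-type hypothesis cannot be dropped.) -/
theorem result (X Y : Scheme.{0}) [X.Over An.SC] [LocallyOfFiniteType (X ↘ An.SC)]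
    [Y.Over An.SC] [LocallyOfFiniteType (Y ↘ An.SC)] (f : X ⟶ Y) [f.IsOver An.SC] [QuasiCompact f] :
    Function.Surjective f.base ↔ Function.Surjective (An.Pts.map f) := by
  open CategoryTheory AlgebraicGeometry in
  haveI : JacobsonSpace X := H2An.jacobsonSpace
  haveI : JacobsonSpace Y := H2An.jacobsonSpace
  constructor
  · intro hf y
    have hyc : IsClosed ({y.pt} : Set Y) := H2An.isClosed_pt y
    have hZc : IsClosed (f ⁻¹' {y.pt}) := hyc.preimage f.continuous
    obtain ⟨x₀, hx₀⟩ := hf y.pt
    obtain ⟨p, hpZ, hpc⟩ := nonempty_inter_closedPoints (Z := f ⁻¹' {y.pt}) ⟨x₀, hx₀⟩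
      hZc.isLocallyClosed
    obtain ⟨x, hx⟩ := H2An.exists_pt_eq p hpc
    refine ⟨x, H2An.pt_injective ?_⟩
    rw [An.Pts.pt_map, hx]
    exact hpZ
  · intro hf
    haveI : IsLocallyNoetherian Y := H2An.isLocallyNoetherian
    haveI : LocallyOfFiniteType f := by
      haveI : LocallyOfFiniteType (f ≫ Y ↘ An.SC) := by
        rw [comp_over f]; infer_instance
      exact locallyOfFiniteType_of_comp f (Y ↘ An.SC)
    have hc : IsLocallyConstructible (Set.range f) := by
      rw [← Set.image_univ]
      exact f.isLocallyConstructible_image IsLocallyConstructible.univ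
    by_contra hns
    rw [Function.Surjective] at hns
    push Not at hns
    obtain ⟨y, hy⟩ := hns
    obtain ⟨V, hV, hyV, -⟩ := exists_isAffineOpen_mem_and_subset (x := y) (U := ⊤) trivial
    haveI : IsAffine (V : Scheme.{0}) := hV
    have hVe : Topology.IsOpenEmbedding V.ι := V.ι.isOpenEmbedding
    haveI : JacobsonSpace (V : Scheme.{0}) := JacobsonSpace.of_isOpenEmbedding hVe
    have hT : IsLocallyConstructible (V.ι ⁻¹' (Set.range f)) :=
      Topology.IsLocallyConstructible.preimage_of_isOpenEmbedding hc hVe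
    have hT0 : IsConstructible (V.ι ⁻¹' (Set.range f)) :=
      Topology.IsLocallyConstructible.isConstructible hT
    have hT' : IsConstructible (V.ι ⁻¹' (Set.range f)ᶜ) := hT0.compl
    haveI : Nonempty (V : Scheme.{0}).affineOpens := ⟨⟨⊥, isAffineOpen_bot _⟩⟩
    have hbasis : TopologicalSpace.IsTopologicalBasis
        (Set.range (fun U : (V : Scheme.{0}).affineOpens => ((U : (V : Scheme.{0}).Opens) : Set (V : Scheme.{0})))) := by
      have := (V : Scheme.{0}).isBasis_affineOpens
      rw [TopologicalSpace.Opens.IsBasis, Set.image_eq_range] at this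
      exact this
    obtain ⟨p, hpT, hpc⟩ := H2An.nonempty_inter_closedPoints_of_isConstructible
      (T := (V : Scheme.{0})) (ι := (V : Scheme.{0}).affineOpens)
      (fun U => ((U : (V : Scheme.{0}).Opens) : Set (V : Scheme.{0}))) hbasis
      (fun U => U.2.isCompact) _ hT' ⟨⟨y, hyV⟩, fun ⟨x, hx⟩ => hy x hx⟩
    have hpY : V.ι p ∈ closedPoints Y := by
      have h1 := hVe.preimage_closedPoints
      have hp' : p ∈ V.ι ⁻¹' closedPoints Y := by
        rw [h1]; exact hpc
      exact hp'
    obtain ⟨y', hy'⟩ := H2An.exists_pt_eq (V.ι p) hpY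
    obtain ⟨x, rfl⟩ := hf y'
    rw [An.Pts.pt_map] at hy'
    exact hpT ⟨x.pt, hy'⟩

end Groth.Agent.S4198
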