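import Groth.Statements.S4201
import Mathlib
import Groth.Agent.Lib.helper2.AnPts

set_option autoImplicit false
open CategoryTheory AlgebraicGeometry Topology TopologicalSpace
open An

namespace Groth.Agent.S4201

/-- The direction from schemes to spaces: an immersion f : X → Y of schemes locally of finite type over
ℂ induces an embedding X(ℂ) → Y(ℂ) whose image is locally closed. -/
theorem result (X Y : Scheme.{0}) [X.Over An.SC] [LocallyOfFiniteType (X ↘ An.SC)]
    [Y.Over An.SC] [LocallyOfFiniteType (Y ↘ An.SC)] (f : X ⟶ Y) [f.IsOver An.SC] [IsImmersion f] :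
    Topology.IsEmbedding (An.Pts.map f) ∧ IsLocallyClosed (Set.range (An.Pts.map f)) := by
  open CategoryTheory AlgebraicGeometry in
  let W : Y.Opens := f.coborderRange
  letI : (W : Scheme.{0}).Over An.SC := ⟨W.ι ≫ Y ↘ An.SC⟩
  haveI : W.ι.IsOver An.SC := ⟨rfl⟩
  haveI : f.liftCoborder.IsOver An.SC := ⟨by
    change f.liftCoborder ≫ W.ι ≫ Y ↘ An.SC = X ↘ An.SC
    rw [← Category.assoc, f.liftCoborder_ι, comp_over f]⟩
  have h1 := H2An.isClosedEmbedding_map_of_isClosedImmersion f.liftCoborder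
  have h2 := H2An.isOpenEmbedding_map_of_isOpenImmersion W.ι
  have hcomp : An.Pts.map f = An.Pts.map W.ι ∘ An.Pts.map f.liftCoborder := by
    funext x
    apply Subtype.ext
    change x.1 ≫ f = (x.1 ≫ f.liftCoborder) ≫ W.ι
    rw [Category.assoc, f.liftCoborder_ι]
  rw [hcomp]
  refine ⟨h2.isEmbedding.comp h1.isEmbedding, ?_⟩
  rw [Set.range_comp]
  have hCc : IsClosed (Set.range (An.Pts.map f.liftCoborder)) := h1.isClosed_range
  refine ⟨Set.range (An.Pts.map W.ι),
    closure (An.Pts.map W.ι '' Set.range (An.Pts.map f.liftCoborder)),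
    h2.isOpen_range, isClosed_closure, ?_⟩
  apply Set.Subset.antisymm
  · rintro _ ⟨c, hc, rfl⟩
    exact ⟨⟨c, rfl⟩, subset_closure ⟨c, hc, rfl⟩⟩
  · rintro _ ⟨⟨y, rfl⟩, hy⟩
    have : y ∈ closure (Set.range (An.Pts.map f.liftCoborder)) := by
      rw [h2.isEmbedding.isInducing.closure_eq_preimage_closure_image]
      exact hy
    rw [hCc.closure_eq] at this
    exact ⟨y, this, rfl⟩

end Groth.Agent.S4201
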