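import Groth.Statements.S4211
import Mathlib

set_option autoImplicit false
universe u
open An

namespace Groth.Agent.S4211

/-- For a topological space T, the inclusion of the opens of T into the site of local homeomorphisms
over T is continuous. This is the hypothesis An.OpCont carried by statements that restrict classical
sheaves to opens. -/
theorem result (T : Type u) [TopologicalSpace T] :
    An.OpCont T := by
  open CategoryTheory TopologicalSpace Opposite in
  refine Functor.isContinuous_of_coverPreserving ?_ ?_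
  · constructor
    intro ℱ Z P x hx Y₁ Y₂ X f₁ f₂ g₁ g₂ hg₁ hg₂ hcomm
    have hmem : ∀ a : X.E, X.p a ∈ Y₁ ⊓ Y₂ := fun a =>
      ⟨by rw [← f₁.over a]; exact (f₁.toFun a).2, by rw [← f₂.over a]; exact (f₂.toFun a).2⟩
    let h : X ⟶ (An.opensToCl T).obj (Y₁ ⊓ Y₂) :=
      ⟨fun a => ⟨X.p a, hmem a⟩, X.lh.continuous.subtype_mk _, fun a => rfl⟩
    have h1 : f₁ = h ≫ (An.opensToCl T).map (homOfLE inf_le_left) := by
      apply An.Cl.hom_ext
      funext a
      apply Subtype.ext
      exact f₁.over a
    have h2 : f₂ = h ≫ (An.opensToCl T).map (homOfLE inf_le_right) := by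
      apply An.Cl.hom_ext
      funext a
      apply Subtype.ext
      exact f₂.over a
    have hc := hx (homOfLE (inf_le_left : Y₁ ⊓ Y₂ ≤ Y₁)) (homOfLE (inf_le_right : Y₁ ⊓ Y₂ ≤ Y₂))
      hg₁ hg₂ (Subsingleton.elim _ _)
    rw [h1, h2, op_comp, op_comp, Functor.map_comp, Functor.map_comp]
    simp only [types_comp_apply]
    exact congrArg _ hc
  · constructor
    intro U S hS a
    obtain ⟨V, f, hSf, haV⟩ := hS a.1 a.2
    refine ⟨(An.opensToCl T).obj V, (An.opensToCl T).map f,
      ⟨V, f, 𝟙 _, hSf, (Category.id_comp _).symm⟩, ?_, ⟨⟨a.1, haV⟩, rfl⟩⟩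
    exact TopologicalSpace.Opens.isOpenEmbedding_of_le f.le

end Groth.Agent.S4211
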