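import Groth.Statements.S4212
import Mathlib

set_option autoImplicit false
universe u
open An

namespace Groth.Agent.S4212

/-- For a topological space T, the topos of the site of local homeomorphisms over T is equivalent to
that of T: restriction of abelian sheaves along the inclusion of the opens of T is an equivalence of
categories. -/
theorem result (T : Type u) [TopologicalSpace T] [An.OpCont T] :
    (An.resOpens T).IsEquivalence := by
  open CategoryTheory TopologicalSpace Opposite in
  haveI hfull : (An.opensToCl T).Full := by
    constructor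
    intro U V f
    have hle : U ≤ V := by
      intro x hx
      let y : ↥V := f.toFun ⟨x, hx⟩
      have h2 : (y : T) = x := f.over ⟨x, hx⟩
      rw [← h2]
      exact y.2
    refine ⟨homOfLE hle, ?_⟩
    apply An.Cl.hom_ext
    funext a
    apply Subtype.ext
    exact (f.over a).symm
  haveI hfaith : (An.opensToCl T).Faithful := ⟨fun _ => Subsingleton.elim _ _⟩
  haveI hdense : (An.opensToCl T).IsCoverDense (An.Cl.topology T) := by
    constructor
    intro E e
    obtain ⟨φ, heφ, hφ⟩ := E.lh e
    let U : Opens T := ⟨φ.target, φ.open_target⟩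
    let g0 : φ.target → E.E := fun t => ((φ.toHomeomorphSourceTarget.symm t : φ.source) : E.E)
    have hg0c : Continuous g0 :=
      continuous_subtype_val.comp φ.toHomeomorphSourceTarget.symm.continuous
    have hg0 : ∀ t : φ.target, E.p (g0 t) = (t : T) := fun t => by
      change E.p ((φ.toHomeomorphSourceTarget.symm t : φ.source) : E.E) = (t : T)
      rw [hφ, OpenPartialHomeomorph.toHomeomorphSourceTarget_symm_apply_coe]
      exact φ.right_inv t.2
    let g : (An.opensToCl T).obj U ⟶ E := ⟨g0, hg0c, hg0⟩
    refine ⟨(An.opensToCl T).obj U, g, Presieve.in_coverByImage _ g, ?_, ?_⟩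
    · change Topology.IsOpenEmbedding g0
      exact (φ.open_source.isOpenEmbedding_subtypeVal).comp
        φ.toHomeomorphSourceTarget.symm.isOpenEmbedding
    · refine ⟨(⟨φ e, φ.map_source heφ⟩ : φ.target), ?_⟩
      change ((φ.toHomeomorphSourceTarget.symm ⟨φ e, φ.map_source heφ⟩ : φ.source) : E.E) = e
      rw [OpenPartialHomeomorph.toHomeomorphSourceTarget_symm_apply_coe]
      exact φ.left_inv heφ
  haveI hds : (An.opensToCl T).IsDenseSubsite (Opens.grothendieckTopology T)
      (An.Cl.topology T) := by
    refine { functorPushforward_mem_iff := ?_ }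
    intro U S
    constructor
    · intro hS x hx
      obtain ⟨B, g, ⟨V, k, h, hSk, hg⟩, -, b, hb⟩ := hS ⟨x, hx⟩
      refine ⟨V, k, hSk, ?_⟩
      let y : ↥V := h.toFun b
      have h1 : ((show ↥U from g.toFun b) : T) = x := congrArg Subtype.val hb
      have h2 : ((show ↥U from g.toFun b) : T) = (y : T) := by
        rw [hg]
        rfl
      rw [h2] at h1
      rw [← h1]
      exact y.2
    · intro hS a
      obtain ⟨V, f, hSf, haV⟩ := hS a.1 a.2
      refine ⟨(An.opensToCl T).obj V, (An.opensToCl T).map f,
        ⟨V, f, 𝟙 _, hSf, (Category.id_comp _).symm⟩, ?_, ⟨⟨a.1, haV⟩, rfl⟩⟩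
      exact TopologicalSpace.Opens.isOpenEmbedding_of_le f.le
  exact inferInstanceAs (((An.opensToCl T).sheafPushforwardContinuous AddCommGrpCat.{u + 1}
    (Opens.grothendieckTopology T) (An.Cl.topology T)).IsEquivalence)

end Groth.Agent.S4212
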