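import Groth.Statements.S4243
import Mathlib
-- import your own Groth.Agent.* helpers here

set_option autoImplicit false
open SGA4h

namespace Groth.Agent.S4243
theorem single_of_forall {σ : Type*} [DecidableEq σ] (t : σ →₀ ℕ) (i : σ)
    (h : ∀ j, t j ≠ 0 → j = i) : t = Finsupp.single i (t i) := by
  ext j
  rw [Finsupp.single_apply]
  split_ifs with hij
  · rw [hij]
  · by_contra hj
    exact hij (h j hj).symm

theorem degree_of_forall {σ : Type*} [Fintype σ] [DecidableEq σ] (t : σ →₀ ℕ) (i : σ)
    (h : ∀ j, t j ≠ 0 → j = i) : t.degree = t i := by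
  rw [Finsupp.degree_eq_sum]
  refine Finset.sum_eq_single i (fun j _ hji => ?_) (fun h => absurd (Finset.mem_univ i) h)
  by_contra hj
  exact hji (h j hj)

theorem forall_of_degree {σ : Type*} [Fintype σ] [DecidableEq σ] (s : σ →₀ ℕ) (i : σ)
    (h : s.degree = s i) : ∀ j, s j ≠ 0 → j = i := by
  intro j hj
  by_contra hji
  have h1 : s i + s j ≤ s.degree := by
    rw [Finsupp.degree_eq_sum]
    calc s i + s j = ∑ l ∈ ({i, j} : Finset σ), s l := by rw [Finset.sum_pair (Ne.symm hji)]
      _ ≤ ∑ l, s l := Finset.sum_le_sum_of_subset (Finset.subset_univ _)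
  have h2 : 0 < s j := Nat.pos_of_ne_zero hj
  omega


/-- Let k be a finite field with q elements and P a nonzero homogeneous polynomial of degree d in r+1
variables over k. If P vanishes at every point of k^{r+1} (that is, the hypersurface P = 0 in
projective r-space passes through every rational point), then d ≥ q + 1. -/
theorem result (k : Type) [Field k] [Fintype k] (r d : ℕ)
    (P : MvPolynomial (Fin (r + 1)) k) (hP : P.IsHomogeneous d) (hP0 : P ≠ 0)
    (hvan : ∀ x : Fin (r + 1) → k, MvPolynomial.eval x P = 0) :
    Fintype.card k + 1 ≤ d := by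
  classical
  by_contra hlt
  push Not at hlt
  have hq2 : 2 ≤ Fintype.card k := Fintype.one_lt_card
  have hdegof : ∀ t : Fin (r + 1) →₀ ℕ, MvPolynomial.coeff t P ≠ 0 → t.degree = d := by
    intro t ht
    have h := hP ht
    rw [Finsupp.degree_eq_weight_one]
    exact h
  apply hP0
  apply MvPolynomial.eq_zero_of_eval_eq_zero (Fin (r + 1)) k P hvan
  rw [MvPolynomial.mem_restrictDegree]
  intro s hs i
  by_contra hsi
  push Not at hsi
  have hcoef : MvPolynomial.coeff s P ≠ 0 := MvPolynomial.mem_support_iff.mp hs
  have hdeg : s.degree = d := hdegof s hcoef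
  have hle : s i ≤ s.degree := Finsupp.le_degree i s
  have hdq : s.degree = s i := by omega
  have hsall := forall_of_degree s i hdq
  have hev := hvan (Pi.single i 1)
  rw [MvPolynomial.eval_eq', Finset.sum_eq_single s] at hev
  · have hprod : ∏ j, ((Pi.single i (1 : k) : Fin (r + 1) → k) j) ^ s j = 1 := by
      apply Finset.prod_eq_one
      intro j _
      by_cases hji : j = i
      · rw [hji, Pi.single_eq_same, one_pow]
      · have : s j = 0 := by
          by_contra hj
          exact hji (hsall j hj)
        rw [this, pow_zero]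
    rw [hprod, mul_one] at hev
    exact hcoef hev
  · intro t ht hts
    have htcoef : MvPolynomial.coeff t P ≠ 0 := MvPolynomial.mem_support_iff.mp ht
    have htdeg : t.degree = d := hdegof t htcoef
    obtain ⟨j, hj, hji⟩ : ∃ j, t j ≠ 0 ∧ j ≠ i := by
      by_contra hcon
      push Not at hcon
      apply hts
      have h1 := single_of_forall t i hcon
      have h2 := degree_of_forall t i hcon
      have h3 := single_of_forall s i hsall
      have h4 : t i = s i := by omega
      rw [h1, h3, h4]
    apply mul_eq_zero_of_right
    apply Finset.prod_eq_zero (Finset.mem_univ j)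
    rw [Pi.single_eq_of_ne hji, zero_pow hj]
  · intro hns
    exact absurd hs hns

end Groth.Agent.S4243
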