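import Groth.Statements.S4336
import Groth.Agent.S2276

set_option autoImplicit false
universe u
open LinTop

namespace Groth.Agent.S4336

/-- Let A be an admissible ring and J an ideal of definition of A. An element of A is invertible if and
only if its image in A/J is invertible. -/
theorem result
    (A : Type u) [CommRing A] [UniformSpace A] [IsUniformAddGroup A] [IsTopologicalRing A]
    (hA : LinTop.IsAdmissible A) (J : Ideal A) (hJ : LinTop.IsIdealOfDefinition A J) (f : A) :
    IsUnit f ↔ IsUnit (Ideal.Quotient.mk J f) := by
  constructor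
  · intro h
    exact h.map (Ideal.Quotient.mk J)
  · intro h
    obtain ⟨u, hu⟩ := h
    obtain ⟨g, hg⟩ := Ideal.Quotient.mk_surjective (↑u⁻¹ : A ⧸ J)
    have h1 : Ideal.Quotient.mk J (f * g - 1) = 0 := by
      rw [map_sub, map_mul, hg, ← hu, map_one, Units.mul_inv, sub_self]
    rw [Ideal.Quotient.eq_zero_iff_mem] at h1
    have h2 := (Groth.Agent.S2276.result A hA J hJ).1 _ h1
    have h3 : 1 + (f * g - 1) = f * g := by ring
    rw [h3] at h2
    exact isUnit_of_mul_isUnit_left h2

end Groth.Agent.S4336
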