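import Groth.Statements.S4337
import Groth.Agent.S2276
import Mathlib.RingTheory.Nakayama
import Mathlib.LinearAlgebra.TensorProduct.RightExactness

set_option autoImplicit false
universe u
open LinTop

namespace Groth.Agent.S4337

/-- Let A be an admissible ring, J an ideal of definition, and u : M -> N a homomorphism of A-modules
with N of finite type. Then u is surjective if and only if u tensored with A/J is surjective. -/
theorem result
    (A : Type u) [CommRing A] [UniformSpace A] [IsUniformAddGroup A] [IsTopologicalRing A]
    (hA : LinTop.IsAdmissible A) (J : Ideal A) (hJ : LinTop.IsIdealOfDefinition A J)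
    (M N : Type u) [AddCommGroup M] [Module A M] [AddCommGroup N] [Module A N] [Module.Finite A N]
    (u : M →ₗ[A] N) :
    Function.Surjective u ↔ Function.Surjective (u.rTensor (A ⧸ J)) := by
  constructor
  · intro h
    exact LinearMap.rTensor_surjective _ h
  · intro h
    have hjac : J ≤ (⊥ : Ideal A).jacobson := (Groth.Agent.S2276.result A hA J hJ).2
    set P : Submodule A N := LinearMap.range u ⊔ J • (⊤ : Submodule A N) with hP
    let π : N →ₗ[A] (N ⧸ P) := P.mkQ
    have hker : J ≤ LinearMap.ker (LinearMap.toSpanSingleton A (N →ₗ[A] (N ⧸ P)) π) := by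
      intro a ha
      rw [LinearMap.mem_ker, LinearMap.toSpanSingleton_apply]
      ext n
      simp only [LinearMap.smul_apply, LinearMap.zero_apply]
      rw [← map_smul]
      show P.mkQ (a • n) = 0
      rw [Submodule.mkQ_apply, Submodule.Quotient.mk_eq_zero]
      exact (le_sup_right : J • (⊤ : Submodule A N) ≤ P) (Submodule.smul_mem_smul ha Submodule.mem_top)
    let B' : (A ⧸ J) →ₗ[A] N →ₗ[A] (N ⧸ P) :=
      Submodule.liftQ J (LinearMap.toSpanSingleton A (N →ₗ[A] (N ⧸ P)) π) hker
    let φ : TensorProduct A N (A ⧸ J) →ₗ[A] (N ⧸ P) := TensorProduct.lift B'.flip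
    have hφ : ∀ t : TensorProduct A M (A ⧸ J), φ (u.rTensor (A ⧸ J) t) = 0 := by
      intro t
      induction t using TensorProduct.induction_on with
      | zero => simp
      | tmul m a =>
        obtain ⟨a, rfl⟩ := Ideal.Quotient.mk_surjective a
        simp only [LinearMap.rTensor_tmul, φ, TensorProduct.lift.tmul, LinearMap.flip_apply]
        show (Submodule.liftQ J _ hker) (Submodule.Quotient.mk a) (u m) = 0
        rw [Submodule.liftQ_apply, LinearMap.toSpanSingleton_apply, LinearMap.smul_apply]
        have : π (u m) = 0 := by
          show P.mkQ (u m) = 0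
          rw [Submodule.mkQ_apply, Submodule.Quotient.mk_eq_zero]
          exact (le_sup_left : LinearMap.range u ≤ P) (LinearMap.mem_range_self u m)
        rw [this, smul_zero]
      | add x y hx hy => rw [map_add, map_add, hx, hy, add_zero]
    have htop : (⊤ : Submodule A N) ≤ P := by
      intro n _
      obtain ⟨t, ht⟩ := h (n ⊗ₜ[A] (1 : A ⧸ J))
      have h1 := hφ t
      rw [ht] at h1
      simp only [φ, TensorProduct.lift.tmul, LinearMap.flip_apply] at h1
      have h2 : B' (1 : A ⧸ J) n = π n := by
        show (Submodule.liftQ J _ hker) (Submodule.Quotient.mk (1 : A)) n = π n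
        rw [Submodule.liftQ_apply, LinearMap.toSpanSingleton_apply, one_smul]
      rw [h2] at h1
      have h3 : P.mkQ n = 0 := h1
      rwa [Submodule.mkQ_apply, Submodule.Quotient.mk_eq_zero] at h3
    have hfg : (⊤ : Submodule A N).FG := Module.Finite.fg_top
    have := Submodule.le_of_le_smul_of_le_jacobson_bot hfg hjac htop
    rw [← LinearMap.range_eq_top]
    exact top_le_iff.1 this

end Groth.Agent.S4337
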