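import Groth.Statements.S4338
import Mathlib
-- import your own Groth.Agent.* helpers here

set_option autoImplicit false
universe u
open LinTop

namespace Groth.Agent.S4338

/-- For a finitely generated ideal. Let A be an admissible ring and I a finitely generated ideal
contained in an ideal of definition of A. Then A is separated and complete for the I-adic topology.
(The published statement has no finiteness hypothesis on I and is then not correct: the completion
of a polynomial ring in countably many variables over a field along the ideal generated by the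
variables, with its inverse-limit topology, is admissible, the kernel of its projection onto the
field is an ideal of definition, and the ring is not adically complete for that kernel.) -/
theorem result
    (A : Type u) [CommRing A] [UniformSpace A] [IsUniformAddGroup A] [IsTopologicalRing A]
    (hA : LinTop.IsAdmissible A) (J : Ideal A) (hJ : LinTop.IsIdealOfDefinition A J)
    (I : Ideal A) (hI : I.FG) (hIJ : I ≤ J) :
    IsAdicComplete I A := by
  classical
  obtain ⟨⟨hlin, _⟩, hT2, hC⟩ := hA
  haveI := hlin
  haveI := hT2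
  haveI := hC
  obtain ⟨hJo, hJn⟩ := hJ
  haveI : NonarchimedeanAddGroup A :=
    { is_nonarchimedean := fun U hU => by
        obtain ⟨K, hKo, hKU⟩ := (IsLinearTopology.hasBasis_open_ideal (R := A)).mem_iff.mp hU
        exact ⟨⟨K.toAddSubgroup, hKo⟩, hKU⟩ }
  have hsum : ∀ (n : ℕ) (z : ℕ → A), (∀ m, z m ∈ J ^ (m + n)) → Summable z := by
    intro n z hz
    apply NonarchimedeanAddGroup.summable_of_tendsto_cofinite_zero
    rw [Nat.cofinite_eq_atTop, Filter.tendsto_atTop']
    intro U hU
    obtain ⟨N, _, hN⟩ := hJn U hU
    refine ⟨N, fun m hm => hN ?_⟩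
    exact Ideal.pow_le_pow_right (by omega) (hz m)
  obtain ⟨s, hs⟩ := hI
  let v : (↥s) → A := Subtype.val
  have hv : Ideal.span (Set.range v) = I := by
    rw [← hs]; congr 1; ext x; simp [v]
  have hdec : ∀ (K : Ideal A) (x : A), x ∈ I * K →
      ∃ w : (↥s) → A, (∀ a, w a ∈ K) ∧ x = ∑ a, v a * w a := by
    intro K x hx
    have hx' : x ∈ I • K := hx
    refine Submodule.smul_induction_on hx' ?_ ?_
    · intro p hp t ht
      rw [← hv] at hp
      obtain ⟨c, hc⟩ := Ideal.mem_span_range_iff_exists_fun.mp hp
      refine ⟨fun a => c a * t, fun a => K.mul_mem_left _ ht, ?_⟩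
      rw [smul_eq_mul, ← hc, Finset.sum_mul]
      refine Finset.sum_congr rfl fun a _ => ?_
      ring
    · rintro x y ⟨w, hw, rfl⟩ ⟨w', hw', rfl⟩
      refine ⟨fun a => w a + w' a, fun a => K.add_mem (hw a) (hw' a), ?_⟩
      rw [← Finset.sum_add_distrib]
      refine Finset.sum_congr rfl fun a _ => ?_
      ring
  have key : ∀ (n : ℕ) (y : ℕ → A), (∀ m, y m ∈ I ^ (m + n)) → ∑' m, y m ∈ I ^ n := by
    intro n
    induction n with
    | zero => intro y _; simp
    | succ n ih =>
      intro y hy
      have hy' : ∀ m, ∃ w : (↥s) → A, (∀ a, w a ∈ I ^ (m + n)) ∧ y m = ∑ a, v a * w a := by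
        intro m
        apply hdec
        have := hy m
        rwa [show m + (n + 1) = (m + n) + 1 by ring, pow_succ'] at this
      choose w hw hyw using hy'
      have hsw : ∀ a, Summable (fun m => w m a) := fun a =>
        hsum n _ (fun m => Ideal.pow_right_mono hIJ _ (hw m a))
      have h1 := Summable.tsum_finsetSum (f := fun (a : ↥s) (m : ℕ) => v a * w m a)
        (s := Finset.univ) (fun a _ => (hsw a).mul_left (v a))
      have h2 : (∑' m, y m) = ∑ a, v a * ∑' m, w m a := by
        rw [show y = fun m => ∑ a, v a * w m a from funext hyw, h1]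
        refine Finset.sum_congr rfl fun a _ => ?_
        exact (hsw a).tsum_mul_left (v a)
      rw [h2, pow_succ']
      refine Ideal.sum_mem _ fun a _ => ?_
      refine Ideal.mul_mem_mul ?_ (ih _ (fun m => hw m a))
      rw [← hv]; exact Ideal.subset_span ⟨a, rfl⟩
  have hpowtop : ∀ n : ℕ, (I ^ n • ⊤ : Submodule A A) = I ^ n := fun n => by
    rw [smul_eq_mul, Ideal.mul_top]
  have hH : IsHausdorff I A := by
    refine ⟨fun x hx => ?_⟩
    by_contra hne
    have hU : ({x}ᶜ : Set A) ∈ nhds (0 : A) :=
      isOpen_compl_singleton.mem_nhds (by simpa using Ne.symm hne)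
    obtain ⟨N, _, hN⟩ := hJn _ hU
    have h1 := hx N
    rw [SModEq.zero, hpowtop] at h1
    exact hN (Ideal.pow_right_mono hIJ N h1) rfl
  have hP : IsPrecomplete I A := by
    refine ⟨fun f hf => ?_⟩
    have hg : ∀ m, f (m + 1) - f m ∈ I ^ m := fun m => by
      have h0 := hf (Nat.le_succ m)
      rw [SModEq.sub_mem, hpowtop] at h0
      have h00 := (I ^ m).neg_mem h0
      simpa using h00
    set g : ℕ → A := fun m => f (m + 1) - f m with hgdef
    have hgs : Summable g := hsum 0 g (fun m => Ideal.pow_right_mono hIJ m (hg m))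
    refine ⟨f 0 + ∑' m, g m, fun n => ?_⟩
    rw [SModEq.sub_mem, hpowtop]
    have h1 := hgs.sum_add_tsum_nat_add n
    have h2 : ∑ i ∈ Finset.range n, g i = f n - f 0 := Finset.sum_range_sub f n
    have h3 : ∑' i, g (i + n) ∈ I ^ n := key n _ (fun m => hg (m + n))
    have h4 : f n - (f 0 + ∑' m, g m) = -(∑' i, g (i + n)) := by
      rw [← h1, h2]; ring
    rw [h4]; exact (I ^ n).neg_mem h3
  exact { toIsHausdorff := hH, toIsPrecomplete := hP }

end Groth.Agent.S4338
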