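import Groth.Statements.S4345
import Mathlib
-- import your own Groth.Agent.* helpers here

set_option autoImplicit false
universe u
open SchLoc

namespace Groth.Agent.S4345
section
variable {R : Type*} [Field R]

/-- `x` is a unit of the subring `S` -/
def U (S : Subring R) (x : R) : Prop := x ≠ 0 ∧ x ∈ S ∧ x⁻¹ ∈ S

theorem isUnit_iff_U (S : Subring R) (x : S) : IsUnit x ↔ U S (x : R) := by
  constructor
  · intro h
    obtain ⟨y, hy⟩ := isUnit_iff_exists_inv.mp h
    have h1 : (x : R) * (y : R) = 1 := by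
      simpa using congrArg Subtype.val hy
    have hx0 : (x : R) ≠ 0 := left_ne_zero_of_mul_eq_one h1
    refine ⟨hx0, x.2, ?_⟩
    have h2 : (x : R)⁻¹ = y := by
      rw [← mul_one (x : R)⁻¹, ← h1, ← mul_assoc, inv_mul_cancel₀ hx0, one_mul]
    rw [h2]; exact y.2
  · rintro ⟨hx0, _, hinv⟩
    refine isUnit_iff_exists_inv.mpr ⟨⟨(x : R)⁻¹, hinv⟩, ?_⟩
    apply Subtype.ext
    show (x : R) * (x : R)⁻¹ = 1
    exact mul_inv_cancel₀ hx0

theorem le_iff (Q₁ Q₂ : LocalSubring R) :
    Q₁ ≤ Q₂ ↔ Q₁.toSubring ≤ Q₂.toSubring ∧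
      ∀ x ∈ Q₁.toSubring, x ≠ 0 → x⁻¹ ∈ Q₂.toSubring → x⁻¹ ∈ Q₁.toSubring := by
  rw [LocalSubring.le_def]
  constructor
  · rintro ⟨h, hloc⟩
    refine ⟨h, fun x hx hx0 hinv => ?_⟩
    have hu : IsUnit (Subring.inclusion h ⟨x, hx⟩) := by
      rw [isUnit_iff_U]
      exact ⟨hx0, h hx, hinv⟩
    have hu' : IsUnit (⟨x, hx⟩ : Q₁.toSubring) := hloc.map_nonunit _ hu
    exact ((isUnit_iff_U _ _).mp hu').2.2
  · rintro ⟨h, hinv⟩
    refine ⟨h, ⟨fun a ha => ?_⟩⟩
    have ha' := (isUnit_iff_U _ _).mp ha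
    obtain ⟨h0, h1, h2⟩ := ha'
    exact (isUnit_iff_U _ _).mpr ⟨h0, a.2, hinv a a.2 h0 h2⟩

theorem mem_ofPrime_iff (E : Subring R) (P : Ideal E) [P.IsPrime] (x : R) :
    x ∈ (LocalSubring.ofPrime E P).toSubring ↔ ∃ a s : E, s ∉ P ∧ x * (s : R) = a := by
  constructor
  · intro hx
    obtain ⟨⟨a, s⟩, h⟩ := IsLocalization.surj P.primeCompl
      (⟨x, hx⟩ : (LocalSubring.ofPrime E P).toSubring)
    refine ⟨a, s.1, s.2, ?_⟩
    exact congrArg Subtype.val h
  · rintro ⟨a, s, hs, hxs⟩
    have hu : IsUnit (algebraMap E (LocalSubring.ofPrime E P).toSubring s) :=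
      IsLocalization.map_units _ (⟨s, hs⟩ : P.primeCompl)
    obtain ⟨hs0, _, hinv⟩ := (isUnit_iff_U _ _).mp hu
    have hs0' : (s : R) ≠ 0 := hs0
    have hinv' : (s : R)⁻¹ ∈ (LocalSubring.ofPrime E P).toSubring := hinv
    have hx : x = (a : R) * (s : R)⁻¹ := by
      rw [← hxs, mul_assoc, mul_inv_cancel₀ hs0', mul_one]
    rw [hx]
    exact Subring.mul_mem _ (LocalSubring.le_ofPrime E P a.2) hinv'

theorem mem_iff_not_U (E : Subring R) (P : Ideal E) [P.IsPrime] (a : E) :
    a ∈ P ↔ ¬ U (LocalSubring.ofPrime E P).toSubring (a : R) := by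
  have h := IsLocalization.AtPrime.isUnit_to_map_iff (LocalSubring.ofPrime E P).toSubring P a
  constructor
  · intro ha hU
    exact (h.mp ((isUnit_iff_U _ _).mpr hU)) ha
  · intro hnU
    by_contra ha
    exact hnU ((isUnit_iff_U _ _).mp (h.mpr ha))

theorem mem_comap_max_iff (E : Subring R) (Q : LocalSubring R) (hE : E ≤ Q.toSubring) (a : E) :
    a ∈ (IsLocalRing.maximalIdeal Q.toSubring).comap (Subring.inclusion hE) ↔
      ¬ U Q.toSubring (a : R) := by
  constructor
  · intro h hU
    rw [Ideal.mem_comap, IsLocalRing.mem_maximalIdeal, mem_nonunits_iff] at h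
    exact h ((isUnit_iff_U _ _).mpr hU)
  · intro h
    rw [Ideal.mem_comap, IsLocalRing.mem_maximalIdeal, mem_nonunits_iff]
    intro hu
    exact h ((isUnit_iff_U _ _).mp hu)

theorem ofPrime_comap_le (E : Subring R) (Q : LocalSubring R) (hE : E ≤ Q.toSubring) :
    LocalSubring.ofPrime E ((IsLocalRing.maximalIdeal Q.toSubring).comap (Subring.inclusion hE))
      ≤ Q := by
  rw [le_iff]
  constructor
  · intro x hx
    rw [mem_ofPrime_iff] at hx
    obtain ⟨a, s, hs, hxs⟩ := hx
    rw [mem_comap_max_iff, not_not] at hs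
    obtain ⟨hs0, _, hsinv⟩ := hs
    have hx' : x = (a : R) * (s : R)⁻¹ := by
      rw [← hxs, mul_assoc, mul_inv_cancel₀ hs0, mul_one]
    rw [hx']
    exact Subring.mul_mem _ (hE a.2) hsinv
  · intro x hx hx0 hxinv
    rw [mem_ofPrime_iff] at hx ⊢
    obtain ⟨a, s, hs, hxs⟩ := hx
    have hs' := hs
    rw [mem_comap_max_iff, not_not] at hs'
    obtain ⟨hs0, _, hsinv⟩ := hs'
    have ha0 : (a : R) ≠ 0 := by rw [← hxs]; exact mul_ne_zero hx0 hs0
    refine ⟨s, a, ?_, ?_⟩
    · rw [mem_comap_max_iff, not_not]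
      refine ⟨ha0, hE a.2, ?_⟩
      have h3 : (a : R)⁻¹ = x⁻¹ * (s : R)⁻¹ := by rw [← hxs, mul_inv]
      rw [h3]
      exact Subring.mul_mem _ hxinv hsinv
    · rw [← hxs, ← mul_assoc, inv_mul_cancel₀ hx0, one_mul]

theorem eq_comap_of_le (E : Subring R) (P : Ideal E) [P.IsPrime] (Q : LocalSubring R)
    (h : LocalSubring.ofPrime E P ≤ Q) (hE : E ≤ Q.toSubring) :
    P = (IsLocalRing.maximalIdeal Q.toSubring).comap (Subring.inclusion hE) := by
  rw [le_iff] at h
  ext a
  rw [mem_comap_max_iff, mem_iff_not_U E P a, not_iff_not]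
  constructor
  · rintro ⟨h0, h1, h2⟩
    exact ⟨h0, h.1 h1, h.1 h2⟩
  · rintro ⟨h0, h1, h2⟩
    exact ⟨h0, LocalSubring.le_ofPrime E P a.2,
      h.2 _ (LocalSubring.le_ofPrime E P a.2) h0 h2⟩

theorem ofPrime_congr (E : Subring R) (P P' : Ideal E) [hP : P.IsPrime] [hP' : P'.IsPrime]
    (h : P = P') : LocalSubring.ofPrime E P = LocalSubring.ofPrime E P' := by
  subst h; rfl

theorem comap_ofPrime_eq (A C : Subring R) (hAC : A ≤ C) (r : Ideal C) [r.IsPrime]
    (hAQ : A ≤ (LocalSubring.ofPrime C r).toSubring) :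
    (IsLocalRing.maximalIdeal (LocalSubring.ofPrime C r).toSubring).comap (Subring.inclusion hAQ)
      = r.comap (Subring.inclusion hAC) := by
  ext a
  rw [mem_comap_max_iff, Ideal.mem_comap, mem_iff_not_U C r (Subring.inclusion hAC a)]
  all_goals exact Iff.rfl

theorem ofPrime_sup_eq (A C : Subring R) (hAC : A ≤ C) (p : Ideal A) [p.IsPrime]
    (r : Ideal C) [r.IsPrime] (hC : C ≤ (LocalSubring.ofPrime A p).toSubring)
    (hr : r = (IsLocalRing.maximalIdeal (LocalSubring.ofPrime A p).toSubring).comap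
      (Subring.inclusion hC)) :
    LocalSubring.ofPrime C r = LocalSubring.ofPrime A p := by
  have hA' : A ≤ (LocalSubring.ofPrime C r).toSubring :=
    hAC.trans (LocalSubring.le_ofPrime C r)
  refine le_antisymm ?_ ?_
  · rw [ofPrime_congr C r _ hr]
    exact ofPrime_comap_le C (LocalSubring.ofPrime A p) hC
  · have e2 : (IsLocalRing.maximalIdeal (LocalSubring.ofPrime C r).toSubring).comap
        (Subring.inclusion hA') = p := by
      rw [comap_ofPrime_eq A C hAC r hA']
      ext a
      rw [Ideal.mem_comap, hr, mem_comap_max_iff, mem_iff_not_U A p a]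
      all_goals exact Iff.rfl
    rw [ofPrime_congr A p _ e2.symm]
    exact ofPrime_comap_le A (LocalSubring.ofPrime C r) hA'

theorem ofPrime_comap_eq_of_le (A C : Subring R) (hAC : A ≤ C) (r : Ideal C) [r.IsPrime]
    (hC : C ≤ (LocalSubring.ofPrime A (r.comap (Subring.inclusion hAC))).toSubring) :
    LocalSubring.ofPrime A (r.comap (Subring.inclusion hAC)) = LocalSubring.ofPrime C r := by
  have hA'' : A ≤ (LocalSubring.ofPrime C r).toSubring :=
    hAC.trans (LocalSubring.le_ofPrime C r)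
  have g := ofPrime_sup_eq A C hAC (r.comap (Subring.inclusion hAC))
    ((IsLocalRing.maximalIdeal
      (LocalSubring.ofPrime A (r.comap (Subring.inclusion hAC))).toSubring).comap
        (Subring.inclusion hC)) hC rfl
  have le : LocalSubring.ofPrime A (r.comap (Subring.inclusion hAC)) ≤
      LocalSubring.ofPrime C r := by
    rw [ofPrime_congr A (r.comap (Subring.inclusion hAC)) _
      (comap_ofPrime_eq A C hAC r hA'').symm]
    exact ofPrime_comap_le A (LocalSubring.ofPrime C r) hA''
  have le' : LocalSubring.ofPrime C ((IsLocalRing.maximalIdeal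
      (LocalSubring.ofPrime A (r.comap (Subring.inclusion hAC))).toSubring).comap
        (Subring.inclusion hC)) ≤ LocalSubring.ofPrime C r := by
    rw [g]; exact le
  have e := eq_comap_of_le C _ (LocalSubring.ofPrime C r) le' (LocalSubring.le_ofPrime C r)
  have e' : (IsLocalRing.maximalIdeal (LocalSubring.ofPrime C r).toSubring).comap
      (Subring.inclusion (LocalSubring.le_ofPrime C r)) = r := by
    rw [comap_ofPrime_eq C C le_rfl r (LocalSubring.le_ofPrime C r)]
    ext a
    rw [Ideal.mem_comap]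
    all_goals exact Iff.rfl
  exact g.symm.trans (ofPrime_congr C _ r (e.trans e'))

end


/-- Let A and B be subrings of a field R, C the subring generated by A and B, and for a subring E let
L(E) be the set of local subrings E_p of R, p a prime ideal of E. The following are equivalent: (i)
for every local subring Q of R containing A and B, the localizations of A and of B at the traces of
the maximal ideal of Q coincide; (ii) for every prime ideal r of C the localizations of A and B at
the traces of r coincide; (iii) two members of L(A) and L(B) dominated by a common local subring of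
R are equal; (iv) the intersection of L(A) and L(B) is L(C). -/
theorem result
    (R : Type u) [Field R] (A B : Subring R) :
    [ ∀ (Q : LocalSubring R) (hA : A ≤ Q.toSubring) (hB : B ≤ Q.toSubring),
        LocalSubring.ofPrime A ((IsLocalRing.maximalIdeal Q.toSubring).comap (Subring.inclusion hA)) =
          LocalSubring.ofPrime B ((IsLocalRing.maximalIdeal Q.toSubring).comap (Subring.inclusion hB)),
      ∀ r : PrimeSpectrum ↥(A ⊔ B),
        LocalSubring.ofPrime A (r.asIdeal.comap (Subring.inclusion (le_sup_left : A ≤ A ⊔ B))) =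
          LocalSubring.ofPrime B (r.asIdeal.comap (Subring.inclusion (le_sup_right : B ≤ A ⊔ B))),
      ∀ (p : PrimeSpectrum A) (q : PrimeSpectrum B),
        (∃ Q : LocalSubring R, LocalSubring.ofPrime A p.asIdeal ≤ Q ∧ LocalSubring.ofPrime B q.asIdeal ≤ Q) →
          LocalSubring.ofPrime A p.asIdeal = LocalSubring.ofPrime B q.asIdeal,
      Set.range (fun p : PrimeSpectrum A ↦ LocalSubring.ofPrime A p.asIdeal) ∩
          Set.range (fun q : PrimeSpectrum B ↦ LocalSubring.ofPrime B q.asIdeal) =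
        Set.range (fun r : PrimeSpectrum ↥(A ⊔ B) ↦ LocalSubring.ofPrime (A ⊔ B) r.asIdeal) ].TFAE := by
  tfae_have 1 → 2 := by
    intro h r
    have hA : A ≤ (LocalSubring.ofPrime (A ⊔ B) r.asIdeal).toSubring :=
      le_sup_left.trans (LocalSubring.le_ofPrime (A ⊔ B) r.asIdeal)
    have hB : B ≤ (LocalSubring.ofPrime (A ⊔ B) r.asIdeal).toSubring :=
      le_sup_right.trans (LocalSubring.le_ofPrime (A ⊔ B) r.asIdeal)
    have e := h (LocalSubring.ofPrime (A ⊔ B) r.asIdeal) hA hB
    exact (ofPrime_congr A _ _ (comap_ofPrime_eq A (A ⊔ B) le_sup_left r.asIdeal hA)).symm.trans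
      (e.trans (ofPrime_congr B _ _ (comap_ofPrime_eq B (A ⊔ B) le_sup_right r.asIdeal hB)))
  tfae_have 2 → 1 := by
    intro h Q hA hB
    have hC : A ⊔ B ≤ Q.toSubring := sup_le hA hB
    have e := h ⟨(IsLocalRing.maximalIdeal Q.toSubring).comap (Subring.inclusion hC), inferInstance⟩
    have eA : ((IsLocalRing.maximalIdeal Q.toSubring).comap (Subring.inclusion hC)).comap
        (Subring.inclusion (le_sup_left : A ≤ A ⊔ B))
        = (IsLocalRing.maximalIdeal Q.toSubring).comap (Subring.inclusion hA) := by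
      ext a
      rw [Ideal.mem_comap, mem_comap_max_iff, mem_comap_max_iff]
      all_goals exact Iff.rfl
    have eB : ((IsLocalRing.maximalIdeal Q.toSubring).comap (Subring.inclusion hC)).comap
        (Subring.inclusion (le_sup_right : B ≤ A ⊔ B))
        = (IsLocalRing.maximalIdeal Q.toSubring).comap (Subring.inclusion hB) := by
      ext a
      rw [Ideal.mem_comap, mem_comap_max_iff, mem_comap_max_iff]
      all_goals exact Iff.rfl
    exact (ofPrime_congr A _ _ eA).symm.trans (e.trans (ofPrime_congr B _ _ eB))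
  tfae_have 1 → 3 := by
    rintro h p q ⟨Q, hpQ, hqQ⟩
    have hA : A ≤ Q.toSubring := (LocalSubring.le_ofPrime A p.asIdeal).trans hpQ.1
    have hB : B ≤ Q.toSubring := (LocalSubring.le_ofPrime B q.asIdeal).trans hqQ.1
    exact (ofPrime_congr A _ _ (eq_comap_of_le A p.asIdeal Q hpQ hA)).trans
      ((h Q hA hB).trans (ofPrime_congr B _ _ (eq_comap_of_le B q.asIdeal Q hqQ hB)).symm)
  tfae_have 3 → 1 := by
    intro h Q hA hB
    exact h ⟨(IsLocalRing.maximalIdeal Q.toSubring).comap (Subring.inclusion hA), inferInstance⟩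
      ⟨(IsLocalRing.maximalIdeal Q.toSubring).comap (Subring.inclusion hB), inferInstance⟩
      ⟨Q, ofPrime_comap_le A Q hA, ofPrime_comap_le B Q hB⟩
  tfae_have 2 → 4 := by
    intro h
    apply Set.Subset.antisymm
    · rintro T ⟨⟨p, rfl⟩, ⟨q, hq⟩⟩
      have hq' : LocalSubring.ofPrime B q.asIdeal = LocalSubring.ofPrime A p.asIdeal := hq
      have hB : B ≤ (LocalSubring.ofPrime A p.asIdeal).toSubring := by
        rw [← hq']; exact LocalSubring.le_ofPrime B q.asIdeal
      have hC : A ⊔ B ≤ (LocalSubring.ofPrime A p.asIdeal).toSubring :=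
        sup_le (LocalSubring.le_ofPrime A p.asIdeal) hB
      refine ⟨⟨(IsLocalRing.maximalIdeal (LocalSubring.ofPrime A p.asIdeal).toSubring).comap
        (Subring.inclusion hC), inferInstance⟩, ?_⟩
      exact ofPrime_sup_eq A (A ⊔ B) le_sup_left p.asIdeal _ hC rfl
    · rintro T ⟨r, rfl⟩
      have e := h r
      have hA' : A ≤ (LocalSubring.ofPrime A (r.asIdeal.comap
          (Subring.inclusion (le_sup_left : A ≤ A ⊔ B)))).toSubring :=
        LocalSubring.le_ofPrime _ _
      have hB' : B ≤ (LocalSubring.ofPrime B (r.asIdeal.comap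
          (Subring.inclusion (le_sup_right : B ≤ A ⊔ B)))).toSubring :=
        LocalSubring.le_ofPrime _ _
      have hCA : A ⊔ B ≤ (LocalSubring.ofPrime A (r.asIdeal.comap
          (Subring.inclusion (le_sup_left : A ≤ A ⊔ B)))).toSubring := by
        refine sup_le hA' ?_
        rw [e]; exact hB'
      have hCB : A ⊔ B ≤ (LocalSubring.ofPrime B (r.asIdeal.comap
          (Subring.inclusion (le_sup_right : B ≤ A ⊔ B)))).toSubring := by
        refine sup_le ?_ hB'
        rw [← e]; exact hA'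
      exact ⟨⟨⟨r.asIdeal.comap (Subring.inclusion (le_sup_left : A ≤ A ⊔ B)), inferInstance⟩,
          ofPrime_comap_eq_of_le A (A ⊔ B) le_sup_left r.asIdeal hCA⟩,
        ⟨⟨r.asIdeal.comap (Subring.inclusion (le_sup_right : B ≤ A ⊔ B)), inferInstance⟩,
          ofPrime_comap_eq_of_le B (A ⊔ B) le_sup_right r.asIdeal hCB⟩⟩
  tfae_have 4 → 2 := by
    intro h r
    have hr : LocalSubring.ofPrime (A ⊔ B) r.asIdeal ∈
        Set.range (fun p : PrimeSpectrum A ↦ LocalSubring.ofPrime A p.asIdeal) ∩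
          Set.range (fun q : PrimeSpectrum B ↦ LocalSubring.ofPrime B q.asIdeal) := by
      rw [h]; exact ⟨r, rfl⟩
    obtain ⟨⟨p, hp⟩, ⟨q, hq⟩⟩ := hr
    have hp' : LocalSubring.ofPrime A p.asIdeal = LocalSubring.ofPrime (A ⊔ B) r.asIdeal := hp
    have hq' : LocalSubring.ofPrime B q.asIdeal = LocalSubring.ofPrime (A ⊔ B) r.asIdeal := hq
    have hA : A ≤ (LocalSubring.ofPrime (A ⊔ B) r.asIdeal).toSubring :=
      le_sup_left.trans (LocalSubring.le_ofPrime (A ⊔ B) r.asIdeal)
    have hB : B ≤ (LocalSubring.ofPrime (A ⊔ B) r.asIdeal).toSubring :=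
      le_sup_right.trans (LocalSubring.le_ofPrime (A ⊔ B) r.asIdeal)
    have eA : p.asIdeal = r.asIdeal.comap (Subring.inclusion (le_sup_left : A ≤ A ⊔ B)) :=
      (eq_comap_of_le A p.asIdeal _ hp'.le hA).trans
        (comap_ofPrime_eq A (A ⊔ B) le_sup_left r.asIdeal hA)
    have eB : q.asIdeal = r.asIdeal.comap (Subring.inclusion (le_sup_right : B ≤ A ⊔ B)) :=
      (eq_comap_of_le B q.asIdeal _ hq'.le hB).trans
        (comap_ofPrime_eq B (A ⊔ B) le_sup_right r.asIdeal hB)
    exact (ofPrime_congr A _ _ eA).symm.trans (hp'.trans (hq'.symm.trans (ofPrime_congr B _ _ eB)))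
  tfae_finish

end Groth.Agent.S4345
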