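import Groth.Statements.S4346
import Mathlib

set_option autoImplicit false
universe u
open SchLoc

namespace Groth.Agent.S4346

open AlgebraicGeometry CategoryTheory in
theorem core_spec (X : Scheme.{u}) [IsIntegral X] [X.IsSeparated] (x y : X)
    (hx : genericPoint X ⤳ x) (hy : genericPoint X ⤳ y)
    (hex : ∀ a : X.presheaf.stalk x, ∃ b : X.presheaf.stalk y,
      (X.presheaf.stalkSpecializes hy).hom b = (X.presheaf.stalkSpecializes hx).hom a) :
    y ⤳ x := by
  have hinjy : Function.Injective (X.presheaf.stalkSpecializes hy).hom :=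
    IsFractionRing.injective (X.presheaf.stalk y) X.functionField
  choose φ0 hφ0 using hex
  let φ : X.presheaf.stalk x →+* X.presheaf.stalk y :=
    { toFun := φ0
      map_one' := hinjy (by rw [hφ0, map_one, map_one])
      map_mul' := fun a b => hinjy (by rw [hφ0, map_mul, map_mul, hφ0, hφ0])
      map_zero' := hinjy (by rw [hφ0, map_zero, map_zero])
      map_add' := fun a b => hinjy (by rw [hφ0, map_add, map_add, hφ0, hφ0]) }
  have hφ : CommRingCat.ofHom φ ≫ X.presheaf.stalkSpecializes hy =
      X.presheaf.stalkSpecializes hx := by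
    ext a
    exact hφ0 a
  have hdense : DenseRange (PrimeSpectrum.comap (X.presheaf.stalkSpecializes hy).hom) := by
    rw [PrimeSpectrum.denseRange_comap_iff_ker_le_nilRadical,
      (RingHom.injective_iff_ker_eq_bot _).mp hinjy]
    exact bot_le
  haveI : IsDominant (Spec.map (X.presheaf.stalkSpecializes hy)) := ⟨hdense⟩
  have key : Spec.map (CommRingCat.ofHom φ) ≫ X.fromSpecStalk x = X.fromSpecStalk y := by
    apply ext_of_isDominant (Spec.map (X.presheaf.stalkSpecializes hy))
    rw [← Category.assoc, ← Spec.map_comp, hφ, Scheme.SpecMap_stalkSpecializes_fromSpecStalk,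
      Scheme.SpecMap_stalkSpecializes_fromSpecStalk]
  have h1 := congrArg (fun k : Spec (X.presheaf.stalk y) ⟶ X =>
    k (IsLocalRing.closedPoint _)) key
  simp only at h1
  rw [Scheme.fromSpecStalk_closedPoint] at h1
  have h2 : (Spec.map (CommRingCat.ofHom φ) ≫ X.fromSpecStalk x)
      (IsLocalRing.closedPoint _) ∈ Set.range (X.fromSpecStalk x) := ⟨_, rfl⟩
  rw [Scheme.range_fromSpecStalk, h1] at h2
  exact h2

open AlgebraicGeometry in
/-- On an integral separated scheme distinct points have distinct local rings inside the function field. -/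
theorem result (X : Scheme.{u}) [IsIntegral X] [X.IsSeparated] :
    Function.Injective (fun x : X ↦ (algebraMap (X.presheaf.stalk x) X.functionField).range) := by
  intro x y hxy
  have hxy' : (algebraMap (X.presheaf.stalk x) X.functionField).range =
      (algebraMap (X.presheaf.stalk y) X.functionField).range := hxy
  have h1 : y ⤳ x := by
    refine core_spec X x y (genericPoint_specializes x) (genericPoint_specializes y) ?_
    intro a
    obtain ⟨b, hb⟩ := hxy'.le ⟨a, rfl⟩
    exact ⟨b, hb⟩
  have h2 : x ⤳ y := by
    refine core_spec X y x (genericPoint_specializes y) (genericPoint_specializes x) ?_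
    intro a
    obtain ⟨b, hb⟩ := hxy'.ge ⟨a, rfl⟩
    exact ⟨b, hb⟩
  exact (h2.antisymm h1).eq

end Groth.Agent.S4346
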