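import Groth.Statements.S4349
import Mathlib

set_option autoImplicit false
universe u
open RatFun

namespace Groth.Agent.S4349

open AlgebraicGeometry CategoryTheory in
instance isCofiltered_S4349 (X : Scheme.{u}) :
    IsCofiltered ((RatFun.IsDenseOpen X).FullSubcategory) where
  cone_objs A B := by
    have hd : Dense ((A.obj ⊓ B.obj : X.Opens) : Set X) := by
      rw [TopologicalSpace.Opens.coe_inf]
      exact Dense.inter_of_isOpen_left (s := (A.obj : Set X)) (t := (B.obj : Set X))
        A.property B.property A.obj.2
    exact ⟨⟨A.obj ⊓ B.obj, hd⟩, ObjectProperty.homMk (homOfLE inf_le_left),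
      ObjectProperty.homMk (homOfLE inf_le_right), trivial⟩
  cone_maps A B f g :=
    ⟨A, 𝟙 A, by rw [show f = g from ObjectProperty.hom_ext _ (Subsingleton.elim _ _)]⟩
  nonempty := ⟨⟨⊤, by
    show Dense ((⊤ : X.Opens) : Set X)
    rw [TopologicalSpace.Opens.coe_top]; exact dense_univ⟩⟩

open AlgebraicGeometry in
/-- Second assertion (in the form: sections over a dense open inject into the ring of rational
functions). Let X be a reduced scheme and V a dense open subset of X. The canonical map from the
sections of O_X over V to the ring R(X) of rational functions on X is injective. (The published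
statement also assumes X locally integral or locally Noetherian; that hypothesis serves the
quasi-coherence of the sheaf of rational functions and is not needed here.) -/
theorem result (X : Scheme.{u}) [IsReduced X]
    (V : X.Opens) (hV : Dense (V : Set X)) :
    Function.Injective (RatFun.toRing X V hV) := by
  refine (injective_iff_map_eq_zero (RatFun.toRing X V hV).hom).mpr ?_
  intro s hs
  have h0 : CategoryTheory.Limits.colimit.ι (RatFun.sectionsOnDense X) (Opposite.op ⟨V, hV⟩) s =
      CategoryTheory.Limits.colimit.ι (RatFun.sectionsOnDense X) (Opposite.op ⟨V, hV⟩) 0 := by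
    rw [map_zero]; exact hs
  obtain ⟨k, f, g, hfg⟩ := CategoryTheory.Limits.Concrete.colimit_exists_of_rep_eq
    (RatFun.sectionsOnDense X) (i := Opposite.op ⟨V, hV⟩) (j := Opposite.op ⟨V, hV⟩) s 0 h0
  have hres : X.presheaf.map (f.unop.hom).op s = 0 := by
    have h4 := hfg
    rw [map_zero] at h4
    exact h4
  have h3 := Scheme.basicOpen_res (X := X) (f := s) (f.unop.hom).op
  rw [hres, Scheme.basicOpen_zero] at h3
  apply eq_zero_of_basicOpen_eq_bot
  by_contra hne
  have hne' : ((X.basicOpen s : X.Opens) : Set X).Nonempty := by
    rw [Set.nonempty_iff_ne_empty]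
    intro he
    apply hne
    apply TopologicalSpace.Opens.ext
    rw [he]; exact TopologicalSpace.Opens.coe_bot.symm
  obtain ⟨x, hx1, hx2⟩ := Dense.inter_open_nonempty (s := (k.unop.obj : Set X)) k.unop.property _
    (X.basicOpen s).2 hne'
  have h5 : x ∈ (k.unop.obj ⊓ X.basicOpen s : X.Opens) := ⟨hx2, hx1⟩
  rw [← h3] at h5
  exact h5

end Groth.Agent.S4349
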