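import Groth.Statements.S4361
import Groth.Agent.Lib.helper2.Top

set_option autoImplicit false
universe u
open FinCond

namespace Groth.Agent.S4361

open AlgebraicGeometry in
open CategoryTheory in
/-- Let f : X -> Y and g : Y -> Z be morphisms whose composite is quasi-compact, and suppose the
underlying space of X is locally Noetherian (every point has an open neighbourhood which is a
Noetherian topological space). Then f is quasi-compact. (The published statement also covers the
case g separated, which is the standard cancellation property; this row states only the case of a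
locally Noetherian source.) -/
theorem result
    {X Y Z : Scheme.{u}} (f : X ⟶ Y) (g : Y ⟶ Z) [QuasiCompact (f ≫ g)]
    (hX : ∀ x : X, ∃ U : X.Opens, x ∈ U ∧ TopologicalSpace.NoetherianSpace U) :
    QuasiCompact f := by
  have hX' : ∀ x : X, ∃ U : Set X, IsOpen U ∧ x ∈ U ∧ TopologicalSpace.NoetherianSpace U := by
    intro x
    obtain ⟨U, hxU, hU⟩ := hX x
    exact ⟨U, U.isOpen, hxU, hU⟩
  refine ⟨fun V hVo hVc => ?_⟩
  -- cover g '' V by affine opens of Z
  have hgV : IsCompact (g '' V) := hVc.image g.continuous
  obtain ⟨s, hs⟩ := hgV.elim_finite_subcover (fun W : Z.affineOpens => ((W : Z.Opens) : Set Z))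
    (fun W => (W : Z.Opens).isOpen) (by
      intro z _
      obtain ⟨_, ⟨W, hW, rfl⟩, hzW, -⟩ :=
        Z.isBasis_affineOpens.exists_subset_of_mem_open (Set.mem_univ z) isOpen_univ
      exact Set.mem_iUnion.2 ⟨⟨W, hW⟩, hzW⟩)
  have hK : IsCompact (⋃ W ∈ s, (f ≫ g) ⁻¹' ((W : Z.Opens) : Set Z)) := by
    refine s.isCompact_biUnion (fun W _ => ?_)
    exact QuasiCompact.isCompact_preimage (f := f ≫ g) _ (W : Z.Opens).isOpen W.2.isCompact
  refine Groth.Agent.Lib.helper2.h2_isCompact_of_subset_of_locallyNoetherian hX' hK ?_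
  intro x hx
  have : g (f x) ∈ g '' V := ⟨f x, hx, rfl⟩
  obtain ⟨W, hW, hxW⟩ := Set.mem_iUnion₂.1 (hs this)
  refine Set.mem_iUnion₂.2 ⟨W, hW, ?_⟩
  simpa using hxW

end Groth.Agent.S4361
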