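import Groth.Statements.S4362
import Mathlib

set_option autoImplicit false
universe u
open FinCond

namespace Groth.Agent.S4362

open AlgebraicGeometry in
open CategoryTheory in
/-- If X is a Noetherian scheme, every increasing sequence of quasi-coherent sheaves of ideals of the
structure sheaf is eventually constant; equivalently the ordered set of quasi-coherent ideal sheaves
of X is well-founded for the reverse order. (On a locally Noetherian scheme quasi-coherent and
coherent ideal sheaves coincide.) -/
theorem result
    (X : Scheme.{u}) [IsNoetherian X] : WellFoundedGT X.IdealSheafData := by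
  obtain ⟨s, hs, hcov⟩ := (isCompact_iff_finite_and_eq_biUnion_affineOpens (X := X) (U := ⊤)).1
    (by simpa using CompactSpace.isCompact_univ (X := X))
  have hfin : Finite s := hs
  have hN : ∀ i : s, IsNoetherianRing Γ(X, (i : X.affineOpens)) := fun i =>
    IsLocallyNoetherian.component_noetherian _
  have hcov' : ⨆ i : s, ((i : X.affineOpens) : X.Opens) = ⊤ := by
    rw [hcov, iSup_subtype]
  let f : X.IdealSheafData → ∀ i : s, (Ideal Γ(X, (i : X.affineOpens)))ᵒᵈ :=
    fun I i => OrderDual.toDual (I.ideal i)
  have hf : StrictAnti f := by
    intro I J hIJ
    rw [lt_iff_le_and_ne]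
    refine ⟨fun i => ?_, fun h => ?_⟩
    · exact OrderDual.toDual_le_toDual.2 (hIJ.le i)
    · apply hIJ.ne
      apply Scheme.IdealSheafData.ext_of_iSup_eq_top (fun i : s => (i : X.affineOpens)) hcov'
      intro i
      have := congrFun h i
      exact (OrderDual.toDual.injective this).symm
  exact hf.wellFoundedGT

end Groth.Agent.S4362
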