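import Groth.Statements.S4364
import Mathlib

set_option autoImplicit false
universe u
open FinCond

namespace Groth.Agent.S4364

open AlgebraicGeometry in
open CategoryTheory in
/-- Let X and Y be S-schemes with Y locally of finite type over S, and let f, g : X -> Y be S-morphisms.
If f x = g x for some point x and the two induced homomorphisms of local rings O_{Y, f x} -> O_{X,
x} coincide, then f and g coincide on an open neighbourhood of x. No condition is imposed on X. (The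
published statement assumes Y of finite type over S; this row assumes Y only locally of finite type
over S, which is all the published proof uses.) -/
theorem result
    {X Y S : Scheme.{u}} (sX : X ⟶ S) (sY : Y ⟶ S) [LocallyOfFiniteType sY]
    (f g : X ⟶ Y) (hf : f ≫ sY = sX) (hg : g ≫ sY = sX) {x : X} (e : f x = g x)
    (H : f.stalkMap x =
      Y.presheaf.stalkSpecializes (Inseparable.of_eq e.symm).specializes ≫ g.stalkMap x) :
    ∃ U : X.Opens, x ∈ U ∧ U.ι ≫ f = U.ι ≫ g := by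
  classical
  obtain ⟨_, ⟨V, hV, rfl⟩, hsV, -⟩ := S.isBasis_affineOpens.exists_subset_of_mem_open
    (Set.mem_univ (sY (f x))) isOpen_univ
  obtain ⟨_, ⟨W, hW, rfl⟩, hyW, hWV⟩ := Y.isBasis_affineOpens.exists_subset_of_mem_open
    (show f x ∈ ((sY ⁻¹ᵁ V : Y.Opens) : Set Y) from hsV) (sY ⁻¹ᵁ V).2
  have hWV' : W ≤ sY ⁻¹ᵁ V := hWV
  have hyW' : g x ∈ W := e ▸ hyW
  have key : ∀ b : Γ(Y, W), ∃ (N : X.Opens) (_ : x ∈ N) (h1 : N ≤ f ⁻¹ᵁ W) (h2 : N ≤ g ⁻¹ᵁ W),
      f.appLE W N h1 b = g.appLE W N h2 b := by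
    intro b
    have h3 : X.presheaf.germ (f ⁻¹ᵁ W) x hyW (f.app W b) =
        X.presheaf.germ (g ⁻¹ᵁ W) x hyW' (g.app W b) := by
      have h4 := Scheme.Hom.germ_stalkMap_apply f W x hyW b
      have h5 := Scheme.Hom.germ_stalkMap_apply g W x hyW' b
      have h7 := TopCat.Presheaf.germ_stalkSpecializes Y.presheaf hyW
        (Inseparable.of_eq e.symm).specializes
      have h8 : f.stalkMap x (Y.presheaf.germ W (f x) hyW b) =
          g.stalkMap x (Y.presheaf.germ W (g x) hyW' b) := by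
        rw [H, ← h7]; rfl
      exact h4.symm.trans (h8.trans h5)
    obtain ⟨N, hxN, i1, i2, h6⟩ := TopCat.Presheaf.germ_eq X.presheaf x hyW hyW' _ _ h3
    exact ⟨N, hxN, i1.le, i2.le, h6⟩
  have restr : ∀ (N N' : X.Opens) (hNN : N' ≤ N) (h1 : N ≤ f ⁻¹ᵁ W) (h2 : N ≤ g ⁻¹ᵁ W)
      (b : Γ(Y, W)), f.appLE W N h1 b = g.appLE W N h2 b →
      f.appLE W N' (hNN.trans h1) b = g.appLE W N' (hNN.trans h2) b := by
    intro N N' hNN h1 h2 b hb
    have := congrArg (X.presheaf.map (homOfLE hNN).op) hb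
    rw [← Scheme.Hom.appLE_map f h1 (homOfLE hNN).op, ← Scheme.Hom.appLE_map g h2 (homOfLE hNN).op]
    exact this
  have key2 : ∀ s : Finset Γ(Y, W), ∃ (N : X.Opens) (_ : x ∈ N) (h1 : N ≤ f ⁻¹ᵁ W)
      (h2 : N ≤ g ⁻¹ᵁ W), ∀ b ∈ s, f.appLE W N h1 b = g.appLE W N h2 b := by
    intro s
    induction s using Finset.induction_on with
    | empty =>
      exact ⟨f ⁻¹ᵁ W ⊓ g ⁻¹ᵁ W, ⟨hyW, hyW'⟩, inf_le_left, inf_le_right,
        fun b hb => absurd hb (Finset.notMem_empty b)⟩
    | insert a s has ih =>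
      obtain ⟨N1, hx1, h11, h12, hN1⟩ := ih
      obtain ⟨N2, hx2, h21, h22, hN2⟩ := key a
      refine ⟨N1 ⊓ N2, ⟨hx1, hx2⟩, inf_le_left.trans h11, inf_le_left.trans h12, fun b hb => ?_⟩
      rcases Finset.mem_insert.mp hb with rfl | hb
      · exact restr N2 (N1 ⊓ N2) inf_le_right h21 h22 b hN2
      · exact restr N1 (N1 ⊓ N2) inf_le_left h11 h12 b (hN1 b hb)
  have hft : (sY.appLE V W hWV').hom.FiniteType :=
    HasRingHomProperty.appLE (P := @LocallyOfFiniteType) sY inferInstance ⟨V, hV⟩ ⟨W, hW⟩ hWV'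
  letI : Algebra Γ(S, V) Γ(Y, W) := (sY.appLE V W hWV').hom.toAlgebra
  obtain ⟨s, hs⟩ := (show Algebra.FiniteType Γ(S, V) Γ(Y, W) from hft).out
  obtain ⟨N, hxN, h1, h2, hN⟩ := key2 s
  have hR : sY.appLE V W hWV' ≫ f.appLE W N h1 = sY.appLE V W hWV' ≫ g.appLE W N h2 := by
    rw [Scheme.Hom.appLE_comp_appLE, Scheme.Hom.appLE_comp_appLE]
    simp only [hf, hg]
  have hall : ∀ b : Γ(Y, W), f.appLE W N h1 b = g.appLE W N h2 b := by
    intro b
    have hb : b ∈ Algebra.adjoin Γ(S, V) (s : Set Γ(Y, W)) := by rw [hs]; exact Algebra.mem_top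
    refine Algebra.adjoin_induction (p := fun b _ => f.appLE W N h1 b = g.appLE W N h2 b)
      ?_ ?_ ?_ ?_ hb
    · intro b hb
      exact hN b hb
    · intro r
      exact congrArg (fun k => k.hom r) hR
    · intro a b _ _ ha hb
      rw [map_add, map_add, ha, hb]
    · intro a b _ _ ha hb
      rw [map_mul, map_mul, ha, hb]
  have hEq : f.appLE W N h1 = g.appLE W N h2 := by
    ext b; exact hall b
  have top_eq : ∀ (k : X ⟶ Y) (hk : N ≤ k ⁻¹ᵁ W),
      (k.resLE W N hk).appTop ≫ N.topIso.hom = (Scheme.Opens.topIso (X := Y) W).hom ≫ k.appLE W N hk := by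
    intro k hk
    exact (Arrow.w (arrowResLEAppIso k W N hk).hom).symm
  haveI : IsAffine W := hW
  have hres : f.resLE W N h1 = g.resLE W N h2 := by
    apply ext_of_isAffine
    rw [← cancel_mono N.topIso.hom, top_eq f h1, top_eq g h2, hEq]
  refine ⟨N, hxN, ?_⟩
  rw [← Scheme.Hom.resLE_comp_ι f h1, ← Scheme.Hom.resLE_comp_ι g h2, hres]

end Groth.Agent.S4364
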