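import Groth.Statements.S4366
-- import your own Groth.Agent.* helpers here
import Mathlib

set_option autoImplicit false
universe u
open SchMor

namespace Groth.Agent.S4366

open AlgebraicGeometry in
open CategoryTheory in
open CategoryTheory.Limits in
/-- Let f : X -> Y be a morphism, y a point of Y and Z = Spec O_{Y,y} the local scheme of Y at y with
its canonical morphism to Y. Then the projection p : X x_Y Z -> X induces isomorphisms on all local
rings: for every point t of X x_Y Z the homomorphism O_{X, p t} -> O_{X x_Y Z, t} is bijective. (The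
published statement also asserts that p is a homeomorphism onto the preimage of Z; that part is not
stated here.) -/
theorem result
    {X Y : Scheme.{u}} (f : X ⟶ Y) (y : Y) (t : ↑(pullback f (Y.fromSpecStalk y))) :
    IsIso ((pullback.fst f (Y.fromSpecStalk y)).stalkMap t) := by
  have hflat : Flat (Y.fromSpecStalk y) := by
    have hU := isAffineOpen_opensRange (Y.affineCover.f (Y.affineCover.idx y))
    have hx : y ∈ (Y.affineCover.f (Y.affineCover.idx y)).opensRange := Y.affineCover.covers y
    rw [← hU.fromSpecStalk_eq_fromSpecStalk hx]
    dsimp only [IsAffineOpen.fromSpecStalk]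
    have h1 : Flat (Spec.map (Y.presheaf.germ _ y hx)) := by
      letI : Algebra Γ(Y, (Y.affineCover.f (Y.affineCover.idx y)).opensRange) (Y.presheaf.stalk y) :=
        (Y.presheaf.germ _ y hx).hom.toAlgebra
      haveI := hU.isLocalization_stalk ⟨y, hx⟩
      rw [HasRingHomProperty.Spec_iff (P := @Flat)]
      exact IsLocalization.flat _ (hU.primeIdealOf ⟨y, hx⟩).asIdeal.primeCompl
    infer_instance
  haveI : Flat (pullback.fst f (Y.fromSpecStalk y)) := inferInstance
  haveI : IsPreimmersion (pullback.fst f (Y.fromSpecStalk y)) := inferInstance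
  have hsurj : Function.Surjective ((pullback.fst f (Y.fromSpecStalk y)).stalkMap t) :=
    (pullback.fst f (Y.fromSpecStalk y)).stalkMap_surjective t
  have hinj : Function.Injective ((pullback.fst f (Y.fromSpecStalk y)).stalkMap t) := by
    algebraize [((pullback.fst f (Y.fromSpecStalk y)).stalkMap t).hom]
    have : Module.FaithfullyFlat (X.presheaf.stalk ((pullback.fst f (Y.fromSpecStalk y)) t))
        ((pullback f (Y.fromSpecStalk y)).presheaf.stalk t) :=
      @Module.FaithfullyFlat.of_flat_of_isLocalHom _ _ _ _ _ _ _
        (Flat.stalkMap (pullback.fst f (Y.fromSpecStalk y)) t)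
        ((pullback.fst f (Y.fromSpecStalk y)).toLRSHom.prop t)
    exact ‹RingHom.FaithfullyFlat _›.injective
  exact (ConcreteCategory.isIso_iff_bijective _).mpr ⟨hinj, hsurj⟩

end Groth.Agent.S4366
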