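import Groth.Statements.S4368
import Mathlib

set_option autoImplicit false
universe u
open RedSep

namespace Groth.Agent.S4368

open AlgebraicGeometry in
open CategoryTheory in
/-- Let X be a scheme and I a quasi-coherent sheaf of ideals of O_X whose support is all of X, so that
the closed subscheme it defines has underlying space X. Then that closed subscheme is reduced if and
only if I is the nilradical of O_X. In particular the closed subscheme defined by the nilradical is
the unique reduced closed subscheme of X with underlying space X (and, the support condition being
equivalent to I being contained in the nilradical, the smallest one). -/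
theorem result
    (X : Scheme.{u}) (I : X.IdealSheafData) (hI : I.support = ⊤) :
    IsReduced I.subscheme ↔ I = X.nilradical := by
  have hle : I ≤ X.nilradical := by
    have h1 : (⊤ : TopologicalSpace.Closeds X) ≤ I.support := hI.ge
    rw [Scheme.IdealSheafData.le_support_iff_le_vanishingIdeal,
      Scheme.IdealSheafData.vanishingIdeal_top] at h1
    exact h1
  have hnil : ∀ U : X.affineOpens, X.nilradical.ideal U = (⊥ : Ideal Γ(X, U)).radical := by
    intro U
    simp [Scheme.nilradical]
  have key : IsReduced I.subscheme ↔ ∀ U : X.affineOpens, (I.ideal U).IsRadical := by
    rw [IsReduced.iff_of_openCover _ I.subschemeCover.openCover]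
    show (∀ U : X.affineOpens, IsReduced (Spec (CommRingCat.of (Γ(X, U) ⧸ I.ideal U)))) ↔ _
    refine forall_congr' (fun U => ?_)
    rw [Ideal.isRadical_iff_quotient_reduced]
    exact affine_isReduced_iff (CommRingCat.of (Γ(X, U) ⧸ I.ideal U))
  rw [key]
  constructor
  · intro h
    apply Scheme.IdealSheafData.ext
    ext U : 1
    apply le_antisymm (hle U)
    rw [hnil U, ← (h U).radical]
    exact Ideal.radical_mono bot_le
  · rintro rfl U
    rw [hnil U]
    exact Ideal.radical_isRadical _

end Groth.Agent.S4368
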