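import Groth.Statements.S4369
import Mathlib

set_option autoImplicit false
universe u
open AffSch

namespace Groth.Agent.S4369

/-- Let φ : A' -> A be a ring homomorphism such that every f in A can be written f = h φ(f') with h
invertible in A (this holds in particular when φ is surjective). Then the associated continuous map
Spec A -> Spec A' is a homeomorphism onto its image. -/
theorem result
    {A' A : Type u} [CommRing A'] [CommRing A] (φ : A' →+* A)
    (h : ∀ f : A, ∃ (u : Aˣ) (f' : A'), f = (u : A) * φ f') :
    Topology.IsEmbedding (PrimeSpectrum.comap φ) := by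
  refine ⟨⟨?_⟩, ?_⟩
  · apply le_antisymm
    · exact (PrimeSpectrum.continuous_comap φ).le_induced
    · intro U hU
      rw [isOpen_induced_iff]
      rw [PrimeSpectrum.isTopologicalBasis_basic_opens.isOpen_iff] at hU
      choose! V hV using hU
      -- for each point x ∈ U pick basic open D(f_x) ∋ x inside U
      have hV' : ∀ x ∈ U, ∃ f : A, V x = (PrimeSpectrum.basicOpen f : Set (PrimeSpectrum A)) ∧
          x ∈ V x ∧ V x ⊆ U := by
        intro x hx
        obtain ⟨⟨f, hf⟩, hxV, hVU⟩ := hV x hx
        exact ⟨f, hf.symm, hxV, hVU⟩
      choose! F hF using hV'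
      choose u f' huf using h
      refine ⟨⋃ x ∈ U, (PrimeSpectrum.basicOpen (f' (F x)) : Set (PrimeSpectrum A')), ?_, ?_⟩
      · exact isOpen_biUnion (fun x _ => (PrimeSpectrum.basicOpen _).isOpen)
      · ext p
        simp only [Set.preimage_iUnion, Set.mem_iUnion, Set.mem_preimage, exists_prop]
        have key : ∀ x, (PrimeSpectrum.comap φ p ∈ (PrimeSpectrum.basicOpen (f' (F x)) : Set (PrimeSpectrum A'))) ↔
            p ∈ (PrimeSpectrum.basicOpen (F x) : Set (PrimeSpectrum A)) := by
          intro x
          simp only [SetLike.mem_coe, PrimeSpectrum.mem_basicOpen, PrimeSpectrum.comap_asIdeal,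
            Ideal.mem_comap]
          rw [not_iff_not]
          conv_rhs => rw [huf (F x)]
          constructor
          · intro h1; exact p.asIdeal.mul_mem_left _ h1
          · intro h1
            have := p.asIdeal.mul_mem_left (↑(u (F x))⁻¹ : A) h1
            rwa [← mul_assoc, Units.inv_mul, one_mul] at this
        constructor
        · rintro ⟨x, hxU, hx⟩
          rw [key] at hx
          have := (hF x hxU)
          exact this.2.2 (this.1 ▸ hx)
        · intro hp
          refine ⟨p, hp, ?_⟩
          rw [key]
          have := hF p hp
          exact this.1 ▸ this.2.1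
  · intro p q hpq
    choose u f' huf using h
    ext f
    have hp : ∀ (r : PrimeSpectrum A), f ∈ r.asIdeal ↔ f' f ∈ (PrimeSpectrum.comap φ r).asIdeal := by
      intro r
      simp only [PrimeSpectrum.comap_asIdeal, Ideal.mem_comap]
      conv_lhs => rw [huf f]
      constructor
      · intro h1
        have := r.asIdeal.mul_mem_left (↑(u f)⁻¹ : A) h1
        rwa [← mul_assoc, Units.inv_mul, one_mul] at this
      · intro h1; exact r.asIdeal.mul_mem_left _ h1
    rw [hp p, hp q, hpq]

end Groth.Agent.S4369
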