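import Groth.Statements.S4370
import Mathlib

set_option autoImplicit false
universe u
open RedSep

namespace Groth.Agent.S4370

open AlgebraicGeometry in
open CategoryTheory in
/-- Let f : X -> Y be an open immersion and let g : X_red -> Y_red be the morphism of reduced schemes
induced by f, i.e. the morphism between the closed subschemes defined by the nilradicals whose
composite with the inclusion of Y_red in Y is the inclusion of X_red in X followed by f. Then g is
an open immersion. -/
theorem result
    {X Y : Scheme.{u}} (f : X ⟶ Y) [IsOpenImmersion f]
    (g : X.nilradical.subscheme ⟶ Y.nilradical.subscheme)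
    (hg : g ≫ Y.nilradical.subschemeι = X.nilradical.subschemeι ≫ f) :
    IsOpenImmersion g := by
  have h' : Y.nilradical.comap f = X.nilradical := by
    apply Scheme.IdealSheafData.ext
    funext U
    rw [Scheme.IdealSheafData.ideal_comap_of_isOpenImmersion]
    simp only [Scheme.nilradical, Scheme.IdealSheafData.radical_ideal,
      Scheme.IdealSheafData.ideal_bot, Pi.bot_apply]
    rw [Ideal.comap_radical, Ideal.comap_bot_of_injective]
    exact ((f.appIso U).symm.commRingCatIsoToRingEquiv).injective
  have hpb := isPullback_of_isClosedImmersion X.nilradical.subschemeι Y.nilradical.subschemeι g f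
    hg.symm (by rw [Scheme.IdealSheafData.ker_subschemeι, Scheme.IdealSheafData.ker_subschemeι]; exact h')
  exact MorphismProperty.of_isPullback (P := @IsOpenImmersion) hpb inferInstance

end Groth.Agent.S4370
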