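import Groth.Statements.S4372
import Mathlib

set_option autoImplicit false
universe u
open RedSep

namespace Groth.Agent.S4372

open AlgebraicGeometry CategoryTheory TopologicalSpace in
theorem reduced_vanishing {Y : Scheme.{u}} (Z : Closeds Y) :
    IsReduced (Scheme.IdealSheafData.vanishingIdeal Z).subscheme := by
  have : ∀ i, IsReduced ((Scheme.IdealSheafData.vanishingIdeal Z).subschemeCover.openCover.X i) := by
    intro U
    have h : _root_.IsReduced (Γ(Y, U.1) ⧸ (Scheme.IdealSheafData.vanishingIdeal Z).ideal U) := by
      rw [← Ideal.isRadical_iff_quotient_reduced, Scheme.IdealSheafData.vanishingIdeal_ideal]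
      exact PrimeSpectrum.isRadical_vanishingIdeal _
    show IsReduced (Spec (.of (Γ(Y, U.1) ⧸ (Scheme.IdealSheafData.vanishingIdeal Z).ideal U)))
    infer_instance
  exact IsReduced.of_openCover _ (Scheme.IdealSheafData.vanishingIdeal Z).subschemeCover.openCover

open AlgebraicGeometry CategoryTheory TopologicalSpace in
lemma openImm_of_dense_of_reduced {A W : Scheme.{u}} (a : A ⟶ W) [IsImmersion a] [IsReduced W]
    (hd : DenseRange a) : IsOpenImmersion a := by
  haveI : IsReduced (a.coborderRange : Scheme.{u}) :=
    isReduced_of_isOpenImmersion a.coborderRange.ι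
  have hcl : IsClosed (Set.range a.liftCoborder) :=
    a.liftCoborder.isClosedEmbedding.isClosed_range
  have hdense : Dense (Set.range a.liftCoborder) := by
    rw [dense_iff_inter_open]
    intro O hO hOne
    obtain ⟨u, hu⟩ := hOne
    have hO' : IsOpen (a.coborderRange.ι '' O) :=
      a.coborderRange.ι.isOpenEmbedding.isOpenMap _ hO
    obtain ⟨z, hz⟩ := hd.exists_mem_open hO' ⟨_, u, hu, rfl⟩
    obtain ⟨u', hu', hu'eq⟩ := hz
    have h1 : a.coborderRange.ι (a.liftCoborder z) = a z := by
      rw [← Scheme.Hom.comp_apply, a.liftCoborder_ι]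
    have h2 : u' = a.liftCoborder z :=
      a.coborderRange.ι.isOpenEmbedding.injective (hu'eq.trans h1.symm)
    exact ⟨a.liftCoborder z, by rw [← h2]; exact hu', ⟨z, rfl⟩⟩
  haveI : Surjective a.liftCoborder := by
    constructor
    rw [← Set.range_eq_univ]
    exact hcl.closure_eq.symm.trans hdense.closure_eq
  haveI : IsIso a.liftCoborder := isIso_of_isClosedImmersion_of_surjective _
  rw [← a.liftCoborder_ι]
  infer_instance

open AlgebraicGeometry CategoryTheory TopologicalSpace in
lemma exists_reduced_closure {Z X : Scheme.{u}} (h : Z ⟶ X) [IsReduced Z] :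
    ∃ (W : Scheme.{u}) (i : W ⟶ X), IsClosedImmersion i ∧ IsReduced W ∧
      Set.range i = closure (Set.range h) ∧ i.ker ≤ h.ker := by
  let C : TopologicalSpace.Closeds X := ⟨closure (Set.range h), isClosed_closure⟩
  have hker : (Scheme.IdealSheafData.vanishingIdeal C).subschemeι.ker ≤ h.ker := by
    rw [Scheme.IdealSheafData.ker_subschemeι]
    have h1 : h.ker = Scheme.IdealSheafData.vanishingIdeal
        (.closure (h '' (⊤ : TopologicalSpace.Closeds Z))) := by
      rw [← Scheme.IdealSheafData.map_vanishingIdeal, Scheme.IdealSheafData.vanishingIdeal_top,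
        Scheme.nilradical_eq_bot, Scheme.IdealSheafData.map_bot]
    rw [h1]
    apply Scheme.IdealSheafData.vanishingIdeal_antimono
    rw [TopologicalSpace.Closeds.closure_le]
    rintro _ ⟨x, _, rfl⟩
    exact subset_closure ⟨x, rfl⟩
  have hrange : Set.range (Scheme.IdealSheafData.vanishingIdeal C).subschemeι =
      closure (Set.range h) := by
    rw [Scheme.IdealSheafData.range_subschemeι, Scheme.IdealSheafData.coe_support_vanishingIdeal]
    rfl
  exact ⟨_, (Scheme.IdealSheafData.vanishingIdeal C).subschemeι, inferInstance,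
    reduced_vanishing C, hrange, hker⟩

open AlgebraicGeometry in
open CategoryTheory in
/-- Let h : Z -> X be an immersion with Z reduced (a reduced subscheme of X), and let W be the reduced
closed subscheme of X whose underlying space is the closure of h(Z). Then Z is an open subscheme of
W: h factors as an open immersion Z -> W followed by the closed immersion W -> X. Stated as the
existence of such a factorization through a reduced scheme W closed-immersed onto the closure of the
image. -/
theorem result
    {Z X : Scheme.{u}} (h : Z ⟶ X) [IsImmersion h] [IsReduced Z] :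
    ∃ (W : Scheme.{u}) (j : Z ⟶ W) (i : W ⟶ X), IsOpenImmersion j ∧ IsClosedImmersion i ∧
      IsReduced W ∧ Set.range i = closure (Set.range h) ∧ j ≫ i = h := by
  obtain ⟨W, i, hi, hred, hrange, hker⟩ := exists_reduced_closure h
  obtain ⟨j, hfac⟩ : ∃ j : Z ⟶ W, j ≫ i = h := ⟨_, IsClosedImmersion.lift_fac i h hker⟩
  haveI : IsImmersion (j ≫ i) := by rw [hfac]; infer_instance
  haveI : IsImmersion j := IsImmersion.of_comp j i
  have hr : (⇑i) '' Set.range (⇑j) = Set.range ⇑h := by
    ext x
    constructor
    · rintro ⟨_, ⟨z, rfl⟩, rfl⟩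
      exact ⟨z, by rw [← hfac, Scheme.Hom.comp_apply]⟩
    · rintro ⟨z, rfl⟩
      exact ⟨j z, ⟨z, rfl⟩, by rw [← Scheme.Hom.comp_apply, hfac]⟩
  have hd : DenseRange j := by
    rw [DenseRange, dense_iff_closure_eq,
      i.isClosedEmbedding.isEmbedding.isInducing.closure_eq_preimage_closure_image, hr, ← hrange]
    ext w
    simp
  exact ⟨W, j, i, openImm_of_dense_of_reduced j hd, hi, hred, hrange, hfac⟩

end Groth.Agent.S4372
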