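import Groth.Statements.S4378
import Mathlib

set_option autoImplicit false
universe u
open CategoryTheory CategoryTheory.Limits AlgebraicGeometry
open EGA2

namespace Groth.Agent.S4378

/-- Let q : Y → S be separated and of finite type, and f : X → Y a morphism such that X is also
separated and of finite type over S through f ≫ q. Then f is proper if and only if for every scheme
S' over S the morphism X ×_S S' → Y ×_S S' induced by f is closed (as a map of topological spaces). -/
theorem result {X Y S : Scheme.{u}} (q : Y ⟶ S) (f : X ⟶ Y)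
    [IsSeparated q] [LocallyOfFiniteType q] [QuasiCompact q]
    [IsSeparated (f ≫ q)] [LocallyOfFiniteType (f ≫ q)] [QuasiCompact (f ≫ q)] :
    IsProper f ↔ ∀ (S' : Scheme.{u}) (g : S' ⟶ S),
      IsClosedMap (pullback.map (f ≫ q) g q g f (𝟙 S') (𝟙 S) (Category.comp_id (f ≫ q))
        ((Category.comp_id g).trans (Category.id_comp g).symm)).base := by
  have hA : ∀ (S' : Scheme.{u}) (g : S' ⟶ S), IsPullback (pullback.fst (f ≫ q) g)
      (pullback.map (f ≫ q) g q g f (𝟙 S') (𝟙 S) (Category.comp_id (f ≫ q))
        ((Category.comp_id g).trans (Category.id_comp g).symm)) f (pullback.fst q g) := by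
    intro S' g
    have hsnd : pullback.map (f ≫ q) g q g f (𝟙 S') (𝟙 S) (Category.comp_id (f ≫ q))
        ((Category.comp_id g).trans (Category.id_comp g).symm) ≫ pullback.snd q g =
        pullback.snd (f ≫ q) g :=
      (pullback.lift_snd _ _ _).trans (Category.comp_id _)
    have hfst : pullback.fst (f ≫ q) g ≫ f =
        pullback.map (f ≫ q) g q g f (𝟙 S') (𝟙 S) (Category.comp_id (f ≫ q))
        ((Category.comp_id g).trans (Category.id_comp g).symm) ≫ pullback.fst q g :=
      (pullback.lift_fst _ _ _).symm
    refine IsPullback.of_bot ?_ hfst (IsPullback.of_hasPullback q g)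
    rw [hsnd]
    exact IsPullback.of_hasPullback (f ≫ q) g
  constructor
  · intro hf S' g
    haveI : UniversallyClosed (pullback.map (f ≫ q) g q g f (𝟙 S') (𝟙 S)
        (Category.comp_id (f ≫ q)) ((Category.comp_id g).trans (Category.id_comp g).symm)) :=
      MorphismProperty.of_isPullback (P := @UniversallyClosed) (hA S' g) inferInstance
    exact Scheme.Hom.isClosedMap _
  · intro H
    haveI : IsSeparated f := IsSeparated.of_comp f q
    haveI : LocallyOfFiniteType f := locallyOfFiniteType_of_comp f q
    have huc : UniversallyClosed f := by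
      refine ⟨?_⟩
      intro X' T i₁ i₂ f' hpb
      show IsClosedMap f'
      -- graph of i₂
      let g : T ⟶ S := i₂ ≫ q
      let Γ : T ⟶ pullback q g := pullback.lift i₂ (𝟙 T) (by simp [g])
      have hΓsnd : Γ ≫ pullback.snd q g = 𝟙 T := pullback.lift_snd _ _ _
      have hΓfst : Γ ≫ pullback.fst q g = i₂ := pullback.lift_fst _ _ _
      haveI : IsClosedImmersion (Γ ≫ pullback.snd q g) := by rw [hΓsnd]; infer_instance
      haveI : IsClosedImmersion Γ := IsClosedImmersion.of_comp Γ (pullback.snd q g)
      let k : X' ⟶ pullback (f ≫ q) g := pullback.lift i₁ f' (by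
        simp only [g]; rw [← Category.assoc, ← Category.assoc, hpb.w])
      have hkfst : k ≫ pullback.fst (f ≫ q) g = i₁ := pullback.lift_fst _ _ _
      have hksnd : k ≫ pullback.snd (f ≫ q) g = f' := pullback.lift_snd _ _ _
      have hMfst : pullback.map (f ≫ q) g q g f (𝟙 T) (𝟙 S) (Category.comp_id (f ≫ q))
          ((Category.comp_id g).trans (Category.id_comp g).symm) ≫ pullback.fst q g =
          pullback.fst (f ≫ q) g ≫ f := (hA T g).w.symm
      have hMsnd : pullback.map (f ≫ q) g q g f (𝟙 T) (𝟙 S) (Category.comp_id (f ≫ q))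
          ((Category.comp_id g).trans (Category.id_comp g).symm) ≫ pullback.snd q g =
          pullback.snd (f ≫ q) g :=
        (pullback.lift_snd _ _ _).trans (Category.comp_id _)
      have hcomm : k ≫ pullback.map (f ≫ q) g q g f (𝟙 T) (𝟙 S) (Category.comp_id (f ≫ q))
          ((Category.comp_id g).trans (Category.id_comp g).symm) = f' ≫ Γ := by
        apply pullback.hom_ext
        · calc (k ≫ pullback.map (f ≫ q) g q g f (𝟙 T) (𝟙 S) (Category.comp_id (f ≫ q))
                ((Category.comp_id g).trans (Category.id_comp g).symm)) ≫ pullback.fst q g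
              = k ≫ (pullback.fst (f ≫ q) g ≫ f) := by
                rw [← hMfst]; exact Category.assoc _ _ _
            _ = (k ≫ pullback.fst (f ≫ q) g) ≫ f := (Category.assoc _ _ _).symm
            _ = i₁ ≫ f := by rw [hkfst]
            _ = f' ≫ i₂ := hpb.w.symm
            _ = f' ≫ (Γ ≫ pullback.fst q g) := by rw [hΓfst]
            _ = (f' ≫ Γ) ≫ pullback.fst q g := (Category.assoc _ _ _).symm
        · calc (k ≫ pullback.map (f ≫ q) g q g f (𝟙 T) (𝟙 S) (Category.comp_id (f ≫ q))
                ((Category.comp_id g).trans (Category.id_comp g).symm)) ≫ pullback.snd q g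
              = k ≫ pullback.snd (f ≫ q) g := by
                rw [← hMsnd]; exact Category.assoc _ _ _
            _ = f' := hksnd
            _ = f' ≫ 𝟙 T := (Category.comp_id _).symm
            _ = f' ≫ (Γ ≫ pullback.snd q g) := by rw [hΓsnd]
            _ = (f' ≫ Γ) ≫ pullback.snd q g := (Category.assoc _ _ _).symm
      have hleft : IsPullback k f' (pullback.map (f ≫ q) g q g f (𝟙 T) (𝟙 S)
          (Category.comp_id (f ≫ q)) ((Category.comp_id g).trans (Category.id_comp g).symm)) Γ := by
        refine IsPullback.of_right ?_ hcomm (hA T g)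
        rw [hkfst, hΓfst]
        exact hpb.flip
      haveI : IsClosedImmersion k :=
        MorphismProperty.of_isPullback (P := @IsClosedImmersion) hleft.flip inferInstance
      intro Z hZ
      have hkZ : IsClosed (k '' Z) := k.isClosedEmbedding.isClosedMap Z hZ
      have hMkZ := H T g _ hkZ
      have heq : f' '' Z = Γ ⁻¹' ((pullback.map (f ≫ q) g q g f (𝟙 T) (𝟙 S)
          (Category.comp_id (f ≫ q))
          ((Category.comp_id g).trans (Category.id_comp g).symm)).base '' (k '' Z)) := by
        ext t
        constructor
        · rintro ⟨z, hz, rfl⟩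
          refine ⟨k z, ⟨z, hz, rfl⟩, ?_⟩
          have := congrArg (fun φ : X' ⟶ pullback q g => φ z) hcomm
          simpa using this
        · rintro ⟨_, ⟨z, hz, rfl⟩, hzt⟩
          refine ⟨z, hz, ?_⟩
          have h1 := congrArg (fun φ : X' ⟶ pullback q g => φ z) hcomm
          simp only [Scheme.Hom.comp_apply] at h1
          apply Γ.isClosedEmbedding.injective
          rw [← h1]; exact hzt
      rw [heq]
      exact hMkZ.preimage Γ.continuous
    exact { }

end Groth.Agent.S4378
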