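import Groth.Statements.S4389
import Mathlib
-- import your own Groth.Agent.* helpers here

set_option autoImplicit false
universe u
open EGA2

namespace Groth.Agent.S4389

/-- Let S be a ring graded in nonnegative degrees, S_0 its degree-zero subring, S_+ its irrelevant
ideal, and E a set of homogeneous elements of positive degree. Then E generates S_+ as an ideal of S
if and only if E generates S as an S_0-algebra. -/
theorem result {R A : Type u} [CommRing R] [CommRing A] [Algebra R A] (𝒜 : ℕ → Submodule R A) [GradedAlgebra 𝒜]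
    (E : Set A) (hE : ∀ e ∈ E, ∃ d : ℕ, 0 < d ∧ e ∈ 𝒜 d) :
    (HomogeneousIdeal.irrelevant 𝒜).toIdeal = Ideal.span E ↔ Algebra.adjoin (𝒜 0) E = ⊤ := by
  classical
  have hEirr : Ideal.span E ≤ (HomogeneousIdeal.irrelevant 𝒜).toIdeal :=
    Ideal.span_le.mpr (fun e he => by
      obtain ⟨d, hd, hed⟩ := hE e he
      exact HomogeneousIdeal.mem_irrelevant_of_mem 𝒜 hd hed)
  constructor
  · intro h
    have key : ∀ n : ℕ, ∀ a ∈ 𝒜 n, a ∈ Algebra.adjoin (𝒜 0) E := by
      intro n
      induction n using Nat.strong_induction_on with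
      | _ n ih =>
        intro a ha
        rcases Nat.eq_zero_or_pos n with hn | hn
        · subst hn
          exact Subalgebra.algebraMap_mem (Algebra.adjoin (𝒜 0) E) (⟨a, ha⟩ : 𝒜 0)
        · have ha' : a ∈ Ideal.span E := by
            rw [← h]; exact HomogeneousIdeal.mem_irrelevant_of_mem 𝒜 hn ha
          obtain ⟨f, t, htE, -, hsum⟩ := Submodule.mem_span_iff_exists_finset_subset.mp ha'
          have h1 : GradedRing.proj 𝒜 n a = a := by
            rw [GradedRing.proj_apply]; exact DirectSum.decompose_of_mem_same 𝒜 ha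
          have hdec : ∑ e ∈ t, GradedRing.proj 𝒜 n (f e • e) = a := by
            rw [← map_sum, hsum, h1]
          rw [← hdec]
          refine sum_mem (fun e het => ?_)
          obtain ⟨d, hd, hed⟩ := hE e (htE het)
          rw [GradedRing.proj_apply, smul_eq_mul, DirectSum.coe_decompose_mul_of_right_mem 𝒜 n hed]
          split_ifs with hdn
          · exact Subalgebra.mul_mem _ (ih (n - d) (by omega) _ (SetLike.coe_mem _))
              (Algebra.subset_adjoin (htE het))
          · exact Subalgebra.zero_mem _
    rw [eq_top_iff]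
    intro a _
    rw [← DirectSum.sum_support_decompose 𝒜 a]
    exact sum_mem (fun n _ => key n _ (SetLike.coe_mem _))
  · intro h
    refine le_antisymm ?_ hEirr
    have claim : ∀ a ∈ Algebra.adjoin (𝒜 0) E, ∃ c : A, c ∈ 𝒜 0 ∧ a - c ∈ Ideal.span E := by
      intro a hadj
      induction hadj using Algebra.adjoin_induction with
      | mem x hx => exact ⟨0, zero_mem _, by rw [sub_zero]; exact Ideal.subset_span hx⟩
      | algebraMap r =>
        exact ⟨r, r.2, by rw [SetLike.GradeZero.algebraMap_apply, sub_self]; exact zero_mem _⟩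
      | add x y _ _ ihx ihy =>
        obtain ⟨c, hc, hxc⟩ := ihx
        obtain ⟨c', hc', hyc⟩ := ihy
        exact ⟨c + c', add_mem hc hc', by
          have : x + y - (c + c') = (x - c) + (y - c') := by ring
          rw [this]; exact add_mem hxc hyc⟩
      | mul x y _ _ ihx ihy =>
        obtain ⟨c, hc, hxc⟩ := ihx
        obtain ⟨c', hc', hyc⟩ := ihy
        refine ⟨c * c', ?_, ?_⟩
        · have := SetLike.mul_mem_graded hc hc'
          simpa using this
        · have : x * y - c * c' = x * (y - c') + (x - c) * c' := by ring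
          rw [this]
          exact add_mem (Ideal.mul_mem_left _ _ hyc) (Ideal.mul_mem_right _ _ hxc)
    intro a ha
    obtain ⟨c, hc, hac⟩ := claim a (by rw [h]; exact Algebra.mem_top)
    have hc0 : c = 0 := by
      have hcirr : c ∈ (HomogeneousIdeal.irrelevant 𝒜).toIdeal := by
        have : c = a - (a - c) := by ring
        rw [this]; exact sub_mem ha (hEirr hac)
      have h1 : ((DirectSum.decompose 𝒜 c 0 : 𝒜 0) : A) = c := DirectSum.decompose_of_mem_same 𝒜 hc
      have h2 := (HomogeneousIdeal.mem_irrelevant_iff 𝒜 c).mp hcirr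
      rw [GradedRing.proj_apply] at h2
      rw [← h1, h2]
    rw [hc0, sub_zero] at hac
    exact hac

end Groth.Agent.S4389
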