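import Groth.Statements.S4392
import Mathlib
import Groth.Agent.Lib.lead.GrMon
-- import your own Groth.Agent.* helpers here

set_option autoImplicit false
universe u
open EGA2

namespace Groth.Agent.S4392
open Groth.Agent.Lib.lead.GrMon


/-- Let S be a ring graded in nonnegative degrees which is an S_0-algebra of finite type, and M a
finitely generated graded S-module, graded in nonnegative degrees. Then there exist an integer n₁
and an integer h > 0 such that M_{n+h} = S_h M_n for every n ≥ n₁. (The published statement allows M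
graded in all integer degrees; this row takes M graded in nonnegative degrees.) -/
theorem result {R A : Type u} [CommRing R] [CommRing A] [Algebra R A] (𝒜 : ℕ → Submodule R A) [GradedAlgebra 𝒜] [Algebra.FiniteType (𝒜 0) A]
    {M : Type u} [AddCommGroup M] [Module R M] [Module A M] [IsScalarTower R A M] (ℳ : ℕ → Submodule R M) [DirectSum.Decomposition ℳ] [SetLike.GradedSMul 𝒜 ℳ] [Module.Finite A M] :
    ∃ (n₁ h : ℕ), 0 < h ∧ ∀ n : ℕ, n₁ ≤ n → ℳ (n + h) = (𝒜 h : Submodule R A) • (ℳ n : Submodule R M) := by
  classical
  obtain ⟨s, f, deg, hdegpos, hf, hgen⟩ := exists_gens 𝒜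
  have hlpos := lcm_pos deg hdegpos
  have hl : ∀ i, deg i ∣ Finset.univ.lcm deg := fun i => Finset.dvd_lcm (Finset.mem_univ i)
  generalize Finset.univ.lcm deg = l at hlpos hl
  obtain ⟨t, ht⟩ := (Module.Finite.fg_top : (⊤ : Submodule A M).FG)
  let T : Finset M := t.biUnion (fun x => (DirectSum.decompose ℳ x).support.image
    (fun k => (DirectSum.decompose ℳ x k : M)))
  have hT : Submodule.span A (T : Set M) = ⊤ := by
    rw [← top_le_iff, ← ht, Submodule.span_le]
    intro x hx
    rw [SetLike.mem_coe, ← DirectSum.sum_support_decompose ℳ x]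
    refine Submodule.sum_mem _ fun k hk => Submodule.subset_span ?_
    simp only [T, Finset.coe_biUnion, Finset.coe_image, Set.mem_iUnion, Set.mem_image,
      Finset.mem_coe]
    exact ⟨x, hx, k, hk, rfl⟩
  have hhom : ∀ y ∈ T, ∃ m, y ∈ ℳ m := by
    intro y hy
    simp only [T, Finset.mem_biUnion, Finset.mem_image] at hy
    obtain ⟨x, _, k, _, rfl⟩ := hy
    exact ⟨k, SetLike.coe_mem _⟩
  choose! dg hdg using hhom
  have hD : ∀ y ∈ T, dg y ≤ T.sup dg := fun y hy => Finset.le_sup hy
  refine ⟨T.sup dg + s * (l - 1), l, hlpos, fun n hn => ?_⟩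
  apply le_antisymm
  · intro x hx
    have hxT : x ∈ Submodule.span A (T : Set M) := by rw [hT]; trivial
    obtain ⟨a, -, hax⟩ := Submodule.mem_span_finset.1 hxT
    choose P hP using fun y => exists_repr0 𝒜 f hgen (a y)
    have hx1 : x = ∑ y ∈ T, ∑ e ∈ (P y).support,
        ((((P y).coeff e : 𝒜 0) : A) * mon f (fun i => e i)) • y := by
      rw [← hax]
      refine Finset.sum_congr rfl fun y _ => ?_
      conv_lhs => rw [hP y]
      rw [Finset.sum_smul]
    have hx2 : x = projM ℳ (n + l) x := by
      rw [projM_apply, DirectSum.decompose_of_mem_same ℳ hx]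
    rw [hx2, hx1, map_sum]
    refine Submodule.sum_mem _ fun y hy => ?_
    rw [map_sum]
    refine Submodule.sum_mem _ fun e _ => ?_
    have hc : (((P y).coeff e : 𝒜 0) : A) ∈ 𝒜 0 := ((P y).coeff e).2
    generalize (((P y).coeff e : 𝒜 0) : A) = c at hc
    have hcm : ∀ e' : Fin s → ℕ, (c * mon f e') • y ∈ ℳ (wt deg e' + dg y) := by
      intro e'
      have h1 : c * mon f e' ∈ 𝒜 (wt deg e') := by
        have h0 := SetLike.mul_mem_graded hc (mon_mem 𝒜 f deg hf e')
        rwa [zero_add] at h0
      have h2 := SetLike.GradedSMul.smul_mem h1 (hdg y hy)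
      rwa [vadd_eq_add] at h2
    have hmem := hcm (fun i => e i)
    rw [projM_apply]
    by_cases hw : wt deg (fun i => e i) + dg y = n + l
    · have hmem' : (c * mon f (fun i => e i)) • y ∈ ℳ (n + l) := hw ▸ hmem
      rw [DirectSum.decompose_of_mem_same ℳ hmem']
      have hDy := hD y hy
      have hwt : s * (l - 1) < wt deg (fun i => e i) := by omega
      obtain ⟨i, hi⟩ := exists_large deg (fun i => e i) l hwt
      obtain ⟨q, hq⟩ := hl i
      have hqe : q ≤ e i := by
        have hpos := hdegpos i
        rw [hq, mul_comm] at hi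
        exact Nat.le_of_mul_le_mul_right hi hpos
      obtain ⟨h1, h2⟩ := mon_split f deg (fun i => e i) i q hqe
      rw [h1]
      have e3 : (c * (mon f (Function.update (fun i => e i) i (e i - q)) * f i ^ q)) • y =
          (f i ^ q) • ((c * mon f (Function.update (fun i => e i) i (e i - q))) • y) := by
        rw [← mul_smul]; congr 1; ring
      rw [e3]
      apply Submodule.smul_mem_smul
      · have h3 : f i ^ q ∈ 𝒜 (q • deg i) := SetLike.pow_mem_graded (A := 𝒜) q (hf i)
        rw [smul_eq_mul, mul_comm, ← hq] at h3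
        exact h3
      · have h4 := hcm (Function.update (fun i => e i) i (e i - q))
        have hcomm : q * deg i = deg i * q := mul_comm _ _
        have h5 : wt deg (Function.update (fun i => e i) i (e i - q)) + dg y = n := by omega
        rwa [h5] at h4
    · rw [DirectSum.decompose_of_mem_ne ℳ hmem hw]
      exact Submodule.zero_mem _
  · rw [Submodule.smul_le]
    intro a ha m hm
    have h2 := SetLike.GradedSMul.smul_mem ha hm
    rwa [vadd_eq_add, add_comm] at h2

end Groth.Agent.S4392
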