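import Groth.Statements.S4393
import Mathlib
import Groth.Agent.Lib.lead.GrMon
-- import your own Groth.Agent.* helpers here

set_option autoImplicit false
universe u
open EGA2

namespace Groth.Agent.S4393
open Groth.Agent.Lib.lead.GrMon


/-- Let S be a ring graded in nonnegative degrees which is an S_0-algebra of finite type. Then there is
an integer h > 0 such that S_{mh} = (S_h)^m (the S_0-submodule spanned by m-fold products of
elements of S_h) for every m > 0. -/
theorem result {R A : Type u} [CommRing R] [CommRing A] [Algebra R A] (𝒜 : ℕ → Submodule R A) [GradedAlgebra 𝒜] [Algebra.FiniteType (𝒜 0) A] :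
    ∃ h : ℕ, 0 < h ∧ ∀ m : ℕ, 0 < m → 𝒜 (m * h) = (𝒜 h : Submodule R A) ^ m := by
  obtain ⟨s, f, deg, hdeg, hf, hgen⟩ := exists_gens 𝒜
  have hlpos := lcm_pos deg hdeg
  have hl : ∀ i, deg i ∣ Finset.univ.lcm deg := fun i => Finset.dvd_lcm (Finset.mem_univ i)
  refine ⟨(s + 1) * Finset.univ.lcm deg, Nat.mul_pos (Nat.succ_pos s) hlpos, fun m hm => ?_⟩
  exact veronese_pow' 𝒜 _ hlpos
    (fun n hn => le_mul_of_large0 𝒜 f deg hdeg hf hgen _ hl n hn) (s + 1) (by omega) m hm

end Groth.Agent.S4393
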