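import Groth.Statements.S4394
import Mathlib
-- import your own Groth.Agent.* helpers here

set_option autoImplicit false
universe u
open EGA2

namespace Groth.Agent.S4394

/-- Let S be a ring graded in nonnegative degrees which is an S_0-algebra of finite type. Then for every
integer n > 0 there is m₀ such that S_m ⊆ (S_+)^n for all m ≥ m₀. -/
theorem result {R A : Type u} [CommRing R] [CommRing A] [Algebra R A] (𝒜 : ℕ → Submodule R A) [GradedAlgebra 𝒜] [Algebra.FiniteType (𝒜 0) A]
    (n : ℕ) (hn : 0 < n) :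
    ∃ m₀ : ℕ, ∀ m : ℕ, m₀ ≤ m → (𝒜 m : Set A) ⊆ ((HomogeneousIdeal.irrelevant 𝒜).toIdeal ^ n : Ideal A) := by
  classical
  obtain ⟨s, hs, hhom⟩ := GradedAlgebra.exists_finset_adjoin_eq_top_and_homogeneous_ne_zero 𝒜
  choose! deg hdeg using hhom
  obtain ⟨D, hD⟩ : ∃ D : ℕ, D = ∑ i ∈ s, deg i + 1 := ⟨_, rfl⟩
  have hD1 : 1 ≤ D := by omega
  have hdegD : ∀ i ∈ s, deg i ≤ D := by
    intro i hi
    have := Finset.single_le_sum (f := deg) (fun j _ => Nat.zero_le _) hi
    omega
  obtain ⟨I, hI⟩ : ∃ I : Ideal A, I = (HomogeneousIdeal.irrelevant 𝒜).toIdeal := ⟨_, rfl⟩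
  rw [← hI]
  -- monomials
  have hmono : ∀ μ ∈ Submonoid.closure (s : Set A), ∃ e k : ℕ, μ ∈ 𝒜 e ∧ μ ∈ I ^ k ∧ e ≤ k * D := by
    intro μ hμ
    induction hμ using Submonoid.closure_induction with
    | mem x hx =>
      refine ⟨deg x, 1, (hdeg x hx).2, ?_, by simpa using hdegD x hx⟩
      rw [pow_one, hI]
      exact HomogeneousIdeal.mem_irrelevant_of_mem 𝒜 (Nat.pos_of_ne_zero (hdeg x hx).1) (hdeg x hx).2
    | one => exact ⟨0, 0, SetLike.one_mem_graded 𝒜, by simp, by simp⟩
    | mul x y _ _ ihx ihy =>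
      obtain ⟨e, k, h1, h2, h3⟩ := ihx
      obtain ⟨e', k', h1', h2', h3'⟩ := ihy
      refine ⟨e + e', k + k', SetLike.mul_mem_graded h1 h1', ?_, by nlinarith⟩
      rw [pow_add]
      exact Ideal.mul_mem_mul h2 h2'
  refine ⟨n * D, fun m hm a ha => ?_⟩
  have hspan : a ∈ Submodule.span (𝒜 0) (Submonoid.closure (s : Set A) : Set A) := by
    rw [← Algebra.adjoin_eq_span, hs]
    trivial
  have key : ∀ x ∈ Submodule.span (𝒜 0) (Submonoid.closure (s : Set A) : Set A),
      ((DirectSum.decompose 𝒜 x m : 𝒜 m) : A) ∈ I ^ n := by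
    intro x hx
    induction hx using Submodule.span_induction with
    | mem μ hμ =>
      obtain ⟨e, k, h1, h2, h3⟩ := hmono μ hμ
      by_cases hem : e = m
      · subst hem
        rw [DirectSum.decompose_of_mem_same 𝒜 h1]
        have hnk : n ≤ k := by
          by_contra hcon
          push Not at hcon
          have : k * D < n * D := Nat.mul_lt_mul_of_pos_right hcon (by omega)
          omega
        exact Ideal.pow_le_pow_right hnk h2
      · rw [DirectSum.decompose_of_mem_ne 𝒜 h1 hem]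
        exact zero_mem _
    | zero => simp
    | add x y _ _ ihx ihy =>
      rw [DirectSum.decompose_add, DirectSum.add_apply, AddMemClass.coe_add]
      exact add_mem ihx ihy
    | smul c x _ ihx =>
      rw [Algebra.smul_def, SetLike.GradeZero.algebraMap_apply,
        DirectSum.coe_decompose_mul_of_left_mem 𝒜 m c.2]
      simp only [Nat.zero_le, if_true, Nat.sub_zero]
      exact Ideal.mul_mem_left _ _ ihx
  have := key a hspan
  rwa [DirectSum.decompose_of_mem_same 𝒜 ha] at this

end Groth.Agent.S4394
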