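import Groth.Statements.S4395
import Mathlib
-- import your own Groth.Agent.* helpers here

set_option autoImplicit false
universe u
open EGA2

namespace Groth.Agent.S4395
open DirectSum

section
variable {R A : Type*} [CommRing R] [CommRing A] [Algebra R A] (𝒜 : ℕ → Submodule R A) [GradedAlgebra 𝒜]

theorem exists_homog_notMem (𝔭 : HomogeneousIdeal 𝒜) (h : ¬ HomogeneousIdeal.irrelevant 𝒜 ≤ 𝔭) :
    ∃ i : ℕ, 0 < i ∧ ∃ f ∈ 𝒜 i, f ∉ 𝔭.toIdeal := by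
  by_contra hcon
  push Not at hcon
  apply h
  rw [HomogeneousIdeal.irrelevant_le]
  intro i hi x hx
  exact hcon i hi x hx

theorem pcast (p : ℕ → AddSubgroup A) {a b : ℕ} (h : a = b) {z : A} (hz : z ∈ p a) : z ∈ p b :=
  h ▸ hz

theorem le_of_traces (n₀ : ℕ) (p : ℕ → AddSubgroup A)
    (𝔭 𝔮 : HomogeneousIdeal 𝒜) (h𝔮 : 𝔮.toIdeal.IsPrime)
    (hq : ¬ HomogeneousIdeal.irrelevant 𝒜 ≤ 𝔮)
    (h1 : ∀ n : ℕ, n₀ ≤ n → (𝔭.toIdeal : Set A) ∩ 𝒜 n = p n)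
    (h2 : ∀ n : ℕ, n₀ ≤ n → (𝔮.toIdeal : Set A) ∩ 𝒜 n = p n) :
    𝔭.toIdeal ≤ 𝔮.toIdeal := by
  obtain ⟨j, hj, g, hg, hgq⟩ := exists_homog_notMem 𝒜 𝔮 hq
  intro x hx
  rw [Ideal.IsHomogeneous.mem_iff 𝒜 𝔮.isHomogeneous]
  intro i
  have hxi : (decompose 𝒜 x i : A) ∈ 𝔭.toIdeal := 𝔭.isHomogeneous i hx
  have hyi : (decompose 𝒜 x i : A) ∈ 𝒜 i := SetLike.coe_mem _
  have hgn : g ^ n₀ ∈ 𝒜 (n₀ • j) := SetLike.pow_mem_graded n₀ hg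
  have hmem : g ^ n₀ * (decompose 𝒜 x i : A) ∈ 𝒜 (n₀ • j + i) := SetLike.mul_mem_graded hgn hyi
  have hge : n₀ ≤ n₀ • j + i := by
    rw [smul_eq_mul]
    exact le_trans (Nat.le_mul_of_pos_right n₀ hj) (Nat.le_add_right _ _)
  have h3 : g ^ n₀ * (decompose 𝒜 x i : A) ∈ (𝔭.toIdeal : Set A) ∩ 𝒜 (n₀ • j + i) :=
    ⟨𝔭.toIdeal.mul_mem_left _ hxi, hmem⟩
  rw [h1 _ hge, ← h2 _ hge] at h3
  rcases h𝔮.mem_or_mem h3.1 with h4 | h4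
  · exact absurd (h𝔮.mem_of_pow_mem _ h4) hgq
  · exact h4

variable (p : ℕ → AddSubgroup A) (f : A) (n₁ : ℕ)

def P (x : A) : Prop := ∀ i, f * (decompose 𝒜 x i : A) ∈ p (n₁ + i)

theorem P_zero : P 𝒜 p f n₁ 0 := by
  intro i
  rw [decompose_zero, DirectSum.zero_apply, ZeroMemClass.coe_zero, mul_zero]
  exact (p _).zero_mem

theorem P_add {x y : A} (hx : P 𝒜 p f n₁ x) (hy : P 𝒜 p f n₁ y) : P 𝒜 p f n₁ (x + y) := by
  intro i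
  rw [decompose_add, DirectSum.add_apply, AddMemClass.coe_add, mul_add]
  exact (p _).add_mem (hx i) (hy i)

theorem P_of_mem {k : ℕ} {z : A} (hz : z ∈ 𝒜 k) : P 𝒜 p f n₁ z ↔ f * z ∈ p (n₁ + k) := by
  constructor
  · intro h
    have := h k
    rwa [decompose_of_mem_same 𝒜 hz] at this
  · intro h i
    by_cases hik : k = i
    · subst hik
      rwa [decompose_of_mem_same 𝒜 hz]
    · rw [decompose_of_mem_ne 𝒜 hz hik, mul_zero]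
      exact (p _).zero_mem

theorem P_smul (n₀ : ℕ) (hn : n₀ ≤ n₁)
    (H1 : ∀ m n : ℕ, n₀ ≤ n → ∀ a ∈ 𝒜 m, ∀ b ∈ p n, a * b ∈ p (m + n))
    (a : A) : ∀ x : A, P 𝒜 p f n₁ x → P 𝒜 p f n₁ (a * x) := by
  refine DirectSum.Decomposition.inductionOn 𝒜
    (motive := fun a => ∀ x : A, P 𝒜 p f n₁ x → P 𝒜 p f n₁ (a * x)) ?_ ?_ ?_ a
  · intro x _
    rw [zero_mul]
    exact P_zero 𝒜 p f n₁
  · intro j a x hx i
    rw [coe_decompose_mul_of_left_mem 𝒜 i a.2]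
    split_ifs with hji
    · have h1 := H1 j (n₁ + (i - j)) (by omega) a a.2 _ (hx (i - j))
      have h2 : f * ((a : A) * (decompose 𝒜 x (i - j) : A))
          = (a : A) * (f * (decompose 𝒜 x (i - j) : A)) := by ring
      rw [h2]
      exact pcast p (by omega) h1
    · rw [mul_zero]
      exact (p _).zero_mem
  · intro a a' ha ha' x hx
    rw [add_mul]
    exact P_add 𝒜 p f n₁ (ha x hx) (ha' x hx)

def mkI (n₀ : ℕ) (hn : n₀ ≤ n₁)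
    (H1 : ∀ m n : ℕ, n₀ ≤ n → ∀ a ∈ 𝒜 m, ∀ b ∈ p n, a * b ∈ p (m + n)) : Ideal A where
  carrier := {x | P 𝒜 p f n₁ x}
  add_mem' := by
    intro x y hx hy
    exact P_add 𝒜 p f n₁ hx hy
  zero_mem' := P_zero 𝒜 p f n₁
  smul_mem' := by
    intro a x hx
    exact P_smul 𝒜 p f n₁ n₀ hn H1 a x hx

theorem mkI_mem_iff_of_mem (n₀ : ℕ) (hn : n₀ ≤ n₁)
    (H1 : ∀ m n : ℕ, n₀ ≤ n → ∀ a ∈ 𝒜 m, ∀ b ∈ p n, a * b ∈ p (m + n))
    (k : ℕ) (z : A) (hz : z ∈ 𝒜 k) :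
    z ∈ mkI 𝒜 p f n₁ n₀ hn H1 ↔ f * z ∈ p (n₁ + k) :=
  P_of_mem 𝒜 p f n₁ hz

theorem mkI_homog (n₀ : ℕ) (hn : n₀ ≤ n₁)
    (H1 : ∀ m n : ℕ, n₀ ≤ n → ∀ a ∈ 𝒜 m, ∀ b ∈ p n, a * b ∈ p (m + n)) :
    (mkI 𝒜 p f n₁ n₀ hn H1).IsHomogeneous 𝒜 := by
  intro i x hx j
  have hx' : P 𝒜 p f n₁ x := hx
  show f * (decompose 𝒜 (decompose 𝒜 x i : A) j : A) ∈ p (n₁ + j)
  by_cases hij : i = j
  · subst hij
    rw [decompose_of_mem_same 𝒜 (SetLike.coe_mem _)]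
    exact hx' i
  · rw [decompose_of_mem_ne 𝒜 (SetLike.coe_mem _) hij, mul_zero]
    exact (p _).zero_mem

end


/-- Let S be a ring graded in nonnegative degrees, n₀ > 0 an integer and, for every n ≥ n₀, p_n an
additive subgroup of S_n. Then there is a graded prime ideal p of S not containing S_+ with p ∩ S_n
= p_n for all n ≥ n₀ if and only if: (1) S_m p_n ⊆ p_{m+n} for all m ≥ 0 and n ≥ n₀; (2) for m ≥ n₀,
n ≥ n₀, f ∈ S_m, g ∈ S_n, fg ∈ p_{m+n} implies f ∈ p_m or g ∈ p_n; (3) p_n ≠ S_n for at least one n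
≥ n₀. Moreover such a graded prime ideal is unique. -/
theorem result {R A : Type u} [CommRing R] [CommRing A] [Algebra R A] (𝒜 : ℕ → Submodule R A) [GradedAlgebra 𝒜]
    (n₀ : ℕ) (hn₀ : 0 < n₀) (p : ℕ → AddSubgroup A) (hp : ∀ n : ℕ, n₀ ≤ n → (p n : Set A) ⊆ 𝒜 n) :
    ((∃ 𝔭 : HomogeneousIdeal 𝒜, 𝔭.toIdeal.IsPrime ∧ ¬ HomogeneousIdeal.irrelevant 𝒜 ≤ 𝔭 ∧
        ∀ n : ℕ, n₀ ≤ n → (𝔭.toIdeal : Set A) ∩ 𝒜 n = p n) ↔
      ((∀ m n : ℕ, n₀ ≤ n → ∀ a ∈ 𝒜 m, ∀ b ∈ p n, a * b ∈ p (m + n)) ∧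
        (∀ m n : ℕ, n₀ ≤ m → n₀ ≤ n → ∀ f ∈ 𝒜 m, ∀ g ∈ 𝒜 n, f * g ∈ p (m + n) → f ∈ p m ∨ g ∈ p n) ∧
        ∃ n : ℕ, n₀ ≤ n ∧ (p n : Set A) ≠ 𝒜 n)) ∧
    ∀ 𝔭 𝔮 : HomogeneousIdeal 𝒜, 𝔭.toIdeal.IsPrime → 𝔮.toIdeal.IsPrime →
      ¬ HomogeneousIdeal.irrelevant 𝒜 ≤ 𝔭 → ¬ HomogeneousIdeal.irrelevant 𝒜 ≤ 𝔮 →
      (∀ n : ℕ, n₀ ≤ n → (𝔭.toIdeal : Set A) ∩ 𝒜 n = p n) → (∀ n : ℕ, n₀ ≤ n → (𝔮.toIdeal : Set A) ∩ 𝒜 n = p n) →
      𝔭 = 𝔮 := by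
  refine ⟨⟨?_, ?_⟩, ?_⟩
  · rintro ⟨𝔭, hprime, hirr, htr⟩
    refine ⟨?_, ?_, ?_⟩
    · intro m n hn a ha b hb
      have hb' : b ∈ (𝔭.toIdeal : Set A) ∩ 𝒜 n := by rw [htr n hn]; exact hb
      have hab : a * b ∈ (𝔭.toIdeal : Set A) ∩ 𝒜 (m + n) :=
        ⟨𝔭.toIdeal.mul_mem_left a hb'.1, SetLike.mul_mem_graded ha hb'.2⟩
      rw [htr (m + n) (by omega)] at hab
      exact hab
    · intro m n hm hn f hf g hg hfg
      have hfg' : f * g ∈ (𝔭.toIdeal : Set A) ∩ 𝒜 (m + n) := by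
        rw [htr (m + n) (by omega)]; exact hfg
      rcases hprime.mem_or_mem hfg'.1 with h | h
      · left
        have h' : f ∈ (𝔭.toIdeal : Set A) ∩ 𝒜 m := ⟨h, hf⟩
        rw [htr m hm] at h'
        exact h'
      · right
        have h' : g ∈ (𝔭.toIdeal : Set A) ∩ 𝒜 n := ⟨h, hg⟩
        rw [htr n hn] at h'
        exact h'
    · obtain ⟨i, hi, f, hf, hfp⟩ := exists_homog_notMem 𝒜 𝔭 hirr
      have hge : n₀ ≤ n₀ • i := by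
        rw [smul_eq_mul]; exact Nat.le_mul_of_pos_right n₀ hi
      refine ⟨n₀ • i, hge, ?_⟩
      intro heq
      have h1 : f ^ n₀ ∈ 𝒜 (n₀ • i) := SetLike.pow_mem_graded n₀ hf
      have h2 : f ^ n₀ ∈ (p (n₀ • i) : Set A) := by rw [heq]; exact h1
      rw [← htr (n₀ • i) hge] at h2
      exact hfp (hprime.mem_of_pow_mem _ h2.1)
  · rintro ⟨H1, H2, n₁, hn₁, hne⟩
    have hsub := hp n₁ hn₁
    obtain ⟨f, hf, hfp⟩ : ∃ f ∈ 𝒜 n₁, f ∉ p n₁ := by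
      by_contra hcon
      push Not at hcon
      exact hne (Set.Subset.antisymm hsub (fun x hx => hcon x hx))
    have hpos : 0 < n₁ := lt_of_lt_of_le hn₀ hn₁
    obtain ⟨I, hmem, hhom⟩ : ∃ I : Ideal A,
        (∀ (k : ℕ) (z : A), z ∈ 𝒜 k → (z ∈ I ↔ f * z ∈ p (n₁ + k))) ∧ I.IsHomogeneous 𝒜 :=
      ⟨mkI 𝒜 p f n₁ n₀ hn₁ H1, mkI_mem_iff_of_mem 𝒜 p f n₁ n₀ hn₁ H1, mkI_homog 𝒜 p f n₁ n₀ hn₁ H1⟩
    have keyc : ∀ (n : ℕ) (z : A), n₀ ≤ n → z ∈ 𝒜 n → (f * z ∈ p (n₁ + n) ↔ z ∈ p n) := by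
      intro n z hn hz
      constructor
      · intro h
        rcases H2 n₁ n hn₁ hn f hf z hz h with h' | h'
        · exact absurd h' hfp
        · exact h'
      · intro h
        exact H1 n₁ n hn f hf z h
    have hne_top : I ≠ ⊤ := by
      intro htop
      have h1 : (1 : A) ∈ I := by rw [htop]; trivial
      rw [hmem 0 1 (SetLike.one_mem_graded 𝒜), mul_one] at h1
      exact hfp h1
    have hprime : I.IsPrime := by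
      refine Ideal.IsHomogeneous.isPrime_of_homogeneous_mem_or_mem hhom hne_top
        (fun {x y} hx hy hxy => ?_)
      obtain ⟨m, hx⟩ := hx
      obtain ⟨n, hy⟩ := hy
      rw [hmem (m + n) (x * y) (SetLike.mul_mem_graded hx hy)] at hxy
      have h1 := H1 n₁ (n₁ + (m + n)) (by omega) f hf _ hxy
      have h2 : f * (f * (x * y)) = (f * x) * (f * y) := by ring
      rw [h2] at h1
      have h3 : (f * x) * (f * y) ∈ p ((n₁ + m) + (n₁ + n)) := pcast p (by omega) h1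
      rcases H2 (n₁ + m) (n₁ + n) (by omega) (by omega) (f * x) (SetLike.mul_mem_graded hf hx)
        (f * y) (SetLike.mul_mem_graded hf hy) h3 with h | h
      · left
        rw [hmem m x hx]
        exact h
      · right
        rw [hmem n y hy]
        exact h
    refine ⟨⟨I, hhom⟩, hprime, ?_, ?_⟩
    · intro hle
      have hfI : f ∈ I := hle (HomogeneousIdeal.mem_irrelevant_of_mem 𝒜 hpos hf)
      rw [hmem n₁ f hf] at hfI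
      rcases H2 n₁ n₁ hn₁ hn₁ f hf f hf hfI with h | h <;> exact hfp h
    · intro n hn
      ext z
      constructor
      · rintro ⟨hz1, hz2⟩
        have hz1' : z ∈ I := hz1
        rw [hmem n z hz2] at hz1'
        exact (keyc n z hn hz2).1 hz1'
      · intro hz
        have hz2 : z ∈ 𝒜 n := hp n hn hz
        refine ⟨?_, hz2⟩
        show z ∈ I
        rw [hmem n z hz2]
        exact (keyc n z hn hz2).2 hz
  · intro 𝔭 𝔮 hP hQ hp' hq' h1 h2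
    apply HomogeneousIdeal.ext
    exact le_antisymm (le_of_traces 𝒜 n₀ p 𝔭 𝔮 hQ hq' h1 h2) (le_of_traces 𝒜 n₀ p 𝔮 𝔭 hP hp' h2 h1)

end Groth.Agent.S4395
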