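import Groth.Statements.S4396
import Mathlib

set_option autoImplicit false
universe u
open AlgebraicGeometry
open EGA2

namespace Groth.Agent.S4396

/-- Let S be a ring graded in nonnegative degrees, d > 0, and S^{(d)} the graded ring whose degree-n
part is S_{nd} (given here as any graded ring S' with an injective algebra homomorphism φ : S' → S
carrying S'_n onto S_{nd} for every n); let f' ∈ S'_1, with image f = φ(f') ∈ S_d. Then there is a
ring isomorphism between the degree-zero homogeneous localization S_(f) and the quotient S'/(f' -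
1)S', whose inverse sends the class of an element x of S'_n to the fraction φ(x)/f^n. (The module
part of the published statement is not stated here.) -/
theorem result {R A : Type u} [CommRing R] [CommRing A] [Algebra R A] (𝒜 : ℕ → Submodule R A) [GradedAlgebra 𝒜]
    {B : Type u} [CommRing B] [Algebra R B] (ℬ : ℕ → Submodule R B) [GradedAlgebra ℬ]
    (d : ℕ) (hd : 0 < d) (φ : B →ₐ[R] A) (hφ : Function.Injective φ)
    (hdeg : ∀ n : ℕ, Submodule.map φ.toLinearMap (ℬ n) = 𝒜 (n * d)) (f' : B) (hf' : f' ∈ ℬ 1) :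
    ∃ e : HomogeneousLocalization.Away 𝒜 (φ f') ≃+* B ⧸ Ideal.span {f' - 1},
      ∀ (n : ℕ) (x : B), x ∈ ℬ n →
        (e.symm (Ideal.Quotient.mk (Ideal.span {f' - 1}) x)).val =
          Localization.mk (φ x) ⟨φ f' ^ n, pow_mem (Submonoid.mem_powers (φ f')) n⟩ := by
  classical
  have hf : φ f' ∈ 𝒜 d := by
    have h1 : φ f' ∈ Submodule.map φ.toLinearMap (ℬ 1) := Submodule.mem_map_of_mem hf'
    rw [hdeg 1, one_mul] at h1
    exact h1
  have hmem : ∀ (n : ℕ) (x : B), x ∈ ℬ n → φ x ∈ 𝒜 (n • d) := by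
    intro n x hx
    rw [smul_eq_mul, ← hdeg n]
    exact Submodule.mem_map_of_mem hx
  have hval : ∀ (n : ℕ) (x : B) (hx : x ∈ ℬ n),
      (HomogeneousLocalization.Away.mk 𝒜 hf n (φ x) (hmem n x hx)).val =
        Localization.mk (φ x) ⟨φ f' ^ n, pow_mem (Submonoid.mem_powers (φ f')) n⟩ :=
    fun n x hx => rfl
  let g₀ : ∀ n : ℕ, ℬ n → HomogeneousLocalization.Away 𝒜 (φ f') := fun n x =>
    HomogeneousLocalization.Away.mk 𝒜 hf n (φ x) (hmem n x x.2)
  have hg₀ : ∀ (n : ℕ) (x : ℬ n), (g₀ n x).val =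
      Localization.mk (φ x) ⟨φ f' ^ n, pow_mem (Submonoid.mem_powers (φ f')) n⟩ :=
    fun n x => rfl
  let g : ∀ n : ℕ, ℬ n →+ HomogeneousLocalization.Away 𝒜 (φ f') := fun n =>
    { toFun := g₀ n
      map_zero' := by
        apply HomogeneousLocalization.val_injective
        rw [hg₀, HomogeneousLocalization.val_zero]
        simp only [Submodule.coe_zero, map_zero]
        exact Localization.mk_zero _
      map_add' := by
        intro x y
        apply HomogeneousLocalization.val_injective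
        rw [HomogeneousLocalization.val_add, hg₀, hg₀, hg₀, Localization.add_mk_self]
        simp only [Submodule.coe_add, map_add] }
  have hg : ∀ (n : ℕ) (x : ℬ n), (g n x).val =
      Localization.mk (φ x) ⟨φ f' ^ n, pow_mem (Submonoid.mem_powers (φ f')) n⟩ :=
    fun n x => rfl
  have hone : g 0 (@GradedMonoid.GOne.one ℕ (fun i => ↥(ℬ i)) _ _) = 1 := by
    apply HomogeneousLocalization.val_injective
    rw [hg, HomogeneousLocalization.val_one]
    have h1 : ((@GradedMonoid.GOne.one ℕ (fun i => ↥(ℬ i)) _ _ : ℬ 0) : B) = 1 := rfl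
    simp only [h1, map_one, pow_zero]
    exact Localization.mk_one
  have hmul : ∀ {i j : ℕ} (ai : ℬ i) (aj : ℬ j),
      g (i + j) (@GradedMonoid.GMul.mul ℕ (fun i => ↥(ℬ i)) _ _ i j ai aj) = g i ai * g j aj := by
    intro i j ai aj
    apply HomogeneousLocalization.val_injective
    rw [HomogeneousLocalization.val_mul, hg, hg, hg, Localization.mk_mul]
    have h1 : ((@GradedMonoid.GMul.mul ℕ (fun i => ↥(ℬ i)) _ _ i j ai aj : ℬ (i + j)) : B) =
        ai * aj := rfl
    rw [h1, map_mul]
    congr 1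
    exact Subtype.ext (pow_add _ _ _)
  let Ψ : (DirectSum ℕ fun i => ℬ i) →+* HomogeneousLocalization.Away 𝒜 (φ f') :=
    DirectSum.toSemiring g hone hmul
  let ψ : B →+* HomogeneousLocalization.Away 𝒜 (φ f') :=
    Ψ.comp (DirectSum.decomposeRingEquiv ℬ).toRingHom
  have hψ : ∀ (n : ℕ) (x : B) (hx : x ∈ ℬ n),
      ψ x = HomogeneousLocalization.Away.mk 𝒜 hf n (φ x) (hmem n x hx) := by
    intro n x hx
    show Ψ (DirectSum.decompose ℬ x) = _
    rw [DirectSum.decompose_of_mem ℬ hx]
    exact DirectSum.toSemiring_of g hone hmul n ⟨x, hx⟩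
  have hψf : ψ f' = 1 := by
    rw [hψ 1 f' hf']
    apply HomogeneousLocalization.val_injective
    rw [hval 1 f' hf', HomogeneousLocalization.val_one]
    simp only [pow_one]
    exact Localization.mk_self (⟨φ f', Submonoid.mem_powers _⟩ : Submonoid.powers (φ f'))
  have hker : ∀ a ∈ Ideal.span ({f' - 1} : Set B), ψ a = 0 := by
    intro a ha
    obtain ⟨c, rfl⟩ := Ideal.mem_span_singleton'.mp ha
    rw [map_mul, map_sub, hψf, map_one, sub_self, mul_zero]
  let ψb : B ⧸ Ideal.span ({f' - 1} : Set B) →+* HomogeneousLocalization.Away 𝒜 (φ f') :=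
    Ideal.Quotient.lift _ ψ hker
  have hψb : ∀ x, ψb (Ideal.Quotient.mk _ x) = ψ x := fun x => Ideal.Quotient.lift_mk _ _ _
  have hπf : Ideal.Quotient.mk (Ideal.span ({f' - 1} : Set B)) f' = 1 := by
    rw [← map_one (Ideal.Quotient.mk (Ideal.span ({f' - 1} : Set B))), Ideal.Quotient.eq]
    exact Ideal.mem_span_singleton_self _
  have hsurj : Function.Surjective ψb := by
    intro y
    obtain ⟨n, a, ha, rfl⟩ := HomogeneousLocalization.Away.mk_surjective 𝒜 hf y
    have ha' : a ∈ Submodule.map φ.toLinearMap (ℬ n) := by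
      rw [hdeg n, ← smul_eq_mul]; exact ha
    obtain ⟨b, hb, rfl⟩ := Submodule.mem_map.mp ha'
    exact ⟨Ideal.Quotient.mk _ b, (hψb b).trans (hψ n b hb)⟩
  have hP : ∀ x : B, ∃ (N : ℕ) (y : B), y ∈ ℬ N ∧
      Ideal.Quotient.mk (Ideal.span ({f' - 1} : Set B)) x = Ideal.Quotient.mk _ y := by
    intro x
    refine DirectSum.Decomposition.inductionOn ℬ
      (motive := fun x => ∃ (N : ℕ) (y : B), y ∈ ℬ N ∧
        Ideal.Quotient.mk (Ideal.span ({f' - 1} : Set B)) x = Ideal.Quotient.mk _ y) ?_ ?_ ?_ x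
    · exact ⟨0, 0, zero_mem _, rfl⟩
    · intro i m
      exact ⟨i, m, m.2, rfl⟩
    · intro m m' ih ih'
      obtain ⟨N₁, y₁, hy₁, e₁⟩ := ih
      obtain ⟨N₂, y₂, hy₂, e₂⟩ := ih'
      refine ⟨N₁ + N₂, y₁ * f' ^ N₂ + f' ^ N₁ * y₂, ?_, ?_⟩
      · refine add_mem ?_ ?_
        · have := SetLike.mul_mem_graded hy₁ (SetLike.pow_mem_graded N₂ hf')
          simpa using this
        · have := SetLike.mul_mem_graded (SetLike.pow_mem_graded N₁ hf') hy₂
          simpa using this
      · rw [map_add, map_add, map_mul, map_mul, map_pow, map_pow, hπf, one_pow, one_pow, mul_one,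
          one_mul, e₁, e₂]
  have hinj : Function.Injective ψb := by
    rw [injective_iff_map_eq_zero]
    intro qx hq
    obtain ⟨x, rfl⟩ := Ideal.Quotient.mk_surjective qx
    obtain ⟨N, y, hy, exy⟩ := hP x
    rw [exy] at hq ⊢
    rw [hψb, hψ N y hy] at hq
    have h1 := congrArg HomogeneousLocalization.val hq
    rw [HomogeneousLocalization.val_zero, hval N y hy, Localization.mk_eq_mk'_apply,
      IsLocalization.mk'_eq_zero_iff] at h1
    obtain ⟨⟨_, k, rfl⟩, hm⟩ := h1
    have h3 : φ (f' ^ k * y) = 0 := by rw [map_mul, map_pow]; exact hm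
    have h4 : f' ^ k * y = 0 := by
      apply hφ
      rw [h3, map_zero]
    have h5 : Ideal.Quotient.mk (Ideal.span ({f' - 1} : Set B)) (f' ^ k * y) =
        Ideal.Quotient.mk _ y := by
      rw [map_mul, map_pow, hπf, one_pow, one_mul]
    rw [← h5, h4, map_zero]
  refine ⟨(RingEquiv.ofBijective ψb ⟨hinj, hsurj⟩).symm, ?_⟩
  intro n x hx
  exact (congrArg HomogeneousLocalization.val ((hψb x).trans (hψ n x hx))).trans (hval n x hx)

end Groth.Agent.S4396
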