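import Groth.Statements.S4405
import Mathlib
-- import your own Groth.Agent.* helpers here

set_option autoImplicit false
universe u
open EGA2

namespace Groth.Agent.S4405



/-- Let S be a ring graded in nonnegative degrees and E any subset of the irrelevant ideal S_+. Then the
intersection of S_+ with the vanishing ideal of the closed subset V_+(E) of Proj S equals the
intersection of S_+ with the radical of the graded ideal generated by E (the smallest homogeneous
ideal containing E). -/
theorem result {R A : Type u} [CommRing R] [CommRing A] [Algebra R A] (𝒜 : ℕ → Submodule R A) [GradedAlgebra 𝒜]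
    (E : Set A) (hE : E ⊆ (HomogeneousIdeal.irrelevant 𝒜).toIdeal) :
    (HomogeneousIdeal.irrelevant 𝒜).toIdeal ⊓
        (ProjectiveSpectrum.vanishingIdeal (ProjectiveSpectrum.zeroLocus 𝒜 E)).toIdeal =
      (HomogeneousIdeal.irrelevant 𝒜).toIdeal ⊓ (Ideal.homogeneousHull 𝒜 (Ideal.span E)).toIdeal.radical := by
  classical
  ext a
  simp only [Ideal.mem_inf]
  constructor
  · rintro ⟨ha1, ha2⟩
    refine ⟨ha1, ?_⟩
    rw [Ideal.IsHomogeneous.radical_eq (𝒜 := 𝒜) (HomogeneousIdeal.isHomogeneous _), Ideal.mem_sInf]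
    rintro P ⟨hPhom, hJP, hPprime⟩
    by_cases hirr : HomogeneousIdeal.irrelevant 𝒜 ≤ (⟨P, hPhom⟩ : HomogeneousIdeal 𝒜)
    · exact hirr ha1
    · let x : ProjectiveSpectrum 𝒜 := ⟨⟨P, hPhom⟩, hPprime, hirr⟩
      have hx : x ∈ ProjectiveSpectrum.zeroLocus 𝒜 E := by
        rw [ProjectiveSpectrum.mem_zeroLocus]
        intro e he
        exact hJP (Ideal.le_toIdeal_homogeneousHull 𝒜 _ (Ideal.subset_span he))
      exact (ProjectiveSpectrum.mem_vanishingIdeal _ a).1 ha2 x hx
  · rintro ⟨ha1, ha2⟩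
    refine ⟨ha1, ?_⟩
    show a ∈ ProjectiveSpectrum.vanishingIdeal (ProjectiveSpectrum.zeroLocus 𝒜 E)
    rw [ProjectiveSpectrum.mem_vanishingIdeal]
    intro x hx
    rw [ProjectiveSpectrum.mem_zeroLocus] at hx
    have h1 : Ideal.span E ≤ x.asHomogeneousIdeal.toIdeal := Ideal.span_le.2 hx
    have h2 : Ideal.homogeneousHull 𝒜 (Ideal.span E) ≤ x.asHomogeneousIdeal :=
      (Ideal.homogeneousHull.gc 𝒜 _ _).2 h1
    have h3 : (Ideal.homogeneousHull 𝒜 (Ideal.span E)).toIdeal.radical ≤
        x.asHomogeneousIdeal.toIdeal :=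
      x.isPrime.radical_le_iff.2 h2
    exact h3 ha2

end Groth.Agent.S4405
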