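import Groth.Statements.S4411
import Mathlib
import Groth.Agent.Lib.lead.GrMon
-- import your own Groth.Agent.* helpers here

set_option autoImplicit false
universe u
open EGA2

namespace Groth.Agent.S4411
open Groth.Agent.Lib.lead.GrMon


/-- Let S be a ring graded in nonnegative degrees which is an S_0-algebra of finite type, d > 0, and
S^{(d)} the graded ring whose degree-n part is S_{nd} (given here as any graded ring S' with an
injective algebra homomorphism φ : S' → S carrying S'_n onto S_{nd} for every n). Then S^{(d)} is an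
algebra of finite type over its degree-zero part S'_0 (which φ identifies with S_0). -/
theorem result {R A : Type u} [CommRing R] [CommRing A] [Algebra R A] (𝒜 : ℕ → Submodule R A) [GradedAlgebra 𝒜] [Algebra.FiniteType (𝒜 0) A]
    {B : Type u} [CommRing B] [Algebra R B] (ℬ : ℕ → Submodule R B) [GradedAlgebra ℬ]
    (d : ℕ) (hd : 0 < d) (φ : B →ₐ[R] A) (hφ : Function.Injective φ)
    (hdeg : ∀ n : ℕ, Submodule.map φ.toLinearMap (ℬ n) = 𝒜 (n * d)) :
    Algebra.FiniteType (ℬ 0) B := by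
  classical
  obtain ⟨s, f, deg, hdegpos, hf, hgen⟩ := exists_gens 𝒜
  have hpre : ∀ (n : ℕ) (y : A), y ∈ 𝒜 (n * d) → ∃ b ∈ ℬ n, φ b = y := by
    intro n y hy
    rw [← hdeg n] at hy
    obtain ⟨b, hb, rfl⟩ := hy
    exact ⟨b, hb, rfl⟩
  have hI : ∀ i, ∃ b : B, φ b = f i ^ d := by
    intro i
    have h3 : f i ^ d ∈ 𝒜 (d • deg i) := SetLike.pow_mem_graded (A := 𝒜) d (hf i)
    rw [smul_eq_mul, mul_comm] at h3
    obtain ⟨b, _, hb⟩ := hpre (deg i) _ h3
    exact ⟨b, hb⟩
  choose bI hbI using hI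
  have hR : ∀ r : Fin s → Fin d, ∃ b : B, d ∣ wt deg (fun i => (r i : ℕ)) →
      φ b = mon f (fun i => (r i : ℕ)) := by
    intro r
    by_cases hdvd : d ∣ wt deg (fun i => (r i : ℕ))
    · obtain ⟨k, hk⟩ := hdvd
      have h3 := mon_mem 𝒜 f deg hf (fun i => (r i : ℕ))
      rw [hk, mul_comm] at h3
      obtain ⟨b, _, hb⟩ := hpre k _ h3
      exact ⟨b, fun _ => hb⟩
    · exact ⟨0, fun h => absurd h hdvd⟩
  choose bR hbR using hR
  let T : Finset B := Finset.univ.image bI ∪ Finset.univ.image bR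
  refine ⟨⟨T, ?_⟩⟩
  have hbI_mem : ∀ i, bI i ∈ Algebra.adjoin (ℬ 0) (T : Set B) :=
    fun i => Algebra.subset_adjoin (by simp [T])
  have hbR_mem : ∀ r, bR r ∈ Algebra.adjoin (ℬ 0) (T : Set B) :=
    fun r => Algebra.subset_adjoin (by simp [T])
  have hzero_mem : ∀ c' ∈ ℬ 0, c' ∈ Algebra.adjoin (ℬ 0) (T : Set B) :=
    fun c' hc' => Subalgebra.algebraMap_mem (Algebra.adjoin (ℬ 0) (T : Set B)) ⟨c', hc'⟩
  have key : ∀ n, ∀ b ∈ ℬ n, b ∈ Algebra.adjoin (ℬ 0) (T : Set B) := by
    intro n b hb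
    have hφb : φ b ∈ 𝒜 (n * d) := by rw [← hdeg n]; exact Submodule.mem_map_of_mem hb
    have hspan := mem_span_mon0 𝒜 f deg hf hgen (n * d) (φ b) hφb
    have hp : ∀ y ∈ Submodule.span R
        {y | ∃ c ∈ 𝒜 0, ∃ e : Fin s → ℕ, wt deg e = n * d ∧ y = c * mon f e},
        ∃ b' ∈ Algebra.adjoin (ℬ 0) (T : Set B), φ b' = y := by
      intro y hy
      induction hy using Submodule.span_induction with
      | mem y hy =>
        obtain ⟨c, hc, e, hw, rfl⟩ := hy
        have hc0 : c ∈ 𝒜 (0 * d) := by rwa [zero_mul]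
        obtain ⟨c', hc', hcc⟩ := hpre 0 c hc0
        have hmon : mon f e = (∏ i, (f i ^ d) ^ (e i / d)) * mon f (fun i => e i % d) := by
          show ∏ i, f i ^ e i = (∏ i, (f i ^ d) ^ (e i / d)) * ∏ i, f i ^ (e i % d)
          rw [← Finset.prod_mul_distrib]
          refine Finset.prod_congr rfl fun i _ => ?_
          rw [← pow_mul, ← pow_add, Nat.div_add_mod]
        have hdvd : d ∣ wt deg (fun i => e i % d) := by
          have h1 : wt deg e = d * (∑ i, (e i / d) * deg i) + wt deg (fun i => e i % d) := by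
            show ∑ i, e i * deg i = d * ∑ i, (e i / d) * deg i + ∑ i, (e i % d) * deg i
            rw [Finset.mul_sum, ← Finset.sum_add_distrib]
            refine Finset.sum_congr rfl fun i _ => ?_
            rw [← mul_assoc, ← add_mul, Nat.div_add_mod]
          have h2 : d ∣ wt deg e := ⟨n, by rw [hw, mul_comm]⟩
          rw [h1] at h2
          exact (Nat.dvd_add_right (Dvd.intro _ rfl)).1 h2
        let r : Fin s → Fin d := fun i => ⟨e i % d, Nat.mod_lt _ hd⟩
        have hr : φ (bR r) = mon f (fun i => e i % d) := hbR r hdvd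
        refine ⟨c' * ((∏ i, bI i ^ (e i / d)) * bR r), ?_, ?_⟩
        · exact Subalgebra.mul_mem _ (hzero_mem c' hc') (Subalgebra.mul_mem _
            (Subalgebra.prod_mem _ fun i _ => Subalgebra.pow_mem _ (hbI_mem i) _) (hbR_mem r))
        · rw [map_mul, map_mul, map_prod, hcc, hr, hmon]
          congr 2
          exact Finset.prod_congr rfl fun i _ => by rw [map_pow, hbI]
      | zero => exact ⟨0, Subalgebra.zero_mem _, map_zero φ⟩
      | add y z _ _ hy hz =>
        obtain ⟨b1, h1, rfl⟩ := hy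
        obtain ⟨b2, h2, rfl⟩ := hz
        exact ⟨b1 + b2, Subalgebra.add_mem _ h1 h2, map_add φ _ _⟩
      | smul r y _ hy =>
        obtain ⟨b1, h1, rfl⟩ := hy
        refine ⟨r • b1, ?_, map_smul φ r b1⟩
        rw [Algebra.smul_def]
        exact Subalgebra.mul_mem _ (hzero_mem _ (SetLike.algebraMap_mem_graded ℬ r)) h1
    obtain ⟨b', hb', hbb⟩ := hp (φ b) hspan
    rwa [hφ hbb] at hb'
  rw [eq_top_iff]
  intro b _
  rw [← DirectSum.sum_support_decompose ℬ b]
  exact Subalgebra.sum_mem _ fun n _ => key n _ (SetLike.coe_mem _)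

end Groth.Agent.S4411
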