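import Groth.Statements.S4412
import Mathlib
-- import your own Groth.Agent.* helpers here

set_option autoImplicit false
universe u
open EGA2

namespace Groth.Agent.S4412
open DirectSum

section
variable {R A : Type*} [CommRing R] [CommRing A] [Algebra R A] (𝒜 : ℕ → Submodule R A) [GradedAlgebra 𝒜]

/-- projection onto degrees divisible by d -/
noncomputable def ρ (d : ℕ) : A →+ A :=
  (DirectSum.toAddMonoid (fun i : ℕ => if d ∣ i then (𝒜 i).subtype.toAddMonoidHom else 0)).comp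
    (DirectSum.decomposeAddEquiv 𝒜).toAddMonoidHom

theorem ρ_of_mem (d : ℕ) {i : ℕ} {a : A} (ha : a ∈ 𝒜 i) : ρ 𝒜 d a = if d ∣ i then a else 0 := by
  unfold ρ
  rw [AddMonoidHom.comp_apply]
  show DirectSum.toAddMonoid _ (DirectSum.decompose 𝒜 a) = _
  rw [DirectSum.decompose_of_mem 𝒜 ha, DirectSum.toAddMonoid_of]
  beta_reduce
  split_ifs with h
  · rfl
  · rfl

variable {B : Type*} [CommRing B] [Algebra R B] (ℬ : ℕ → Submodule R B) [GradedAlgebra ℬ]
    (d : ℕ) (φ : B →ₐ[R] A)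
    (hdeg : ∀ n : ℕ, Submodule.map φ.toLinearMap (ℬ n) = 𝒜 (n * d))

include hdeg in
theorem ρ_mem_range (a : A) : ∃ b : B, ρ 𝒜 d a = φ b := by
  refine DirectSum.Decomposition.inductionOn 𝒜 (motive := fun a => ∃ b : B, ρ 𝒜 d a = φ b)
    ?_ ?_ ?_ a
  · exact ⟨0, by rw [map_zero, map_zero]⟩
  · intro i a
    rw [ρ_of_mem 𝒜 d a.2]
    split_ifs with h
    · obtain ⟨n, rfl⟩ := h
      have h1 : (a : A) ∈ Submodule.map φ.toLinearMap (ℬ n) := by
        rw [hdeg n, mul_comm]; exact a.2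
      obtain ⟨b, _, hb⟩ := Submodule.mem_map.mp h1
      exact ⟨b, hb.symm⟩
    · exact ⟨0, (map_zero φ).symm⟩
  · rintro a a' ⟨b, hb⟩ ⟨b', hb'⟩
    exact ⟨b + b', by rw [map_add, map_add, hb, hb']⟩

include hdeg in
theorem ρ_φ (y : B) : ρ 𝒜 d (φ y) = φ y := by
  refine DirectSum.Decomposition.inductionOn ℬ (motive := fun y => ρ 𝒜 d (φ y) = φ y) ?_ ?_ ?_ y
  · rw [map_zero, map_zero]
  · intro n y
    have hy : φ (y : B) ∈ 𝒜 (n * d) := by
      rw [← hdeg n]; exact Submodule.mem_map_of_mem y.2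
    rw [ρ_of_mem 𝒜 d hy, if_pos (dvd_mul_left d n)]
  · intro y y' h h'
    rw [map_add, map_add, h, h']

include hdeg in
theorem ρ_mul_φ (a : A) (y : B) : ρ 𝒜 d (a * φ y) = ρ 𝒜 d a * φ y := by
  refine DirectSum.Decomposition.inductionOn 𝒜
    (motive := fun a => ∀ y : B, ρ 𝒜 d (a * φ y) = ρ 𝒜 d a * φ y) ?_ ?_ ?_ a y
  · intro y; rw [zero_mul, map_zero, zero_mul]
  · intro i a y
    refine DirectSum.Decomposition.inductionOn ℬ
      (motive := fun y => ρ 𝒜 d ((a : A) * φ y) = ρ 𝒜 d a * φ y) ?_ ?_ ?_ y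
    · rw [map_zero, mul_zero, map_zero, mul_zero]
    · intro n y
      have hy : φ (y : B) ∈ 𝒜 (n * d) := by
        rw [← hdeg n]; exact Submodule.mem_map_of_mem y.2
      have hay : (a : A) * φ (y : B) ∈ 𝒜 (i + n * d) := SetLike.mul_mem_graded a.2 hy
      rw [ρ_of_mem 𝒜 d hay, ρ_of_mem 𝒜 d a.2]
      have hiff : d ∣ i + n * d ↔ d ∣ i := by
        rw [add_comm]; exact (Nat.dvd_add_iff_right (dvd_mul_left d n)).symm
      by_cases h : d ∣ i
      · rw [if_pos h, if_pos (hiff.mpr h)]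
      · rw [if_neg h, if_neg (fun h' => h (hiff.mp h')), zero_mul]
    · intro y y' h h'
      rw [map_add, mul_add, map_add, h, h', mul_add]
  · intro a a' h h' y
    rw [add_mul, map_add, h y, h' y, map_add, add_mul]

end


/-- Let S be a ring graded in nonnegative degrees which is Noetherian, d > 0, and S^{(d)} the graded
ring with degree-n part S_{nd} (given as a graded ring S' with an injective algebra homomorphism φ :
S' → S carrying S'_n onto S_{nd} for every n). Then S^{(d)} is Noetherian. -/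
theorem result {R A : Type u} [CommRing R] [CommRing A] [Algebra R A] (𝒜 : ℕ → Submodule R A) [GradedAlgebra 𝒜] [IsNoetherianRing A]
    {B : Type u} [CommRing B] [Algebra R B] (ℬ : ℕ → Submodule R B) [GradedAlgebra ℬ]
    (d : ℕ) (hd : 0 < d) (φ : B →ₐ[R] A) (hφ : Function.Injective φ)
    (hdeg : ∀ n : ℕ, Submodule.map φ.toLinearMap (ℬ n) = 𝒜 (n * d)) :
    IsNoetherianRing B := by
  have key : ∀ J : Ideal B, (J.map φ).comap φ = J := by
    intro J
    refine le_antisymm ?_ Ideal.le_comap_map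
    intro y hy
    rw [Ideal.mem_comap] at hy
    have hP : ∀ x ∈ J.map φ, ∀ a : A, ∃ j ∈ J, ρ 𝒜 d (a * x) = φ j := by
      intro x hx
      refine Submodule.span_induction
        (p := fun x _ => ∀ a : A, ∃ j ∈ J, ρ 𝒜 d (a * x) = φ j) ?_ ?_ ?_ ?_ hx
      · rintro x ⟨j₀, hj₀, rfl⟩ a
        obtain ⟨b, hb⟩ := ρ_mem_range 𝒜 ℬ d φ hdeg a
        refine ⟨b * j₀, J.mul_mem_left b hj₀, ?_⟩
        rw [ρ_mul_φ 𝒜 ℬ d φ hdeg, hb, map_mul]
      · intro a
        exact ⟨0, J.zero_mem, by rw [mul_zero, map_zero, map_zero]⟩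
      · intro x x' _ _ h h' a
        obtain ⟨j, hj, e⟩ := h a
        obtain ⟨j', hj', e'⟩ := h' a
        exact ⟨j + j', J.add_mem hj hj', by rw [mul_add, map_add, e, e', map_add]⟩
      · intro c x _ h a
        obtain ⟨j, hj, e⟩ := h (a * c)
        exact ⟨j, hj, by rw [smul_eq_mul, ← mul_assoc]; exact e⟩
    obtain ⟨j, hj, e⟩ := hP _ hy 1
    rw [one_mul, ρ_φ 𝒜 ℬ d φ hdeg] at e
    rw [hφ e]; exact hj
  haveI : WellFoundedGT (Ideal A) := isNoetherian_iff'.mp (inferInstance : IsNoetherian A A)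
  rw [isNoetherianRing_iff, isNoetherian_iff']
  have hmono : StrictMono (Ideal.map φ : Ideal B → Ideal A) := by
    apply Monotone.strictMono_of_injective
    · exact fun I J h => Ideal.map_mono h
    · intro I J h
      rw [← key I, ← key J]
      exact congrArg (Ideal.comap φ) h
  exact hmono.wellFoundedGT

end Groth.Agent.S4412
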