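import Groth.Statements.S4429
import Mathlib
-- import your own Groth.Agent.* helpers here

set_option autoImplicit false
universe u
open EGA2

namespace Groth.Agent.S4429
open scoped TensorProduct


/-- For an integral domain A with fraction field K, a finitely generated A-module E and an endomorphism
u of E, the coefficients of the characteristic polynomial of u ⊗ 1 acting on the K-vector space K
⊗_A E (the elementary symmetric functions of u, among them its trace and determinant) are integral
over A. -/
theorem result (A : Type u) [CommRing A] [IsDomain A] (K : Type u) [Field K]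
    [Algebra A K] [IsFractionRing A K] (E : Type u) [AddCommGroup E] [Module A E] [Module.Finite A E]
    (u : E →ₗ[A] E) (i : ℕ) :
    IsIntegral A (((u.baseChange K).charpoly).coeff i) := by
  classical
  obtain ⟨p, hpm, hp⟩ := LinearMap.exists_monic_and_aeval_eq_zero A u
  let L := AlgebraicClosure K
  let F : Module.End K (K ⊗[A] E) := u.baseChange K
  let FL : Module.End L (L ⊗[K] (K ⊗[A] E)) := F.baseChange L
  have hF : Polynomial.aeval F p = 0 := by
    have h1 := Polynomial.aeval_algHom_apply (Module.End.baseChangeHom A K E) u p
    rw [hp, map_zero] at h1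
    exact h1
  have hF' : Polynomial.aeval F (p.map (algebraMap A K)) = 0 := by
    rw [Polynomial.aeval_map_algebraMap]; exact hF
  have hFL : Polynomial.aeval FL (p.map (algebraMap A K)) = 0 := by
    have h1 := Polynomial.aeval_algHom_apply (Module.End.baseChangeHom K L (K ⊗[A] E)) F
      (p.map (algebraMap A K))
    rw [hF', map_zero] at h1
    exact h1
  have hFL' : Polynomial.aeval FL ((p.map (algebraMap A K)).map (algebraMap K L)) = 0 := by
    rw [Polynomial.aeval_map_algebraMap]; exact hFL
  have hpL : (p.map (algebraMap A K)).map (algebraMap K L) = p.map (algebraMap A L) := by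
    rw [Polynomial.map_map, ← IsScalarTower.algebraMap_eq]
  have hroot : ∀ μ : L, (F.charpoly.map (algebraMap K L)).IsRoot μ → IsIntegral A μ := by
    intro μ hμ
    rw [← LinearMap.charpoly_baseChange] at hμ
    have hev : FL.HasEigenvalue μ := (Module.End.hasEigenvalue_iff_isRoot_charpoly FL μ).2 hμ
    obtain ⟨v, hv⟩ := hev.exists_hasEigenvector
    have h2 := Module.End.aeval_apply_of_hasEigenvector
      (p := (p.map (algebraMap A K)).map (algebraMap K L)) hv
    rw [hFL', LinearMap.zero_apply] at h2
    have h3 : ((p.map (algebraMap A K)).map (algebraMap K L)).eval μ = 0 := by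
      rcases smul_eq_zero.1 h2.symm with h | h
      · exact h
      · exact absurd h hv.2
    rw [hpL, Polynomial.eval_map] at h3
    exact ⟨p, hpm, h3⟩
  have hsplit : (F.charpoly.map (algebraMap K L)).Splits := IsAlgClosed.splits _
  have hmonic : (F.charpoly.map (algebraMap K L)).Monic := (LinearMap.charpoly_monic F).map _
  have hlift := hsplit.mem_lift_of_roots_mem_range hmonic (algebraMap (integralClosure A L) L) (by
    intro μ hμ
    have := hroot μ (Polynomial.isRoot_of_mem_roots hμ)
    exact ⟨⟨μ, this⟩, rfl⟩)
  obtain ⟨c, hc⟩ := (Polynomial.lifts_iff_coeff_lifts _).1 hlift i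
  have hint : IsIntegral A ((F.charpoly.map (algebraMap K L)).coeff i) := by
    rw [← hc]; exact c.2
  rw [Polynomial.coeff_map] at hint
  exact (isIntegral_algebraMap_iff (algebraMap K L).injective).1 hint

end Groth.Agent.S4429
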