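import Groth.Statements.S4430
import Mathlib

set_option autoImplicit false
universe u
open EGA2

namespace Groth.Agent.S4430


open TensorProduct in
theorem BC {R S M : Type*} [CommRing R] [CommRing S] [Algebra R S] [AddCommGroup M] [Module R M]
    (f : Module.End R M) (P : Polynomial R) (h : Polynomial.aeval f P = 0) :
    Polynomial.aeval (f.baseChange S) (P.map (algebraMap R S)) = 0 := by
  rw [Polynomial.aeval_map_algebraMap]
  have h1 := Polynomial.aeval_algHom_apply (Module.End.baseChangeHom R S M) f P
  rw [h, map_zero] at h1
  exact h1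

open TensorProduct in
theorem detIntegral {A K V : Type*} [CommRing A] [Field K] [Algebra A K] [AddCommGroup V]
    [Module K V] [FiniteDimensional K V] (f : Module.End K V) (P : Polynomial A) (hP : P.Monic)
    (h0 : Polynomial.aeval f (P.map (algebraMap A K)) = 0) : IsIntegral A (LinearMap.det f) := by
  classical
  have hg0 : Polynomial.aeval (f.baseChange (AlgebraicClosure K))
      ((P.map (algebraMap A K)).map (algebraMap K (AlgebraicClosure K))) = 0 := BC f _ h0
  have hsplit : (f.baseChange (AlgebraicClosure K)).charpoly.Splits := IsAlgClosed.splits _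
  have hdetg : LinearMap.det (f.baseChange (AlgebraicClosure K)) =
      ((f.baseChange (AlgebraicClosure K)).charpoly.roots).prod :=
    Module.End.det_eq_prod_roots_charpoly_of_splits hsplit
  have hroot : ∀ μ ∈ (f.baseChange (AlgebraicClosure K)).charpoly.roots, IsIntegral A μ := by
    intro μ hμ
    have hr : (f.baseChange (AlgebraicClosure K)).charpoly.IsRoot μ :=
      (Polynomial.mem_roots ((f.baseChange (AlgebraicClosure K)).charpoly_monic.ne_zero)).1 hμ
    have hev : Module.End.HasEigenvalue (f.baseChange (AlgebraicClosure K)) μ :=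
      (Module.End.hasEigenvalue_iff_isRoot_charpoly _ μ).2 hr
    obtain ⟨v, hv⟩ := hev.exists_hasEigenvector
    have h1 := Module.End.aeval_apply_of_hasEigenvector
      (p := (P.map (algebraMap A K)).map (algebraMap K (AlgebraicClosure K))) hv
    rw [hg0, LinearMap.zero_apply] at h1
    have h2 : ((P.map (algebraMap A K)).map (algebraMap K (AlgebraicClosure K))).eval μ = 0 := by
      rcases smul_eq_zero.1 h1.symm with h | h
      · exact h
      · exact absurd h hv.2
    refine ⟨P, hP, ?_⟩
    rw [Polynomial.map_map, ← IsScalarTower.algebraMap_eq, Polynomial.eval_map] at h2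
    exact h2
  have hprod : IsIntegral A ((f.baseChange (AlgebraicClosure K)).charpoly.roots).prod :=
    IsIntegral.multiset_prod hroot
  have h3 : IsIntegral A (algebraMap K (AlgebraicClosure K) (LinearMap.det f)) := by
    rw [← LinearMap.det_baseChange, hdetg]; exact hprod
  exact (isIntegral_algebraMap_iff (algebraMap K (AlgebraicClosure K)).injective).1 h3

theorem unit_of_inv_integral {A K : Type*} [CommRing A] [Field K] [Algebra A K]
    (hinj : Function.Injective (algebraMap A K)) (a : A) (d : K)
    (had : algebraMap A K a * d = 1) (hd : IsIntegral A d) : IsUnit a := by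
  obtain ⟨Q, hQm, hQ0⟩ := hd
  have hQ1 : ∑ i ∈ Finset.range Q.natDegree, algebraMap A K (Q.coeff i) * d ^ i
      + d ^ Q.natDegree = 0 := by
    have h := hQ0
    rw [Polynomial.eval₂_eq_sum_range, Finset.sum_range_succ, hQm.coeff_natDegree, map_one,
      one_mul] at h
    exact h
  generalize Q.natDegree = n at hQ1
  have key : algebraMap A K (a * (∑ i ∈ Finset.range n, Q.coeff i * a ^ (n - 1 - i)) + 1) = 0 := by
    rw [map_add, map_mul, map_sum, map_one]
    simp only [map_mul, map_pow]
    have h1 : (∑ i ∈ Finset.range n, algebraMap A K (Q.coeff i) * d ^ i + d ^ n) *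
        (algebraMap A K a) ^ n = 0 := by
      rw [hQ1, zero_mul]
    rw [add_mul, Finset.sum_mul, ← mul_pow, mul_comm d, had, one_pow] at h1
    refine Eq.trans ?_ h1
    rw [Finset.mul_sum]
    congr 1
    apply Finset.sum_congr rfl
    intro i hi
    have hi' : i < n := Finset.mem_range.1 hi
    have e1 : (algebraMap A K a) ^ n =
        (algebraMap A K a) ^ i * ((algebraMap A K a) * (algebraMap A K a) ^ (n - 1 - i)) := by
      have hn : n = i + (1 + (n - 1 - i)) := by omega
      conv_lhs => rw [hn]
      rw [pow_add, pow_add, pow_one]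
    have e2 : d ^ i * (algebraMap A K a) ^ i = 1 := by
      rw [← mul_pow, mul_comm, had, one_pow]
    rw [e1]
    have e3 : algebraMap A K (Q.coeff i) * d ^ i *
        ((algebraMap A K a) ^ i * ((algebraMap A K a) * (algebraMap A K a) ^ (n - 1 - i))) =
        (d ^ i * (algebraMap A K a) ^ i) *
          ((algebraMap A K a) * (algebraMap A K (Q.coeff i) * (algebraMap A K a) ^ (n - 1 - i))) := by
      ring
    rw [e3, e2, one_mul]
  have h2 : a * (∑ i ∈ Finset.range n, Q.coeff i * a ^ (n - 1 - i)) + 1 = 0 :=
    hinj (by rw [key, map_zero])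
  exact isUnit_iff_exists_inv.2
    ⟨-(∑ i ∈ Finset.range n, Q.coeff i * a ^ (n - 1 - i)), by linear_combination (-1 : A) * h2⟩


/-- Let A be an integral domain with fraction field K, E a finitely generated A-module and u an
endomorphism of E whose characteristic-polynomial coefficients (those of u ⊗ 1 on K ⊗_A E) all lie
in A. If u is an automorphism of E, then its determinant, as an element of A, is invertible in A. -/
theorem result (A : Type u) [CommRing A] [IsDomain A] (K : Type u) [Field K]
    [Algebra A K] [IsFractionRing A K] (E : Type u) [AddCommGroup E] [Module A E] [Module.Finite A E]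
    (u : E →ₗ[A] E) (hcoeff : ∀ i : ℕ, ((u.baseChange K).charpoly).coeff i ∈ (algebraMap A K).range)
    (a : A) (ha : algebraMap A K a = LinearMap.det (u.baseChange K)) (hu : Function.Bijective u) :
    IsUnit a := by
  classical
  have huw : u ∘ₗ ((LinearEquiv.ofBijective u hu).symm : E →ₗ[A] E) = LinearMap.id := by
    ext x
    exact (LinearEquiv.ofBijective u hu).apply_symm_apply x
  have hdet : LinearMap.det (u.baseChange K) *
      LinearMap.det ((((LinearEquiv.ofBijective u hu).symm : E →ₗ[A] E)).baseChange K) = 1 := by
    rw [← LinearMap.det_comp, ← LinearMap.baseChange_comp, huw, LinearMap.baseChange_id,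
      LinearMap.det_id]
  obtain ⟨P, hPm, hP0⟩ := LinearMap.exists_monic_and_aeval_eq_zero A
    (((LinearEquiv.ofBijective u hu).symm : E →ₗ[A] E))
  have hint : IsIntegral A
      (LinearMap.det ((((LinearEquiv.ofBijective u hu).symm : E →ₗ[A] E)).baseChange K)) :=
    detIntegral _ P hPm (BC _ P hP0)
  exact unit_of_inv_integral (IsFractionRing.injective A K) a _ (by rw [ha]; exact hdet) hint

end Groth.Agent.S4430
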