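import Groth.Statements.S4431
import Mathlib
-- import your own Groth.Agent.* helpers here

set_option autoImplicit false
universe u
open EGA2

namespace Groth.Agent.S4431



/-- Let A be an integral domain with fraction field K, E a finitely generated torsion-free A-module and
u an endomorphism of E whose characteristic-polynomial coefficients (those of u ⊗ 1 on K ⊗_A E) all
lie in A. If the determinant of u is the image of a unit of A, then u is an automorphism of E. -/
theorem result (A : Type u) [CommRing A] [IsDomain A] (K : Type u) [Field K]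
    [Algebra A K] [IsFractionRing A K] (E : Type u) [AddCommGroup E] [Module A E] [Module.Finite A E]
    [Module.IsTorsionFree A E]
    (u : E →ₗ[A] E) (hcoeff : ∀ i : ℕ, ((u.baseChange K).charpoly).coeff i ∈ (algebraMap A K).range)
    (a : A) (ha : algebraMap A K a = LinearMap.det (u.baseChange K)) (hunit : IsUnit a) :
    Function.Bijective u := by
  classical
  obtain ⟨P, hP⟩ := (Polynomial.mem_lifts _).mp
    ((Polynomial.lifts_iff_coeff_lifts ((u.baseChange K).charpoly)).mpr
      (fun i => RingHom.mem_range.mp (hcoeff i)))
  have h1 : (Polynomial.aeval u P).baseChange K = 0 := by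
    have e1 : (Polynomial.aeval u P).baseChange K
        = Polynomial.aeval (u.baseChange K) P :=
      (Polynomial.aeval_algHom_apply (Module.End.baseChangeHom A K E) u P).symm
    rw [e1, ← Polynomial.aeval_map_algebraMap K (u.baseChange K) P, hP]
    exact LinearMap.aeval_self_charpoly (u.baseChange K)
  have hloc : IsLocalizedModule (nonZeroDivisors A) (TensorProduct.mk A K E 1) :=
    (isLocalizedModule_iff_isBaseChange (nonZeroDivisors A) K _).mpr
      (TensorProduct.isBaseChange A E K)
  have hinj : ∀ e : E, (1 : K) ⊗ₜ[A] e = 0 → e = 0 := by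
    intro e he
    obtain ⟨s, hs⟩ := (IsLocalizedModule.eq_zero_iff (nonZeroDivisors A)
      (TensorProduct.mk A K E 1)).mp he
    have hs0 : (s : A) ≠ 0 := nonZeroDivisors.ne_zero s.2
    exact (smul_eq_zero_iff_right hs0).mp hs
  have hPu : Polynomial.aeval u P = 0 := by
    apply LinearMap.ext
    intro e
    apply hinj
    have := LinearMap.congr_fun h1 ((1 : K) ⊗ₜ[A] e)
    rwa [LinearMap.baseChange_tmul, LinearMap.zero_apply] at this
  have hc : algebraMap A K (P.coeff 0)
      = (-1) ^ Module.finrank K (TensorProduct A K E) * algebraMap A K a := by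
    have h2 := LinearMap.det_eq_sign_charpoly_coeff (u.baseChange K)
    rw [← hP, Polynomial.coeff_map, ← ha] at h2
    rw [h2, ← mul_assoc, ← mul_pow]
    norm_num
  have hc' : P.coeff 0 = (-1) ^ Module.finrank K (TensorProduct A K E) * a := by
    apply IsFractionRing.injective A K
    rw [hc]
    simp
  have hcu : IsUnit (P.coeff 0) := by
    rw [hc']
    exact ((isUnit_one.neg).pow _).mul hunit
  obtain ⟨c, hc2⟩ := hcu
  have hdec : Polynomial.aeval u P.divX * u + algebraMap A (Module.End A E) (P.coeff 0) = 0 := by
    have := congrArg (Polynomial.aeval u) (Polynomial.divX_mul_X_add P)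
    rw [map_add, map_mul, Polynomial.aeval_X, Polynomial.aeval_C, hPu] at this
    exact this
  have hcomm : u * Polynomial.aeval u P.divX = Polynomial.aeval u P.divX * u := by
    have := congrArg (Polynomial.aeval u) (mul_comm Polynomial.X P.divX)
    rwa [map_mul, map_mul, Polynomial.aeval_X] at this
  have hE1 : ∀ e : E, (Polynomial.aeval u P.divX) (u e) + (P.coeff 0) • e = 0 := by
    intro e
    have := LinearMap.congr_fun hdec e
    simpa [Module.algebraMap_end_apply] using this
  have hE2 : ∀ e : E, u ((Polynomial.aeval u P.divX) e) + (P.coeff 0) • e = 0 := by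
    intro e
    have h3 : u ((Polynomial.aeval u P.divX) e) = (Polynomial.aeval u P.divX) (u e) :=
      LinearMap.congr_fun hcomm e
    rw [h3]
    exact hE1 e
  constructor
  · rw [injective_iff_map_eq_zero]
    intro e he
    have h4 := hE1 e
    rw [he, map_zero, zero_add, ← hc2] at h4
    have h5 : ((c⁻¹ : Aˣ) : A) • ((c : A) • e) = 0 := by rw [h4, smul_zero]
    rwa [smul_smul, Units.inv_mul, one_smul] at h5
  · intro y
    refine ⟨-(((c⁻¹ : Aˣ) : A) • (Polynomial.aeval u P.divX) y), ?_⟩
    have h5 := hE2 y
    rw [← hc2] at h5
    have h6 : u ((Polynomial.aeval u P.divX) y) = -((c : A) • y) :=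
      eq_neg_of_add_eq_zero_left h5
    rw [map_neg, map_smul, h6, smul_neg, neg_neg, smul_smul, Units.inv_mul, one_smul]

end Groth.Agent.S4431
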