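import Groth.Statements.S4433
import Mathlib
import Groth.Agent.Lib.helper1.DVRDom

set_option autoImplicit false
universe u
open EGA2

namespace Groth.Agent.S4433

/-- Let A be a Noetherian local domain that is not a field, K its field of fractions and L a finitely
generated field extension of K. Then there is a discrete valuation subring of L, with fraction field
L, which contains the image of A and dominates A (elements of the maximal ideal of A have valuation
less than one). -/
theorem result (A : Type u) [CommRing A] [IsDomain A] [IsNoetherianRing A]
    [IsLocalRing A] (hA : ¬ IsField A) (K : Type u) [Field K] [Algebra A K] [IsFractionRing A K]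
    (L : Type u) [Field L] [Algebra K L] [Algebra A L] [IsScalarTower A K L] (hfg : (⊤ : IntermediateField K L).FG) :
    ∃ R : ValuationSubring L, IsDiscreteValuationRing R ∧ (∀ a : A, algebraMap A L a ∈ R) ∧
      ∀ a ∈ IsLocalRing.maximalIdeal A, R.valuation (algebraMap A L a) < 1 := by
  obtain ⟨S, hS⟩ := hfg
  have hinj : Function.Injective (algebraMap A L) := by
    rw [IsScalarTower.algebraMap_eq A K L]
    exact (algebraMap K L).injective.comp (IsFractionRing.injective A K)
  have hI : IsLocalRing.maximalIdeal A ≠ ⊤ := Ideal.IsPrime.ne_top'
  have hI0 : IsLocalRing.maximalIdeal A ≠ ⊥ :=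
    fun h => hA (IsLocalRing.isField_iff_maximalIdeal_eq.mpr h)
  exact Helper1.DVRDom.exists_dvr hinj S
    (fun C hC z => Helper1.DVRDom.exists_frac (A := A) (K := K) (B := A) (↑S : Set L) hS C hC z)
    (IsLocalRing.maximalIdeal A) hI hI0

end Groth.Agent.S4433
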