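import Groth.Statements.S4434
import Mathlib
import Groth.Agent.Lib.helper1.DVRDom

set_option autoImplicit false
universe u
open EGA2

namespace Groth.Agent.S4434

/-- Let A be a Noetherian domain with field of fractions K and L a finitely generated field extension of
K. The integral closure of A in L is the intersection of the discrete valuation subrings of L (with
fraction field L) containing the image of A: an element of L is integral over A exactly when it
belongs to all of them. -/
theorem result (A : Type u) [CommRing A] [IsDomain A] [IsNoetherianRing A]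
    (K : Type u) [Field K] [Algebra A K] [IsFractionRing A K]
    (L : Type u) [Field L] [Algebra K L] [Algebra A L] [IsScalarTower A K L] (hfg : (⊤ : IntermediateField K L).FG) (x : L) :
    IsIntegral A x ↔ ∀ R : ValuationSubring L, IsDiscreteValuationRing R → (∀ a : A, algebraMap A L a ∈ R) → x ∈ R := by
  obtain ⟨S, hS⟩ := hfg
  constructor
  · intro hx R _ hAR
    letI : Algebra A ↥R := ((algebraMap A L).codRestrict R.toSubring hAR).toAlgebra
    haveI : IsScalarTower A ↥R L := IsScalarTower.of_algebraMap_eq (fun a => rfl)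
    have h1 : IsIntegral ↥R x := hx.tower_top
    obtain ⟨y, hy⟩ := IsIntegrallyClosed.algebraMap_eq_of_integral h1
    rw [← hy]; exact y.2
  · intro hall
    by_contra hnotint
    have hx0 : x ≠ 0 := by rintro rfl; exact hnotint isIntegral_zero
    have hy0 : x⁻¹ ≠ 0 := inv_ne_zero hx0
    have hBfg : (Algebra.adjoin A ({x⁻¹} : Set L)).FG := by
      rw [← Finset.coe_singleton]; exact Subalgebra.fg_adjoin_finset _
    haveI : Algebra.FiniteType A ↥(Algebra.adjoin A ({x⁻¹} : Set L)) :=
      (Subalgebra.fg_iff_finiteType _).mp hBfg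
    haveI : IsNoetherianRing ↥(Algebra.adjoin A ({x⁻¹} : Set L)) :=
      Algebra.FiniteType.isNoetherianRing A _
    have hItop : Ideal.span {(⟨x⁻¹, Algebra.subset_adjoin rfl⟩ :
        ↥(Algebra.adjoin A ({x⁻¹} : Set L)))} ≠ ⊤ := by
      intro htop
      letI := invertibleOfNonzero hy0
      obtain ⟨P, hP, hPx⟩ :=
        Algebra.exists_aeval_invOf_eq_zero_of_idealMap_adjoin_sup_span_eq_top x⁻¹ (⊥ : Ideal A)
          bot_ne_top (top_unique (htop.ge.trans le_sup_right))
      apply hnotint
      refine ⟨P, ?_, ?_⟩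
      · rw [Ideal.mem_bot, sub_eq_zero] at hP; exact hP
      · rw [invOf_eq_inv, inv_inv] at hPx; rw [← Polynomial.aeval_def]; exact hPx
    have hIbot : Ideal.span {(⟨x⁻¹, Algebra.subset_adjoin rfl⟩ :
        ↥(Algebra.adjoin A ({x⁻¹} : Set L)))} ≠ ⊥ := by
      rw [Ne, Ideal.span_singleton_eq_bot]
      intro h
      exact hy0 (congrArg Subtype.val h)
    obtain ⟨R, hRdvr, hRB, hRI⟩ := Helper1.DVRDom.exists_dvr
      (B := ↥(Algebra.adjoin A ({x⁻¹} : Set L))) (L := L) (fun a b h => Subtype.ext h) S
      (fun C hC z => Helper1.DVRDom.exists_frac (A := A) (K := K)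
        (B := ↥(Algebra.adjoin A ({x⁻¹} : Set L))) (↑S : Set L) hS C hC z) _ hItop hIbot
    have hxR : x ∈ R := hall R hRdvr (fun a => hRB (algebraMap A _ a))
    have h1 : R.valuation x⁻¹ < 1 :=
      hRI ⟨x⁻¹, Algebra.subset_adjoin rfl⟩ (Ideal.subset_span rfl)
    have h2 : R.valuation x ≤ 1 := (R.valuation_le_one_iff x).mpr hxR
    have h3 : R.valuation x * R.valuation x⁻¹ = 1 := by
      rw [← map_mul, mul_inv_cancel₀ hx0, map_one]
    have h4 : R.valuation x * R.valuation x⁻¹ ≤ R.valuation x⁻¹ := mul_le_of_le_one_left' h2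
    rw [h3] at h4
    exact not_le.mpr h1 h4

end Groth.Agent.S4434
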