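import Groth.Statements.S4459
-- import your own Groth.Agent.* helpers here

set_option autoImplicit false
universe u
open Coherent

namespace Groth.Agent.S4459

open AlgebraicGeometry CategoryTheory in
/-- Let A be a Noetherian ring which is separated and complete for the J-adic topology, and let f : X →
Spec A be a morphism of schemes which is a closed map on underlying spaces. Then every open subset
of X containing the inverse image of V(J) is all of X. (The published statement also assumes X of
finite type over A; that hypothesis is not used.) -/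
theorem result (A : Type u) [CommRing A] [IsNoetherianRing A]
    (J : Ideal A) [IsAdicComplete J A] {X : Scheme.{u}} (f : X ⟶ Spec (CommRingCat.of A))
    (hf : IsClosedMap f.base) (U : X.Opens)
    (hU : f.base ⁻¹' (PrimeSpectrum.zeroLocus (J : Set A)) ⊆ (U : Set X)) : U = ⊤ := by
  have hJ := IsAdicComplete.le_jacobson_bot J (R := A)
  by_contra hne
  have hex : ∃ x : X, x ∉ U := by
    by_contra h
    push_neg at h
    exact hne (by ext x; simp [h x])
  obtain ⟨x, hx⟩ := hex
  have hcl : IsClosed (f.base '' ((U : Set X)ᶜ)) := hf _ U.2.isClosed_compl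
  obtain ⟨K, hK⟩ := (PrimeSpectrum.isClosed_iff_zeroLocus_ideal _).1 hcl
  have hKJ : K ⊔ J = ⊤ := by
    by_contra h
    obtain ⟨m, hm, hle⟩ := Ideal.exists_le_maximal _ h
    have hpK : (⟨m, hm.isPrime⟩ : PrimeSpectrum A) ∈ PrimeSpectrum.zeroLocus (K : Set A) :=
      fun a ha => hle (Ideal.mem_sup_left ha)
    rw [← hK] at hpK
    obtain ⟨y, hyU, hy⟩ := hpK
    have : y ∈ (U : Set X) := hU (by
      show f.base y ∈ PrimeSpectrum.zeroLocus (J : Set A)
      rw [hy]
      exact fun a ha => hle (Ideal.mem_sup_right ha))
    exact hyU this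
  have hKtop : K = ⊤ := by
    obtain ⟨k, hk, j, hj, hkj⟩ := Submodule.mem_sup.1 (hKJ ▸ Submodule.mem_top : (1 : A) ∈ K ⊔ J)
    have hu : IsUnit k := by
      have h1 := (Ideal.mem_jacobson_bot.1 (hJ hj)) (-1)
      have : j * (-1) + 1 = k := by linear_combination -hkj
      rwa [this] at h1
    exact Ideal.eq_top_of_isUnit_mem _ hk hu
  have hmem : f.base x ∈ PrimeSpectrum.zeroLocus (K : Set A) := by
    rw [← hK]; exact ⟨x, hx, rfl⟩
  rw [hKtop] at hmem
  simp at hmem
  exact hmem

end Groth.Agent.S4459
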