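import Groth.Statements.S4495
-- import your own Groth.Agent.* helpers here

set_option autoImplicit false
universe u
open FlatCx

namespace Groth.Agent.S4495

open CategoryTheory AlgebraicGeometry Opposite in
/-- A locally ringed space Z is connected, in the sense that it is not the disjoint union of two
nonempty open subsets (the empty space being allowed), if and only if every idempotent of the ring
of global sections Γ(Z, O_Z) is 0 or 1 (equivalently, Γ(Z, O_Z) is not isomorphic to a product of
two nonzero rings). -/
theorem result (Z : LocallyRingedSpace.{u}) :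
    PreconnectedSpace Z ↔
      ∀ e : Z.presheaf.obj (op ⊤), IsIdempotentElem e → e = 0 ∨ e = 1 := by
  constructor
  · intro hconn e he
    haveI := hconn
    have hdisj : Z.toRingedSpace.basicOpen e ⊓ Z.toRingedSpace.basicOpen (1 - e) = ⊥ := by
      rw [← RingedSpace.basicOpen_mul]
      have h0 : e * (1 - e) = 0 := by rw [mul_sub, mul_one, he.eq, sub_self]
      rw [h0]
      exact Z.basicOpen_zero ⊤
    have hcov : ∀ x : Z.toTopCat, x ∈ Z.toRingedSpace.basicOpen e ∨
        x ∈ Z.toRingedSpace.basicOpen (1 - e) := by
      intro x
      rw [RingedSpace.mem_top_basicOpen, RingedSpace.mem_top_basicOpen]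
      haveI : IsLocalRing (Z.toRingedSpace.presheaf.stalk x) := Z.isLocalRing x
      apply IsLocalRing.isUnit_or_isUnit_of_add_one
      rw [← map_add, add_sub_cancel, map_one]
    have hcompl : (((Z.toRingedSpace.basicOpen e).1 : Set Z.toTopCat))ᶜ =
        ((Z.toRingedSpace.basicOpen (1 - e)).1 : Set Z.toTopCat) := by
      ext x
      constructor
      · intro hx
        exact (hcov x).resolve_left hx
      · intro hx hx'
        have hmem : x ∈ Z.toRingedSpace.basicOpen e ⊓ Z.toRingedSpace.basicOpen (1 - e) :=
          ⟨hx', hx⟩
        rw [hdisj] at hmem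
        simpa using hmem
    have hclopen : IsClopen ((Z.toRingedSpace.basicOpen e).1 : Set Z.toTopCat) := by
      refine ⟨?_, (Z.toRingedSpace.basicOpen e).2⟩
      rw [← isOpen_compl_iff, hcompl]
      exact (Z.toRingedSpace.basicOpen (1 - e)).2
    have hunit : ∀ f : Z.presheaf.obj (op ⊤), IsIdempotentElem f →
        ((Z.toRingedSpace.basicOpen f).1 : Set Z.toTopCat) = Set.univ → f = 1 := by
      intro f hf h1
      have hu : IsUnit f := by
        apply Z.toRingedSpace.isUnit_of_isUnit_germ ⊤ f
        intro x hx
        have hxm : x ∈ Z.toRingedSpace.basicOpen f := by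
          have hx1 : x ∈ ((Z.toRingedSpace.basicOpen f).1 : Set Z.toTopCat) := by
            rw [h1]
            trivial
          exact hx1
        exact (Z.toRingedSpace.mem_basicOpen f x hx).mp hxm
      have h2 : f * f = f * 1 := by rw [mul_one]; exact hf.eq
      exact hu.mul_left_cancel h2
    rcases (@isClopen_iff _ _ hconn _).mp hclopen with h1 | h1
    · left
      have h2 : ((Z.toRingedSpace.basicOpen (1 - e)).1 : Set Z.toTopCat) = Set.univ := by
        rw [← hcompl, h1, Set.compl_empty]
      have := hunit (1 - e) he.one_sub h2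
      exact sub_eq_self.mp this
    · right
      exact hunit e he h1
  · intro h
    rw [preconnectedSpace_iff_clopen]
    intro s hs
    let F : TopCat.Sheaf CommRingCat Z.toTopCat := ⟨Z.presheaf, Z.IsSheaf⟩
    have hsub : ∀ (W : TopologicalSpace.Opens Z.toTopCat), W = ⊥ →
        ∀ a b : ToType (F.1.obj (op W)), a = b := by
      rintro W rfl a b
      exact F.eq_of_locally_eq' (fun i : Empty => i.elim) ⊥ (fun i => i.elim) bot_le a b
        (fun i => i.elim)
    let U : TopologicalSpace.Opens Z.toTopCat := ⟨s, hs.isOpen⟩
    let V : TopologicalSpace.Opens Z.toTopCat := ⟨sᶜ, hs.compl.isOpen⟩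
    let Ufam : Bool → TopologicalSpace.Opens Z.toTopCat := fun b => cond b U V
    let sf : ∀ b : Bool, ToType (F.1.obj (op (Ufam b))) := fun b =>
      match b with
      | true => (1 : Z.presheaf.obj (op U))
      | false => (0 : Z.presheaf.obj (op V))
    let iUV : ∀ b : Bool, Ufam b ⟶ (⊤ : TopologicalSpace.Opens Z.toTopCat) :=
      fun b => homOfLE le_top
    have hcompat : TopCat.Presheaf.IsCompatible F.1 Ufam sf := by
      intro i j
      cases i <;> cases j
      · rfl
      · refine hsub (Ufam false ⊓ Ufam true) ?_ _ _
        refine le_bot_iff.mp (fun x hx => ?_)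
        obtain ⟨h1, h2⟩ := hx
        exact absurd h2 h1
      · refine hsub (Ufam true ⊓ Ufam false) ?_ _ _
        refine le_bot_iff.mp (fun x hx => ?_)
        obtain ⟨h1, h2⟩ := hx
        exact absurd h1 h2
      · rfl
    have hcover : (⊤ : TopologicalSpace.Opens Z.toTopCat) ≤ iSup Ufam := by
      intro x _
      rw [TopologicalSpace.Opens.mem_iSup]
      by_cases hx : x ∈ s
      · exact ⟨true, hx⟩
      · exact ⟨false, hx⟩
    obtain ⟨e, he, -⟩ := F.existsUnique_gluing' Ufam ⊤ iUV hcover sf hcompat
    have hidem : IsIdempotentElem e := by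
      show e * e = e
      apply F.eq_of_locally_eq' Ufam ⊤ iUV hcover
      intro b
      rw [map_mul, he b]
      cases b
      · exact mul_zero _
      · exact mul_one _
    rcases h e hidem with h0 | h1
    · left
      by_contra hne
      obtain ⟨x, hx⟩ := Set.nonempty_iff_ne_empty.mpr hne
      haveI : Nontrivial (Z.presheaf.obj (op U)) :=
        @LocallyRingedSpace.component_nontrivial Z U ⟨⟨x, hx⟩⟩
      have h3 : F.1.map (iUV true).op e = (1 : Z.presheaf.obj (op U)) := he true
      rw [h0, map_zero] at h3
      exact (zero_ne_one (α := Z.presheaf.obj (op U))) h3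
    · right
      by_contra hne
      obtain ⟨x, hx⟩ : ∃ x, x ∉ s := by
        by_contra hall
        push Not at hall
        exact hne (Set.eq_univ_of_forall hall)
      haveI : Nontrivial (Z.presheaf.obj (op V)) :=
        @LocallyRingedSpace.component_nontrivial Z V ⟨⟨x, hx⟩⟩
      have h3 : F.1.map (iUV false).op e = (0 : Z.presheaf.obj (op V)) := he false
      rw [h1, map_one] at h3
      exact (one_ne_zero (α := Z.presheaf.obj (op V))) h3

end Groth.Agent.S4495
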