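import Groth.Statements.S4515
import Mathlib

set_option autoImplicit false
universe u
open EGA41

namespace Groth.Agent.S4515

/-- Let A be a ring, J an ideal of A, and M, N two A-modules which are Hausdorff for the J-adic
topology; suppose moreover that N is J-adically complete and M is flat. Let u : N → M be A-linear.
If the induced map N/JN → M/JM is bijective (surjectivity and injectivity written out below), then u
is bijective. -/
theorem result {A : Type u} [CommRing A] (J : Ideal A)
    {M N : Type u} [AddCommGroup M] [Module A M] [AddCommGroup N] [Module A N]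
    [IsHausdorff J M] [IsAdicComplete J N] [Module.Flat A M] (u : N →ₗ[A] M)
    (hsurj : ∀ m : M, ∃ n : N, m - u n ∈ (J • ⊤ : Submodule A M))
    (hinj : ∀ n : N, u n ∈ (J • ⊤ : Submodule A M) → n ∈ (J • ⊤ : Submodule A N)) :
    Function.Bijective u := by
  classical
  have hmapsmul : ∀ (k : ℕ) (x : N), x ∈ (J ^ k • ⊤ : Submodule A N) →
      u x ∈ (J ^ k • ⊤ : Submodule A M) := by
    intro k x hx
    have h1 : u x ∈ ((J ^ k • ⊤ : Submodule A N)).map u := Submodule.mem_map_of_mem hx
    rw [Submodule.map_smul''] at h1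
    exact Submodule.smul_mono le_rfl le_top h1
  have hpowle : ∀ {a b : ℕ}, a ≤ b → ∀ (P : Type u) [AddCommGroup P] [Module A P],
      (J ^ b • ⊤ : Submodule A P) ≤ J ^ a • ⊤ := by
    intro a b hab P _ _
    exact Submodule.smul_mono_left (Ideal.pow_le_pow_right hab)
  -- surjectivity
  have claim : ∀ (k : ℕ) (r : M), r ∈ (J ^ k • ⊤ : Submodule A M) →
      ∃ t : N, t ∈ (J ^ k • ⊤ : Submodule A N) ∧ r - u t ∈ (J ^ (k + 1) • ⊤ : Submodule A M) := by
    intro k r hr
    refine Submodule.smul_induction_on hr ?_ ?_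
    · intro a ha m' _
      obtain ⟨n', hn'⟩ := hsurj m'
      refine ⟨a • n', Submodule.smul_mem_smul ha Submodule.mem_top, ?_⟩
      have h1 : a • m' - u (a • n') = a • (m' - u n') := by rw [map_smul, smul_sub]
      rw [h1, pow_succ, Submodule.mul_smul]
      exact Submodule.smul_mem_smul ha hn'
    · rintro x y ⟨t₁, ht₁, h₁⟩ ⟨t₂, ht₂, h₂⟩
      refine ⟨t₁ + t₂, add_mem ht₁ ht₂, ?_⟩
      have h1 : x + y - u (t₁ + t₂) = (x - u t₁) + (y - u t₂) := by rw [map_add]; abel
      rw [h1]
      exact add_mem h₁ h₂
  have hsurjective : Function.Surjective u := by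
    intro m
    obtain ⟨n₀, hn₀⟩ := hsurj m
    have step : ∀ (k : ℕ) (s : N), m - u s ∈ (J ^ (k + 1) • ⊤ : Submodule A M) →
        ∃ s' : N, s' - s ∈ (J ^ (k + 1) • ⊤ : Submodule A N) ∧
          m - u s' ∈ (J ^ (k + 2) • ⊤ : Submodule A M) := by
      intro k s hs
      obtain ⟨t, ht, hr⟩ := claim (k + 1) _ hs
      refine ⟨s + t, by simpa using ht, ?_⟩
      have h1 : m - u (s + t) = (m - u s) - u t := by rw [map_add]; abel
      rw [h1]
      exact hr
    choose! nxt hnxt1 hnxt2 using step
    let S : ℕ → N := fun k => Nat.rec n₀ (fun k s => nxt k s) k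
    have hS0 : S 0 = n₀ := rfl
    have hSs : ∀ k, S (k + 1) = nxt k (S k) := fun k => rfl
    have hSinv : ∀ k, m - u (S k) ∈ (J ^ (k + 1) • ⊤ : Submodule A M) := by
      intro k
      induction k with
      | zero => rw [hS0, zero_add, pow_one]; exact hn₀
      | succ k ih => rw [hSs]; exact hnxt2 k (S k) ih
    have hSdiff : ∀ k, S (k + 1) - S k ∈ (J ^ (k + 1) • ⊤ : Submodule A N) := fun k => by
      rw [hSs]; exact hnxt1 k (S k) (hSinv k)
    have hcauchy : ∀ {a b : ℕ}, a ≤ b → S a ≡ S b [SMOD (J ^ a • ⊤ : Submodule A N)] := by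
      intro a b hab
      induction b, hab using Nat.le_induction with
      | base => exact SModEq.rfl
      | succ b hab ih =>
        refine ih.trans ?_
        rw [SModEq.sub_mem]
        have h1 : S b - S (b + 1) = -(S (b + 1) - S b) := by abel
        rw [h1]
        exact neg_mem (hpowle (Nat.le_succ_of_le hab) N (hSdiff b))
    obtain ⟨L, hL⟩ := IsPrecomplete.prec' (I := J) S hcauchy
    refine ⟨L, ?_⟩
    have h0 : m - u L = 0 := by
      apply IsHausdorff.haus (I := J) inferInstance
      intro k
      rw [SModEq.sub_mem, sub_zero]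
      have h1 : m - u L = (m - u (S k)) + u (S k - L) := by rw [map_sub]; abel
      rw [h1]
      refine add_mem (hpowle (Nat.le_succ k) M (hSinv k)) (hmapsmul k _ ?_)
      exact SModEq.sub_mem.mp (hL k)
    exact (sub_eq_zero.mp h0).symm
  refine ⟨?_, hsurjective⟩
  -- injectivity
  have hK1 : LinearMap.ker u ≤ J • LinearMap.ker u := by
    intro x hx
    have hxJ : x ∈ (J • ⊤ : Submodule A N) := hinj x (by rw [LinearMap.mem_ker.mp hx]; exact zero_mem _)
    have hspan : (⊤ : Submodule A N) = Submodule.span A (Set.range (id : N → N)) := by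
      rw [Set.range_id, Submodule.span_univ]
    rw [hspan, Submodule.mem_ideal_smul_span_iff_exists_sum] at hxJ
    obtain ⟨a, ha, hsum⟩ := hxJ
    have hsum' : ∑ i : a.support, a i • (i : N) = x := by
      rw [← hsum, Finsupp.sum, ← Finset.sum_coe_sort a.support (fun i => a i • id i)]
      rfl
    have hrel : ∑ i : a.support, a i • u (i : N) = 0 := by
      have := congrArg u hsum'
      rw [map_sum, LinearMap.mem_ker.mp hx] at this
      simpa only [map_smul] using this
    obtain ⟨κ, c, y, hy1', hy2'⟩ := Module.Flat.isTrivialRelation_of_sum_smul_eq_zero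
      (R := A) (M := M) hrel
    have hy1 : ∀ i : a.support, u (i : N) = ∑ j, c i j • y j := hy1'
    have hy2 : ∀ j, ∑ i : a.support, a i * c i j = 0 := hy2'
    choose n' hn' using fun l => hsurjective (y l)
    have hk : ∀ i : a.support, (i : N) - ∑ l, c i l • n' l ∈ LinearMap.ker u := by
      intro i
      rw [LinearMap.mem_ker, map_sub, map_sum, hy1 i, sub_eq_zero]
      refine Finset.sum_congr rfl fun l _ => ?_
      rw [map_smul, hn']
    have hx' : x = ∑ i : a.support, a i • ((i : N) - ∑ l, c i l • n' l) := by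
      have h2 : ∑ i : a.support, a i • ∑ l, c i l • n' l = 0 := by
        simp_rw [Finset.smul_sum, smul_smul]
        rw [Finset.sum_comm]
        refine Finset.sum_eq_zero fun l _ => ?_
        rw [← Finset.sum_smul, hy2 l, zero_smul]
      simp_rw [smul_sub]
      rw [Finset.sum_sub_distrib, hsum', h2, sub_zero]
    rw [hx']
    exact Submodule.sum_mem _ fun i _ => Submodule.smul_mem_smul (ha i) (hk i)
  have hK2 : ∀ k : ℕ, LinearMap.ker u ≤ J ^ k • LinearMap.ker u := by
    intro k
    induction k with
    | zero => rw [pow_zero, Ideal.one_eq_top, Submodule.top_smul]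
    | succ k ih =>
      calc LinearMap.ker u ≤ J • LinearMap.ker u := hK1
        _ ≤ J • (J ^ k • LinearMap.ker u) := Submodule.smul_mono le_rfl ih
        _ = J ^ (k + 1) • LinearMap.ker u := by rw [pow_succ', Submodule.mul_smul]
  rw [← LinearMap.ker_eq_bot, eq_bot_iff]
  intro x hx
  rw [Submodule.mem_bot]
  apply IsHausdorff.haus (I := J) (M := N) inferInstance
  intro k
  rw [SModEq.sub_mem, sub_zero]
  exact Submodule.smul_mono le_rfl le_top (hK2 k hx)

end Groth.Agent.S4515
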