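import Groth.Statements.S4516
-- import your own Groth.Agent.* helpers here

set_option autoImplicit false
universe u
open EGA41

namespace Groth.Agent.S4516

/-- Let p be a prime, B an A-algebra of characteristic p and A' an A-subalgebra of B contained in
A[B^p]. Then the canonical map between Ω_{B/A} and Ω_{B/A'} is bijective (every A-derivation of B
vanishes on A[B^p]). -/
theorem result (p : ℕ) [Fact p.Prime] {A B : Type u}
    [CommRing A] [CommRing B] [Algebra A B] [CharP B p] (A' : Subalgebra A B)
    (hA' : A' ≤ EGA41.pPowerSubalgebra p A B) :
    Function.Bijective (KaehlerDifferential.map A A' B B) := by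
  have hD : ∀ x ∈ EGA41.pPowerSubalgebra p A B, KaehlerDifferential.D A B x = 0 := by
    intro x hx
    unfold EGA41.pPowerSubalgebra at hx
    induction hx using Algebra.adjoin_induction with
    | mem x hx =>
      obtain ⟨b, rfl⟩ := hx
      rw [Derivation.leibniz_pow]
      have : ((p : ℕ) : B) = 0 := CharP.cast_eq_zero B p
      rw [← Nat.cast_smul_eq_nsmul B, this, zero_smul]
    | algebraMap r => exact Derivation.map_algebraMap _ r
    | add x y _ _ hx hy => rw [map_add, hx, hy, add_zero]
    | mul x y _ _ hx hy => rw [Derivation.leibniz, hx, hy, smul_zero, smul_zero, add_zero]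
  constructor
  · rw [injective_iff_map_eq_zero]
    intro ω hω
    obtain ⟨t, rfl⟩ := (KaehlerDifferential.exact_mapBaseChange_map A A' B ω).1 hω
    clear hω
    induction t using TensorProduct.induction_on with
    | zero => rw [map_zero]
    | tmul b η =>
      rw [KaehlerDifferential.mapBaseChange_tmul]
      have hη : KaehlerDifferential.map A A A' B η = 0 := by
        have hspan := KaehlerDifferential.span_range_derivation A A'
        have hmem : η ∈ Submodule.span A' (Set.range (KaehlerDifferential.D A A')) := by
          rw [hspan]; trivial
        induction hmem using Submodule.span_induction with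
        | mem η hη =>
          obtain ⟨a, rfl⟩ := hη
          rw [KaehlerDifferential.map_D]
          exact hD _ (hA' a.2)
        | zero => rw [map_zero]
        | add x y _ _ hx hy => rw [map_add, hx, hy, add_zero]
        | smul c x _ hx => rw [map_smul, hx, smul_zero]
      rw [hη, smul_zero]
    | add x y hx hy => rw [map_add, hx, hy, add_zero]
  · exact KaehlerDifferential.map_surjective A A' B

end Groth.Agent.S4516
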