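import Groth.Statements.S4517
import Mathlib

set_option autoImplicit false
universe u
open EGA41

namespace Groth.Agent.S4517

/-- Let p be a prime, B an A-algebra of characteristic p, and suppose there is s ≥ 0 such that b^(p^s)
lies in the image of A for every b ∈ B. Then the kernel of the multiplication map B ⊗_A B → B is a
nil ideal. -/
theorem result (p : ℕ) [Fact p.Prime] {A B : Type u}
    [CommRing A] [CommRing B] [Algebra A B] [CharP B p] (s : ℕ)
    (hpow : ∀ b : B, b ^ p ^ s ∈ Set.range (algebraMap A B)) :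
    ∀ x ∈ KaehlerDifferential.ideal A B, IsNilpotent x := by
  classical
  have hp : p.Prime := Fact.out
  have hp0 : ((p : ℕ) : TensorProduct A B B) = 0 := by
    have h1 : ((p : ℕ) : B) = 0 := CharP.cast_eq_zero B p
    have h2 : ((p : ℕ) : TensorProduct A B B)
        = algebraMap B (TensorProduct A B B) ((p : ℕ) : B) := by
      rw [map_natCast]
    rw [h2, h1, map_zero]
  have hadd : ∀ x y : TensorProduct A B B, (x + y) ^ p ^ s = x ^ p ^ s + y ^ p ^ s := by
    intro x y
    obtain ⟨r, hr⟩ := exists_add_pow_prime_pow_eq hp x y s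
    rw [hr, hp0]
    ring
  have hsub : ∀ x y : TensorProduct A B B, (x - y) ^ p ^ s = x ^ p ^ s - y ^ p ^ s := by
    intro x y
    have := hadd (x - y) y
    rw [sub_add_cancel] at this
    rw [this, add_sub_cancel_right]
  have hN : p ^ s ≠ 0 := pow_ne_zero _ hp.ne_zero
  let J : Ideal (TensorProduct A B B) :=
    { carrier := {x | x ^ p ^ s = 0}
      add_mem' := by
        intro x y hx hy
        show (x + y) ^ p ^ s = 0
        rw [hadd, hx, hy, add_zero]
      zero_mem' := by
        show (0 : TensorProduct A B B) ^ p ^ s = 0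
        exact zero_pow hN
      smul_mem' := by
        intro c x hx
        show (c • x) ^ p ^ s = 0
        rw [smul_eq_mul, mul_pow, hx, mul_zero] }
  have hle : KaehlerDifferential.ideal A B ≤ J := by
    rw [← KaehlerDifferential.span_range_eq_ideal, Ideal.span_le]
    rintro _ ⟨b, rfl⟩
    show ((1 : B) ⊗ₜ[A] b - b ⊗ₜ[A] (1 : B)) ^ p ^ s = 0
    rw [hsub, Algebra.TensorProduct.tmul_pow, Algebra.TensorProduct.tmul_pow, one_pow]
    obtain ⟨a₀, ha₀⟩ := hpow b
    rw [← ha₀, Algebra.algebraMap_eq_smul_one, TensorProduct.tmul_smul,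
      TensorProduct.smul_tmul', sub_self]
  intro x hx
  exact ⟨p ^ s, hle hx⟩

end Groth.Agent.S4517
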