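import Groth.Statements.S4522
import Groth.Agent.Lib.helper2.MacLane

set_option autoImplicit false
universe u
open EGA41

open EGA41
namespace Groth.Agent.S4522

/-- Let L be a field of characteristic p > 0 and K a subfield with L^p ⊆ K ⊆ L (here R → K → L with the
image of R in L the set of p-th powers and every p-th power of L in the image of K). Then the
canonical L-linear map L ⊗_K Ω_{K/L^p} → Ω_{L/L^p} is injective, so that 0 → Ω_{K/L^p} ⊗_K L →
Ω_{L/L^p} → Ω_{L/K} → 0 is exact: the imperfection module of L over K relative to L^p vanishes. -/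
theorem result (p : ℕ) [Fact p.Prime] {R K L : Type u} [Field R] [Field K] [Field L]
    [Algebra R K] [Algebra K L] [Algebra R L] [IsScalarTower R K L] [CharP L p]
    (hR : Set.range (algebraMap R L) = Set.range fun y : L => y ^ p)
    (hK : ∀ y : L, y ^ p ∈ Set.range (algebraMap K L)) :
    Function.Injective (KaehlerDifferential.mapBaseChange R K L) := by
  haveI : CharP K p := RingHom.charP (algebraMap K L) (algebraMap K L).injective p
  obtain ⟨Bs, hBs⟩ := h2_exists_pbasis p (k := R) (K := K)
  rw [h2_mapBaseChange_inj_iff_pind p (Subtype.val : Bs → K) hBs]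
  -- membership transfer
  have hmem : ∀ s ∈ pPowerSubalgebra p R K, algebraMap K L s ∈ pPowerSubalgebra p R L := by
    intro s hs
    unfold pPowerSubalgebra at hs
    induction hs using Algebra.adjoin_induction with
    | mem x hx =>
      obtain ⟨y, rfl⟩ := hx
      rw [map_pow]
      exact h2_ppow_mem p _
    | algebraMap r =>
      rw [← IsScalarTower.algebraMap_apply]
      exact Subalgebra.algebraMap_mem _ r
    | add x y _ _ hx hy => rw [map_add]; exact Subalgebra.add_mem _ hx hy
    | mul x y _ _ hx hy => rw [map_mul]; exact Subalgebra.mul_mem _ hx hy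
  have hbot : ∀ c ∈ pPowerSubalgebra p R L, ∃ r : R, algebraMap R L r = c := by
    intro c hc
    have hle : pPowerSubalgebra p R L ≤ ⊥ := by
      unfold pPowerSubalgebra
      rw [Algebra.adjoin_le_iff]
      intro z hz
      rw [← hR] at hz
      obtain ⟨r, rfl⟩ := hz
      exact Subalgebra.algebraMap_mem _ r
    exact Algebra.mem_bot.1 (hle hc)
  have hli := LinearIndependent.map_of_surjective_injective hBs.1
    (fun s : pPowerSubalgebra p R K => (⟨algebraMap K L s.1, hmem s.1 s.2⟩ : pPowerSubalgebra p R L))
    (algebraMap K L : K →+* L).toAddMonoidHom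
    (by
      rintro ⟨c, hc⟩
      obtain ⟨r, rfl⟩ := hbot c hc
      refine ⟨⟨algebraMap R K r, Subalgebra.algebraMap_mem _ r⟩, ?_⟩
      apply Subtype.ext
      show algebraMap K L (algebraMap R K r) = algebraMap R L r
      rw [← IsScalarTower.algebraMap_apply])
    (by
      intro m hm
      exact (map_eq_zero (algebraMap K L)).1 hm)
    (by
      intro s m
      show algebraMap K L (s.1 * m) = algebraMap K L s.1 * algebraMap K L m
      rw [map_mul])
  unfold IsPIndependent
  convert hli using 1
  funext e
  exact h2_pmonomial_map (algebraMap K L) _ _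

end Groth.Agent.S4522
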