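import Groth.Statements.S4524
import Mathlib
import Groth.Agent.Lib.lead.Kae

set_option autoImplicit false
universe u
open EGA41

namespace Groth.Agent.S4524

/-- Let k be a field of characteristic 0 and K an extension of k. Then Ω_{K/k} = 0 if and only if K is
an algebraic extension of k. -/
theorem result {k K : Type u} [Field k] [CharZero k] [Field K] [Algebra k K] :
    Subsingleton (Ω[K⁄k]) ↔ Algebra.IsAlgebraic k K := by
  constructor
  · intro hsub
    obtain ⟨ι, x, hx⟩ := exists_isTranscendenceBasis' (R := k) (A := K)
    rw [← hx.isEmpty_iff_isAlgebraic]
    haveI : Algebra.IsAlgebraic (IntermediateField.adjoin k (Set.range x)) K := hx.isAlgebraic_field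
    haveI : CharZero (IntermediateField.adjoin k (Set.range x)) :=
      charZero_of_injective_algebraMap (algebraMap k _).injective
    haveI : Algebra.IsSeparable (IntermediateField.adjoin k (Set.range x)) K :=
      Algebra.IsAlgebraic.isSeparable_of_perfectField
    obtain ⟨b, -⟩ := Groth.Agent.Lib.lead.Kae.exists_basis_of_separating x hx.1
    by_contra hne
    rw [not_isEmpty_iff] at hne
    obtain ⟨i⟩ := hne
    exact b.ne_zero i (Subsingleton.elim _ _)
  · intro halg
    haveI : Algebra.IsSeparable k K := Algebra.IsAlgebraic.isSeparable_of_perfectField
    haveI : Algebra.FormallyUnramified k K := Algebra.FormallyUnramified.of_isSeparable k K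
    infer_instance

end Groth.Agent.S4524
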