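import Groth.Statements.S4529
import Mathlib

set_option autoImplicit false
universe u
open EGA41

namespace Groth.Agent.S4529

/-- Let A be a ring, M, N two A-modules with N projective, u : M → N a homomorphism and J an ideal of A;
suppose either (i) J is nilpotent, or (ii) J is contained in the Jacobson radical of A and M is of
finite type. Then u is left invertible if and only if the induced map u₀ : M/JM → N/JN is left
invertible. (A left inverse of u₀ composed with N → N/JN is an A-linear map v : N → M/JM with v ∘ u
the projection, and conversely; the right-hand side is written in that form.) -/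
theorem result {A : Type u} [CommRing A] {M N : Type u} [AddCommGroup M] [Module A M]
    [AddCommGroup N] [Module A N] [Module.Projective A N] (u : M →ₗ[A] N) (J : Ideal A)
    (hJ : IsNilpotent J ∨ (J ≤ (⊥ : Ideal A).jacobson ∧ Module.Finite A M)) :
    (∃ w : N →ₗ[A] M, w ∘ₗ u = LinearMap.id) ↔
      ∃ v : N →ₗ[A] M ⧸ (J • ⊤ : Submodule A M), v ∘ₗ u = (J • ⊤ : Submodule A M).mkQ := by
  constructor
  · rintro ⟨w, hw⟩
    exact ⟨(J • ⊤ : Submodule A M).mkQ ∘ₗ w, by rw [LinearMap.comp_assoc, hw, LinearMap.comp_id]⟩
  · rintro ⟨v, hv⟩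
    obtain ⟨w₀, hw₀⟩ := Module.projective_lifting_property (J • ⊤ : Submodule A M).mkQ v
      (Submodule.mkQ_surjective _)
    obtain ⟨θ, hθdef⟩ : ∃ θ : M →ₗ[A] M, θ = w₀ ∘ₗ u := ⟨_, rfl⟩
    have hθ : ∀ m : M, m - θ m ∈ (J • ⊤ : Submodule A M) := by
      intro m
      have h1 : (J • ⊤ : Submodule A M).mkQ (θ m) = (J • ⊤ : Submodule A M).mkQ m := by
        rw [hθdef, LinearMap.comp_apply, ← LinearMap.comp_apply, hw₀, ← LinearMap.comp_apply, hv]
      rw [← Submodule.Quotient.mk_eq_zero, Submodule.Quotient.mk_sub, ← Submodule.mkQ_apply,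
        ← Submodule.mkQ_apply, h1, sub_self]
    suffices hinv : ∃ θ' : M →ₗ[A] M, θ' ∘ₗ θ = LinearMap.id by
      obtain ⟨θ', hθ'⟩ := hinv
      exact ⟨θ' ∘ₗ w₀, by rw [LinearMap.comp_assoc, ← hθdef, hθ']⟩
    rcases hJ with hnil | ⟨hjac, hfin⟩
    · obtain ⟨k, hk⟩ := hnil
      let ε : Module.End A M := 1 - θ
      have hε : ∀ m : M, ε m ∈ (J • ⊤ : Submodule A M) := fun m => hθ m
      have hmap : ∀ (i : ℕ) (x : M), x ∈ (J ^ i • ⊤ : Submodule A M) →
          ε x ∈ (J ^ (i + 1) • ⊤ : Submodule A M) := by
        intro i x hx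
        refine Submodule.smul_induction_on hx ?_ ?_
        · intro a ha m _
          rw [map_smul, pow_succ, mul_smul]
          exact Submodule.smul_mem_smul ha (hε m)
        · intro x y hx hy
          rw [map_add]
          exact add_mem hx hy
      have hpow : ∀ (i : ℕ) (m : M), (ε ^ i) m ∈ (J ^ i • ⊤ : Submodule A M) := by
        intro i
        induction i with
        | zero => intro m; simp
        | succ i ih =>
          intro m
          have h1 : (ε ^ (i + 1)) m = ε ((ε ^ i) m) := by rw [pow_succ' ε i]; rfl
          rw [h1]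
          exact hmap i _ (ih m)
      have hεnil : IsNilpotent ε := by
        refine ⟨k, LinearMap.ext fun m => ?_⟩
        have := hpow k m
        rw [hk] at this
        simpa using this
      have hunit : IsUnit (1 - ε) := hεnil.isUnit_one_sub
      have h1ε : (1 - ε : Module.End A M) = θ := by simp [ε]
      rw [h1ε] at hunit
      obtain ⟨θu, hθu⟩ := hunit
      refine ⟨(θu⁻¹ : (Module.End A M)ˣ).1, ?_⟩
      rw [← hθu]
      exact θu.inv_mul
    · haveI := hfin
      have hsurj : Function.Surjective θ := by
        rw [← LinearMap.range_eq_top, eq_top_iff]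
        refine Submodule.le_of_le_smul_of_le_jacobson_bot Module.Finite.fg_top hjac ?_
        intro m _
        have : m = θ m + (m - θ m) := by abel
        rw [this]
        exact Submodule.add_mem_sup (LinearMap.mem_range_self θ m) (hθ m)
      have hbij : Function.Bijective θ :=
        OrzechProperty.bijective_of_surjective_endomorphism θ hsurj
      refine ⟨(LinearEquiv.ofBijective θ hbij).symm.toLinearMap, ?_⟩
      refine LinearMap.ext fun m => ?_
      exact (LinearEquiv.ofBijective θ hbij).symm_apply_apply m

end Groth.Agent.S4529
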