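import Groth.Statements.S4530
import Groth.Agent.Lib.helper3.LeftInv

set_option autoImplicit false
universe u
open EGA41

namespace Groth.Agent.S4530

open TensorProduct in
/-- Let A be a ring, M an A-module of finite type, N a projective A-module, u : M → N a homomorphism.
For a prime ideal 𝔭 the following are equivalent: (a) u_𝔭 : M_𝔭 → N_𝔭 is left invertible; (b) u ⊗ 1
: M ⊗ k(𝔭) → N ⊗ k(𝔭) is injective; (d) there is f ∉ 𝔭 with u_f : M_f → N_f left invertible.
Moreover the set of such 𝔭 is open in Spec A. (The published statement also has a determinant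
criterion (c); this row omits it.) -/
theorem result {A : Type u} [CommRing A] {M N : Type u} [AddCommGroup M] [Module A M]
    [Module.Finite A M] [AddCommGroup N] [Module A N] [Module.Projective A N] (u : M →ₗ[A] N) :
    (∀ p : PrimeSpectrum A,
      [∃ w : LocalizedModule p.asIdeal.primeCompl N →ₗ[A] LocalizedModule p.asIdeal.primeCompl M,
          w ∘ₗ LocalizedModule.map p.asIdeal.primeCompl u = LinearMap.id,
       Function.Injective (u.lTensor p.asIdeal.ResidueField),
       ∃ f : A, f ∉ p.asIdeal ∧
          ∃ w : LocalizedModule (Submonoid.powers f) N →ₗ[A] LocalizedModule (Submonoid.powers f) M,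
            w ∘ₗ LocalizedModule.map (Submonoid.powers f) u = LinearMap.id].TFAE) ∧
    IsOpen {p : PrimeSpectrum A |
      ∃ w : LocalizedModule p.asIdeal.primeCompl N →ₗ[A] LocalizedModule p.asIdeal.primeCompl M,
        w ∘ₗ LocalizedModule.map p.asIdeal.primeCompl u = LinearMap.id} := by
  have key : ∀ (S : Submonoid A),
      (∃ w : LocalizedModule S N →ₗ[A] LocalizedModule S M,
        w ∘ₗ LocalizedModule.map S u = LinearMap.id) ↔ ∃ a, a ∈ S ∧ a ∈ H3LI.I u := by
    intro S
    constructor
    · rintro ⟨w, hw⟩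
      exact H3LI.mem_of_leftInv S (LocalizedModule.mkLinearMap _ M)
        (LocalizedModule.mkLinearMap _ N) u _ (by ext m; simp) w hw
    · rintro ⟨a, haS, ha⟩
      exact H3LI.leftInv_of_mem S (LocalizedModule.mkLinearMap _ M)
        (LocalizedModule.mkLinearMap _ N) u _ (by ext m; simp) haS ha
  refine ⟨fun p => ?_, ?_⟩
  · tfae_have 1 → 2 := by
      intro h
      obtain ⟨a, hap, ha⟩ := (key _).mp h
      exact H3LI.injective_of_mem u p.asIdeal hap ha
    tfae_have 2 → 1 := by
      intro h
      obtain ⟨a, hap, ha⟩ := H3LI.mem_of_injective u p.asIdeal h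
      exact (key _).mpr ⟨a, hap, ha⟩
    tfae_have 1 → 3 := by
      intro h
      obtain ⟨a, hap, ha⟩ := (key _).mp h
      exact ⟨a, hap, (key _).mpr ⟨a, Submonoid.mem_powers a, ha⟩⟩
    tfae_have 3 → 1 := by
      rintro ⟨f, hfp, h⟩
      obtain ⟨c, ⟨n, rfl⟩, hc⟩ := (key _).mp h
      exact (key _).mpr ⟨f ^ n, fun hmem => hfp (p.2.mem_of_pow_mem n hmem), hc⟩
    tfae_finish
  · have : {p : PrimeSpectrum A |
        ∃ w : LocalizedModule p.asIdeal.primeCompl N →ₗ[A] LocalizedModule p.asIdeal.primeCompl M,
          w ∘ₗ LocalizedModule.map p.asIdeal.primeCompl u = LinearMap.id} =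
        (PrimeSpectrum.zeroLocus (H3LI.I u : Set A))ᶜ := by
      ext p
      simp only [Set.mem_setOf_eq, Set.mem_compl_iff, PrimeSpectrum.mem_zeroLocus]
      rw [key]
      constructor
      · rintro ⟨a, hap, ha⟩ hle
        exact hap (hle ha)
      · intro hle
        rw [Set.not_subset] at hle
        obtain ⟨a, ha, hap⟩ := hle
        exact ⟨a, hap, ha⟩
    rw [this]
    exact (PrimeSpectrum.isClosed_zeroLocus _).isOpen_compl

end Groth.Agent.S4530
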