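import Groth.Statements.S4532
import Mathlib

set_option autoImplicit false
universe u
open EGA41

namespace Groth.Agent.S4532

/-- Let A be a discrete ring and V a projective A-module. Then the symmetric algebra of V over A, with
the discrete topology, is a formally smooth A-algebra. -/
theorem result (A : Type u) [CommRing A] (V : Type u) [AddCommGroup V] [Module A V]
    [Module.Projective A V] : Algebra.FormallySmooth A (SymmetricAlgebra A V) := by
  refine Algebra.FormallySmooth.of_comp_surjective ?_
  intro C _ _ I _ g
  -- restrict to V and lift by projectivity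
  let g₀ : V →ₗ[A] C ⧸ I := g.toLinearMap ∘ₗ SymmetricAlgebra.ι A V
  obtain ⟨h, hh⟩ := Module.projective_lifting_property
    (Ideal.Quotient.mkₐ A I).toLinearMap g₀ Ideal.Quotient.mk_surjective
  refine ⟨SymmetricAlgebra.lift h, ?_⟩
  apply SymmetricAlgebra.algHom_ext
  refine LinearMap.ext fun x => ?_
  have := LinearMap.congr_fun hh x
  show (Ideal.Quotient.mkₐ A I) (SymmetricAlgebra.lift h (SymmetricAlgebra.ι A V x))
    = g (SymmetricAlgebra.ι A V x)
  rw [SymmetricAlgebra.lift_ι_apply]
  exact this

end Groth.Agent.S4532
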