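import Groth.Statements.S4533
import Groth.Agent.Lib.helper6.PSeries

set_option autoImplicit false
universe u
open EGA41

namespace Groth.Agent.S4533

/-- Let A carry the 𝔞-adic topology and let B = A[[T_1, …, T_n]] carry the product topology, i.e. the
adic topology of the ideal 𝔞B + (T_1, …, T_n) (the kernel of the constant-coefficient map added to
the extension of 𝔞). Then B is a formally smooth A-algebra for these topologies. (The published
statement allows any linearly topologized base ring and any set of indeterminates with the product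
topology; this row takes an adic base and finitely many indeterminates, where the product topology
is adic.) -/
theorem result (A : Type u) [CommRing A] (𝔞 : Ideal A) (n : ℕ) :
    EGA41.IsFormallySmoothAdic A 𝔞 (MvPowerSeries (Fin n) A)
      (𝔞.map (MvPowerSeries.C : A →+* MvPowerSeries (Fin n) A) ⊔
        RingHom.ker (MvPowerSeries.constantCoeff : MvPowerSeries (Fin n) A →+* A)) := by
  intro C _ _ J hJ hC u hu
  obtain ⟨k, hk⟩ := hu
  choose c hc using fun i => Ideal.Quotient.mk_surjective (u (MvPowerSeries.X i))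
  have hX : ∀ i, (MvPowerSeries.X i : MvPowerSeries (Fin n) A) ∈
      𝔞.map (MvPowerSeries.C : A →+* MvPowerSeries (Fin n) A) ⊔
        RingHom.ker (MvPowerSeries.constantCoeff : MvPowerSeries (Fin n) A →+* A) := by
    intro i
    refine Ideal.mem_sup_right ?_
    rw [RingHom.mem_ker]
    exact MvPowerSeries.constantCoeff_X i
  have hnil : ∀ i, IsNilpotent (c i) := by
    intro i
    have h1 : u (MvPowerSeries.X i) ^ k = 0 := by
      rw [← map_pow]; exact hk _ (Ideal.pow_mem_pow (hX i) k)
    have h2 : c i ^ k ∈ J := by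
      rw [← Ideal.Quotient.eq_zero_iff_mem, map_pow, hc, h1]
    obtain ⟨t, ht⟩ := hJ
    refine ⟨k * t, ?_⟩
    rw [pow_mul]
    have h3 : (c i ^ k) ^ t ∈ J ^ t := Ideal.pow_mem_pow h2 t
    rw [ht, Ideal.zero_eq_bot, Ideal.mem_bot] at h3
    exact h3
  have hIfg : (Ideal.span (Set.range c)).FG := Submodule.fg_span (Set.finite_range c)
  have hInil : IsNilpotent (Ideal.span (Set.range c)) :=
    hIfg.isNilpotent_iff_le_nilradical.2 (Ideal.span_le.2 (by
      rintro _ ⟨i, rfl⟩
      exact (mem_nilradical).2 (hnil i)))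
  obtain ⟨N, hN⟩ := hInil
  rw [Ideal.zero_eq_bot] at hN
  have hs : ∀ i, c i ∈ Ideal.span (Set.range c) := fun i => Ideal.subset_span ⟨i, rfl⟩
  refine ⟨H6PS.evalNil (Λ := A) c (Ideal.span (Set.range c)) N hN hs, ?_⟩
  apply H6PS.algHom_ext_nil ((Ideal.span (Set.range c)).map (Ideal.Quotient.mk J)) N
    (by rw [← Ideal.map_pow, hN, Ideal.map_bot])
  · intro i
    show Ideal.Quotient.mk J (H6PS.evalNil (Λ := A) c (Ideal.span (Set.range c)) N hN hs
      (MvPowerSeries.X i)) ∈ _
    rw [H6PS.evalNil_X]
    exact Ideal.mem_map_of_mem _ (hs i)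
  · intro i
    show Ideal.Quotient.mk J (H6PS.evalNil (Λ := A) c (Ideal.span (Set.range c)) N hN hs
      (MvPowerSeries.X i)) = u (MvPowerSeries.X i)
    rw [H6PS.evalNil_X, hc]

end Groth.Agent.S4533
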