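import Groth.Statements.S4534
-- import your own Groth.Agent.* helpers here

set_option autoImplicit false
universe u
open EGA41

namespace Groth.Agent.S4534

/-- Let A → B → C be continuous homomorphisms of adic rings (A with the 𝔞-adic, B the 𝔟-adic, C the
𝔠-adic topology; continuity: a power of 𝔞 maps into 𝔟 and a power of 𝔟 into 𝔠). If B is formally
smooth over A and C formally smooth over B, then C is formally smooth over A. -/
theorem result {A B C : Type u} [CommRing A] [CommRing B] [CommRing C] [Algebra A B] [Algebra B C]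
    [Algebra A C] [IsScalarTower A B C] (𝔞 : Ideal A) (𝔟 : Ideal B) (𝔠 : Ideal C)
    (hAB : ∃ k : ℕ, (𝔞 ^ k).map (algebraMap A B) ≤ 𝔟) (hBC : ∃ k : ℕ, (𝔟 ^ k).map (algebraMap B C) ≤ 𝔠)
    (hB : EGA41.IsFormallySmoothAdic A 𝔞 B 𝔟) (hC : EGA41.IsFormallySmoothAdic B 𝔟 C 𝔠) :
    EGA41.IsFormallySmoothAdic A 𝔞 C 𝔠 := by
  intro D _ _ J hJ hdisc u hu
  obtain ⟨kBC, hBC⟩ := hBC
  obtain ⟨ku, hu⟩ := hu
  have huB : ∃ k : ℕ, ∀ x ∈ 𝔟 ^ k, (u.comp (IsScalarTower.toAlgHom A B C)) x = 0 := by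
    refine ⟨kBC * ku, fun x hx => ?_⟩
    show u (algebraMap B C x) = 0
    apply hu
    rw [pow_mul] at hx
    have h1 : algebraMap B C x ∈ ((𝔟 ^ kBC) ^ ku).map (algebraMap B C) :=
      Ideal.mem_map_of_mem _ hx
    rw [Ideal.map_pow] at h1
    exact Ideal.pow_right_mono hBC ku h1
  obtain ⟨v₀, hv₀⟩ := hB D J hJ hdisc (u.comp (IsScalarTower.toAlgHom A B C)) huB
  have hv₀' : ∀ b : B, Ideal.Quotient.mk J (v₀ b) = u (algebraMap B C b) := by
    intro b
    have := congrArg (fun g => g b) hv₀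
    exact this
  letI : Algebra B D := v₀.toRingHom.toAlgebra
  haveI : IsScalarTower A B D := IsScalarTower.of_algebraMap_eq (fun a => (v₀.commutes a).symm)
  have hdiscB : ∃ k : ℕ, (𝔟 ^ k).map (algebraMap B D) = ⊥ := by
    obtain ⟨kB, hkB⟩ := huB
    obtain ⟨N, hN⟩ := hJ
    refine ⟨kB * N, ?_⟩
    rw [pow_mul, Ideal.map_pow, eq_bot_iff]
    have h1 : (𝔟 ^ kB).map (algebraMap B D) ≤ J := by
      rw [Ideal.map_le_iff_le_comap]
      intro x hx
      rw [Ideal.mem_comap]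
      have h2 := hkB x hx
      have h3 : Ideal.Quotient.mk J (v₀ x) = 0 := by
        rw [hv₀']
        exact h2
      exact Ideal.Quotient.eq_zero_iff_mem.1 h3
    calc ((𝔟 ^ kB).map (algebraMap B D)) ^ N ≤ J ^ N := Ideal.pow_right_mono h1 N
      _ = ⊥ := hN
  let uC : C →ₐ[B] D ⧸ J :=
    { u.toRingHom with
      commutes' := fun b => by
        show u (algebraMap B C b) = Ideal.Quotient.mk J (v₀ b)
        rw [hv₀'] }
  obtain ⟨v, hv⟩ := hC D J hJ hdiscB uC ⟨ku, hu⟩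
  refine ⟨v.restrictScalars A, ?_⟩
  ext c
  have := congrArg (fun g => g c) hv
  exact this

end Groth.Agent.S4534
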