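import Groth.Statements.S4535
-- import your own Groth.Agent.* helpers here

set_option autoImplicit false
universe u
open EGA41

namespace Groth.Agent.S4535

open TensorProduct in
/-- Let B (𝔟-adic) be formally smooth over A (𝔞-adic) and let A' (𝔞'-adic) be a topological A-algebra (a
power of 𝔞 maps into 𝔞'). Then the A'-algebra A' ⊗_A B, with the tensor product topology, i.e. the
adic topology of the ideal generated by the images of 𝔞' and 𝔟, is formally smooth over A'. -/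
theorem result {A B A' : Type u} [CommRing A] [CommRing B] [CommRing A'] [Algebra A B] [Algebra A A']
    (𝔞 : Ideal A) (𝔟 : Ideal B) (𝔞' : Ideal A') (hAA' : ∃ k : ℕ, (𝔞 ^ k).map (algebraMap A A') ≤ 𝔞')
    (hB : EGA41.IsFormallySmoothAdic A 𝔞 B 𝔟) :
    EGA41.IsFormallySmoothAdic A' 𝔞' (A' ⊗[A] B)
      (𝔞'.map (algebraMap A' (A' ⊗[A] B)) ⊔
        𝔟.map (Algebra.TensorProduct.includeRight : B →ₐ[A] A' ⊗[A] B).toRingHom) := by
  intro D _ _ J hJ hdisc u hu
  obtain ⟨k₁, hk₁⟩ := hAA'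
  obtain ⟨k₂, hk₂⟩ := hdisc
  obtain ⟨ku, hu⟩ := hu
  letI : Algebra A D := ((algebraMap A' D).comp (algebraMap A A')).toAlgebra
  haveI : IsScalarTower A A' D := IsScalarTower.of_algebraMap_eq (fun a => rfl)
  have hdiscA : ∃ k : ℕ, (𝔞 ^ k).map (algebraMap A D) = ⊥ := by
    refine ⟨k₁ * k₂, ?_⟩
    have h1 : (𝔞 ^ k₁).map (algebraMap A D) =
        ((𝔞 ^ k₁).map (algebraMap A A')).map (algebraMap A' D) := by
      rw [Ideal.map_map]
      rfl
    rw [eq_bot_iff]
    calc (𝔞 ^ (k₁ * k₂)).map (algebraMap A D)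
        = ((𝔞 ^ k₁).map (algebraMap A D)) ^ k₂ := by rw [pow_mul, Ideal.map_pow]
      _ ≤ (𝔞'.map (algebraMap A' D)) ^ k₂ := by
          apply Ideal.pow_right_mono
          rw [h1]
          exact Ideal.map_mono hk₁
      _ = (𝔞' ^ k₂).map (algebraMap A' D) := (Ideal.map_pow _ _ _).symm
      _ = ⊥ := hk₂
  let uB : B →ₐ[A] D ⧸ J :=
    (u.restrictScalars A).comp (Algebra.TensorProduct.includeRight : B →ₐ[A] A' ⊗[A] B)
  have huB : ∃ k : ℕ, ∀ x ∈ 𝔟 ^ k, uB x = 0 := by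
    refine ⟨ku, fun x hx => ?_⟩
    show u ((Algebra.TensorProduct.includeRight : B →ₐ[A] A' ⊗[A] B) x) = 0
    apply hu
    have h1 : (Algebra.TensorProduct.includeRight : B →ₐ[A] A' ⊗[A] B).toRingHom x ∈
        (𝔟 ^ ku).map (Algebra.TensorProduct.includeRight : B →ₐ[A] A' ⊗[A] B).toRingHom :=
      Ideal.mem_map_of_mem _ hx
    rw [Ideal.map_pow] at h1
    exact Ideal.pow_right_mono le_sup_right ku h1
  obtain ⟨vB, hvB⟩ := hB D J hJ hdiscA uB huB
  have hvB' : ∀ b : B, Ideal.Quotient.mk J (vB b) = u ((1 : A') ⊗ₜ[A] b) := by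
    intro b
    have := congrArg (fun g => g b) hvB
    exact this
  refine ⟨Algebra.TensorProduct.lift (Algebra.ofId A' D) vB (fun _ _ => Commute.all _ _), ?_⟩
  apply Algebra.TensorProduct.ext'
  intro a' b
  show Ideal.Quotient.mk J (Algebra.TensorProduct.lift (Algebra.ofId A' D) vB
    (fun _ _ => Commute.all _ _) (a' ⊗ₜ[A] b)) = u (a' ⊗ₜ[A] b)
  rw [Algebra.TensorProduct.lift_tmul, map_mul, hvB']
  have h2 : (a' ⊗ₜ[A] b : A' ⊗[A] B) = a' • ((1 : A') ⊗ₜ[A] b) := by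
    rw [TensorProduct.smul_tmul', smul_eq_mul, mul_one]
  rw [h2, map_smul, Algebra.smul_def]
  rfl

end Groth.Agent.S4535
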