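import Groth.Statements.S4536
-- import your own Groth.Agent.* helpers here

set_option autoImplicit false
universe u
open EGA41

namespace Groth.Agent.S4536

/-- Let A carry the 𝔞-adic and B the 𝔟-adic topology, A → B being continuous (a power of 𝔞 maps into 𝔟).
Then B is formally smooth over A if and only if for every n the (A/𝔞ⁿ)-algebra B/𝔞ⁿB, with the adic
topology of the image of 𝔟, is formally smooth over the discrete ring A/𝔞ⁿ. -/
theorem result {A B : Type u} [CommRing A] [CommRing B] [Algebra A B]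
    (𝔞 : Ideal A) (𝔟 : Ideal B) (hAB : ∃ k : ℕ, (𝔞 ^ k).map (algebraMap A B) ≤ 𝔟) :
    EGA41.IsFormallySmoothAdic A 𝔞 B 𝔟 ↔
      ∀ n : ℕ, EGA41.IsFormallySmoothAdic (A ⧸ 𝔞 ^ n) ⊥ (B ⧸ (𝔞 ^ n).map (algebraMap A B))
        (𝔟.map (Ideal.Quotient.mk ((𝔞 ^ n).map (algebraMap A B)))) := by
  constructor
  · intro hB n D _ _ J hJ _ u hu
    obtain ⟨ku, hu⟩ := hu
    letI : Algebra A D := ((algebraMap (A ⧸ 𝔞 ^ n) D).comp (Ideal.Quotient.mk (𝔞 ^ n))).toAlgebra
    have hAD : ∀ a : A, algebraMap A D a =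
        algebraMap (A ⧸ 𝔞 ^ n) D (Ideal.Quotient.mk _ a) := fun a => rfl
    have hdisc : ∃ k : ℕ, (𝔞 ^ k).map (algebraMap A D) = ⊥ := by
      refine ⟨n, ?_⟩
      rw [eq_bot_iff, Ideal.map_le_iff_le_comap]
      intro a ha
      rw [Ideal.mem_comap, Ideal.mem_bot, hAD, Ideal.Quotient.eq_zero_iff_mem.2 ha, map_zero]
    let uB : B →ₐ[A] D ⧸ J :=
      { toRingHom := u.toRingHom.comp (Ideal.Quotient.mk ((𝔞 ^ n).map (algebraMap A B)))
        commutes' := fun a => by
          show u (Ideal.Quotient.mk _ (algebraMap A B a)) = Ideal.Quotient.mk J (algebraMap A D a)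
          rw [← Ideal.Quotient.algebraMap_quotient_map_quotient, u.commutes, hAD]
          rfl }
    have huB : ∃ k : ℕ, ∀ x ∈ 𝔟 ^ k, uB x = 0 := by
      refine ⟨ku, fun x hx => ?_⟩
      show u (Ideal.Quotient.mk _ x) = 0
      apply hu
      rw [← Ideal.map_pow]
      exact Ideal.mem_map_of_mem _ hx
    obtain ⟨vB, hvB⟩ := hB D J hJ hdisc uB huB
    have hvB' : ∀ b, Ideal.Quotient.mk J (vB b) = u (Ideal.Quotient.mk _ b) :=
      fun b => congrArg (fun g => g b) hvB
    have hkill : ∀ x ∈ (𝔞 ^ n).map (algebraMap A B), vB.toRingHom x = 0 := by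
      have h1 : (𝔞 ^ n).map (algebraMap A B) ≤ RingHom.ker vB.toRingHom := by
        rw [Ideal.map_le_iff_le_comap]
        intro a ha
        rw [Ideal.mem_comap, RingHom.mem_ker]
        show vB (algebraMap A B a) = 0
        rw [vB.commutes, hAD, Ideal.Quotient.eq_zero_iff_mem.2 ha, map_zero]
      intro x hx
      exact h1 hx
    let v : (B ⧸ (𝔞 ^ n).map (algebraMap A B)) →ₐ[A ⧸ 𝔞 ^ n] D :=
      { toRingHom := Ideal.Quotient.lift _ vB.toRingHom hkill
        commutes' := fun r => by
          obtain ⟨a, rfl⟩ := Ideal.Quotient.mk_surjective r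
          show Ideal.Quotient.lift _ vB.toRingHom hkill
            (algebraMap _ _ (Ideal.Quotient.mk _ a)) = _
          rw [Ideal.Quotient.algebraMap_quotient_map_quotient, Ideal.Quotient.lift_mk]
          show vB (algebraMap A B a) = _
          rw [vB.commutes, hAD] }
    refine ⟨v, ?_⟩
    apply AlgHom.ext
    intro x
    obtain ⟨b, rfl⟩ := Ideal.Quotient.mk_surjective x
    show Ideal.Quotient.mk J (Ideal.Quotient.lift _ vB.toRingHom hkill
      (Ideal.Quotient.mk _ b)) = u _
    rw [Ideal.Quotient.lift_mk]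
    exact hvB' b
  · intro H D _ _ J hJ hdisc u hu
    obtain ⟨k, hk⟩ := hdisc
    obtain ⟨m, hu⟩ := hu
    have hzero : ∀ a ∈ 𝔞 ^ k, algebraMap A D a = 0 := by
      intro a ha
      have h1 : algebraMap A D a ∈ (𝔞 ^ k).map (algebraMap A D) := Ideal.mem_map_of_mem _ ha
      rw [hk] at h1
      exact h1
    letI : Algebra (A ⧸ 𝔞 ^ k) D :=
      (Ideal.Quotient.lift (𝔞 ^ k) (algebraMap A D) hzero).toAlgebra
    have hAD : ∀ a : A, algebraMap (A ⧸ 𝔞 ^ k) D (Ideal.Quotient.mk _ a) = algebraMap A D a :=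
      fun a => rfl
    have hukill : ∀ x ∈ (𝔞 ^ k).map (algebraMap A B), u.toRingHom x = 0 := by
      have h1 : (𝔞 ^ k).map (algebraMap A B) ≤ RingHom.ker u.toRingHom := by
        rw [Ideal.map_le_iff_le_comap]
        intro a ha
        rw [Ideal.mem_comap, RingHom.mem_ker]
        show u (algebraMap A B a) = 0
        rw [u.commutes]
        show Ideal.Quotient.mk J (algebraMap A D a) = 0
        rw [hzero a ha, map_zero]
      intro x hx
      exact h1 hx
    let ū : (B ⧸ (𝔞 ^ k).map (algebraMap A B)) →ₐ[A ⧸ 𝔞 ^ k] D ⧸ J :=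
      { toRingHom := Ideal.Quotient.lift _ u.toRingHom hukill
        commutes' := fun r => by
          obtain ⟨a, rfl⟩ := Ideal.Quotient.mk_surjective r
          show Ideal.Quotient.lift _ u.toRingHom hukill
            (algebraMap _ _ (Ideal.Quotient.mk _ a)) = _
          rw [Ideal.Quotient.algebraMap_quotient_map_quotient, Ideal.Quotient.lift_mk]
          show u (algebraMap A B a) =
            Ideal.Quotient.mk J (algebraMap (A ⧸ 𝔞 ^ k) D (Ideal.Quotient.mk _ a))
          rw [u.commutes, hAD]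
          rfl }
    have hū : ∃ k' : ℕ, ∀ x ∈ (𝔟.map (Ideal.Quotient.mk ((𝔞 ^ k).map (algebraMap A B)))) ^ k',
        ū x = 0 := by
      refine ⟨m, ?_⟩
      have h1 : (𝔟.map (Ideal.Quotient.mk ((𝔞 ^ k).map (algebraMap A B)))) ^ m ≤
          RingHom.ker ū.toRingHom := by
        rw [← Ideal.map_pow, Ideal.map_le_iff_le_comap]
        intro x hx
        rw [Ideal.mem_comap, RingHom.mem_ker]
        show Ideal.Quotient.lift _ u.toRingHom hukill (Ideal.Quotient.mk _ x) = 0
        rw [Ideal.Quotient.lift_mk]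
        exact hu x hx
      intro x hx
      exact h1 hx
    obtain ⟨v', hv'⟩ := H k D J hJ ⟨1, by rw [pow_one, Ideal.map_bot]⟩ ū hū
    let v : B →ₐ[A] D :=
      { toRingHom := v'.toRingHom.comp (Ideal.Quotient.mk _)
        commutes' := fun a => by
          show v' (Ideal.Quotient.mk _ (algebraMap A B a)) = algebraMap A D a
          rw [← Ideal.Quotient.algebraMap_quotient_map_quotient, v'.commutes, hAD] }
    refine ⟨v, ?_⟩
    ext b
    have := congrArg (fun g => g (Ideal.Quotient.mk _ b)) hv'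
    exact this

end Groth.Agent.S4536
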