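import Groth.Statements.S4537
import Mathlib

set_option autoImplicit false
universe u
open EGA41

namespace Groth.Agent.S4537

/-- For a discrete base and an adic algebra: let A be a discrete ring and B an A-algebra with the 𝔫-adic
topology. If every continuous A-algebra map from B to a quotient C/J with J² = 0 lifts to C, then
the same holds for every nilpotent J; hence the square-zero and the nilpotent forms of adic formal
smoothness agree. -/
theorem result {A B : Type u} [CommRing A] [CommRing B] [Algebra A B]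
    (𝔫 : Ideal B) :
    CAlgX.IsAdicFormallySmooth A B 𝔫 ↔ EGA41.IsFormallySmoothAdic A ⊥ B 𝔫 := by
  constructor
  · intro h
    have key : ∀ ⦃S : Type u⦄ [CommRing S] (J : Ideal S), IsNilpotent J →
        ∀ [Algebra A S] (u : B →ₐ[A] S ⧸ J), (∃ k : ℕ, ∀ x ∈ 𝔫 ^ k, u x = 0) →
          ∃ v : B →ₐ[A] S, (Ideal.Quotient.mkₐ A J).comp v = u := by
      intro S _ J hJ
      refine Ideal.IsNilpotent.induction_on
        (P := fun ⦃S : Type u⦄ [CommRing S] (J : Ideal S) => IsNilpotent J →
          ∀ [Algebra A S] (u : B →ₐ[A] S ⧸ J), (∃ k : ℕ, ∀ x ∈ 𝔫 ^ k, u x = 0) →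
            ∃ v : B →ₐ[A] S, (Ideal.Quotient.mkₐ A J).comp v = u) J hJ ?_ ?_ hJ
      · intro S _ I hI _ _ u hu
        exact h S I hI u hu
      · intro S _ I J hIJ hPI hPJ hJnil algS g hg
        have hInil : IsNilpotent I := by
          obtain ⟨m, hm⟩ := hJnil
          refine ⟨m, ?_⟩
          rw [Ideal.zero_eq_bot, eq_bot_iff] at hm ⊢
          exact (Ideal.pow_right_mono hIJ m).trans hm
        have hJ'nil : IsNilpotent (J.map (Ideal.Quotient.mk I)) := by
          obtain ⟨m, hm⟩ := hJnil
          exact ⟨m, by rw [← Ideal.map_pow, hm, Ideal.zero_eq_bot, Ideal.map_bot]; rfl⟩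
        let e : ((S ⧸ I) ⧸ J.map (Ideal.Quotient.mk I)) ≃ₐ[A] S ⧸ J :=
          { (DoubleQuot.quotQuotEquivQuotSup I J).trans
              (Ideal.quotEquivOfEq (sup_eq_right.mpr hIJ)) with
            commutes' := fun x => rfl }
        obtain ⟨g', hg'⟩ := hPJ hJ'nil (e.symm.toAlgHom.comp g) (by
          obtain ⟨k, hk⟩ := hg
          exact ⟨k, fun x hx => by
            show e.symm (g x) = 0
            rw [hk x hx, map_zero]⟩)
        have hg'c : ∃ k : ℕ, ∀ x ∈ 𝔫 ^ k, g' x = 0 := by
          obtain ⟨k, hk⟩ := hg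
          obtain ⟨m, hm⟩ := hJ'nil
          refine ⟨k * m, fun x hx => ?_⟩
          have h1 : Ideal.map g'.toRingHom (𝔫 ^ k) ≤ J.map (Ideal.Quotient.mk I) := by
            rw [Ideal.map_le_iff_le_comap]
            intro y hy
            rw [Ideal.mem_comap, ← Ideal.Quotient.eq_zero_iff_mem]
            have h0 : Ideal.Quotient.mk (J.map (Ideal.Quotient.mk I)) (g' y) = e.symm (g y) :=
              AlgHom.congr_fun hg' y
            show Ideal.Quotient.mk _ (g' y) = 0
            rw [h0, hk y hy, map_zero]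
          have h2 : g' x ∈ Ideal.map g'.toRingHom (𝔫 ^ (k * m)) := Ideal.mem_map_of_mem _ hx
          rw [pow_mul, Ideal.map_pow] at h2
          have h3 := Ideal.pow_right_mono h1 m h2
          rw [hm] at h3
          simpa using h3
        obtain ⟨g'', rfl⟩ := hPI hInil g' hg'c
        replace hg' := congr_arg e.toAlgHom.comp hg'
        conv_rhs at hg' => rw [← AlgHom.comp_assoc, AlgEquiv.comp_symm, AlgHom.id_comp]
        exact ⟨g'', hg'⟩
    intro C _ _ J hJ _ u hu
    exact key J hJ u hu
  · intro h C _ _ J hJ ψ hψ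
    exact h C J ⟨2, hJ⟩ ⟨1, by rw [pow_one, Ideal.map_bot]⟩ ψ hψ

end Groth.Agent.S4537
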