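import Groth.Statements.S4540
import Groth.Agent.S4544
import Groth.Agent.Lib.helper3.NilProjFree

set_option autoImplicit false
universe u
open EGA41

namespace Groth.Agent.S4540

open IsLocalRing TensorProduct in
/-- Let A, B be Noetherian local rings and A → B a local homomorphism making B a formally smooth
A-algebra for the adic topologies of the maximal ideals. Then for every ideal of definition 𝔟 of B,
the (B/𝔟)-module Ω_{B/A} ⊗_B (B/𝔟) is free. -/
theorem result {A B : Type u} [CommRing A] [IsLocalRing A]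
    [IsNoetherianRing A] [CommRing B] [IsLocalRing B] [IsNoetherianRing B] [Algebra A B] [IsLocalHom (algebraMap A B)]
    (h : EGA41.IsFormallySmoothAdic A (maximalIdeal A) B (maximalIdeal B))
    (𝔟 : Ideal B) (hle : 𝔟 ≤ maximalIdeal B) (hpow : ∃ k : ℕ, maximalIdeal B ^ k ≤ 𝔟) :
    Module.Free (B ⧸ 𝔟) ((B ⧸ 𝔟) ⊗[B] Ω[B⁄A]) := by
  obtain ⟨k, hk⟩ := hpow
  have hne : 𝔟 ≠ ⊤ := fun h0 =>
    (IsLocalRing.maximalIdeal.isMaximal B).ne_top (top_le_iff.1 (h0 ▸ hle))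
  haveI : Nontrivial (B ⧸ 𝔟) := Ideal.Quotient.nontrivial_iff.2 hne
  haveI : IsLocalRing (B ⧸ 𝔟) :=
    IsLocalRing.of_surjective' (Ideal.Quotient.mk 𝔟) Ideal.Quotient.mk_surjective
  have hker : RingHom.ker (Ideal.Quotient.mk 𝔟) ≤ maximalIdeal B := by
    rw [Ideal.mk_ker]; exact hle
  have hmax : (maximalIdeal B).map (Ideal.Quotient.mk 𝔟) = maximalIdeal (B ⧸ 𝔟) :=
    IsLocalRing.eq_maximalIdeal
      (Ideal.IsMaximal.map_of_surjective_of_ker_le Ideal.Quotient.mk_surjective hker)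
  have hnil : IsNilpotent (maximalIdeal (B ⧸ 𝔟)) := by
    refine ⟨k, ?_⟩
    rw [← hmax, ← Ideal.map_pow, Ideal.zero_eq_bot, eq_bot_iff]
    calc (maximalIdeal B ^ k).map (Ideal.Quotient.mk 𝔟) ≤ 𝔟.map (Ideal.Quotient.mk 𝔟) :=
          Ideal.map_mono hk
      _ = ⊥ := Ideal.map_quotient_self 𝔟
  have hAB : ∃ k : ℕ, (maximalIdeal A ^ k).map (algebraMap A B) ≤ maximalIdeal B :=
    ⟨1, by rw [pow_one]; exact ((IsLocalRing.local_hom_TFAE (algebraMap A B)).out 0 2).1 (inferInstance : IsLocalHom (algebraMap A B))⟩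
  haveI : Module.Projective (B ⧸ 𝔟) ((B ⧸ 𝔟) ⊗[B] Ω[B⁄A]) :=
    Groth.Agent.S4544.result (maximalIdeal A) (maximalIdeal B) hAB h 𝔟 ⟨k, hk⟩
  exact h3_free_of_projective_of_nilpotent hnil _

end Groth.Agent.S4540
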