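import Groth.Statements.S4543
import Groth.Agent.Lib.helper3.FSAdicLift
import Groth.Agent.Lib.helper3.RegFlat3

set_option autoImplicit false
universe u
open EGA41

namespace Groth.Agent.S4543

open IsLocalRing in
/-- Let A be a Noetherian ring, J an ideal of A, B and B' two A-algebras which are Noetherian local
rings, the structure maps being continuous for the J-adic topology on A (JB and JB' lie in the
maximal ideals); suppose B and B' are complete for the J-adic topologies, B is a formally smooth
A-algebra for the J-adic topology on A and the JB-adic topology on B (nilpotent test ideals, test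
algebras killed by a power of J, test maps killing a power of JB), and B' is a flat A-module. Then
every (A/J)-algebra isomorphism u₀ : B/JB ≅ B'/JB' comes from an A-algebra isomorphism u : B ≅ B' by
passing to quotients. (B is taken formally smooth for the JB-adic topology, the topology along which
the argument lifts B → B'/JB' to B'; read with the convention that a local ring carries the adic
topology of its maximal ideal, the published hypothesis would be formal smoothness for the
maximal-ideal topology on B, a weaker condition when JB is strictly smaller than the maximal ideal,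
and that reading is not what the argument establishes.) -/
theorem result {A B B' : Type u} [CommRing A] [IsNoetherianRing A] (J : Ideal A)
    [CommRing B] [IsLocalRing B] [IsNoetherianRing B] [Algebra A B]
    [CommRing B'] [IsLocalRing B'] [IsNoetherianRing B'] [Algebra A B']
    (hB : J.map (algebraMap A B) ≤ maximalIdeal B) (hB' : J.map (algebraMap A B') ≤ maximalIdeal B')
    [IsAdicComplete (J.map (algebraMap A B)) B] [IsAdicComplete (J.map (algebraMap A B')) B']
    (hfs : EGA41.IsFormallySmoothAdic A J B (J.map (algebraMap A B))) [Module.Flat A B']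
    (u₀ : (B ⧸ J.map (algebraMap A B)) ≃ₐ[A ⧸ J] (B' ⧸ J.map (algebraMap A B'))) :
    ∃ u : B ≃ₐ[A] B', ∀ b : B,
      Ideal.Quotient.mk (J.map (algebraMap A B')) (u b) = u₀ (Ideal.Quotient.mk (J.map (algebraMap A B)) b) := by
  haveI hH : IsHausdorff ((J.map (algebraMap A B')).map (Ideal.Quotient.mk (J.map (algebraMap A B'))))
      (B' ⧸ J.map (algebraMap A B')) := by
    refine ⟨fun x hx => ?_⟩
    have h1 := hx 1
    rw [SModEq.zero, pow_one, Ideal.map_quotient_self] at h1
    simpa using h1
  obtain ⟨v, -, hv⟩ := H3FSL.main J (J.map (algebraMap A B)) (J.map (algebraMap A B')) hfs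
    ⟨1, by rw [pow_one]⟩ (J.map (algebraMap A B')) ⟨1, by rw [pow_one]⟩
    ((u₀.toAlgHom.restrictScalars A).comp (Ideal.Quotient.mkₐ A (J.map (algebraMap A B))))
    ⟨1, by
      rw [pow_one, Ideal.map_le_iff_le_comap]
      intro x hx
      rw [Ideal.mem_comap]
      have h0 : Ideal.Quotient.mk (J.map (algebraMap A B)) x = 0 :=
        Ideal.Quotient.eq_zero_iff_mem.mpr hx
      simp [h0]⟩
  have hv' : ∀ b : B, Ideal.Quotient.mk (J.map (algebraMap A B')) (v b) =
      u₀ (Ideal.Quotient.mk (J.map (algebraMap A B)) b) := fun b => AlgHom.congr_fun hv b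
  have hmapeq : (J.map (algebraMap A B)).map v.toRingHom = J.map (algebraMap A B') := by
    rw [Ideal.map_map, AlgHom.toRingHom_eq_coe, AlgHom.comp_algebraMap]
  -- surjectivity
  have hsurj : Function.Surjective v := by
    haveI : IsHausdorff ((J.map (algebraMap A B)).map v.toRingHom) B' := by
      rw [hmapeq]; infer_instance
    apply surjective_of_mk_map_comp_surjective (I := J.map (algebraMap A B)) v.toRingHom
    intro y
    obtain ⟨y', rfl⟩ := Ideal.Quotient.mk_surjective y
    obtain ⟨z, hz⟩ := u₀.surjective (Ideal.Quotient.mk (J.map (algebraMap A B')) y')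
    obtain ⟨b, rfl⟩ := Ideal.Quotient.mk_surjective z
    refine ⟨b, ?_⟩
    rw [RingHom.comp_apply, Ideal.Quotient.eq, hmapeq]
    rw [← Ideal.Quotient.eq, ← hz]
    exact hv' b
  -- injectivity
  have hKle : RingHom.ker v.toRingHom ≤ J.map (algebraMap A B) := by
    intro x hx
    have h1 : v x = 0 := hx
    have h2 := hv' x
    rw [h1, map_zero] at h2
    have h3 : Ideal.Quotient.mk (J.map (algebraMap A B)) x = 0 :=
      u₀.injective (by rw [← h2, map_zero])
    exact Ideal.Quotient.eq_zero_iff_mem.mp h3
  haveI hflat : Module.Flat A (B ⧸ LinearMap.ker v.toLinearMap) :=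
    Module.Flat.of_linearEquiv (v.toLinearMap.quotKerEquivOfSurjective hsurj)
  have hKJK : RingHom.ker v.toRingHom ≤ (J.map (algebraMap A B)) * RingHom.ker v.toRingHom := by
    intro x hx
    have hxK : x ∈ LinearMap.ker v.toLinearMap := hx
    have hxJ : x ∈ J • (⊤ : Submodule A B) := by
      rw [Ideal.smul_top_eq_map]
      exact hKle hx
    have h1 := H3RegFlat.mem_smul_top_of_flat_quot (LinearMap.ker v.toLinearMap) J ⟨x, hxK⟩ hxJ
    have key : ∀ z : LinearMap.ker v.toLinearMap, z ∈ J • (⊤ : Submodule A (LinearMap.ker v.toLinearMap)) →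
        (z : B) ∈ (J.map (algebraMap A B)) * RingHom.ker v.toRingHom := by
      intro z hz
      refine Submodule.smul_induction_on hz (fun a ha k _ => ?_) (fun x y hx hy => ?_)
      · show a • (k : B) ∈ _
        rw [Algebra.smul_def]
        exact Ideal.mul_mem_mul (Ideal.mem_map_of_mem _ ha)
          (show (k : B) ∈ RingHom.ker v.toRingHom from k.2)
      · rw [Submodule.coe_add]; exact add_mem hx hy
    exact key _ h1
  have hKbot : RingHom.ker v.toRingHom = ⊥ :=
    Submodule.eq_bot_of_le_smul_of_le_jacobson_bot (J.map (algebraMap A B)) _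
      (IsNoetherian.noetherian _) (by rw [Ideal.smul_eq_mul]; exact hKJK)
      (hB.trans (IsLocalRing.maximalIdeal_le_jacobson _))
  have hinj : Function.Injective v := (RingHom.injective_iff_ker_eq_bot v.toRingHom).mpr hKbot
  exact ⟨AlgEquiv.ofBijective v ⟨hinj, hsurj⟩, fun b => hv' b⟩

end Groth.Agent.S4543
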