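import Groth.Statements.S4547
import Mathlib.RingTheory.LocalRing.Module
import Mathlib.LinearAlgebra.TensorProduct.Basis

set_option autoImplicit false
universe u
open EGA41

namespace Groth.Agent.S4547

open IsLocalRing TensorProduct in
/-- Let A be a local ring with residue field k, M an A-module of finite type, N a projective A-module
and u : M → N a homomorphism. Then u is left invertible if and only if there is a finite system of
generators (x_i) of M such that the elements 1 ⊗ u(x_i) of k ⊗_A N are linearly independent over k;
and such a system (x_i) is then a basis of M. -/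
theorem result {A : Type u} [CommRing A] [IsLocalRing A] {M N : Type u}
    [AddCommGroup M] [Module A M] [Module.Finite A M] [AddCommGroup N] [Module A N] [Module.Projective A N]
    (u : M →ₗ[A] N) :
    ((∃ w : N →ₗ[A] M, w ∘ₗ u = LinearMap.id) ↔
      ∃ (m : ℕ) (x : Fin m → M), Submodule.span A (Set.range x) = ⊤ ∧
        LinearIndependent (ResidueField A) (fun i => (1 : ResidueField A) ⊗ₜ[A] u (x i))) ∧
    ∀ (m : ℕ) (x : Fin m → M), Submodule.span A (Set.range x) = ⊤ →
      LinearIndependent (ResidueField A) (fun i => (1 : ResidueField A) ⊗ₜ[A] u (x i)) →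
        ∃ b : Module.Basis (Fin m) A M, ∀ i, b i = x i := by
  classical
  have partII : ∀ (m : ℕ) (x : Fin m → M), Submodule.span A (Set.range x) = ⊤ →
      LinearIndependent (ResidueField A) (fun i => (1 : ResidueField A) ⊗ₜ[A] u (x i)) →
        ∃ b : Module.Basis (Fin m) A M, ∀ i, b i = x i := by
    intro m x hspan hli
    have h1 : LinearIndependent A (u ∘ x) := Module.IsLocalRing.linearIndependent_of_flat (u ∘ x) hli
    have h2 : LinearIndependent A x := LinearIndependent.of_comp u h1
    exact ⟨Module.Basis.mk h2 hspan.ge, fun i => Module.Basis.mk_apply h2 hspan.ge i⟩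
  refine ⟨⟨?_, ?_⟩, partII⟩
  · rintro ⟨w, hw⟩
    have : Module.Projective A M := Module.Projective.of_split u w hw
    have : Module.Free A M := Module.free_of_flat_of_isLocalRing
    let b := Module.finBasis A M
    refine ⟨Module.finrank A M, b, b.span_eq, ?_⟩
    have hb' : LinearIndependent (ResidueField A) (fun i => (1 : ResidueField A) ⊗ₜ[A] b i) := by
      have := (b.baseChange (ResidueField A)).linearIndependent
      convert this using 1
      ext i
      rw [Module.Basis.baseChange_apply]
    apply LinearIndependent.of_comp (w.baseChange (ResidueField A))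
    convert hb' using 1
    ext i
    rw [Function.comp_apply, LinearMap.baseChange_tmul]
    exact congrArg _ (LinearMap.congr_fun hw (b i))
  · rintro ⟨m, x, hspan, hli⟩
    obtain ⟨b, hb⟩ := partII m x hspan hli
    have : Module.Free A M := Module.Free.of_basis b
    have hinj : Function.Injective (u.lTensor (ResidueField A)) := by
      rw [← LinearMap.baseChange_eq_ltensor, injective_iff_map_eq_zero]
      intro y hy
      have hy' : ∑ i, (b.baseChange (ResidueField A)).repr y i •
          ((1 : ResidueField A) ⊗ₜ[A] u (x i)) = 0 := by
        rw [← hy]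
        conv_rhs => rw [← (b.baseChange (ResidueField A)).sum_repr y]
        rw [map_sum]
        refine Finset.sum_congr rfl fun i _ => ?_
        rw [map_smul, Module.Basis.baseChange_apply, LinearMap.baseChange_tmul, hb]
      have h0 := Fintype.linearIndependent_iff.1 hli _ hy'
      rw [← (b.baseChange (ResidueField A)).sum_repr y]
      simp [h0]
    obtain ⟨s, hs⟩ := Module.projective_def'.1 (inferInstance : Module.Projective A N)
    let J₀ : Finset N := Finset.univ.biUnion (fun j => (s (u (x j))).support)
    let proj₀ : (N →₀ A) →ₗ[A] (J₀ → A) := LinearMap.pi (fun j => Finsupp.lapply j.1)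
    let ρ : (J₀ → A) →ₗ[A] N := Fintype.linearCombination A (fun j : J₀ => (j : N))
    have hρ : ∀ f : N →₀ A, f.support ⊆ J₀ → ρ (proj₀ f) = Finsupp.linearCombination A id f := by
      intro f hf
      show Fintype.linearCombination A (fun j : J₀ => (j : N)) (proj₀ f) =
        Finsupp.linearCombination A id f
      rw [Fintype.linearCombination_apply, Finsupp.linearCombination_apply,
        Finsupp.sum_of_support_subset f hf _ (by simp), ← Finset.sum_coe_sort J₀]
      rfl
    let g : M →ₗ[A] (J₀ → A) := proj₀ ∘ₗ s ∘ₗ u
    have hρg : ρ ∘ₗ g = u := by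
      apply LinearMap.ext_on_range hspan
      intro j
      show ρ (proj₀ (s (u (x j)))) = u (x j)
      rw [hρ _ (Finset.subset_biUnion_of_mem (fun j => (s (u (x j))).support)
        (Finset.mem_univ j))]
      exact LinearMap.congr_fun hs (u (x j))
    have hginj : Function.Injective (g.lTensor (ResidueField A)) := by
      have h1 : u.lTensor (ResidueField A) =
          ρ.lTensor (ResidueField A) ∘ₗ g.lTensor (ResidueField A) := by
        rw [← LinearMap.lTensor_comp, hρg]
      rw [h1, LinearMap.coe_comp] at hinj
      exact Function.Injective.of_comp hinj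
    obtain ⟨l', hl'⟩ :=
      (IsLocalRing.split_injective_iff_lTensor_residueField_injective g).2 hginj
    exact ⟨l' ∘ₗ proj₀ ∘ₗ s, by rw [LinearMap.comp_assoc, LinearMap.comp_assoc]; exact hl'⟩

end Groth.Agent.S4547
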