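import Groth.Statements.S4552
import Mathlib.Algebra.Module.Torsion.Basic
import Mathlib.Algebra.Module.Projective
import Mathlib.Algebra.Algebra.Basic
import Mathlib.RingTheory.Ideal.Quotient.Operations

set_option autoImplicit false
universe u
open EGA41

namespace Groth.Agent.S4552

/-- For the 𝔞-adic topology on A and the deduced topology on M: the topological A-module M is formally
projective (for every open ideal 𝔞ⁿ, every pair of (A/𝔞ⁿ)-modules P, Q, every surjection P → Q and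
every continuous A-linear map M → Q — here automatically continuous — there is a continuous A-linear
lift M → P) if and only if it is strictly formally projective, i.e. M/𝔞ⁿM is a projective
(A/𝔞ⁿ)-module for every n. -/
theorem result {A : Type u} [CommRing A] (𝔞 : Ideal A) (M : Type u)
    [AddCommGroup M] [Module A M] :
    (∀ (n : ℕ) (P Q : Type u) [AddCommGroup P] [Module A P] [AddCommGroup Q] [Module A Q],
      (∀ a ∈ 𝔞 ^ n, ∀ y : P, a • y = 0) → (∀ a ∈ 𝔞 ^ n, ∀ y : Q, a • y = 0) →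
      ∀ f : P →ₗ[A] Q, Function.Surjective f → ∀ v : M →ₗ[A] Q, ∃ w : M →ₗ[A] P, f ∘ₗ w = v) ↔
    ∀ n : ℕ, Module.Projective (A ⧸ 𝔞 ^ n) (M ⧸ (𝔞 ^ n • ⊤ : Submodule A M)) := by
  have hsurj : ∀ n, Function.Surjective (algebraMap A (A ⧸ 𝔞 ^ n)) :=
    fun n => Ideal.Quotient.mk_surjective
  constructor
  · intro H n
    apply Module.Projective.of_lifting_property
    intro P Q _ _ _ _ f g hf
    letI : Module A P := Module.compHom P (algebraMap A (A ⧸ 𝔞 ^ n))
    letI : Module A Q := Module.compHom Q (algebraMap A (A ⧸ 𝔞 ^ n))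
    haveI : IsScalarTower A (A ⧸ 𝔞 ^ n) P := IsScalarTower.of_compHom A (A ⧸ 𝔞 ^ n) P
    haveI : IsScalarTower A (A ⧸ 𝔞 ^ n) Q := IsScalarTower.of_compHom A (A ⧸ 𝔞 ^ n) Q
    have hP : ∀ a ∈ 𝔞 ^ n, ∀ y : P, a • y = 0 := fun a ha y => by
      show (algebraMap A (A ⧸ 𝔞 ^ n) a) • y = 0
      rw [Ideal.Quotient.algebraMap_eq, Ideal.Quotient.eq_zero_iff_mem.2 ha, zero_smul]
    have hQ : ∀ a ∈ 𝔞 ^ n, ∀ y : Q, a • y = 0 := fun a ha y => by
      show (algebraMap A (A ⧸ 𝔞 ^ n) a) • y = 0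
      rw [Ideal.Quotient.algebraMap_eq, Ideal.Quotient.eq_zero_iff_mem.2 ha, zero_smul]
    obtain ⟨w, hw⟩ := H n P Q hP hQ (f.restrictScalars A) hf
      ((g.restrictScalars A) ∘ₗ (Submodule.mkQ _))
    have hker : (𝔞 ^ n • ⊤ : Submodule A M) ≤ LinearMap.ker w := by
      rw [Submodule.smul_le]
      intro a ha m _
      rw [LinearMap.mem_ker, map_smul]
      exact hP a ha _
    refine ⟨(Submodule.liftQ _ w hker).extendScalarsOfSurjective (hsurj n), ?_⟩
    ext x
    obtain ⟨m, rfl⟩ := Submodule.Quotient.mk_surjective _ x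
    exact LinearMap.congr_fun hw m
  · intro H n P Q _ _ _ _ hP hQ f hf v
    have tP : Module.IsTorsionBySet A P ((𝔞 ^ n : Ideal A) : Set A) := fun x a => hP a a.2 x
    have tQ : Module.IsTorsionBySet A Q ((𝔞 ^ n : Ideal A) : Set A) := fun x a => hQ a a.2 x
    letI : Module (A ⧸ 𝔞 ^ n) P := tP.module
    letI : Module (A ⧸ 𝔞 ^ n) Q := tQ.module
    haveI : IsScalarTower A (A ⧸ 𝔞 ^ n) P := tP.isScalarTower
    haveI : IsScalarTower A (A ⧸ 𝔞 ^ n) Q := tQ.isScalarTower
    haveI := H n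
    have hker : (𝔞 ^ n • ⊤ : Submodule A M) ≤ LinearMap.ker v := by
      rw [Submodule.smul_le]
      intro a ha m _
      rw [LinearMap.mem_ker, map_smul]
      exact hQ a ha _
    obtain ⟨h, hh⟩ := Module.projective_lifting_property
      (f.extendScalarsOfSurjective (hsurj n))
      ((Submodule.liftQ _ v hker).extendScalarsOfSurjective (hsurj n)) hf
    refine ⟨(h.restrictScalars A) ∘ₗ (Submodule.mkQ _), ?_⟩
    ext m
    exact LinearMap.congr_fun hh (Submodule.Quotient.mk m)

end Groth.Agent.S4552
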