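import Groth.Statements.S4555
import Groth.Agent.Lib.helper6.PSeries

set_option autoImplicit false
universe u
open EGA41

namespace Groth.Agent.S4555

/-- Let A carry the 𝔞-adic topology, B = A[[T_1, …, T_n]] the product topology (the adic topology of 𝔞B
+ (T_1, …, T_n)), and let E be a discrete topological A-algebra (a power of 𝔞 kills E). (i) If f : B
→ E is a continuous A-algebra homomorphism then each f(T_i) is nilpotent. (ii) Conversely, for every
family (z_i) of nilpotent elements of E there is one and only one continuous A-algebra homomorphism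
g : B → E with g(T_i) = z_i for all i. -/
theorem result (A : Type u) [CommRing A] (𝔞 : Ideal A) (n : ℕ) (E : Type u) [CommRing E]
    [Algebra A E] (hE : ∃ k : ℕ, (𝔞 ^ k).map (algebraMap A E) = ⊥) :
    (∀ f : MvPowerSeries (Fin n) A →ₐ[A] E,
      (∃ m : ℕ, ∀ x ∈ (𝔞.map (MvPowerSeries.C : A →+* MvPowerSeries (Fin n) A) ⊔
        RingHom.ker (MvPowerSeries.constantCoeff : MvPowerSeries (Fin n) A →+* A)) ^ m, f x = 0) →
      ∀ i, IsNilpotent (f (MvPowerSeries.X i))) ∧
    ∀ z : Fin n → E, (∀ i, IsNilpotent (z i)) →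
      ∃! g : MvPowerSeries (Fin n) A →ₐ[A] E,
        (∃ m : ℕ, ∀ x ∈ (𝔞.map (MvPowerSeries.C : A →+* MvPowerSeries (Fin n) A) ⊔
          RingHom.ker (MvPowerSeries.constantCoeff : MvPowerSeries (Fin n) A →+* A)) ^ m, g x = 0) ∧
        ∀ i, g (MvPowerSeries.X i) = z i := by
  have hX : ∀ i, (MvPowerSeries.X i : MvPowerSeries (Fin n) A) ∈
      𝔞.map (MvPowerSeries.C : A →+* MvPowerSeries (Fin n) A) ⊔
        RingHom.ker (MvPowerSeries.constantCoeff : MvPowerSeries (Fin n) A →+* A) := by
    intro i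
    refine Ideal.mem_sup_right ?_
    rw [RingHom.mem_ker]
    exact MvPowerSeries.constantCoeff_X i
  have hker : RingHom.ker (MvPowerSeries.constantCoeff : MvPowerSeries (Fin n) A →+* A) ≤
      Ideal.span (Set.range (MvPowerSeries.X : Fin n → MvPowerSeries (Fin n) A)) := by
    intro f hf
    rw [RingHom.mem_ker] at hf
    obtain ⟨g, hg, -⟩ := H6PS.exists_decomp f
    rw [MvPowerSeries.coeff_zero_eq_constantCoeff_apply, hf, map_zero, zero_add] at hg
    rw [hg]
    exact Ideal.sum_mem _ fun i _ =>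
      Ideal.mul_mem_right _ _ (Ideal.subset_span ⟨i, rfl⟩)
  refine ⟨?_, ?_⟩
  · rintro f ⟨m, hm⟩ i
    exact ⟨m, by rw [← map_pow]; exact hm _ (Ideal.pow_mem_pow (hX i) m)⟩
  · intro z hz
    obtain ⟨k, hk⟩ := hE
    have hIfg : (Ideal.span (Set.range z)).FG := Submodule.fg_span (Set.finite_range z)
    have hInil : IsNilpotent (Ideal.span (Set.range z)) :=
      hIfg.isNilpotent_iff_le_nilradical.2 (Ideal.span_le.2 (by
        rintro _ ⟨i, rfl⟩
        exact (mem_nilradical).2 (hz i)))
    obtain ⟨N, hN⟩ := hInil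
    rw [Ideal.zero_eq_bot] at hN
    have hs : ∀ i, z i ∈ Ideal.span (Set.range z) := fun i => Ideal.subset_span ⟨i, rfl⟩
    have hgX : ∀ i, H6PS.evalNil (Λ := A) z (Ideal.span (Set.range z)) N hN hs
        (MvPowerSeries.X i) = z i := fun i => H6PS.evalNil_X z _ N hN hs i
    refine ⟨H6PS.evalNil (Λ := A) z (Ideal.span (Set.range z)) N hN hs, ⟨⟨k + N, ?_⟩, hgX⟩, ?_⟩
    · intro x hx
      have hx' := Ideal.sup_pow_add_le_pow_sup_pow hx
      obtain ⟨p, hp, q, hq, rfl⟩ := Submodule.mem_sup.1 hx'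
      have h1 : H6PS.evalNil (Λ := A) z (Ideal.span (Set.range z)) N hN hs p = 0 := by
        have hle : (𝔞.map (MvPowerSeries.C : A →+* MvPowerSeries (Fin n) A)) ^ k ≤
            RingHom.ker (H6PS.evalNil (Λ := A) z (Ideal.span (Set.range z)) N hN hs) := by
          rw [← Ideal.map_pow, Ideal.map_le_iff_le_comap]
          intro a ha
          rw [Ideal.mem_comap, RingHom.mem_ker, H6PS.C_eq_algebraMap, AlgHom.commutes]
          have : algebraMap A E a ∈ (𝔞 ^ k).map (algebraMap A E) := Ideal.mem_map_of_mem _ ha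
          rw [hk, Ideal.mem_bot] at this
          exact this
        exact hle hp
      have h2 : H6PS.evalNil (Λ := A) z (Ideal.span (Set.range z)) N hN hs q = 0 := by
        apply H6PS.map_pow_span_X_eq_zero (Ideal.span (Set.range z)) N hN
        · intro i; rw [hgX]; exact hs i
        · exact Ideal.pow_right_mono hker N hq
      rw [map_add, h1, h2, add_zero]
    · rintro g' ⟨-, hg'⟩
      symm
      apply H6PS.algHom_ext_nil (Ideal.span (Set.range z)) N hN
      · intro i; rw [hgX]; exact hs i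
      · intro i; rw [hgX, hg']

end Groth.Agent.S4555
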