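import Groth.Statements.S4556
import Mathlib

set_option autoImplicit false
universe u
open EGA41

namespace Groth.Agent.S4556

/-- Let B be a formally smooth A-algebra, E and E' two A-algebras, R (resp. R') a nilpotent ideal of E
(resp. E'), f : E → E' a surjective A-algebra homomorphism with f(R) = R', and f' : E/R → E'/R' the
induced homomorphism. Let u : B → E/R be an A-algebra homomorphism and v' : B → E' an A-algebra
homomorphism through which f' ∘ u factors (v' followed by E' → E'/R' equals f' ∘ u). Then there is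
an A-algebra homomorphism v : B → E with f ∘ v = v'. (The published statement assumes only f(R) ⊆
R'; in that form it fails for B = ℚ[x, x⁻¹], E = ℚ[t], E' = ℚ[t]/(t²), R = 0, R' = (t), u : x ↦ 1
and v' : x ↦ 1 + t, since any v sends x to a unit of ℚ[t], a constant; the argument identifies R'
with the image of R, and that equality is assumed here.) -/
theorem result {A B E E' : Type u} [CommRing A] [CommRing B] [Algebra A B]
    [Algebra.FormallySmooth A B] [CommRing E] [CommRing E'] [Algebra A E] [Algebra A E']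
    (R : Ideal E) (R' : Ideal E') (hR : IsNilpotent R) (hR' : IsNilpotent R')
    (f : E →ₐ[A] E') (hf : Function.Surjective f) (hfR : R.map f.toRingHom = R')
    (u : B →ₐ[A] E ⧸ R) (v' : B →ₐ[A] E')
    (huv : (Ideal.Quotient.mkₐ A R').comp v' =
      (Ideal.quotientMapₐ R' f (fun x hx => hfR.le (Ideal.mem_map_of_mem f.toRingHom hx))).comp u) :
    ∃ v : B →ₐ[A] E, f.comp v = v' := by
  classical
  have hle : ∀ x ∈ R, f x ∈ R' := fun x hx => hfR.le (Ideal.mem_map_of_mem f.toRingHom hx)
  let φ₁ : (E ⧸ R) × E' →ₐ[A] E' ⧸ R' :=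
    (Ideal.quotientMapₐ R' f hle).comp (AlgHom.fst A (E ⧸ R) E')
  let φ₂ : (E ⧸ R) × E' →ₐ[A] E' ⧸ R' :=
    (Ideal.Quotient.mkₐ A R').comp (AlgHom.snd A (E ⧸ R) E')
  let P : Subalgebra A ((E ⧸ R) × E') := AlgHom.equalizer φ₁ φ₂
  have hgE : ∀ e : E, ((Ideal.Quotient.mkₐ A R).prod f) e ∈ P := by
    intro e
    show φ₁ _ = φ₂ _
    rfl
  let gE : E →ₐ[A] P := AlgHom.codRestrict ((Ideal.Quotient.mkₐ A R).prod f) P hgE
  have hgB : ∀ b : B, (u.prod v') b ∈ P := by
    intro b
    show φ₁ _ = φ₂ _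
    exact (AlgHom.congr_fun huv b).symm
  let gB : B →ₐ[A] P := AlgHom.codRestrict (u.prod v') P hgB
  have hsurj : Function.Surjective gE := by
    rintro ⟨⟨ebar, e'⟩, hx⟩
    obtain ⟨e₀, rfl⟩ := Ideal.Quotient.mk_surjective ebar
    have hx' : Ideal.Quotient.mk R' (f e₀) = Ideal.Quotient.mk R' e' := hx
    rw [Ideal.Quotient.eq, ← hfR] at hx'
    obtain ⟨r, hr, hfr⟩ := (Ideal.mem_map_iff_of_surjective f.toRingHom hf).1 hx'
    refine ⟨e₀ - r, Subtype.ext (Prod.ext ?_ ?_)⟩
    · show Ideal.Quotient.mk R (e₀ - r) = Ideal.Quotient.mk R e₀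
      rw [map_sub, Ideal.Quotient.eq_zero_iff_mem.2 hr, sub_zero]
    · show f (e₀ - r) = e'
      have hfr' : f r = f e₀ - e' := hfr
      rw [map_sub, hfr']; ring
  have hker : RingHom.ker (gE : E →+* P) ≤ R := by
    intro e he
    have h1 : gE e = 0 := he
    have h2 : Ideal.Quotient.mk R e = 0 := congrArg (fun z : P => (z : (E ⧸ R) × E').1) h1
    exact Ideal.Quotient.eq_zero_iff_mem.1 h2
  have hnil : IsNilpotent (RingHom.ker (gE : E →+* P)) := by
    obtain ⟨k, hk⟩ := hR
    refine ⟨k, ?_⟩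
    rw [Ideal.zero_eq_bot, eq_bot_iff]
    calc RingHom.ker (gE : E →+* P) ^ k ≤ R ^ k := Ideal.pow_right_mono hker k
      _ = ⊥ := hk
  refine ⟨Algebra.FormallySmooth.liftOfSurjective gB gE hsurj hnil, ?_⟩
  refine AlgHom.ext fun b => ?_
  have h1 := Algebra.FormallySmooth.liftOfSurjective_apply gB gE hsurj hnil b
  have h2 := congrArg (fun z : P => (z : (E ⧸ R) × E').2) h1
  exact h2

end Groth.Agent.S4556
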