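import Groth.Statements.S4569
import Mathlib.RingTheory.Localization.Ideal

set_option autoImplicit false
universe u
open CAlg

namespace Groth.Agent.S4569

/-- Let A be a ring, x a non-zero-divisor of A with p = xA prime. For every n > 0 the inverse image in A
of x^n A_p is x^n A. -/
theorem result {A : Type u} [CommRing A] (x : A)
    (hx : x ∈ nonZeroDivisors A) [(Ideal.span ({x} : Set A)).IsPrime] (n : ℕ) (hn : 0 < n) :
    Ideal.comap (algebraMap A (Localization.AtPrime (Ideal.span ({x} : Set A))))
      (Ideal.map (algebraMap A (Localization.AtPrime (Ideal.span ({x} : Set A)))) (Ideal.span ({x ^ n} : Set A))) =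
      Ideal.span ({x ^ n} : Set A) := by
  have key : ∀ k : ℕ, ∀ a m : A, m ∉ Ideal.span ({x} : Set A) → m * a ∈ Ideal.span ({x ^ k} : Set A) →
      a ∈ Ideal.span ({x ^ k} : Set A) := by
    intro k
    induction k with
    | zero => intro a m _ _; simp
    | succ k ih =>
      intro a m hm hma
      have h1 : m * a ∈ Ideal.span ({x} : Set A) := by
        rw [Ideal.mem_span_singleton] at hma ⊢
        exact dvd_trans (dvd_pow_self x (Nat.succ_ne_zero k)) hma
      have h2 : a ∈ Ideal.span ({x} : Set A) :=
        ((Ideal.IsPrime.mem_or_mem inferInstance h1).resolve_left hm)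
      rw [Ideal.mem_span_singleton] at h2
      obtain ⟨b, rfl⟩ := h2
      rw [Ideal.mem_span_singleton] at hma
      obtain ⟨c, hc⟩ := hma
      have h3 : m * b = x ^ k * c := by
        have : x * (m * b) = x * (x ^ k * c) := by
          have e1 : x * (m * b) = m * (x * b) := by ring
          have e2 : x * (x ^ k * c) = x ^ (k + 1) * c := by ring
          rw [e1, e2, hc]
        exact (mul_cancel_left_mem_nonZeroDivisors hx).mp this
      have h4 : b ∈ Ideal.span ({x ^ k} : Set A) := by
        apply ih b m hm
        rw [Ideal.mem_span_singleton]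
        exact ⟨c, h3⟩
      rw [Ideal.mem_span_singleton] at h4 ⊢
      rw [pow_succ']
      exact mul_dvd_mul_left x h4
  refine le_antisymm (fun a ha => ?_) Ideal.le_comap_map
  rw [Ideal.mem_comap, IsLocalization.algebraMap_mem_map_algebraMap_iff
    (Ideal.span ({x} : Set A)).primeCompl] at ha
  obtain ⟨m, hm, hma⟩ := ha
  exact key n a m hm hma

end Groth.Agent.S4569
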