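import Groth.Statements.S4575
import Groth.Agent.Lib.helper2.RegIdeal2

set_option autoImplicit false
universe u
open IsLocalRing
open EGA41

namespace Groth.Agent.S4575

/-- Let R be a regular local ring with maximal ideal m and n a proper ideal with R/n regular. Then
(n/n²) ⊗_R K → (m/m²) ⊗_R K is injective, K the residue field; stated in the equivalent form n ∩ m²
= m·n (the kernel of n/mn → m/m² is (n ∩ m²)/mn). -/
theorem result {R : Type u} [CommRing R] [IsRegularLocalRing R]
    (n : Ideal R) (hn : n ≠ ⊤) (hreg : IsRegularRing (R ⧸ n)) :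
    n ⊓ maximalIdeal R ^ 2 = maximalIdeal R * n := by
  classical
  have hnm : n ≤ maximalIdeal R := IsLocalRing.le_maximalIdeal hn
  haveI : Nontrivial (R ⧸ n) := Ideal.Quotient.nontrivial_iff.mpr hn
  haveI : IsLocalRing (R ⧸ n) :=
    IsLocalRing.of_surjective' (Ideal.Quotient.mk n) Ideal.Quotient.mk_surjective
  haveI : IsRegularLocalRing (R ⧸ n) := IsRegularLocalRing.of_isRegularRing_of_isLocalRing (R ⧸ n)
  obtain ⟨ks, hks, hksK⟩ := h2_maxIdeal_regular R
  obtain ⟨sb, hsb, hsbK⟩ := h2_maxIdeal_regular (R ⧸ n)
  have hmap : (maximalIdeal R).map (Ideal.Quotient.mk n) = maximalIdeal (R ⧸ n) :=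
    Helper1.maximalIdeal_map_of_surjective _ Ideal.Quotient.mk_surjective
  obtain ⟨xs, hxs, hxsn, hlen⟩ := h2_regular_ideal_of_quotient R n (maximalIdeal R) hnm le_rfl
    ks hks hksK sb hsb (hsbK.trans hmap.symm)
  have hrange : ∀ {A : Type u} (l : List A), Set.range l.get = {x | x ∈ l} := by
    intro A l
    ext x
    constructor
    · rintro ⟨i, rfl⟩; exact List.get_mem _ _
    · intro hx
      obtain ⟨i, hi⟩ := List.get_of_mem hx
      exact ⟨i, hi⟩
  let s : Fin sb.length → R := fun j => Function.surjInv Ideal.Quotient.mk_surjective (sb.get j)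
  have hs : ∀ j, Ideal.Quotient.mk n (s j) = sb.get j := fun j => Function.surjInv_eq _ _
  let g : Fin (xs.length + sb.length) → R := Fin.append xs.get s
  have hxsspan : Ideal.span (Set.range xs.get) = n := by rw [hrange]; exact hxsn
  have hcomap : ∀ I : Ideal R, (I.map (Ideal.Quotient.mk n)).comap (Ideal.Quotient.mk n) = I ⊔ n := by
    intro I
    rw [Ideal.comap_map_of_surjective _ Ideal.Quotient.mk_surjective, ← RingHom.ker_eq_comap_bot,
      Ideal.mk_ker]
  have hsbspan : (Ideal.span (Set.range s)).map (Ideal.Quotient.mk n) = maximalIdeal (R ⧸ n) := by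
    rw [Ideal.map_span, ← Set.range_comp, ← hsbK]
    have : (Ideal.Quotient.mk n) ∘ s = sb.get := funext hs
    rw [this, hrange]
  have hspan : Ideal.span (Set.range g) = maximalIdeal R := by
    apply le_antisymm
    · rw [Ideal.span_le]
      rintro _ ⟨i, rfl⟩
      refine Fin.addCases (fun i => ?_) (fun j => ?_) i
      · simp only [g, Fin.append_left]
        exact hnm (hxsspan ▸ Ideal.subset_span ⟨i, rfl⟩)
      · simp only [g, Fin.append_right]
        have h1 : s j ∈ ((maximalIdeal R).map (Ideal.Quotient.mk n)).comap (Ideal.Quotient.mk n) := by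
          rw [Ideal.mem_comap, hmap, hs, ← hsbK]
          exact Ideal.subset_span (List.get_mem _ _)
        rw [hcomap, sup_eq_left.2 hnm] at h1
        exact h1
    · intro y hy
      have h1 : y ∈ ((Ideal.span (Set.range s)).map (Ideal.Quotient.mk n)).comap
          (Ideal.Quotient.mk n) := by
        rw [Ideal.mem_comap, hsbspan, ← hmap]
        exact Ideal.mem_map_of_mem _ hy
      rw [hcomap] at h1
      refine (sup_le ?_ ?_ : Ideal.span (Set.range s) ⊔ n ≤ Ideal.span (Set.range g)) h1
      · apply Ideal.span_mono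
        rintro _ ⟨j, rfl⟩
        exact ⟨Fin.natAdd _ j, by simp only [g, Fin.append_right]⟩
      · refine le_trans (le_of_eq hxsspan.symm) (Ideal.span_mono ?_)
        rintro _ ⟨i, rfl⟩
        exact ⟨Fin.castAdd _ i, by simp only [g, Fin.append_left]⟩
  have hq : CAlgX.IsQuasiRegular g := by
    have hk : CAlgX.IsQuasiRegular (fun i : Fin ks.length => ks.get (Fin.rev i)) := by
      apply h2_qreg_of_regular
      have h0 : (List.ofFn fun i => (fun i : Fin ks.length => ks.get (Fin.rev i)) (Fin.rev i))
          = ks := by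
        simp only [Fin.rev_rev]
        exact List.ofFn_get ks
      rw [h0]
      exact hks.toIsWeaklyRegular
    refine h2_qreg_of_span_eq' hlen.symm _ g hk ?_
    rw [hspan, ← hksK]
    show Ideal.span {x | x ∈ ks} = Ideal.span _
    congr 1
    ext x
    constructor
    · intro hx
      obtain ⟨i, hi⟩ := List.get_of_mem hx
      exact ⟨Fin.rev i, by simp only [Fin.rev_rev]; exact hi⟩
    · rintro ⟨i, rfl⟩
      exact List.get_mem _ _
  apply le_antisymm
  · rintro y ⟨hyn, hym⟩
    have hy1 : y ∈ Ideal.span (Set.range xs.get) := by rw [hxsspan]; exact hyn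
    obtain ⟨a, ha⟩ := Ideal.mem_span_range_iff_exists_fun.1 hy1
    let c : Fin (xs.length + sb.length) → R := Fin.append a (fun _ => 0)
    have hc : ∑ i, c i * g i = y := by
      rw [Fin.sum_univ_add]
      simp only [c, g, Fin.append_left, Fin.append_right, zero_mul, Finset.sum_const_zero,
        add_zero]
      exact ha
    have hcm := h2_qreg_lin g hq (maximalIdeal R) c (by
      rw [hc, hspan, ← pow_two]; exact hym)
    rw [hspan, sup_idem] at hcm
    rw [← ha]
    refine Ideal.sum_mem _ fun i _ => Ideal.mul_mem_mul ?_ ?_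
    · have := hcm (Fin.castAdd _ i)
      simpa only [c, Fin.append_left] using this
    · exact hxsspan ▸ Ideal.subset_span ⟨i, rfl⟩
  · refine le_inf Ideal.mul_le_right ?_
    rw [pow_two]
    exact Ideal.mul_mono_right hnm

end Groth.Agent.S4575
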