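import Groth.Statements.S4587
import Mathlib

set_option autoImplicit false
universe u
open AlgebraicGeometry CategoryTheory
open EGA41

namespace Groth.Agent.S4587

lemma preirr_preimage_val {X : Type*} [TopologicalSpace X] (T W : Set X)
    (hW : IsPreirreducible W) (hWT : W ⊆ T) :
    IsPreirreducible ((↑) ⁻¹' W : Set ↥T) := by
  intro u v hu hv ⟨a, haW, hau⟩ ⟨b, hbW, hbv⟩
  obtain ⟨u', hu', rfl⟩ := isOpen_induced_iff.mp hu
  obtain ⟨v', hv', rfl⟩ := isOpen_induced_iff.mp hv
  obtain ⟨w, hwW, hwu, hwv⟩ := hW u' v' hu' hv' ⟨a, haW, hau⟩ ⟨b, hbW, hbv⟩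
  exact ⟨⟨w, hWT hwW⟩, hwW, hwu, hwv⟩

/-- A morphism of schemes f : X → Y is generizing if and only if, for every irreducible closed subset Y'
of Y, each irreducible component of f⁻¹(Y') has dense image in Y'. -/
theorem result {X Y : Scheme.{u}} (f : X ⟶ Y) :
    GeneralizingMap f.base ↔
      ∀ Y' : Set Y, IsClosed Y' → IsIrreducible Y' →
        ∀ Z ∈ irreducibleComponents ↥(f.base ⁻¹' Y'), closure (f.base '' (Subtype.val '' Z)) = Y' := by
  constructor
  · intro hgen Y' hY'cl hY'irr Z hZ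
    have hTcl : IsClosed (f.base ⁻¹' Y') := hY'cl.preimage f.continuous
    have hZirr : IsIrreducible Z := hZ.1
    have hZcl : IsClosed Z := isClosed_of_mem_irreducibleComponents Z hZ
    have hZ'irr : IsIrreducible (Subtype.val '' Z) :=
      hZirr.image _ continuous_subtype_val.continuousOn
    have hZ'cl : IsClosed (Subtype.val '' Z) :=
      hTcl.isClosedEmbedding_subtypeVal.isClosedMap _ hZcl
    obtain ⟨ξ, hξ⟩ := QuasiSober.sober hZ'irr hZ'cl
    obtain ⟨η', hη'⟩ := QuasiSober.sober hY'irr hY'cl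
    have hξZ : ξ ∈ Subtype.val '' Z := by
      rw [← hξ.def]
      exact subset_closure rfl
    obtain ⟨⟨ξ0, hξ0T⟩, hξ0Z, hξ0eq⟩ := hξZ
    have hξ0eq' : ξ0 = ξ := hξ0eq
    subst hξ0eq'
    have hfξ : f.base ξ0 ∈ Y' := hξ0T
    have h1 : η' ⤳ f.base ξ0 := by
      rw [specializes_iff_mem_closure, hη'.def]
      exact hfξ
    obtain ⟨x', hx'1, hx'2⟩ := hgen h1
    have hx'T : x' ∈ f.base ⁻¹' Y' := by
      show f.base x' ∈ Y'
      rw [hx'2, ← hη'.def]
      exact subset_closure rfl
    have hWT : closure {x'} ⊆ f.base ⁻¹' Y' :=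
      closure_minimal (Set.singleton_subset_iff.mpr hx'T) hTcl
    have hWirr : IsIrreducible ((↑) ⁻¹' closure {x'} : Set ↥(f.base ⁻¹' Y')) :=
      ⟨⟨⟨x', hx'T⟩, subset_closure rfl⟩,
        preirr_preimage_val _ _ isIrreducible_singleton.closure.isPreirreducible hWT⟩
    have hZW : Z ⊆ (↑) ⁻¹' closure {x'} := by
      intro z hz
      have h2 : (z : X) ∈ closure {ξ0} := by
        rw [hξ.def]
        exact ⟨z, hz, rfl⟩
      exact (specializes_iff_closure_subset.mp hx'1) h2
    have hWZ : (↑) ⁻¹' closure {x'} ⊆ Z := hZ.2 hWirr hZW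
    have hx'Z : x' ∈ closure {ξ0} := by
      rw [hξ.def]
      exact ⟨⟨x', hx'T⟩, hWZ (subset_closure rfl), rfl⟩
    have hx'eq : x' = ξ0 := (hx'1.antisymm (specializes_iff_mem_closure.mpr hx'Z)).eq
    apply Set.Subset.antisymm
    · apply closure_minimal _ hY'cl
      rintro _ ⟨_, ⟨z, hz, rfl⟩, rfl⟩
      exact z.2
    · have h5 : closure ({η'} : Set Y) ⊆ closure (f.base '' (Subtype.val '' Z)) := by
        apply closure_mono
        rw [Set.singleton_subset_iff]
        exact ⟨ξ0, ⟨⟨ξ0, hξ0T⟩, hξ0Z, rfl⟩, by rw [← hx'eq]; exact hx'2⟩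
      rw [hη'.def] at h5
      exact h5
  · intro H x y' hy'
    have hxT : x ∈ f.base ⁻¹' closure ({y'} : Set Y) := specializes_iff_mem_closure.mp hy'
    have hTcl : IsClosed (f.base ⁻¹' closure ({y'} : Set Y)) :=
      isClosed_closure.preimage f.continuous
    have hZ := irreducibleComponent_mem_irreducibleComponents
      (⟨x, hxT⟩ : ↥(f.base ⁻¹' closure ({y'} : Set Y)))
    have hcl := H (closure {y'}) isClosed_closure isIrreducible_singleton.closure _ hZ
    have hZ'irr : IsIrreducible (Subtype.val '' irreducibleComponent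
        (⟨x, hxT⟩ : ↥(f.base ⁻¹' closure ({y'} : Set Y)))) :=
      hZ.1.image _ continuous_subtype_val.continuousOn
    have hZ'cl : IsClosed (Subtype.val '' irreducibleComponent
        (⟨x, hxT⟩ : ↥(f.base ⁻¹' closure ({y'} : Set Y)))) :=
      hTcl.isClosedEmbedding_subtypeVal.isClosedMap _
        (isClosed_of_mem_irreducibleComponents _ hZ)
    obtain ⟨ξ, hξ⟩ := QuasiSober.sober hZ'irr hZ'cl
    refine ⟨ξ, ?_, ?_⟩
    · show ξ ⤳ x
      rw [specializes_iff_mem_closure, hξ.def]
      exact ⟨⟨x, hxT⟩, mem_irreducibleComponent, rfl⟩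
    · have h1 : f.base '' (Subtype.val '' irreducibleComponent
          (⟨x, hxT⟩ : ↥(f.base ⁻¹' closure ({y'} : Set Y)))) ⊆ closure {f.base ξ} := by
        rw [← hξ.def]
        refine (image_closure_subset_closure_image f.continuous).trans ?_
        rw [Set.image_singleton]
      have h2 : closure ({y'} : Set Y) ⊆ closure {f.base ξ} := by
        rw [← hcl]
        exact closure_minimal h1 isClosed_closure
      have h3 : f.base ξ ∈ closure ({y'} : Set Y) := by
        have h4 : ξ ∈ Subtype.val '' irreducibleComponent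
            (⟨x, hxT⟩ : ↥(f.base ⁻¹' closure ({y'} : Set Y))) := by
          rw [← hξ.def]
          exact subset_closure rfl
        obtain ⟨z, _, rfl⟩ := h4
        exact z.2
      exact ((specializes_iff_mem_closure.mpr (h2 (subset_closure rfl))).antisymm
        (specializes_iff_mem_closure.mpr h3)).eq

end Groth.Agent.S4587
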