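import Groth.Statements.S4590
import Mathlib
import Groth.Agent.Lib.helper3.IntDesc

set_option autoImplicit false
universe u
open CAlg

 open Groth.Agent.Lib.helper3.IntDesc
namespace Groth.Agent.S4590

/-- Let A be a domain with fraction field K, B a faithfully flat A-algebra, C = B_red and R the total
ring of fractions of C. Then A → C is injective with nonzero elements going to non-zero-divisors, so
that K embeds in R, and an element of K is integral over C in R if and only if it is integral over
A. -/
theorem result {A B : Type u} [CommRing A] [IsDomain A]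
    [CommRing B] [Algebra A B] [Module.FaithfullyFlat A B] :
    Function.Injective (algebraMap A (B ⧸ nilradical B)) ∧
    (∀ a : A, a ≠ 0 → algebraMap A (B ⧸ nilradical B) a ∈ nonZeroDivisors (B ⧸ nilradical B)) ∧
    ∀ (R : Type u) [CommRing R] [Algebra (B ⧸ nilradical B) R] [IsFractionRing (B ⧸ nilradical B) R]
      [Algebra A R] [IsScalarTower A (B ⧸ nilradical B) R] [Algebra (FractionRing A) R]
      [IsScalarTower A (FractionRing A) R] (x : FractionRing A),
      IsIntegral (B ⧸ nilradical B) (algebraMap (FractionRing A) R x) ↔ IsIntegral A x := by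
  have hAB : Function.Injective (algebraMap A B) := FaithfulSMul.algebraMap_injective A B
  have hmk : ∀ a : A, algebraMap A (B ⧸ nilradical B) a
      = Ideal.Quotient.mk (nilradical B) (algebraMap A B a) := fun a => rfl
  have hinjC : Function.Injective (algebraMap A (B ⧸ nilradical B)) := by
    rw [injective_iff_map_eq_zero]
    intro a ha
    rw [hmk, Ideal.Quotient.eq_zero_iff_mem] at ha
    obtain ⟨n, hn⟩ := ha
    rw [← map_pow] at hn
    have h0 : a ^ n = 0 := hAB (hn.trans (map_zero _).symm)
    exact IsNilpotent.eq_zero ⟨n, h0⟩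
  have hnzd : ∀ a : A, a ≠ 0 →
      algebraMap A (B ⧸ nilradical B) a ∈ nonZeroDivisors (B ⧸ nilradical B) := by
    intro a ha
    rw [mem_nonZeroDivisors_iff_right]
    intro z hz
    obtain ⟨b, rfl⟩ := Ideal.Quotient.mk_surjective z
    rw [hmk, ← map_mul, Ideal.Quotient.eq_zero_iff_mem] at hz
    obtain ⟨n, hn⟩ := hz
    rw [Ideal.Quotient.eq_zero_iff_mem]
    refine ⟨n, ?_⟩
    have hreg : IsSMulRegular B (a ^ n) :=
      Module.Flat.isSMulRegular_of_nonZeroDivisors
        (mem_nonZeroDivisors_of_ne_zero (pow_ne_zero n ha))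
    have h1 : a ^ n • b ^ n = a ^ n • (0 : B) := by
      rw [smul_zero, Algebra.smul_def, map_pow, ← mul_pow, mul_comm]; exact hn
    exact hreg h1
  refine ⟨hinjC, hnzd, ?_⟩
  intro R _ _ _ _ _ _ _ x
  constructor
  · intro hint
    haveI : Nontrivial (B ⧸ nilradical B) := hinjC.nontrivial
    obtain ⟨⟨a, ⟨s, hs⟩⟩, hxs⟩ := IsLocalization.surj (nonZeroDivisors A) x
    have hxs' : x * algebraMap A (FractionRing A) s = algebraMap A (FractionRing A) a := hxs
    have hs0 : s ≠ 0 := nonZeroDivisors.ne_zero hs
    obtain ⟨P₀, hP₀monic, hP₀eval⟩ := hint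
    -- replace P₀ by P = P₀ * X to have positive degree
    obtain ⟨P, hPdef⟩ : ∃ P : Polynomial (B ⧸ nilradical B), P = P₀ * Polynomial.X := ⟨_, rfl⟩
    have hPmonic : P.Monic := hPdef ▸ hP₀monic.mul Polynomial.monic_X
    obtain ⟨n', hn'⟩ : ∃ n', P.natDegree = n' + 1 :=
      ⟨P₀.natDegree, by rw [hPdef, Polynomial.natDegree_mul_X hP₀monic.ne_zero]⟩
    have hPeval : Polynomial.eval₂ (algebraMap (B ⧸ nilradical B) R)
        (algebraMap (FractionRing A) R x) P = 0 := by
      rw [hPdef, Polynomial.eval₂_mul, hP₀eval, zero_mul]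
    -- notation
    obtain ⟨sC, hsC⟩ : ∃ sC, sC = algebraMap A (B ⧸ nilradical B) s := ⟨_, rfl⟩
    obtain ⟨aC, haC⟩ : ∃ aC, aC = algebraMap A (B ⧸ nilradical B) a := ⟨_, rfl⟩
    have hfs : algebraMap (B ⧸ nilradical B) R sC
        = algebraMap (FractionRing A) R (algebraMap A (FractionRing A) s) := by
      rw [hsC, ← IsScalarTower.algebraMap_apply A (B ⧸ nilradical B) R,
        ← IsScalarTower.algebraMap_apply A (FractionRing A) R]
    have hfa : algebraMap (B ⧸ nilradical B) R aC
        = algebraMap (FractionRing A) R (algebraMap A (FractionRing A) a) := by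
      rw [haC, ← IsScalarTower.algebraMap_apply A (B ⧸ nilradical B) R,
        ← IsScalarTower.algebraMap_apply A (FractionRing A) R]
    have hxa : algebraMap (B ⧸ nilradical B) R sC * algebraMap (FractionRing A) R x
        = algebraMap (B ⧸ nilradical B) R aC := by
      rw [hfs, hfa, mul_comm, ← map_mul, hxs']
    have h1 := Polynomial.scaleRoots_eval₂_mul (p := P) (algebraMap (B ⧸ nilradical B) R)
      (algebraMap (FractionRing A) R x) sC
    rw [hxa, hPeval, mul_zero, Polynomial.eval₂_at_apply] at h1
    have h2 : Polynomial.eval aC (Polynomial.scaleRoots P sC) = 0 :=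
      (IsFractionRing.injective (B ⧸ nilradical B) R) (h1.trans (map_zero _).symm)
    -- ideals
    let IA : Ideal A := Ideal.span {s}
    let bA : Ideal A := Ideal.span {a} ⊔ Ideal.span {s}
    let IC : Ideal (B ⧸ nilradical B) := IA.map (algebraMap A (B ⧸ nilradical B))
    let bC : Ideal (B ⧸ nilradical B) := bA.map (algebraMap A (B ⧸ nilradical B))
    have hsIC : sC ∈ IC := hsC ▸ Ideal.mem_map_of_mem _ (Ideal.mem_span_singleton_self s)
    have hsbC : sC ∈ bC :=
      hsC ▸ Ideal.mem_map_of_mem _ (Ideal.mem_sup_right (Ideal.mem_span_singleton_self s))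
    have habC : aC ∈ bC :=
      haC ▸ Ideal.mem_map_of_mem _ (Ideal.mem_sup_left (Ideal.mem_span_singleton_self a))
    have hmemC : aC ^ (n' + 1) ∈ IC * bC ^ n' := by
      rw [Polynomial.eval_eq_sum_range, Polynomial.natDegree_scaleRoots, hn',
        Finset.sum_range_succ] at h2
      have hlead : (Polynomial.scaleRoots P sC).coeff (n' + 1) = 1 := by
        rw [← hn', Polynomial.coeff_scaleRoots_natDegree]; exact hPmonic
      rw [hlead, one_mul] at h2
      have h3 : aC ^ (n' + 1) = - ∑ i ∈ Finset.range (n' + 1),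
          (Polynomial.scaleRoots P sC).coeff i * aC ^ i := eq_neg_of_add_eq_zero_right h2
      rw [h3]
      refine (Ideal.neg_mem_iff _).2 (Ideal.sum_mem _ fun i hi => ?_)
      rw [Finset.mem_range] at hi
      rw [Polynomial.coeff_scaleRoots, hn']
      have he : n' + 1 - i = (n' - i) + 1 := by omega
      rw [he, pow_succ]
      have h4 : sC ^ (n' - i) * aC ^ i ∈ bC ^ n' := by
        have : bC ^ n' = bC ^ (n' - i) * bC ^ i := by
          rw [← pow_add]; congr 1; omega
        rw [this]
        exact Ideal.mul_mem_mul (Ideal.pow_mem_pow hsbC _) (Ideal.pow_mem_pow habC _)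
      have h5 : P.coeff i * (sC ^ (n' - i) * sC) * aC ^ i
          = P.coeff i * (sC * (sC ^ (n' - i) * aC ^ i)) := by ring
      rw [h5]
      exact Ideal.mul_mem_left _ _ (Ideal.mul_mem_mul hsIC h4)
    -- lift to B
    let IB : Ideal B := IA.map (algebraMap A B)
    let bB : Ideal B := bA.map (algebraMap A B)
    have hIC : IC = IB.map (Ideal.Quotient.mk (nilradical B)) := by
      show IA.map _ = (IA.map _).map _
      rw [Ideal.map_map]; rfl
    have hbC : bC = bB.map (Ideal.Quotient.mk (nilradical B)) := by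
      show bA.map _ = (bA.map _).map _
      rw [Ideal.map_map]; rfl
    have hTC : IC * bC ^ n' = (IB * bB ^ n').map (Ideal.Quotient.mk (nilradical B)) := by
      rw [Ideal.map_mul, Ideal.map_pow, ← hIC, ← hbC]
    rw [hTC, Ideal.mem_map_iff_of_surjective _ Ideal.Quotient.mk_surjective] at hmemC
    obtain ⟨w, hw, hwa⟩ := hmemC
    obtain ⟨y, hy⟩ : ∃ y : B, y = algebraMap A B a ^ (n' + 1) := ⟨_, rfl⟩
    have hyw : y - w ∈ nilradical B := by
      rw [← Ideal.Quotient.eq_zero_iff_mem, map_sub, hwa, hy, map_pow, haC, hmk, sub_self]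
    obtain ⟨N, hN⟩ := hyw
    have hN' : (y - w) ^ (N + 1) = 0 := by rw [pow_succ, hN, zero_mul]
    have hIb : IB ≤ bB := Ideal.map_mono le_sup_right
    have hyb : y ∈ bB ^ (n' + 1) := by
      rw [hy]
      exact Ideal.pow_mem_pow
        (Ideal.mem_map_of_mem _ (Ideal.mem_sup_left (Ideal.mem_span_singleton_self a))) _
    have hfin := pow_mem_of_sub_pow_eq_zero IB bB hIb n' hyb hw N hN'
    -- descend to A
    have hTB : IB * bB ^ ((n' + 1) * N + n')
        = (IA * bA ^ ((n' + 1) * N + n')).map (algebraMap A B) := by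
      rw [Ideal.map_mul, Ideal.map_pow]
    have hyA : y ^ (N + 1) = algebraMap A B (a ^ ((n' + 1) * N + n' + 1)) := by
      rw [hy, map_pow, ← pow_mul]; congr 1 <;> ring
    rw [hTB, hyA, ← Ideal.mem_comap, Ideal.comap_map_eq_self_of_faithfullyFlat] at hfin
    exact isIntegral_of_pow_mem a s hs0 _ hfin x hxs'
  · intro hint
    have h1 : IsIntegral A (algebraMap (FractionRing A) R x) :=
      hint.map (IsScalarTower.toAlgHom A (FractionRing A) R)
    exact h1.tower_top

end Groth.Agent.S4590
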