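import Groth.Statements.S4593
import Mathlib

set_option autoImplicit false
universe u
open CategoryTheory CategoryTheory.Limits AlgebraicGeometry
open EGA41

namespace Groth.Agent.S4593

/-- Let B be a ring, (A_i) a filtered system of B-algebras with colimit A. The image of Spec A in Spec B
is the intersection of the images of the Spec A_i. -/
theorem result {I : Type u} [SmallCategory I] [IsFiltered I]
    (B : CommRingCat.{u}) (D : I ⥤ CommRingCat.{u}) (s : (Functor.const I).obj B ⟶ D) (c : Cocone D)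
    (hc : IsColimit c) (i₀ : I) :
    Set.range (Spec.map (s.app i₀ ≫ c.ι.app i₀)).base = ⋂ i : I, Set.range (Spec.map (s.app i)).base := by
  classical
  have : PreservesColimitsOfShape I (forget CommRingCat.{u}) :=
    PreservesFilteredColimitsOfSize.preserves_filtered_colimits I
  have hnat : ∀ {a b : I} (f : a ⟶ b), s.app b = s.app a ≫ D.map f := by
    intro a b f
    have := s.naturality f
    simpa using this
  have h1 : ∀ {a b : I} (f : a ⟶ b), s.app a ≫ c.ι.app a = s.app b ≫ c.ι.app b := by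
    intro a b f
    rw [hnat f, Category.assoc, c.w]
  have hσ : ∀ i, s.app i ≫ c.ι.app i = s.app i₀ ≫ c.ι.app i₀ := by
    intro i
    rw [h1 (IsFiltered.leftToMax i i₀), ← h1 (IsFiltered.rightToMax i i₀)]
  ext (x : PrimeSpectrum B)
  simp only [Set.mem_iInter]
  constructor
  · rintro ⟨y, rfl⟩ i
    refine ⟨(Spec.map (c.ι.app i)).base y, ?_⟩
    rw [← hσ i, Spec.map_comp]
    rfl
  · intro hx
    have hx' : ∀ i, (x.asIdeal.map (s.app i).hom).comap (s.app i).hom = x.asIdeal := by
      intro i
      exact (PrimeSpectrum.mem_range_comap_iff (s.app i).hom).mp (hx i)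
    change x ∈ Set.range (PrimeSpectrum.comap (s.app i₀ ≫ c.ι.app i₀).hom)
    rw [PrimeSpectrum.mem_range_comap_iff]
    refine le_antisymm ?_ Ideal.le_comap_map
    have htr : ∀ {j k : I} (f : j ⟶ k) (y : D.obj j), y ∈ Ideal.map (s.app j).hom x.asIdeal →
        (D.map f).hom y ∈ Ideal.map (s.app k).hom x.asIdeal := by
      intro j k f y hy
      have := Ideal.mem_map_of_mem (D.map f).hom hy
      rw [Ideal.map_map] at this
      rw [hnat f]
      exact this
    have hw : ∀ {j k : I} (f : j ⟶ k) (y : D.obj j),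
        (c.ι.app k).hom ((D.map f).hom y) = (c.ι.app j).hom y :=
      fun f y => congrArg (fun g => g.hom y) (c.w f)
    have claim : ∀ z ∈ Ideal.map (s.app i₀ ≫ c.ι.app i₀).hom x.asIdeal,
        ∃ (j : I) (y : D.obj j), y ∈ Ideal.map (s.app j).hom x.asIdeal ∧
          (c.ι.app j).hom y = z := by
      intro z hz
      refine Submodule.span_induction (p := fun z _ => ∃ (j : I) (y : D.obj j),
        y ∈ Ideal.map (s.app j).hom x.asIdeal ∧ (c.ι.app j).hom y = z) ?_ ?_ ?_ ?_ hz
      · rintro _ ⟨π, hπ, rfl⟩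
        exact ⟨i₀, (s.app i₀).hom π, Ideal.mem_map_of_mem _ hπ, rfl⟩
      · exact ⟨i₀, 0, zero_mem _, map_zero _⟩
      · rintro z w _ _ ⟨j₁, y₁, h₁, rfl⟩ ⟨j₂, y₂, h₂, rfl⟩
        refine ⟨IsFiltered.max j₁ j₂, (D.map (IsFiltered.leftToMax j₁ j₂)).hom y₁ +
          (D.map (IsFiltered.rightToMax j₁ j₂)).hom y₂, add_mem (htr _ _ h₁) (htr _ _ h₂), ?_⟩
        rw [map_add, hw, hw]
      · rintro a z _ ⟨j, y, hy, rfl⟩
        obtain ⟨j', a', rfl⟩ := Concrete.isColimit_exists_rep D hc a
        refine ⟨IsFiltered.max j' j, (D.map (IsFiltered.leftToMax j' j)).hom a' *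
          (D.map (IsFiltered.rightToMax j' j)).hom y, Ideal.mul_mem_left _ _ (htr _ _ hy), ?_⟩
        rw [map_mul, hw, hw]
        rfl
    intro b hb
    obtain ⟨j, y, hy, hyb⟩ := claim _ hb
    have hb' : (c.ι.app j).hom y = (c.ι.app j).hom ((s.app j).hom b) := by
      rw [hyb]
      exact congrArg (fun g => g.hom b) (hσ j).symm
    obtain ⟨k, f, g, hfg⟩ := Concrete.isColimit_exists_of_rep_eq D hc y ((s.app j).hom b) hb'
    have h2 : (D.map g).hom ((s.app j).hom b) = (s.app k).hom b :=
      congrArg (fun g => g.hom b) (hnat g).symm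
    have h3 : (s.app k).hom b ∈ Ideal.map (s.app k).hom x.asIdeal := by
      rw [← h2]
      have := htr f y hy
      rwa [show (D.map f).hom y = (D.map g).hom ((s.app j).hom b) from hfg] at this
    exact (hx' k).le h3

end Groth.Agent.S4593
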