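import Groth.Statements.S4597
import Mathlib

set_option autoImplicit false
universe u
open AlgebraicGeometry CategoryTheory CategoryTheory.Limits
open EGA41

namespace Groth.Agent.S4597

/-- Let f : X → Y, g : Y' → Y and f' : X ×_Y Y' → Y' the base change. If g is quasi-compact surjective
and f' quasi-compact, f is quasi-compact; if g is surjective and f' dominant, f is dominant. -/
theorem result {X Y Y' : Scheme.{u}} (f : X ⟶ Y)
    (g : Y' ⟶ Y) [Surjective g] :
    (QuasiCompact g → QuasiCompact (pullback.snd f g) → QuasiCompact f) ∧
    (IsDominant (pullback.snd f g) → IsDominant f) := by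
  constructor
  · intro hg hs
    rw [quasiCompact_iff_isSpectralMap]
    refine ⟨f.continuous, fun U hU hUc => ?_⟩
    have hfst : Function.Surjective (pullback.fst f g) := (pullback.fst f g).surjective
    have hcond : ∀ z : ↥(pullback f g), f (pullback.fst f g z) = g (pullback.snd f g z) := by
      intro z
      have e : (pullback.fst f g ≫ f) = (pullback.snd f g ≫ g) := pullback.condition
      have := congr_arg (fun h : pullback f g ⟶ Y => h z) e
      simpa using this
    have hset : (f ⁻¹' U : Set X) =
        (pullback.fst f g) '' ((pullback.snd f g) ⁻¹' (g ⁻¹' U)) := by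
      ext x
      constructor
      · intro hx
        obtain ⟨z, rfl⟩ := hfst x
        refine ⟨z, ?_, rfl⟩
        show g (pullback.snd f g z) ∈ U
        rw [← hcond z]; exact hx
      · rintro ⟨z, hz, rfl⟩
        show f (pullback.fst f g z) ∈ U
        rw [hcond z]; exact hz
    rw [hset]
    have h1 : IsCompact ((g ⁻¹' U : Set Y')) :=
      (quasiCompact_iff_isSpectralMap.mp hg).isCompact_preimage_of_isOpen hU hUc
    have h2 : IsCompact ((pullback.snd f g) ⁻¹' (g ⁻¹' U) : Set ↥(pullback f g)) :=
      (quasiCompact_iff_isSpectralMap.mp hs).isCompact_preimage_of_isOpen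
        (hU.preimage g.continuous) h1
    exact h2.image (pullback.fst f g).continuous
  · intro hs
    haveI : IsDominant (pullback.snd f g ≫ g) := inferInstance
    haveI : IsDominant (pullback.fst f g ≫ f) := by
      rw [pullback.condition]; infer_instance
    exact IsDominant.of_comp (f := pullback.fst f g) (g := f)

end Groth.Agent.S4597
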