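import Groth.Statements.S4598
import Mathlib
import Groth.Agent.S4597

set_option autoImplicit false
universe u
open AlgebraicGeometry CategoryTheory CategoryTheory.Limits
open EGA41

namespace Groth.Agent.S4598

/-- If g : Y' → Y is quasi-compact and surjective and the base change X ×_Y Y' → Y' of f : X → Y is
quasi-separated, then f is quasi-separated. -/
theorem result {X Y Y' : Scheme.{u}} (f : X ⟶ Y)
    (g : Y' ⟶ Y) [QuasiCompact g] [Surjective g] [QuasiSeparated (pullback.snd f g)] :
    QuasiSeparated f := by
  haveI hD : MorphismProperty.DescendsAlong @QuasiCompact (@Surjective ⊓ @QuasiCompact) := by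
    apply MorphismProperty.DescendsAlong.mk'
    intro X Y Z f g _ hf hfst
    haveI : Surjective f := hf.1
    haveI : QuasiCompact (pullback.fst f g) := hfst
    have h2 : QuasiCompact (pullback.snd g f) := by
      rw [← pullbackSymmetry_hom_comp_fst g f]
      infer_instance
    exact (Groth.Agent.S4597.result g f).1 hf.2 h2
  have key := MorphismProperty.of_pullback_snd_of_descendsAlong
    (P := MorphismProperty.diagonal @QuasiCompact) (Q := @Surjective ⊓ @QuasiCompact)
    (f := f) (g := g) ⟨inferInstance, inferInstance⟩
    (by rw [← quasiSeparated_eq_diagonal_is_quasiCompact]; infer_instance)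
  rw [quasiSeparated_eq_diagonal_is_quasiCompact]
  exact key

end Groth.Agent.S4598
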