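import Groth.Statements.S4599
import Mathlib

set_option autoImplicit false
universe u
open AlgebraicGeometry CategoryTheory CategoryTheory.Limits
open EGA41

namespace Groth.Agent.S4599

/-- The diagonal of a morphism locally of finite type is locally of finite presentation. -/
theorem result {Y Z : Scheme.{u}} (g : Y ⟶ Z)
    [LocallyOfFiniteType g] : LocallyOfFinitePresentation (pullback.diagonal g) := by
  have hQ : RingHom.StableUnderCompositionWithLocalizationAwaySource
      @RingHom.FinitePresentation :=
    (RingHom.finitePresentation_stableUnderComposition.stableUnderCompositionWithLocalizationAway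
      RingHom.finitePresentation_holdsForLocalizationAway).left
  have key : MorphismProperty.HasOfPostcompProperty @LocallyOfFinitePresentation
      @LocallyOfFiniteType := by
    refine ⟨fun {X Y Z} a b hb hab => ?_⟩
    rw [HasRingHomProperty.iff_exists_appLE (P := @LocallyOfFinitePresentation) hQ]
    intro x
    obtain ⟨W, hW, hxW, -⟩ := TopologicalSpace.Opens.isBasis_iff_nbhd.mp Z.isBasis_affineOpens
      (show b (a x) ∈ (⊤ : Z.Opens) from trivial)
    obtain ⟨U, hU, hxU, hUW⟩ := TopologicalSpace.Opens.isBasis_iff_nbhd.mp Y.isBasis_affineOpens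
      (show a x ∈ b ⁻¹ᵁ W from hxW)
    obtain ⟨V, hV, hxV, hVU⟩ := TopologicalSpace.Opens.isBasis_iff_nbhd.mp X.isBasis_affineOpens
      (show x ∈ a ⁻¹ᵁ U from hxU)
    refine ⟨⟨U, hU⟩, ⟨V, hV⟩, hxV, hVU, ?_⟩
    have h2 : (b.appLE W U hUW).hom.FiniteType :=
      HasRingHomProperty.appLE @LocallyOfFiniteType b hb ⟨W, hW⟩ ⟨U, hU⟩ hUW
    have h1 := HasRingHomProperty.appLE @LocallyOfFinitePresentation (a ≫ b) hab ⟨W, hW⟩ ⟨V, hV⟩
      (hVU.trans ((TopologicalSpace.Opens.map a.base).map (homOfLE hUW)).le)
    rw [← Scheme.Hom.appLE_comp_appLE a b W U V hUW hVU, CommRingCat.hom_comp] at h1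
    exact RingHom.FinitePresentation.of_comp_finiteType _ h1 h2
  haveI : MorphismProperty.IsMultiplicative @LocallyOfFinitePresentation :=
    { id_mem := fun X => inferInstance
      comp_mem := fun f g hf hg => MorphismProperty.comp_mem _ f g hf hg }
  exact (MorphismProperty.hasOfPostcompProperty_iff_le_diagonal.mp key) g inferInstance

end Groth.Agent.S4599
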