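import Groth.Statements.S4601
import Mathlib

set_option autoImplicit false
universe u
open TensorProduct
open CAlg

namespace Groth.Agent.S4601

theorem refl_of_inj {A B : Type*} [CommRing A] [CommRing B] (f : A →+* B)
    (hf : Function.Injective f) : ∀ x, IsNilpotent (f x) → IsNilpotent x :=
  fun _ hx => (IsNilpotent.map_iff hf).mp hx


/-- Let A be a domain with fraction field K, B a Noetherian A-algebra which is flat over A, K' an
extension field of K, B₁ = B_red and R its total ring of fractions. For every sub-A-algebra A' of
K', the map (A' ⊗_A B)_red → (K' ⊗_A R)_red is injective, i.e. an element of A' ⊗_A B with nilpotent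
image in K' ⊗_A R is nilpotent. -/
theorem result {A B K' R : Type u} [CommRing A]
    [IsDomain A] [CommRing B] [Algebra A B] [IsNoetherianRing B] [Module.Flat A B]
    [Field K'] [Algebra A K'] [Algebra (FractionRing A) K'] [IsScalarTower A (FractionRing A) K']
    [CommRing R] [Algebra (B ⧸ nilradical B) R] [IsFractionRing (B ⧸ nilradical B) R]
    [Algebra B R] [IsScalarTower B (B ⧸ nilradical B) R] [Algebra A R] [IsScalarTower A B R]
    (A' : Subalgebra A K') (x : ↥A' ⊗[A] B)
    (hx : IsNilpotent (Algebra.TensorProduct.map A'.val (IsScalarTower.toAlgHom A B R) x)) :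
    IsNilpotent x := by
  classical
  haveI : IsScalarTower A (B ⧸ nilradical B) R := IsScalarTower.of_algebraMap_eq (fun a => by
    rw [IsScalarTower.algebraMap_apply A B R, IsScalarTower.algebraMap_apply B (B ⧸ nilradical B) R,
      ← IsScalarTower.algebraMap_apply A B (B ⧸ nilradical B)])
  haveI : Module.Flat A K' := Module.Flat.trans A (FractionRing A) K'
  have hfac : ∀ z : ↥A' ⊗[A] B,
      Algebra.TensorProduct.map A'.val (IsScalarTower.toAlgHom A B R) z =
        Algebra.TensorProduct.map (AlgHom.id A K')
          (IsScalarTower.toAlgHom A (B ⧸ nilradical B) R)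
          (Algebra.TensorProduct.map (AlgHom.id A K') (Ideal.Quotient.mkₐ A (nilradical B))
            (Algebra.TensorProduct.map A'.val (AlgHom.id A B) z)) := by
    intro z
    induction z using TensorProduct.induction_on with
    | zero => simp
    | tmul a b =>
      show A'.val a ⊗ₜ[A] (algebraMap B R b) =
        A'.val a ⊗ₜ[A] (algebraMap (B ⧸ nilradical B) R (Ideal.Quotient.mk _ b))
      rw [IsScalarTower.algebraMap_apply B (B ⧸ nilradical B) R]
      rfl
    | add y z hy hz => simp only [map_add, hy, hz]
  have h1 : ∀ z : ↥A' ⊗[A] B,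
      IsNilpotent ((Algebra.TensorProduct.map A'.val (AlgHom.id A B)).toRingHom z) →
      IsNilpotent z := by
    have hinj : Function.Injective (Algebra.TensorProduct.map A'.val (AlgHom.id A B)).toRingHom :=
      Module.Flat.rTensor_preserves_injective_linearMap (M := B) A'.val.toLinearMap
        Subtype.val_injective
    exact refl_of_inj _ hinj
  have h3 : ∀ z : K' ⊗[A] (B ⧸ nilradical B),
      IsNilpotent ((Algebra.TensorProduct.map (AlgHom.id A K')
        (IsScalarTower.toAlgHom A (B ⧸ nilradical B) R)).toRingHom z) → IsNilpotent z := by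
    have hinj0 : Function.Injective (IsScalarTower.toAlgHom A (B ⧸ nilradical B) R).toLinearMap := by
      intro a b hab
      exact IsFractionRing.injective (B ⧸ nilradical B) R hab
    have hinj : Function.Injective (Algebra.TensorProduct.map (AlgHom.id A K')
        (IsScalarTower.toAlgHom A (B ⧸ nilradical B) R)).toRingHom :=
      Module.Flat.lTensor_preserves_injective_linearMap (M := K') _ hinj0
    exact refl_of_inj _ hinj
  have h2 : ∀ z : K' ⊗[A] B,
      IsNilpotent ((Algebra.TensorProduct.map (AlgHom.id A K')
        (Ideal.Quotient.mkₐ A (nilradical B))).toRingHom z) → IsNilpotent z := by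
    intro z hz
    obtain ⟨n, hn⟩ := hz
    have hker : RingHom.ker (Algebra.TensorProduct.map (AlgHom.id A K')
        (Ideal.Quotient.mkₐ A (nilradical B))) ≤ nilradical (K' ⊗[A] B) := by
      rw [Algebra.TensorProduct.lTensor_ker _ (Ideal.Quotient.mkₐ_surjective A (nilradical B)),
        Ideal.map_le_iff_le_comap]
      intro a ha
      rw [Ideal.mem_comap, mem_nilradical]
      have ha' : a ∈ nilradical B := by
        rw [RingHom.mem_ker] at ha
        exact Ideal.Quotient.eq_zero_iff_mem.mp ha
      rw [mem_nilradical] at ha'
      exact ha'.map _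
    have hzn : z ^ n ∈ RingHom.ker (Algebra.TensorProduct.map (AlgHom.id A K')
        (Ideal.Quotient.mkₐ A (nilradical B))) := by
      rw [RingHom.mem_ker, map_pow]
      exact hn
    have h := hker hzn
    rw [mem_nilradical] at h
    obtain ⟨m, hm⟩ := h
    exact ⟨n * m, by rw [pow_mul]; exact hm⟩
  rw [hfac] at hx
  exact h1 _ (h2 _ (h3 _ hx))

end Groth.Agent.S4601
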