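import Groth.Statements.S4603
import Mathlib

set_option autoImplicit false
universe u
open AlgebraicGeometry CategoryTheory
open EGA41

namespace Groth.Agent.S4603

lemma exists_maximal_generization {X : Type*} [TopologicalSpace X] [QuasiSober X] [T0Space X]
    (x0 : X) :
    ∃ ξ : X, ξ ⤳ x0 ∧ (∀ z, z ⤳ ξ → z = ξ) ∧ closure {ξ} ∈ irreducibleComponents X := by
  have hZ := irreducibleComponent_mem_irreducibleComponents x0
  have hZirr : IsIrreducible (irreducibleComponent x0) := hZ.1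
  have hZcl : IsClosed (irreducibleComponent x0) := isClosed_of_mem_irreducibleComponents _ hZ
  obtain ⟨ξ, hξ⟩ := QuasiSober.sober hZirr hZcl
  refine ⟨ξ, ?_, ?_, ?_⟩
  · rw [specializes_iff_mem_closure, hξ.def]
    exact mem_irreducibleComponent
  · intro z hz
    have h1 : closure {ξ} ⊆ closure {z} := specializes_iff_closure_subset.mp hz
    have h2 : IsIrreducible (closure {z}) := isIrreducible_singleton.closure
    rw [hξ.def] at h1
    have h3 : closure {z} = irreducibleComponent x0 := le_antisymm (hZ.2 h2 h1) h1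
    exact IsGenericPoint.eq h3 hξ
  · rw [hξ.def]
    exact hZ

lemma affine_case {X Y : Scheme.{u}} (f : X ⟶ Y) (V : Y.Opens) (hV : IsAffineOpen V)
    (W : X.Opens) (hW : IsAffineOpen W) (hWV : W ≤ f ⁻¹ᵁ V) (y : Y) (hyV : y ∈ V)
    (hyW : y ∈ closure (f '' (W : Set X))) (hmax : ∀ y' : Y, y' ⤳ y → y' = y) :
    y ∈ Set.range f := by
  have hrel := IsAffineOpen.SpecMap_appLE_fromSpec f hV hW hWV
  obtain ⟨φ, hφ⟩ : ∃ φ : Γ(Y, V) →+* Γ(X, W), φ = (f.appLE V W hWV).hom := ⟨_, rfl⟩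
  have hpt : ∀ q : PrimeSpectrum Γ(X, W),
      f (hW.fromSpec q) = hV.fromSpec (PrimeSpectrum.comap φ q) := by
    intro q
    have h := congrArg (fun k : Spec Γ(X, W) ⟶ Y => k q) hrel
    simp only [Scheme.Hom.comp_apply] at h
    rw [hφ]
    exact h.symm
  have hinj : Function.Injective hV.fromSpec := hV.fromSpec.isOpenEmbedding.injective
  obtain ⟨p, hp⟩ : ∃ p : PrimeSpectrum Γ(Y, V), hV.fromSpec p = y := by
    have h : y ∈ Set.range hV.fromSpec := by
      rw [hV.range_fromSpec]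
      exact hyV
    exact h
  have hker : RingHom.ker φ ≤ p.asIdeal := by
    intro a ha
    by_contra hap
    have hopen : IsOpen (hV.fromSpec '' (PrimeSpectrum.basicOpen a : Set (PrimeSpectrum Γ(Y, V)))) :=
      hV.fromSpec.isOpenEmbedding.isOpenMap _ (PrimeSpectrum.basicOpen a).isOpen
    have hy_in : y ∈ hV.fromSpec '' (PrimeSpectrum.basicOpen a : Set (PrimeSpectrum Γ(Y, V))) :=
      ⟨p, hap, hp⟩
    obtain ⟨z, hz1, hz2⟩ := mem_closure_iff.mp hyW _ hopen hy_in
    obtain ⟨w, hwW, rfl⟩ := hz2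
    obtain ⟨q, rfl⟩ : ∃ q, hW.fromSpec q = w := by
      have h : w ∈ Set.range hW.fromSpec := by
        rw [hW.range_fromSpec]
        exact hwW
      exact h
    rw [hpt q] at hz1
    obtain ⟨p2, hp2, hp2eq⟩ := hz1
    have h5 := hinj hp2eq
    subst h5
    apply hp2
    change φ a ∈ q.asIdeal
    rw [RingHom.mem_ker.mp ha]
    exact q.asIdeal.zero_mem
  have hmin : p.asIdeal ∈ (RingHom.ker φ).minimalPrimes := by
    refine ⟨⟨p.2, hker⟩, ?_⟩
    rintro q ⟨hqprime, hqker⟩ hqp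
    have hsp : (⟨q, hqprime⟩ : PrimeSpectrum Γ(Y, V)) ⤳ p :=
      (PrimeSpectrum.le_iff_specializes _ _).mp hqp
    have hsp2 : hV.fromSpec ⟨q, hqprime⟩ ⤳ hV.fromSpec p := hsp.map hV.fromSpec.continuous
    rw [hp] at hsp2
    have h6 := hmax _ hsp2
    rw [← hp] at h6
    have h3 := hinj h6
    exact (congrArg PrimeSpectrum.asIdeal h3).ge
  rw [RingHom.ker_eq_comap_bot] at hmin
  obtain ⟨p', hp'prime, -, hp'eq⟩ := Ideal.exists_comap_eq_of_mem_minimalPrimes φ p.asIdeal hmin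
  refine ⟨hW.fromSpec ⟨p', hp'prime⟩, ?_⟩
  rw [hpt, ← hp]
  exact congrArg _ (PrimeSpectrum.ext hp'eq)

lemma mem_range_of_maximal_of_mem_closure {X Y : Scheme.{u}} (f : X ⟶ Y) [QuasiCompact f] (y : Y)
    (hy : y ∈ closure (Set.range f)) (hmax : ∀ y' : Y, y' ⤳ y → y' = y) : y ∈ Set.range f := by
  obtain ⟨_, ⟨V, hV, rfl⟩, hyV, -⟩ :=
    Y.isBasis_affineOpens.exists_subset_of_mem_open (Set.mem_univ y) isOpen_univ
  have hcomp : IsCompact (f ⁻¹' (V : Set Y)) :=
    QuasiCompact.isCompact_preimage _ V.isOpen hV.isCompact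
  obtain ⟨s, hs, hsU⟩ := (isCompact_and_isOpen_iff_finite_and_eq_biUnion_affineOpens).mp
    ⟨hcomp, V.isOpen.preimage f.continuous⟩
  have h1 : y ∈ closure ((V : Set Y) ∩ Set.range f) := V.isOpen.inter_closure ⟨hyV, hy⟩
  have hmem : ∀ (W : X.affineOpens), W ∈ s → ∀ x : X, x ∈ (W : X.Opens) → x ∈ f ⁻¹' (V : Set Y) := by
    intro W hW x hx
    rw [hsU]
    simp only [Set.mem_iUnion]
    exact ⟨W, hW, hx⟩
  have h2 : (V : Set Y) ∩ Set.range f = ⋃ W ∈ s, f '' ((W : X.Opens) : Set X) := by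
    ext z
    simp only [Set.mem_inter_iff, Set.mem_range, Set.mem_iUnion, Set.mem_image]
    constructor
    · rintro ⟨hz, x, rfl⟩
      have hx : x ∈ f ⁻¹' (V : Set Y) := hz
      rw [hsU] at hx
      simp only [Set.mem_iUnion] at hx
      obtain ⟨W, hW, hxW⟩ := hx
      exact ⟨W, hW, x, hxW, rfl⟩
    · rintro ⟨W, hW, x, hxW, rfl⟩
      exact ⟨hmem W hW x hxW, x, rfl⟩
  rw [h2, hs.closure_biUnion] at h1
  simp only [Set.mem_iUnion] at h1
  obtain ⟨W, hWs, hyW⟩ := h1
  have hWV : (W : X.Opens) ≤ f ⁻¹ᵁ V := fun x hx => hmem W hWs x hx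
  exact affine_case f V hV W.1 W.2 hWV y hyV hyW hmax

/-- Let f : X → Y be quasi-compact. The following are equivalent: f is dominant; the fibre of f over
every maximal point of Y (a point with no proper generization, i.e. the generic point of an
irreducible component) is nonempty; every maximal point of Y is the image of a maximal point of X. -/
theorem result {X Y : Scheme.{u}} (f : X ⟶ Y) [QuasiCompact f] :
    [IsDominant f,
     ∀ y : Y, (∀ y' : Y, y' ⤳ y → y' = y) → y ∈ Set.range f.base,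
     ∀ y : Y, (∀ y' : Y, y' ⤳ y → y' = y) → ∃ x : X, (∀ x' : X, x' ⤳ x → x' = x) ∧ f.base x = y].TFAE := by
  tfae_have 1 → 2 := by
    intro hdom y hy
    refine mem_range_of_maximal_of_mem_closure f y ?_ hy
    rw [f.denseRange.closure_range]
    exact Set.mem_univ y
  tfae_have 2 → 3 := by
    intro h y hy
    obtain ⟨x0, hx0⟩ := h y hy
    obtain ⟨ξ, hξ1, hξ2, -⟩ := exists_maximal_generization x0
    refine ⟨ξ, hξ2, ?_⟩
    have h1 : f.base ξ ⤳ f.base x0 := hξ1.map f.continuous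
    rw [hx0] at h1
    exact hy _ h1
  tfae_have 3 → 1 := by
    intro h
    refine ⟨?_⟩
    intro y0
    obtain ⟨η, hη1, hη2, -⟩ := exists_maximal_generization y0
    obtain ⟨x, -, hx⟩ := h η hη2
    have h1 : y0 ∈ closure ({η} : Set Y) := specializes_iff_mem_closure.mp hη1
    refine closure_mono ?_ h1
    rintro _ rfl
    exact ⟨x, hx⟩
  tfae_finish

end Groth.Agent.S4603
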