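import Groth.Statements.S4607
import Mathlib

set_option autoImplicit false
universe u
open TensorProduct
open EGA41

namespace Groth.Agent.S4607

/-- First assertion, case of two factors: for A-algebras A' and A'' the image of Spec(A' ⊗_A A'') in
Spec A is the intersection of the images of Spec A' and Spec A''. -/
theorem result {A A' A'' : Type u} [CommRing A] [CommRing A'] [CommRing A'']
    [Algebra A A'] [Algebra A A''] :
    Set.range (PrimeSpectrum.comap (algebraMap A (A' ⊗[A] A''))) =
      Set.range (PrimeSpectrum.comap (algebraMap A A')) ∩ Set.range (PrimeSpectrum.comap (algebraMap A A'')) := by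
  ext p
  rw [Set.mem_inter_iff, ← PrimeSpectrum.nontrivial_iff_mem_rangeComap,
    ← PrimeSpectrum.nontrivial_iff_mem_rangeComap, ← PrimeSpectrum.nontrivial_iff_mem_rangeComap]
  constructor
  · intro h
    constructor
    · let φ : p.asIdeal.ResidueField ⊗[A] A' →ₐ[A] p.asIdeal.ResidueField ⊗[A] (A' ⊗[A] A'') :=
        Algebra.TensorProduct.map (AlgHom.id A _) Algebra.TensorProduct.includeLeft
      exact φ.toRingHom.domain_nontrivial
    · let φ : p.asIdeal.ResidueField ⊗[A] A'' →ₐ[A] p.asIdeal.ResidueField ⊗[A] (A' ⊗[A] A'') :=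
        Algebra.TensorProduct.map (AlgHom.id A _) Algebra.TensorProduct.includeRight
      exact φ.toRingHom.domain_nontrivial
  · rintro ⟨h1, h2⟩
    let e := TensorProduct.AlgebraTensorModule.distribBaseChange A p.asIdeal.ResidueField A' A''
    haveI : Nontrivial ((p.asIdeal.ResidueField ⊗[A] A') ⊗[p.asIdeal.ResidueField]
        (p.asIdeal.ResidueField ⊗[A] A'')) :=
      (Module.FaithfullyFlat.nontrivial_tensorProduct_iff_right p.asIdeal.ResidueField _).2 h2
    exact e.toEquiv.nontrivial

end Groth.Agent.S4607
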