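import Groth.Statements.S4608
import Mathlib

set_option autoImplicit false
universe u
open AlgebraicGeometry CategoryTheory CategoryTheory.Limits
open EGA41

namespace Groth.Agent.S4608

/-- A morphism from a disjoint union X' ⨿ X'' → Y is quasi-compact if and only if its two components
are. -/
theorem result {X' X'' Y : Scheme.{u}} (f' : X' ⟶ Y) (f'' : X'' ⟶ Y) :
    QuasiCompact (coprod.desc f' f'') ↔ QuasiCompact f' ∧ QuasiCompact f'' := by
  have hcl : ∀ (A B : Scheme.{u}), QuasiCompact (coprod.inl : A ⟶ A ⨿ B) := by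
    intro A B
    rw [quasiCompact_iff_isSpectralMap]
    have hemb : Topology.IsClosedEmbedding (coprod.inl : A ⟶ A ⨿ B) := by
      refine ⟨(coprod.inl : A ⟶ A ⨿ B).isOpenEmbedding.isEmbedding, ?_⟩
      have h := isCompl_range_inl_inr A B
      have : Set.range (coprod.inl : A ⟶ A ⨿ B) = (Set.range (coprod.inr : B ⟶ A ⨿ B))ᶜ :=
        h.symm.compl_eq.symm
      rw [this]
      exact (coprod.inr : B ⟶ A ⨿ B).isOpenEmbedding.isOpen_range.isClosed_compl
    exact ⟨(coprod.inl : A ⟶ A ⨿ B).continuous, fun U _ hUc => hemb.isCompact_preimage hUc⟩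
  have hcr : ∀ (A B : Scheme.{u}), QuasiCompact (coprod.inr : B ⟶ A ⨿ B) := by
    intro A B
    rw [quasiCompact_iff_isSpectralMap]
    have hemb : Topology.IsClosedEmbedding (coprod.inr : B ⟶ A ⨿ B) := by
      refine ⟨(coprod.inr : B ⟶ A ⨿ B).isOpenEmbedding.isEmbedding, ?_⟩
      have h := isCompl_range_inl_inr A B
      have : Set.range (coprod.inr : B ⟶ A ⨿ B) = (Set.range (coprod.inl : A ⟶ A ⨿ B))ᶜ :=
        h.compl_eq.symm
      rw [this]
      exact (coprod.inl : A ⟶ A ⨿ B).isOpenEmbedding.isOpen_range.isClosed_compl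
    exact ⟨(coprod.inr : B ⟶ A ⨿ B).continuous, fun U _ hUc => hemb.isCompact_preimage hUc⟩
  constructor
  · intro h
    haveI := hcl X' X''
    haveI := hcr X' X''
    constructor
    · rw [← coprod.inl_desc f' f'']; infer_instance
    · rw [← coprod.inr_desc f' f'']; infer_instance
  · rintro ⟨h1, h2⟩
    rw [quasiCompact_iff_isSpectralMap]
    refine ⟨(coprod.desc f' f'').continuous, fun U hU hUc => ?_⟩
    have hl : ∀ a : X', (coprod.desc f' f'') ((coprod.inl : X' ⟶ X' ⨿ X'') a) = f' a := by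
      intro a
      rw [← Scheme.Hom.comp_apply, coprod.inl_desc]
    have hr : ∀ a : X'', (coprod.desc f' f'') ((coprod.inr : X'' ⟶ X' ⨿ X'') a) = f'' a := by
      intro a
      rw [← Scheme.Hom.comp_apply, coprod.inr_desc]
    have hset : ((coprod.desc f' f'') ⁻¹' U : Set ↥(X' ⨿ X'')) =
        (coprod.inl : X' ⟶ X' ⨿ X'') '' (f' ⁻¹' U) ∪
          (coprod.inr : X'' ⟶ X' ⨿ X'') '' (f'' ⁻¹' U) := by
      ext x
      have hx : x ∈ Set.range (coprod.inl : X' ⟶ X' ⨿ X'') ∪
          Set.range (coprod.inr : X'' ⟶ X' ⨿ X'') := by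
        have hun : Set.range (coprod.inl : X' ⟶ X' ⨿ X'') ∪
            Set.range (coprod.inr : X'' ⟶ X' ⨿ X'') = Set.univ :=
          (isCompl_range_inl_inr X' X'').sup_eq_top
        rw [hun]; trivial
      constructor
      · intro hxU
        rcases hx with ⟨a, rfl⟩ | ⟨a, rfl⟩
        · left; exact ⟨a, by simpa [hl a] using hxU, rfl⟩
        · right; exact ⟨a, by simpa [hr a] using hxU, rfl⟩
      · rintro (⟨a, ha, rfl⟩ | ⟨a, ha, rfl⟩)
        · show (coprod.desc f' f'') ((coprod.inl : X' ⟶ X' ⨿ X'') a) ∈ U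
          rw [hl a]; exact ha
        · show (coprod.desc f' f'') ((coprod.inr : X'' ⟶ X' ⨿ X'') a) ∈ U
          rw [hr a]; exact ha
    rw [hset]
    exact ((quasiCompact_iff_isSpectralMap.mp h1).isCompact_preimage_of_isOpen hU hUc |>.image
        (coprod.inl : X' ⟶ X' ⨿ X'').continuous).union
      ((quasiCompact_iff_isSpectralMap.mp h2).isCompact_preimage_of_isOpen hU hUc |>.image
        (coprod.inr : X'' ⟶ X' ⨿ X'').continuous)

end Groth.Agent.S4608
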