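import Groth.Statements.S4609
import Mathlib
import Groth.Agent.S4608

set_option autoImplicit false
universe u
open AlgebraicGeometry CategoryTheory CategoryTheory.Limits
open EGA41

namespace Groth.Agent.S4609

/-- A morphism from a disjoint union X' ⨿ X'' → Y is quasi-separated if and only if its two components
are. -/
theorem result {X' X'' Y : Scheme.{u}} (f' : X' ⟶ Y) (f'' : X'' ⟶ Y) :
    QuasiSeparated (coprod.desc f' f'') ↔ QuasiSeparated f' ∧ QuasiSeparated f'' := by
  constructor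
  · intro h
    constructor
    · rw [← coprod.inl_desc f' f'']; infer_instance
    · rw [← coprod.inr_desc f' f'']; infer_instance
  · rintro ⟨h1, h2⟩
    obtain ⟨hql, hqr⟩ := (Groth.Agent.S4608.result (coprod.inl : X' ⟶ X' ⨿ X'')
      (coprod.inr : X'' ⟶ X' ⨿ X'')).mp (by rw [coprod.desc_inl_inr]; infer_instance)
    have hl : ∀ a : X', (coprod.desc f' f'') ((coprod.inl : X' ⟶ X' ⨿ X'') a) = f' a := by
      intro a
      rw [← Scheme.Hom.comp_apply, coprod.inl_desc]
    have hr : ∀ a : X'', (coprod.desc f' f'') ((coprod.inr : X'' ⟶ X' ⨿ X'') a) = f'' a := by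
      intro a
      rw [← Scheme.Hom.comp_apply, coprod.inr_desc]
    apply HasAffineProperty.of_iSup_eq_top (P := @QuasiSeparated)
      (fun U : Y.affineOpens => U) (iSup_affineOpens_eq_top Y)
    intro U
    show QuasiSeparatedSpace ↥((coprod.desc f' f'') ⁻¹ᵁ U.1)
    refine (isQuasiSeparated_iff_quasiSeparatedSpace _ ((coprod.desc f' f'') ⁻¹ᵁ U.1).2).mp ?_
    intro A B hAs hAo hAc hBs hBo hBc
    have hq' : IsQuasiSeparated (f' ⁻¹ᵁ U.1 : Set X') :=
      f'.isQuasiSeparated_preimage U.2.isQuasiSeparated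
    have hq'' : IsQuasiSeparated (f'' ⁻¹ᵁ U.1 : Set X'') :=
      f''.isQuasiSeparated_preimage U.2.isQuasiSeparated
    have hset : A ∩ B =
        (coprod.inl : X' ⟶ X' ⨿ X'') '' ((coprod.inl : X' ⟶ X' ⨿ X'') ⁻¹' A ∩
          (coprod.inl : X' ⟶ X' ⨿ X'') ⁻¹' B) ∪
        (coprod.inr : X'' ⟶ X' ⨿ X'') '' ((coprod.inr : X'' ⟶ X' ⨿ X'') ⁻¹' A ∩
          (coprod.inr : X'' ⟶ X' ⨿ X'') ⁻¹' B) := by
      ext x
      have hx : x ∈ Set.range (coprod.inl : X' ⟶ X' ⨿ X'') ∪
          Set.range (coprod.inr : X'' ⟶ X' ⨿ X'') := by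
        have hun : Set.range (coprod.inl : X' ⟶ X' ⨿ X'') ∪
            Set.range (coprod.inr : X'' ⟶ X' ⨿ X'') = Set.univ :=
          (isCompl_range_inl_inr X' X'').sup_eq_top
        rw [hun]; trivial
      constructor
      · rintro ⟨hxA, hxB⟩
        rcases hx with ⟨a, rfl⟩ | ⟨a, rfl⟩
        · left; exact ⟨a, ⟨hxA, hxB⟩, rfl⟩
        · right; exact ⟨a, ⟨hxA, hxB⟩, rfl⟩
      · rintro (⟨a, ⟨haA, haB⟩, rfl⟩ | ⟨a, ⟨haA, haB⟩, rfl⟩)
        · exact ⟨haA, haB⟩
        · exact ⟨haA, haB⟩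
    rw [hset]
    have sl := quasiCompact_iff_isSpectralMap.mp hql
    have sr := quasiCompact_iff_isSpectralMap.mp hqr
    refine IsCompact.union (IsCompact.image ?_ (coprod.inl : X' ⟶ X' ⨿ X'').continuous)
      (IsCompact.image ?_ (coprod.inr : X'' ⟶ X' ⨿ X'').continuous)
    · refine hq' _ _ ?_ (hAo.preimage (coprod.inl : X' ⟶ X' ⨿ X'').continuous)
        (sl.isCompact_preimage_of_isOpen hAo hAc) ?_
        (hBo.preimage (coprod.inl : X' ⟶ X' ⨿ X'').continuous)
        (sl.isCompact_preimage_of_isOpen hBo hBc)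
      · intro a ha
        have := hAs ha
        show f' a ∈ U.1
        rw [← hl a]; exact this
      · intro a ha
        have := hBs ha
        show f' a ∈ U.1
        rw [← hl a]; exact this
    · refine hq'' _ _ ?_ (hAo.preimage (coprod.inr : X'' ⟶ X' ⨿ X'').continuous)
        (sr.isCompact_preimage_of_isOpen hAo hAc) ?_
        (hBo.preimage (coprod.inr : X'' ⟶ X' ⨿ X'').continuous)
        (sr.isCompact_preimage_of_isOpen hBo hBc)
      · intro a ha
        have := hAs ha
        show f'' a ∈ U.1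
        rw [← hr a]; exact this
      · intro a ha
        have := hBs ha
        show f'' a ∈ U.1
        rw [← hr a]; exact this

end Groth.Agent.S4609
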