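import Groth.Statements.S4611
import Mathlib

set_option autoImplicit false
universe u
open EGA41

namespace Groth.Agent.S4611

/-- A local algebra essentially of finite type over a ring A is A-isomorphic to a quotient of a
localization A[T_1, …, T_n]_q of a polynomial algebra at a prime ideal q; stated as the existence of
a surjective A-algebra map from such a localization. -/
theorem result {A B : Type u} [CommRing A]
    [CommRing B] [IsLocalRing B] [Algebra A B] [Algebra.EssFiniteType A B] :
    ∃ (n : ℕ) (q : Ideal (MvPolynomial (Fin n) A)) (_ : q.IsPrime)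
      (φ : Localization.AtPrime q →ₐ[A] B), Function.Surjective φ := by
  classical
  let s := Algebra.EssFiniteType.finset A B
  let n := s.card
  let e : Fin n ≃ s := s.equivFin.symm
  let f : Fin n → B := fun i => (e i : B)
  have hrange : Set.range f = (s : Set B) := by
    ext b
    constructor
    · rintro ⟨i, rfl⟩
      exact (e i).2
    · intro hb
      exact ⟨e.symm ⟨b, hb⟩, by simp [f]⟩
  let π : MvPolynomial (Fin n) A →ₐ[A] B := MvPolynomial.aeval f
  have hπ : π.range = Algebra.EssFiniteType.subalgebra A B := by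
    rw [← Algebra.adjoin_range_eq_range_aeval, hrange]
  let q : Ideal (MvPolynomial (Fin n) A) := (IsLocalRing.maximalIdeal B).comap π.toRingHom
  haveI hq : q.IsPrime := Ideal.comap_isPrime _ _
  have hunit : ∀ y : q.primeCompl, IsUnit (π y) := fun y => by
    have h1 : π (y : MvPolynomial (Fin n) A) ∉ IsLocalRing.maximalIdeal B := y.2
    rw [IsLocalRing.mem_maximalIdeal, mem_nonunits_iff, not_not] at h1
    exact h1
  let φ : Localization.AtPrime q →ₐ[A] B :=
    IsLocalization.liftAlgHom (M := q.primeCompl) (f := π) hunit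
  refine ⟨n, q, hq, φ, fun b => ?_⟩
  obtain ⟨⟨b₀, m⟩, hb⟩ := IsLocalization.surj (Algebra.EssFiniteType.submonoid A B) b
  obtain ⟨P, hP⟩ : ∃ P, π P = (b₀ : B) := by
    have : (b₀ : B) ∈ π.range := by rw [hπ]; exact b₀.2
    exact this
  obtain ⟨Q, hQ⟩ : ∃ Q, π Q = ((m : Algebra.EssFiniteType.subalgebra A B) : B) := by
    have : ((m : Algebra.EssFiniteType.subalgebra A B) : B) ∈ π.range := by
      rw [hπ]; exact (m : Algebra.EssFiniteType.subalgebra A B).2
    exact this
  have hmu : IsUnit ((m : Algebra.EssFiniteType.subalgebra A B) : B) := m.2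
  have hQq : Q ∈ q.primeCompl := by
    show Q ∉ q
    intro h
    have h2 : π Q ∈ IsLocalRing.maximalIdeal B := h
    rw [hQ, IsLocalRing.mem_maximalIdeal, mem_nonunits_iff] at h2
    exact h2 hmu
  refine ⟨IsLocalization.mk' _ P ⟨Q, hQq⟩, ?_⟩
  have h3 : φ (IsLocalization.mk' (Localization.AtPrime q) P ⟨Q, hQq⟩) * π Q = π P := by
    have := (IsLocalization.lift_mk'_spec (S := Localization.AtPrime q) (g := π.toRingHom)
      (hg := hunit) P (φ (IsLocalization.mk' (Localization.AtPrime q) P ⟨Q, hQq⟩))
      ⟨Q, hQq⟩).mp rfl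
    rw [mul_comm]
    exact this.symm
  have hb' : b * π Q = π P := by
    rw [hQ, hP]; exact hb
  have hu : IsUnit (π Q) := hQ ▸ hmu
  exact hu.mul_left_injective (h3.trans hb'.symm)

end Groth.Agent.S4611
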