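import Groth.Statements.S4613
import Mathlib

set_option autoImplicit false
universe u
open AlgebraicGeometry CategoryTheory
open EGA41

namespace Groth.Agent.S4613

/-- For a closed immersion j : X → Y: j is locally of finite presentation if and only if its ideal sheaf
is of finite type, i.e. for every affine open U of Y the kernel of Γ(U, O_Y) → Γ(j⁻¹U, O_X) is
finitely generated. (An immersion with image closed in an open U reduces to this case.) -/
theorem result {X Y : Scheme.{u}} (j : X ⟶ Y)
    [IsClosedImmersion j] :
    LocallyOfFinitePresentation j ↔ ∀ U : Y.affineOpens, (RingHom.ker (j.app U).hom).FG := by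
  have hQ : RingHom.StableUnderCompositionWithLocalizationAwaySource
      @RingHom.FinitePresentation :=
    (RingHom.finitePresentation_stableUnderComposition.stableUnderCompositionWithLocalizationAway
      RingHom.finitePresentation_holdsForLocalizationAway).left
  have hring : ∀ {A B : Type u} [CommRing A] [CommRing B] (f : A →+* B),
      Function.Surjective f → (f.FinitePresentation ↔ (RingHom.ker f).FG) := by
    intro A B _ _ f hs
    constructor
    · intro h
      letI := f.toAlgebra
      haveI : Algebra.FinitePresentation A B := h
      exact Algebra.FinitePresentation.ker_fG_of_surjective (Algebra.ofId A B) hs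
    · intro h
      exact RingHom.FinitePresentation.of_surjective _ hs h
  have hiff : ∀ U : Y.affineOpens,
      (j.app U).hom.FinitePresentation ↔ (RingHom.ker (j.app U).hom).FG :=
    fun U => hring _ (j.app_surjective U.1 U.2)
  constructor
  · intro h U
    rw [← hiff]
    have := HasRingHomProperty.appLE @LocallyOfFinitePresentation j h U
      ⟨j ⁻¹ᵁ U.1, U.2.preimage j⟩ le_rfl
    rwa [Scheme.Hom.appLE_eq_app] at this
  · intro h
    rw [HasRingHomProperty.iff_exists_appLE (P := @LocallyOfFinitePresentation) hQ]
    intro x
    obtain ⟨U, hU, hxU, -⟩ := TopologicalSpace.Opens.isBasis_iff_nbhd.mp Y.isBasis_affineOpens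
      (show j x ∈ (⊤ : Y.Opens) from trivial)
    refine ⟨⟨U, hU⟩, ⟨j ⁻¹ᵁ U, hU.preimage j⟩, hxU, le_rfl, ?_⟩
    rw [Scheme.Hom.appLE_eq_app]
    exact (hiff ⟨U, hU⟩).mpr (h ⟨U, hU⟩)

end Groth.Agent.S4613
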