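import Groth.Statements.S4627
import Groth.Agent.Lib.helper3.GeomDesc

set_option autoImplicit false
open CategoryTheory AlgebraicGeometry
universe u
open FBase

namespace Groth.Agent.S4627

/-- Let X be a scheme over a field k and K an extension field of k. Then X is geometrically integral
over k if and only if X ⊗_k K, with its structure of K-scheme, is geometrically integral over K. -/
theorem result {k K : Type u} [Field k] [Field K] [Algebra k K]
    {X : Scheme.{u}} (f : X ⟶ Spec (CommRingCat.of k)) :
    GeometricallyIntegral f ↔ GeometricallyIntegral (FBase.bcStr f K) := by
  haveI := Groth.Agent.Lib.helper3.GeomDesc.surjective_specMap_field (k := k) (K := K)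
  constructor
  · intro hf
    change GeometricallyIntegral
      (Limits.pullback.snd f (Spec.map (CommRingCat.ofHom (algebraMap k K))))
    infer_instance
  · intro hf
    change GeometricallyIntegral
      (Limits.pullback.snd f (Spec.map (CommRingCat.ofHom (algebraMap k K)))) at hf
    have := Groth.Agent.Lib.helper3.GeomDesc.geometricallyReduced_desc f
      (Spec.map (CommRingCat.ofHom (algebraMap k K)))
    have := Groth.Agent.Lib.helper3.GeomDesc.geometricallyIrreducible_desc f
      (Spec.map (CommRingCat.ofHom (algebraMap k K)))
    exact GeometricallyIntegral.of_geometricallyReduced_of_geometricallyIrreducible f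

end Groth.Agent.S4627
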