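import Groth.Statements.S4639
import Mathlib

set_option autoImplicit false
open CategoryTheory AlgebraicGeometry
universe u
open FDesc

namespace Groth.Agent.S4639


open CategoryTheory.Limits

lemma affine_case {X Y : Scheme.{u}} (f : X ⟶ Y) (V : Y.Opens) (hV : IsAffineOpen V)
    (W : X.Opens) (hW : IsAffineOpen W) (hWV : W ≤ f ⁻¹ᵁ V) (y : Y) (hyV : y ∈ V)
    (hyW : y ∈ closure (f '' (W : Set X))) :
    ∃ x : X, f x ⤳ y := by
  have hrel := IsAffineOpen.SpecMap_appLE_fromSpec f hV hW hWV
  obtain ⟨φ, hφ⟩ : ∃ φ : Γ(Y, V) →+* Γ(X, W), φ = (f.appLE V W hWV).hom := ⟨_, rfl⟩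
  have hpt : ∀ q : PrimeSpectrum Γ(X, W),
      f (hW.fromSpec q) = hV.fromSpec (PrimeSpectrum.comap φ q) := by
    intro q
    have h := congrArg (fun k : Spec Γ(X, W) ⟶ Y => k q) hrel
    simp only [Scheme.Hom.comp_apply] at h
    rw [hφ]
    exact h.symm
  have hinj : Function.Injective hV.fromSpec := hV.fromSpec.isOpenEmbedding.injective
  obtain ⟨p, hp⟩ : ∃ p : PrimeSpectrum Γ(Y, V), hV.fromSpec p = y := by
    have h : y ∈ Set.range hV.fromSpec := by
      rw [hV.range_fromSpec]
      exact hyV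
    exact h
  have hker : RingHom.ker φ ≤ p.asIdeal := by
    intro a ha
    by_contra hap
    have hopen : IsOpen (hV.fromSpec '' (PrimeSpectrum.basicOpen a : Set (PrimeSpectrum Γ(Y, V)))) :=
      hV.fromSpec.isOpenEmbedding.isOpenMap _ (PrimeSpectrum.basicOpen a).isOpen
    have hy_in : y ∈ hV.fromSpec '' (PrimeSpectrum.basicOpen a : Set (PrimeSpectrum Γ(Y, V))) :=
      ⟨p, hap, hp⟩
    obtain ⟨z, hz1, hz2⟩ := mem_closure_iff.mp hyW _ hopen hy_in
    obtain ⟨w, hwW, rfl⟩ := hz2
    obtain ⟨q, rfl⟩ : ∃ q, hW.fromSpec q = w := by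
      have h : w ∈ Set.range hW.fromSpec := by
        rw [hW.range_fromSpec]
        exact hwW
      exact h
    rw [hpt q] at hz1
    obtain ⟨p2, hp2, hp2eq⟩ := hz1
    have h5 := hinj hp2eq
    subst h5
    apply hp2
    change φ a ∈ q.asIdeal
    rw [RingHom.mem_ker.mp ha]
    exact q.asIdeal.zero_mem
  obtain ⟨p0, hp0, hp0le⟩ := Ideal.exists_minimalPrimes_le hker
  rw [RingHom.ker_eq_comap_bot] at hp0
  obtain ⟨p', hp'prime, -, hp'eq⟩ := Ideal.exists_comap_eq_of_mem_minimalPrimes φ p0 hp0
  refine ⟨hW.fromSpec ⟨p', hp'prime⟩, ?_⟩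
  rw [hpt, ← hp]
  refine Specializes.map ?_ hV.fromSpec.continuous
  refine (PrimeSpectrum.le_iff_specializes (PrimeSpectrum.comap φ ⟨p', hp'prime⟩) p).mp ?_
  change (PrimeSpectrum.comap φ ⟨p', hp'prime⟩).asIdeal ≤ p.asIdeal
  rw [PrimeSpectrum.comap_asIdeal]
  change Ideal.comap φ p' ≤ p.asIdeal
  rw [hp'eq]
  exact hp0le

lemma exists_specializes_of_mem_closure_range {X Y : Scheme.{u}} (f : X ⟶ Y) [QuasiCompact f]
    (y : Y) (hy : y ∈ closure (Set.range f)) : ∃ x : X, f x ⤳ y := by
  obtain ⟨_, ⟨V, hV, rfl⟩, hyV, -⟩ :=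
    Y.isBasis_affineOpens.exists_subset_of_mem_open (Set.mem_univ y) isOpen_univ
  have hcomp : IsCompact (f ⁻¹' (V : Set Y)) :=
    QuasiCompact.isCompact_preimage _ V.isOpen hV.isCompact
  obtain ⟨s, hs, hsU⟩ := (isCompact_and_isOpen_iff_finite_and_eq_biUnion_affineOpens).mp
    ⟨hcomp, V.isOpen.preimage f.continuous⟩
  have h1 : y ∈ closure ((V : Set Y) ∩ Set.range f) := V.isOpen.inter_closure ⟨hyV, hy⟩
  have hmem : ∀ (W : X.affineOpens), W ∈ s → ∀ x : X, x ∈ (W : X.Opens) → x ∈ f ⁻¹' (V : Set Y) := by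
    intro W hW x hx
    rw [hsU]
    simp only [Set.mem_iUnion]
    exact ⟨W, hW, hx⟩
  have h2 : (V : Set Y) ∩ Set.range f = ⋃ W ∈ s, f '' ((W : X.Opens) : Set X) := by
    ext z
    simp only [Set.mem_inter_iff, Set.mem_range, Set.mem_iUnion, Set.mem_image]
    constructor
    · rintro ⟨hz, x, rfl⟩
      have hx : x ∈ f ⁻¹' (V : Set Y) := hz
      rw [hsU] at hx
      simp only [Set.mem_iUnion] at hx
      obtain ⟨W, hW, hxW⟩ := hx
      exact ⟨W, hW, x, hxW, rfl⟩
    · rintro ⟨W, hW, x, hxW, rfl⟩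
      exact ⟨hmem W hW x hxW, x, rfl⟩
  rw [h2, hs.closure_biUnion] at h1
  simp only [Set.mem_iUnion] at h1
  obtain ⟨W, hWs, hyW⟩ := h1
  have hWV : (W : X.Opens) ≤ f ⁻¹ᵁ V := fun x hx => hmem W hWs x hx
  exact affine_case f V hV W.1 W.2 hWV y hyV hyW

lemma key_closed {X Y Y' : Scheme.{u}} (f : X ⟶ Y)
    (g : Y' ⟶ Y) [QuasiCompact f] [Flat g] [Surjective g]
    (h : Topology.IsEmbedding (pullback.snd f g).base) (C : Set X) (hC : IsClosed C)
    (a : X) (ha : f a ∈ closure (f '' C)) : a ∈ C := by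
  let I := Scheme.IdealSheafData.vanishingIdeal ⟨C, hC⟩
  have hrange : Set.range I.subschemeι = C := by
    rw [Scheme.IdealSheafData.range_subschemeι]
    simp [I]
  have hr2 : Set.range (I.subschemeι ≫ f) = f '' C := by
    rw [Scheme.Hom.comp_base, TopCat.coe_comp, Set.range_comp, hrange]
  rw [← hr2] at ha
  obtain ⟨c0, hc0⟩ := exists_specializes_of_mem_closure_range (I.subschemeι ≫ f) (f a) ha
  have hcC : I.subschemeι c0 ∈ C := by
    rw [← hrange]
    exact ⟨c0, rfl⟩
  rw [Scheme.Hom.comp_apply] at hc0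
  obtain ⟨y', hy'⟩ := g.surjective (f a)
  rw [← hy'] at hc0
  obtain ⟨y1', hy1', hy1'eq⟩ := (Flat.generalizingMap g) hc0
  obtain ⟨c', hc'1, hc'2⟩ := Scheme.Pullback.exists_preimage_pullback (f := f) (g := g)
    (I.subschemeι c0) y1' hy1'eq.symm
  obtain ⟨a', ha'1, ha'2⟩ := Scheme.Pullback.exists_preimage_pullback (f := f) (g := g)
    a y' hy'.symm
  have hsp : c' ⤳ a' := by
    rw [← h.isInducing.specializes_iff]
    change (pullback.snd f g) c' ⤳ (pullback.snd f g) a'
    rw [hc'2, ha'2]
    exact hy1'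
  have hsp2 := hsp.map (pullback.fst f g).continuous
  rw [hc'1, ha'1] at hsp2
  exact hsp2.mem_closed hC hcC

theorem emb_of_pullback_snd {X Y Y' : Scheme.{u}} (f : X ⟶ Y)
    (g : Y' ⟶ Y) [QuasiCompact f] [Flat g] [Surjective g]
    (h : Topology.IsEmbedding (pullback.snd f g).base) : Topology.IsEmbedding f.base := by

  have hind : Topology.IsInducing f.base := by
    refine ⟨le_antisymm (continuous_iff_le_induced.mp f.continuous) ?_⟩
    intro U hU
    rw [← @isClosed_compl_iff _ (TopologicalSpace.induced _ _), isClosed_induced_iff']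
    intro a ha
    exact key_closed f g h Uᶜ hU.isClosed_compl a ha
  refine ⟨hind, ?_⟩
  intro x1 x2 hx
  obtain ⟨y', hy'⟩ := g.surjective (f x1)
  obtain ⟨x1', h11, h12⟩ := Scheme.Pullback.exists_preimage_pullback (f := f) (g := g)
    x1 y' hy'.symm
  obtain ⟨x2', h21, h22⟩ := Scheme.Pullback.exists_preimage_pullback (f := f) (g := g)
    x2 y' (by rw [hy']; exact hx.symm)
  have : x1' = x2' := h.injective (h12.trans h22.symm)
  rw [← h11, ← h21, this]

theorem qc_of_pullback_fst {X Y Z : Scheme.{u}} (f : X ⟶ Z) (g : Y ⟶ Z) [Surjective f]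
    [QuasiCompact f] [QuasiCompact (pullback.fst f g)] : QuasiCompact g := by
  constructor
  intro U hU hUc
  have h1 : IsCompact ((pullback.fst f g) ⁻¹' (f ⁻¹' U)) :=
    QuasiCompact.isCompact_preimage _ (hU.preimage f.continuous)
      (QuasiCompact.isCompact_preimage _ hU hUc)
  have h2 : g ⁻¹' U = (pullback.snd f g) '' ((pullback.fst f g) ⁻¹' (f ⁻¹' U)) := by
    ext y
    constructor
    · intro hy
      obtain ⟨x, hx⟩ := f.surjective (g y)
      obtain ⟨z, hz1, hz2⟩ := Scheme.Pullback.exists_preimage_pullback (f := f) (g := g) x y hx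
      refine ⟨z, ?_, hz2⟩
      simp only [Set.mem_preimage]
      rw [hz1, hx]
      exact hy
    · rintro ⟨z, hz, rfl⟩
      have h3 : f (pullback.fst f g z) = g (pullback.snd f g z) := by
        rw [← Scheme.Hom.comp_apply, ← Scheme.Hom.comp_apply, pullback.condition]
      simp only [Set.mem_preimage] at hz ⊢
      rw [← h3]
      exact hz
  rw [h2]
  exact h1.image (pullback.snd f g).continuous



theorem descends_emb_qc :
    MorphismProperty.DescendsAlong
      (topologically (fun f => Topology.IsEmbedding f) ⊓ @QuasiCompact : MorphismProperty Scheme.{u})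
      (@Surjective ⊓ @Flat ⊓ @QuasiCompact : MorphismProperty Scheme.{u}) := by

  constructor
  intro A X Y Z fst snd f g h hf hfst
  obtain ⟨⟨hsurj, hflat⟩, hqc⟩ := hf
  obtain ⟨hemb, hqc1⟩ := hfst
  haveI : Surjective f := hsurj
  haveI : Flat f := hflat
  haveI : QuasiCompact f := hqc
  haveI : QuasiCompact fst := hqc1
  have hemb' : Topology.IsEmbedding fst.base := hemb
  have e1 : pullback.fst f g = h.isoPullback.inv ≫ fst := by simp
  haveI : QuasiCompact (pullback.fst f g) := by rw [e1]; infer_instance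
  haveI hqcg : QuasiCompact g := qc_of_pullback_fst f g
  have e2 : pullback.snd g f = ((pullbackSymmetry g f).hom ≫ h.isoPullback.inv) ≫ fst := by
    rw [Category.assoc, ← e1, pullbackSymmetry_hom_comp_fst]
  have hemb2 : Topology.IsEmbedding (pullback.snd g f).base := by
    rw [e2, Scheme.Hom.comp_base, TopCat.coe_comp]
    exact hemb'.comp ((pullbackSymmetry g f).hom ≫ h.isoPullback.inv).isOpenEmbedding.isEmbedding
  exact ⟨emb_of_pullback_snd g f hemb2, hqcg⟩


theorem universally_descends {C : Type*} [Category C] [HasPullbacks C] (P Q : MorphismProperty C)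
    [P.DescendsAlong Q] [Q.IsStableUnderBaseChange] : P.universally.DescendsAlong Q := by
  constructor
  intro A X Y Z fst snd f g h hf hfst
  intro Y' Z' i₁ i₂ g' H
  have hQf' : Q (pullback.snd f i₂) := MorphismProperty.pullback_snd _ _ hf
  have hcomm : (pullback.fst (pullback.snd f i₂) g' ≫ pullback.fst f i₂) ≫ f =
      (pullback.snd (pullback.snd f i₂) g' ≫ i₁) ≫ g := by
    rw [Category.assoc, pullback.condition, ← Category.assoc, pullback.condition, Category.assoc,
      H.w, Category.assoc]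
  have hbig : IsPullback (pullback.fst (pullback.snd f i₂) g')
      (pullback.snd (pullback.snd f i₂) g' ≫ i₁) (pullback.snd f i₂ ≫ i₂) g :=
    (IsPullback.of_hasPullback (pullback.snd f i₂) g').paste_vert H
  have ha_snd : h.lift _ _ hcomm ≫ snd = pullback.snd (pullback.snd f i₂) g' ≫ i₁ :=
    h.lift_snd _ _ _
  have ha_fst : h.lift _ _ hcomm ≫ fst = pullback.fst (pullback.snd f i₂) g' ≫ pullback.fst f i₂ :=
    h.lift_fst _ _ _
  have hpf : pullback.fst f i₂ ≫ f = pullback.snd f i₂ ≫ i₂ := pullback.condition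
  have hbig' : IsPullback (pullback.fst (pullback.snd f i₂) g')
      (h.lift _ _ hcomm ≫ snd) (pullback.fst f i₂ ≫ f) g := by
    rw [ha_snd, hpf]
    exact hbig
  have hsq : IsPullback (pullback.fst (pullback.snd f i₂) g') (h.lift _ _ hcomm)
      (pullback.fst f i₂) fst := IsPullback.of_bot hbig' ha_fst.symm h
  have hP : P (pullback.fst (pullback.snd f i₂) g') := hfst _ _ _ hsq
  exact MorphismProperty.of_pullback_fst_of_descendsAlong (P := P) (Q := Q)
    (f := pullback.snd f i₂) (g := g') hQf' hP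


/-- The property of being quasi-compact and universally bicontinuous (every base change is a
homeomorphism onto its image) descends along a surjective, flat and quasi-compact base change. -/
theorem result :
    MorphismProperty.DescendsAlong
      (MorphismProperty.universally (topologically (fun f => Topology.IsEmbedding f)) ⊓ @QuasiCompact : MorphismProperty Scheme.{u})
      (@Surjective ⊓ @Flat ⊓ @QuasiCompact : MorphismProperty Scheme.{u}) := by
  have h1 : (MorphismProperty.universally (topologically (fun f => Topology.IsEmbedding f)) ⊓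
      @QuasiCompact : MorphismProperty Scheme.{u}) =
      (topologically (fun f => Topology.IsEmbedding f) ⊓ @QuasiCompact :
        MorphismProperty Scheme.{u}).universally := by
    rw [MorphismProperty.universally_inf,
      MorphismProperty.IsStableUnderBaseChange.universally_eq (P := @QuasiCompact)]
  rw [h1]
  haveI := descends_emb_qc.{u}
  exact universally_descends _ _

end Groth.Agent.S4639
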