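import Groth.Statements.S4640
import Mathlib.RingTheory.Flat.TorsionFree
-- import your own Groth.Agent.* helpers here

set_option autoImplicit false
universe u
open FDesc

open scoped TensorProduct
namespace Groth.Agent.S4640

open TensorProduct in
/-- Let A be a Dedekind domain with fraction field K, M an A-module and P' a K-submodule of K ⊗_A M. Let
φ : M → (K ⊗_A M)/P' be m ↦ class of 1 ⊗ m. Then a submodule Q of M equals ker φ if and only if M/Q
is a flat A-module and the kernel of the induced surjection K ⊗_A M → K ⊗_A (M/Q) is P'. Thus M/ker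
φ is the unique flat quotient of M with generic fibre (K ⊗_A M)/P'. (The published statement takes A
Noetherian, regular and of dimension 1; a field is allowed here, where the statement is immediate.) -/
theorem result {A K : Type u} [CommRing A] [IsDedekindDomain A] [Field K]
    [Algebra A K] [IsFractionRing A K] {M : Type u} [AddCommGroup M] [Module A M]
    (P' : Submodule K (K ⊗[A] M)) (Q : Submodule A M) :
    Q = LinearMap.ker ((P'.restrictScalars A).mkQ ∘ₗ TensorProduct.mk A K M 1) ↔
      (Module.Flat A (M ⧸ Q) ∧ LinearMap.ker (Q.mkQ.baseChange K) = P') := by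
  classical
  have hsm : ∀ (a : A) (x : K ⊗[A] M), a • x = (algebraMap A K a) • x :=
    fun a x => (algebraMap_smul K a x).symm
  have hne : ∀ s : A, s ∈ nonZeroDivisors A → algebraMap A K s ≠ 0 := fun s hs =>
    (map_ne_zero_iff _ (IsFractionRing.injective A K)).2 (nonZeroDivisors.ne_zero hs)
  have hP : ∀ (s : A), s ∈ nonZeroDivisors A → ∀ x : K ⊗[A] M, s • x ∈ P' → x ∈ P' := by
    intro s hs x hx
    rw [hsm] at hx
    have := P'.smul_mem (algebraMap A K s)⁻¹ hx
    rwa [smul_smul, inv_mul_cancel₀ (hne s hs), one_smul] at this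
  have inj : ∀ (N : Type u) [AddCommGroup N] [Module A N] [Module.Flat A N] (n : N),
      (1 : K) ⊗ₜ[A] n = 0 → n = 0 := by
    intro N _ _ _ n hn
    have h1 : Function.Injective ((Algebra.linearMap A K).rTensor N) :=
      Module.Flat.rTensor_preserves_injective_linearMap _ (IsFractionRing.injective A K)
    have h2 : (Algebra.linearMap A K).rTensor N ((1 : A) ⊗ₜ[A] n) = 0 := by
      rw [LinearMap.rTensor_tmul, Algebra.linearMap_apply, map_one, hn]
    have h3 := h1 (h2.trans (map_zero _).symm)
    have := congrArg (TensorProduct.lid A N) h3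
    simpa using this
  have hφ : ∀ m : M, m ∈ LinearMap.ker ((P'.restrictScalars A).mkQ ∘ₗ TensorProduct.mk A K M 1) ↔
      (1 : K) ⊗ₜ[A] m ∈ P' := by
    intro m
    rw [LinearMap.mem_ker, LinearMap.comp_apply, Submodule.mkQ_apply,
      Submodule.Quotient.mk_eq_zero, Submodule.restrictScalars_mem, TensorProduct.mk_apply]
  have hbc : ∀ m : M, Q.mkQ.baseChange K ((1 : K) ⊗ₜ[A] m) = (1 : K) ⊗ₜ[A] (Q.mkQ m) :=
    fun m => LinearMap.baseChange_tmul _ _ _
  have hcancel : ∀ (s : A), s ∈ nonZeroDivisors A → ∀ y : K ⊗[A] (M ⧸ Q), s • y = 0 → y = 0 := by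
    intro s hs y hy
    rw [← algebraMap_smul K s y] at hy
    have := congrArg (fun z => (algebraMap A K s)⁻¹ • z) hy
    simp only [smul_smul, inv_mul_cancel₀ (hne s hs), one_smul, smul_zero] at this
    exact this
  constructor
  · intro hQ
    have hQm : ∀ m, m ∈ Q ↔ (1 : K) ⊗ₜ[A] m ∈ P' := by
      intro m
      rw [hQ]
      exact hφ m
    have hflat : Module.Flat A (M ⧸ Q) := by
      rw [IsDedekindDomain.flat_iff_torsion_eq_bot, eq_bot_iff]
      intro x hx
      rw [Submodule.mem_torsion_iff] at hx
      obtain ⟨a, ha⟩ := hx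
      obtain ⟨m, rfl⟩ := Q.mkQ_surjective x
      rw [Submodule.mem_bot, Submodule.mkQ_apply, Submodule.Quotient.mk_eq_zero, hQm]
      apply hP a a.2
      have h1 : (a : A) • m ∈ Q := by
        rw [← Submodule.Quotient.mk_eq_zero, Submodule.Quotient.mk_smul]
        exact ha
      rw [hQm, TensorProduct.tmul_smul] at h1
      exact h1
    refine ⟨hflat, ?_⟩
    ext x
    obtain ⟨⟨m, s⟩, hms⟩ :=
      IsLocalizedModule.surj (nonZeroDivisors A) (TensorProduct.mk A K M 1) x
    have hms' : (s : A) • x = (1 : K) ⊗ₜ[A] m := hms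
    rw [LinearMap.mem_ker]
    constructor
    · intro hx
      apply hP s s.2
      rw [hms', ← hQm]
      have h1 : Q.mkQ.baseChange K ((1 : K) ⊗ₜ[A] m) = 0 := by
        rw [← hms', LinearMap.map_smul_of_tower, hx, smul_zero]
      rw [hbc] at h1
      have h2 := inj (M ⧸ Q) _ h1
      rwa [Submodule.mkQ_apply, Submodule.Quotient.mk_eq_zero] at h2
    · intro hx
      have h1 : (1 : K) ⊗ₜ[A] m ∈ P' := by
        rw [← hms', hsm]
        exact P'.smul_mem _ hx
      have h2 : m ∈ Q := (hQm m).2 h1
      apply hcancel s s.2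
      rw [← LinearMap.map_smul_of_tower, hms', hbc, Submodule.mkQ_apply,
        (Submodule.Quotient.mk_eq_zero Q).2 h2, TensorProduct.tmul_zero]
  · rintro ⟨hflat, hker⟩
    ext m
    rw [hφ, ← hker, LinearMap.mem_ker, hbc]
    constructor
    · intro hm
      rw [Submodule.mkQ_apply, (Submodule.Quotient.mk_eq_zero Q).2 hm, TensorProduct.tmul_zero]
    · intro hm
      have h2 := inj (M ⧸ Q) _ hm
      rwa [Submodule.mkQ_apply, Submodule.Quotient.mk_eq_zero] at h2

end Groth.Agent.S4640
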