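import Groth.Statements.S4647
import Mathlib

set_option autoImplicit false
open CategoryTheory AlgebraicGeometry
universe u
open FDesc

namespace Groth.Agent.S4647


lemma exists_maximal_generization {X : Type*} [TopologicalSpace X] [QuasiSober X] [T0Space X]
    (x0 : X) :
    ∃ ξ : X, ξ ⤳ x0 ∧ (∀ z, z ⤳ ξ → z = ξ) ∧ closure {ξ} ∈ irreducibleComponents X := by
  have hZ := irreducibleComponent_mem_irreducibleComponents x0
  have hZirr : IsIrreducible (irreducibleComponent x0) := hZ.1
  have hZcl : IsClosed (irreducibleComponent x0) := isClosed_of_mem_irreducibleComponents _ hZ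
  obtain ⟨ξ, hξ⟩ := QuasiSober.sober hZirr hZcl
  refine ⟨ξ, ?_, ?_, ?_⟩
  · rw [specializes_iff_mem_closure, hξ.def]
    exact mem_irreducibleComponent
  · intro z hz
    have h1 : closure {ξ} ⊆ closure {z} := specializes_iff_closure_subset.mp hz
    have h2 : IsIrreducible (closure {z}) := isIrreducible_singleton.closure
    rw [hξ.def] at h1
    have h3 : closure {z} = irreducibleComponent x0 := le_antisymm (hZ.2 h2 h1) h1
    exact IsGenericPoint.eq h3 hξ
  · rw [hξ.def]
    exact hZ

lemma closure_mem_irreducibleComponents_iff {X : Type*} [TopologicalSpace X] [QuasiSober X]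
    [T0Space X] (y : X) :
    closure {y} ∈ irreducibleComponents X ↔ ∀ z, z ⤳ y → z = y := by
  constructor
  · intro h z hz
    have h1 : closure {y} ⊆ closure {z} := specializes_iff_closure_subset.mp hz
    have h2 : IsIrreducible (closure {z}) := isIrreducible_singleton.closure
    have h3 : closure {z} = closure {y} := le_antisymm (h.2 h2 h1) h1
    exact IsGenericPoint.eq h3 isGenericPoint_closure
  · intro h
    obtain ⟨ξ, hξ1, hξ2, hξ3⟩ := exists_maximal_generization y
    have h4 := h ξ hξ1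
    rw [← h4]
    exact hξ3
lemma nilradical_stalk_isPrime_iff (X : Scheme.{u}) (x : X) :
    (nilradical (X.presheaf.stalk x)).IsPrime ↔
      ∀ ξ ξ' : X, ξ ⤳ x → ξ' ⤳ x → (∀ w, w ⤳ ξ → w = ξ) → (∀ w, w ⤳ ξ' → w = ξ') → ξ = ξ' := by
  have hemb : Topology.IsEmbedding (X.fromSpecStalk x) := (X.fromSpecStalk x).isEmbedding
  have hspec : ∀ a b : Spec (X.presheaf.stalk x),
      X.fromSpecStalk x a ⤳ X.fromSpecStalk x b ↔ a ⤳ b :=
    fun a b => hemb.isInducing.specializes_iff
  have hrange : ∀ w : X, w ⤳ x → ∃ a, X.fromSpecStalk x a = w := by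
    intro w hw
    have h1 : w ∈ Set.range (X.fromSpecStalk x) := by
      rw [Scheme.range_fromSpecStalk]
      exact hw
    exact h1
  have hgen : ∀ a, X.fromSpecStalk x a ⤳ x := by
    intro a
    have h1 : X.fromSpecStalk x a ∈ Set.range (X.fromSpecStalk x) := Set.mem_range_self a
    rw [Scheme.range_fromSpecStalk] at h1
    exact h1
  rw [← PrimeSpectrum.irreducibleSpace_iff_isPrime_nilradical]
  constructor
  · intro hirr ξ ξ' hξ hξ' hmax hmax'
    have hη : ∀ z : PrimeSpectrum (X.presheaf.stalk x),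
        genericPoint (PrimeSpectrum (X.presheaf.stalk x)) ⤳ z := by
      intro z
      rw [specializes_iff_mem_closure, (genericPoint_spec (PrimeSpectrum (X.presheaf.stalk x))).def]
      exact Set.mem_univ z
    obtain ⟨z, rfl⟩ := hrange ξ hξ
    obtain ⟨z', rfl⟩ := hrange ξ' hξ'
    have h1 := hmax _ ((hspec _ z).mpr (hη z))
    have h2 := hmax' _ ((hspec _ z').mpr (hη z'))
    exact h1.symm.trans h2
  · intro huniq
    have hmaxj : ∀ η : Spec (X.presheaf.stalk x), (∀ a, a ⤳ η → a = η) →
        ∀ w : X, w ⤳ X.fromSpecStalk x η → w = X.fromSpecStalk x η := by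
      intro η hη w hw
      obtain ⟨a, rfl⟩ := hrange w (hw.trans (hgen η))
      rw [hη a ((hspec a η).mp hw)]
    obtain ⟨η, -, hη2, -⟩ := exists_maximal_generization (X := ↥(Spec (X.presheaf.stalk x)))
      (IsLocalRing.closedPoint (X.presheaf.stalk x))
    have hall : ∀ z : Spec (X.presheaf.stalk x), η ⤳ z := by
      intro z
      obtain ⟨η', hη'1, hη'2, -⟩ := exists_maximal_generization z
      have h1 := huniq _ _ (hgen η) (hgen η') (hmaxj η hη2) (hmaxj η' hη'2)
      rw [hemb.injective h1]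
      exact hη'1
    have huniv : (Set.univ : Set (Spec (X.presheaf.stalk x))) = closure {η} :=
      (Set.eq_univ_of_forall fun z => specializes_iff_mem_closure.mp (hall z)).symm
    exact
      { isPreirreducible_univ := by
          have h3 : IsPreirreducible (Set.univ : Set (Spec (X.presheaf.stalk x))) := by
            rw [huniv]
            exact isIrreducible_singleton.closure.isPreirreducible
          exact h3
        toNonempty := ⟨η⟩ }

set_option backward.isDefEq.respectTransparency.types false in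
lemma stalkMap_injective_of_flat {X Y : Scheme.{u}} (f : X ⟶ Y) [Flat f] (x : X) :
    Function.Injective (f.stalkMap x).hom := by
  algebraize [(f.stalkMap x).hom]
  have : Module.FaithfullyFlat (Y.presheaf.stalk (f x)) (X.presheaf.stalk x) :=
    @Module.FaithfullyFlat.of_flat_of_isLocalHom _ _ _ _ _ _ _
      (Flat.stalkMap f x) (f.toLRSHom.prop x)
  exact ‹RingHom.FaithfullyFlat _›.injective

lemma exists_open_subset_closure_top (Y : Scheme.{u}) (y : Y)
    (hy : (nilradical (Y.presheaf.stalk y)).IsPrime)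
    (U0 : Y.Opens) (hyU0 : y ∈ U0) [TopologicalSpace.NoetherianSpace ↥U0] :
    ∃ (W : Y.Opens) (ξ : Y), y ∈ W ∧ (W : Set Y) ⊆ closure {ξ} := by
  have key := (nilradical_stalk_isPrime_iff Y y).mp hy
  obtain ⟨ξ, hξ1, hξ2, hξ3⟩ := exists_maximal_generization y
  haveI : QuasiSober ↥U0 := U0.isOpen.isOpenEmbedding_subtypeVal.quasiSober
  have hfin : (irreducibleComponents ↥U0).Finite :=
    TopologicalSpace.NoetherianSpace.finite_irreducibleComponents
  have hBcl : IsClosed (⋃ Z ∈ {Z ∈ irreducibleComponents ↥U0 | (⟨y, hyU0⟩ : ↥U0) ∉ Z},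
      (Z : Set ↥U0)) :=
    Set.Finite.isClosed_biUnion (hfin.subset (fun Z hZ => hZ.1))
      (fun Z hZ => isClosed_of_mem_irreducibleComponents Z hZ.1)
  have hyB : (⟨y, hyU0⟩ : ↥U0) ∈ (⋃ Z ∈ {Z ∈ irreducibleComponents ↥U0 |
      (⟨y, hyU0⟩ : ↥U0) ∉ Z}, (Z : Set ↥U0))ᶜ := by
    intro h
    simp only [Set.mem_iUnion] at h
    obtain ⟨Z, ⟨_, hyZ⟩, hy'⟩ := h
    exact hyZ hy'
  have hWopen : IsOpen (Subtype.val '' (⋃ Z ∈ {Z ∈ irreducibleComponents ↥U0 |
      (⟨y, hyU0⟩ : ↥U0) ∉ Z}, (Z : Set ↥U0))ᶜ) :=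
    U0.isOpen.isOpenMap_subtype_val _ hBcl.isOpen_compl
  refine ⟨⟨_, hWopen⟩, ξ, ⟨⟨y, hyU0⟩, hyB, rfl⟩, ?_⟩
  rintro _ ⟨w, hw, rfl⟩
  have hZw := irreducibleComponent_mem_irreducibleComponents w
  have hyZw : (⟨y, hyU0⟩ : ↥U0) ∈ irreducibleComponent w := by
    by_contra hcon
    apply hw
    simp only [Set.mem_iUnion]
    exact ⟨irreducibleComponent w, ⟨hZw, hcon⟩, mem_irreducibleComponent⟩
  obtain ⟨ζ, hζ⟩ := QuasiSober.sober hZw.1 (isClosed_of_mem_irreducibleComponents _ hZw)
  have hζy : (ζ : Y) ⤳ y := by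
    have h1 : ζ ⤳ (⟨y, hyU0⟩ : ↥U0) := by
      rw [specializes_iff_mem_closure, hζ.def]
      exact hyZw
    exact h1.map continuous_subtype_val
  have hζw : (ζ : Y) ⤳ (w : Y) := by
    have h1 : ζ ⤳ w := by
      rw [specializes_iff_mem_closure, hζ.def]
      exact mem_irreducibleComponent
    exact h1.map continuous_subtype_val
  have hζmax : ∀ z : Y, z ⤳ (ζ : Y) → z = ζ := by
    intro z hz
    have hzU : z ∈ (U0 : Set Y) := U0.isOpen.stableUnderGeneralization hz ζ.2
    have h1 : (⟨z, hzU⟩ : ↥U0) ⤳ ζ := Topology.IsInducing.subtypeVal.specializes_iff.mp hz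
    have h2 : closure {ζ} ⊆ closure {(⟨z, hzU⟩ : ↥U0)} := specializes_iff_closure_subset.mp h1
    rw [hζ.def] at h2
    have h3 : closure {(⟨z, hzU⟩ : ↥U0)} = irreducibleComponent w :=
      le_antisymm (hZw.2 isIrreducible_singleton.closure h2) h2
    have h4 : (⟨z, hzU⟩ : ↥U0) = ζ := IsGenericPoint.eq h3 hζ
    exact congrArg Subtype.val h4
  have hζξ : (ζ : Y) = ξ := key _ _ hζy hξ1 hζmax hξ2
  rw [← hζξ]
  exact specializes_iff_mem_closure.mp hζw


/-- Let f : X → Y be a faithfully flat (flat and surjective) morphism. If all local rings of X are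
domains (in particular if X is locally integral) and the underlying space of Y is locally
Noetherian, then Y is locally integral: every point of Y has an open neighbourhood which is an
integral scheme. -/
theorem result {X Y : Scheme.{u}} (f : X ⟶ Y) [Flat f] [Surjective f]
    (hX : ∀ x : X, IsDomain ↑(X.presheaf.stalk x))
    (hY : ∀ y : Y, ∃ U : Y.Opens, y ∈ U ∧ TopologicalSpace.NoetherianSpace ↥U) (y : Y) :
    ∃ U : Y.Opens, y ∈ U ∧ IsIntegral (U : Scheme.{u}) := by
  have hdom : ∀ y : Y, IsDomain (Y.presheaf.stalk y) := by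
    intro y
    obtain ⟨x, rfl⟩ := f.surjective y
    haveI := hX x
    exact (stalkMap_injective_of_flat f x).isDomain (f.stalkMap x).hom
  haveI : IsReduced Y := by
    haveI : ∀ y : Y, _root_.IsReduced (Y.presheaf.stalk y) := fun y => by
      haveI := hdom y
      infer_instance
    exact isReduced_of_isReduced_stalk Y
  obtain ⟨U0, hyU0, hN⟩ := hY y
  haveI := hN
  haveI := hdom y
  have hy : (nilradical (Y.presheaf.stalk y)).IsPrime := by
    rw [nilradical_eq_zero]
    exact Ideal.isPrime_bot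
  obtain ⟨W, ξ, hyW, hsub⟩ := exists_open_subset_closure_top Y y hy U0 hyU0
  refine ⟨W, hyW, ?_⟩
  haveI : IsReduced (W : Scheme.{u}) := isReduced_of_isOpenImmersion W.ι
  have hirr : IsIrreducible (W : Set Y) :=
    ⟨⟨y, hyW⟩, (isIrreducible_singleton.closure).isPreirreducible.open_subset W.isOpen hsub⟩
  haveI : IrreducibleSpace (W : Scheme.{u}) := Subtype.irreducibleSpace hirr
  exact isIntegral_of_irreducibleSpace_of_isReduced _

end Groth.Agent.S4647
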