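import Groth.Statements.S4651
import Mathlib
import Groth.Agent.S4650

set_option autoImplicit false
open CategoryTheory AlgebraicGeometry
universe u
open FDesc

namespace Groth.Agent.S4651

/-- Let Y be a scheme whose family of irreducible components is locally finite (every point has an open
neighbourhood meeting only finitely many irreducible components), and let f : X → Y be a morphism
along which generizations lift (e.g. flat, quasi-flat or open) such that every fibre f⁻¹(y) is a
finite set (e.g. f quasi-finite or radicial). Then the family of irreducible components of X is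
locally finite. -/
theorem result {X Y : Scheme.{u}} (f : X ⟶ Y)
    (hY : ∀ y : Y, ∃ U : Set ↥Y, IsOpen U ∧ y ∈ U ∧ {Z ∈ irreducibleComponents ↥Y | (Z ∩ U).Nonempty}.Finite)
    (hf : GeneralizingMap ⇑f) (hfin : ∀ y : Y, (⇑f ⁻¹' {y}).Finite) (x : X) :
    ∃ U : Set ↥X, IsOpen U ∧ x ∈ U ∧ {T ∈ irreducibleComponents ↥X | (T ∩ U).Nonempty}.Finite := by
  obtain ⟨UY, hUo, hxU, hfinY⟩ := hY (f x)
  refine ⟨f ⁻¹' UY, hUo.preimage f.continuous, hxU, ?_⟩
  have hG : (⋃ Z ∈ {Z ∈ irreducibleComponents ↥Y | (Z ∩ UY).Nonempty},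
      {ξ : X | closure {f ξ} = Z}).Finite := by
    refine Set.Finite.biUnion hfinY (fun Z _ => ?_)
    by_cases hne : ({ξ : X | closure {f ξ} = Z}).Nonempty
    · obtain ⟨ξ1, hξ1⟩ := hne
      refine (hfin (f ξ1)).subset (fun ξ2 hξ2 => ?_)
      have : closure {f ξ2} = closure {f ξ1} := hξ2.trans hξ1.symm
      exact ((inseparable_iff_closure_eq.mpr this).eq : f ξ2 = f ξ1)
    · rw [Set.not_nonempty_iff_eq_empty] at hne
      rw [hne]; exact Set.finite_empty
  refine (hG.image (fun ξ => closure {ξ})).subset ?_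
  rintro T ⟨hT, hTU⟩
  have hTirr : IsIrreducible T := hT.1
  have hTcl : IsClosed T := isClosed_of_mem_irreducibleComponents T hT
  obtain ⟨ξ, hξ⟩ := QuasiSober.sober hTirr hTcl
  have hξT : closure {ξ} = T := hξ.def
  refine ⟨ξ, ?_, hξT⟩
  have hcl : closure {f ξ} = closure (f '' T) := by
    apply subset_antisymm
    · apply closure_mono
      rintro _ rfl
      exact ⟨ξ, hξT ▸ subset_closure rfl, rfl⟩
    · apply closure_minimal _ isClosed_closure
      rw [← hξT]
      refine (image_closure_subset_closure_image f.continuous).trans ?_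
      rw [Set.image_singleton]
  simp only [Set.mem_iUnion, Set.mem_setOf_eq, exists_prop]
  refine ⟨closure (f '' T), ⟨Groth.Agent.S4650.result f hf T hT, ?_⟩, hcl⟩
  obtain ⟨t, htT, htU⟩ := hTU
  exact ⟨f t, subset_closure ⟨t, htT, rfl⟩, htU⟩

end Groth.Agent.S4651
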