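import Groth.Statements.S4665
import Mathlib

set_option autoImplicit false
open CategoryTheory AlgebraicGeometry
universe u
open FBase

namespace Groth.Agent.S4665

open CategoryTheory.Limits in
/-- Let f : X → Y and g : Y' → Y be morphisms of schemes with g surjective, and let f' : X ×_Y Y' → Y'
be the base change of f. Say that a morphism has geometrically connected fibres when, for every
field K and every morphism from Spec K to its target, the base change to Spec K is empty or
connected (so an empty fibre counts as geometrically connected). If f' has geometrically connected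
fibres in this sense, then so has f. -/
theorem result {X Y Y' : Scheme.{u}} (f : X ⟶ Y)
    (g : Y' ⟶ Y) [Surjective g]
    (h : geometrically (fun Z : Scheme.{u} => IsEmpty ↥Z ∨ ConnectedSpace ↥Z) (pullback.snd f g)) :
    geometrically (fun Z : Scheme.{u} => IsEmpty ↥Z ∨ ConnectedSpace ↥Z) f := by
  intro K _ y Z fst snd hpb
  haveI : Surjective (Limits.pullback.fst y g) := inferInstance
  obtain ⟨w, -⟩ := (Limits.pullback.fst y g).surjective (⊥ : PrimeSpectrum K)
  let W := Limits.pullback y g
  let s : Spec (W.residueField w) ⟶ W := W.fromSpecResidueField w
  let a : Spec (.of (W.residueField w)) ⟶ Spec (.of K) := s ≫ Limits.pullback.fst y g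
  let b : Spec (.of (W.residueField w)) ⟶ Y' := s ≫ Limits.pullback.snd y g
  have hab : a ≫ y = b ≫ g := by simp only [a, b, Category.assoc, Limits.pullback.condition]
  have h1 : IsPullback (Limits.pullback.fst snd a ≫ fst) (Limits.pullback.snd snd a) f (a ≫ y) :=
    (IsPullback.of_hasPullback snd a).paste_horiz hpb
  let l : Limits.pullback snd a ⟶ Limits.pullback f g :=
    Limits.pullback.lift (Limits.pullback.fst snd a ≫ fst) (Limits.pullback.snd snd a ≫ b)
      (by have := h1.w; simp only [Category.assoc] at this ⊢; rw [← hab]; exact this)
  have h2 : IsPullback l (Limits.pullback.snd snd a) (Limits.pullback.snd f g) b := by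
    refine IsPullback.of_right ?_ (Limits.pullback.lift_snd _ _ _) (IsPullback.of_hasPullback f g)
    rw [Limits.pullback.lift_fst, ← hab]
    exact h1
  have h3 : IsEmpty ↥(Limits.pullback snd a) ∨ ConnectedSpace ↥(Limits.pullback snd a) :=
    h b l _ h2
  haveI : Surjective a :=
    ⟨fun x => ⟨(⊥ : PrimeSpectrum (W.residueField w)), Subsingleton.elim (α := PrimeSpectrum K) _ _⟩⟩
  haveI : Surjective (Limits.pullback.fst snd a) := inferInstance
  rcases h3 with h3 | h3
  · left
    exact ⟨fun z => by
      obtain ⟨t, -⟩ := (Limits.pullback.fst snd a).surjective z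
      exact h3.false t⟩
  · right
    exact Function.Surjective.connectedSpace 
      (Limits.pullback.fst snd a).surjective (Limits.pullback.fst snd a).continuous

end Groth.Agent.S4665
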