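import Groth.Statements.S4666
import Mathlib

set_option autoImplicit false
open CategoryTheory AlgebraicGeometry
universe u
open FDesc

namespace Groth.Agent.S4666

set_option backward.isDefEq.respectTransparency.types false in
lemma stalkMap_injective_of_flat {X Y : Scheme.{u}} (f : X ⟶ Y) [Flat f] (x : X) :
    Function.Injective (f.stalkMap x).hom := by
  algebraize [(f.stalkMap x).hom]
  have : Module.FaithfullyFlat (Y.presheaf.stalk (f x)) (X.presheaf.stalk x) :=
    @Module.FaithfullyFlat.of_flat_of_isLocalHom _ _ _ _ _ _ _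
      (Flat.stalkMap f x) (f.toLRSHom.prop x)
  exact ‹RingHom.FaithfullyFlat _›.injective

lemma ker_eq_bot_of_flat_surjective {X Y : Scheme.{u}} (f : X ⟶ Y) [Flat f] [Surjective f] :
    f.ker = ⊥ := by
  rw [← le_bot_iff]
  intro U
  refine (Scheme.Hom.ideal_ker_le f U).trans ?_
  rw [Scheme.IdealSheafData.ideal_bot, Pi.bot_apply]
  intro a ha
  rw [RingHom.mem_ker] at ha
  rw [Ideal.mem_bot]
  refine TopCat.Presheaf.section_ext Y.sheaf U.1 a 0 (fun y hy => ?_)
  obtain ⟨x, rfl⟩ := f.surjective y
  apply stalkMap_injective_of_flat f x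
  change f.stalkMap x (Y.presheaf.germ U.1 (f x) hy a) = f.stalkMap x (Y.presheaf.germ U.1 (f x) hy 0)
  rw [Scheme.Hom.germ_stalkMap_apply, Scheme.Hom.germ_stalkMap_apply, ha]
  simp only [map_zero]

lemma map_comap_of_flat_surjective {X Y : Scheme.{u}} (f : X ⟶ Y) [Flat f] [Surjective f]
    (J : Y.IdealSheafData) : (J.comap f).map f = J := by
  unfold Scheme.IdealSheafData.comap
  rw [Scheme.IdealSheafData.map_ker, Limits.pullback.condition, Scheme.Hom.ker_comp,
    ker_eq_bot_of_flat_surjective, Scheme.IdealSheafData.map_bot,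
    Scheme.IdealSheafData.ker_subschemeι]

/-- Let f : X → Y be a flat and surjective morphism of schemes. Then the map sending a quasi-coherent
sheaf of ideals of O_Y (a closed subscheme of Y) to its inverse image in X is injective. -/
theorem result {X Y : Scheme.{u}} (f : X ⟶ Y) [Flat f] [Surjective f] :
    Function.Injective fun J : Y.IdealSheafData => J.comap f := by
  intro J1 J2 h
  have h' : J1.comap f = J2.comap f := h
  rw [← map_comap_of_flat_surjective f J1, ← map_comap_of_flat_surjective f J2, h']

end Groth.Agent.S4666
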