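import Groth.Statements.S4667
import Mathlib

set_option autoImplicit false
open CategoryTheory AlgebraicGeometry
universe u
open FDesc

namespace Groth.Agent.S4667

lemma toImage_ker_eq_bot {X Y : Scheme.{u}} (f : X ⟶ Y) [QuasiCompact f] : f.toImage.ker = ⊥ := by
  rw [← le_bot_iff]
  refine Scheme.IdealSheafData.le_of_iSup_eq_top (ι := Y.affineOpens)
    (fun U => ⟨f.imageι ⁻¹ᵁ U.1, U.2.preimage f.imageι⟩) ?_ ?_
  · rw [eq_top_iff]
    intro x _
    obtain ⟨_, ⟨U, hU, rfl⟩, hxU, -⟩ :=
      Y.isBasis_affineOpens.exists_subset_of_mem_open (Set.mem_univ (f.imageι x)) isOpen_univ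
    exact TopologicalSpace.Opens.mem_iSup.mpr ⟨⟨U, hU⟩, hxU⟩
  · intro U
    refine (Scheme.Hom.ideal_ker_le _ _).trans ?_
    rw [Scheme.IdealSheafData.ideal_bot, Pi.bot_apply, le_bot_iff]
    exact (RingHom.injective_iff_ker_eq_bot _).mp (f.toImage_app_injective U)

open CategoryTheory.Limits in
/-- Let f : X → Y be a quasi-compact morphism of schemes and g : Y' → Y a flat morphism, and let f' : X
×_Y Y' → Y' be the base change of f. Then the scheme-theoretic image of f' is the inverse image
under g of the scheme-theoretic image of f: the quasi-coherent ideal sheaf cutting out the former is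
the pull-back along g of the one cutting out the latter. (One published statement is phrased for a
quasi-compact and quasi-separated S-morphism f and a flat base change S′ → S, which reduces to this
case; quasi-compactness of f suffices.) -/
theorem result {X Y Y' : Scheme.{u}} (f : X ⟶ Y) (g : Y' ⟶ Y)
    [QuasiCompact f] [Flat g] :
    (pullback.snd f g).ker = f.ker.comap g := by
  haveI : IsSchemeTheoreticallyDominant f.toImage := ⟨toImage_ker_eq_bot f⟩
  have H1 := (IsPullback.of_hasPullback f.toImage (pullback.fst f.imageι g)).flip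
  have H2 := (IsPullback.of_hasPullback f.imageι g).flip
  have H := (H1.paste_horiz H2).flip
  rw [f.toImage_imageι] at H
  obtain ⟨e, he⟩ : ∃ e : pullback f.toImage (pullback.fst f.imageι g) ≅ pullback f g,
      e.hom ≫ pullback.snd f g
        = pullback.snd f.toImage (pullback.fst f.imageι g) ≫ pullback.snd f.imageι g :=
    ⟨H.isoPullback, H.isoPullback_hom_snd⟩
  have h2 : pullback.snd f g = e.inv ≫
      (pullback.snd f.toImage (pullback.fst f.imageι g) ≫ pullback.snd f.imageι g) := by
    rw [← he, Iso.inv_hom_id_assoc]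
  have h3 : (pullback.snd f.toImage (pullback.fst f.imageι g)).ker = ⊥ :=
    IsSchemeTheoreticallyDominant.ker_eq_bot _
  have h4 : pullback.snd f.imageι g = (pullbackSymmetry f.imageι g).hom ≫ pullback.fst g f.imageι :=
    (pullbackSymmetry_hom_comp_fst f.imageι g).symm
  rw [h2, Scheme.Hom.ker_comp_of_isIso, Scheme.Hom.ker_comp, h3, Scheme.IdealSheafData.map_bot, h4,
    Scheme.Hom.ker_comp_of_isIso]
  rfl

end Groth.Agent.S4667
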