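import Groth.Statements.S4674
import Mathlib

set_option autoImplicit false
open scoped TensorProduct
universe u v w
open FDesc

namespace Groth.Agent.S4674

/-- Let B be a flat A-algebra and M a finitely presented A-module. Then the annihilator of the B-module
B ⊗_A M is the ideal of B generated by the image of the annihilator of M. -/
theorem result {A : Type u} {B : Type v} [CommRing A] [CommRing B] [Algebra A B]
    [Module.Flat A B] (M : Type w) [AddCommGroup M] [Module A M] [Module.FinitePresentation A M] :
    Module.annihilator B (B ⊗[A] M) = (Module.annihilator A M).map (algebraMap A B) := by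
  apply le_antisymm
  · intro b hb
    rw [Module.mem_annihilator] at hb
    obtain ⟨n, s, hs⟩ := Module.Finite.exists_fin (R := A) (M := M)
    let φ : A →ₗ[A] (Fin n → M) := LinearMap.pi (fun i => LinearMap.toSpanSingleton A M (s i))
    have hker : ∀ a : A, a ∈ LinearMap.ker φ → a ∈ Module.annihilator A M := by
      intro a ha
      rw [← Submodule.annihilator_top, ← hs, Submodule.mem_annihilator_span]
      rintro ⟨_, i, rfl⟩
      have := congrFun (LinearMap.mem_ker.mp ha) i
      simpa [φ] using this
    have h1 : (TensorProduct.AlgebraTensorModule.lTensor B B φ) (b ⊗ₜ[A] (1 : A)) = 0 := by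
      rw [TensorProduct.AlgebraTensorModule.lTensor_tmul]
      have : φ 1 = ∑ i, Pi.single i (s i) := by
        ext j; simp [φ, Finset.sum_apply, Pi.single_apply]
      rw [this, TensorProduct.tmul_sum]
      apply Finset.sum_eq_zero
      intro i _
      have h2 : b ⊗ₜ[A] (Pi.single i (s i) : Fin n → M) =
          (LinearMap.lTensor B (LinearMap.single A (fun _ => M) i)) (b ⊗ₜ s i) := by
        simp
      rw [h2]
      have h3 : b ⊗ₜ[A] s i = (0 : B ⊗[A] M) := by
        have := hb (1 ⊗ₜ s i)
        rwa [TensorProduct.smul_tmul', smul_eq_mul, mul_one] at this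
      rw [h3, map_zero]
    have h4 : b ⊗ₜ[A] (1 : A) ∈ LinearMap.range
        (TensorProduct.AlgebraTensorModule.lTensor B B (LinearMap.ker φ).subtype) := by
      rw [← Module.Flat.ker_lTensor_eq]; exact h1
    obtain ⟨z, hz⟩ := h4
    have h5 : ∀ z : B ⊗[A] (LinearMap.ker φ), (TensorProduct.AlgebraTensorModule.rid A B B)
        ((TensorProduct.AlgebraTensorModule.lTensor B B (LinearMap.ker φ).subtype) z) ∈
        (Module.annihilator A M).map (algebraMap A B) := by
      intro z
      induction z using TensorProduct.induction_on with
      | zero => simp
      | tmul b' a =>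
        simp only [TensorProduct.AlgebraTensorModule.lTensor_tmul, Submodule.subtype_apply,
          TensorProduct.AlgebraTensorModule.rid_tmul]
        rw [Algebra.smul_def]
        exact Ideal.mul_mem_right _ _ (Ideal.mem_map_of_mem _ (hker a.1 a.2))
      | add x y hx hy => simp only [map_add]; exact Ideal.add_mem _ hx hy
    have := h5 z
    rw [hz] at this
    simpa using this
  · rw [Ideal.map_le_iff_le_comap]
    intro a ha
    rw [Ideal.mem_comap, Module.mem_annihilator]
    intro z
    induction z using TensorProduct.induction_on with
    | zero => simp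
    | tmul b m =>
      rw [TensorProduct.smul_tmul', smul_eq_mul, ← Algebra.smul_def, TensorProduct.smul_tmul,
        Module.mem_annihilator.mp ha m, TensorProduct.tmul_zero]
    | add x y hx hy => rw [smul_add, hx, hy, add_zero]

end Groth.Agent.S4674
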