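import Groth.Statements.S4675
import Mathlib.Algebra.Module.Submodule.Equiv

set_option autoImplicit false
universe u v
open FDesc

namespace Groth.Agent.S4675

/-- Let B be a ring, not necessarily commutative, and V, W two left B-modules which are isomorphic. For
a B-linear map u : V → W the following are equivalent: every B-linear map V → W can be written
uniquely as u ∘ c with c a B-linear endomorphism of V (that is, u is a basis of Hom_B(V, W) for its
right module structure over End_B(V)); u is bijective. -/
theorem result {B : Type u} [Ring B] {V W : Type v} [AddCommGroup V] [AddCommGroup W]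
    [Module B V] [Module B W] (e : V ≃ₗ[B] W) (u : V →ₗ[B] W) :
    (∀ v : V →ₗ[B] W, ∃! c : V →ₗ[B] V, v = u ∘ₗ c) ↔ Function.Bijective u := by
  constructor
  · intro h
    obtain ⟨c, hc, -⟩ := h e.toLinearMap
    have hs : ∀ w, u (c (e.symm w)) = w := by
      intro w
      have := congrArg (fun φ => φ (e.symm w)) hc
      simpa using this.symm
    obtain ⟨c', -, huniq⟩ := h u
    have h1 : (c ∘ₗ e.symm.toLinearMap ∘ₗ u) = c' := huniq _ (by
      ext x; simp [hs])
    have h2 : LinearMap.id = c' := huniq _ (by ext x; simp)
    refine ⟨?_, fun w => ⟨_, hs w⟩⟩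
    intro x y hxy
    have hx : c (e.symm (u x)) = x := by
      have := congrArg (fun φ => φ x) (h1.trans h2.symm); simpa using this
    have hy : c (e.symm (u y)) = y := by
      have := congrArg (fun φ => φ y) (h1.trans h2.symm); simpa using this
    rw [← hx, ← hy, hxy]
  · intro hu v
    let ue := LinearEquiv.ofBijective u hu
    refine ⟨ue.symm.toLinearMap ∘ₗ v, ?_, ?_⟩
    · ext x; simp [ue]
    · intro c hc
      ext x
      subst hc
      simp [ue]

end Groth.Agent.S4675
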