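import Groth.Statements.S4711
-- import your own Groth.Agent.* helpers here

set_option autoImplicit false
universe u
open EGA4

namespace Groth.Agent.S4711

open AlgebraicGeometry Topology in
/-- In any scheme X, every nonempty locally constructible subset E contains a point x such that the
one-point set {x} is locally closed in X (equivalently x is isolated in its closure). -/
theorem result (X : Scheme.{u}) (E : Set X)
    (hE : Topology.IsLocallyConstructible E) (hne : E.Nonempty) :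
    ∃ x ∈ E, IsLocallyClosed ({x} : Set X) := by
  classical
  obtain ⟨e, he⟩ := hne
  obtain ⟨O, hOn, hOo, hcons⟩ := hE e
  have heO : e ∈ O := mem_of_mem_nhds hOn
  have P : ∀ (Y : Type u) [TopologicalSpace Y] (s : Set Y), Topology.IsConstructible s →
      s.Nonempty → ∃ U V : Set Y, IsOpen U ∧ IsOpen V ∧ (U \ V).Nonempty ∧ U \ V ⊆ s := by
    intro Y _ s hs
    induction s, hs using BooleanSubalgebra.closure_sdiff_sup_induction with
    | isSublattice =>
      exact ⟨fun s hs t ht ↦ ⟨hs.1.union ht.1, hs.2.union ht.2⟩,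
        fun s hs t ht ↦ ⟨hs.1.inter ht.1, hs.2.inter_isOpen ht.2 ht.1⟩⟩
    | bot_mem => exact ⟨isOpen_empty, .empty⟩
    | top_mem => exact ⟨isOpen_univ, .univ⟩
    | sdiff U hU V hV =>
      intro hne
      exact ⟨U, V, hU.1, hV.1, hne, subset_rfl⟩
    | sup s _ t _ hs' ht' =>
      intro hne
      rcases Set.union_nonempty.mp hne with h | h
      · obtain ⟨U, V, hU, hV, h1, h2⟩ := hs' h
        exact ⟨U, V, hU, hV, h1, h2.trans Set.subset_union_left⟩
      · obtain ⟨U, V, hU, hV, h1, h2⟩ := ht' h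
        exact ⟨U, V, hU, hV, h1, h2.trans Set.subset_union_right⟩
  obtain ⟨U, V, hU, hV, ⟨w, hwU, hwV⟩, hsub⟩ := P O _ hcons ⟨⟨e, heO⟩, he⟩
  obtain ⟨U₁, hU₁, rfl⟩ := isOpen_induced_iff.mp hU
  obtain ⟨V₁, hV₁, rfl⟩ := isOpen_induced_iff.mp hV
  have hwU' : (w : X) ∈ U₁ ∩ O := ⟨hwU, w.2⟩
  obtain ⟨A, hA, hwA, hAU⟩ := TopologicalSpace.Opens.isBasis_iff_nbhd.mp X.isBasis_affineOpens
    (U := ⟨U₁ ∩ O, hU₁.inter hOo⟩) hwU'
  have hWc : IsCompact ((A : Set X) ∩ V₁ᶜ) :=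
    (IsAffineOpen.isCompact hA).inter_right hV₁.isClosed_compl
  haveI : CompactSpace ↥((A : Set X) ∩ V₁ᶜ) := isCompact_iff_compactSpace.mp hWc
  obtain ⟨x, -, hxcl⟩ := (isClosed_univ :
    IsClosed (Set.univ : Set ↥((A : Set X) ∩ V₁ᶜ))).exists_closed_singleton
      ⟨⟨w, hwA, hwV⟩, trivial⟩
  obtain ⟨C, hC, hCx⟩ := isClosed_induced_iff.mp hxcl
  refine ⟨x, ?_, ⟨(A : Set X), V₁ᶜ ∩ C, A.isOpen, hV₁.isClosed_compl.inter hC, ?_⟩⟩
  · have hxA := hAU x.2.1
    exact hsub (a := ⟨x, hxA.2⟩) ⟨hxA.1, x.2.2⟩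
  · ext y
    constructor
    · rintro rfl
      refine ⟨x.2.1, x.2.2, ?_⟩
      have : x ∈ Subtype.val ⁻¹' C := hCx ▸ rfl
      exact this
    · rintro ⟨hyA, hyV, hyC⟩
      have : (⟨y, hyA, hyV⟩ : ↥((A : Set X) ∩ V₁ᶜ)) ∈ Subtype.val ⁻¹' C := hyC
      rw [hCx] at this
      exact congrArg Subtype.val this

end Groth.Agent.S4711
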