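import Groth.Statements.S4712
import Groth.Agent.Lib.helper3.LocClosedPt

set_option autoImplicit false
universe u
open EGA4

namespace Groth.Agent.S4712

open AlgebraicGeometry in
/-- Let X be a locally Noetherian scheme and x a point such that {x} is locally closed in X. Then the
closure of {x} has dimension at most 1, and every point of that closure other than x is a closed
point of X. -/
theorem result (X : Scheme.{u}) [IsLocallyNoetherian X] (x : X)
    (hx : IsLocallyClosed ({x} : Set X)) :
    topologicalKrullDim (closure ({x} : Set X)) ≤ 1 ∧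
      ∀ y ∈ closure ({x} : Set X), y ≠ x → IsClosed ({y} : Set X) := by
  refine ⟨?_, fun y hy hne => H3LCP.closed_of_ne X x hx y hy hne⟩
  haveI : QuasiSober (closure ({x} : Set X)) :=
    (isClosed_closure.isClosedEmbedding_subtypeVal).quasiSober
  rw [topologicalKrullDim, Order.krullDim_le_one_iff]
  intro Z
  by_cases hxZ : (⟨x, subset_closure rfl⟩ : closure ({x} : Set X)) ∈ Z
  · right
    intro Z' _ t _
    have hsp : (⟨x, subset_closure rfl⟩ : closure ({x} : Set X)) ⤳ t :=
      (subtype_specializes_iff _ _).mpr (specializes_iff_mem_closure.mpr t.2)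
    exact hsp.mem_closed Z.isClosed hxZ
  · left
    intro Z' hZ'Z
    have hz : IsGenericPoint Z.isIrreducible.genericPoint (Z : Set _) :=
      Z.isIrreducible.isGenericPoint_genericPoint Z.isClosed
    obtain ⟨z, hzdef⟩ : ∃ z, z = Z.isIrreducible.genericPoint := ⟨_, rfl⟩
    rw [← hzdef] at hz
    have hzne : (z : X) ≠ x := by
      intro h
      apply hxZ
      have hmem : z ∈ Z := hz.mem
      have : z = ⟨x, subset_closure rfl⟩ := Subtype.ext h
      rwa [this] at hmem
    have hzcl : IsClosed ({(z : X)} : Set X) := H3LCP.closed_of_ne X x hx z z.2 hzne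
    have hZeq : (Z : Set (closure ({x} : Set X))) = {z} := by
      rw [← hz.def]
      apply IsClosed.closure_eq
      have := hzcl.preimage
        (continuous_subtype_val : Continuous (Subtype.val : closure ({x} : Set X) → X))
      convert this using 1
      ext t; simp [Subtype.ext_iff]
    intro t ht
    have ht' : t ∈ (Z : Set _) := ht
    rw [hZeq, Set.mem_singleton_iff] at ht'
    obtain ⟨t', ht'mem⟩ := Z'.isIrreducible.nonempty
    have h1 : t' ∈ (Z : Set _) := hZ'Z ht'mem
    rw [hZeq, Set.mem_singleton_iff] at h1
    rw [ht', ← h1]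
    exact ht'mem

end Groth.Agent.S4712
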