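import Groth.Statements.S4713
import Groth.Agent.Lib.helper3.LocClosedPt

set_option autoImplicit false
universe u
open EGA4

namespace Groth.Agent.S4713

open AlgebraicGeometry in
/-- In a locally Noetherian scheme X, every nonempty closed subset contains a closed point of X. -/
theorem result (X : Scheme.{u}) [IsLocallyNoetherian X]
    (Z : Set X) (hZ : IsClosed Z) (hne : Z.Nonempty) : ∃ x ∈ Z, IsClosed ({x} : Set X) := by
  obtain ⟨z₀, hz₀⟩ := hne
  obtain ⟨U, hU, hz₀U, -⟩ := TopologicalSpace.Opens.isBasis_iff_nbhd.mp X.isBasis_affineOpens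
    (show z₀ ∈ (⊤ : X.Opens) from trivial)
  haveI : CompactSpace ↥U := isCompact_iff_compactSpace.mp (IsAffineOpen.isCompact hU)
  have hS : IsClosed ((Subtype.val : ↥U → X) ⁻¹' Z) := hZ.preimage continuous_subtype_val
  obtain ⟨x', hx'S, hx'cl⟩ := hS.exists_closed_singleton ⟨⟨z₀, hz₀U⟩, hz₀⟩
  have hxZ : (x' : X) ∈ Z := hx'S
  have hloc : IsLocallyClosed ({(x' : X)} : Set X) := by
    refine ⟨(U : Set X), closure {(x' : X)}, U.isOpen, isClosed_closure, ?_⟩
    ext y
    simp only [Set.mem_singleton_iff, Set.mem_inter_iff]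
    constructor
    · rintro rfl
      exact ⟨x'.2, subset_closure rfl⟩
    · rintro ⟨hyU, hy⟩
      have hsp : x' ⤳ (⟨y, hyU⟩ : ↥U) :=
        (subtype_specializes_iff _ _).mpr (specializes_iff_mem_closure.mpr hy)
      have := hsp.mem_closed hx'cl rfl
      rw [Set.mem_singleton_iff] at this
      exact congrArg Subtype.val this
  by_cases h : ∃ y ∈ closure ({(x' : X)} : Set X), y ≠ (x' : X)
  · obtain ⟨y, hy, hne⟩ := h
    refine ⟨y, ?_, H3LCP.closed_of_ne X x' hloc y hy hne⟩
    exact hZ.closure_subset_iff.mpr (Set.singleton_subset_iff.mpr hxZ) hy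
  · push_neg at h
    refine ⟨x', hxZ, ?_⟩
    rw [← closure_eq_iff_isClosed]
    apply Set.Subset.antisymm
    · intro y hy; exact h y hy
    · exact subset_closure

end Groth.Agent.S4713
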