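import Groth.Statements.S4729
import Mathlib
import Groth.Agent.Lib.helper3.SuppLoc

set_option autoImplicit false
universe u
open EGA4

namespace Groth.Agent.S4729

/-- Let A be a commutative ring, M a finite A-module and p ⊆ q prime ideals of A (so that p is a
generization of q). Then the dimension of the A_p-module M_p is at most the dimension of the
A_q-module M_q. -/
theorem result (A : Type u) [CommRing A] (M : Type u) [AddCommGroup M] [Module A M]
    [Module.Finite A M] (p q : Ideal A) [p.IsPrime] [q.IsPrime] (hpq : p ≤ q) :
    Module.supportDim (Localization.AtPrime p) (LocalizedModule p.primeCompl M) ≤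
      Module.supportDim (Localization.AtPrime q) (LocalizedModule q.primeCompl M) := by
  classical
  unfold Module.supportDim
  have hdisj : ∀ P : Ideal A, P ≤ q → Disjoint (q.primeCompl : Set A) (P : Set A) :=
    fun P hP => Set.disjoint_left.2 fun x hx hxP => hx (hP hxP)
  let F : PrimeSpectrum (Localization.AtPrime p) → PrimeSpectrum (Localization.AtPrime q) :=
    fun P' =>
    ⟨Ideal.map (algebraMap A (Localization.AtPrime q))
        (P'.asIdeal.comap (algebraMap A (Localization.AtPrime p))),
      IsLocalization.isPrime_of_isPrime_disjoint q.primeCompl _ _ (Ideal.comap_isPrime _ _)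
        (hdisj _ ((H3SuppLoc.under_le p P').trans hpq))⟩
  have hF : ∀ P', PrimeSpectrum.comap (algebraMap A (Localization.AtPrime q)) (F P') =
      PrimeSpectrum.comap (algebraMap A (Localization.AtPrime p)) P' := fun P' =>
    PrimeSpectrum.ext (IsLocalization.under_map_of_isPrime_disjoint q.primeCompl _
      (Ideal.comap_isPrime _ _) (hdisj _ ((H3SuppLoc.under_le p P').trans hpq)))
  have hFmem : ∀ P', P' ∈ Module.support (Localization.AtPrime p)
      (LocalizedModule p.primeCompl M) →
      F P' ∈ Module.support (Localization.AtPrime q) (LocalizedModule q.primeCompl M) :=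
    fun P' h => by
      rw [H3SuppLoc.supp_loc, hF]
      exact (H3SuppLoc.supp_loc M p P').1 h
  have hFmono : ∀ P₁ P₂ : PrimeSpectrum (Localization.AtPrime p), P₁ < P₂ → F P₁ < F P₂ := by
    intro P₁ P₂ h
    refine lt_of_le_of_ne ?_ ?_
    · exact Ideal.map_mono (Ideal.comap_mono h.le)
    · intro heq
      have h1 := congrArg (PrimeSpectrum.comap (algebraMap A (Localization.AtPrime q))) heq
      rw [hF, hF] at h1
      exact h.ne (H3SuppLoc.comap_injective p P₁ P₂ h1)
  exact Order.krullDim_le_of_strictMono (fun P' => ⟨F P'.1, hFmem P'.1 P'.2⟩)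
    (fun a b hab => hFmono a.1 b.1 hab)

end Groth.Agent.S4729
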