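import Groth.Statements.S4730
import Mathlib
import Groth.Agent.Lib.helper3.PolyHeight

set_option autoImplicit false
universe u
open EGA4

namespace Groth.Agent.S4730

open Polynomial in
/-- Let A be a Noetherian ring, p a prime ideal of A and q a prime ideal of the polynomial ring A[T]
lying over p. Then ht(p) + 1 = ht(q) + deg.tr_{κ(p)} κ(q), the transcendence degree being that of
the domain A[T]/q over the domain A/p. -/
theorem result (A : Type u) [CommRing A] [IsNoetherianRing A]
    (p : Ideal A) [p.IsPrime] (q : Ideal A[X]) [q.IsPrime] [q.LiesOver p] :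
    (p.height : Cardinal.{u}) + 1 = (q.height : Cardinal.{u}) + Algebra.trdeg (A ⧸ p) (A[X] ⧸ q) := by
  classical
  rcases eq_or_ne q (p.map (Polynomial.C : A →+* A[X])) with hq | hne
  · subst hq
    rw [H3PolyHeight.height_map_C p]
    congr 1
    -- trdeg = 1
    let e0 := Ideal.polynomialQuotientEquivQuotientPolynomial p
    let e : (A ⧸ p)[X] ≃ₐ[A ⧸ p] (A[X] ⧸ p.map (Polynomial.C : A →+* A[X])) :=
      AlgEquiv.ofRingEquiv (f := e0) (by
        intro x
        obtain ⟨a, rfl⟩ := Ideal.Quotient.mk_surjective x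
        rw [Ideal.Quotient.algebraMap_mk_of_liesOver, Polynomial.algebraMap_eq,
          Polynomial.algebraMap_eq]
        have h1 : (Polynomial.C (Ideal.Quotient.mk p a) : (A ⧸ p)[X]) =
            (Polynomial.C a : A[X]).map (Ideal.Quotient.mk p) := by
          rw [Polynomial.map_C]
        rw [h1]
        exact Ideal.polynomialQuotientEquivQuotientPolynomial_map_mk p (Polynomial.C a))
    rw [← e.trdeg_eq, Polynomial.trdeg_of_isDomain]
  · rw [H3PolyHeight.height_eq_height_add_one p q hne]
    have hle : p.map (Polynomial.C : A →+* A[X]) ≤ q := H3PolyHeight.map_C_le p q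
    have hnle : ¬ q ≤ p.map (Polynomial.C : A →+* A[X]) := fun h => hne (le_antisymm h hle)
    obtain ⟨f, hfq, hfp⟩ := Set.not_subset.1 hnle
    set Xb : A[X] ⧸ q := Ideal.Quotient.mk q Polynomial.X with hXb
    have hmk : ∀ g : A[X], Polynomial.aeval Xb (g.map (Ideal.Quotient.mk p)) =
        Ideal.Quotient.mk q g := by
      intro g
      have h1 : g.map (Ideal.Quotient.mk p) = g.map (algebraMap A (A ⧸ p)) := rfl
      rw [h1, Polynomial.aeval_map_algebraMap]
      have h2 : Polynomial.aeval ((Ideal.Quotient.mkₐ A q) Polynomial.X) g =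
          (Ideal.Quotient.mkₐ A q) (Polynomial.aeval Polynomial.X g) :=
        Polynomial.aeval_algHom_apply _ _ _
      rw [Polynomial.aeval_X_left_apply] at h2
      exact h2
    have hXalg : IsAlgebraic (A ⧸ p) Xb := by
      refine ⟨f.map (Ideal.Quotient.mk p), ?_, ?_⟩
      · intro h0
        apply hfp
        rw [SetLike.mem_coe, Ideal.mem_map_C_iff]
        intro n
        have := congrArg (fun g => Polynomial.coeff g n) h0
        simp only [Polynomial.coeff_map, Polynomial.coeff_zero] at this
        exact Ideal.Quotient.eq_zero_iff_mem.1 this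
      · rw [hmk]
        exact Ideal.Quotient.eq_zero_iff_mem.2 hfq
    have hadj : ∀ g : A[X], Ideal.Quotient.mk q g ∈ Algebra.adjoin (A ⧸ p) ({Xb} : Set (A[X] ⧸ q)) := by
      intro g
      rw [← hmk]
      exact Polynomial.aeval_mem_adjoin_singleton _ _
    have halg : (Algebra.adjoin (A ⧸ p) ({Xb} : Set (A[X] ⧸ q))).IsAlgebraic :=
      Algebra.isAlgebraic_adjoin_singleton_iff.mpr hXalg
    haveI : Algebra.IsAlgebraic (A ⧸ p) (A[X] ⧸ q) := ⟨fun x => by
      obtain ⟨g, rfl⟩ := Ideal.Quotient.mk_surjective x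
      exact halg _ (hadj g)⟩
    rw [trdeg_eq_zero, add_zero]
    simp

end Groth.Agent.S4730
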