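import Groth.Statements.S4731
-- import your own Groth.Agent.* helpers here

set_option autoImplicit false
universe u
open EGA4

namespace Groth.Agent.S4731

/-- Let S → R be an injective homomorphism of commutative rings making R a finite S-module, with R
Noetherian; let c be the conductor of S in R, the ideal of those s in S with s R contained in (the
image of) S. If S/c is Noetherian, then every increasing sequence of ideals of S contained in c is
eventually constant. -/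
theorem result (S R : Type u) [CommRing S] [CommRing R] [Algebra S R]
    [FaithfulSMul S R] [IsNoetherianRing R] [Module.Finite S R] (c : Ideal S)
    (hc : ∀ s : S, s ∈ c ↔ ∀ r : R, ∃ s' : S, algebraMap S R s' = algebraMap S R s * r)
    [IsNoetherianRing (S ⧸ c)] (a : ℕ →o Ideal S) (ha : ∀ n, a n ≤ c) :
    ∃ N : ℕ, ∀ n, N ≤ n → a n = a N := by
  classical
  have hinj : Function.Injective (algebraMap S R) := FaithfulSMul.algebraMap_injective S R
  have transfer : ∀ (Q : Type u) [AddCommGroup Q] [Module S Q] [Module (S ⧸ c) Q]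
      [IsScalarTower S (S ⧸ c) Q] [IsNoetherian (S ⧸ c) Q], IsNoetherian S Q := by
    intro Q _ _ _ _ _
    refine ⟨fun P => ?_⟩
    let P' : Submodule (S ⧸ c) Q :=
      { carrier := P
        add_mem' := fun h1 h2 => P.add_mem h1 h2
        zero_mem' := P.zero_mem
        smul_mem' := by
          intro r x hx
          obtain ⟨s, rfl⟩ := Ideal.Quotient.mk_surjective r
          have e : (Ideal.Quotient.mk c s) • x = s • x := algebraMap_smul (S ⧸ c) s x
          show (Ideal.Quotient.mk c s) • x ∈ (P : Set Q)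
          rw [e]
          exact P.smul_mem s hx }
    have hfg : P'.FG := IsNoetherian.noetherian P'
    have hP : P'.restrictScalars S = P := by
      ext y; rfl
    rw [← hP]
    exact Submodule.FG.restrictScalars_of_surjective hfg
      (by rw [Ideal.Quotient.algebraMap_eq]; exact Ideal.Quotient.mk_surjective)
  obtain ⟨N₁, hN₁⟩ := (monotone_stabilizes_iff_noetherian (R := R) (M := R)).mpr inferInstance
    ⟨fun n => Ideal.map (algebraMap S R) (a n), fun i j hij => Ideal.map_mono (a.monotone hij)⟩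
  replace hN₁ : ∀ m, N₁ ≤ m →
      Ideal.map (algebraMap S R) (a N₁) = Ideal.map (algebraMap S R) (a m) := hN₁
  have hcR : ∀ s₀ ∈ c, ∀ r : R, ∃ s'' ∈ c, algebraMap S R s'' = algebraMap S R s₀ * r := by
    intro s₀ hs₀ r
    obtain ⟨s'', hs''⟩ := (hc s₀).mp hs₀ r
    refine ⟨s'', (hc s'').mpr fun r' => ?_, hs''⟩
    obtain ⟨s3, hs3⟩ := (hc s₀).mp hs₀ (r * r')
    exact ⟨s3, by rw [hs3, hs'', mul_assoc]⟩
  have key : ∀ t ∈ Ideal.map (algebraMap S R) (a N₁), ∀ s₀ ∈ c,
      ∃ s' ∈ a N₁, algebraMap S R s' = algebraMap S R s₀ * t := by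
    intro t ht
    have ht' : t ∈ Submodule.span R ((algebraMap S R) '' (a N₁ : Set S)) := ht
    refine Submodule.span_induction (p := fun t _ => ∀ s₀ ∈ c,
      ∃ s' ∈ a N₁, algebraMap S R s' = algebraMap S R s₀ * t) ?_ ?_ ?_ ?_ ht'
    · rintro _ ⟨s₁, hs₁, rfl⟩ s₀ hs₀
      exact ⟨s₀ * s₁, (a N₁).mul_mem_left _ hs₁, map_mul _ _ _⟩
    · intro s₀ _
      exact ⟨0, (a N₁).zero_mem, by simp⟩
    · intro t₁ t₂ _ _ h₁ h₂ s₀ hs₀
      obtain ⟨s₁, hs₁, e₁⟩ := h₁ s₀ hs₀
      obtain ⟨s₂, hs₂, e₂⟩ := h₂ s₀ hs₀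
      exact ⟨s₁ + s₂, (a N₁).add_mem hs₁ hs₂, by rw [map_add, e₁, e₂, mul_add]⟩
    · intro r t _ h s₀ hs₀
      obtain ⟨s'', hs''c, e''⟩ := hcR s₀ hs₀ r
      obtain ⟨s', hs', e'⟩ := h s'' hs''c
      exact ⟨s', hs', by rw [e', e'', smul_eq_mul, mul_assoc]⟩
  generalize hb : Ideal.map (algebraMap S R) (a N₁) = b at hN₁ key
  haveI : Module.Finite R ↥b := Module.Finite.iff_fg.mpr (IsNoetherian.noetherian b)
  haveI : Module.Finite S ↥b := Module.Finite.trans R ↥b
  haveI : IsScalarTower S (S ⧸ c) (↥b ⧸ c • (⊤ : Submodule S ↥b)) := inferInstance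
  haveI hQfin : Module.Finite (S ⧸ c) (↥b ⧸ c • (⊤ : Submodule S ↥b)) :=
    Module.Finite.of_restrictScalars_finite S (S ⧸ c) _
  haveI : IsNoetherian S (↥b ⧸ c • (⊤ : Submodule S ↥b)) := transfer _
  let ι : ↥b →ₗ[S] R := (Submodule.subtype b).restrictScalars S
  let P : ℕ → Submodule S ↥b := fun n =>
    Submodule.comap ι (Submodule.map (Algebra.linearMap S R) (a n))
  have hPmem : ∀ n (t : ↥b), t ∈ P n ↔ ∃ s ∈ a n, algebraMap S R s = (t : R) :=
    fun n t => Iff.rfl
  have hPmono : ∀ i j, i ≤ j → P i ≤ P j := fun i j hij =>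
    Submodule.comap_mono (Submodule.map_mono (a.monotone hij))
  have hWP : c • (⊤ : Submodule S ↥b) ≤ P N₁ := by
    rw [Submodule.smul_le]
    intro s₀ hs₀ t _
    obtain ⟨s', hs', e⟩ := key t.1 t.2 s₀ hs₀
    refine (hPmem N₁ _).mpr ⟨s', hs', ?_⟩
    rw [e]
    show _ = s₀ • (t : R)
    rw [Algebra.smul_def]
  obtain ⟨N₂, hN₂⟩ := (monotone_stabilizes_iff_noetherian (R := S)
      (M := ↥b ⧸ c • (⊤ : Submodule S ↥b))).mpr inferInstance
    ⟨fun n => Submodule.map (c • (⊤ : Submodule S ↥b)).mkQ (P n),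
      fun i j hij => Submodule.map_mono (hPmono i j hij)⟩
  replace hN₂ : ∀ m, N₂ ≤ m → Submodule.map (c • (⊤ : Submodule S ↥b)).mkQ (P N₂) =
      Submodule.map (c • (⊤ : Submodule S ↥b)).mkQ (P m) := hN₂
  refine ⟨max N₁ N₂, fun n hn => le_antisymm ?_ (a.monotone hn)⟩
  intro s hs
  have hn1 : N₁ ≤ n := le_trans (le_max_left _ _) hn
  have hn2 : N₂ ≤ n := le_trans (le_max_right _ _) hn
  have hmem : algebraMap S R s ∈ b := by
    rw [hN₁ n hn1]
    exact Ideal.mem_map_of_mem _ hs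
  have htP : (⟨algebraMap S R s, hmem⟩ : ↥b) ∈ P n := (hPmem n _).mpr ⟨s, hs, rfl⟩
  have h1 : (c • (⊤ : Submodule S ↥b)).mkQ (⟨algebraMap S R s, hmem⟩ : ↥b) ∈
      Submodule.map (c • (⊤ : Submodule S ↥b)).mkQ (P n) := Submodule.mem_map_of_mem htP
  rw [← hN₂ n hn2] at h1
  obtain ⟨t', ht', e⟩ := Submodule.mem_map.mp h1
  have ht'N : t' ∈ P (max N₁ N₂) := hPmono _ _ (le_max_right _ _) ht'
  have hsub : t' - (⟨algebraMap S R s, hmem⟩ : ↥b) ∈ c • (⊤ : Submodule S ↥b) :=
    (Submodule.Quotient.eq _).mp e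
  have hsubP : t' - (⟨algebraMap S R s, hmem⟩ : ↥b) ∈ P (max N₁ N₂) :=
    hPmono _ _ (le_max_left _ _) (hWP hsub)
  have htN : (⟨algebraMap S R s, hmem⟩ : ↥b) ∈ P (max N₁ N₂) := by
    have := (P (max N₁ N₂)).sub_mem ht'N hsubP
    rwa [sub_sub_cancel] at this
  obtain ⟨s', hs', e'⟩ := (hPmem _ _).mp htN
  have e'' : algebraMap S R s' = algebraMap S R s := e'
  have : s' = s := hinj e''
  rw [← this]
  exact hs'

end Groth.Agent.S4731
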