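import Groth.Statements.S4759
import Mathlib

set_option autoImplicit false
universe u
open CategoryTheory AlgebraicGeometry
open Lim8

namespace Groth.Agent.S4759

/-- Let S = lim S_i be a cofiltered limit of schemes with affine transition maps, some stage S_{i₀}
being quasi-compact and quasi-separated. Then every constructible subset Z of S is the preimage
under the projection S ⟶ S_i of a constructible subset of S_i, for some index i over i₀. -/
theorem result {I : Type u} [SmallCategory I] [IsCofiltered I]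
    (D : I ⥤ Scheme.{u}) (c : Limits.Cone D) (hc : Limits.IsLimit c)
    [∀ (i j : I) (f : i ⟶ j), IsAffineHom (D.map f)] (i₀ : I) [CompactSpace (D.obj i₀)]
    [QuasiSeparatedSpace (D.obj i₀)] (Z : Set c.pt) (hZ : Topology.IsConstructible Z) :
    ∃ (i : I) (_ : i ⟶ i₀) (Zi : Set (D.obj i)),
      Topology.IsConstructible Zi ∧ (⇑(c.π.app i) ⁻¹' Zi : Set c.pt) = Z := by
  classical
  haveI hπaff : ∀ i, IsAffineHom (c.π.app i) := fun i => isAffineHom_π_app D c hc i
  haveI : CompactSpace c.pt := QuasiCompact.compactSpace_of_compactSpace (c.π.app i₀)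
  have hQS : ∀ (j : I) (f : j ⟶ i₀), QuasiSeparatedSpace (D.obj j) := fun j f =>
    quasiSeparatedSpace_of_quasiSeparated (D.map f)
  have hpre : ∀ {i j : I} (g : j ⟶ i) (S : Set (D.obj i)),
      (⇑(c.π.app j) ⁻¹' (⇑(D.map g) ⁻¹' S) : Set c.pt) = ⇑(c.π.app i) ⁻¹' S := by
    intro i j g S
    have h1 : c.π.app j ≫ D.map g = c.π.app i := c.w g
    ext x
    simp only [Set.mem_preimage]
    rw [← Scheme.Hom.comp_apply, h1]
  induction hZ using Topology.IsConstructible.empty_union_induction with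
  | open_retrocompact U hUopen hUcomp =>
    obtain ⟨i, V, hVc, hVU⟩ := exists_preimage_eq D c hc ⟨U, hUopen⟩ hUcomp.isCompact
    obtain ⟨j, g, f, -⟩ : ∃ (j : I) (g : j ⟶ i) (f : j ⟶ i₀), True :=
      ⟨IsCofiltered.min i i₀, IsCofiltered.minToLeft i i₀, IsCofiltered.minToRight i i₀, trivial⟩
    haveI := hQS j f
    refine ⟨j, f, ⇑(D.map g) ⁻¹' (V : Set (D.obj i)), ?_, ?_⟩
    · exact IsCompact.isConstructible
        (QuasiCompact.isCompact_preimage (f := D.map g) _ V.2 hVc)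
        (V.2.preimage (D.map g).continuous)
    · rw [hpre]
      have := congrArg (fun W : c.pt.Opens => (W : Set c.pt)) hVU
      exact this
  | union s hs t ht hs' ht' =>
    obtain ⟨i₁, f₁, Z₁, hZ₁, rfl⟩ := hs'
    obtain ⟨i₂, f₂, Z₂, hZ₂, rfl⟩ := ht'
    obtain ⟨j, g₁, g₂, -⟩ : ∃ (j : I) (g₁ : j ⟶ i₁) (g₂ : j ⟶ i₂), True :=
      ⟨IsCofiltered.min i₁ i₂, IsCofiltered.minToLeft i₁ i₂, IsCofiltered.minToRight i₁ i₂, trivial⟩
    refine ⟨j, g₁ ≫ f₁, ⇑(D.map g₁) ⁻¹' Z₁ ∪ ⇑(D.map g₂) ⁻¹' Z₂, ?_, ?_⟩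
    · exact ((D.map g₁).isConstructible_preimage hZ₁).union
        ((D.map g₂).isConstructible_preimage hZ₂)
    · rw [Set.preimage_union, hpre, hpre]
  | compl s hs hs' =>
    obtain ⟨i, f, Zi, hZi, rfl⟩ := hs'
    exact ⟨i, f, Ziᶜ, hZi.compl, Set.preimage_compl⟩

end Groth.Agent.S4759
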