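import Groth.Statements.S4834
import Mathlib

set_option autoImplicit false
open CategoryTheory CategoryTheory.Limits
universe u
open Lim8

namespace Groth.Agent.S4834

/-- Let A be a commutative ring, M an A-module of finite type and (N_λ) an inductive system of A-modules
indexed by a nonempty directed preordered set. Then the canonical map colim_λ Hom_A(M, N_λ) →
Hom_A(M, colim_λ N_λ), sending a compatible system of homomorphisms to its inductive limit, is
injective. This is the finite type case, in the form its proof gives. -/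
theorem result {A : Type u} [CommRing A] (M : ModuleCat.{u} A)
    [Module.Finite A M] {J : Type u} [Preorder J] [IsDirected J (· ≤ ·)] [Nonempty J]
    (N : J ⥤ ModuleCat.{u} A) :
    Function.Injective (colimit.post N (coyoneda.obj (Opposite.op M))) := by
  classical
  have : PreservesColimitsOfShape J (forget (ModuleCat.{u} A)) :=
    PreservesFilteredColimitsOfSize.preserves_filtered_colimits J
  intro x y hxy
  obtain ⟨j₁, φ₁, rfl⟩ := Types.jointly_surjective' x
  obtain ⟨j₂, φ₂, rfl⟩ := Types.jointly_surjective' y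
  have e1 : ∀ (j : J) (φ : (N ⋙ coyoneda.obj (Opposite.op M)).obj j),
      colimit.post N (coyoneda.obj (Opposite.op M))
        (colimit.ι (N ⋙ coyoneda.obj (Opposite.op M)) j φ)
        = (coyoneda.obj (Opposite.op M)).map (colimit.ι N j) φ := fun j φ =>
    ConcreteCategory.congr_hom (colimit.ι_post N (coyoneda.obj (Opposite.op M)) j) φ
  rw [e1, e1] at hxy
  have hxy' : (φ₁ : M ⟶ N.obj j₁) ≫ colimit.ι N j₁ = (φ₂ : M ⟶ N.obj j₂) ≫ colimit.ι N j₂ := hxy
  let j := IsFiltered.max j₁ j₂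
  let ψ₁ : M ⟶ N.obj j := (φ₁ : M ⟶ N.obj j₁) ≫ N.map (IsFiltered.leftToMax j₁ j₂)
  let ψ₂ : M ⟶ N.obj j := (φ₂ : M ⟶ N.obj j₂) ≫ N.map (IsFiltered.rightToMax j₁ j₂)
  have hψ : ψ₁ ≫ colimit.ι N j = ψ₂ ≫ colimit.ι N j := by
    simp only [ψ₁, ψ₂, Category.assoc, colimit.w]
    exact hxy'
  have hpt : ∀ m : M, ∃ (k : J) (f : j ⟶ k), N.map f (ψ₁ m) = N.map f (ψ₂ m) := by
    intro m
    have hm : colimit.ι N j (ψ₁ m) = colimit.ι N j (ψ₂ m) := ConcreteCategory.congr_hom hψ m
    obtain ⟨k, f, g, hfg⟩ := Concrete.colimit_exists_of_rep_eq N (ψ₁ m) (ψ₂ m) hm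
    have hgf : g = f := Subsingleton.elim _ _
    subst hgf
    exact ⟨k, g, hfg⟩
  obtain ⟨s, hs⟩ := (Module.Finite.fg_top : (⊤ : Submodule A M).FG)
  have hfin : ∀ t : Finset M, ∃ (k : J) (f : j ⟶ k),
      ∀ m ∈ t, N.map f (ψ₁ m) = N.map f (ψ₂ m) := by
    intro t
    induction t using Finset.induction_on with
    | empty => exact ⟨j, 𝟙 j, by simp⟩
    | insert a t _ ih =>
      obtain ⟨k, f, hk⟩ := ih
      obtain ⟨k', f', hk'⟩ := hpt a
      refine ⟨IsFiltered.max k k', f ≫ IsFiltered.leftToMax k k', ?_⟩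
      intro m hm
      rcases Finset.mem_insert.mp hm with rfl | hm
      · have h0 : f ≫ IsFiltered.leftToMax k k' = f' ≫ IsFiltered.rightToMax k k' :=
          Subsingleton.elim _ _
        rw [h0]
        have h1 := congrArg (fun z => N.map (IsFiltered.rightToMax k k') z) hk'
        simpa using h1
      · have h1 := congrArg (fun z => N.map (IsFiltered.leftToMax k k') z) (hk m hm)
        simpa using h1
  obtain ⟨k, f, hk⟩ := hfin s
  have heq : ψ₁ ≫ N.map f = ψ₂ ≫ N.map f :=
    ModuleCat.hom_ext (LinearMap.ext_on hs (fun m hm => hk m hm))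
  refine Types.colimit_sound' (IsFiltered.leftToMax j₁ j₂ ≫ f) (IsFiltered.rightToMax j₁ j₂ ≫ f) ?_
  show (φ₁ : M ⟶ N.obj j₁) ≫ N.map (IsFiltered.leftToMax j₁ j₂ ≫ f) =
    (φ₂ : M ⟶ N.obj j₂) ≫ N.map (IsFiltered.rightToMax j₁ j₂ ≫ f)
  rw [Functor.map_comp, Functor.map_comp, ← Category.assoc, ← Category.assoc]
  exact heq

end Groth.Agent.S4834
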