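import Groth.Statements.S4835
import Mathlib
import Groth.Agent.S4834

set_option autoImplicit false
open CategoryTheory CategoryTheory.Limits
universe u
open Lim8

namespace Groth.Agent.S4835

/-- Let A be a commutative ring, M an A-module of finite presentation and (N_λ) an inductive system of
A-modules indexed by a nonempty directed preordered set. Then the canonical map colim_λ Hom_A(M,
N_λ) → Hom_A(M, colim_λ N_λ), sending a compatible system of homomorphisms to its inductive limit,
is bijective. This is the form established in the source's proof (finite presentation case). -/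
theorem result {A : Type u} [CommRing A] (M : ModuleCat.{u} A)
    [Module.FinitePresentation A M] {J : Type u} [Preorder J] [IsDirected J (· ≤ ·)] [Nonempty J]
    (N : J ⥤ ModuleCat.{u} A) :
    Function.Bijective (colimit.post N (coyoneda.obj (Opposite.op M))) := by
  classical
  refine ⟨Groth.Agent.S4834.result M N, ?_⟩
  have : PreservesColimitsOfShape J (forget (ModuleCat.{u} A)) :=
    PreservesFilteredColimitsOfSize.preserves_filtered_colimits J
  intro φ₀
  obtain ⟨φ, rfl⟩ : ∃ φ' : M ⟶ colimit N, φ' = φ₀ := ⟨φ₀, rfl⟩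
  obtain ⟨n, m, f, g, hf, hfg⟩ := Module.FinitePresentation.exists_fin' A M
  have hrep : ∀ i : Fin n, ∃ (j : J) (y : N.obj j),
      colimit.ι N j y = φ (f (Pi.single i 1)) :=
    fun i => Concrete.colimit_exists_rep N _
  choose jj yy hyy using hrep
  obtain ⟨j₀, hj₀⟩ := Finset.exists_le (Finset.univ.image jj)
  have hle : ∀ i, jj i ≤ j₀ := fun i => hj₀ _ (Finset.mem_image_of_mem _ (Finset.mem_univ i))
  let y : Fin n → N.obj j₀ := fun i => N.map (homOfLE (hle i)) (yy i)
  have hy : ∀ i, colimit.ι N j₀ (y i) = φ (f (Pi.single i 1)) := by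
    intro i
    rw [← hyy i]
    exact ConcreteCategory.congr_hom (colimit.w N (homOfLE (hle i))) (yy i)
  let F₀ : (Fin n → A) →ₗ[A] N.obj j₀ := Fintype.linearCombination A y
  have hF₀ : ∀ v, colimit.ι N j₀ (F₀ v) = φ (f v) := by
    intro v
    have : (colimit.ι N j₀).hom ∘ₗ F₀ = φ.hom ∘ₗ f := by
      apply LinearMap.pi_ext
      intro i a
      show colimit.ι N j₀ (F₀ (Pi.single i a)) = φ (f (Pi.single i a))
      have h1 : (Pi.single i a : Fin n → A) = a • Pi.single i 1 := by
        rw [← Pi.single_smul, smul_eq_mul, mul_one]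
      rw [h1, map_smul, map_smul, map_smul, map_smul]
      congr 1
      rw [Fintype.linearCombination_apply_single, one_smul]
      exact hy i
    exact LinearMap.congr_fun this v
  have hz : ∀ l : Fin m, ∃ (k : J) (h : j₀ ≤ k),
      N.map (homOfLE h) (F₀ (g (Pi.single l 1))) = 0 := by
    intro l
    have h0 : colimit.ι N j₀ (F₀ (g (Pi.single l 1))) = colimit.ι N j₀ (0 : N.obj j₀) := by
      rw [hF₀, hfg.apply_apply_eq_zero]
      simp only [map_zero]
    obtain ⟨k, a, b, hab⟩ := Concrete.colimit_exists_of_rep_eq N _ _ h0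
    refine ⟨k, leOfHom a, ?_⟩
    have : homOfLE (leOfHom a) = a := Subsingleton.elim _ _
    rw [this, hab, map_zero]
  choose kk hkk hzz using hz
  obtain ⟨k, hk⟩ := Finset.exists_le (insert j₀ (Finset.univ.image kk))
  have hj₀k : j₀ ≤ k := hk _ (Finset.mem_insert_self _ _)
  have hkl : ∀ l, kk l ≤ k := fun l =>
    hk _ (Finset.mem_insert_of_mem (Finset.mem_image_of_mem _ (Finset.mem_univ l)))
  let Fk : (Fin n → A) →ₗ[A] N.obj k := (N.map (homOfLE hj₀k)).hom ∘ₗ F₀
  have hFk : ∀ l, Fk (g (Pi.single l 1)) = 0 := by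
    intro l
    have h2 : homOfLE hj₀k = homOfLE (hkk l) ≫ homOfLE (hkl l) := Subsingleton.elim _ _
    show N.map (homOfLE hj₀k) (F₀ (g (Pi.single l 1))) = 0
    rw [h2, Functor.map_comp]
    show N.map (homOfLE (hkl l)) (N.map (homOfLE (hkk l)) (F₀ (g (Pi.single l 1)))) = 0
    rw [hzz l, map_zero]
  have hFkg : Fk ∘ₗ g = 0 := by
    apply LinearMap.pi_ext
    intro l a
    have h1 : (Pi.single l a : Fin m → A) = a • Pi.single l 1 := by
      rw [← Pi.single_smul, smul_eq_mul, mul_one]
    rw [h1, map_smul, LinearMap.comp_apply, hFk l, smul_zero, LinearMap.zero_apply]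
  have hker : LinearMap.ker f ≤ LinearMap.ker Fk := by
    intro v hv
    obtain ⟨w, rfl⟩ := (hfg v).mp hv
    exact LinearMap.congr_fun hFkg w
  let ψ : M →ₗ[A] N.obj k := ((LinearMap.ker f).liftQ Fk hker) ∘ₗ
    (f.quotKerEquivOfSurjective hf).symm.toLinearMap
  have hψ : ∀ v, ψ (f v) = Fk v := by
    intro v
    have h3 : (f.quotKerEquivOfSurjective hf).symm (f v) = Submodule.Quotient.mk v := by
      rw [LinearEquiv.symm_apply_eq]
      simp
    show ((LinearMap.ker f).liftQ Fk hker) ((f.quotKerEquivOfSurjective hf).symm (f v)) = Fk v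
    rw [h3, Submodule.liftQ_apply]
  refine ⟨colimit.ι (N ⋙ coyoneda.obj (Opposite.op M)) k (ModuleCat.ofHom ψ), ?_⟩
  have e1 := ConcreteCategory.congr_hom (colimit.ι_post N (coyoneda.obj (Opposite.op M)) k)
    (ModuleCat.ofHom ψ)
  refine e1.trans ?_
  show (ModuleCat.ofHom ψ : M ⟶ N.obj k) ≫ colimit.ι N k = φ
  apply ModuleCat.hom_ext
  refine (LinearMap.cancel_right hf).mp (LinearMap.ext fun v => ?_)
  show colimit.ι N k (ψ (f v)) = φ (f v)
  rw [hψ, ← hF₀]
  exact ConcreteCategory.congr_hom (colimit.w N (homOfLE hj₀k)) (F₀ v)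

end Groth.Agent.S4835
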