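import Groth.Statements.S4859
import Mathlib

set_option autoImplicit false
universe u
open EGA43

namespace Groth.Agent.S4859

/-- Conditions a), a′), b) (quasi-homeomorphisms): for a continuous map f : X₀ → X the following are
equivalent: taking preimages is a bijection from the open subsets of X onto the open subsets of X₀;
taking preimages is a bijection from the closed subsets of X onto the closed subsets of X₀; the
topology of X₀ is induced from X through f and the image f(X₀) is very dense in X, in the sense that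
two open subsets of X with the same trace on f(X₀) coincide. -/
theorem result {X₀ X : Type u} [TopologicalSpace X₀] [TopologicalSpace X]
    (f : X₀ → X) (hf : Continuous f) :
    [Function.Bijective (fun U : TopologicalSpace.Opens X =>
        (⟨f ⁻¹' (U : Set X), U.isOpen.preimage hf⟩ : TopologicalSpace.Opens X₀)),
      Function.Bijective (fun F : TopologicalSpace.Closeds X =>
        (⟨f ⁻¹' (F : Set X), F.isClosed.preimage hf⟩ : TopologicalSpace.Closeds X₀)),
      Topology.IsInducing f ∧
        ∀ U V : Set X, IsOpen U → IsOpen V → U ∩ Set.range f = V ∩ Set.range f → U = V].TFAE := by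
  tfae_have 1 → 2 := by
    rintro ⟨hinj, hsurj⟩
    constructor
    · intro F F' e
      have e' : f ⁻¹' (F : Set X) = f ⁻¹' (F' : Set X) :=
        congrArg (fun G : TopologicalSpace.Closeds X₀ => (G : Set X₀)) e
      have := @hinj ⟨(F : Set X)ᶜ, F.isClosed.isOpen_compl⟩ ⟨(F' : Set X)ᶜ, F'.isClosed.isOpen_compl⟩ (by
        apply TopologicalSpace.Opens.ext
        show f ⁻¹' (F : Set X)ᶜ = f ⁻¹' (F' : Set X)ᶜ
        rw [Set.preimage_compl, Set.preimage_compl, e'])
      apply TopologicalSpace.Closeds.ext
      have h2 : (F : Set X)ᶜ = (F' : Set X)ᶜ :=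
        congrArg (fun G : TopologicalSpace.Opens X => (G : Set X)) this
      exact compl_injective h2
    · intro G
      obtain ⟨U, hU⟩ := hsurj ⟨(G : Set X₀)ᶜ, G.isClosed.isOpen_compl⟩
      refine ⟨⟨(U : Set X)ᶜ, U.isOpen.isClosed_compl⟩, ?_⟩
      apply TopologicalSpace.Closeds.ext
      show f ⁻¹' (U : Set X)ᶜ = (G : Set X₀)
      have hU' : f ⁻¹' (U : Set X) = (G : Set X₀)ᶜ :=
        congrArg (fun G : TopologicalSpace.Opens X₀ => (G : Set X₀)) hU
      rw [Set.preimage_compl, hU', compl_compl]
  tfae_have 2 → 3 := by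
    rintro ⟨hinj, hsurj⟩
    constructor
    · rw [Topology.isInducing_iff]
      refine le_antisymm hf.le_induced (fun V hV => ?_)
      obtain ⟨F, hF⟩ := hsurj ⟨Vᶜ, hV.isClosed_compl⟩
      rw [isOpen_induced_iff]
      refine ⟨(F : Set X)ᶜ, F.isClosed.isOpen_compl, ?_⟩
      have hF' : f ⁻¹' (F : Set X) = Vᶜ :=
        congrArg (fun G : TopologicalSpace.Closeds X₀ => (G : Set X₀)) hF
      rw [Set.preimage_compl, hF', compl_compl]
    · intro U V hU hV e
      have e1 : f ⁻¹' U = f ⁻¹' V := by
        ext x; constructor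
        · intro hx
          have : f x ∈ V ∩ Set.range f := by rw [← e]; exact ⟨hx, x, rfl⟩
          exact this.1
        · intro hx
          have : f x ∈ U ∩ Set.range f := by rw [e]; exact ⟨hx, x, rfl⟩
          exact this.1
      have := @hinj ⟨Uᶜ, hU.isClosed_compl⟩ ⟨Vᶜ, hV.isClosed_compl⟩ (by
        apply TopologicalSpace.Closeds.ext
        show f ⁻¹' Uᶜ = f ⁻¹' Vᶜ
        rw [Set.preimage_compl, Set.preimage_compl, e1])
      have h2 : Uᶜ = Vᶜ := congrArg (fun G : TopologicalSpace.Closeds X => (G : Set X)) this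
      exact compl_injective h2
  tfae_have 3 → 1 := by
    rintro ⟨hind, hsep⟩
    constructor
    · intro U V e
      have e' : f ⁻¹' (U : Set X) = f ⁻¹' (V : Set X) :=
        congrArg (fun G : TopologicalSpace.Opens X₀ => (G : Set X₀)) e
      apply TopologicalSpace.Opens.ext
      apply hsep _ _ U.isOpen V.isOpen
      ext y; constructor
      · rintro ⟨hy, x, rfl⟩
        have : x ∈ f ⁻¹' (V : Set X) := by rw [← e']; exact hy
        exact ⟨this, x, rfl⟩
      · rintro ⟨hy, x, rfl⟩
        have : x ∈ f ⁻¹' (U : Set X) := by rw [e']; exact hy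
        exact ⟨this, x, rfl⟩
    · intro V
      obtain ⟨U, hU, hUV⟩ := hind.isOpen_iff.1 V.isOpen
      exact ⟨⟨U, hU⟩, TopologicalSpace.Opens.ext hUV⟩
  tfae_finish

end Groth.Agent.S4859
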