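import Groth.Statements.S4860
import Mathlib
import Groth.Agent.Lib.helper3.FinSpec

set_option autoImplicit false
universe u
open EGA43

namespace Groth.Agent.S4860

/-- For an integral domain B the following are equivalent: a) the localization B_f is a field for some
nonzero f; b) the fraction field of B is a finitely generated B-algebra; c) there is a field
containing B (an injective algebra map from B) which is a finitely generated B-algebra; d) the
generic point of Spec B is open. -/
theorem result (B : Type u) [CommRing B] [IsDomain B] :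
    [∃ f : B, f ≠ 0 ∧ IsField (Localization.Away f),
      Algebra.FiniteType B (FractionRing B),
      ∃ (K : Type u) (_ : Field K) (_ : Algebra B K), Function.Injective (algebraMap B K) ∧ Algebra.FiniteType B K,
      IsOpen ({⟨⊥, Ideal.bot_prime⟩} : Set (PrimeSpectrum B))].TFAE := by
  classical
  tfae_have 1 → 2 := by
    rintro ⟨f, hf0, hF⟩
    exact H3FinSpec.finiteType_fractionRing_of_isField_away f hf0 hF
  tfae_have 2 → 3 := by
    intro h
    exact ⟨FractionRing B, inferInstance, inferInstance,
      IsFractionRing.injective B (FractionRing B), h⟩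
  tfae_have 3 → 1 := by
    rintro ⟨K, hK, hA, hinj, hft⟩
    exact H3FinSpec.exists_away_isField_of_finiteType_field hinj
  tfae_have 1 → 4 := by
    rintro ⟨f, hf0, hF⟩
    have heq : ({⟨⊥, Ideal.bot_prime⟩} : Set (PrimeSpectrum B)) =
        (PrimeSpectrum.basicOpen f : Set (PrimeSpectrum B)) := by
      ext x
      simp only [Set.mem_singleton_iff, SetLike.mem_coe, PrimeSpectrum.mem_basicOpen]
      constructor
      · rintro rfl
        exact fun h => hf0 h
      · intro hfx
        apply PrimeSpectrum.ext
        by_contra hne
        exact hfx (@H3FinSpec.mem_of_isField_away B _ _ f hf0 hF x.asIdeal x.isPrime hne)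
    rw [heq]
    exact (PrimeSpectrum.basicOpen f).isOpen
  tfae_have 4 → 1 := by
    intro hopen
    obtain ⟨v, ⟨f, rfl⟩, hmem, hsub⟩ :=
      PrimeSpectrum.isTopologicalBasis_basic_opens.exists_subset_of_mem_open
        (Set.mem_singleton (⟨⊥, Ideal.bot_prime⟩ : PrimeSpectrum B)) hopen
    have hf0 : f ≠ 0 := by
      rintro rfl
      exact hmem (zero_mem _)
    refine ⟨f, hf0, H3FinSpec.isField_away_of_forall_mem f hf0 ?_⟩
    intro p hp hp0
    by_contra hfp
    have : (⟨p, hp⟩ : PrimeSpectrum B) ∈ ({⟨⊥, Ideal.bot_prime⟩} : Set (PrimeSpectrum B)) :=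
      hsub hfp
    rw [Set.mem_singleton_iff, PrimeSpectrum.ext_iff] at this
    exact hp0 this
  tfae_finish

end Groth.Agent.S4860
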