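import Groth.Statements.S4861
import Mathlib
import Groth.Agent.Lib.helper3.FinSpec

set_option autoImplicit false
universe u
open EGA43

namespace Groth.Agent.S4861

/-- For a Noetherian integral domain B the following are equivalent (and hence equivalent to: the
fraction field of B is a finitely generated B-algebra; the generic point of Spec B is open): a) the
localization B_f is a field for some nonzero f; e) Spec B is finite; f) B is semi-local (finitely
many maximal ideals) of Krull dimension at most 1. -/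
theorem result (B : Type u) [CommRing B] [IsDomain B]
    [IsNoetherianRing B] :
    [∃ f : B, f ≠ 0 ∧ IsField (Localization.Away f),
      Finite (PrimeSpectrum B),
      Finite (MaximalSpectrum B) ∧ ringKrullDim B ≤ 1].TFAE := by
  classical
  have hdim : ringKrullDim B ≤ 1 ↔ ∀ I : Ideal B, I ≠ ⊥ → I.IsPrime → I.IsMaximal := by
    rw [← Ring.krullDimLE_one_iff_of_noZeroDivisors, Ring.krullDimLE_iff, Nat.cast_one]
  tfae_have 1 → 2 := by
    rintro ⟨f, hf0, hF⟩
    have hfmem : ∀ p : Ideal B, p.IsPrime → p ≠ ⊥ → f ∈ p := fun p hp hp0 =>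
      @H3FinSpec.mem_of_isField_away B _ _ f hf0 hF p hp hp0
    set T := (Ideal.span {f}).minimalPrimes with hT
    have hTfin : T.Finite := Ideal.finite_minimalPrimes_of_isNoetherianRing B (Ideal.span {f})
    have key : ∀ (n : ℕ∞) (q : Ideal B), q.IsPrime → q ≠ ⊥ → q.height = n → q ∈ T := by
      intro n
      induction n using WellFoundedLT.induction with
      | ind n ih =>
        intro q hq hq0 hqn
        haveI := hq
        have hsub : {p : Ideal B | p.IsPrime ∧ p ≠ ⊥ ∧ p < q} ⊆ T := by
          rintro p ⟨hp, hp0, hpq⟩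
          haveI := hp
          have hlt : p.height < q.height := Ideal.height_strict_mono_of_isPrime hpq
          exact ih p.height (hqn ▸ hlt) p hp hp0 rfl
        have hemp := H3FinSpec.noMiddle q (hTfin.subset hsub)
        obtain ⟨p', hp'min, hp'q⟩ := Ideal.exists_minimalPrimes_le (I := Ideal.span {f}) (J := q)
          ((Ideal.span_singleton_le_iff_mem _).mpr (hfmem q hq hq0))
        rcases hp'q.lt_or_eq with hlt | heq
        · exfalso
          have hfp' : f ∈ p' := hp'min.1.2 (Ideal.mem_span_singleton_self f)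
          have hp'0 : p' ≠ ⊥ := fun h => hf0 (by rw [h] at hfp'; exact hfp')
          have hmem : p' ∈ {p : Ideal B | p.IsPrime ∧ p ≠ ⊥ ∧ p < q} := ⟨hp'min.1.1, hp'0, hlt⟩
          rw [hemp] at hmem
          exact hmem
        · exact heq ▸ hp'min
    have hall : ∀ x : PrimeSpectrum B, x.asIdeal ∈ insert (⊥ : Ideal B) T := by
      intro x
      by_cases hx : x.asIdeal = ⊥
      · exact Or.inl hx
      · exact Or.inr (key _ x.asIdeal x.isPrime hx rfl)
    haveI : Finite ↥(insert (⊥ : Ideal B) T) := (hTfin.insert ⊥).to_subtype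
    exact Finite.of_injective
      (fun x : PrimeSpectrum B => (⟨x.asIdeal, hall x⟩ : ↥(insert (⊥ : Ideal B) T)))
      (fun x y hxy => PrimeSpectrum.ext (congrArg Subtype.val hxy))
  tfae_have 2 → 1 := by
    intro hfin
    haveI := hfin
    haveI := Fintype.ofFinite (PrimeSpectrum B)
    have hex : ∀ x : PrimeSpectrum B, ∃ g : B, g ≠ 0 ∧ (x.asIdeal ≠ ⊥ → g ∈ x.asIdeal) := by
      intro x
      by_cases hx : x.asIdeal = ⊥
      · exact ⟨1, one_ne_zero, fun h => absurd hx h⟩
      · obtain ⟨g, hg, hg0⟩ := Submodule.exists_mem_ne_zero_of_ne_bot hx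
        exact ⟨g, hg0, fun _ => hg⟩
    choose g hg0 hgmem using hex
    have hf0 : (∏ x, g x) ≠ 0 := Finset.prod_ne_zero_iff.mpr (fun x _ => hg0 x)
    have hfmem : ∀ p : Ideal B, p.IsPrime → p ≠ ⊥ → (∏ x, g x) ∈ p := by
      intro p hp hp0
      have hdvd : g ⟨p, hp⟩ ∣ ∏ x, g x := Finset.dvd_prod_of_mem g (Finset.mem_univ _)
      exact Ideal.mem_of_dvd p hdvd (hgmem ⟨p, hp⟩ hp0)
    refine ⟨∏ x, g x, hf0, ?_⟩
    haveI : IsDomain (Localization.Away (∏ x, g x)) :=
      IsLocalization.isDomain_localization (powers_le_nonZeroDivisors_of_noZeroDivisors hf0)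
    by_contra hnf
    obtain ⟨P, hP0, hPprime⟩ := Ring.not_isField_iff_exists_prime.mp hnf
    haveI := hPprime
    have hmc : Ideal.map (algebraMap B (Localization.Away (∏ x, g x)))
        (Ideal.comap (algebraMap B (Localization.Away (∏ x, g x))) P) = P :=
      IsLocalization.map_under (Submonoid.powers (∏ x, g x)) _ P
    have hc0 : Ideal.comap (algebraMap B (Localization.Away (∏ x, g x))) P ≠ ⊥ := by
      intro h0
      rw [h0, Ideal.map_bot] at hmc
      exact hP0 hmc.symm
    have hfP := hfmem _ (Ideal.comap_isPrime _ P) hc0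
    have hunit : IsUnit (algebraMap B (Localization.Away (∏ x, g x)) (∏ x, g x)) :=
      IsLocalization.Away.algebraMap_isUnit _
    exact hPprime.ne_top (Ideal.eq_top_of_isUnit_mem _ hfP hunit)
  tfae_have 2 → 3 := by
    intro hfin
    haveI := hfin
    refine ⟨Finite.of_injective MaximalSpectrum.toPrimeSpectrum
      MaximalSpectrum.toPrimeSpectrum_injective, ?_⟩
    rw [hdim]
    intro q hq0 hq
    haveI := hq
    obtain ⟨m, hm, hqm⟩ := Ideal.exists_le_maximal q hq.ne_top
    haveI := hm.isPrime
    have hfinm : {p : Ideal B | p.IsPrime ∧ p ≠ ⊥ ∧ p < m}.Finite := by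
      have : {p : Ideal B | p.IsPrime ∧ p ≠ ⊥ ∧ p < m} ⊆
          Set.range (fun x : PrimeSpectrum B => x.asIdeal) := by
        rintro p ⟨hp, -, -⟩
        exact ⟨⟨p, hp⟩, rfl⟩
      exact (Set.finite_range _).subset this
    have hemp := H3FinSpec.noMiddle m hfinm
    rcases hqm.lt_or_eq with hlt | heq
    · exfalso
      have hmem : q ∈ {p : Ideal B | p.IsPrime ∧ p ≠ ⊥ ∧ p < m} := ⟨hq, hq0, hlt⟩
      rw [hemp] at hmem
      exact hmem
    · exact heq ▸ hm
  tfae_have 3 → 2 := by
    rintro ⟨hfinm, hd⟩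
    have hmax := hdim.mp hd
    haveI := hfinm
    refine Finite.of_injective (fun x : PrimeSpectrum B =>
      if hx : x.asIdeal = ⊥ then (none : Option (MaximalSpectrum B))
      else some ⟨x.asIdeal, hmax _ hx x.isPrime⟩) ?_
    intro x y hxy
    by_cases hx : x.asIdeal = ⊥ <;> by_cases hy : y.asIdeal = ⊥
    · exact PrimeSpectrum.ext (hx.trans hy.symm)
    · simp [hx, hy] at hxy
    · simp [hx, hy] at hxy
    · simp only [hx, hy, dite_false, Option.some.injEq, MaximalSpectrum.mk.injEq] at hxy
      exact PrimeSpectrum.ext hxy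
  tfae_finish

end Groth.Agent.S4861
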