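import Groth.Statements.S4862
import Mathlib
import Groth.Agent.Lib.helper3.FinSpec

set_option autoImplicit false
universe u
open EGA43

namespace Groth.Agent.S4862

/-- For a commutative ring A the following are equivalent: a) A is a Jacobson ring; b) for every prime
ideal p of A which is not maximal and every nonzero f of B = A/p, the localization B_f is not a
field; b′) every finitely generated A-algebra which is a field is a finite A-module. -/
theorem result (A : Type u) [CommRing A] :
    [IsJacobsonRing A,
      ∀ (p : Ideal A) [p.IsPrime], ¬ p.IsMaximal → ∀ f : A ⧸ p, f ≠ 0 → ¬ IsField (Localization.Away f),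
      ∀ (K : Type u) [Field K] [Algebra A K], Algebra.FiniteType A K → Module.Finite A K].TFAE := by
  classical
  tfae_have 1 → 3 := by
    intro hJ K _ _ hft
    exact finite_of_finite_type_of_isJacobsonRing A K
  tfae_have 3 → 2 := by
    intro hb' p hp hnm f hf0 hF
    haveI := hp
    haveI hft1 : Algebra.FiniteType (A ⧸ p) (FractionRing (A ⧸ p)) :=
      H3FinSpec.finiteType_fractionRing_of_isField_away f hf0 hF
    haveI hft2 : Algebra.FiniteType A (FractionRing (A ⧸ p)) :=
      Algebra.FiniteType.trans (inferInstance : Algebra.FiniteType A (A ⧸ p)) hft1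
    haveI hfin : Module.Finite A (FractionRing (A ⧸ p)) := hb' (FractionRing (A ⧸ p)) hft2
    haveI : Algebra.IsIntegral A (FractionRing (A ⧸ p)) := Algebra.IsIntegral.of_finite A _
    haveI : Algebra.IsIntegral (A ⧸ p) (FractionRing (A ⧸ p)) :=
      ⟨fun z => (Algebra.IsIntegral.isIntegral (R := A) z).tower_top⟩
    have hfield : IsField (A ⧸ p) :=
      isField_of_isIntegral_of_isField (IsFractionRing.injective (A ⧸ p) (FractionRing (A ⧸ p)))
        (Field.toIsField _)
    exact hnm (Ideal.Quotient.maximal_of_isField p hfield)
  tfae_have 2 → 1 := by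
    intro hb
    rw [isJacobsonRing_iff_prime_eq]
    intro P hP
    haveI := hP
    refine le_antisymm ?_ Ideal.le_jacobson
    intro x hxJ
    by_contra hxP
    -- localization away from x
    have hdisjP : Disjoint (Submonoid.powers x : Set A) (P : Set A) := by
      rw [Set.disjoint_left]
      rintro _ ⟨n, rfl⟩ hmem
      exact hxP (hP.mem_of_pow_mem n hmem)
    have hcmP := IsLocalization.under_map_of_isPrime_disjoint (Submonoid.powers x)
      (Localization.Away x) hP hdisjP
    have hmapP : Ideal.map (algebraMap A (Localization.Away x)) P ≠ ⊤ := by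
      intro htop
      rw [htop] at hcmP
      exact hP.ne_top (by rw [← hcmP]; rfl)
    obtain ⟨M, hM, hPM⟩ := Ideal.exists_le_maximal _ hmapP
    haveI := hM.isPrime
    set Q := Ideal.comap (algebraMap A (Localization.Away x)) M with hQ
    haveI hQprime : Q.IsPrime := Ideal.comap_isPrime _ M
    have hPQ : P ≤ Q := Ideal.map_le_iff_le_comap.mp hPM
    have hxQ : x ∉ Q := by
      intro hx
      exact hM.ne_top (Ideal.eq_top_of_isUnit_mem _ hx (IsLocalization.Away.algebraMap_isUnit x))
    have hmapQ : Ideal.map (algebraMap A (Localization.Away x)) Q = M :=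
      IsLocalization.map_under (Submonoid.powers x) _ M
    have hmaxQ : ∀ Q' : Ideal A, Q'.IsPrime → Q ≤ Q' → x ∉ Q' → Q' = Q := by
      intro Q' hQ' hle hx'
      have hdisj' : Disjoint (Submonoid.powers x : Set A) (Q' : Set A) := by
        rw [Set.disjoint_left]
        rintro _ ⟨n, rfl⟩ hmem
        exact hx' (hQ'.mem_of_pow_mem n hmem)
      have hcm' := IsLocalization.under_map_of_isPrime_disjoint (Submonoid.powers x)
        (Localization.Away x) hQ' hdisj'
      have hne : Ideal.map (algebraMap A (Localization.Away x)) Q' ≠ ⊤ := by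
        intro htop
        rw [htop] at hcm'
        exact hQ'.ne_top (by rw [← hcm']; rfl)
      have hMle : M ≤ Ideal.map (algebraMap A (Localization.Away x)) Q' := by
        rw [← hmapQ]
        exact Ideal.map_mono hle
      have heq : M = Ideal.map (algebraMap A (Localization.Away x)) Q' :=
        hM.eq_of_le hne hMle
      rw [← hcm', ← heq]
    -- the quotient A ⧸ Q
    have hf0 : (Ideal.Quotient.mk Q x) ≠ 0 := by
      rw [Ne, Ideal.Quotient.eq_zero_iff_mem]
      exact hxQ
    have hF : IsField (Localization.Away (Ideal.Quotient.mk Q x)) := by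
      apply H3FinSpec.isField_away_of_forall_mem _ hf0
      intro p' hp' hp'0
      by_contra hxp'
      haveI := hp'
      have hQ'prime : (Ideal.comap (Ideal.Quotient.mk Q) p').IsPrime := Ideal.comap_isPrime _ p'
      have hle : Q ≤ Ideal.comap (Ideal.Quotient.mk Q) p' := by
        intro a ha
        show Ideal.Quotient.mk Q a ∈ p'
        rw [Ideal.Quotient.eq_zero_iff_mem.mpr ha]
        exact zero_mem _
      have heq := hmaxQ _ hQ'prime hle hxp'
      apply hp'0
      rw [← Ideal.map_comap_of_surjective (Ideal.Quotient.mk Q) Ideal.Quotient.mk_surjective p',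
        heq, Ideal.map_quotient_self]
    have hQmax : Q.IsMaximal := by
      by_contra hnm
      exact hb Q hnm _ hf0 hF
    have : x ∈ Q := by
      have := Ideal.mem_sInf.mp hxJ
      exact this ⟨hPQ, hQmax⟩
    exact hxQ this
  tfae_finish

end Groth.Agent.S4862
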