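import Groth.Statements.S4873
import Mathlib

set_option autoImplicit false
universe u
open CategoryTheory AlgebraicGeometry
open EGA43

namespace Groth.Agent.S4873

/-- Let (f_i : Z_i ⟶ X) be a family of morphisms. If the family is schematically dominant, i.e. a
section of O_X over an open V whose pullback to every f_i⁻¹(V) vanishes is zero, then the union of
the images f_i(Z_i) is dense in X. Conversely, if X is reduced and this union is dense, the family
is schematically dominant. -/
theorem result {X : Scheme.{u}} {ι : Type u} (Z : ι → Scheme.{u})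
    (f : ∀ i, Z i ⟶ X) :
    ((∀ (V : (X).Opens) (t : Γ(X, V)), (∀ i, (f i).app V t = 0) → t = 0) → Dense (⋃ i, Set.range (f i))) ∧
    (IsReduced X → Dense (⋃ i, Set.range (f i)) → (∀ (V : (X).Opens) (t : Γ(X, V)), (∀ i, (f i).app V t = 0) → t = 0)) := by
  constructor
  · intro H
    rw [dense_iff_inter_open]
    intro W hW hne
    by_contra hcon
    have hdis : ∀ i z, f i z ∉ W := by
      intro i z hz
      exact hcon ⟨f i z, hz, Set.mem_iUnion.mpr ⟨i, z, rfl⟩⟩
    obtain ⟨V, hV⟩ : ∃ V : X.Opens, (V : Set X) = W := ⟨⟨W, hW⟩, rfl⟩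
    have h1 : ∀ i, (f i) ⁻¹ᵁ V = ⊥ := by
      intro i
      rw [eq_bot_iff]
      intro z hz
      have hz' : f i z ∈ (V : Set X) := hz
      rw [hV] at hz'
      exact (hdis i z hz').elim
    have h2 : ∀ i, (f i).app V 1 = 0 := by
      intro i
      haveI : Subsingleton Γ(Z i, (f i) ⁻¹ᵁ V) := by
        rw [h1 i]
        infer_instance
      exact Subsingleton.elim _ _
    have h3 : (1 : Γ(X, V)) = 0 := H V 1 h2
    have h4 := X.basicOpen_one (U := V)
    rw [h3, Scheme.basicOpen_zero] at h4
    obtain ⟨x, hx⟩ := hne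
    rw [← hV, ← h4] at hx
    exact hx
  · intro hred hdense V t ht
    rw [← AlgebraicGeometry.basicOpen_eq_bot_iff]
    by_contra hne
    have hne' : ((X.basicOpen t : X.Opens) : Set X).Nonempty :=
      (TopologicalSpace.Opens.ne_bot_iff_nonempty _).mp hne
    obtain ⟨x, hx1, hx2⟩ := hdense.inter_open_nonempty _ (X.basicOpen t).isOpen hne'
    obtain ⟨i, z, rfl⟩ := Set.mem_iUnion.mp hx2
    have h4 : z ∈ (f i) ⁻¹ᵁ (X.basicOpen t) := hx1
    rw [Scheme.preimage_basicOpen, ht i, Scheme.basicOpen_zero] at h4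
    exact h4

end Groth.Agent.S4873
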