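import Groth.Statements.S4874
import Mathlib

set_option autoImplicit false
universe u
open CategoryTheory AlgebraicGeometry
open EGA43

namespace Groth.Agent.S4874

set_option backward.isDefEq.respectTransparency.types false in
lemma stalkMap_injective_of_flat {X Y : Scheme.{u}} (f : X ⟶ Y) [Flat f] (x : X) :
    Function.Injective (f.stalkMap x).hom := by
  algebraize [(f.stalkMap x).hom]
  have : Module.FaithfullyFlat (Y.presheaf.stalk (f x)) (X.presheaf.stalk x) :=
    @Module.FaithfullyFlat.of_flat_of_isLocalHom _ _ _ _ _ _ _
      (Flat.stalkMap f x) (f.toLRSHom.prop x)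
  exact ‹RingHom.FaithfullyFlat _›.injective

lemma app_injective_of_flat_surjective {X Y : Scheme.{u}} (f : X ⟶ Y) [Flat f] [Surjective f]
    (V : Y.Opens) : Function.Injective (f.app V) := by
  intro a b hab
  refine TopCat.Presheaf.section_ext Y.sheaf V a b (fun y hy => ?_)
  obtain ⟨x, rfl⟩ := f.surjective y
  apply stalkMap_injective_of_flat f x
  change f.stalkMap x (Y.presheaf.germ V (f x) hy a) = f.stalkMap x (Y.presheaf.germ V (f x) hy b)
  rw [Scheme.Hom.germ_stalkMap_apply, Scheme.Hom.germ_stalkMap_apply, hab]

/-- Let (f_i : Z_i ⟶ X) be a family of morphisms, g : X' ⟶ X a faithfully flat morphism and f'_i : Z_i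
×_X X' ⟶ X' the base changes. If the family (f'_i) is schematically dominant, then so is the family
(f_i). (Schematically dominant: a section of the structure sheaf over an open whose pullback along
every member of the family vanishes is zero.) -/
theorem result {X X' : Scheme.{u}} {ι : Type u} (Z : ι → Scheme.{u})
    (f : ∀ i, Z i ⟶ X) (g : X' ⟶ X) [Flat g] [Surjective g]
    (h : (∀ (V : (X').Opens) (t : Γ(X', V)), (∀ i, (Limits.pullback.snd (f i) g).app V t = 0) → t = 0)) :
    (∀ (V : (X).Opens) (t : Γ(X, V)), (∀ i, (f i).app V t = 0) → t = 0) := by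
  intro V t ht
  apply app_injective_of_flat_surjective g V
  rw [map_zero]
  apply h (g ⁻¹ᵁ V) (g.app V t)
  intro i
  have e := Scheme.Hom.congr_app (Limits.pullback.condition (f := f i) (g := g)).symm V
  have h2 : (Limits.pullback.snd (f i) g ≫ g).app V t = 0 := by
    rw [e]
    change ((Limits.pullback (f i) g).presheaf.map _)
      ((Limits.pullback.fst (f i) g).app _ ((f i).app V t)) = 0
    rw [ht i, map_zero, map_zero]
  exact h2

end Groth.Agent.S4874
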