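import Groth.Statements.S4878
import Mathlib

set_option autoImplicit false
universe u
open TensorProduct
open EGA43

 open TensorProduct
namespace Groth.Agent.S4878

/-- Let A be a commutative ring, (u_i : M → M_i) a family of A-linear maps whose kernels have zero
intersection, and N a projective A-module. Then the kernels of the maps u_i ⊗ 1 : M ⊗_A N → M_i ⊗_A
N have zero intersection. -/
theorem result {A : Type u} [CommRing A]
    {M : Type u} [AddCommGroup M] [Module A M] {ι : Type u} (M' : ι → Type u)
    [∀ i, AddCommGroup (M' i)] [∀ i, Module A (M' i)] (u : ∀ i, M →ₗ[A] M' i)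
    (hu : ⨅ i, LinearMap.ker (u i) = ⊥)
    (N : Type u) [AddCommGroup N] [Module A N] [Module.Projective A N] :
    ⨅ i, LinearMap.ker ((u i).rTensor N) = ⊥ := by
  classical
  rw [eq_bot_iff]
  intro x hx
  rw [Submodule.mem_iInf] at hx
  rw [Submodule.mem_bot]
  obtain ⟨s, hs⟩ := (Module.projective_def'.1 ‹Module.Projective A N›)
  set x' := s.lTensor M x with hx'
  have hnat : ∀ (i : ι) (z : M ⊗[A] (N →₀ A)) (n : N),
      TensorProduct.finsuppScalarRight A A (M' i) N ((u i).rTensor _ z) n
        = u i (TensorProduct.finsuppScalarRight A A M N z n) := by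
    intro i z n
    induction z using TensorProduct.induction_on with
    | zero => simp
    | tmul m f => simp [TensorProduct.finsuppScalarRight_apply_tmul_apply]
    | add a b ha hb => simp only [map_add, Finsupp.add_apply, ha, hb]
  have hx'0 : ∀ i, (u i).rTensor _ x' = 0 := by
    intro i
    have h1 : (u i).rTensor (N →₀ A) (s.lTensor M x) = s.lTensor (M' i) ((u i).rTensor N x) := by
      rw [← LinearMap.comp_apply, ← LinearMap.comp_apply, LinearMap.rTensor_comp_lTensor,
        LinearMap.lTensor_comp_rTensor]
    rw [hx', h1, LinearMap.mem_ker.1 (hx i), map_zero]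
  have hy : TensorProduct.finsuppScalarRight A A M N x' = 0 := by
    ext n
    have : TensorProduct.finsuppScalarRight A A M N x' n ∈ ⨅ i, LinearMap.ker (u i) := by
      rw [Submodule.mem_iInf]; intro i
      rw [LinearMap.mem_ker, ← hnat, hx'0 i, map_zero]; rfl
    rw [hu] at this
    simpa using this
  have hx'z : x' = 0 :=
    (TensorProduct.finsuppScalarRight A A M N).injective (by rw [hy, map_zero])
  have : x = (Finsupp.linearCombination A id).lTensor M x' := by
    rw [hx', ← LinearMap.comp_apply, ← LinearMap.lTensor_comp, hs, LinearMap.lTensor_id]; rfl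
  rw [this, hx'z, map_zero]

end Groth.Agent.S4878
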