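import Groth.Statements.S4882
-- import your own Groth.Agent.* helpers here

set_option autoImplicit false
universe u
open EGA43

namespace Groth.Agent.S4882

/-- Let X be a Jacobson space and Z a locally quasi-constructible subset of X, i.e. every point of X has
an open neighbourhood U such that U ∩ Z is a finite union of locally closed subsets of X. Then the
subspace Z is a Jacobson space, and a point of Z is closed in Z if and only if it is closed in X. -/
theorem result {X : Type u} [TopologicalSpace X] [JacobsonSpace X]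
    (Z : Set X)
    (hZ : ∀ x : X, ∃ U : Set X, IsOpen U ∧ x ∈ U ∧
      ∃ T : Set (Set X), T.Finite ∧ (∀ t ∈ T, IsLocallyClosed t) ∧ U ∩ Z = ⋃₀ T) :
    JacobsonSpace ↥Z ∧ ∀ z : ↥Z, IsClosed ({z} : Set ↥Z) ↔ IsClosed ({(z : X)} : Set X) := by
  have hb1 : ∀ z : ↥Z, IsClosed ({(z : X)} : Set X) → IsClosed ({z} : Set ↥Z) := by
    intro z hz
    have : ({z} : Set ↥Z) = Subtype.val ⁻¹' {(z : X)} := by
      ext y; simp [Subtype.ext_iff]
    rw [this]; exact hz.preimage continuous_subtype_val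
  have htZ : ∀ (U : Set X) (T : Set (Set X)), U ∩ Z = ⋃₀ T → ∀ t ∈ T, t ⊆ Z := by
    intro U T hUT t htT y hy
    have : y ∈ U ∩ Z := by rw [hUT]; exact Set.subset_sUnion_of_mem htT hy
    exact this.2
  have hb2 : ∀ z : ↥Z, IsClosed ({z} : Set ↥Z) → IsClosed ({(z : X)} : Set X) := by
    intro z hz
    obtain ⟨C, hC, hCz⟩ := isClosed_induced_iff.1 hz
    obtain ⟨U, hU, hzU, T, hT, hTlc, hUT⟩ := hZ z
    have hzUT : (z : X) ∈ U ∩ Z := ⟨hzU, z.2⟩
    rw [hUT] at hzUT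
    obtain ⟨t, htT, hzt⟩ := hzUT
    apply isClosed_singleton_of_isLocallyClosed_singleton
    have : ({(z : X)} : Set X) = t ∩ C := by
      ext y
      constructor
      · rintro rfl
        refine ⟨hzt, ?_⟩
        have : z ∈ Subtype.val ⁻¹' C := by rw [hCz]; rfl
        exact this
      · rintro ⟨hyt, hyC⟩
        have : (⟨y, htZ U T hUT t htT hyt⟩ : ↥Z) ∈ Subtype.val ⁻¹' C := hyC
        rw [hCz] at this
        exact congrArg Subtype.val this
    rw [this]
    exact (hTlc t htT).inter hC.isLocallyClosed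
  refine ⟨?_, fun z => ⟨hb2 z, hb1 z⟩⟩
  rw [jacobsonSpace_iff_locallyClosed]
  intro W hW hWlc
  obtain ⟨w, hw⟩ := hW
  obtain ⟨W', hW'lc, rfl⟩ : ∃ W' : Set X, IsLocallyClosed W' ∧ Subtype.val ⁻¹' W' = W := by
    obtain ⟨O, C, hO, hC, rfl⟩ := hWlc
    obtain ⟨O', hO', rfl⟩ := isOpen_induced_iff.1 hO
    obtain ⟨C', hC', rfl⟩ := isClosed_induced_iff.1 hC
    exact ⟨O' ∩ C', hO'.isLocallyClosed.inter hC'.isLocallyClosed, rfl⟩
  obtain ⟨U, hU, hwU, T, hT, hTlc, hUT⟩ := hZ w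
  have hwUT : (w : X) ∈ U ∩ Z := ⟨hwU, w.2⟩
  rw [hUT] at hwUT
  obtain ⟨t, htT, hwt⟩ := hwUT
  obtain ⟨y, ⟨hyt, hyW'⟩, hycl⟩ := nonempty_inter_closedPoints (Z := t ∩ W') ⟨w, hwt, hw⟩
    ((hTlc t htT).inter hW'lc)
  exact ⟨⟨y, htZ U T hUT t htT hyt⟩, hyW', hb1 _ hycl⟩

end Groth.Agent.S4882
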