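import Groth.Statements.S4893
-- import your own Groth.Agent.* helpers here

set_option autoImplicit false
universe u
open EGA43

namespace Groth.Agent.S4893

/-- Let f : X → Y be a quasi-homeomorphism (continuous, with U ↦ f⁻¹(U) a bijection from the open
subsets of Y onto the open subsets of X) and Y' a locally quasi-constructible subset of Y. Then the
restriction f⁻¹(Y') → Y' of f is a quasi-homeomorphism. -/
theorem result {X Y : Type u} [TopologicalSpace X]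
    [TopologicalSpace Y] (f : X → Y) (hf : Continuous f)
    (hq : ((∀ U₁ U₂ : Set Y, IsOpen U₁ → IsOpen U₂ → (f) ⁻¹' U₁ = (f) ⁻¹' U₂ → U₁ = U₂) ∧ (∀ V : Set X, IsOpen V → ∃ U : Set Y, IsOpen U ∧ (f) ⁻¹' U = V)))
    (Y' : Set Y) (hY' : (∀ y : Y, ∃ U : Set Y, IsOpen U ∧ y ∈ U ∧ ∃ T : Set (Set Y), T.Finite ∧ (∀ t ∈ T, IsLocallyClosed t) ∧ U ∩ Y' = ⋃₀ T)) :
    ((∀ U₁ U₂ : Set ↥Y', IsOpen U₁ → IsOpen U₂ → (Y'.restrictPreimage f) ⁻¹' U₁ = (Y'.restrictPreimage f) ⁻¹' U₂ → U₁ = U₂) ∧ (∀ V : Set ↥(f ⁻¹' Y'), IsOpen V → ∃ U : Set ↥Y', IsOpen U ∧ (Y'.restrictPreimage f) ⁻¹' U = V)) := by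
  have hvd : ∀ Z : Set Y, IsLocallyClosed Z → Z.Nonempty → ∃ x, f x ∈ Z := by
    intro Z hZ hne
    obtain ⟨U, F, hU, hF, rfl⟩ := hZ
    by_contra hcon
    push_neg at hcon
    have e : f ⁻¹' U = f ⁻¹' (U ∩ Fᶜ) := by
      ext x; constructor
      · intro hx; exact ⟨hx, fun hxF => hcon x ⟨hx, hxF⟩⟩
      · intro hx; exact hx.1
    have hUU := hq.1 U (U ∩ Fᶜ) hU (hU.inter hF.isOpen_compl) e
    obtain ⟨y, hyU, hyF⟩ := hne
    rw [hUU] at hyU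
    exact hyU.2 hyF
  constructor
  · intro U₁ U₂ hU₁ hU₂ e
    obtain ⟨U₁', hU₁', rfl⟩ := isOpen_induced_iff.1 hU₁
    obtain ⟨U₂', hU₂', rfl⟩ := isOpen_induced_iff.1 hU₂
    have key : ∀ (A B : Set Y), IsOpen A → IsOpen B →
        (Y'.restrictPreimage f) ⁻¹' (Subtype.val ⁻¹' A) =
          (Y'.restrictPreimage f) ⁻¹' (Subtype.val ⁻¹' B) →
        ∀ y : Y', (y : Y) ∈ A → (y : Y) ∈ B := by
      intro A B hA hB e y hyA
      by_contra hyB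
      obtain ⟨Uy, hUy, hyUy, T, hTfin, hTlc, hT⟩ := hY' y
      have hyT : (y : Y) ∈ ⋃₀ T := by rw [← hT]; exact ⟨hyUy, y.2⟩
      obtain ⟨t, htT, hyt⟩ := hyT
      have hlc : IsLocallyClosed (t ∩ A ∩ Bᶜ) :=
        ((hTlc t htT).inter hA.isLocallyClosed).inter hB.isClosed_compl.isLocallyClosed
      obtain ⟨x, ⟨hxt, hxA⟩, hxB⟩ := hvd _ hlc ⟨y, ⟨hyt, hyA⟩, hyB⟩
      have hxY' : f x ∈ Y' := by
        have : f x ∈ Uy ∩ Y' := by rw [hT]; exact ⟨t, htT, hxt⟩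
        exact this.2
      have h1 : (⟨x, hxY'⟩ : ↥(f ⁻¹' Y')) ∈
          (Y'.restrictPreimage f) ⁻¹' (Subtype.val ⁻¹' A) := hxA
      rw [e] at h1
      exact hxB h1
    ext y
    exact ⟨key U₁' U₂' hU₁' hU₂' e y, key U₂' U₁' hU₂' hU₁' e.symm y⟩
  · intro V hV
    obtain ⟨V₀, hV₀, rfl⟩ := isOpen_induced_iff.1 hV
    obtain ⟨U₀, hU₀, rfl⟩ := hq.2 V₀ hV₀
    exact ⟨Subtype.val ⁻¹' U₀, hU₀.preimage continuous_subtype_val, Set.ext (fun _ => Iff.rfl)⟩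

end Groth.Agent.S4893
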