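import Groth.Statements.S4890
import Groth.Agent.Lib.helper3.QuasiHomeo
import Groth.Agent.S4893

set_option autoImplicit false
universe u
open EGA43

namespace Groth.Agent.S4890

/-- Let f : X → Y be a quasi-homeomorphism (U ↦ f⁻¹(U) is a bijection on open subsets) and Y' a locally
quasi-constructible subset of Y, i.e. every point of Y has an open neighbourhood whose trace on Y'
is a finite union of locally closed subsets; put X' = f⁻¹(Y'). Then Y' is quasi-compact if and only
if X' is, and Y' is a Noetherian space if and only if X' is. -/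
theorem result {X Y : Type u} [TopologicalSpace X]
    [TopologicalSpace Y] (f : X → Y) (hf : Continuous f)
    (hq : Function.Bijective (fun U : TopologicalSpace.Opens Y =>
      (⟨f ⁻¹' (U : Set Y), U.isOpen.preimage hf⟩ : TopologicalSpace.Opens X)))
    (Y' : Set Y)
    (hY' : ∀ y : Y, ∃ U : Set Y, IsOpen U ∧ y ∈ U ∧
      ∃ T : Set (Set Y), T.Finite ∧ (∀ t ∈ T, IsLocallyClosed t) ∧ U ∩ Y' = ⋃₀ T) :
    (IsCompact Y' ↔ IsCompact (f ⁻¹' Y')) ∧
      (TopologicalSpace.NoetherianSpace ↥Y' ↔ TopologicalSpace.NoetherianSpace ↥(f ⁻¹' Y')) := by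
  have hq' : (∀ U₁ U₂ : Set Y, IsOpen U₁ → IsOpen U₂ → f ⁻¹' U₁ = f ⁻¹' U₂ → U₁ = U₂) ∧
      (∀ V : Set X, IsOpen V → ∃ U : Set Y, IsOpen U ∧ f ⁻¹' U = V) := by
    constructor
    · intro U₁ U₂ h₁ h₂ e
      have := @hq.1 ⟨U₁, h₁⟩ ⟨U₂, h₂⟩ (TopologicalSpace.Opens.ext e)
      exact congrArg (fun G : TopologicalSpace.Opens Y => (G : Set Y)) this
    · intro V hV
      obtain ⟨U, hU⟩ := hq.2 ⟨V, hV⟩
      exact ⟨U, U.isOpen, congrArg (fun G : TopologicalSpace.Opens X => (G : Set X)) hU⟩
  have res := Groth.Agent.S4893.result f hf hq' Y' hY'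
  have hg : Continuous (Y'.restrictPreimage f) := hf.restrictPreimage
  constructor
  · rw [isCompact_iff_isCompact_univ, isCompact_iff_isCompact_univ (s := f ⁻¹' Y')]
    have := Groth.Agent.Lib.helper3.QuasiHomeo.isCompact_preimage_iff res.1 res.2 hg isOpen_univ
    rwa [Set.preimage_univ] at this
  · rw [TopologicalSpace.noetherianSpace_iff_opens, TopologicalSpace.noetherianSpace_iff_opens]
    constructor
    · intro h V
      obtain ⟨U, hU, hUV⟩ := res.2 V V.isOpen
      rw [← hUV]
      exact (Groth.Agent.Lib.helper3.QuasiHomeo.isCompact_preimage_iff res.1 res.2 hg hU).1 (h ⟨U, hU⟩)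
    · intro h U
      exact (Groth.Agent.Lib.helper3.QuasiHomeo.isCompact_preimage_iff res.1 res.2 hg U.isOpen).2
        (h ⟨_, U.isOpen.preimage hg⟩)

end Groth.Agent.S4890
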