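import Groth.Statements.S4891
import Mathlib
import Groth.Agent.Lib.helper1.LocalCrit2

set_option autoImplicit false
universe u
open TensorProduct
open EGA43

namespace Groth.Agent.S4891

/-- Let A be a commutative ring, J a nilpotent ideal of A, B a commutative A-algebra and M a B-module.
If M is flat over A, M/JM is flat over B/JB, B/JB is flat over A/J and mM ≠ M for every maximal
ideal m of B containing JB, then B is flat over A. (Under the first two hypotheses M is also flat
over B; that implication is stated elsewhere and not repeated here.) -/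
theorem result {A B : Type u} [CommRing A] [CommRing B] [Algebra A B]
    (J : Ideal A) (hJ : IsNilpotent J) (M : Type u) [AddCommGroup M] [Module B M] [Module A M] [IsScalarTower A B M]
    (hc1 : Module.Flat A M)
    (hc2 : Module.Flat (B ⧸ J.map (algebraMap A B)) ((B ⧸ J.map (algebraMap A B)) ⊗[B] M))
    (hd1 : Module.Flat (A ⧸ J) ((A ⧸ J) ⊗[A] B))
    (hd2 : ∀ m : Ideal B, m.IsMaximal → J.map (algebraMap A B) ≤ m → (m • (⊤ : Submodule B M)) ≠ ⊤) :
    Module.Flat A B := by
  obtain ⟨n, hn⟩ := hJ
  have hIn : (J.map (algebraMap A B)) ^ n = ⊥ := by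
    rw [← Ideal.map_pow, hn]; exact Ideal.map_bot
  have hmem : ∀ j : J, algebraMap A B j ∈ J.map (algebraMap A B) :=
    fun j => Ideal.mem_map_of_mem _ j.2
  -- the additive map ψ : J ⊗[A] M → I ⊗[B] M
  let f : J →+ M →+ ((J.map (algebraMap A B) : Ideal B) ⊗[B] M) :=
    { toFun := fun j =>
        { toFun := fun m => (⟨algebraMap A B j, hmem j⟩ : J.map (algebraMap A B)) ⊗ₜ[B] m
          map_zero' := TensorProduct.tmul_zero _ _
          map_add' := fun m m' => TensorProduct.tmul_add _ _ _ }
      map_zero' := by
        ext m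
        show (⟨algebraMap A B (0 : J), _⟩ : J.map (algebraMap A B)) ⊗ₜ[B] m = 0
        have : (⟨algebraMap A B ((0 : J) : A), hmem 0⟩ : J.map (algebraMap A B)) = 0 :=
          Subtype.ext (map_zero _)
        rw [this, TensorProduct.zero_tmul]
      map_add' := fun j j' => by
        ext m
        show (⟨algebraMap A B ((j + j' : J) : A), _⟩ : J.map (algebraMap A B)) ⊗ₜ[B] m =
          (⟨algebraMap A B j, hmem j⟩ : J.map (algebraMap A B)) ⊗ₜ[B] m +
            (⟨algebraMap A B j', hmem j'⟩ : J.map (algebraMap A B)) ⊗ₜ[B] m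
        have : (⟨algebraMap A B ((j + j' : J) : A), hmem (j + j')⟩ : J.map (algebraMap A B)) =
            ⟨algebraMap A B j, hmem j⟩ + ⟨algebraMap A B j', hmem j'⟩ :=
          Subtype.ext (map_add _ _ _)
        rw [this, TensorProduct.add_tmul] }
  have hf : ∀ (a : A) (j : J) (m : M), f (a • j) m = f j (a • m) := by
    intro a j m
    show (⟨algebraMap A B ((a • j : J) : A), _⟩ : J.map (algebraMap A B)) ⊗ₜ[B] m =
      (⟨algebraMap A B j, hmem j⟩ : J.map (algebraMap A B)) ⊗ₜ[B] (a • m)
    have : (⟨algebraMap A B ((a • j : J) : A), hmem (a • j)⟩ : J.map (algebraMap A B)) =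
        algebraMap A B a • (⟨algebraMap A B j, hmem j⟩ : J.map (algebraMap A B)) :=
      Subtype.ext (by
        show algebraMap A B (a * (j : A)) = algebraMap A B a * algebraMap A B j
        exact map_mul _ _ _)
    rw [this, TensorProduct.smul_tmul, algebraMap_smul]
  let ψ : J ⊗[A] M →+ ((J.map (algebraMap A B) : Ideal B) ⊗[B] M) := TensorProduct.liftAddHom f hf
  have hψ : ∀ (j : J) (m : M), ψ (j ⊗ₜ m) =
      (⟨algebraMap A B j, hmem j⟩ : J.map (algebraMap A B)) ⊗ₜ[B] m := fun j m => rfl
  have hψsurj : Function.Surjective ψ := by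
    intro z
    induction z using TensorProduct.induction_on with
    | zero => exact ⟨0, map_zero ψ⟩
    | add x y hx hy =>
      obtain ⟨x', rfl⟩ := hx
      obtain ⟨y', rfl⟩ := hy
      exact ⟨x' + y', map_add ψ _ _⟩
    | tmul i m =>
      obtain ⟨i, hi⟩ := i
      revert m
      refine Submodule.span_induction
        (p := fun x hx => ∀ m : M, ∃ w, ψ w = (⟨x, hx⟩ : J.map (algebraMap A B)) ⊗ₜ[B] m)
        ?_ ?_ ?_ ?_ hi
      · rintro x ⟨j, hj, rfl⟩ m
        exact ⟨(⟨j, hj⟩ : J) ⊗ₜ m, hψ _ _⟩
      · intro m
        refine ⟨0, ?_⟩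
        rw [map_zero]
        exact (TensorProduct.zero_tmul _ _).symm
      · intro x y hx hy ihx ihy m
        obtain ⟨w, hw⟩ := ihx m
        obtain ⟨w', hw'⟩ := ihy m
        refine ⟨w + w', ?_⟩
        rw [map_add, hw, hw', ← TensorProduct.add_tmul]
        rfl
      · intro b x hx ihx m
        obtain ⟨w, hw⟩ := ihx (b • m)
        refine ⟨w, ?_⟩
        rw [hw, ← TensorProduct.smul_tmul]
        rfl
  have hcompat : ∀ w : J ⊗[A] M,
      TensorProduct.lid B M (((J.map (algebraMap A B)).subtype.rTensor M) (ψ w)) =
        TensorProduct.lid A M ((J.subtype.rTensor M) w) := by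
    intro w
    induction w using TensorProduct.induction_on with
    | zero => simp
    | tmul j m =>
      rw [hψ]
      show algebraMap A B j • m = (j : A) • m
      exact algebraMap_smul B _ m
    | add x y hx hy => rw [map_add, map_add, map_add, map_add, map_add, hx, hy]
  have hAinj : Function.Injective (J.subtype.rTensor M) :=
    Module.Flat.rTensor_preserves_injective_linearMap _ Subtype.val_injective
  have hI : Function.Injective ((J.map (algebraMap A B)).subtype.rTensor M) := by
    rw [injective_iff_map_eq_zero]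
    intro z hz
    obtain ⟨w, rfl⟩ := hψsurj z
    have h1 := hcompat w
    rw [hz, map_zero] at h1
    have h2 : (J.subtype.rTensor M) w = 0 := by
      apply (TensorProduct.lid A M).injective
      rw [← h1, map_zero]
    have h3 : w = 0 := hAinj (h2.trans (map_zero _).symm)
    rw [h3, map_zero]
  haveI := hc2
  haveI : Module.Flat B M :=
    Helper1.flat_of_nilpotent_localCriterion (J.map (algebraMap A B)) n hIn hI
  haveI : Module.FaithfullyFlat B M :=
    { submodule_ne_top := fun m hm => hd2 m hm (by
        haveI := hm.isPrime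
        apply Ideal.IsPrime.le_of_pow_le (n := n)
        rw [hIn]; exact bot_le) }
  exact Helper1.flat_of_faithfullyFlat_module (R := A) (S := B) (M := M)

end Groth.Agent.S4891
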