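import Groth.Statements.S4904
import Groth.Agent.Lib.helper3.QuasiHomeo
import Groth.Agent.S4890

set_option autoImplicit false
universe u
open EGA43

namespace Groth.Agent.S4904

/-- Let f : X → Y be a quasi-homeomorphism (U ↦ f⁻¹(U) is a bijection on open subsets) and Y' a locally
quasi-constructible subset of Y, X' = f⁻¹(Y'). Then Y' is retrocompact in Y, i.e. Y' ∩ U is
quasi-compact for every quasi-compact open subset U of Y, if and only if X' is retrocompact in X. -/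
theorem result {X Y : Type u} [TopologicalSpace X]
    [TopologicalSpace Y] (f : X → Y) (hf : Continuous f)
    (hq : Function.Bijective (fun U : TopologicalSpace.Opens Y =>
      (⟨f ⁻¹' (U : Set Y), U.isOpen.preimage hf⟩ : TopologicalSpace.Opens X)))
    (Y' : Set Y)
    (hY' : ∀ y : Y, ∃ U : Set Y, IsOpen U ∧ y ∈ U ∧
      ∃ T : Set (Set Y), T.Finite ∧ (∀ t ∈ T, IsLocallyClosed t) ∧ U ∩ Y' = ⋃₀ T) :
    (∀ U : Set Y, IsOpen U → IsCompact U → IsCompact (U ∩ Y')) ↔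
      (∀ V : Set X, IsOpen V → IsCompact V → IsCompact (V ∩ f ⁻¹' Y')) := by
  have hq' : (∀ U₁ U₂ : Set Y, IsOpen U₁ → IsOpen U₂ → f ⁻¹' U₁ = f ⁻¹' U₂ → U₁ = U₂) ∧
      (∀ V : Set X, IsOpen V → ∃ U : Set Y, IsOpen U ∧ f ⁻¹' U = V) := by
    constructor
    · intro U₁ U₂ h₁ h₂ e
      have := @hq.1 ⟨U₁, h₁⟩ ⟨U₂, h₂⟩ (TopologicalSpace.Opens.ext e)
      exact congrArg (fun G : TopologicalSpace.Opens Y => (G : Set Y)) this
    · intro V hV
      obtain ⟨U, hU⟩ := hq.2 ⟨V, hV⟩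
      exact ⟨U, U.isOpen, congrArg (fun G : TopologicalSpace.Opens X => (G : Set X)) hU⟩
  have hQC : ∀ U : Set Y, IsOpen U → (IsCompact U ↔ IsCompact (f ⁻¹' U)) := fun U hU =>
    Groth.Agent.Lib.helper3.QuasiHomeo.isCompact_preimage_iff hq'.1 hq'.2 hf hU
  have hY'' : ∀ U : Set Y, IsOpen U → ∀ y : Y, ∃ U_1 : Set Y, IsOpen U_1 ∧ y ∈ U_1 ∧
      ∃ T : Set (Set Y), T.Finite ∧ (∀ t ∈ T, IsLocallyClosed t) ∧ U_1 ∩ (U ∩ Y') = ⋃₀ T := by
    intro U hU y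
    obtain ⟨Uy, hUy, hy, T, hTf, hTl, hT⟩ := hY' y
    refine ⟨Uy, hUy, hy, (fun t => t ∩ U) '' T, hTf.image _, ?_, ?_⟩
    · rintro _ ⟨t, ht, rfl⟩; exact (hTl t ht).inter hU.isLocallyClosed
    · ext z
      constructor
      · rintro ⟨h1, h2, h3⟩
        have : z ∈ ⋃₀ T := by rw [← hT]; exact ⟨h1, h3⟩
        obtain ⟨t, ht, hzt⟩ := this
        exact ⟨t ∩ U, ⟨t, ht, rfl⟩, hzt, h2⟩
      · rintro ⟨_, ⟨t, ht, rfl⟩, hzt, hzU⟩
        have : z ∈ Uy ∩ Y' := by rw [hT]; exact ⟨t, ht, hzt⟩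
        exact ⟨this.1, hzU, this.2⟩
  have key : ∀ U : Set Y, IsOpen U →
      (IsCompact (U ∩ Y') ↔ IsCompact (f ⁻¹' U ∩ f ⁻¹' Y')) := by
    intro U hU
    have := (Groth.Agent.S4890.result f hf hq (U ∩ Y') (hY'' U hU)).1
    rwa [Set.preimage_inter] at this
  constructor
  · intro h V hV hVc
    obtain ⟨U, hU, rfl⟩ := hq'.2 V hV
    exact (key U hU).1 (h U hU ((hQC U hU).2 hVc))
  · intro h U hU hUc
    exact (key U hU).2 (h (f ⁻¹' U) (hU.preimage hf) ((hQC U hU).1 hUc))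

end Groth.Agent.S4904
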