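import Groth.Statements.S4914
-- import your own Groth.Agent.* helpers here

set_option autoImplicit false
open CategoryTheory AlgebraicGeometry
universe u v w
open EGA43

namespace Groth.Agent.S4914

/-- Let ψ : X → Y be a continuous map, x a point of X, and (Y_i) a locally finite covering of Y by
closed subsets. If for every index i with ψ x ∈ Y_i the restriction ψ⁻¹(Y_i) → Y_i of ψ is open at
x, then ψ is open at x. -/
theorem result {α : Type u} {β : Type v} {ι : Type w} [TopologicalSpace α]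
    [TopologicalSpace β] (ψ : α → β) (hψ : Continuous ψ) (x : α) (Y : ι → Set β) (hY : LocallyFinite Y)
    (hcl : ∀ i, IsClosed (Y i)) (hcov : ⋃ i, Y i = Set.univ)
    (h : ∀ i, ∀ hi : ψ x ∈ Y i, EGA43.IsOpenAt ((Y i).restrictPreimage ψ) ⟨x, hi⟩) :
    EGA43.IsOpenAt ψ x := by
  intro U hU
  obtain ⟨W, hW, hfin⟩ := hY (ψ x)
  have hN : ∀ i, ψ x ∈ Y i → ∃ N ∈ nhds (ψ x), N ∩ Y i ⊆ ψ '' U := by
    intro i hi
    have h1 := h i hi (Subtype.val ⁻¹' U) (by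
      rw [mem_nhds_subtype]; exact ⟨U, hU, subset_rfl⟩)
    rw [mem_nhds_subtype] at h1
    obtain ⟨N, hN, hNsub⟩ := h1
    refine ⟨N, hN, ?_⟩
    rintro z ⟨hzN, hzY⟩
    obtain ⟨⟨a, ha⟩, haU, haz⟩ := hNsub (show (⟨z, hzY⟩ : Y i) ∈ Subtype.val ⁻¹' N from hzN)
    exact ⟨a, haU, congrArg Subtype.val haz⟩
  have hN' : ∀ i, ∃ N ∈ nhds (ψ x), N ∩ Y i ⊆ ψ '' U := by
    intro i
    by_cases hi : ψ x ∈ Y i
    · exact hN i hi
    · exact ⟨(Y i)ᶜ, (hcl i).isOpen_compl.mem_nhds hi, fun z hz => absurd hz.2 hz.1⟩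
  choose N hNmem hNsub using hN'
  have hfinal : W ∩ ⋂ i ∈ {i | (Y i ∩ W).Nonempty}, N i ∈ nhds (ψ x) :=
    Filter.inter_mem hW ((Filter.biInter_mem hfin).2 (fun i _ => hNmem i))
  refine Filter.mem_of_superset hfinal ?_
  rintro z ⟨hzW, hzN⟩
  have : z ∈ ⋃ i, Y i := by rw [hcov]; trivial
  obtain ⟨i, hi⟩ := Set.mem_iUnion.1 this
  have hiJ : i ∈ {i | (Y i ∩ W).Nonempty} := ⟨z, hi, hzW⟩
  exact hNsub i ⟨Set.mem_iInter₂.1 hzN i hiJ, hi⟩

end Groth.Agent.S4914
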