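import Groth.Statements.S4925
-- import your own Groth.Agent.* helpers here

set_option autoImplicit false
open CategoryTheory AlgebraicGeometry
universe u v w
open EGA43

namespace Groth.Agent.S4925

/-- Let f : X ⟶ Y and g : Y ⟶ Z be morphisms of schemes and x a point of X. If f is universally open at
x and g is universally open at f x, then f ≫ g is universally open at x. -/
theorem result {X Y Z : Scheme.{u}} (f : X ⟶ Y) (g : Y ⟶ Z) (x : X)
    (hf : EGA43.IsUnivOpenAt f x) (hg : EGA43.IsUnivOpenAt g (f.base x)) :
    EGA43.IsUnivOpenAt (f ≫ g) x := by
  intro Z' g' x' hx'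
  have hinv_fst := Limits.pullbackRightPullbackFstIso_inv_fst g g' f
  have hinv_snd := Limits.pullbackRightPullbackFstIso_inv_snd_snd g g' f
  have hw1 : (Limits.pullback.fst f (Limits.pullback.fst g g')).base
      ((Limits.pullbackRightPullbackFstIso g g' f).inv.base x') = x := by
    have := congrArg (fun φ => φ.base x') hinv_fst
    exact this.trans hx'
  have h1 := hf _ (Limits.pullback.fst g g') _ hw1
  have hy : (Limits.pullback.fst g g').base
      ((Limits.pullback.snd f (Limits.pullback.fst g g')).base
        ((Limits.pullbackRightPullbackFstIso g g' f).inv.base x')) = f.base x := by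
    have := congrArg
      (fun φ => φ.base ((Limits.pullbackRightPullbackFstIso g g' f).inv.base x'))
      (Limits.pullback.condition (f := f) (g := Limits.pullback.fst g g'))
    rw [← hw1]
    exact this.symm
  have h2 := hg _ g' _ hy
  have h0 : IsOpenMap (Limits.pullbackRightPullbackFstIso g g' f).inv.base :=
    (Scheme.homeoOfIso (Limits.pullbackRightPullbackFstIso g g' f).symm).isOpenMap
  intro U hU
  have h3 := h2 _ (h1 _ (h0.image_mem_nhds hU))
  have himg : (Limits.pullback.snd (f ≫ g) g').base '' U =
      (Limits.pullback.snd g g').base ''
        ((Limits.pullback.snd f (Limits.pullback.fst g g')).base ''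
          ((Limits.pullbackRightPullbackFstIso g g' f).inv.base '' U)) := by
    rw [Set.image_image, Set.image_image]
    refine Set.image_congr' (fun u => ?_)
    exact (congrArg (fun φ => φ.base u) hinv_snd).symm
  have hpt : (Limits.pullback.snd (f ≫ g) g').base x' =
      (Limits.pullback.snd g g').base
        ((Limits.pullback.snd f (Limits.pullback.fst g g')).base
          ((Limits.pullbackRightPullbackFstIso g g' f).inv.base x')) :=
    (congrArg (fun φ => φ.base x') hinv_snd).symm
  rw [himg, hpt]
  exact h3

end Groth.Agent.S4925
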