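import Groth.Statements.S4926
-- import your own Groth.Agent.* helpers here

set_option autoImplicit false
open CategoryTheory AlgebraicGeometry
universe u v w
open EGA43

namespace Groth.Agent.S4926

/-- Let f : X ⟶ Y and g : Y ⟶ Z be morphisms of schemes and x a point of X. If f ≫ g is universally open
at x, then g is universally open at the point f x. -/
theorem result {X Y Z : Scheme.{u}} (f : X ⟶ Y) (g : Y ⟶ Z) (x : X)
    (h : EGA43.IsUnivOpenAt (f ≫ g) x) : EGA43.IsUnivOpenAt g (f.base x) := by
  intro Z' g' y' hy'
  obtain ⟨w, hw1, hw2⟩ := Scheme.Pullback.exists_preimage_pullback (f := f)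
    (g := Limits.pullback.fst g g') x y' hy'.symm
  have hw1' : (Limits.pullback.fst f (Limits.pullback.fst g g')).base w = x := hw1
  have hw2' : (Limits.pullback.snd f (Limits.pullback.fst g g')).base w = y' := hw2
  have hhom_fst := Limits.pullbackRightPullbackFstIso_hom_fst g g' f
  have hhom_snd := Limits.pullbackRightPullbackFstIso_hom_snd g g' f
  have hx'' : (Limits.pullback.fst (f ≫ g) g').base
      ((Limits.pullbackRightPullbackFstIso g g' f).hom.base w) = x := by
    have := congrArg (fun φ => φ.base w) hhom_fst
    exact this.trans hw1'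
  have h1 := h _ g' _ hx''
  intro V hV
  have hcont : Continuous (Limits.pullback.snd f (Limits.pullback.fst g g')).base :=
    (Limits.pullback.snd f (Limits.pullback.fst g g')).continuous
  have hV' : V ∈ nhds ((Limits.pullback.snd f (Limits.pullback.fst g g')).base w) := by
    rw [hw2']
    exact hV
  have hU' : (Limits.pullback.snd f (Limits.pullback.fst g g')).base ⁻¹' V ∈ nhds w :=
    hcont.continuousAt hV'
  have h0 : IsOpenMap (Limits.pullbackRightPullbackFstIso g g' f).hom.base :=
    (Scheme.homeoOfIso (Limits.pullbackRightPullbackFstIso g g' f)).isOpenMap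
  have h3 := h1 _ (h0.image_mem_nhds hU')
  have hpt : (Limits.pullback.snd (f ≫ g) g').base
      ((Limits.pullbackRightPullbackFstIso g g' f).hom.base w) =
      (Limits.pullback.snd g g').base y' := by
    have := congrArg (fun φ => φ.base w) hhom_snd
    rw [← hw2']
    exact this
  rw [hpt] at h3
  refine Filter.mem_of_superset h3 ?_
  rintro _ ⟨_, ⟨u, hu, rfl⟩, rfl⟩
  refine ⟨(Limits.pullback.snd f (Limits.pullback.fst g g')).base u, hu, ?_⟩
  exact (congrArg (fun φ => φ.base u) hhom_snd).symm

end Groth.Agent.S4926
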