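import Groth.Statements.S4927
-- import your own Groth.Agent.* helpers here

set_option autoImplicit false
open CategoryTheory AlgebraicGeometry
universe u v w
open EGA43

namespace Groth.Agent.S4927

open CategoryTheory.Limits in
/-- Let f : X ⟶ Y be a morphism of S-schemes (structure morphisms p and q) which is universally open at
the point x, and let g : S' ⟶ S be a morphism. Then the morphism X ×_S S' ⟶ Y ×_S S' induced by f is
universally open at every point of X ×_S S' lying over x. -/
theorem result {X Y S S' : Scheme.{u}} (p : X ⟶ S) (q : Y ⟶ S) (f : X ⟶ Y)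
    (g : S' ⟶ S) (e₁ : p ≫ 𝟙 S = f ≫ q) (e₂ : g ≫ 𝟙 S = 𝟙 S' ≫ g) (x : X) (h : EGA43.IsUnivOpenAt f x)
    (x' : ↥(pullback p g)) (hx' : (pullback.fst p g).base x' = x) :
    EGA43.IsUnivOpenAt (pullback.map p g q g f (𝟙 S') (𝟙 S) e₁ e₂) x' := by
  have L : ∀ {P A B B' : Scheme.{u}} (fst' : P ⟶ A) (snd' : P ⟶ B') (f : A ⟶ B) (g : B' ⟶ B),
      IsPullback fst' snd' f g → ∀ (a : A), EGA43.IsUnivOpenAt f a →
      ∀ t : P, fst'.base t = a → EGA43.IsUnivOpenAt snd' t := by
    intro P A B B' fst' snd' f g hpb a hf t ht Y'' g'' z hz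
    have hpb2 : IsPullback (Limits.pullback.fst snd' g'' ≫ fst') (Limits.pullback.snd snd' g'') f
        (g'' ≫ g) := (IsPullback.of_hasPullback snd' g'').paste_horiz hpb
    have he1 : hpb2.isoPullback.hom ≫ Limits.pullback.fst f (g'' ≫ g) =
        Limits.pullback.fst snd' g'' ≫ fst' := hpb2.isoPullback_hom_fst
    have he2 : hpb2.isoPullback.hom ≫ Limits.pullback.snd f (g'' ≫ g) =
        Limits.pullback.snd snd' g'' := hpb2.isoPullback_hom_snd
    have hpt : (Limits.pullback.fst f (g'' ≫ g)).base (hpb2.isoPullback.hom.base z) = a := by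
      have := congrArg (fun φ => φ.base z) he1
      refine this.trans ?_
      show fst'.base ((Limits.pullback.fst snd' g'').base z) = a
      rw [hz, ht]
    have h1 := hf _ (g'' ≫ g) _ hpt
    have h0 : IsOpenMap hpb2.isoPullback.hom.base := (Scheme.homeoOfIso hpb2.isoPullback).isOpenMap
    intro U hU
    have h3 := h1 _ (h0.image_mem_nhds hU)
    have himg : (Limits.pullback.snd snd' g'').base '' U =
        (Limits.pullback.snd f (g'' ≫ g)).base '' (hpb2.isoPullback.hom.base '' U) := by
      rw [Set.image_image]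
      refine Set.image_congr' (fun u => ?_)
      exact (congrArg (fun φ => φ.base u) he2).symm
    have hpt2 : (Limits.pullback.snd snd' g'').base z =
        (Limits.pullback.snd f (g'' ≫ g)).base (hpb2.isoPullback.hom.base z) :=
      (congrArg (fun φ => φ.base z) he2).symm
    rw [himg, hpt2]
    exact h3
  have hright : IsPullback (Limits.pullback.fst q g) (Limits.pullback.snd q g) q g :=
    IsPullback.of_hasPullback q g
  have houter : IsPullback (Limits.pullback.fst p g) (Limits.pullback.snd p g) p g :=
    IsPullback.of_hasPullback p g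
  have hmap_snd : Limits.pullback.map p g q g f (𝟙 S') (𝟙 S) e₁ e₂ ≫ Limits.pullback.snd q g =
      Limits.pullback.snd p g := by
    simp [Limits.pullback.map]
    exact Limits.pullback.lift_snd _ _ _
  have hmap_fst : Limits.pullback.map p g q g f (𝟙 S') (𝟙 S) e₁ e₂ ≫ Limits.pullback.fst q g =
      Limits.pullback.fst p g ≫ f := by
    simp [Limits.pullback.map]
    exact Limits.pullback.lift_fst _ _ _
  have hpq : p = f ≫ q := by simpa using e₁
  have hbig : IsPullback (Limits.pullback.map p g q g f (𝟙 S') (𝟙 S) e₁ e₂ ≫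
      Limits.pullback.snd q g) (Limits.pullback.fst p g) g (f ≫ q) := by
    rw [hmap_snd, ← hpq]
    exact houter.flip
  have hleft := (IsPullback.of_right hbig hmap_fst hright.flip).flip
  exact L _ _ _ _ hleft x h x' hx'

end Groth.Agent.S4927
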