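import Groth.Statements.S4929
-- import your own Groth.Agent.* helpers here

set_option autoImplicit false
open CategoryTheory AlgebraicGeometry
universe u v w
open EGA43

namespace Groth.Agent.S4929

open CategoryTheory.Limits in
/-- Let f : X ⟶ Y be a morphism of schemes, x a point of X, and (Y_i ⟶ Y) a finite family of closed
immersions whose images cover Y. If for every i the base change X ×_Y Y_i ⟶ Y_i is universally open
at every point lying over x, then f is universally open at x. -/
theorem result {X Y : Scheme.{u}} (f : X ⟶ Y) (x : X) {ι : Type w}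
    [Finite ι] (T : ι → Scheme.{u}) (g : ∀ i, T i ⟶ Y) [∀ i, IsClosedImmersion (g i)]
    (hcov : ⋃ i, Set.range (g i).base = Set.univ)
    (h : ∀ i, ∀ x' : ↥(pullback f (g i)), (pullback.fst f (g i)).base x' = x →
      EGA43.IsUnivOpenAt (pullback.snd f (g i)) x') :
    EGA43.IsUnivOpenAt f x := by
  have L' : ∀ {P A B B' : Scheme.{u}} (fst' : P ⟶ A) (snd' : P ⟶ B') (φ : A ⟶ B) (ψ : B' ⟶ B),
      IsPullback fst' snd' φ ψ → ∀ (a : A), EGA43.IsUnivOpenAt φ a →
      ∀ t : P, fst'.base t = a → EGA43.IsOpenAt snd'.base t := by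
    intro P A B B' fst' snd' φ ψ hpb a hφ t ht
    have he1 : hpb.isoPullback.hom ≫ Limits.pullback.fst φ ψ = fst' := hpb.isoPullback_hom_fst
    have he2 : hpb.isoPullback.hom ≫ Limits.pullback.snd φ ψ = snd' := hpb.isoPullback_hom_snd
    have hpt : (Limits.pullback.fst φ ψ).base (hpb.isoPullback.hom.base t) = a := by
      have := congrArg (fun χ => χ.base t) he1
      exact this.trans ht
    have h1 := hφ _ ψ _ hpt
    have h0 : IsOpenMap hpb.isoPullback.hom.base := (Scheme.homeoOfIso hpb.isoPullback).isOpenMap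
    intro U hU
    have h3 := h1 _ (h0.image_mem_nhds hU)
    have himg : snd'.base '' U =
        (Limits.pullback.snd φ ψ).base '' (hpb.isoPullback.hom.base '' U) := by
      rw [Set.image_image]
      refine Set.image_congr' (fun u => ?_)
      exact (congrArg (fun χ => χ.base u) he2).symm
    have hpt2 : snd'.base t = (Limits.pullback.snd φ ψ).base (hpb.isoPullback.hom.base t) :=
      (congrArg (fun χ => χ.base t) he2).symm
    rw [himg, hpt2]
    exact h3
  intro Y' γ x' hx'
  have A : ∀ i, ∀ z : ↥(Limits.pullback (Limits.pullback.snd f γ) (Limits.pullback.snd (g i) γ)), (Limits.pullback.fst (Limits.pullback.snd f γ) (Limits.pullback.snd (g i) γ)).base z = x' →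
      EGA43.IsOpenAt (Limits.pullback.snd (Limits.pullback.snd f γ) (Limits.pullback.snd (g i) γ)).base z := by
    intro i z hz
    have big₁ : IsPullback ((Limits.pullback.fst (Limits.pullback.snd f γ) (Limits.pullback.snd (g i) γ)) ≫ Limits.pullback.fst f γ) (Limits.pullback.snd (Limits.pullback.snd f γ) (Limits.pullback.snd (g i) γ)) f ((Limits.pullback.snd (g i) γ) ≫ γ) :=
      (IsPullback.of_hasPullback (Limits.pullback.snd f γ) (Limits.pullback.snd (g i) γ)).paste_horiz (IsPullback.of_hasPullback f γ)
    have hvg : (Limits.pullback.snd (g i) γ) ≫ γ = Limits.pullback.fst (g i) γ ≫ g i :=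
      (Limits.pullback.condition (f := g i) (g := γ)).symm
    have hcomm : ((Limits.pullback.fst (Limits.pullback.snd f γ) (Limits.pullback.snd (g i) γ)) ≫ Limits.pullback.fst f γ) ≫ f =
        ((Limits.pullback.snd (Limits.pullback.snd f γ) (Limits.pullback.snd (g i) γ)) ≫ Limits.pullback.fst (g i) γ) ≫ g i := by
      rw [big₁.w, hvg, Category.assoc]
    have ha1 : Limits.pullback.lift ((Limits.pullback.fst (Limits.pullback.snd f γ) (Limits.pullback.snd (g i) γ)) ≫ Limits.pullback.fst f γ)
        ((Limits.pullback.snd (Limits.pullback.snd f γ) (Limits.pullback.snd (g i) γ)) ≫ Limits.pullback.fst (g i) γ) hcomm ≫ Limits.pullback.fst f (g i) =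
        (Limits.pullback.fst (Limits.pullback.snd f γ) (Limits.pullback.snd (g i) γ)) ≫ Limits.pullback.fst f γ := Limits.pullback.lift_fst _ _ _
    have ha2 : Limits.pullback.lift ((Limits.pullback.fst (Limits.pullback.snd f γ) (Limits.pullback.snd (g i) γ)) ≫ Limits.pullback.fst f γ)
        ((Limits.pullback.snd (Limits.pullback.snd f γ) (Limits.pullback.snd (g i) γ)) ≫ Limits.pullback.fst (g i) γ) hcomm ≫ Limits.pullback.snd f (g i) =
        (Limits.pullback.snd (Limits.pullback.snd f γ) (Limits.pullback.snd (g i) γ)) ≫ Limits.pullback.fst (g i) γ := Limits.pullback.lift_snd _ _ _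
    have big : IsPullback (Limits.pullback.lift ((Limits.pullback.fst (Limits.pullback.snd f γ) (Limits.pullback.snd (g i) γ)) ≫ Limits.pullback.fst f γ)
        ((Limits.pullback.snd (Limits.pullback.snd f γ) (Limits.pullback.snd (g i) γ)) ≫ Limits.pullback.fst (g i) γ) hcomm ≫ Limits.pullback.fst f (g i)) (Limits.pullback.snd (Limits.pullback.snd f γ) (Limits.pullback.snd (g i) γ)) f
        (Limits.pullback.fst (g i) γ ≫ g i) := by
      rw [ha1, ← hvg]
      exact big₁
    have hsq := IsPullback.of_right big ha2 (IsPullback.of_hasPullback f (g i))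
    have hpt : (Limits.pullback.fst f (g i)).base
        ((Limits.pullback.lift ((Limits.pullback.fst (Limits.pullback.snd f γ) (Limits.pullback.snd (g i) γ)) ≫ Limits.pullback.fst f γ)
          ((Limits.pullback.snd (Limits.pullback.snd f γ) (Limits.pullback.snd (g i) γ)) ≫ Limits.pullback.fst (g i) γ) hcomm).base z) = x := by
      have := congrArg (fun χ => χ.base z) ha1
      refine this.trans ?_
      show (Limits.pullback.fst f γ).base ((Limits.pullback.fst (Limits.pullback.snd f γ) (Limits.pullback.snd (g i) γ)).base z) = x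
      rw [hz, hx']
    exact L' _ _ _ _ hsq _ (h i _ hpt) z rfl
  intro U hU
  have hW : ∀ i, ∀ t : ↥(Limits.pullback (g i) γ), (Limits.pullback.snd (g i) γ).base t = (Limits.pullback.snd f γ).base x' → ((Limits.pullback.snd (g i) γ).base ⁻¹' ((Limits.pullback.snd f γ).base '' U)) ∈ nhds t := by
    intro i t ht
    obtain ⟨z, hz1, hz2⟩ := Scheme.Pullback.exists_preimage_pullback (f := (Limits.pullback.snd f γ)) (g := (Limits.pullback.snd (g i) γ)) x' t
      ht.symm
    have hz1' : (Limits.pullback.fst (Limits.pullback.snd f γ) (Limits.pullback.snd (g i) γ)).base z = x' := hz1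
    have hz2' : (Limits.pullback.snd (Limits.pullback.snd f γ) (Limits.pullback.snd (g i) γ)).base z = t := hz2
    have hopen := A i z hz1'
    have hpre : (Limits.pullback.fst (Limits.pullback.snd f γ) (Limits.pullback.snd (g i) γ)).base ⁻¹' U ∈ nhds z := by
      have hc : Continuous (Limits.pullback.fst (Limits.pullback.snd f γ) (Limits.pullback.snd (g i) γ)).base := (Limits.pullback.fst (Limits.pullback.snd f γ) (Limits.pullback.snd (g i) γ)).continuous
      exact hc.continuousAt (by rw [hz1']; exact hU)
    have h3 := hopen _ hpre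
    rw [hz2'] at h3
    refine Filter.mem_of_superset h3 ?_
    rintro _ ⟨z', hz', rfl⟩
    refine ⟨(Limits.pullback.fst (Limits.pullback.snd f γ) (Limits.pullback.snd (g i) γ)).base z', hz', ?_⟩
    exact congrArg (fun χ => χ.base z') (Limits.pullback.condition (f := (Limits.pullback.snd f γ)) (g := (Limits.pullback.snd (g i) γ)))
  have hC : ∀ i, IsClosed ((Limits.pullback.snd (g i) γ).base '' (interior ((Limits.pullback.snd (g i) γ).base ⁻¹' ((Limits.pullback.snd f γ).base '' U)))ᶜ) := fun i =>
    (Limits.pullback.snd (g i) γ).isClosedEmbedding.isClosedMap _ isOpen_interior.isClosed_compl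
  have hy : ∀ i, (Limits.pullback.snd f γ).base x' ∉ (Limits.pullback.snd (g i) γ).base '' (interior ((Limits.pullback.snd (g i) γ).base ⁻¹' ((Limits.pullback.snd f γ).base '' U)))ᶜ := by
    rintro i ⟨t, ht, ht'⟩
    exact ht (mem_interior_iff_mem_nhds.mpr (hW i t ht'))
  have hnb : (⋂ i, ((Limits.pullback.snd (g i) γ).base '' (interior ((Limits.pullback.snd (g i) γ).base ⁻¹' ((Limits.pullback.snd f γ).base '' U)))ᶜ)ᶜ) ∈ nhds ((Limits.pullback.snd f γ).base x') :=
    Filter.iInter_mem.mpr (fun i => (hC i).isOpen_compl.mem_nhds (hy i))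
  refine Filter.mem_of_superset hnb ?_
  intro y'' hy''
  have hmem : γ.base y'' ∈ ⋃ i, Set.range (g i).base := by
    rw [hcov]
    trivial
  obtain ⟨i, t₀, ht₀⟩ := Set.mem_iUnion.mp hmem
  obtain ⟨t, ht1, ht2⟩ := Scheme.Pullback.exists_preimage_pullback (f := g i) (g := γ) t₀ y'' ht₀
  have ht2' : (Limits.pullback.snd (g i) γ).base t = y'' := ht2
  have hin : t ∈ interior ((Limits.pullback.snd (g i) γ).base ⁻¹' ((Limits.pullback.snd f γ).base '' U)) := by
    by_contra hcon
    exact (Set.mem_iInter.mp hy'' i) ⟨t, hcon, ht2'⟩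
  have hfin : t ∈ ((Limits.pullback.snd (g i) γ).base ⁻¹' ((Limits.pullback.snd f γ).base '' U)) := interior_subset hin
  rw [← ht2']
  exact hfin

end Groth.Agent.S4929
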