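import Groth.Statements.S4941
-- import your own Groth.Agent.* helpers here

set_option autoImplicit false
open CategoryTheory AlgebraicGeometry
universe u v w
open EGA43

namespace Groth.Agent.S4941

open CategoryTheory.Limits in
/-- Let v : Y₁ ⟶ Y be a surjective morphism of schemes whose underlying map is closed, f : X ⟶ Y a
morphism and x a point of X. If the base change f₁ : X ×_Y Y₁ ⟶ Y₁ is open at every point of X ×_Y
Y₁ lying over x, then f is open at x. -/
theorem result {X Y Y₁ : Scheme.{u}} (v : Y₁ ⟶ Y)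
    (hv : IsClosedMap v.base) [Surjective v] (f : X ⟶ Y) (x : X)
    (h : ∀ x₁ : ↥(pullback f v), (pullback.fst f v).base x₁ = x → EGA43.IsOpenAt (pullback.snd f v).base x₁) :
    EGA43.IsOpenAt f.base x := by
  intro U hU
  have hW : ∀ y₁ : ↥Y₁, v.base y₁ = f.base x → (v.base ⁻¹' (f.base '' U)) ∈ nhds y₁ := by
    intro y₁ hy₁
    obtain ⟨z, hz1, hz2⟩ := Scheme.Pullback.exists_preimage_pullback (f := f) (g := v) x y₁
      hy₁.symm
    have hz1' : (Limits.pullback.fst f v).base z = x := hz1
    have hz2' : (Limits.pullback.snd f v).base z = y₁ := hz2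
    have hopen := h z hz1'
    have hpre : (Limits.pullback.fst f v).base ⁻¹' U ∈ nhds z := by
      have hc : Continuous (Limits.pullback.fst f v).base := (Limits.pullback.fst f v).continuous
      exact hc.continuousAt (by rw [hz1']; exact hU)
    have h3 := hopen _ hpre
    rw [hz2'] at h3
    refine Filter.mem_of_superset h3 ?_
    rintro _ ⟨z', hz', rfl⟩
    refine ⟨(Limits.pullback.fst f v).base z', hz', ?_⟩
    exact congrArg (fun φ => φ.base z') (Limits.pullback.condition (f := f) (g := v))
  have hC : IsClosed (v.base '' (interior (v.base ⁻¹' (f.base '' U)))ᶜ) :=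
    hv _ isOpen_interior.isClosed_compl
  have hy : f.base x ∉ v.base '' (interior (v.base ⁻¹' (f.base '' U)))ᶜ := by
    rintro ⟨y₁, hy₁, hy₁'⟩
    exact hy₁ (mem_interior_iff_mem_nhds.mpr (hW y₁ hy₁'))
  have hnb : (v.base '' (interior (v.base ⁻¹' (f.base '' U)))ᶜ)ᶜ ∈ nhds (f.base x) :=
    hC.isOpen_compl.mem_nhds hy
  refine Filter.mem_of_superset hnb ?_
  intro y'' hy''
  obtain ⟨y₁, rfl⟩ := v.surjective y''
  have hin : y₁ ∈ interior (v.base ⁻¹' (f.base '' U)) := by
    by_contra hcon
    exact hy'' ⟨y₁, hcon, rfl⟩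
  have hfin : y₁ ∈ v.base ⁻¹' (f.base '' U) := interior_subset hin
  exact hfin

end Groth.Agent.S4941
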