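import Groth.Statements.S4942
import Groth.Agent.S4941

set_option autoImplicit false
open CategoryTheory AlgebraicGeometry
universe u v w
open EGA43

namespace Groth.Agent.S4942

open CategoryTheory.Limits in
/-- Let v : Y₁ ⟶ Y be a universally closed surjective morphism of schemes, f : X ⟶ Y a morphism and x a
point of X. If the base change f₁ : X ×_Y Y₁ ⟶ Y₁ is universally open at every point of X ×_Y Y₁
lying over x, then f is universally open at x. -/
theorem result {X Y Y₁ : Scheme.{u}} (v : Y₁ ⟶ Y)
    [UniversallyClosed v] [Surjective v] (f : X ⟶ Y) (x : X)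
    (h : ∀ x₁ : ↥(pullback f v), (pullback.fst f v).base x₁ = x → EGA43.IsUnivOpenAt (pullback.snd f v) x₁) :
    EGA43.IsUnivOpenAt f x := by
  have L' : ∀ {P A B B' : Scheme.{u}} (fst' : P ⟶ A) (snd' : P ⟶ B') (φ : A ⟶ B) (γ : B' ⟶ B),
      IsPullback fst' snd' φ γ → ∀ (a : A), EGA43.IsUnivOpenAt φ a →
      ∀ t : P, fst'.base t = a → EGA43.IsOpenAt snd'.base t := by
    intro P A B B' fst' snd' φ γ hpb a hφ t ht
    have he1 : hpb.isoPullback.hom ≫ Limits.pullback.fst φ γ = fst' := hpb.isoPullback_hom_fst
    have he2 : hpb.isoPullback.hom ≫ Limits.pullback.snd φ γ = snd' := hpb.isoPullback_hom_snd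
    have hpt : (Limits.pullback.fst φ γ).base (hpb.isoPullback.hom.base t) = a := by
      have := congrArg (fun ψ => ψ.base t) he1
      exact this.trans ht
    have h1 := hφ _ γ _ hpt
    have h0 : IsOpenMap hpb.isoPullback.hom.base := (Scheme.homeoOfIso hpb.isoPullback).isOpenMap
    intro U hU
    have h3 := h1 _ (h0.image_mem_nhds hU)
    have himg : snd'.base '' U =
        (Limits.pullback.snd φ γ).base '' (hpb.isoPullback.hom.base '' U) := by
      rw [Set.image_image]
      refine Set.image_congr' (fun u => ?_)
      exact (congrArg (fun ψ => ψ.base u) he2).symm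
    have hpt2 : snd'.base t = (Limits.pullback.snd φ γ).base (hpb.isoPullback.hom.base t) :=
      (congrArg (fun ψ => ψ.base t) he2).symm
    rw [himg, hpt2]
    exact h3
  intro Y' g x' hx'
  have hv' : IsClosedMap (Limits.pullback.snd v g).base := (Limits.pullback.snd v g).isClosedMap
  refine Groth.Agent.S4941.result (Limits.pullback.snd v g) hv' (Limits.pullback.snd f g) x' ?_
  intro z hz
  have big₁ : IsPullback ((Limits.pullback.fst (Limits.pullback.snd f g) (Limits.pullback.snd v g)) ≫ Limits.pullback.fst f g) (Limits.pullback.snd (Limits.pullback.snd f g) (Limits.pullback.snd v g)) f (Limits.pullback.snd v g ≫ g) :=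
    (IsPullback.of_hasPullback (Limits.pullback.snd f g) (Limits.pullback.snd v g)).paste_horiz
      (IsPullback.of_hasPullback f g)
  have hvg : Limits.pullback.snd v g ≫ g = Limits.pullback.fst v g ≫ v :=
    (Limits.pullback.condition (f := v) (g := g)).symm
  have hcomm : ((Limits.pullback.fst (Limits.pullback.snd f g) (Limits.pullback.snd v g)) ≫ Limits.pullback.fst f g) ≫ f = ((Limits.pullback.snd (Limits.pullback.snd f g) (Limits.pullback.snd v g)) ≫ Limits.pullback.fst v g) ≫ v := by
    rw [big₁.w, hvg, Category.assoc]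
  have ha1 : Limits.pullback.lift ((Limits.pullback.fst (Limits.pullback.snd f g) (Limits.pullback.snd v g)) ≫ Limits.pullback.fst f g) ((Limits.pullback.snd (Limits.pullback.snd f g) (Limits.pullback.snd v g)) ≫ Limits.pullback.fst v g)
      hcomm ≫ Limits.pullback.fst f v = (Limits.pullback.fst (Limits.pullback.snd f g) (Limits.pullback.snd v g)) ≫ Limits.pullback.fst f g :=
    Limits.pullback.lift_fst _ _ _
  have ha2 : Limits.pullback.lift ((Limits.pullback.fst (Limits.pullback.snd f g) (Limits.pullback.snd v g)) ≫ Limits.pullback.fst f g) ((Limits.pullback.snd (Limits.pullback.snd f g) (Limits.pullback.snd v g)) ≫ Limits.pullback.fst v g)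
      hcomm ≫ Limits.pullback.snd f v = (Limits.pullback.snd (Limits.pullback.snd f g) (Limits.pullback.snd v g)) ≫ Limits.pullback.fst v g :=
    Limits.pullback.lift_snd _ _ _
  have big : IsPullback (Limits.pullback.lift ((Limits.pullback.fst (Limits.pullback.snd f g) (Limits.pullback.snd v g)) ≫ Limits.pullback.fst f g)
      ((Limits.pullback.snd (Limits.pullback.snd f g) (Limits.pullback.snd v g)) ≫ Limits.pullback.fst v g) hcomm ≫ Limits.pullback.fst f v) (Limits.pullback.snd (Limits.pullback.snd f g) (Limits.pullback.snd v g)) f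
      (Limits.pullback.fst v g ≫ v) := by
    rw [ha1, ← hvg]
    exact big₁
  have hsq := IsPullback.of_right big ha2 (IsPullback.of_hasPullback f v)
  have hpt : (Limits.pullback.fst f v).base ((Limits.pullback.lift ((Limits.pullback.fst (Limits.pullback.snd f g) (Limits.pullback.snd v g)) ≫ Limits.pullback.fst f g)
      ((Limits.pullback.snd (Limits.pullback.snd f g) (Limits.pullback.snd v g)) ≫ Limits.pullback.fst v g) hcomm).base z) = x := by
    have := congrArg (fun ψ => ψ.base z) ha1
    refine this.trans ?_
    show (Limits.pullback.fst f g).base ((Limits.pullback.fst (Limits.pullback.snd f g) (Limits.pullback.snd v g)).base z) = x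
    rw [hz, hx']
  exact L' _ _ _ _ hsq _ (h _ hpt) z rfl

end Groth.Agent.S4942
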