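import Groth.Statements.S4951
-- import your own Groth.Agent.* helpers here

set_option autoImplicit false
universe u
open EGA43

theorem exists_gen {X : Type u} [TopologicalSpace X] [QuasiSober X]
    (hloc : ∀ x : X, ∃ U ∈ nhds x, TopologicalSpace.NoetherianSpace ↥U)
    {B : Set X} (hB : IsOpen B) {x : X} (hx : x ∈ closure B) : ∃ η ∈ B, η ⤳ x := by
  obtain ⟨U, hU, hN⟩ := hloc x
  have hxV : x ∈ interior U := mem_interior_iff_mem_nhds.2 hU
  haveI : TopologicalSpace.NoetherianSpace ↥(interior U) :=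
    TopologicalSpace.NoetherianSpace.of_subset (interior_subset : interior U ⊆ U)
  set V := interior U with hVdef
  have hVo : IsOpen V := isOpen_interior
  let B' : Set ↥V := Subtype.val ⁻¹' B
  obtain ⟨S, hSf, hSc, hSi, hSU⟩ :=
    TopologicalSpace.NoetherianSpace.exists_finite_set_isClosed_irreducible
      (isClosed_closure : IsClosed (closure B'))
  let S' : Set (Set ↥V) := {T ∈ S | (T ∩ B').Nonempty}
  have hS'f : S'.Finite := hSf.subset (fun T hT => hT.1)
  have hcl : IsClosed (⋃₀ S') := by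
    rw [Set.sUnion_eq_biUnion]
    exact hS'f.isClosed_biUnion (fun T hT => hSc T hT.1)
  have hB'sub : B' ⊆ ⋃₀ S' := by
    intro b hb
    have h1 : b ∈ ⋃₀ S := hSU ▸ subset_closure hb
    obtain ⟨T, hT, hbT⟩ := h1
    exact ⟨T, ⟨hT, ⟨b, hbT, hb⟩⟩, hbT⟩
  have hxcl : (⟨x, hxV⟩ : ↥V) ∈ closure B' := by
    rw [closure_subtype]
    have h1 : (Subtype.val '' B' : Set X) = V ∩ B := Subtype.image_preimage_coe V B
    rw [h1]
    exact hVo.inter_closure ⟨hxV, hx⟩
  obtain ⟨T, ⟨hTS, ⟨b, hbT, hbB⟩⟩, hxT⟩ := closure_minimal hB'sub hcl hxcl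
  have hTirr : IsIrreducible (Subtype.val '' T : Set X) :=
    (hSi T hTS).image _ continuous_subtype_val.continuousOn
  have hη : IsGenericPoint hTirr.genericPoint (closure (Subtype.val '' T)) :=
    hTirr.isGenericPoint_genericPoint_closure
  refine ⟨hTirr.genericPoint, ?_, ?_⟩
  · rw [hη.mem_open_set_iff hB]
    exact ⟨b.1, subset_closure ⟨b, hbT, rfl⟩, hbB⟩
  · exact hη.specializes (subset_closure ⟨⟨x, hxV⟩, hxT, rfl⟩)

theorem exists_max_pt {X : Type u} [TopologicalSpace X] [QuasiSober X] [T0Space X]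
    {F : Set X} (hF : IsClosed F) {x₀ : X} (hx₀ : x₀ ∈ F) :
    ∃ x ∈ F, x ⤳ x₀ ∧ ∀ x' ∈ F, x' ⤳ x → x' = x := by
  let T : Set ↥F := irreducibleComponent (⟨x₀, hx₀⟩ : ↥F)
  have hTirr : IsIrreducible T := isIrreducible_irreducibleComponent
  have hTcl : IsClosed T := isClosed_irreducibleComponent
  have hTX : IsIrreducible (Subtype.val '' T : Set X) :=
    hTirr.image _ continuous_subtype_val.continuousOn
  have hTXcl : IsClosed (Subtype.val '' T : Set X) := hF.isClosedMap_subtype_val _ hTcl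
  have hx : IsGenericPoint hTX.genericPoint (Subtype.val '' T) :=
    hTX.isGenericPoint_genericPoint hTXcl
  have hxF : hTX.genericPoint ∈ F := by
    obtain ⟨t, _, ht⟩ := hx.mem
    rw [← ht]; exact t.2
  refine ⟨hTX.genericPoint, hxF, hx.specializes ⟨⟨x₀, hx₀⟩, mem_irreducibleComponent, rfl⟩, ?_⟩
  intro x' hx'F hx'x
  have hu : IsPreirreducible (closure {(⟨x', hx'F⟩ : ↥F)}) :=
    (isIrreducible_singleton.closure).isPreirreducible
  have hTu : T ⊆ closure {(⟨x', hx'F⟩ : ↥F)} := by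
    intro t ht
    rw [closure_subtype, Set.image_singleton]
    have h1 : (t : X) ∈ closure {hTX.genericPoint} := by rw [hx.def]; exact ⟨t, ht, rfl⟩
    exact specializes_iff_mem_closure.1 (hx'x.trans (specializes_iff_mem_closure.2 h1))
  have huT : closure {(⟨x', hx'F⟩ : ↥F)} = T := eq_irreducibleComponent hu hTu
  have hx'T : (⟨x', hx'F⟩ : ↥F) ∈ T := huT ▸ subset_closure (Set.mem_singleton _)
  have h2 : hTX.genericPoint ⤳ x' := hx.specializes ⟨_, hx'T, rfl⟩
  exact (hx'x.antisymm h2).eq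

namespace Groth.Agent.S4951

/-- Let X be a locally Noetherian topological space in which every irreducible closed subset has a
unique generic point (X quasi-sober and T₀), and Z a closed nowhere dense subset of X such that for
every point x of Z the set of generizations of x distinct from x is connected (possibly empty). If X
is connected, then X − Z is connected. (Uniqueness of generic points, automatic for the underlying
space of a scheme, is needed: in the four-point space {u, v, z₁, z₂} whose open sets are ∅, {u},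
{v}, {u, v} and the whole space, the closed nowhere dense set Z = {z₁, z₂} satisfies the hypothesis,
since z₂ is a generization of z₁ and conversely, yet X − Z = {u, v} is not connected.) -/
theorem result {X : Type u} [TopologicalSpace X]
    [QuasiSober X] [T0Space X] (hloc : ∀ x : X, ∃ U ∈ nhds x, TopologicalSpace.NoetherianSpace ↥U) [ConnectedSpace X]
    (Z : Set X) (hZ : IsClosed Z) (hZn : IsNowhereDense Z)
    (hgen : ∀ x ∈ Z, IsPreconnected ({x' : X | x' ⤳ x} \ {x})) :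
    IsConnected Zᶜ := by
  have hdense : Dense Zᶜ := (isClosed_isNowhereDense_iff_compl.1 ⟨hZ, hZn⟩).2
  have hZo : IsOpen Zᶜ := hZ.isOpen_compl
  refine ⟨hdense.nonempty, ?_⟩
  intro u v hu hv huv hnu hnv
  by_contra hcon
  have hdisj : Zᶜ ∩ (u ∩ v) = ∅ := Set.not_nonempty_iff_eq_empty.1 hcon
  have hAo : IsOpen (Zᶜ ∩ u) := hZo.inter hu
  have hBo : IsOpen (Zᶜ ∩ v) := hZo.inter hv
  have hAB : (Zᶜ ∩ u) ∩ (Zᶜ ∩ v) = ∅ := by
    rw [← hdisj]; ext y
    simp only [Set.mem_inter_iff]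
    tauto
  have hAuB : (Zᶜ ∩ u) ∪ (Zᶜ ∩ v) = Zᶜ := by
    ext y; constructor
    · rintro (h | h) <;> exact h.1
    · intro h; rcases huv h with h' | h'
      · exact Or.inl ⟨h, h'⟩
      · exact Or.inr ⟨h, h'⟩
  have hcover : closure (Zᶜ ∩ u) ∪ closure (Zᶜ ∩ v) = Set.univ := by
    rw [← closure_union, hAuB]; exact hdense.closure_eq
  have hpre : IsPreconnected (Set.univ : Set X) := isPreconnected_univ
  obtain ⟨x₀, -, hx₀A, hx₀B⟩ := (isPreconnected_closed_iff.1 hpre) (closure (Zᶜ ∩ u))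
    (closure (Zᶜ ∩ v)) isClosed_closure isClosed_closure (by rw [hcover])
    ⟨_, Set.mem_univ _, subset_closure hnu.some_mem⟩
    ⟨_, Set.mem_univ _, subset_closure hnv.some_mem⟩
  have hFZ : ∀ y, y ∈ closure (Zᶜ ∩ u) → y ∈ closure (Zᶜ ∩ v) → y ∈ Z := by
    intro y hyA hyB
    by_contra hyZ
    have h0 : y ∈ (Zᶜ ∩ u) ∪ (Zᶜ ∩ v) := by rw [hAuB]; exact hyZ
    rcases h0 with h | h
    · obtain ⟨z, hz1, hz2⟩ := mem_closure_iff.1 hyB _ hAo h
      have h3 : z ∈ (Zᶜ ∩ u) ∩ (Zᶜ ∩ v) := ⟨hz1, hz2⟩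
      rw [hAB] at h3; exact h3
    · obtain ⟨z, hz1, hz2⟩ := mem_closure_iff.1 hyA _ hBo h
      have h3 : z ∈ (Zᶜ ∩ u) ∩ (Zᶜ ∩ v) := ⟨hz2, hz1⟩
      rw [hAB] at h3; exact h3
  obtain ⟨x, hxF, -, hmax⟩ := exists_max_pt
    (isClosed_closure.inter isClosed_closure :
      IsClosed (closure (Zᶜ ∩ u) ∩ closure (Zᶜ ∩ v))) ⟨hx₀A, hx₀B⟩
  have hxZ : x ∈ Z := hFZ x hxF.1 hxF.2
  obtain ⟨η₁, hη₁A, hη₁⟩ := exists_gen hloc hAo hxF.1
  obtain ⟨η₂, hη₂B, hη₂⟩ := exists_gen hloc hBo hxF.2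
  have hne₁ : η₁ ≠ x := by
    intro h; rw [h] at hη₁A; exact hη₁A.1 hxZ
  have hne₂ : η₂ ≠ x := by
    intro h; rw [h] at hη₂B; exact hη₂B.1 hxZ
  have hG := hgen x hxZ
  obtain ⟨y, ⟨hyx, hyne⟩, hyA, hyB⟩ := (isPreconnected_closed_iff.1 hG) (closure (Zᶜ ∩ u))
    (closure (Zᶜ ∩ v)) isClosed_closure isClosed_closure
    (by rw [hcover]; exact Set.subset_univ _)
    ⟨η₁, ⟨hη₁, hne₁⟩, subset_closure hη₁A⟩ ⟨η₂, ⟨hη₂, hne₂⟩, subset_closure hη₂B⟩
  exact hyne (hmax y ⟨hyA, hyB⟩ hyx)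

end Groth.Agent.S4951
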