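import Groth.Statements.S4959
import Mathlib

set_option autoImplicit false
open CategoryTheory AlgebraicGeometry
universe u v w
open EGA43

namespace Groth.Agent.S4959

open CategoryTheory.Limits in
theorem usub_of_comp {A X Y : Scheme.{u}} (a : A ⟶ X) (f : X ⟶ Y)
    (h : MorphismProperty.universally (topologically @Topology.IsQuotientMap) (a ≫ f)) :
    MorphismProperty.universally (topologically @Topology.IsQuotientMap) f := by
  intro X' Y' i₁ i₂ f' H
  have sq1 : IsPullback (pullback.snd a i₁) (pullback.fst a i₁) i₁ a :=
    (IsPullback.of_hasPullback a i₁).flip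
  have sq2 := sq1.paste_horiz H
  have hq : Topology.IsQuotientMap (pullback.snd a i₁ ≫ f').base := h _ _ _ sq2
  rw [Scheme.Hom.comp_base, TopCat.coe_comp] at hq
  exact Topology.IsQuotientMap.of_comp (pullback.snd a i₁).continuous f'.continuous hq

open CategoryTheory.Limits in
theorem usub_comp {P Y' Y : Scheme.{u}} (s : P ⟶ Y') (g : Y' ⟶ Y)
    (hs : MorphismProperty.universally (topologically @Topology.IsQuotientMap) s)
    (hg : MorphismProperty.universally (topologically @Topology.IsQuotientMap) g) :
    MorphismProperty.universally (topologically @Topology.IsQuotientMap) (s ≫ g) := by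
  intro P' T i₁ i₂ k H
  have hw : (i₁ ≫ s) ≫ g = k ≫ i₂ := by rw [Category.assoc, H.w]
  have hk : pullback.lift (i₁ ≫ s) k hw ≫ pullback.snd g i₂ = k := pullback.lift_snd _ _ _
  have hfst : pullback.lift (i₁ ≫ s) k hw ≫ pullback.fst g i₂ = i₁ ≫ s := pullback.lift_fst _ _ _
  have sqR : IsPullback (pullback.snd g i₂) (pullback.fst g i₂) i₂ g :=
    (IsPullback.of_hasPullback g i₂).flip
  have H' : IsPullback (pullback.lift (i₁ ≫ s) k hw ≫ pullback.snd g i₂) i₁ i₂ (s ≫ g) := by
    rw [hk]; exact H
  have sqL : IsPullback (pullback.lift (i₁ ≫ s) k hw) i₁ (pullback.fst g i₂) s :=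
    IsPullback.of_right H' hfst sqR
  have h1 : Topology.IsQuotientMap (pullback.lift (i₁ ≫ s) k hw).base := hs _ _ _ sqL
  have h2 : Topology.IsQuotientMap (pullback.snd g i₂).base := hg _ _ _ sqR
  have h3 : Topology.IsQuotientMap (pullback.lift (i₁ ≫ s) k hw ≫ pullback.snd g i₂).base := by
    rw [Scheme.Hom.comp_base, TopCat.coe_comp]
    exact h2.comp h1
  rw [hk] at h3
  exact h3

open CategoryTheory.Limits in
theorem usub_of_surjective {Y' Y : Scheme.{u}} (g : Y' ⟶ Y) [Surjective g]
    (hg : IsProper g ∨ (Flat g ∧ QuasiCompact g)) :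
    MorphismProperty.universally (topologically @Topology.IsQuotientMap) g := by
  intro T' T i₁ i₂ g' H
  haveI : Surjective g' := MorphismProperty.of_isPullback (P := @Surjective) H.flip inferInstance
  rcases hg with hp | ⟨hfl, hqc⟩
  · haveI : UniversallyClosed g' :=
      MorphismProperty.of_isPullback (P := @UniversallyClosed) H.flip inferInstance
    exact IsClosedMap.isQuotientMap g'.isClosedMap g'.continuous g'.surjective
  · haveI : Flat g' := MorphismProperty.of_isPullback (P := @Flat) H.flip hfl
    haveI : QuasiCompact g' := MorphismProperty.of_isPullback (P := @QuasiCompact) H.flip hqc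
    exact Flat.isQuotientMap_of_surjective g'

open CategoryTheory.Limits in
/-- Let f : X ⟶ Y be a morphism of schemes and g : Y' ⟶ Y a surjective morphism which is either proper,
or flat and quasi-compact. If the base change f' : X ×_Y Y' ⟶ Y' is universally submersive (all of
its base changes are topological quotient maps), then f is universally submersive. -/
theorem result {X Y Y' : Scheme.{u}} (f : X ⟶ Y) (g : Y' ⟶ Y) [Surjective g]
    (hg : IsProper g ∨ (Flat g ∧ QuasiCompact g))
    (h : MorphismProperty.universally (topologically @Topology.IsQuotientMap) (pullback.snd f g)) :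
    MorphismProperty.universally (topologically @Topology.IsQuotientMap) f := by
  have h1 := usub_comp (pullback.snd f g) g h (usub_of_surjective g hg)
  rw [← pullback.condition] at h1
  exact usub_of_comp _ _ h1

end Groth.Agent.S4959
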