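import Groth.Statements.S4971
import Mathlib

set_option autoImplicit false
universe u
open EGA43

namespace Groth.Agent.S4971

/-- Let B be a Noetherian local ring, M, N, P three B-modules with N finitely generated, u : M → N and v
: N → P linear maps with v ∘ u = 0, and t an element of the maximal ideal of B which is P-regular.
If the induced sequence M/tM → N/tN → P/tP is exact, then M → N → P is exact. -/
theorem result {B : Type u} [CommRing B] [IsNoetherianRing B] [IsLocalRing B]
    {M N P : Type u} [AddCommGroup M] [Module B M] [AddCommGroup N] [Module B N] [Module.Finite B N]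
    [AddCommGroup P] [Module B P] (u : M →ₗ[B] N) (v : N →ₗ[B] P) (huv : v ∘ₗ u = 0) (t : B)
    (ht : t ∈ IsLocalRing.maximalIdeal B) (hreg : IsSMulRegular P t)
    (hu : (Ideal.span {t} • ⊤ : Submodule B M) ≤ (Ideal.span {t} • ⊤ : Submodule B N).comap u)
    (hv : (Ideal.span {t} • ⊤ : Submodule B N) ≤ (Ideal.span {t} • ⊤ : Submodule B P).comap v)
    (hex : LinearMap.ker ((Ideal.span {t} • ⊤ : Submodule B N).mapQ (Ideal.span {t} • ⊤ : Submodule B P) v hv) ≤
      LinearMap.range ((Ideal.span {t} • ⊤ : Submodule B M).mapQ (Ideal.span {t} • ⊤ : Submodule B N) u hu)) :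
    LinearMap.ker v ≤ LinearMap.range u := by
  haveI : IsNoetherian B N := isNoetherian_of_isNoetherianRing_of_finite B N
  have hfg : (LinearMap.ker v).FG := IsNoetherian.noetherian _
  have hjac : Ideal.span {t} ≤ (⊥ : Ideal B).jacobson := by
    rw [IsLocalRing.jacobson_eq_maximalIdeal ⊥ bot_ne_top, Ideal.span_le,
      Set.singleton_subset_iff]
    exact ht
  refine Submodule.le_of_le_smul_of_le_jacobson_bot hfg hjac ?_
  intro y hy
  rw [LinearMap.mem_ker] at hy
  have h1 : (Submodule.Quotient.mk y : N ⧸ (Ideal.span {t} • ⊤ : Submodule B N)) ∈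
      LinearMap.ker ((Ideal.span {t} • ⊤ : Submodule B N).mapQ
        (Ideal.span {t} • ⊤ : Submodule B P) v hv) := by
    rw [LinearMap.mem_ker, Submodule.mapQ_apply, hy, Submodule.Quotient.mk_zero]
  obtain ⟨xbar, hx⟩ := hex h1
  obtain ⟨x, rfl⟩ := Submodule.Quotient.mk_surjective _ xbar
  rw [Submodule.mapQ_apply, Submodule.Quotient.eq] at hx
  rw [Submodule.ideal_span_singleton_smul, Submodule.mem_smul_pointwise_iff_exists] at hx
  obtain ⟨z, -, hz⟩ := hx
  have hvz : v z = 0 := by
    have h2 : t • v z = t • (0 : P) := by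
      rw [← map_smul, hz, map_sub, hy, ← LinearMap.comp_apply, huv, LinearMap.zero_apply,
        sub_self, smul_zero]
    exact hreg h2
  have hyeq : y = u x - t • z := by rw [hz]; abel
  rw [hyeq]
  refine Submodule.sub_mem _ (Submodule.mem_sup_left (LinearMap.mem_range_self u x))
    (Submodule.mem_sup_right ?_)
  exact Submodule.smul_mem_smul (Ideal.mem_span_singleton_self t) (LinearMap.mem_ker.2 hvz)

end Groth.Agent.S4971
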