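import Groth.Statements.S4988
import Mathlib

set_option autoImplicit false
universe u
open CategoryTheory CategoryTheory.Limits AlgebraicGeometry TopologicalSpace
open Unram17

namespace Groth.Agent.S4988

lemma eq_locus {X Y S : Scheme.{u}} (p : Y ⟶ S) (f g : X ⟶ Y) (hfg : f ≫ p = g ≫ p) :
    ∃ (E : Scheme.{u}) (ι : E ⟶ X), ι ≫ f = ι ≫ g ∧
      (∀ {T : Scheme.{u}} (k : T ⟶ X), k ≫ f = k ≫ g → ∃ l : T ⟶ E, l ≫ ι = k) ∧
      (IsOpenImmersion (pullback.diagonal p) → IsOpenImmersion ι) ∧
      (IsClosedImmersion (pullback.diagonal p) → IsClosedImmersion ι) := by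
  refine ⟨pullback (pullback.lift f g hfg) (pullback.diagonal p), pullback.fst _ _, ?_, ?_, ?_, ?_⟩
  · have h := pullback.condition (f := pullback.lift f g hfg) (g := pullback.diagonal p)
    have h1 := congrArg (fun k => k ≫ pullback.fst p p) h
    have h2 := congrArg (fun k => k ≫ pullback.snd p p) h
    simp only [Category.assoc, pullback.lift_fst, pullback.lift_snd, pullback.diagonal_fst,
      pullback.diagonal_snd, Category.comp_id] at h1 h2
    rw [h1, h2]
  · intro T k hk
    have hc : k ≫ pullback.lift f g hfg = (k ≫ f) ≫ pullback.diagonal p := by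
      apply pullback.hom_ext
      · rw [Category.assoc, pullback.lift_fst, Category.assoc, pullback.diagonal_fst,
          Category.comp_id]
      · rw [Category.assoc, pullback.lift_snd, Category.assoc, pullback.diagonal_snd,
          Category.comp_id, hk]
    exact ⟨pullback.lift k (k ≫ f) hc, pullback.lift_fst _ _ _⟩
  · intro h
    infer_instance
  · intro h
    exact MorphismProperty.pullback_fst (P := @IsClosedImmersion) _ _ h

/-- Let h : Y ⟶ S be formally unramified, locally of finite type and separated, let f, g : X ⟶ Y be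
morphisms over S whose common composite X ⟶ S is both open and closed as a map of topological
spaces, and let s be a point of S. If f and g have the same restriction to the scheme-theoretic
fibre of X over s, then there is an open and closed subset V of S containing s such that f and g
agree on the preimage of V; in particular f = g when S is connected. -/
theorem result {X Y S : Scheme.{u}} (h : Y ⟶ S)
    [FormallyUnramified h] [LocallyOfFiniteType h] [IsSeparated h]
    (f g : X ⟶ Y) (w : g ≫ h = f ≫ h)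
    (ho : IsOpenMap (f ≫ h).base) (hc : IsClosedMap (f ≫ h).base) (s : ↥S)
    (hs : (f ≫ h).fiberι s ≫ f = (f ≫ h).fiberι s ≫ g) :
    ∃ V : S.Opens, IsClosed (V : Set ↥S) ∧ s ∈ V ∧
      ((f ≫ h) ⁻¹ᵁ V).ι ≫ f = ((f ≫ h) ⁻¹ᵁ V).ι ≫ g := by
  obtain ⟨E, ι, hι, hlift, hopen, hclosed⟩ := eq_locus h f g w.symm
  haveI : IsOpenImmersion ι := hopen inferInstance
  haveI : IsClosedImmersion ι := hclosed IsSeparated.isClosedImmersion_diagonal
  have hC : IsClosed ((f ≫ h).base '' (Set.range ι)ᶜ) :=
    hc _ ι.isOpenEmbedding.isOpen_range.isClosed_compl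
  have hO : IsOpen ((f ≫ h).base '' (Set.range ι)ᶜ) :=
    ho _ ι.isClosedEmbedding.isClosed_range.isOpen_compl
  obtain ⟨V, hV⟩ : ∃ V : S.Opens, (V : Set S) = ((f ≫ h).base '' (Set.range ι)ᶜ)ᶜ :=
    ⟨⟨_, hC.isOpen_compl⟩, rfl⟩
  refine ⟨V, ?_, ?_, ?_⟩
  · rw [hV]
    exact hO.isClosed_compl
  · change s ∈ (V : Set S)
    rw [hV]
    rintro ⟨x, hx, hxs⟩
    apply hx
    obtain ⟨l, hl⟩ := hlift ((f ≫ h).fiberι s) hs
    have hx' : x ∈ Set.range ((f ≫ h).fiberι s) := by
      rw [Scheme.Hom.range_fiberι]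
      exact hxs
    obtain ⟨t, ht⟩ := hx'
    refine ⟨l t, ?_⟩
    have h3 := congrArg (fun k : (f ≫ h).fiber s ⟶ X => k t) hl
    exact h3.trans ht
  · have hr : Set.range ((f ≫ h) ⁻¹ᵁ V).ι ⊆ Set.range ι := by
      rw [Scheme.Opens.range_ι]
      intro x hx
      by_contra hn
      have hx2 : (f ≫ h).base x ∈ (V : Set S) := hx
      rw [hV] at hx2
      exact hx2 ⟨x, hn, rfl⟩
    rw [← IsOpenImmersion.lift_fac ι _ hr, Category.assoc, Category.assoc, hι]

end Groth.Agent.S4988
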