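import Groth.Statements.S4998
import Mathlib

set_option autoImplicit false
universe u
open Unram17

namespace Groth.Agent.S4998

/-- Let A be an algebra of finite type over a field k. Then A is formally unramified over k if and only
if A is finite over k and every element of A has separable minimal polynomial over k (equivalently,
A is a finite product of finite separable extensions of k). -/
theorem result (k A : Type u) [Field k] [CommRing A]
    [Algebra k A] [Algebra.FiniteType k A] :
    Algebra.FormallyUnramified k A ↔ Module.Finite k A ∧ Algebra.IsSeparable k A := by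
  classical
  constructor
  · intro hU
    have hE : Algebra.FormallyEtale k A :=
      Algebra.FormallyEtale.iff_formallyUnramified_of_field.2 hU
    obtain ⟨I, hI, Ai, hF, hAlg, e, hsep⟩ :=
      (Algebra.FormallyEtale.iff_exists_algEquiv_prod k A).1 hE
    have hfin : Module.Finite k A := Algebra.FormallyUnramified.finite_of_free k A
    refine ⟨hfin, ⟨fun x => ?_⟩⟩
    haveI := Fintype.ofFinite I
    have hint : ∀ i, IsIntegral k (e x i) := fun i => Algebra.IsSeparable.isIntegral k (e x i)
    have hsepi : ∀ i, (minpoly k (e x i)).Separable :=
      fun i => Algebra.IsSeparable.isSeparable k (e x i)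
    have hPsep : (∏ p ∈ Finset.univ.image (fun i => minpoly k (e x i)), (id p : Polynomial k)).Separable := by
      apply Polynomial.separable_prod'
      · intro p hp q hq hne
        obtain ⟨i, -, rfl⟩ := Finset.mem_image.1 hp
        obtain ⟨j, -, rfl⟩ := Finset.mem_image.1 hq
        show IsCoprime (minpoly k (e x i)) (minpoly k (e x j))
        rw [(minpoly.irreducible (hint i)).coprime_iff_not_dvd]
        intro hdvd
        exact hne (Polynomial.eq_of_monic_of_associated (minpoly.monic (hint i))
          (minpoly.monic (hint j))
          ((minpoly.irreducible (hint i)).associated_of_dvd (minpoly.irreducible (hint j)) hdvd))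
      · intro p hp
        obtain ⟨i, -, rfl⟩ := Finset.mem_image.1 hp
        exact hsepi i
    have hzero : Polynomial.aeval (e x)
        (∏ p ∈ Finset.univ.image (fun i => minpoly k (e x i)), (id p : Polynomial k)) = 0 := by
      funext i
      have h1 := Polynomial.aeval_algHom_apply (Pi.evalAlgHom k Ai i) (e x)
        (∏ p ∈ Finset.univ.image (fun i => minpoly k (e x i)), (id p : Polynomial k))
      have h2 : Polynomial.aeval (e x i)
          (∏ p ∈ Finset.univ.image (fun i => minpoly k (e x i)), (id p : Polynomial k)) = 0 :=
        Polynomial.aeval_eq_zero_of_dvd_aeval_eq_zero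
          (Finset.dvd_prod_of_mem id (Finset.mem_image_of_mem _ (Finset.mem_univ i)))
          (minpoly.aeval k (e x i))
      have h3 : (Pi.evalAlgHom k Ai i) (e x) = e x i := rfl
      rw [h3, h2] at h1
      exact h1.symm
    have hzero' : Polynomial.aeval x
        (∏ p ∈ Finset.univ.image (fun i => minpoly k (e x i)), (id p : Polynomial k)) = 0 := by
      apply e.injective
      rw [map_zero]
      have h := Polynomial.aeval_algHom_apply (e : A →ₐ[k] (∀ i, Ai i)) x
        (∏ p ∈ Finset.univ.image (fun i => minpoly k (e x i)), (id p : Polynomial k))
      exact h.symm.trans hzero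
    exact hPsep.of_dvd (minpoly.dvd k x hzero')
  · rintro ⟨hfin, hsep⟩
    haveI : IsArtinianRing A := isArtinian_of_tower k inferInstance
    haveI : IsReduced A := by
      constructor
      rintro x ⟨n, hn⟩
      rcases Nat.eq_zero_or_pos n with rfl | hpos
      · rw [pow_zero] at hn
        haveI := subsingleton_of_zero_eq_one hn.symm
        exact Subsingleton.elim _ _
      · have hsq : Squarefree (minpoly k x) := (Algebra.IsSeparable.isSeparable k x).squarefree
        have h1 : minpoly k x ∣ (Polynomial.X : Polynomial k) ^ n :=
          minpoly.dvd k x (by simp [hn])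
        have h2 : minpoly k x ∣ (Polynomial.X : Polynomial k) :=
          (hsq.dvd_pow_iff_dvd hpos.ne').1 h1
        have h3 := Polynomial.aeval_eq_zero_of_dvd_aeval_eq_zero h2 (minpoly.aeval k x)
        simpa using h3
    letI : ∀ m : MaximalSpectrum A, Field (A ⧸ m.asIdeal) :=
      fun m => IsArtinianRing.fieldOfSubtypeIsMaximal A m
    have hfac : ∀ m : MaximalSpectrum A, Algebra.FormallyUnramified k (A ⧸ m.asIdeal) := by
      intro m
      haveI : Algebra.IsSeparable k (A ⧸ m.asIdeal) := by
        constructor
        intro y
        obtain ⟨x, rfl⟩ := Ideal.Quotient.mk_surjective y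
        have h1 : Polynomial.aeval (Ideal.Quotient.mk m.asIdeal x) (minpoly k x) = 0 := by
          have h2 := Polynomial.aeval_algHom_apply (Ideal.Quotient.mkₐ k m.asIdeal) x (minpoly k x)
          rw [minpoly.aeval, map_zero] at h2
          exact h2
        exact (Algebra.IsSeparable.isSeparable k x).of_dvd (minpoly.dvd k _ h1)
      exact Algebra.FormallyUnramified.of_isSeparable k (A ⧸ m.asIdeal)
    have hpi : Algebra.FormallyUnramified k (∀ m : MaximalSpectrum A, A ⧸ m.asIdeal) :=
      (Algebra.FormallyUnramified.pi_iff _).2 hfac
    exact Algebra.FormallyUnramified.of_equiv ((IsArtinianRing.equivPi A).restrictScalars k).symm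

end Groth.Agent.S4998
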