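import Groth.Statements.S5006
import Mathlib

set_option autoImplicit false
universe u
open Nrm16

namespace Groth.Agent.S5006

/-- Let A be a commutative ring, I a finitely generated ideal and p a prime ideal containing I. Then
some basic open neighbourhood of p in Spec A is contained in the closed set V(I) (so that V(I) ⟶
Spec A is a local homeomorphism onto an open set near p) if and only if there is an integer n > 0
with I^n A_p = I^(n+1) A_p in the local ring at p. Affine form. -/
theorem result (A : Type u) [CommRing A] (I : Ideal A) (hI : I.FG)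
    (p : Ideal A) [p.IsPrime] (hp : I ≤ p) :
    (∃ f : A, f ∉ p ∧ ∀ q : Ideal A, q.IsPrime → f ∉ q → I ≤ q) ↔
      ∃ n : ℕ, 0 < n ∧
        (I ^ n).map (algebraMap A (Localization.AtPrime p)) =
          (I ^ (n + 1)).map (algebraMap A (Localization.AtPrime p)) := by
  constructor
  · rintro ⟨f, hfp, hf⟩
    have h1 : I * Ideal.span {f} ≤ nilradical A := by
      rw [nilradical_eq_sInf]
      refine le_sInf (fun q hq => ?_)
      by_cases hfq : f ∈ q
      · exact Ideal.mul_le_right.trans ((Ideal.span_singleton_le_iff_mem (I := q)).mpr hfq)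
      · exact Ideal.mul_le_left.trans (hf q hq hfq)
    have hfg : (I * Ideal.span {f}).FG := hI.mul (Submodule.fg_span_singleton f)
    obtain ⟨n, hn⟩ := (hfg.isNilpotent_iff_le_nilradical).mpr h1
    have hzero : ∀ m, n ≤ m → (I ^ m).map (algebraMap A (Localization.AtPrime p)) = ⊥ := by
      intro m hm
      rw [Ideal.map_eq_bot_iff_le_ker]
      intro x hx
      rw [RingHom.mem_ker]
      have h2 : x * f ^ m ∈ (I * Ideal.span {f}) ^ m := by
        rw [mul_pow, Ideal.span_singleton_pow]
        exact Ideal.mul_mem_mul hx (Ideal.mem_span_singleton_self _)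
      have h3 : (I * Ideal.span {f}) ^ m = ⊥ := by
        rw [← Nat.sub_add_cancel hm, pow_add, hn, Ideal.zero_eq_bot, Ideal.mul_bot]
      rw [h3, Ideal.mem_bot] at h2
      have h4 := congrArg (algebraMap A (Localization.AtPrime p)) h2
      rw [map_mul, map_zero, map_pow] at h4
      have hu : IsUnit (algebraMap A (Localization.AtPrime p) f) :=
        IsLocalization.map_units _ (⟨f, hfp⟩ : p.primeCompl)
      exact (hu.pow m).mul_left_eq_zero.mp h4
    exact ⟨n + 1, Nat.succ_pos n,
      by rw [hzero (n+1) (Nat.le_succ n), hzero (n + 1 + 1) (by omega)]⟩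
  · rintro ⟨n, hn0, hn⟩
    set J := (I ^ n).map (algebraMap A (Localization.AtPrime p)) with hJ
    have hJfg : J.FG := (hI.pow).map _
    have hle : I.map (algebraMap A (Localization.AtPrime p)) ≤
        (⊥ : Ideal (Localization.AtPrime p)).jacobson := by
      rw [IsLocalRing.jacobson_eq_maximalIdeal ⊥ bot_ne_top,
        ← IsLocalization.AtPrime.map_eq_maximalIdeal p (Localization.AtPrime p)]
      exact Ideal.map_mono hp
    have hJle : J ≤ I.map (algebraMap A (Localization.AtPrime p)) • J := by
      have hJeq : J = I.map (algebraMap A (Localization.AtPrime p)) * J := by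
        nth_rewrite 1 [hn]
        rw [pow_succ', Ideal.map_mul]
      rw [smul_eq_mul]; exact hJeq.le
    have hJbot : J = ⊥ := Submodule.eq_bot_of_le_smul_of_le_jacobson_bot _ J hJfg hJle hle
    obtain ⟨S, hS⟩ := (hI.pow (n := n))
    have hex : ∀ x ∈ S, ∃ s : p.primeCompl, (s : A) * x = 0 := by
      intro x hx
      have hxI : x ∈ I ^ n := hS ▸ Ideal.subset_span hx
      have : algebraMap A (Localization.AtPrime p) x = 0 := by
        have : algebraMap A (Localization.AtPrime p) x ∈ J := Ideal.mem_map_of_mem _ hxI
        rwa [hJbot, Ideal.mem_bot] at this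
      obtain ⟨s, hs⟩ :=
        (IsLocalization.map_eq_zero_iff p.primeCompl (Localization.AtPrime p) x).mp this
      exact ⟨s, hs⟩
    choose! s hs using hex
    refine ⟨∏ x ∈ S, (s x : A), ?_, ?_⟩
    · have : (∏ x ∈ S, (s x : A)) ∈ p.primeCompl := Submonoid.prod_mem _ (fun x _ => (s x).2)
      exact this
    · intro q hq hfq
      have hkill : ∀ y ∈ I ^ n, (∏ x ∈ S, (s x : A)) * y = 0 := by
        intro y hy
        rw [← hS] at hy
        refine Submodule.span_induction ?_ ?_ ?_ ?_ hy
        · intro x hx
          obtain ⟨c, hc⟩ := Finset.dvd_prod_of_mem (fun x => (s x : A)) hx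
          rw [hc, mul_comm _ c, mul_assoc, hs x hx, mul_zero]
        · simp
        · intro a b _ _ ha hb; rw [mul_add, ha, hb, add_zero]
        · intro a b _ hb; rw [smul_eq_mul, mul_left_comm, hb, mul_zero]
      intro a ha
      have h1 : a ^ n ∈ I ^ n := Ideal.pow_mem_pow ha n
      have h2 := hkill _ h1
      have h3 : (∏ x ∈ S, (s x : A)) * a ^ n ∈ q := h2 ▸ q.zero_mem
      rcases hq.mem_or_mem h3 with h | h
      · exact absurd h hfq
      · exact hq.mem_of_pow_mem n h

end Groth.Agent.S5006
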