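import Groth.Statements.S5014
-- import your own Groth.Agent.* helpers here

set_option autoImplicit false
universe u
open Unram17

namespace Groth.Agent.S5014

/-- Let C be a smooth algebra over a commutative ring A, equipped with an A-algebra map from the
polynomial ring in r variables (images s_i of the variables), and let q be a prime of C. Then C is
etale at q over the polynomial ring if and only if the differentials of the s_i are linearly
independent and generate the module of differentials of the local ring C_q over A, i.e. form a basis
of it. -/
theorem result (A C : Type u) [CommRing A] [CommRing C]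
    [Algebra A C] [Algebra.Smooth A C] (r : ℕ) [Algebra (MvPolynomial (Fin r) A) C]
    [IsScalarTower A (MvPolynomial (Fin r) A) C] (q : Ideal C) [q.IsPrime] :
    Algebra.IsEtaleAt (MvPolynomial (Fin r) A) q ↔
      LinearIndependent (Localization.AtPrime q)
          (fun i : Fin r => KaehlerDifferential.D A (Localization.AtPrime q)
            (algebraMap C (Localization.AtPrime q) (algebraMap (MvPolynomial (Fin r) A) C (MvPolynomial.X i)))) ∧
        Submodule.span (Localization.AtPrime q)
          (Set.range fun i : Fin r => KaehlerDifferential.D A (Localization.AtPrime q)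
            (algebraMap C (Localization.AtPrime q) (algebraMap (MvPolynomial (Fin r) A) C (MvPolynomial.X i)))) = ⊤ := by
  classical
  haveI : Algebra.FormallySmooth A C := inferInstance
  haveI : Algebra.FormallySmooth C (Localization.AtPrime q) :=
    Algebra.FormallySmooth.of_isLocalization q.primeCompl
  haveI : Algebra.FormallySmooth A (Localization.AtPrime q) :=
    Algebra.FormallySmooth.comp A C (Localization.AtPrime q)
  have h1 : Function.Injective
      (Algebra.H1Cotangent.δ A (MvPolynomial (Fin r) A) (Localization.AtPrime q)) := by
    rw [← LinearMap.ker_eq_bot,
      (Algebra.H1Cotangent.exact_map_δ A (MvPolynomial (Fin r) A)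
        (Localization.AtPrime q)).linearMap_ker_eq, LinearMap.range_eq_bot]
    refine LinearMap.ext fun x => ?_
    rw [Subsingleton.elim x 0, map_zero, map_zero]
  have key : Algebra.FormallyEtale (MvPolynomial (Fin r) A) (Localization.AtPrime q) ↔
      Function.Bijective (KaehlerDifferential.mapBaseChange A (MvPolynomial (Fin r) A)
        (Localization.AtPrime q)) := by
    constructor
    · intro h
      constructor
      · rw [← LinearMap.ker_eq_bot,
          (Algebra.H1Cotangent.exact_δ_mapBaseChange A (MvPolynomial (Fin r) A)
            (Localization.AtPrime q)).linearMap_ker_eq, LinearMap.range_eq_bot]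
        refine LinearMap.ext fun x => ?_
        rw [Subsingleton.elim x 0, map_zero, map_zero]
      · rw [← LinearMap.range_eq_top, KaehlerDifferential.range_mapBaseChange,
          LinearMap.ker_eq_top]
        exact LinearMap.ext fun x => Subsingleton.elim _ _
    · rintro ⟨hinj, hsurj⟩
      refine ⟨⟨fun a b => ?_⟩, ⟨fun a b => ?_⟩⟩
      · have hz : ∀ y : KaehlerDifferential (MvPolynomial (Fin r) A) (Localization.AtPrime q),
            y = 0 := by
          intro y
          obtain ⟨x, rfl⟩ := KaehlerDifferential.map_surjective A (MvPolynomial (Fin r) A)
            (Localization.AtPrime q) y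
          obtain ⟨z, rfl⟩ := hsurj x
          exact (KaehlerDifferential.exact_mapBaseChange_map A (MvPolynomial (Fin r) A)
            (Localization.AtPrime q)).apply_apply_eq_zero z
        rw [hz a, hz b]
      · have hz : ∀ y : Algebra.H1Cotangent (MvPolynomial (Fin r) A) (Localization.AtPrime q),
            y = 0 := by
          intro y
          apply h1
          rw [map_zero]
          apply hinj
          rw [map_zero]
          exact (Algebra.H1Cotangent.exact_δ_mapBaseChange A (MvPolynomial (Fin r) A)
            (Localization.AtPrime q)).apply_apply_eq_zero y
        rw [hz a, hz b]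
  let b := (KaehlerDifferential.mvPolynomialBasis A (Fin r)).baseChange (Localization.AtPrime q)
  let v : Fin r → KaehlerDifferential A (Localization.AtPrime q) := fun i =>
    KaehlerDifferential.D A (Localization.AtPrime q)
      (algebraMap C (Localization.AtPrime q)
        (algebraMap (MvPolynomial (Fin r) A) C (MvPolynomial.X i)))
  have hφb : ∀ i, KaehlerDifferential.mapBaseChange A (MvPolynomial (Fin r) A)
      (Localization.AtPrime q) (b i) = v i := by
    intro i
    simp only [b, v, Module.Basis.baseChange_apply, KaehlerDifferential.mapBaseChange_tmul,
      one_smul, KaehlerDifferential.mvPolynomialBasis_apply, KaehlerDifferential.map_D]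
    rw [IsScalarTower.algebraMap_apply (MvPolynomial (Fin r) A) C (Localization.AtPrime q)]
  have hφ : KaehlerDifferential.mapBaseChange A (MvPolynomial (Fin r) A)
      (Localization.AtPrime q) =
      (Finsupp.linearCombination (Localization.AtPrime q) v) ∘ₗ b.repr.toLinearMap := by
    refine b.ext fun i => ?_
    rw [hφb i, LinearMap.comp_apply, LinearEquiv.coe_coe, b.repr_self,
      Finsupp.linearCombination_single, one_smul]
  have hinj_iff : Function.Injective (KaehlerDifferential.mapBaseChange A
      (MvPolynomial (Fin r) A) (Localization.AtPrime q)) ↔
      LinearIndependent (Localization.AtPrime q) v := by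
    rw [hφ, LinearMap.coe_comp, LinearEquiv.coe_coe,
      Function.Injective.of_comp_iff' _ b.repr.bijective]
    exact Iff.rfl
  have hsurj_iff : Function.Surjective (KaehlerDifferential.mapBaseChange A
      (MvPolynomial (Fin r) A) (Localization.AtPrime q)) ↔
      Submodule.span (Localization.AtPrime q) (Set.range v) = ⊤ := by
    rw [hφ, LinearMap.coe_comp, LinearEquiv.coe_coe,
      Function.Surjective.of_comp_iff _ b.repr.surjective, ← LinearMap.range_eq_top,
      Finsupp.range_linearCombination]
  show Algebra.FormallyEtale (MvPolynomial (Fin r) A) (Localization.AtPrime q) ↔ _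
  rw [key]
  exact ⟨fun h => ⟨hinj_iff.mp h.1, hsurj_iff.mp h.2⟩,
    fun h => ⟨hinj_iff.mpr h.1, hsurj_iff.mpr h.2⟩⟩

end Groth.Agent.S5014
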