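import Groth.Statements.S5033
import Mathlib
import Groth.Agent.Lib.helper2.RegIdeal2

set_option autoImplicit false
universe u
open CInt

namespace Groth.Agent.S5033

/-- Let A be a Noetherian local ring and J an ideal such that A/J is a regular local ring. Then A is a
regular local ring if and only if J is generated by a regular sequence of A. -/
theorem result (A : Type u) [CommRing A] [IsNoetherianRing A]
    [IsLocalRing A] (J : Ideal A) [IsRegularLocalRing (A ⧸ J)] :
    IsRegularLocalRing A ↔ CInt.IsRegularIdeal J := by
  classical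
  have hJne : J ≠ ⊤ := by
    intro h
    haveI : Nontrivial (A ⧸ J) := inferInstance
    exact (Ideal.Quotient.nontrivial_iff.1 this) h
  have hJle : J ≤ IsLocalRing.maximalIdeal A := IsLocalRing.le_maximalIdeal hJne
  have hmap : (IsLocalRing.maximalIdeal A).map (Ideal.Quotient.mk J) =
      IsLocalRing.maximalIdeal (A ⧸ J) := by
    have hmax : ((IsLocalRing.maximalIdeal A).map (Ideal.Quotient.mk J)).IsMaximal :=
      Ideal.IsMaximal.map_of_surjective_of_ker_le Ideal.Quotient.mk_surjective
        (by rw [Ideal.mk_ker]; exact hJle)
    exact IsLocalRing.eq_maximalIdeal hmax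
  constructor
  · intro hA
    obtain ⟨ks, hks, hksK⟩ := h2_maxIdeal_regular A
    obtain ⟨sb, hsb, hsbK⟩ := h2_maxIdeal_regular (A ⧸ J)
    obtain ⟨xs, hxs, hxsJ, -⟩ := h2_regular_ideal_of_quotient A J (IsLocalRing.maximalIdeal A)
      hJle le_rfl ks hks hksK sb hsb (hsbK.trans hmap.symm)
    exact ⟨xs, hxs, hxsJ⟩
  · rintro ⟨rs, hrs, hrsJ⟩
    have hdim := ringKrullDim_add_length_eq_ringKrullDim_of_isRegular rs hrs
    rw [hrsJ] at hdim
    apply IsRegularLocalRing.of_spanFinrank_maximalIdeal_le
    have hB : ((IsLocalRing.maximalIdeal (A ⧸ J)).spanFinrank : WithBot ℕ∞) =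
        ringKrullDim (A ⧸ J) := IsRegularLocalRing.spanFinrank_maximalIdeal
    obtain ⟨t, ht1, ht2⟩ := Submodule.FG.exists_span_finset_card_eq_spanFinrank
      (Ideal.fg_of_isNoetherianRing (IsLocalRing.maximalIdeal (A ⧸ J)))
    choose lift hlift using fun b : A ⧸ J => Ideal.Quotient.mk_surjective b
    let s : Set A := {x | x ∈ rs} ∪ lift '' (t : Set (A ⧸ J))
    have hsfin : s.Finite := (List.finite_toSet rs).union ((Finset.finite_toSet t).image _)
    have hJs : J ≤ Ideal.span s := by
      rw [← hrsJ]
      exact Ideal.span_mono Set.subset_union_left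
    have hgen : IsLocalRing.maximalIdeal A = Ideal.span s := by
      apply le_antisymm
      · intro x hx
        have h1 : Ideal.Quotient.mk J x ∈ Ideal.span ((t : Set (A ⧸ J))) := by
          have : Ideal.Quotient.mk J x ∈ IsLocalRing.maximalIdeal (A ⧸ J) := by
            rw [← hmap]; exact Ideal.mem_map_of_mem _ hx
          rw [← ht2] at this
          exact this
        have h2 : Ideal.span ((t : Set (A ⧸ J))) ≤ (Ideal.span s).map (Ideal.Quotient.mk J) := by
          rw [Ideal.span_le]
          intro b hb
          have : lift b ∈ Ideal.span s := Ideal.subset_span (Or.inr ⟨b, hb, rfl⟩)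
          have h3 := Ideal.mem_map_of_mem (Ideal.Quotient.mk J) this
          rwa [hlift b] at h3
        have h4 := h2 h1
        rw [Ideal.mem_map_iff_of_surjective _ Ideal.Quotient.mk_surjective] at h4
        obtain ⟨y, hy, hxy⟩ := h4
        have h5 : x - y ∈ J := by
          rw [← Ideal.Quotient.eq_zero_iff_mem, map_sub, hxy, sub_self]
        have h6 : x = y + (x - y) := by ring
        rw [h6]
        exact add_mem hy (hJs h5)
      · rw [Ideal.span_le]
        rintro x (hx | ⟨b, hb, rfl⟩)
        · apply hJle
          rw [← hrsJ]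
          exact Ideal.subset_span hx
        · have hb' : b ∈ IsLocalRing.maximalIdeal (A ⧸ J) := by
            rw [← ht2]; exact Ideal.subset_span hb
          rw [← hmap, Ideal.mem_map_iff_of_surjective _ Ideal.Quotient.mk_surjective] at hb'
          obtain ⟨y, hy, hyb⟩ := hb'
          have h5 : lift b - y ∈ J := by
            rw [← Ideal.Quotient.eq_zero_iff_mem, map_sub, hlift b, hyb, sub_self]
          have h6 : lift b = y + (lift b - y) := by ring
          rw [h6]
          exact add_mem hy (hJle h5)
    have hcard : (IsLocalRing.maximalIdeal A).spanFinrank ≤ rs.length + t.card := by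
      rw [hgen]
      refine (Submodule.spanFinrank_span_le_ncard_of_finite hsfin).trans ?_
      refine (Set.ncard_union_le _ _).trans ?_
      refine add_le_add ?_ ?_
      · have : {x | x ∈ rs} = ((rs.toFinset : Finset A) : Set A) := by ext; simp
        rw [this, Set.ncard_coe_finset]
        exact List.toFinset_card_le rs
      · refine (Set.ncard_image_le (Finset.finite_toSet t)).trans ?_
        rw [Set.ncard_coe_finset]
    calc ((IsLocalRing.maximalIdeal A).spanFinrank : WithBot ℕ∞)
        ≤ ((rs.length + t.card : ℕ) : WithBot ℕ∞) := by exact_mod_cast hcard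
      _ = ringKrullDim A := by
        rw [← hdim, ← hB, ← ht1]
        push_cast
        ring

end Groth.Agent.S5033
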