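import Groth.Statements.S5034
import Groth.Agent.Lib.helper1.HenselIdem

set_option autoImplicit false
universe u
open Hensel

open Polynomial
namespace Groth.Agent.S5034

/-- a') implies a): let R be a local ring such that for every monic polynomial F over R the quotient
ring R[T]/(F) is isomorphic, as a ring, to a finite product of local rings. Then R is henselian. -/
theorem result (R : Type u) [CommRing R] [IsLocalRing R]
    (h : ∀ F : Polynomial R, F.Monic →
      ∃ (ι : Type u) (_ : Fintype ι) (A : ι → Type u) (_ : ∀ i, CommRing (A i)),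
        (∀ i, IsLocalRing (A i)) ∧ Nonempty (AdjoinRoot F ≃+* (∀ i, A i))) :
    HenselianLocalRing R := by
  classical
  have hjac : IsLocalRing.maximalIdeal R ≤ Ideal.jacobson ⊥ :=
    IsLocalRing.maximalIdeal_le_jacobson _
  have hH : HenselianRing R (IsLocalRing.maximalIdeal R) := by
    apply Helper1.henselianRing_of_idempotent_lift _ hjac
    intro f hf b hb
    obtain ⟨ι, _, A, _, hloc, ⟨φ⟩⟩ := h f hf
    haveI := hloc
    let e' : ∀ i, A i := fun i => if IsUnit (φ b i) then 1 else 0
    let y : ∀ i, A i := fun i =>
      if h : IsUnit (φ b i) then -(↑(h.unit⁻¹) : A i) else Ring.inverse (1 - φ b i)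
    have he' : e' * e' = e' := by
      funext i
      simp only [Pi.mul_apply, e']
      split_ifs <;> simp
    have hxy : e' - φ b = (φ b * φ b - φ b) * y := by
      funext i
      simp only [Pi.sub_apply, Pi.mul_apply, e', y]
      by_cases hu : IsUnit (φ b i)
      · rw [if_pos hu, dif_pos hu]
        have h1 : φ b i * ↑(hu.unit⁻¹) = 1 := hu.mul_val_inv
        linear_combination (φ b i - 1) * h1
      · rw [if_neg hu, dif_neg hu]
        have hu' : IsUnit (1 - φ b i) :=
          (IsLocalRing.isUnit_or_isUnit_one_sub_self (φ b i)).resolve_left hu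
        have h1 : (1 - φ b i) * Ring.inverse (1 - φ b i) = 1 := Ring.mul_inverse_cancel _ hu'
        linear_combination (φ b i) * h1
    refine ⟨φ.symm e', ?_, ?_⟩
    · show φ.symm e' * φ.symm e' = φ.symm e'
      rw [← map_mul, he']
    · have h2 : φ.symm e' - b = (b * b - b) * φ.symm y := by
        apply φ.injective
        rw [map_sub, map_mul, map_sub, map_mul, RingEquiv.apply_symm_apply,
          RingEquiv.apply_symm_apply]
        exact hxy
      rw [h2]
      exact Ideal.mul_mem_right _ _ hb
  exact { is_henselian := fun f hf a₀ h₁ h₂ => HenselianRing.is_henselian f hf a₀ h₁ (h₂.map _) }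

end Groth.Agent.S5034
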