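import Groth.Statements.S5048
import Mathlib
import Groth.Agent.S4650

set_option autoImplicit false
open CategoryTheory AlgebraicGeometry
universe u
open Unram

namespace Groth.Agent.S5048

/-- Let Y be an irreducible scheme with generic point η and f : X ⟶ Y flat, locally of finite type and
locally quasi-finite. Then a point x of X maps to η if and only if its closure is an irreducible
component of X; thus the irreducible components of X are in canonical bijection with the fibre over
η. -/
theorem result {X Y : Scheme.{u}} [IrreducibleSpace ↥Y] (f : X ⟶ Y)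
    [Flat f] [LocallyOfFiniteType f] [LocallyQuasiFinite f] (x : X) :
    f.base x = genericPoint Y ↔ closure ({x} : Set ↥X) ∈ irreducibleComponents ↥X := by
  have hgen : GeneralizingMap f := Flat.generalizingMap f
  change f x = genericPoint Y ↔ _
  constructor
  · intro hx
    refine ⟨isIrreducible_singleton.closure, ?_⟩
    intro T hT hle
    obtain ⟨ξ, hξ⟩ := QuasiSober.sober hT.closure isClosed_closure
    have hξT : closure {ξ} = closure T := hξ.def
    have hxT : x ∈ closure {ξ} := by rw [hξT]; exact subset_closure (hle (subset_closure rfl))
    have hsp : ξ ⤳ x := specializes_iff_mem_closure.mpr hxT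
    have hfsp : f ξ ⤳ f x := hsp.map f.continuous
    have hη : f ξ = genericPoint Y := by
      have h1 : genericPoint Y ⤳ f ξ := (genericPoint_spec Y).specializes (by trivial)
      rw [hx] at hfsp
      exact (h1.antisymm hfsp).eq.symm
    have hdisc := (f.isDiscrete_preimage_singleton (genericPoint Y)).to_subtype
    have hxmem : x ∈ f ⁻¹' {genericPoint Y} := hx
    have hξmem : ξ ∈ f ⁻¹' {genericPoint Y} := hη
    have hopen : IsOpen ({⟨x, hxmem⟩} : Set (f ⁻¹' {genericPoint Y})) := isOpen_discrete _
    obtain ⟨U, hU, hUeq⟩ := isOpen_induced_iff.mp hopen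
    have hxU : x ∈ U := by
      have : (⟨x, hxmem⟩ : f ⁻¹' {genericPoint Y}) ∈ Subtype.val ⁻¹' U := by rw [hUeq]; rfl
      exact this
    have hξU : ξ ∈ U := hsp.mem_open hU hxU
    have : (⟨ξ, hξmem⟩ : f ⁻¹' {genericPoint Y}) ∈ ({⟨x, hxmem⟩} : Set _) := by
      rw [← hUeq]; exact hξU
    have hξx : ξ = x := congrArg Subtype.val (Set.mem_singleton_iff.mp this)
    calc T ⊆ closure T := subset_closure
      _ = closure {ξ} := hξT.symm
      _ = closure {x} := by rw [hξx]
  · intro hx
    have h1 := Groth.Agent.S4650.result f hgen _ hx
    rw [irreducibleComponents_eq_singleton, Set.mem_singleton_iff] at h1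
    have h2 : closure {f x} = Set.univ := by
      apply Set.eq_univ_of_univ_subset
      rw [← h1]
      apply closure_minimal _ isClosed_closure
      refine (image_closure_subset_closure_image f.continuous).trans ?_
      rw [Set.image_singleton]
    have h3 : IsGenericPoint (f x) Set.univ := h2
    exact (h3.eq (genericPoint_spec Y))

end Groth.Agent.S5048
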