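import Groth.Statements.S5050
import Mathlib

set_option autoImplicit false
universe u v
open CInt

namespace Groth.Agent.S5050

/-- Let A be a Noetherian ring, N a finitely generated A-module, E and F submodules of N and Q an ideal
of A. For every natural number k there is h > 0 with E ⊓ (F ⊔ Q^h N) ≤ (E ⊓ F) ⊔ Q^k N. -/
theorem result {A : Type u} [CommRing A] [IsNoetherianRing A] {N : Type v} [AddCommGroup N]
    [Module A N] [Module.Finite A N] (E F : Submodule A N) (Q : Ideal A) (k : ℕ) :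
    ∃ h : ℕ, 0 < h ∧ E ⊓ (F ⊔ Q ^ h • (⊤ : Submodule A N)) ≤ (E ⊓ F) ⊔ Q ^ k • (⊤ : Submodule A N) := by
  obtain ⟨c, hc⟩ := Ideal.exists_pow_inf_eq_pow_smul Q (E.map F.mkQ)
  refine ⟨k + c + 1, Nat.succ_pos _, ?_⟩
  rintro x ⟨hxE, hxF⟩
  have h1 : F.mkQ x ∈ (Q ^ (k + c + 1) • ⊤ : Submodule A (N ⧸ F)) ⊓ E.map F.mkQ := by
    refine ⟨?_, Submodule.mem_map_of_mem hxE⟩
    obtain ⟨f, hf, q, hq, rfl⟩ := Submodule.mem_sup.mp hxF
    have hf0 : F.mkQ f = 0 := (Submodule.Quotient.mk_eq_zero F).mpr hf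
    rw [map_add, hf0, zero_add]
    have : (Q ^ (k + c + 1) • ⊤ : Submodule A N).map F.mkQ = Q ^ (k + c + 1) • ⊤ := by
      rw [Submodule.map_smul'', Submodule.map_top, Submodule.range_mkQ]
    rw [← this]; exact Submodule.mem_map_of_mem hq
  rw [hc (k + c + 1) (by omega)] at h1
  have h2 : F.mkQ x ∈ (Q ^ k • E).map F.mkQ := by
    rw [Submodule.map_smul'']
    have : k + c + 1 - c = k + 1 := by omega
    rw [this] at h1
    have h3 : Q ^ (k+1) • ((Q ^ c • ⊤ : Submodule A (N ⧸ F)) ⊓ E.map F.mkQ) ≤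
        Q ^ k • E.map F.mkQ :=
      Submodule.smul_mono (Ideal.pow_le_pow_right (Nat.le_succ k)) inf_le_right
    exact h3 h1
  obtain ⟨y, hy, hyx⟩ := h2
  have hyE : y ∈ E := Submodule.smul_le_right hy
  have hyQ : y ∈ (Q ^ k • ⊤ : Submodule A N) := Submodule.smul_mono (le_refl _) le_top hy
  have hxy : x - y ∈ F := by
    rw [← Submodule.Quotient.mk_eq_zero F, Submodule.Quotient.mk_sub]
    have : F.mkQ y = F.mkQ x := hyx
    simp only [Submodule.mkQ_apply] at this
    rw [this, sub_self]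
  have : x = (x - y) + y := by abel
  rw [this]
  exact Submodule.add_mem_sup ⟨E.sub_mem hxE hyE, hxy⟩ hyQ

end Groth.Agent.S5050
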