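import Groth.Statements.S5057
import Mathlib

set_option autoImplicit false
open CategoryTheory CategoryTheory.Limits AlgebraicGeometry
universe u
open Hensel

namespace Groth.Agent.S5057

/-- Let i : S₀ ⟶ S be a closed immersion such that for every finite morphism g : S' ⟶ S every
open-closed subset of S' ×_S S₀ is the inverse image under the first projection of exactly one
open-closed subset of S'. Then for every finite morphism g : S' ⟶ S, every open subset of S'
containing the image of S' ×_S S₀ is all of S'. -/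
theorem result {S S₀ : Scheme.{u}} (i : S₀ ⟶ S) [IsClosedImmersion i]
    (ha : ∀ (S' : Scheme.{u}) (g : S' ⟶ S), IsFinite g →
      ∀ V : Set ↥(pullback g i), IsClopen V → ∃! U : Set ↥S', IsClopen U ∧ (pullback.fst g i).base ⁻¹' U = V)
    {S' : Scheme.{u}} (g : S' ⟶ S) [IsFinite g] (U : Set ↥S') (hU : IsOpen U)
    (hU₀ : Set.range (pullback.fst g i).base ⊆ U) : U = Set.univ := by
  obtain ⟨C, hC⟩ : ∃ C : TopologicalSpace.Closeds S', (C : Set S') = Uᶜ :=
    ⟨⟨Uᶜ, hU.isClosed_compl⟩, rfl⟩
  obtain ⟨J, hJ⟩ : ∃ J : S'.IdealSheafData, (J.support : Set S') = Uᶜ :=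
    ⟨Scheme.IdealSheafData.vanishingIdeal C,
      by rw [Scheme.IdealSheafData.coe_support_vanishingIdeal, hC]⟩
  have hrange : Set.range J.subschemeι = Uᶜ := by
    rw [Scheme.IdealSheafData.range_subschemeι, hJ]
  have hfin : IsFinite (J.subschemeι ≫ g) := inferInstance
  have hempty : IsEmpty ↥(pullback (J.subschemeι ≫ g) i) := by
    rw [Scheme.isEmpty_pullback_iff, Set.disjoint_iff_forall_ne]
    rintro _ ⟨c, rfl⟩ _ ⟨s0, rfl⟩ heq
    have hc : J.subschemeι c ∈ Uᶜ := by
      rw [← hrange]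
      exact Set.mem_range_self c
    apply hc
    apply hU₀
    have h4 : J.subschemeι c ∈ g ⁻¹' Set.range i := ⟨s0, heq.symm⟩
    rw [← Scheme.Pullback.range_fst] at h4
    exact h4
  obtain ⟨U', -, huniq⟩ := ha _ (J.subschemeι ≫ g) hfin ∅ isClopen_empty
  have h1 := huniq ∅ ⟨isClopen_empty, Set.eq_empty_of_isEmpty _⟩
  have h2 := huniq Set.univ ⟨isClopen_univ, Set.eq_empty_of_isEmpty _⟩
  have h3 : (∅ : Set J.subscheme) = Set.univ := h1.trans h2.symm
  rw [← Set.compl_empty_iff, ← hrange, Set.range_eq_empty_iff]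
  exact ⟨fun c => by
    have : c ∈ (∅ : Set J.subscheme) := h3 ▸ Set.mem_univ c
    exact this⟩

end Groth.Agent.S5057
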