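import Groth.Statements.S5066
import Groth.Agent.Lib.helper1.HenselFEt
import Mathlib.RingTheory.Etale.StandardEtale

set_option autoImplicit false
universe u
open Hensel

open Polynomial
namespace Groth.Agent.S5066

/-- Case of a local ring, affine étale schemes: a local ring A with maximal ideal m is henselian if and
only if, for every finite A-algebra C and every étale A-algebra E, composing with the projection C →
C/mC is a bijection from the set of A-algebra homomorphisms E → C onto the set of A-algebra
homomorphisms E → C/mC. -/
theorem result (A : Type u) [CommRing A] [IsLocalRing A] :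
    HenselianLocalRing A ↔
      ∀ (C : Type u) [CommRing C] [Algebra A C] [Module.Finite A C] (E : Type u) [CommRing E] [Algebra A E] [Algebra.Etale A E],
        Function.Bijective (fun φ : E →ₐ[A] C =>
          (Ideal.Quotient.mkₐ A (Ideal.map (algebraMap A C) (IsLocalRing.maximalIdeal A))).comp φ) := by
  constructor
  · intro hA C _ _ _ E _ _ _
    have hjac : Ideal.map (algebraMap A C) (IsLocalRing.maximalIdeal A) ≤ Ideal.jacobson ⊥ :=
      Helper1.map_le_jacobson_of_isIntegral _ (IsLocalRing.maximalIdeal_le_jacobson _) C
    constructor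
    · intro φ₁ φ₂ h
      apply Helper1.algHom_eq_of_sub_mem_jacobson _ hjac φ₁ φ₂
      intro b
      have h1 := congrArg (fun g => g b) h
      simp only [AlgHom.comp_apply, Ideal.Quotient.mkₐ_eq_mk] at h1
      exact Ideal.Quotient.eq.1 h1
    · intro ψ
      obtain ⟨φ, hφ⟩ := Helper1.exists_algHom_lift_of_etale_of_isIntegral
        (IsLocalRing.maximalIdeal A) ψ
      exact ⟨φ, AlgHom.ext fun b => hφ b⟩
  · intro H
    refine { is_henselian := fun f hf a₀ h₁ h₂ => ?_ }
    let P : StandardEtalePair A := ⟨f, hf, Polynomial.derivative f, ⟨1, 0, 1, by simp⟩⟩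
    have hbij := H A P.Ring
    have hJeq : Ideal.map (algebraMap A A) (IsLocalRing.maximalIdeal A) =
        IsLocalRing.maximalIdeal A := Ideal.map_id _
    have hev : ∀ q : A[X], Polynomial.aeval (Ideal.Quotient.mk
        (Ideal.map (algebraMap A A) (IsLocalRing.maximalIdeal A)) a₀) q =
        Ideal.Quotient.mk _ (q.eval a₀) := by
      intro q
      rw [Polynomial.aeval_def, Ideal.Quotient.algebraMap_eq, Polynomial.eval₂_at_apply]
    have hmap : P.HasMap (Ideal.Quotient.mk
        (Ideal.map (algebraMap A A) (IsLocalRing.maximalIdeal A)) a₀) := by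
      constructor
      · show Polynomial.aeval _ f = 0
        rw [hev, Ideal.Quotient.eq_zero_iff_mem, hJeq]
        exact h₁
      · show IsUnit (Polynomial.aeval _ (Polynomial.derivative f))
        rw [hev]
        exact h₂.map _
    obtain ⟨φ, hφ⟩ := hbij.2 (P.lift _ hmap)
    refine ⟨φ P.X, ?_, ?_⟩
    · have h3 := ((StandardEtalePair.hasMap_X (P := P)).map φ).1
      rw [Polynomial.IsRoot.def, ← Polynomial.coe_aeval_eq_eval]
      exact h3
    · have h3 := congrArg (fun g => g P.X) hφ
      simp only [AlgHom.comp_apply, Ideal.Quotient.mkₐ_eq_mk, StandardEtalePair.lift_X] at h3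
      rw [Ideal.Quotient.eq, hJeq] at h3
      exact h3

end Groth.Agent.S5066
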