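import Groth.Statements.S5069
import Mathlib

set_option autoImplicit false
universe u v
open Hensel

namespace Groth.Agent.S5069

/-- First assertion, phrased for the images of the inductive system: let B be a Noetherian commutative
ring and (C_i) a family of Artinian subrings of B, directed under inclusion, whose union is B. Then
B is an Artinian ring. -/
theorem result (B : Type u) [CommRing B] [IsNoetherianRing B]
    {ι : Type v} [Nonempty ι] (C : ι → Subring B) (hdir : Directed (fun a b => a ≤ b) C)
    (hart : ∀ i, IsArtinianRing ↥(C i)) (hcov : ∀ b : B, ∃ i, b ∈ C i) : IsArtinianRing B := by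
  rw [isArtinianRing_iff_krullDimLE_zero, Ring.krullDimLE_zero_iff]
  intro P hP
  rw [Ideal.isMaximal_iff]
  refine ⟨fun h1 => hP.ne_top ((Ideal.eq_top_iff_one P).mpr h1), ?_⟩
  intro J x hPJ hxP hxJ
  obtain ⟨i, hi⟩ := hcov x
  haveI : (Ideal.comap (C i).subtype P).IsPrime := Ideal.comap_isPrime _ P
  haveI : (Ideal.comap (C i).subtype P).IsMaximal :=
    IsArtinianRing.isMaximal_of_isPrime (Ideal.comap (C i).subtype P)
  have hx' : (⟨x, hi⟩ : C i) ∉ Ideal.comap (C i).subtype P := fun h => hxP h
  obtain ⟨y, t, ht, hyt⟩ := Ideal.IsMaximal.exists_inv ‹_› hx'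
  have h2 := congrArg (C i).subtype hyt
  simp only [map_add, map_mul, map_one, Subring.coe_subtype] at h2
  rw [← h2]
  exact J.add_mem (J.mul_mem_left _ hxJ) (hPJ ht)

end Groth.Agent.S5069
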