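import Groth.Statements.S5073
import Mathlib

set_option autoImplicit false
universe u
open EGA418

namespace Groth.Agent.S5073

/-- Let A be a Noetherian local ring, p a prime ideal and x an element of A. Then there is an element x'
of A whose image in A_p equals that of x and which belongs to no minimal prime ideal of A not
contained in p. -/
theorem result (A : Type u) [CommRing A] [IsNoetherianRing A] [IsLocalRing A]
    (p : Ideal A) [p.IsPrime] (x : A) :
    ∃ x' : A, algebraMap A (Localization.AtPrime p) x' = algebraMap A (Localization.AtPrime p) x ∧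
      ∀ q ∈ minimalPrimes A, ¬ q ≤ p → x' ∉ q := by
  classical
  have hfin : {q ∈ minimalPrimes A | ¬ q ≤ p}.Finite :=
    (minimalPrimes.finite_of_isNoetherianRing A).subset (fun q hq => hq.1)
  set Qf : Finset (Ideal A) := hfin.toFinset with hQf
  have hQmem : ∀ q, q ∈ Qf ↔ q ∈ minimalPrimes A ∧ ¬ q ≤ p := fun q => by
    rw [hQf, Set.Finite.mem_toFinset]; rfl
  let K : Ideal A := RingHom.ker (algebraMap A (Localization.AtPrime p))
  have hex : ∀ q ∈ Qf, ∃ k, k ∈ K ∧ k ∉ q ∧ ∀ q' ∈ Qf, q' ≠ q → k ∈ q' := by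
    intro q hq
    obtain ⟨hqmin, hqp⟩ := (hQmem q).mp hq
    haveI hqprime : q.IsPrime := Ideal.minimalPrimes_isPrime hqmin
    obtain ⟨t, htq, htp⟩ := SetLike.not_le_iff_exists.mp hqp
    have hrad := IsLocalization.AtPrime.radical_map_of_mem_minimalPrimes
      (A := Localization.AtPrime q) q ⊥ hqmin
    have htmem : algebraMap A (Localization.AtPrime q) t ∈
        ((⊥ : Ideal A).map (algebraMap A (Localization.AtPrime q))).radical := by
      rw [hrad]; exact Ideal.mem_map_of_mem _ htq
    obtain ⟨n, hn⟩ := htmem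
    rw [Ideal.map_bot, Ideal.mem_bot, ← map_pow] at hn
    obtain ⟨⟨u, hu⟩, hut⟩ := (IsLocalization.map_eq_zero_iff q.primeCompl _ _).mp hn
    have huK : u ∈ K := by
      rw [RingHom.mem_ker, IsLocalization.map_eq_zero_iff p.primeCompl]
      exact ⟨⟨t ^ n, fun h => htp (Ideal.IsPrime.mem_of_pow_mem inferInstance n h)⟩,
        by simpa [mul_comm] using hut⟩
    have hothers : ∀ q' ∈ Qf.erase q, ∃ t', t' ∈ q' ∧ t' ∉ q := by
      intro q' hq'
      obtain ⟨hne, hq'Q⟩ := Finset.mem_erase.mp hq'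
      obtain ⟨hq'min, -⟩ := (hQmem q').mp hq'Q
      have : ¬ q' ≤ q := fun hle => hne (le_antisymm hle (hqmin.2 hq'min.1 hle))
      obtain ⟨t', h1, h2⟩ := SetLike.not_le_iff_exists.mp this
      exact ⟨t', h1, h2⟩
    choose! t' ht' using hothers
    refine ⟨u * ∏ q' ∈ Qf.erase q, t' q', K.mul_mem_right _ huK, ?_, ?_⟩
    · intro hmem
      rcases hqprime.mem_or_mem hmem with h | h
      · exact hu h
      · rw [Ideal.IsPrime.prod_mem_iff] at h
        obtain ⟨q', hq', h'⟩ := h
        exact (ht' q' hq').2 h'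
    · intro q' hq' hne
      have hmem : q' ∈ Qf.erase q := Finset.mem_erase.mpr ⟨hne, hq'⟩
      obtain ⟨c, hc⟩ := Finset.dvd_prod_of_mem t' hmem
      rw [hc]
      exact Ideal.mul_mem_left _ _ (Ideal.mul_mem_right _ _ (ht' q' hmem).1)
  choose! k hk using hex
  refine ⟨x + ∑ q ∈ Qf.filter (fun q => x ∈ q), k q, ?_, ?_⟩
  · rw [map_add, map_sum]
    have : ∑ q ∈ Qf.filter (fun q => x ∈ q), algebraMap A (Localization.AtPrime p) (k q) = 0 :=
      Finset.sum_eq_zero (fun q hq => RingHom.mem_ker.mp (hk q (Finset.mem_filter.mp hq).1).1)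
    rw [this, add_zero]
  · intro q hqmin hqp
    have hq : q ∈ Qf := (hQmem q).mpr ⟨hqmin, hqp⟩
    haveI hqprime : q.IsPrime := Ideal.minimalPrimes_isPrime hqmin
    have hkq : ∀ q' ∈ Qf, q' ≠ q → k q' ∈ q :=
      fun q' hq' hne => (hk q' hq').2.2 q hq (Ne.symm hne)
    intro hx'
    by_cases hxq : x ∈ q
    · have hqS : q ∈ Qf.filter (fun q => x ∈ q) := Finset.mem_filter.mpr ⟨hq, hxq⟩
      rw [← Finset.add_sum_erase _ _ hqS] at hx'
      have hrest : ∑ q' ∈ (Qf.filter (fun q => x ∈ q)).erase q, k q' ∈ q :=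
        Ideal.sum_mem _ (fun q' hq' => by
          obtain ⟨hne, hq'S⟩ := Finset.mem_erase.mp hq'
          exact hkq q' (Finset.mem_filter.mp hq'S).1 hne)
      have : k q ∈ q := by
        have h1 := q.sub_mem (q.sub_mem hx' hxq) hrest
        convert h1 using 1; ring
      exact (hk q hq).2.1 this
    · have hsum : ∑ q' ∈ Qf.filter (fun q => x ∈ q), k q' ∈ q :=
        Ideal.sum_mem _ (fun q' hq' => by
          obtain ⟨hq'Q, hxq'⟩ := Finset.mem_filter.mp hq'
          exact hkq q' hq'Q (fun h => hxq (h ▸ hxq')))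
      have : x ∈ q := by
        have h1 := q.sub_mem hx' hsum
        convert h1 using 1; ring
      exact hxq this

end Groth.Agent.S5073
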