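import Groth.Statements.S5078
import Mathlib

set_option autoImplicit false
universe u v
open Hensel

namespace Groth.Agent.S5078

/-- Let A be a ring, I an ideal such that A is I-adically separated and complete, and M a finitely
generated projective A-module. Then M is I-adically separated and complete. -/
theorem result {A : Type u} [CommRing A] (I : Ideal A) [IsAdicComplete I A]
    (M : Type v) [AddCommGroup M] [Module A M] [Module.Finite A M] [Module.Projective A M] :
    IsAdicComplete I M := by
  obtain ⟨n, f, g, hf, hg, hfg⟩ := Module.Finite.exists_comp_eq_id_of_projective A M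
  have hfg' : ∀ x, f (g x) = x := fun x => LinearMap.congr_fun hfg x
  have key : ∀ (k : ℕ) (φ : M →ₗ[A] A) (x y : M), x ≡ y [SMOD (I ^ k • ⊤ : Submodule A M)] →
      φ x ≡ φ y [SMOD (I ^ k • ⊤ : Submodule A A)] := by
    intro k φ x y h
    refine SModEq.mono ?_ (h.map φ)
    rw [Submodule.map_smul'']
    exact Submodule.smul_mono (le_refl _) le_top
  haveI : IsHausdorff I M := by
    constructor
    intro x hx
    have : g x = 0 := by
      ext j
      exact IsHausdorff.haus' (I := I) _
        (fun k => by simpa using key k ((LinearMap.proj j).comp g) x 0 (hx k))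
    rw [← hfg' x, this, map_zero]
  haveI : IsPrecomplete I M := by
    constructor
    intro u hu
    have hex : ∀ j : Fin n, ∃ L : A, ∀ k, (g (u k)) j ≡ L [SMOD (I ^ k • ⊤ : Submodule A A)] := by
      intro j
      exact IsPrecomplete.prec' (I := I) (fun k => (g (u k)) j)
        (fun {a b} hab => key a ((LinearMap.proj j).comp g) _ _ (hu hab))
    choose L hL using hex
    refine ⟨f L, fun k => ?_⟩
    rw [SModEq.sub_mem]
    have h1 : u k - f L = f (g (u k) - L) := by rw [map_sub, hfg']
    rw [h1]
    have h2 : g (u k) - L = ∑ j, (g (u k) j - L j) • (Pi.single j 1 : Fin n → A) := by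
      ext i; simp [Finset.sum_apply, Pi.single_apply]
    rw [h2, map_sum]
    refine Submodule.sum_mem _ (fun j _ => ?_)
    rw [map_smul]
    refine Submodule.smul_mem_smul ?_ Submodule.mem_top
    have := (SModEq.sub_mem).mp (hL j k)
    rwa [smul_eq_mul, Ideal.mul_top] at this
  exact { toIsHausdorff := inferInstance, toIsPrecomplete := inferInstance }

end Groth.Agent.S5078
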