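import Groth.Statements.S5081
-- import your own Groth.Agent.* helpers here

set_option autoImplicit false
universe u
open Unram

open Polynomial
namespace Groth.Agent.S5081

/-- Let B be a finite A-algebra generated by a single element u and F a polynomial with coefficients in
A such that F(u) = 0. Then the ideal generated by F'(u) is contained in the annihilator of the
module of differentials of B over A, and equals it when the kernel of the surjection A[T] → B
sending T to u is generated by F. -/
theorem result (A B : Type u) [CommRing A] [CommRing B] [Algebra A B]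
    [Module.Finite A B] (u : B) (hu : Algebra.adjoin A ({u} : Set B) = ⊤) (F : Polynomial A) (hF : Polynomial.aeval u F = 0) :
    Ideal.span {Polynomial.aeval u (Polynomial.derivative F)} ≤ Module.annihilator B (KaehlerDifferential A B) ∧
      (RingHom.ker (Polynomial.aeval u : Polynomial A →ₐ[A] B) = Ideal.span {F} →
        Module.annihilator B (KaehlerDifferential A B) = Ideal.span {Polynomial.aeval u (Polynomial.derivative F)}) := by
  classical
  have hsurj : Function.Surjective (Polynomial.aeval u : Polynomial A →ₐ[A] B) := by
    rw [← AlgHom.range_eq_top, ← Algebra.adjoin_singleton_eq_range_aeval, hu]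
  have hFu : (Polynomial.aeval u (Polynomial.derivative F)) • (KaehlerDifferential.D A B u) = 0 := by
    rw [← Derivation.map_aeval, hF, map_zero]
  have h1 : Polynomial.aeval u (Polynomial.derivative F) ∈
      Module.annihilator B (KaehlerDifferential A B) := by
    rw [Module.mem_annihilator]
    have hle : Submodule.span B (Set.range (KaehlerDifferential.D A B)) ≤
        LinearMap.ker (LinearMap.lsmul B (KaehlerDifferential A B)
          (Polynomial.aeval u (Polynomial.derivative F))) := by
      rw [Submodule.span_le]
      rintro _ ⟨b, rfl⟩
      obtain ⟨P, rfl⟩ := hsurj b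
      rw [SetLike.mem_coe, LinearMap.mem_ker, LinearMap.lsmul_apply, Derivation.map_aeval,
        smul_comm, hFu, smul_zero]
    intro ω
    have hω : ω ∈ Submodule.span B (Set.range (KaehlerDifferential.D A B)) := by
      rw [KaehlerDifferential.span_range_derivation]; trivial
    exact hle hω
  have h1' : Ideal.span {Polynomial.aeval u (Polynomial.derivative F)} ≤
      Module.annihilator B (KaehlerDifferential A B) := by
    rw [Ideal.span_le, Set.singleton_subset_iff]
    exact h1
  refine ⟨h1', fun hker => le_antisymm ?_ h1'⟩
  -- the derivation
  have W : ∀ P Q : Polynomial A, Polynomial.aeval u P = Polynomial.aeval u Q →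
      Ideal.Quotient.mk (Ideal.span {Polynomial.aeval u (Polynomial.derivative F)})
        (Polynomial.aeval u (Polynomial.derivative P)) =
      Ideal.Quotient.mk (Ideal.span {Polynomial.aeval u (Polynomial.derivative F)})
        (Polynomial.aeval u (Polynomial.derivative Q)) := by
    intro P Q h
    have hPQ : P - Q ∈ RingHom.ker (Polynomial.aeval u : Polynomial A →ₐ[A] B) := by
      rw [RingHom.mem_ker, map_sub, h, sub_self]
    rw [hker, Ideal.mem_span_singleton] at hPQ
    obtain ⟨G, hG⟩ := hPQ
    rw [Ideal.Quotient.eq, ← map_sub, ← Polynomial.derivative_sub, hG, Polynomial.derivative_mul,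
      map_add, map_mul, map_mul, hF, zero_mul, add_zero]
    exact Ideal.mul_mem_right _ _ (Ideal.subset_span rfl)
  choose σ hσ using hsurj
  have smul_mk : ∀ (b c : B), b • Ideal.Quotient.mk
      (Ideal.span {Polynomial.aeval u (Polynomial.derivative F)}) c =
      Ideal.Quotient.mk (Ideal.span {Polynomial.aeval u (Polynomial.derivative F)}) (b * c) := by
    intro b c
    rfl
  have asmul_mk : ∀ (a : A) (c : B), a • Ideal.Quotient.mk
      (Ideal.span {Polynomial.aeval u (Polynomial.derivative F)}) c =
      Ideal.Quotient.mk (Ideal.span {Polynomial.aeval u (Polynomial.derivative F)}) (a • c) := by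
    intro a c
    rfl
  let d : Derivation A B (B ⧸ Ideal.span {Polynomial.aeval u (Polynomial.derivative F)}) :=
    { toFun := fun b => Ideal.Quotient.mk _ (Polynomial.aeval u (Polynomial.derivative (σ b)))
      map_add' := fun x y => by
        rw [← map_add, ← map_add, ← Polynomial.derivative_add]
        exact W _ _ (by rw [map_add, hσ, hσ, hσ])
      map_smul' := fun a x => by
        rw [RingHom.id_apply, asmul_mk, ← map_smul, ← Polynomial.derivative_smul]
        exact W _ _ (by rw [map_smul, hσ, hσ])
      map_one_eq_zero' := by
        show Ideal.Quotient.mk _ (Polynomial.aeval u (Polynomial.derivative (σ 1))) = 0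
        rw [W (σ 1) 1 (by rw [hσ, map_one]), Polynomial.derivative_one, map_zero, map_zero]
      leibniz' := fun x y => by
        show Ideal.Quotient.mk _ (Polynomial.aeval u (Polynomial.derivative (σ (x * y)))) =
          x • Ideal.Quotient.mk _ (Polynomial.aeval u (Polynomial.derivative (σ y))) +
          y • Ideal.Quotient.mk _ (Polynomial.aeval u (Polynomial.derivative (σ x)))
        rw [W (σ (x * y)) (σ x * σ y) (by rw [map_mul, hσ, hσ, hσ]), Polynomial.derivative_mul,
          map_add, map_mul, map_mul, hσ, hσ, smul_mk, smul_mk, map_add, add_comm,
          mul_comm (Polynomial.aeval u (Polynomial.derivative (σ x))) y] }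
  have hdu : d u = Ideal.Quotient.mk _ (1 : B) := by
    show Ideal.Quotient.mk _ (Polynomial.aeval u (Polynomial.derivative (σ u))) = _
    rw [W (σ u) Polynomial.X (by rw [hσ, Polynomial.aeval_X]), Polynomial.derivative_X, map_one]
  intro b hb
  rw [Module.mem_annihilator] at hb
  have h2 := congrArg d.liftKaehlerDifferential (hb (KaehlerDifferential.D A B u))
  rw [map_smul, Derivation.liftKaehlerDifferential_comp_D, hdu, map_zero, smul_mk, mul_one,
    Ideal.Quotient.eq_zero_iff_mem] at h2
  exact h2

end Groth.Agent.S5081
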