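import Groth.Statements.S5083
import Mathlib
-- import your own Groth.Agent.* helpers here

set_option autoImplicit false
universe u
open CategoryTheory CategoryTheory.Limits AlgebraicGeometry TopologicalSpace
open Mero

namespace Groth.Agent.S5083
open AlgebraicGeometry CategoryTheory Mero TopologicalSpace Opposite

/-- multiplication by a global meromorphic function, as a morphism `O_X(D) ⟶ O_X(D')` -/
noncomputable def mulHom {X : Scheme.{u}} (D D' : Mero.Divisor X) (f : Γ(Mero.kmod X, ⊤))
    (hf : ∀ (x : X) (t : Mero.KStalk X x), Mero.DivCond D x t →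
      Mero.DivCond D' x (t * f.1 ⟨x, trivial⟩)) : Mero.divMod D ⟶ Mero.divMod D' :=
  ⟨PresheafOfModules.homMk (M₁ := (Mero.divMod D).val) (M₂ := (Mero.divMod D').val)
    { app := fun U => AddCommGrpCat.ofHom
        { toFun := fun (t : Γ(Mero.divMod D, U.unop)) =>
            (⟨fun x => t.1 x * f.1 ⟨x.1, trivial⟩,
              ⟨Mero.kLoc_mul X U.unop _ _ t.2.1
                ((Mero.kLoc X).res (homOfLE (le_top : U.unop ≤ ⊤)) f.1 f.2),
                fun x => hf x.1 _ (t.2.2 x)⟩⟩ : Γ(Mero.divMod D', U.unop))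
          map_zero' := Subtype.ext (funext fun x => zero_mul _)
          map_add' := fun a b => Subtype.ext (funext fun x => add_mul _ _ _) }
      naturality := by intros; rfl }
    (fun U r t => Subtype.ext (funext fun x => smul_mul_assoc _ _ _))⟩

theorem mulHom_comp {X : Scheme.{u}} (D D' : Mero.Divisor X) (f g : Γ(Mero.kmod X, ⊤))
    (hf : ∀ (x : X) (t : Mero.KStalk X x), Mero.DivCond D x t →
      Mero.DivCond D' x (t * f.1 ⟨x, trivial⟩))
    (hg : ∀ (x : X) (t : Mero.KStalk X x), Mero.DivCond D' x t →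
      Mero.DivCond D x (t * g.1 ⟨x, trivial⟩))
    (hfg : f * g = 1) : mulHom D D' f hf ≫ mulHom D' D g hg = 𝟙 _ := by
  apply (Scheme.Modules.toPresheaf X).map_injective
  ext U t
  apply Subtype.ext
  funext x
  show (t.1 x * f.1 ⟨x.1, trivial⟩) * g.1 ⟨x.1, trivial⟩ = t.1 x
  have h1 : f.1 ⟨x.1, trivial⟩ * g.1 ⟨x.1, trivial⟩ = 1 :=
    congrArg (fun s : Γ(Mero.kmod X, ⊤) => s.1 ⟨x.1, trivial⟩) hfg
  rw [mul_assoc, h1, mul_one]


/-- Let X be a scheme and D, D' divisors on X (global sections of the sheaf of units of K_X modulo units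
of O_X, written multiplicatively). If D and D' are linearly equivalent, i.e. D · D'⁻¹ is the divisor
of a unit of the ring of global sections of K_X, then the O_X-modules O_X(D) and O_X(D') are
isomorphic. (The published statement is an equivalence: O_X(D) and O_X(D') are isomorphic if and
only if D and D' are linearly equivalent; this row states only that linearly equivalent divisors
have isomorphic modules.) -/
theorem result (X : Scheme.{u}) (D D' : Mero.Divisor X) (h : Mero.LinEquiv D D') :
    Nonempty (Mero.divMod D ≅ Mero.divMod D') := by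
  obtain ⟨f, hf⟩ := h
  have hx : ∀ x : X, D.1 x * (D'.1 x)⁻¹ =
      QuotientGroup.mk (Units.map (Mero.evalK X ⊤ ⟨x, trivial⟩).toMonoidHom f) := by
    intro x
    have := congrArg (fun E : Mero.Divisor X => E.1 x) hf
    exact this
  have h1 : ∀ (x : X) (t : Mero.KStalk X x), Mero.DivCond D x t →
      Mero.DivCond D' x (t * (f : Γ(Mero.kmod X, ⊤)).1 ⟨x, trivial⟩) := by
    intro x t ht g' hg'
    have h2 : D.1 x = QuotientGroup.mk
        (Units.map (Mero.evalK X ⊤ ⟨x, trivial⟩).toMonoidHom f * g') := by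
      rw [QuotientGroup.mk_mul, ← hx x, ← hg', inv_mul_cancel_right]
    have h3 := ht _ h2
    rw [mul_assoc]
    exact h3
  have h1' : ∀ (x : X) (t : Mero.KStalk X x), Mero.DivCond D' x t →
      Mero.DivCond D x (t * ((f⁻¹ : (Γ(Mero.kmod X, ⊤))ˣ) : Γ(Mero.kmod X, ⊤)).1 ⟨x, trivial⟩) := by
    intro x t ht g hg
    have h2 : D'.1 x = QuotientGroup.mk
        ((Units.map (Mero.evalK X ⊤ ⟨x, trivial⟩).toMonoidHom f)⁻¹ * g) := by
      rw [QuotientGroup.mk_mul, QuotientGroup.mk_inv, ← hx x, ← hg]
      have hgrp : ∀ {G : Type u} [Group G] (a b : G), b = (a * b⁻¹)⁻¹ * a := by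
        intro G _ a b
        rw [mul_inv_rev, inv_inv, inv_mul_cancel_right]
      exact hgrp _ _
    have h3 := ht _ h2
    rw [mul_assoc]
    exact h3
  exact ⟨⟨mulHom D D' f h1, mulHom D' D _ h1',
    mulHom_comp D D' _ _ h1 h1' (Units.mul_inv f),
    mulHom_comp D' D _ _ h1' h1 (Units.inv_mul f)⟩⟩

end Groth.Agent.S5083
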