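import Groth.Statements.S5085
import Mathlib
-- import your own Groth.Agent.* helpers here

set_option autoImplicit false
universe u
open CategoryTheory CategoryTheory.Limits AlgebraicGeometry TopologicalSpace
open Mero

namespace Groth.Agent.S5085



/-- Let X be a scheme, U an open subset and V an open subset of U which is schematically dense in U (for
every open W ⊆ U, restriction of functions from W to W ∩ V is injective). Then restriction of
sections of the sheaf of meromorphic functions K_X from U to V is injective: the canonical map from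
meromorphic functions to pseudo-functions is injective. -/
theorem result (X : Scheme.{u}) (U V : X.Opens) (hVU : V ≤ U)
    (hV : ∀ W : X.Opens, W ≤ U →
      Function.Injective ⇑(X.presheaf.map (homOfLE (inf_le_left : W ⊓ V ≤ W)).op)) :
    Function.Injective ⇑((Mero.kmod X).presheaf.map (homOfLE hVU).op) := by
  have key : ∀ s : Γ(Mero.kmod X, U),
      (Mero.kmod X).presheaf.map (homOfLE hVU).op s = 0 → s = 0 := by
    intro s hs
    apply Subtype.ext
    funext x
    obtain ⟨W, hxW, i, a, b, hab⟩ := s.2 x
    have hW : W ≤ U := i.le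
    have ha0 : X.presheaf.map (homOfLE (inf_le_left : W ⊓ V ≤ W)).op a = 0 := by
      apply TopCat.Presheaf.section_ext X.sheaf (W ⊓ V)
      intro y hy
      change X.presheaf.germ (W ⊓ V) y hy
        (X.presheaf.map (homOfLE (inf_le_left : W ⊓ V ≤ W)).op a) =
        X.presheaf.germ (W ⊓ V) y hy 0
      rw [map_zero, TopCat.Presheaf.germ_res_apply]
      have h1 : s.1 ⟨y, hVU hy.2⟩ = 0 :=
        congrArg (fun r : Γ(Mero.kmod X, V) => r.1 ⟨y, hy.2⟩) hs
      have h2 := hab ⟨y, hy.1⟩
      have h3 : (LocalizedModule.mk (X.presheaf.germ W y hy.1 a) (Mero.regGerm ⟨y, hy.1⟩ b) :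
          Mero.KStalk X y) = 0 := by
        rw [← h2]
        exact h1
      rw [← LocalizedModule.zero_mk (Mero.regGerm ⟨y, hy.1⟩ b), LocalizedModule.mk_eq] at h3
      obtain ⟨c, hc⟩ := h3
      simp only [smul_zero, Submonoid.smul_def, smul_eq_mul] at hc
      have hc1 := Mero.regStalk_le_nonZeroDivisors y c.2
      have hc2 := Mero.regStalk_le_nonZeroDivisors y (Mero.regGerm ⟨y, hy.1⟩ b).2
      have h4 := (mul_left_mem_nonZeroDivisors_eq_zero_iff hc1).1 hc
      exact (mul_left_mem_nonZeroDivisors_eq_zero_iff hc2).1 h4
    have ha : a = 0 := hV W hW (ha0.trans (map_zero _).symm)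
    have h5 := hab ⟨x.1, hxW⟩
    rw [ha, map_zero, LocalizedModule.zero_mk] at h5
    exact h5
  intro s t hst
  have h6 := key (s - t) (by rw [map_sub, hst]; exact sub_self _)
  exact sub_eq_zero.1 h6

end Groth.Agent.S5085
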