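import Groth.Statements.S5097
import Mathlib
-- import your own Groth.Agent.* helpers here

set_option autoImplicit false
universe u
open CategoryTheory CategoryTheory.Limits AlgebraicGeometry TopologicalSpace
open Mero

namespace Groth.Agent.S5097
open AlgebraicGeometry CategoryTheory in
theorem key {X : Scheme.{u}} (x : X) (D D' : Mero.Divisor X)
    (hh : ∀ (U : X.Opens) (t : Γ(Mero.kmod X, U)),
      (∀ x : ↥U, Mero.DivCond D x.1 (t.1 x)) → (∀ x : ↥U, Mero.DivCond D' x.1 (t.1 x)))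
    (U V : X.Opens) (hxU : x ∈ U) (hxV : x ∈ V) (f : (Γ(Mero.kmod X, U))ˣ)
    (f' : (Γ(Mero.kmod X, V))ˣ)
    (hf : ∀ y : U, D.1 y.1 = Mero.germOf f y) (hf' : ∀ y : V, D'.1 y.1 = Mero.germOf f' y) :
    ((f⁻¹ : (Γ(Mero.kmod X, U))ˣ) : Γ(Mero.kmod X, U)).1 ⟨x, hxU⟩ *
      (f' : Γ(Mero.kmod X, V)).1 ⟨x, hxV⟩ ∈
        (algebraMap (X.presheaf.stalk x) (Mero.KStalk X x)).range := by
  have h1 : ∀ y : ↥U, Mero.DivCond D y.1
      (((f⁻¹ : (Γ(Mero.kmod X, U))ˣ) : Γ(Mero.kmod X, U)).1 y) := by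
    intro y g hg
    rw [hf y] at hg
    have h2 := QuotientGroup.eq.1 hg
    obtain ⟨w, hw⟩ := h2
    refine ⟨(w : X.presheaf.stalk y.1), ?_⟩
    have h3 := congrArg Units.val hw
    exact h3
  exact hh U _ h1 ⟨x, hxU⟩ (Units.map (Mero.evalK X V ⟨x, hxV⟩).toMonoidHom f') (hf' ⟨x, hxV⟩)


/-- Injectivity of the canonical homomorphism from divisors to invertible fractional ideals: let X be a
scheme and D, D' two divisors on X such that, over every open subset U, a section t of the sheaf of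
meromorphic functions lies in O_X(D) (t_x · g ∈ O_{X,x} for a representative g of the germ of D at
x, for all x in U) if and only if it lies in O_X(D'). Then D = D'. -/
theorem result (X : Scheme.{u}) (D D' : Mero.Divisor X)
    (h : ∀ (U : X.Opens) (t : Γ(Mero.kmod X, U)),
      (∀ x : ↥U, Mero.DivCond D x.1 (t.1 x)) ↔ (∀ x : ↥U, Mero.DivCond D' x.1 (t.1 x))) :
    D = D' := by
  apply Subtype.ext
  funext x
  obtain ⟨U, hxU, f, hf⟩ := D.2 x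
  obtain ⟨V, hxV, f', hf'⟩ := D'.2 x
  obtain ⟨r, hr⟩ := key x D D' (fun U t => (h U t).1) U V hxU hxV f f' hf hf'
  obtain ⟨r', hr'⟩ := key x D' D (fun U t => (h U t).2) V U hxV hxU f' f hf' hf
  have hinj := Mero.algebraMap_KStalk_injective (X := X) x
  have e1 : (f : Γ(Mero.kmod X, U)).1 ⟨x, hxU⟩ *
      ((f⁻¹ : (Γ(Mero.kmod X, U))ˣ) : Γ(Mero.kmod X, U)).1 ⟨x, hxU⟩ = 1 := by
    have := congrArg (fun t : Γ(Mero.kmod X, U) => t.1 ⟨x, hxU⟩) (Units.mul_inv f)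
    exact this
  have e2 : (f' : Γ(Mero.kmod X, V)).1 ⟨x, hxV⟩ *
      ((f'⁻¹ : (Γ(Mero.kmod X, V))ˣ) : Γ(Mero.kmod X, V)).1 ⟨x, hxV⟩ = 1 := by
    have := congrArg (fun t : Γ(Mero.kmod X, V) => t.1 ⟨x, hxV⟩) (Units.mul_inv f')
    exact this
  have hrr : r * r' = 1 := by
    apply hinj
    rw [map_mul, hr, hr', map_one]
    calc ((f⁻¹ : (Γ(Mero.kmod X, U))ˣ) : Γ(Mero.kmod X, U)).1 ⟨x, hxU⟩ *
          (f' : Γ(Mero.kmod X, V)).1 ⟨x, hxV⟩ *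
        (((f'⁻¹ : (Γ(Mero.kmod X, V))ˣ) : Γ(Mero.kmod X, V)).1 ⟨x, hxV⟩ *
          (f : Γ(Mero.kmod X, U)).1 ⟨x, hxU⟩)
        = ((f : Γ(Mero.kmod X, U)).1 ⟨x, hxU⟩ *
            ((f⁻¹ : (Γ(Mero.kmod X, U))ˣ) : Γ(Mero.kmod X, U)).1 ⟨x, hxU⟩) *
          ((f' : Γ(Mero.kmod X, V)).1 ⟨x, hxV⟩ *
            ((f'⁻¹ : (Γ(Mero.kmod X, V))ˣ) : Γ(Mero.kmod X, V)).1 ⟨x, hxV⟩) := by ring
      _ = 1 := by rw [e1, e2, mul_one]
  have h1 := hf ⟨x, hxU⟩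
  have h2 := hf' ⟨x, hxV⟩
  show D.1 x = D'.1 x
  rw [h1, h2]
  apply QuotientGroup.eq.2
  refine ⟨⟨r, r', hrr, by rw [mul_comm]; exact hrr⟩, Units.ext ?_⟩
  exact hr

end Groth.Agent.S5097
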