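import Groth.Statements.S5118
import Mathlib

set_option autoImplicit false
universe u
open SGA1t

namespace Groth.Agent.S5118

open Polynomial in
/-- The etaleness criterion for the Kummer group scheme: Let A be a commutative ring and n ≥ 1. The
group scheme μ_n over Spec A is the spectrum of A[t]/(t^n − 1), a free A-module of rank n; it is
etale over A if and only if n is a unit of A (equivalently, n is prime to the characteristic of the
residue field at every point of Spec A). -/
theorem result (A : Type u) [CommRing A] (n : ℕ) (hn : 1 ≤ n) :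
    Algebra.Etale A (AdjoinRoot ((X : A[X]) ^ n - 1)) ↔ IsUnit ((n : ℕ) : A) := by
  classical
  have hmonic : ((X : A[X]) ^ n - 1).Monic := by
    have h := Polynomial.monic_X_pow_sub_C (1 : A) (by omega : n ≠ 0)
    rwa [map_one] at h
  obtain ⟨m, rfl⟩ : ∃ m, n = m + 1 := ⟨n - 1, by omega⟩
  have hder : Polynomial.derivative ((X : A[X]) ^ (m + 1) - 1) =
      C ((m + 1 : ℕ) : A) * X ^ m := by
    rw [Polynomial.derivative_sub, Polynomial.derivative_X_pow, Polynomial.derivative_one, sub_zero]
    simp
  constructor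
  · intro hE
    haveI : Algebra.FormallyUnramified A (AdjoinRoot ((X : A[X]) ^ (m + 1) - 1)) := inferInstance
    set f : A[X] := (X : A[X]) ^ (m + 1) - 1 with hf
    set d : AdjoinRoot f := Polynomial.aeval (AdjoinRoot.root f) (Polynomial.derivative f) with hd
    -- the two lifts into dual numbers over Q = B / (d)
    let Q := AdjoinRoot f ⧸ Ideal.span {d}
    let g₁ : AdjoinRoot f →ₐ[A] DualNumber Q :=
      (TrivSqZeroExt.inlAlgHom A Q Q).comp (Ideal.Quotient.mkₐ A (Ideal.span {d}))
    have hg₁d : g₁ d = 0 := by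
      have h0 : (Ideal.Quotient.mkₐ A (Ideal.span {d})) d = 0 :=
        Ideal.Quotient.eq_zero_iff_mem.2 (Ideal.subset_span rfl)
      simp only [g₁, AlgHom.comp_apply, h0, map_zero]
    have hroot : Polynomial.aeval (AdjoinRoot.root f) f = 0 := by
      rw [AdjoinRoot.aeval_eq, AdjoinRoot.mk_self]
    have heps : (DualNumber.eps : DualNumber Q) ^ 2 = 0 := by
      rw [pow_two, DualNumber.eps_mul_eps]
    have h2 : f.eval₂ (Algebra.ofId A (DualNumber Q)) (g₁ (AdjoinRoot.root f) + DualNumber.eps) = 0 := by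
      have h3 := Polynomial.aeval_add_of_sq_eq_zero f (g₁ (AdjoinRoot.root f))
        (DualNumber.eps : DualNumber Q) heps
      rw [Polynomial.aeval_algHom_apply, Polynomial.aeval_algHom_apply, hroot, ← hd, hg₁d,
        map_zero, zero_mul, add_zero] at h3
      exact h3
    let g₂ : AdjoinRoot f →ₐ[A] DualNumber Q :=
      AdjoinRoot.liftAlgHom f (Algebra.ofId A (DualNumber Q))
        (g₁ (AdjoinRoot.root f) + DualNumber.eps) h2
    have hg₂ : g₂ (AdjoinRoot.root f) = g₁ (AdjoinRoot.root f) + DualNumber.eps := by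
      simp [g₂]
    have hker : IsNilpotent (RingHom.ker ((TrivSqZeroExt.fstHom A Q Q : DualNumber Q →ₐ[A] Q) :
        DualNumber Q →+* Q)) := by
      have hmul : RingHom.ker ((TrivSqZeroExt.fstHom A Q Q : DualNumber Q →ₐ[A] Q) :
          DualNumber Q →+* Q) * RingHom.ker ((TrivSqZeroExt.fstHom A Q Q : DualNumber Q →ₐ[A] Q) :
          DualNumber Q →+* Q) = ⊥ := by
        rw [eq_bot_iff, Ideal.mul_le]
        intro a ha b hb
        have ha' : TrivSqZeroExt.fst a = 0 := ha
        have hb' : TrivSqZeroExt.fst b = 0 := hb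
        rw [Ideal.mem_bot]
        ext
        · simp [ha']
        · simp [ha', hb']
      refine ⟨2, ?_⟩
      rw [show (2 : ℕ) = 1 + 1 from rfl, Submodule.pow_succ, Submodule.pow_one]
      exact hmul
    have hagree : ∀ b, ((TrivSqZeroExt.fstHom A Q Q : DualNumber Q →ₐ[A] Q) : DualNumber Q →+* Q)
        (g₁ b) = ((TrivSqZeroExt.fstHom A Q Q : DualNumber Q →ₐ[A] Q) : DualNumber Q →+* Q) (g₂ b) := by
      have h4 : (TrivSqZeroExt.fstHom A Q Q).comp g₁ = (TrivSqZeroExt.fstHom A Q Q).comp g₂ := by
        apply AdjoinRoot.algHom_ext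
        simp only [AlgHom.comp_apply, hg₂, map_add]
        simp
      intro b
      exact AlgHom.congr_fun h4 b
    have h12 : g₁ = g₂ := Algebra.FormallyUnramified.ext' _ hker g₁ g₂ hagree
    have h5 : (DualNumber.eps : DualNumber Q) = 0 := by
      have h6 := AlgHom.congr_fun h12 (AdjoinRoot.root f)
      rw [hg₂] at h6
      exact (add_eq_left.1 h6.symm)
    have h7 : (1 : Q) = 0 := by
      have h8 := congrArg TrivSqZeroExt.snd h5
      simpa using h8
    have h9 : Ideal.span {d} = ⊤ := by
      rw [← Ideal.Quotient.subsingleton_iff]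
      exact subsingleton_of_zero_eq_one h7.symm
    have hdu : IsUnit d := Ideal.span_singleton_eq_top.1 h9
    have hd' : d = ((m + 1 : ℕ) : AdjoinRoot f) * AdjoinRoot.root f ^ m := by
      rw [hd, hf, hder]
      simp
    rw [hd'] at hdu
    have hnu : IsUnit ((m + 1 : ℕ) : AdjoinRoot f) := isUnit_of_mul_isUnit_left hdu
    let ρ : AdjoinRoot f →ₐ[A] A := AdjoinRoot.liftAlgHom f (AlgHom.id A A) 1 (by simp [hf])
    have h10 := hnu.map ρ
    rwa [map_natCast] at h10
  · intro hu
    let P : StandardEtalePair A :=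
      { f := (X : A[X]) ^ (m + 1) - 1
        monic_f := hmonic
        g := 1
        cond := ⟨C ((hu.unit⁻¹ : Aˣ) : A) * X, -1, 1, by
          rw [hder]
          have hC : (C ((m + 1 : ℕ) : A) : A[X]) * C ((hu.unit⁻¹ : Aˣ) : A) = 1 := by
            rw [← C_mul]
            have : ((m + 1 : ℕ) : A) * ((hu.unit⁻¹ : Aˣ) : A) = 1 := hu.mul_val_inv
            rw [this, C_1]
          linear_combination (X : A[X]) ^ (m + 1) * hC⟩ }
    let e : P.Ring ≃ₐ[A] AdjoinRoot P.f :=
      AlgEquiv.ofAlgHom
        (P.lift (AdjoinRoot.root P.f)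
          ⟨by rw [AdjoinRoot.aeval_eq, AdjoinRoot.mk_self], by simp [P]⟩)
        (AdjoinRoot.liftAlgHom P.f (Algebra.ofId A P.Ring) P.X P.hasMap_X.1)
        (by apply AdjoinRoot.algHom_ext; simp)
        (by apply P.hom_ext; simp)
    exact Algebra.Etale.of_equiv e

end Groth.Agent.S5118
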