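import Groth.Statements.S5120
import Mathlib

set_option autoImplicit false
universe u
open SGA1t

namespace Groth.Agent.S5120

open Polynomial in
/-- The computation behind the exactness of the Artin-Schreier sequence 0 → Z/p → G_a → G_a → 0 in
characteristic p, i.e. faithful flatness of ℘ = id − F: Let p be a prime and A a ring of
characteristic p. Then A[t] is free of rank p over itself via the endomorphism t ↦ t − t^p, with
basis 1, t, …, t^{p−1}: every polynomial q can be written in exactly one way as Σ_{i<p} c_i(t − t^p)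
t^i. -/
theorem result (p : ℕ) [Fact p.Prime] (A : Type u) [CommRing A] [CharP A p]
    (q : A[X]) :
    ∃! c : Fin p → A[X], q = ∑ i : Fin p, aeval (X - X ^ p : A[X]) (c i) * X ^ (i : ℕ) := by
  classical
  have hp : p.Prime := Fact.out
  have hp1 : 1 < p := hp.one_lt
  haveI : Nontrivial A := CharP.nontrivial_of_char_ne_one (v := p) hp.ne_one
  have hg : (X ^ p - X : A[X]).Monic := by
    apply monic_X_pow_sub
    rw [degree_X]; exact_mod_cast hp1
  have hgdeg : (X ^ p - X : A[X]).natDegree = p := by
    rw [natDegree_sub_eq_left_of_natDegree_lt (by rw [natDegree_X_pow, natDegree_X]; exact hp1),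
      natDegree_X_pow]
  have B : ∀ r : A[X], r.natDegree < p → r = ∑ i : Fin p, C (r.coeff i) * X ^ (i : ℕ) := by
    intro r hr
    rw [Fin.sum_univ_eq_sum_range (fun i => C (r.coeff i) * X ^ i) p]
    conv_lhs => rw [as_sum_range' r p hr]
    exact Finset.sum_congr rfl fun i _ => (C_mul_X_pow_eq_monomial).symm
  have E : ∀ n : ℕ, ∀ q : A[X], q.natDegree = n →
      ∃ c : Fin p → A[X], q = ∑ i : Fin p, aeval (X - X ^ p : A[X]) (c i) * X ^ (i : ℕ) := by
    intro n
    induction n using Nat.strong_induction_on with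
    | _ n ih =>
      intro q hq
      by_cases hlt : q.natDegree < p
      · refine ⟨fun i => C (q.coeff i), ?_⟩
        conv_lhs => rw [B q hlt]
        refine Finset.sum_congr rfl fun i _ => ?_
        rw [aeval_C, ← C_eq_algebraMap]
      · push_neg at hlt
        have hdeg : (q /ₘ (X ^ p - X : A[X])).natDegree < n := by
          rw [natDegree_divByMonic q hg, hgdeg, ← hq]; omega
        obtain ⟨c1, hc1⟩ := ih _ hdeg (q /ₘ (X ^ p - X : A[X])) rfl
        have hg1 : (X ^ p - X : A[X]) ≠ 1 := by
          intro h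
          have := congrArg natDegree h
          rw [hgdeg, natDegree_one] at this
          omega
        have hrdeg : (q %ₘ (X ^ p - X : A[X])).natDegree < p := by
          have := natDegree_modByMonic_lt q hg hg1
          rwa [hgdeg] at this
        have h2 := B _ hrdeg
        refine ⟨fun i => -(X * c1 i) + C ((q %ₘ (X ^ p - X : A[X])).coeff i), ?_⟩
        have h3 : q = q %ₘ (X ^ p - X : A[X]) + (X ^ p - X) * (q /ₘ (X ^ p - X : A[X])) :=
          (modByMonic_add_div q (X ^ p - X : A[X])).symm
        calc q = q %ₘ (X ^ p - X : A[X]) + (X ^ p - X) * (q /ₘ (X ^ p - X : A[X])) := h3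
          _ = (∑ i : Fin p, C ((q %ₘ (X ^ p - X : A[X])).coeff i) * X ^ (i : ℕ)) +
              (X ^ p - X) * ∑ i : Fin p, aeval (X - X ^ p : A[X]) (c1 i) * X ^ (i : ℕ) := by
                rw [← h2, ← hc1]
          _ = _ := by
                rw [Finset.mul_sum, ← Finset.sum_add_distrib]
                refine Finset.sum_congr rfl fun i _ => ?_
                simp only [map_add, map_neg, map_mul, aeval_X, aeval_C, ← C_eq_algebraMap]
                ring
  have S : ∀ d : Fin p → A[X],
      ∑ i : Fin p, aeval (X - X ^ p : A[X]) (d i) * X ^ (i : ℕ) = 0 →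
      (∀ i, (d i).coeff 0 = 0) ∧
      ∑ i : Fin p, aeval (X - X ^ p : A[X]) ((d i).divX) * X ^ (i : ℕ) = 0 := by
    intro d hd
    have key : (∑ i : Fin p, C ((d i).coeff 0) * X ^ (i : ℕ)) + (X ^ p - X) *
        (-(∑ i : Fin p, aeval (X - X ^ p : A[X]) ((d i).divX) * X ^ (i : ℕ))) = 0 := by
      rw [← hd, mul_neg, Finset.mul_sum, ← Finset.sum_neg_distrib, ← Finset.sum_add_distrib]
      refine Finset.sum_congr rfl fun i _ => ?_
      conv_rhs => rw [← divX_mul_X_add (d i)]
      simp only [map_add, map_mul, aeval_X, aeval_C, ← C_eq_algebraMap]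
      ring
    have hdegR : (∑ i : Fin p, C ((d i).coeff 0) * X ^ (i : ℕ)).degree <
        (X ^ p - X : A[X]).degree := by
      rw [degree_eq_natDegree hg.ne_zero, hgdeg]
      exact degree_sum_fin_lt _
    obtain ⟨h1, h2⟩ := div_modByMonic_unique _ _ hg ⟨key, hdegR⟩
    rw [zero_divByMonic] at h1
    rw [zero_modByMonic] at h2
    refine ⟨fun i0 => ?_, neg_eq_zero.1 h1.symm⟩
    have := congrArg (fun f => f.coeff (i0 : ℕ)) h2
    simp only [finsetSum_coeff, coeff_C_mul_X_pow, coeff_zero] at this
    rw [Finset.sum_eq_single i0 (fun b _ hb => if_neg (fun h => hb (Fin.ext h.symm)))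
      (by simp)] at this
    simpa using this.symm
  have U : ∀ n : ℕ, ∀ d : Fin p → A[X], (∀ i, (d i).natDegree ≤ n) →
      ∑ i : Fin p, aeval (X - X ^ p : A[X]) (d i) * X ^ (i : ℕ) = 0 → ∀ i, d i = 0 := by
    intro n
    induction n with
    | zero =>
      intro d hdn hd i
      obtain ⟨h0, -⟩ := S d hd
      rw [eq_C_of_natDegree_le_zero (hdn i), h0 i, C_0]
    | succ n ih =>
      intro d hdn hd i
      obtain ⟨h0, hQ⟩ := S d hd
      have he : (d i).divX = 0 := ih (fun i => (d i).divX) (fun i => by
        rw [natDegree_divX_eq_natDegree_tsub_one]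
        have := hdn i
        omega) hQ i
      rw [← divX_mul_X_add (d i), he, h0 i, zero_mul, C_0, add_zero]
  obtain ⟨c, hc⟩ := E _ q rfl
  refine ⟨c, hc, fun c' hc' => ?_⟩
  funext i
  have hsum : ∑ i : Fin p, aeval (X - X ^ p : A[X]) ((c' - c) i) * X ^ (i : ℕ) = 0 := by
    simp only [Pi.sub_apply, map_sub, sub_mul, Finset.sum_sub_distrib]
    rw [← hc, ← hc', sub_self]
  have := U (Finset.univ.sup fun i => ((c' - c) i).natDegree) (c' - c)
    (fun i => Finset.le_sup (f := fun i => ((c' - c) i).natDegree) (Finset.mem_univ i)) hsum i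
  exact sub_eq_zero.1 this

end Groth.Agent.S5120
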