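import Groth.Statements.S5132
import Mathlib

set_option autoImplicit false
open CategoryTheory AlgebraicGeometry
universe u
open SGA1

namespace Groth.Agent.S5132

/-- Quasi-compactness of a morphism descends along a surjective and quasi-compact base change; flatness
of the base change is not needed for this property. -/
theorem result :
    MorphismProperty.DescendsAlong @QuasiCompact (@Surjective ⊓ @QuasiCompact : MorphismProperty Scheme.{u}) := by
  constructor
  intro A X Y Z fst snd f g hpb hf hfst
  obtain ⟨hfs, hfq⟩ := hf
  haveI : Surjective f := hfs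
  haveI : QuasiCompact f := hfq
  haveI : QuasiCompact fst := hfst
  have hsnd : Surjective snd := MorphismProperty.of_isPullback (P := @Surjective) hpb hfs
  constructor
  intro U hUo hUc
  have h1 : IsCompact (f ⁻¹' U) := QuasiCompact.isCompact_preimage U hUo hUc
  have h2 : IsCompact (fst ⁻¹' (f ⁻¹' U)) :=
    QuasiCompact.isCompact_preimage _ (hUo.preimage f.continuous) h1
  have h3 : fst ⁻¹' (f ⁻¹' U) = snd ⁻¹' (g ⁻¹' U) := by
    ext a
    simp only [Set.mem_preimage]
    have : f (fst a) = g (snd a) := by
      have := congrArg (fun φ => φ.base a) hpb.w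
      simpa using this
    rw [this]
  rw [h3] at h2
  have h4 : g ⁻¹' U = snd '' (snd ⁻¹' (g ⁻¹' U)) := (Set.image_preimage_eq _ hsnd.surj).symm
  rw [h4]
  exact h2.image snd.continuous

end Groth.Agent.S5132
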