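import Groth.Statements.S5133
import Mathlib

set_option autoImplicit false
open CategoryTheory CategoryTheory.Limits AlgebraicGeometry
universe u
open SGA1

namespace Groth.Agent.S5133

lemma affine_case {X Y : Scheme.{u}} (f : X ⟶ Y) (V : Y.Opens) (hV : IsAffineOpen V)
    (W : X.Opens) (hW : IsAffineOpen W) (hWV : W ≤ f ⁻¹ᵁ V) (y : Y) (hyV : y ∈ V)
    (hyW : y ∈ closure (f '' (W : Set X))) :
    ∃ x : X, f x ⤳ y := by
  have hrel := IsAffineOpen.SpecMap_appLE_fromSpec f hV hW hWV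
  obtain ⟨φ, hφ⟩ : ∃ φ : Γ(Y, V) →+* Γ(X, W), φ = (f.appLE V W hWV).hom := ⟨_, rfl⟩
  have hpt : ∀ q : PrimeSpectrum Γ(X, W),
      f (hW.fromSpec q) = hV.fromSpec (PrimeSpectrum.comap φ q) := by
    intro q
    have h := congrArg (fun k : Spec Γ(X, W) ⟶ Y => k q) hrel
    simp only [Scheme.Hom.comp_apply] at h
    rw [hφ]
    exact h.symm
  have hinj : Function.Injective hV.fromSpec := hV.fromSpec.isOpenEmbedding.injective
  obtain ⟨p, hp⟩ : ∃ p : PrimeSpectrum Γ(Y, V), hV.fromSpec p = y := by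
    have h : y ∈ Set.range hV.fromSpec := by
      rw [hV.range_fromSpec]
      exact hyV
    exact h
  have hker : RingHom.ker φ ≤ p.asIdeal := by
    intro a ha
    by_contra hap
    have hopen : IsOpen (hV.fromSpec '' (PrimeSpectrum.basicOpen a : Set (PrimeSpectrum Γ(Y, V)))) :=
      hV.fromSpec.isOpenEmbedding.isOpenMap _ (PrimeSpectrum.basicOpen a).isOpen
    have hy_in : y ∈ hV.fromSpec '' (PrimeSpectrum.basicOpen a : Set (PrimeSpectrum Γ(Y, V))) :=
      ⟨p, hap, hp⟩
    obtain ⟨z, hz1, hz2⟩ := mem_closure_iff.mp hyW _ hopen hy_in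
    obtain ⟨w, hwW, rfl⟩ := hz2
    obtain ⟨q, rfl⟩ : ∃ q, hW.fromSpec q = w := by
      have h : w ∈ Set.range hW.fromSpec := by
        rw [hW.range_fromSpec]
        exact hwW
      exact h
    rw [hpt q] at hz1
    obtain ⟨p2, hp2, hp2eq⟩ := hz1
    have h5 := hinj hp2eq
    subst h5
    apply hp2
    change φ a ∈ q.asIdeal
    rw [RingHom.mem_ker.mp ha]
    exact q.asIdeal.zero_mem
  obtain ⟨p0, hp0, hp0le⟩ := Ideal.exists_minimalPrimes_le hker
  rw [RingHom.ker_eq_comap_bot] at hp0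
  obtain ⟨p', hp'prime, -, hp'eq⟩ := Ideal.exists_comap_eq_of_mem_minimalPrimes φ p0 hp0
  refine ⟨hW.fromSpec ⟨p', hp'prime⟩, ?_⟩
  rw [hpt, ← hp]
  refine Specializes.map ?_ hV.fromSpec.continuous
  refine (PrimeSpectrum.le_iff_specializes (PrimeSpectrum.comap φ ⟨p', hp'prime⟩) p).mp ?_
  change (PrimeSpectrum.comap φ ⟨p', hp'prime⟩).asIdeal ≤ p.asIdeal
  rw [PrimeSpectrum.comap_asIdeal]
  change Ideal.comap φ p' ≤ p.asIdeal
  rw [hp'eq]
  exact hp0le

lemma exists_specializes_of_mem_closure_range {X Y : Scheme.{u}} (f : X ⟶ Y) [QuasiCompact f]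
    (y : Y) (hy : y ∈ closure (Set.range f)) : ∃ x : X, f x ⤳ y := by
  obtain ⟨_, ⟨V, hV, rfl⟩, hyV, -⟩ :=
    Y.isBasis_affineOpens.exists_subset_of_mem_open (Set.mem_univ y) isOpen_univ
  have hcomp : IsCompact (f ⁻¹' (V : Set Y)) :=
    QuasiCompact.isCompact_preimage _ V.isOpen hV.isCompact
  obtain ⟨s, hs, hsU⟩ := (isCompact_and_isOpen_iff_finite_and_eq_biUnion_affineOpens).mp
    ⟨hcomp, V.isOpen.preimage f.continuous⟩
  have h1 : y ∈ closure ((V : Set Y) ∩ Set.range f) := V.isOpen.inter_closure ⟨hyV, hy⟩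
  have hmem : ∀ (W : X.affineOpens), W ∈ s → ∀ x : X, x ∈ (W : X.Opens) → x ∈ f ⁻¹' (V : Set Y) := by
    intro W hW x hx
    rw [hsU]
    simp only [Set.mem_iUnion]
    exact ⟨W, hW, hx⟩
  have h2 : (V : Set Y) ∩ Set.range f = ⋃ W ∈ s, f '' ((W : X.Opens) : Set X) := by
    ext z
    simp only [Set.mem_inter_iff, Set.mem_range, Set.mem_iUnion, Set.mem_image]
    constructor
    · rintro ⟨hz, x, rfl⟩
      have hx : x ∈ f ⁻¹' (V : Set Y) := hz
      rw [hsU] at hx
      simp only [Set.mem_iUnion] at hx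
      obtain ⟨W, hW, hxW⟩ := hx
      exact ⟨W, hW, x, hxW, rfl⟩
    · rintro ⟨W, hW, x, hxW, rfl⟩
      exact ⟨hmem W hW x hxW, x, rfl⟩
  rw [h2, hs.closure_biUnion] at h1
  simp only [Set.mem_iUnion] at h1
  obtain ⟨W, hWs, hyW⟩ := h1
  have hWV : (W : X.Opens) ≤ f ⁻¹ᵁ V := fun x hx => hmem W hWs x hx
  exact affine_case f V hV W.1 W.2 hWV y hyV hyW

lemma key_closed {X Y Y' : Scheme.{u}} (f : X ⟶ Y)
    (g : Y' ⟶ Y) [QuasiCompact f] [Flat g] [Surjective g]
    (h : Topology.IsEmbedding (pullback.snd f g).base) (C : Set X) (hC : IsClosed C)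
    (a : X) (ha : f a ∈ closure (f '' C)) : a ∈ C := by
  let I := Scheme.IdealSheafData.vanishingIdeal ⟨C, hC⟩
  have hrange : Set.range I.subschemeι = C := by
    rw [Scheme.IdealSheafData.range_subschemeι]
    simp [I]
  have hr2 : Set.range (I.subschemeι ≫ f) = f '' C := by
    rw [Scheme.Hom.comp_base, TopCat.coe_comp, Set.range_comp, hrange]
  rw [← hr2] at ha
  obtain ⟨c0, hc0⟩ := exists_specializes_of_mem_closure_range (I.subschemeι ≫ f) (f a) ha
  have hcC : I.subschemeι c0 ∈ C := by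
    rw [← hrange]
    exact ⟨c0, rfl⟩
  rw [Scheme.Hom.comp_apply] at hc0
  obtain ⟨y', hy'⟩ := g.surjective (f a)
  rw [← hy'] at hc0
  obtain ⟨y1', hy1', hy1'eq⟩ := (Flat.generalizingMap g) hc0
  obtain ⟨c', hc'1, hc'2⟩ := Scheme.Pullback.exists_preimage_pullback (f := f) (g := g)
    (I.subschemeι c0) y1' hy1'eq.symm
  obtain ⟨a', ha'1, ha'2⟩ := Scheme.Pullback.exists_preimage_pullback (f := f) (g := g)
    a y' hy'.symm
  have hsp : c' ⤳ a' := by
    rw [← h.isInducing.specializes_iff]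
    change (pullback.snd f g) c' ⤳ (pullback.snd f g) a'
    rw [hc'2, ha'2]
    exact hy1'
  have hsp2 := hsp.map (pullback.fst f g).continuous
  rw [hc'1, ha'1] at hsp2
  exact hsp2.mem_closed hC hcC

/-- For a quasi-compact morphism f : X ⟶ Y and a flat surjective base change g : Y' ⟶ Y, with no
quasi-compactness asked of g, if the base change of f along g is a homeomorphism onto its image then
f is a homeomorphism onto its image. -/
theorem result {X Y Y' : Scheme.{u}} (f : X ⟶ Y)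
    (g : Y' ⟶ Y) [QuasiCompact f] [Flat g] [Surjective g]
    (h : Topology.IsEmbedding (pullback.snd f g).base) : Topology.IsEmbedding f.base := by
  have hind : Topology.IsInducing f.base := by
    refine ⟨le_antisymm (continuous_iff_le_induced.mp f.continuous) ?_⟩
    intro U hU
    rw [← @isClosed_compl_iff _ (TopologicalSpace.induced _ _), isClosed_induced_iff']
    intro a ha
    exact key_closed f g h Uᶜ hU.isClosed_compl a ha
  refine ⟨hind, ?_⟩
  intro x1 x2 hx
  obtain ⟨y', hy'⟩ := g.surjective (f x1)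
  obtain ⟨x1', h11, h12⟩ := Scheme.Pullback.exists_preimage_pullback (f := f) (g := g)
    x1 y' hy'.symm
  obtain ⟨x2', h21, h22⟩ := Scheme.Pullback.exists_preimage_pullback (f := f) (g := g)
    x2 y' (by rw [hy']; exact hx.symm)
  have : x1' = x2' := h.injective (h12.trans h22.symm)
  rw [← h11, ← h21, this]

end Groth.Agent.S5133
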