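import Groth.Statements.S5140
import Groth.Agent.Lib.helper3.FibEquiv2

set_option autoImplicit false
open CategoryTheory
universe u v u₂ v₂
open FibCat

namespace Groth.Agent.S5140

/-- If the structure functor of 𝒳 is transportable (isomorphisms of C lift to isomorphisms of 𝒳 with any
prescribed source over their source), then a functor 𝒳 ⟶ 𝒴 over C whose underlying functor is an
equivalence of categories is an equivalence over C. -/
theorem result {C : Type u} [Category.{v} C]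
    {𝒳 𝒴 : BasedCategory.{v₂, u₂} C}
    (h𝒳 : ∀ ⦃T S : C⦄ (α : T ≅ S) (ξ : 𝒳.obj), 𝒳.p.obj ξ = T →
      ∃ (ξ' : 𝒳.obj) (e : ξ ≅ ξ'), 𝒳.p.IsHomLift α.hom e.hom)
    (F : 𝒳 ⥤ᵇ 𝒴) [F.toFunctor.IsEquivalence] : FibCat.IsEquivOver F := by
  have hff : F.toFunctor.Full ∧ F.toFunctor.Faithful := ⟨inferInstance, inferInstance⟩
  refine (Groth.Agent.Helper3.isEquivOver_iff F).2 ⟨hff, ?_⟩
  intro η
  let ξ₀ := F.toFunctor.objPreimage η
  let e₀ : F.toFunctor.obj ξ₀ ≅ η := F.toFunctor.objObjPreimageIso η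
  obtain ⟨ξ', e, he⟩ := h𝒳 (𝒴.p.mapIso e₀) ξ₀ (F.w_obj ξ₀).symm
  have h1 : 𝒳.p.IsHomLift (𝒴.p.mapIso e₀).inv e.inv := inferInstance
  have h2 : 𝒴.p.IsHomLift (𝒴.p.mapIso e₀).inv (F.toFunctor.map e.inv) :=
    BasedFunctor.preserves_isHomLift F _ _
  have h3 : 𝒴.p.IsHomLift (𝒴.p.map e₀.hom) e₀.hom := inferInstance
  have h4 : 𝒴.p.IsHomLift ((𝒴.p.mapIso e₀).inv ≫ 𝒴.p.map e₀.hom) (F.toFunctor.map e.inv ≫ e₀.hom) :=
    inferInstance
  have h5 : (𝒴.p.mapIso e₀).inv ≫ 𝒴.p.map e₀.hom = 𝟙 (𝒴.p.obj η) := by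
    simp [← Functor.map_comp]
  refine ⟨ξ', (F.toFunctor.mapIso e).symm ≪≫ e₀, ?_⟩
  rw [h5] at h4
  exact h4

end Groth.Agent.S5140
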