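import Groth.Statements.S5142
import Groth.Agent.Lib.helper3.FibFp4

set_option autoImplicit false
open CategoryTheory
universe u v u₂ v₂
open FibCat

namespace Groth.Agent.S5142

/-- A morphism of the fibre product 𝒳 ×_C 𝒴 of two categories over C is cartesian if and only if its two
components are cartesian (each over its image in C). The fibre product is taken as the 2-fibre
product over C of the two structure functors, whose objects are pairs over one object of C together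
with an isomorphism of C lying over an identity. -/
theorem result {C : Type u} [Category.{v} C] {𝒳 𝒴 : BasedCategory.{v₂, u₂} C}
    {x y : (FibCat.fp (FibCat.toSelf 𝒳) (FibCat.toSelf 𝒴)).obj} (φ : x ⟶ y) :
    (FibCat.fp (FibCat.toSelf 𝒳) (FibCat.toSelf 𝒴)).p.IsCartesian
        ((FibCat.fp (FibCat.toSelf 𝒳) (FibCat.toSelf 𝒴)).p.map φ) φ ↔
      𝒳.p.IsCartesian (𝒳.p.map φ.hom.fst) φ.hom.fst ∧ 𝒴.p.IsCartesian (𝒴.p.map φ.hom.snd) φ.hom.snd := by
  constructor
  · intro h
    have h' : (FibCat.fp (FibCat.toSelf 𝒳) (FibCat.toSelf 𝒴)).p.IsCartesian (𝒳.p.map φ.hom.fst) φ := h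
    refine ⟨Groth.Agent.Helper3.fpSelf_isCartesian_fst φ, ?_⟩
    have h2 := Groth.Agent.Helper3.fpSelf_isCartesian_snd φ
    exact Groth.Agent.Helper3.isCartesian_map_of_isCartesian 𝒴.p (𝒳.p.map φ.hom.fst) φ.hom.snd
  · rintro ⟨h1, h2⟩
    have hsnd : 𝒴.p.IsHomLift (𝒳.p.map φ.hom.fst) φ.hom.snd := FibCat.fp_isHomLift_snd _ _ φ
    have h2' : 𝒴.p.IsCartesian (𝒳.p.map φ.hom.fst) φ.hom.snd :=
      Groth.Agent.Helper3.isCartesian_of_isHomLift 𝒴.p _ _ h2
    have hl : (𝟭 C).IsHomLift (𝒳.p.map φ.hom.fst) ((FibCat.toSelf 𝒴).toFunctor.map φ.hom.snd) :=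
      BasedFunctor.preserves_isHomLift (FibCat.toSelf 𝒴) _ _
    have hsc : (FibCat.selfOver C).p.IsStronglyCartesian (𝒳.p.map φ.hom.fst)
        ((FibCat.toSelf 𝒴).toFunctor.map φ.hom.snd) :=
      Groth.Agent.Helper3.id_isStronglyCartesian _ _
    have hc : (FibCat.selfOver C).p.IsCartesian (𝒳.p.map φ.hom.fst)
        ((FibCat.toSelf 𝒴).toFunctor.map φ.hom.snd) := inferInstance
    exact Groth.Agent.Helper3.fp_isCartesian_of (FibCat.toSelf 𝒳) (FibCat.toSelf 𝒴) (𝒳.p.map φ.hom.fst) φ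

end Groth.Agent.S5142
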