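import Groth.Statements.S5155
import Groth.Agent.Lib.helper1.MatlisEnd

set_option autoImplicit false
universe u
open Matlis

open IsLocalRing
namespace Groth.Agent.S5155

/-- Let A be a Noetherian local ring with residue field k. An A-module E is an injective hull of k if
and only if E is injective, E is m-power torsion, and Hom_A(k, E) is simple (one-dimensional over
k). (The torsion condition is needed: for a prime p ≠ m the module E(k) ⊕ E(A/p) is injective with
Hom_A(k, −) simple, represents the same functor on modules of finite length, and is not an injective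
hull of k; the published definition of a dualizing module leaves this condition implicit and the
published proof uses it.) -/
theorem result (A : Type u) [CommRing A] [IsLocalRing A] [IsNoetherianRing A] (E : Type u) [AddCommGroup E] [Module A E] : (∃ f : IsLocalRing.ResidueField A →ₗ[A] E, InjHull.IsInjectiveHull f) ↔ (Module.Injective A E ∧ LocCoh.IsPowerTorsion (IsLocalRing.maximalIdeal A) E ∧ IsSimpleModule A (IsLocalRing.ResidueField A →ₗ[A] E)) := by
  classical
  constructor
  · rintro ⟨f, hf⟩
    obtain ⟨hfi, hfe⟩ := (Helper1.isEssentialInj_iff f).mp hf.toIsEssentialInj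
    refine ⟨hf.isInjective, Helper1.hpt_of_hull f hf, ?_⟩
    have h1 := Helper1.length_hom_residueField f hfi hfe
    exact Module.length_eq_one_iff.1 h1
  · rintro ⟨hinj, hpt, hsimple⟩
    haveI := hsimple
    haveI : IsSimpleModule A (ResidueField A) := Helper1.isSimpleModule_residueField
    haveI : Nontrivial (ResidueField A →ₗ[A] E) := IsSimpleModule.nontrivial A _
    obtain ⟨f, hf0⟩ := exists_ne (0 : ResidueField A →ₗ[A] E)
    have hfi : Function.Injective f := (LinearMap.injective_or_eq_zero f).resolve_right hf0
    refine ⟨f, ⟨⟨hfi, ?_⟩, hinj⟩⟩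
    rw [← Helper1.isEss_iff]
    intro y hy0
    have hex := hpt y
    have hn : ∀ a ∈ maximalIdeal A ^ (Nat.find hex), a • y = 0 := Nat.find_spec hex
    have hnpos : Nat.find hex ≠ 0 := by
      intro h0
      have := hn 1 (by rw [h0, pow_zero, Ideal.one_eq_top]; trivial)
      rw [one_smul] at this
      exact hy0 this
    obtain ⟨m, hm⟩ : ∃ m, Nat.find hex = m + 1 := Nat.exists_eq_succ_of_ne_zero hnpos
    have hmin : ¬ ∀ a ∈ maximalIdeal A ^ m, a • y = 0 := Nat.find_min hex (by omega)
    push Not at hmin
    obtain ⟨x, hxm, hxy⟩ := hmin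
    have hkill : ∀ r ∈ maximalIdeal A, r • (x • y) = 0 := by
      intro r hr
      rw [smul_smul]
      apply hn
      rw [hm, pow_succ']
      exact Ideal.mul_mem_mul hr hxm
    let h : ResidueField A →ₗ[A] E := Submodule.liftQ (maximalIdeal A)
      (LinearMap.toSpanSingleton A E (x • y)) (by
        intro r hr
        rw [LinearMap.mem_ker, LinearMap.toSpanSingleton_apply]
        exact hkill r hr)
    have hh1 : h 1 = x • y := by
      show (1 : A) • (x • y) = _
      rw [one_smul]
    obtain ⟨r, hr⟩ := IsSimpleModule.toSpanSingleton_surjective A hf0 h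
    refine ⟨x, hxy, ⟨r • (1 : ResidueField A), ?_⟩⟩
    rw [map_smul, ← hh1, ← hr]
    rfl

end Groth.Agent.S5155
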