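import Groth.Statements.S5157
import Groth.Agent.Lib.helper1.MatlisArt

set_option autoImplicit false
universe u
open Matlis

open IsLocalRing
namespace Groth.Agent.S5157

/-- Let A be a Noetherian local ring, a an ideal with A/a local (i.e. a ≠ A) and E an injective hull of
the residue field of A. Then the annihilator of a in E, E[a] = {e | a e = 0}, is an injective hull
of the residue field of A/a over A/a. -/
theorem result (A : Type u) [CommRing A] [IsLocalRing A] [IsNoetherianRing A] (a : Ideal A) [IsLocalRing (A ⧸ a)] (E : Type u) [AddCommGroup E] [Module A E] (f : IsLocalRing.ResidueField A →ₗ[A] E) (hf : InjHull.IsInjectiveHull f) : ∃ g : IsLocalRing.ResidueField (A ⧸ a) →ₗ[A ⧸ a] (LocCoh.torsionBy a E), InjHull.IsInjectiveHull g := by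
  classical
  haveI := hf.isInjective
  have ha : a ≤ maximalIdeal A := by
    apply IsLocalRing.le_maximalIdeal
    intro h
    have : Subsingleton (A ⧸ a) := Ideal.Quotient.subsingleton_iff.2 h
    exact not_subsingleton (A ⧸ a) this
  have hkill : ∀ r ∈ maximalIdeal A, r • f 1 = 0 := by
    intro r hr
    rw [← map_smul, Helper1.smul_residueField_eq_zero hr, map_zero]
  have hf1 : f 1 ≠ 0 := by
    intro h
    have := hf.injective (h.trans (map_zero f).symm)
    exact one_ne_zero this
  have hmemT : f 1 ∈ LocCoh.torsionBy a E := by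
    rw [Submodule.mem_torsionBySet_iff]
    intro x
    exact hkill x (ha x.2)
  have hkillB : maximalIdeal (A ⧸ a) ≤ LinearMap.ker
      (LinearMap.toSpanSingleton (A ⧸ a) (LocCoh.torsionBy a E) ⟨f 1, hmemT⟩) := by
    intro b hb
    obtain ⟨r, rfl⟩ := Ideal.Quotient.mk_surjective b
    rw [LinearMap.mem_ker, LinearMap.toSpanSingleton_apply, Submodule.torsionBySet.mk_smul]
    have hr : r ∈ maximalIdeal A := by
      rw [mem_maximalIdeal, mem_nonunits_iff]
      intro hu
      exact (mem_maximalIdeal _).1 hb (hu.map _)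
    exact Subtype.ext (hkill r hr)
  let g : ResidueField (A ⧸ a) →ₗ[A ⧸ a] LocCoh.torsionBy a E :=
    Submodule.liftQ (maximalIdeal (A ⧸ a)) (LinearMap.toSpanSingleton _ _ ⟨f 1, hmemT⟩) hkillB
  have hg : ∀ b : A ⧸ a, g (residue _ b) = b • (⟨f 1, hmemT⟩ : LocCoh.torsionBy a E) :=
    fun b => rfl
  haveI : IsSimpleModule (A ⧸ a) (ResidueField (A ⧸ a)) := Helper1.isSimpleModule_residueField
  have hginj : Function.Injective g := by
    rcases LinearMap.injective_or_eq_zero g with h | h
    · exact h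
    · exfalso
      have h1 : g (residue _ 1) = 0 := by rw [h]; rfl
      rw [hg, one_smul] at h1
      exact hf1 (congrArg Subtype.val h1)
  have hess : ∀ N : Submodule (A ⧸ a) (LocCoh.torsionBy a E), N ≠ ⊥ →
      N ⊓ LinearMap.range g ≠ ⊥ := by
    intro N hN
    obtain ⟨n, hnN, hn0⟩ := (Submodule.ne_bot_iff N).1 hN
    have he0 : (n : E) ≠ 0 := fun h => hn0 (Subtype.ext h)
    have h1 := hf.essential (Submodule.span A {(n : E)}) (by
      rw [Ne, Submodule.span_singleton_eq_bot]; exact he0)
    obtain ⟨y, hy, hy0⟩ := (Submodule.ne_bot_iff _).1 h1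
    obtain ⟨hy1, hy2⟩ := Submodule.mem_inf.1 hy
    obtain ⟨r, rfl⟩ := Submodule.mem_span_singleton.1 hy1
    obtain ⟨c, hc⟩ := hy2
    obtain ⟨s, rfl⟩ := residue_surjective c
    rw [Ne, Submodule.eq_bot_iff]
    push Not
    refine ⟨(Ideal.Quotient.mk a r) • n,
      ⟨N.smul_mem _ hnN, ⟨residue _ (Ideal.Quotient.mk a s), ?_⟩⟩, ?_⟩
    · rw [hg, Submodule.torsionBySet.mk_smul, Submodule.torsionBySet.mk_smul]
      apply Subtype.ext
      show s • f 1 = r • (n : E)
      rw [← hc, ← map_smul]
      congr 1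
      rw [Algebra.smul_def, mul_one]
      rfl
    · intro h0
      apply hy0
      have h2 := congrArg Subtype.val h0
      rw [Submodule.torsionBySet.mk_smul] at h2
      exact h2
  have hinjT : Module.Injective (A ⧸ a) (LocCoh.torsionBy a E) := by
    apply Module.Baer.injective
    intro J φ
    let φ' : (J.comap (Ideal.Quotient.mk a)) →ₗ[A] E :=
      { toFun := fun x => (φ ⟨Ideal.Quotient.mk a x.1, x.2⟩ : E)
        map_add' := fun x y => by
          have h1 : (⟨Ideal.Quotient.mk a (x + y).1, (x + y).2⟩ : J) =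
              ⟨Ideal.Quotient.mk a x.1, x.2⟩ + ⟨Ideal.Quotient.mk a y.1, y.2⟩ :=
            Subtype.ext (map_add _ _ _)
          rw [h1, map_add]
          rfl
        map_smul' := fun c x => by
          have h1 : (⟨Ideal.Quotient.mk a (c • x).1, (c • x).2⟩ : J) =
              (Ideal.Quotient.mk a c) • (⟨Ideal.Quotient.mk a x.1, x.2⟩ : J) :=
            Subtype.ext (map_mul _ _ _)
          rw [h1, map_smul, RingHom.id_apply, Submodule.torsionBySet.mk_smul]
          rfl }
    obtain ⟨ψ, hψ⟩ := (Module.Baer.of_injective (inferInstance : Module.Injective A E))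
      (J.comap (Ideal.Quotient.mk a)) φ'
    have hsm : ∀ x : A, x • ψ 1 = ψ x := by
      intro x
      rw [← map_smul, smul_eq_mul, mul_one]
    have he₀ : ψ 1 ∈ LocCoh.torsionBy a E := by
      rw [Submodule.mem_torsionBySet_iff]
      intro x
      have hxJ' : (x : A) ∈ J.comap (Ideal.Quotient.mk a) := by
        show Ideal.Quotient.mk a x ∈ J
        rw [Ideal.Quotient.eq_zero_iff_mem.2 x.2]
        exact J.zero_mem
      rw [hsm, hψ x hxJ']
      show (φ ⟨Ideal.Quotient.mk a x, hxJ'⟩ : E) = 0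
      have h3 : (⟨Ideal.Quotient.mk a x, hxJ'⟩ : J) = 0 :=
        Subtype.ext (Ideal.Quotient.eq_zero_iff_mem.2 x.2)
      rw [h3, map_zero]
      rfl
    refine ⟨LinearMap.toSpanSingleton (A ⧸ a) _ ⟨ψ 1, he₀⟩, ?_⟩
    intro b hb
    obtain ⟨x, rfl⟩ := Ideal.Quotient.mk_surjective b
    rw [LinearMap.toSpanSingleton_apply, Submodule.torsionBySet.mk_smul]
    apply Subtype.ext
    show x • ψ 1 = (φ ⟨Ideal.Quotient.mk a x, hb⟩ : E)
    rw [hsm, hψ x hb]
    rfl
  exact ⟨g, ⟨⟨hginj, hess⟩, hinjT⟩⟩

end Groth.Agent.S5157
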