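import Groth.Statements.S5158
import Groth.Agent.Lib.helper1.ComplAct

set_option autoImplicit false
universe u
open scoped TensorProduct
open Matlis

open scoped TensorProduct
namespace Groth.Agent.S5158

/-- Let A be a Noetherian local ring, Â its m-adic completion and I an m-power torsion A-module (a union
of submodules of finite length). Then x ↦ 1 ⊗ x is a bijection I → Â ⊗_A I. -/
theorem result (A : Type u) [CommRing A] [IsLocalRing A] [IsNoetherianRing A] (I : Type u) [AddCommGroup I] [Module A I] (hI : LocCoh.IsPowerTorsion (IsLocalRing.maximalIdeal A) I) : Function.Bijective (TensorProduct.mk A (AdicCompletion (IsLocalRing.maximalIdeal A) A) I 1) := by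
  classical
  let μ : AdicCompletion (IsLocalRing.maximalIdeal A) A ⊗[A] I →ₗ[A] I :=
    TensorProduct.lift (Helper1.actAlgHom (IsLocalRing.maximalIdeal A) hI).toLinearMap
  have hμ : ∀ e, μ ((1 : AdicCompletion (IsLocalRing.maximalIdeal A) A) ⊗ₜ e) = e := by
    intro e
    simp [μ]
  constructor
  · intro e e' h
    have h1 := congrArg μ h
    rwa [TensorProduct.mk_apply, TensorProduct.mk_apply, hμ, hμ] at h1
  · intro t
    induction t using TensorProduct.induction_on with
    | zero => exact ⟨0, by simp⟩
    | add x y hx hy =>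
      obtain ⟨a, rfl⟩ := hx
      obtain ⟨b, rfl⟩ := hy
      exact ⟨a + b, map_add _ _ _⟩
    | tmul x e =>
      obtain ⟨n, hn⟩ := hI e
      obtain ⟨r, hr⟩ := Ideal.Quotient.mk_surjective
        (AdicCompletion.evalₐ (IsLocalRing.maximalIdeal A) n x)
      refine ⟨r • e, ?_⟩
      have hz : x - algebraMap A _ r ∈ (IsLocalRing.maximalIdeal A ^ n • ⊤ :
          Submodule A (AdicCompletion (IsLocalRing.maximalIdeal A) A)) := by
        rw [AdicCompletion.pow_smul_top_eq_ker_eval
          (Ideal.fg_of_isNoetherianRing (IsLocalRing.maximalIdeal A)), LinearMap.mem_ker]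
        have h1 : AdicCompletion.evalₐ (IsLocalRing.maximalIdeal A) n (x - algebraMap A _ r) = 0 := by
          rw [map_sub, AlgHom.commutes, ← hr, Ideal.Quotient.algebraMap_eq, sub_self]
        have hle : IsLocalRing.maximalIdeal A ^ n ≤
            IsLocalRing.maximalIdeal A ^ n • (⊤ : Ideal A) := by
          rw [smul_eq_mul, Ideal.mul_top]
        rw [← AdicCompletion.factor_evalₐ_eq_eval (IsLocalRing.maximalIdeal A) (x - algebraMap A _ r) hle, h1, map_zero]
      have hkill : ∀ z ∈ (IsLocalRing.maximalIdeal A ^ n • ⊤ :
          Submodule A (AdicCompletion (IsLocalRing.maximalIdeal A) A)), z ⊗ₜ[A] e = 0 := by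
        intro z hz
        refine Submodule.smul_induction_on hz (fun a ha y _ => ?_) (fun y y' hy hy' => ?_)
        · rw [TensorProduct.smul_tmul, hn a ha, TensorProduct.tmul_zero]
        · rw [TensorProduct.add_tmul, hy, hy', add_zero]
      have h2 := hkill _ hz
      rw [TensorProduct.sub_tmul, sub_eq_zero] at h2
      rw [h2, TensorProduct.mk_apply, Algebra.algebraMap_eq_smul_one, TensorProduct.smul_tmul]

end Groth.Agent.S5158
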