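import Groth.Statements.S5163
import Mathlib.RingTheory.Regular.LinearMap

set_option autoImplicit false
universe u
open LocCoh

namespace Groth.Agent.S5163

/-- For modules over a Noetherian ring. Let P be a finite A-module and H any A-module with Supp H ⊆ Supp
P. If Hom_A(P, H) = 0 then H = 0. (The published lemma is stated over an arbitrary prescheme; its
proof uses that a nonzero module has an associated prime, so the ring is taken Noetherian here.) -/
theorem result (A : Type u) [CommRing A] [IsNoetherianRing A] (P H : Type u) [AddCommGroup P] [Module A P] [Module.Finite A P] [AddCommGroup H] [Module A H] (hsupp : Module.support A H ⊆ Module.support A P) (hhom : Subsingleton (P →ₗ[A] H)) : Subsingleton H := by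
  by_contra hH
  rw [not_subsingleton_iff_nontrivial] at hH
  obtain ⟨𝔭, h𝔭⟩ := associatedPrimes.nonempty A H
  obtain ⟨hprime, x, hx⟩ := isAssociatedPrime_iff.1 h𝔭
  have hmem : ∀ r, r ∈ 𝔭 ↔ r • x = 0 := by
    intro r
    rw [hx, Submodule.mem_colon_singleton, Submodule.mem_bot]
  have hx0 : x ≠ 0 := by
    rintro rfl
    exact hprime.ne_top ((Ideal.eq_top_iff_one _).2 ((hmem 1).2 (by simp)))
  have hsuppH : (⟨𝔭, hprime⟩ : PrimeSpectrum A) ∈ Module.support A H := by
    rw [Module.mem_support_iff_exists_annihilator]
    refine ⟨x, ?_⟩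
    intro r hr
    rw [Submodule.mem_annihilator_span_singleton] at hr
    exact (hmem r).2 hr
  have hsuppP := hsupp hsuppH
  have hann : Module.annihilator A P ≤ 𝔭 := Module.annihilator_le_of_mem_support hsuppP
  have hfin : Module.Finite A (Submodule.span A ({x} : Set H)) :=
    Module.Finite.span_of_finite A (Set.finite_singleton x)
  have hsub : Subsingleton (P →ₗ[A] (Submodule.span A ({x} : Set H))) := by
    refine ⟨fun f g => ?_⟩
    have := Subsingleton.elim ((Submodule.span A ({x} : Set H)).subtype ∘ₗ f)
      ((Submodule.span A ({x} : Set H)).subtype ∘ₗ g)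
    exact LinearMap.ext fun p => Subtype.ext (LinearMap.congr_fun this p)
  obtain ⟨r, hr, hreg⟩ := IsSMulRegular.subsingleton_linearMap_iff.1 hsub
  have hrx : r • x = 0 := (hmem r).1 (hann hr)
  have hxmem : x ∈ Submodule.span A ({x} : Set H) := Submodule.mem_span_singleton_self x
  have h0 : (⟨x, hxmem⟩ : Submodule.span A ({x} : Set H)) = 0 := by
    apply hreg
    show r • (⟨x, hxmem⟩ : Submodule.span A ({x} : Set H)) = r • 0
    exact Subtype.ext (by simp [hrx])
  exact hx0 (congrArg Subtype.val h0)

end Groth.Agent.S5163
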