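import Groth.Statements.S5166
import Groth.Agent.Lib.helper3.DimOne

set_option autoImplicit false
universe u
open LocCoh

namespace Groth.Agent.S5166

/-- In its local form at a point y ∈ Y (A = O_{X,y}). Let A be a Noetherian local ring and I ≠ A an
ideal contained in no minimal prime of A. Then some prime p ⊉ I has dim A/p = 1. -/
theorem result (A : Type u) [CommRing A] [IsLocalRing A] [IsNoetherianRing A] (I : Ideal A) (hI : I ≠ ⊤) (hdense : ∀ q ∈ minimalPrimes A, ¬ I ≤ q) : ∃ p : PrimeSpectrum A, ¬ I ≤ p.asIdeal ∧ ringKrullDim (A ⧸ p.asIdeal) = 1 := by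
  classical
  obtain ⟨q, hq, -⟩ := Ideal.exists_minimalPrimes_le
    (bot_le : (⊥ : Ideal A) ≤ IsLocalRing.maximalIdeal A)
  have hIq : ¬ I ≤ q := hdense q hq
  obtain ⟨x, hxI, hxq⟩ := Set.not_subset.1 hIq
  have hne : ({P : Ideal A | P.IsPrime ∧ x ∉ P}).Nonempty := ⟨q, hq.1.1, hxq⟩
  obtain ⟨p, ⟨hpp, hxp⟩, hpmax⟩ :=
    (wellFounded_gt : WellFounded ((· > ·) : Ideal A → Ideal A → Prop)).has_min _ hne
  haveI := hpp
  refine ⟨⟨p, hpp⟩, fun h => hxp (h hxI), ?_⟩
  show ringKrullDim (A ⧸ p) = 1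
  haveI : Nontrivial (A ⧸ p) := Ideal.Quotient.nontrivial_iff.2 hpp.ne_top
  haveI : IsLocalRing (A ⧸ p) :=
    IsLocalRing.of_surjective' (Ideal.Quotient.mk p) Ideal.Quotient.mk_surjective
  apply H3Dim1.dim_eq_one (A ⧸ p) (Ideal.Quotient.mk p x)
  · rw [IsLocalRing.mem_maximalIdeal, mem_nonunits_iff]
    intro hu
    haveI : IsLocalHom (Ideal.Quotient.mk p) :=
      IsLocalHom.of_surjective _ Ideal.Quotient.mk_surjective
    have hxu : IsUnit x := isUnit_of_map_unit (Ideal.Quotient.mk p) x hu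
    exact hI (Ideal.eq_top_of_isUnit_mem _ hxI hxu)
  · rwa [Ne, Ideal.Quotient.eq_zero_iff_mem]
  · intro Q hQ hQ0
    haveI := hQ
    by_contra hzQ
    have hcomap : (Q.comap (Ideal.Quotient.mk p)) ∈ {P : Ideal A | P.IsPrime ∧ x ∉ P} :=
      ⟨Ideal.comap_isPrime _ _, fun h => hzQ h⟩
    have hle : p ≤ Q.comap (Ideal.Quotient.mk p) := by
      intro a ha
      rw [Ideal.mem_comap, Ideal.Quotient.eq_zero_iff_mem.2 ha]
      exact Q.zero_mem
    have heq : Q.comap (Ideal.Quotient.mk p) = p := by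
      by_contra hne'
      exact hpmax _ hcomap (lt_of_le_of_ne hle (Ne.symm hne'))
    apply hQ0
    rw [← Ideal.map_comap_of_surjective _ Ideal.Quotient.mk_surjective Q, heq,
      Ideal.map_quotient_self]

end Groth.Agent.S5166
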