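import Groth.Statements.S5168
import Mathlib

set_option autoImplicit false
universe u
open InjHull

namespace Groth.Agent.S5168

/-- Let A be a Noetherian ring, J an ideal and H a J-power torsion A-module. Then H is injective if and
only if Hom_A(−, H) is exact on finite A-modules killed by a power of J, i.e. every linear map to H
from a submodule of such a module M extends to M. -/
theorem result (A : Type u) [CommRing A] [IsNoetherianRing A] (J : Ideal A) (H : Type u) [AddCommGroup H] [Module A H] (hH : LocCoh.IsPowerTorsion J H) : Module.Injective A H ↔ ∀ (M : Type u) [AddCommGroup M] [Module A M], Module.Finite A M → (∃ k : ℕ, (J ^ k) • (⊤ : Submodule A M) = ⊥) → ∀ (N : Submodule A M) (g : N →ₗ[A] H), ∃ g' : M →ₗ[A] H, g'.comp N.subtype = g := by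
  constructor
  · intro hinj M _ _ _ _ N g
    obtain ⟨h, hh⟩ := hinj.out N.subtype (Submodule.subtype_injective N) g
    exact ⟨h, LinearMap.ext hh⟩
  · intro hext
    apply Module.Baer.injective
    intro I g
    classical
    obtain ⟨m, s, hs⟩ := Module.Finite.exists_fin (R := A) (M := ↥I)
    have hki : ∀ i : Fin m, ∃ k : ℕ, ∀ a ∈ J ^ k, a • g (s i) = 0 := fun i => hH (g (s i))
    choose kf hkf using hki
    obtain ⟨k, hkdef⟩ : ∃ k, k = Finset.univ.sup kf := ⟨_, rfl⟩
    have hrange : LinearMap.range g ≤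
        Submodule.torsionBySet A H ((J ^ k : Ideal A) : Set A) := by
      rw [LinearMap.range_eq_map, ← hs, Submodule.map_span, Submodule.span_le]
      rintro _ ⟨_, ⟨i, rfl⟩, rfl⟩
      rw [SetLike.mem_coe, Submodule.mem_torsionBySet_iff]
      rintro ⟨a, ha⟩
      have hle : kf i ≤ k := by rw [hkdef]; exact Finset.le_sup (Finset.mem_univ i)
      exact hkf i a (Ideal.pow_le_pow_right hle ha)
    have hkill : ∀ (a : A), a ∈ J ^ k → ∀ y : ↥I, a • g y = 0 := by
      intro a ha y
      have h1 : g y ∈ Submodule.torsionBySet A H ((J ^ k : Ideal A) : Set A) :=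
        hrange ⟨y, rfl⟩
      rw [Submodule.mem_torsionBySet_iff] at h1
      exact h1 ⟨a, ha⟩
    have hP : J ^ k • (I : Submodule A A) ≤ Submodule.map I.subtype (LinearMap.ker g) := by
      rw [Submodule.smul_le]
      intro a ha b hb
      refine ⟨a • (⟨b, hb⟩ : ↥I), ?_, rfl⟩
      rw [SetLike.mem_coe, LinearMap.mem_ker, map_smul]
      exact hkill a ha ⟨b, hb⟩
    obtain ⟨c, hc⟩ := Ideal.exists_pow_inf_eq_pow_smul J (I : Submodule A A)
    obtain ⟨n, hn⟩ : ∃ n, n = k + c := ⟨_, rfl⟩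
    have hAR : ∀ x : A, x ∈ J ^ n → ∀ hx : x ∈ I, g ⟨x, hx⟩ = 0 := by
      intro x hxJ hxI
      have h2 : x ∈ J ^ n • (⊤ : Submodule A A) ⊓ (I : Submodule A A) := by
        refine ⟨?_, hxI⟩
        have h9 : x • (1 : A) ∈ J ^ n • (⊤ : Submodule A A) :=
          Submodule.smul_mem_smul hxJ Submodule.mem_top
        have h9' : x • (1 : A) = x := by rw [smul_eq_mul, mul_one]
        rw [h9'] at h9
        exact h9
      rw [hc n (by omega)] at h2
      have h3 : n - c = k := by omega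
      rw [h3] at h2
      have h4 : J ^ k • (J ^ c • (⊤ : Submodule A A) ⊓ (I : Submodule A A)) ≤
          J ^ k • (I : Submodule A A) := Submodule.smul_mono le_rfl inf_le_right
      obtain ⟨y, hy, hyx⟩ := hP (h4 h2)
      have hyeq : y = ⟨x, hxI⟩ := Subtype.ext hyx
      rw [← hyeq]
      exact LinearMap.mem_ker.mp hy
    have hfinM : Module.Finite A (A ⧸ J ^ n) := inferInstance
    have hkillM : ∃ k' : ℕ, (J ^ k') • (⊤ : Submodule A (A ⧸ J ^ n)) = ⊥ := by
      refine ⟨n, ?_⟩
      rw [eq_bot_iff, Submodule.smul_le]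
      intro a ha y _
      obtain ⟨b, rfl⟩ := Ideal.Quotient.mk_surjective y
      rw [Submodule.mem_bot]
      have h10 : a • (Ideal.Quotient.mk (J ^ n) b) = Ideal.Quotient.mk (J ^ n) (a * b) := rfl
      rw [h10, Ideal.Quotient.eq_zero_iff_mem]
      exact Ideal.mul_mem_right _ _ ha
    obtain ⟨q, hq⟩ : ∃ q : ↥I →ₗ[A] ↥(Submodule.map (J ^ n).mkQ I),
        ∀ x : ↥I, (q x : A ⧸ J ^ n) = (J ^ n).mkQ x.1 :=
      ⟨((J ^ n).mkQ.domRestrict I).codRestrict (Submodule.map (J ^ n).mkQ I)
        (fun x => ⟨x.1, x.2, rfl⟩), fun x => rfl⟩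
    have hqsurj : Function.Surjective q := by
      rintro ⟨y, x, hx, rfl⟩
      exact ⟨⟨x, hx⟩, Subtype.ext (hq ⟨x, hx⟩)⟩
    have hker : LinearMap.ker q ≤ LinearMap.ker g := by
      intro x hx
      rw [LinearMap.mem_ker] at hx ⊢
      have h5 : (J ^ n).mkQ x.1 = 0 := by rw [← hq x, hx]; rfl
      have h6 : x.1 ∈ J ^ n := by
        rw [Submodule.mkQ_apply] at h5
        exact (Submodule.Quotient.mk_eq_zero _).mp h5
      exact hAR x.1 h6 x.2
    obtain ⟨gbar, hgbar⟩ : ∃ gbar : ↥(Submodule.map (J ^ n).mkQ I) →ₗ[A] H,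
        ∀ x : ↥I, gbar (q x) = g x := by
      refine ⟨((LinearMap.ker q).liftQ g hker) ∘ₗ
        (q.quotKerEquivOfSurjective hqsurj).symm.toLinearMap, fun x => ?_⟩
      have h7 : (q.quotKerEquivOfSurjective hqsurj).symm (q x) = Submodule.Quotient.mk x := by
        rw [LinearEquiv.symm_apply_eq]
        rfl
      rw [LinearMap.comp_apply, LinearEquiv.coe_coe, h7, Submodule.liftQ_apply]
    obtain ⟨g', hg'⟩ := hext (A ⧸ J ^ n) hfinM hkillM (Submodule.map (J ^ n).mkQ I) gbar
    refine ⟨g' ∘ₗ (J ^ n).mkQ, fun x hx => ?_⟩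
    have h8 := LinearMap.congr_fun hg' (q ⟨x, hx⟩)
    rw [LinearMap.comp_apply, Submodule.subtype_apply, hq ⟨x, hx⟩, hgbar] at h8
    exact h8

end Groth.Agent.S5168
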