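import Groth.Statements.S5204
import Mathlib

set_option autoImplicit false
open CategoryTheory CategoryTheory.Limits
universe w v₁ u₁
open DescCat

namespace Groth.Agent.S5204

/-- In a category with pullbacks: if `u` and `v` are effective epimorphisms and `v` is a universal
epimorphism (all its base changes are epimorphisms), then the composite `v ≫ u` is an effective
epimorphism. -/
theorem result {C : Type u₁} [Category.{v₁} C] [HasPullbacks C]
    {U T S : C} (v : U ⟶ T) (u : T ⟶ S) [EffectiveEpi u] [EffectiveEpi v]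
    (hv : MorphismProperty.universally (MorphismProperty.epimorphisms C) v) :
    EffectiveEpi (v ≫ u) := by
  have key : ∀ {W : C} (e : U ⟶ W)
      (h : ∀ {Z : C} (g₁ g₂ : Z ⟶ U), g₁ ≫ v ≫ u = g₂ ≫ v ≫ u → g₁ ≫ e = g₂ ≫ e),
      ∃ w'' : S ⟶ W, (v ≫ u) ≫ w'' = e := by
    intro W e h
    have h1 : ∀ {Z : C} (g₁ g₂ : Z ⟶ U), g₁ ≫ v = g₂ ≫ v → g₁ ≫ e = g₂ ≫ e :=
      fun g₁ g₂ hg => h g₁ g₂ (by rw [reassoc_of% hg])
    let w' := EffectiveEpi.desc v e h1
    have hw' : v ≫ w' = e := EffectiveEpi.fac v e h1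
    have h2 : ∀ {Z : C} (g₁ g₂ : Z ⟶ T), g₁ ≫ u = g₂ ≫ u → g₁ ≫ w' = g₂ ≫ w' := by
      intro Z g₁ g₂ hg
      let a₁ : pullback g₁ v ⟶ Z := pullback.fst g₁ v
      let b₁ : pullback g₁ v ⟶ U := pullback.snd g₁ v
      haveI : Epi a₁ := hv _ _ _ (IsPullback.of_hasPullback g₁ v)
      let a₂ : pullback (a₁ ≫ g₂) v ⟶ pullback g₁ v := pullback.fst (a₁ ≫ g₂) v
      let b₂ : pullback (a₁ ≫ g₂) v ⟶ U := pullback.snd (a₁ ≫ g₂) v
      haveI : Epi a₂ := hv _ _ _ (IsPullback.of_hasPullback (a₁ ≫ g₂) v)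
      have e1 : (a₂ ≫ b₁) ≫ v = (a₂ ≫ a₁) ≫ g₁ := by
        simp only [Category.assoc, a₁, b₁, pullback.condition]
      have e2 : b₂ ≫ v = (a₂ ≫ a₁) ≫ g₂ := by
        simp only [Category.assoc, a₂, b₂]; exact pullback.condition.symm
      have e3 : (a₂ ≫ b₁) ≫ e = b₂ ≫ e :=
        h _ _ (by rw [← Category.assoc, e1, ← Category.assoc b₂, e2, Category.assoc,
          Category.assoc, hg]; simp only [Category.assoc])
      rw [← cancel_epi (a₂ ≫ a₁)]
      calc (a₂ ≫ a₁) ≫ g₁ ≫ w' = ((a₂ ≫ b₁) ≫ v) ≫ w' := by rw [e1]; simp only [Category.assoc]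
        _ = (a₂ ≫ b₁) ≫ e := by rw [Category.assoc, hw']
        _ = b₂ ≫ e := e3
        _ = (b₂ ≫ v) ≫ w' := by rw [Category.assoc, hw']
        _ = (a₂ ≫ a₁) ≫ g₂ ≫ w' := by rw [e2]; simp only [Category.assoc]
    exact ⟨EffectiveEpi.desc u w' h2, by rw [Category.assoc, EffectiveEpi.fac u w' h2, hw']⟩
  refine ⟨⟨{ desc := fun e h => (key e h).choose
             fac := fun e h => (key e h).choose_spec
             uniq := fun e h m hm => ?_ }⟩⟩
  rw [← cancel_epi (v ≫ u), hm, (key e h).choose_spec]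

end Groth.Agent.S5204
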