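import Groth.Statements.S5205
import Mathlib
import Groth.Agent.S5204

set_option autoImplicit false
open CategoryTheory CategoryTheory.Limits
universe w v₁ u₁
open DescCat

namespace Groth.Agent.S5205

/-- First assertion: in a category with pullbacks: universal effective epimorphisms (morphisms all of
whose base changes are effective epimorphisms) are stable under composition. -/
theorem result {C : Type u₁} [Category.{v₁} C] [HasPullbacks C]
    {U T S : C} (v : U ⟶ T) (u : T ⟶ S)
    (hu : (MorphismProperty.universally (fun (A B : C) (p : A ⟶ B) => EffectiveEpi p)) u) (hv : (MorphismProperty.universally (fun (A B : C) (p : A ⟶ B) => EffectiveEpi p)) v) :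
    (MorphismProperty.universally (fun (A B : C) (p : A ⟶ B) => EffectiveEpi p)) (v ≫ u) := by
  intro X' S' i₁ i₂ f' hpb
  have hu' : EffectiveEpi (pullback.snd u i₂) :=
    hu (pullback.fst u i₂) i₂ (pullback.snd u i₂) (IsPullback.of_hasPullback u i₂).flip
  let v'' : X' ⟶ pullback u i₂ := pullback.lift (i₁ ≫ v) f' (by rw [Category.assoc, hpb.w])
  have h1 : v'' ≫ pullback.snd u i₂ = f' := pullback.lift_snd _ _ _
  have h2 : i₁ ≫ v = v'' ≫ pullback.fst u i₂ := (pullback.lift_fst _ _ _).symm
  have hpb2 : IsPullback i₁ v'' v (pullback.fst u i₂) := by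
    refine IsPullback.of_bot ?_ h2 (IsPullback.of_hasPullback u i₂)
    rw [h1]
    exact hpb.flip
  have hv'' : (MorphismProperty.universally
      (fun (A B : C) (p : A ⟶ B) => EffectiveEpi p)) v'' :=
    MorphismProperty.of_isPullback hpb2 hv
  have hv''1 : EffectiveEpi v'' := MorphismProperty.universally_le _ _ hv''
  have hv''2 : MorphismProperty.universally (MorphismProperty.epimorphisms C) v'' := by
    refine MorphismProperty.universally_mono ?_ _ hv''
    intro A B p hp
    haveI : EffectiveEpi p := hp
    exact (MorphismProperty.epimorphisms.iff p).mpr inferInstance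
  have := Groth.Agent.S5204.result v'' (pullback.snd u i₂) hv''2
  rw [h1] at this
  exact this

end Groth.Agent.S5205
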