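import Groth.Statements.S5206
import Mathlib

set_option autoImplicit false
open CategoryTheory CategoryTheory.Limits
universe w v₁ u₁
open DescCat

namespace Groth.Agent.S5206

/-- Second assertion: in a category with pullbacks: if `v ≫ u` is a universal effective epimorphism (all
base changes are effective epimorphisms), then so is `u`; nothing is assumed about `v`. -/
theorem result {C : Type u₁} [Category.{v₁} C] [HasPullbacks C]
    {U T S : C} (v : U ⟶ T) (u : T ⟶ S)
    (h : (MorphismProperty.universally (fun (A B : C) (p : A ⟶ B) => EffectiveEpi p)) (v ≫ u)) :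
    (MorphismProperty.universally (fun (A B : C) (p : A ⟶ B) => EffectiveEpi p)) u := by
  have key : ∀ {U T S : C} (v : U ⟶ T) (u : T ⟶ S),
      (MorphismProperty.universally (fun (A B : C) (p : A ⟶ B) => EffectiveEpi p)) (v ≫ u) →
      EffectiveEpi u := by
    intro U T S v u h
    have hw : EffectiveEpi (v ≫ u) := MorphismProperty.universally_le _ _ h
    let p : pullback (v ≫ u) u ⟶ T := pullback.snd (v ≫ u) u
    let q : pullback (v ≫ u) u ⟶ U := pullback.fst (v ≫ u) u
    have hp : EffectiveEpi p := h q u p (IsPullback.of_hasPullback (v ≫ u) u).flip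
    have hpq : q ≫ v ≫ u = p ≫ u := pullback.condition
    haveI : Epi u := by
      haveI : Epi (v ≫ u) := inferInstance
      exact epi_of_epi v u
    have ex : ∀ {W : C} (e : T ⟶ W)
        (he : ∀ {Z : C} (g₁ g₂ : Z ⟶ T), g₁ ≫ u = g₂ ≫ u → g₁ ≫ e = g₂ ≫ e),
        ∃ m : S ⟶ W, u ≫ m = e := by
      intro W e he
      have h1 : ∀ {Z : C} (g₁ g₂ : Z ⟶ U), g₁ ≫ v ≫ u = g₂ ≫ v ≫ u →
          g₁ ≫ v ≫ e = g₂ ≫ v ≫ e := by
        intro Z g₁ g₂ hg
        have := he (g₁ ≫ v) (g₂ ≫ v) (by simpa only [Category.assoc] using hg)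
        simpa only [Category.assoc] using this
      refine ⟨EffectiveEpi.desc (v ≫ u) (v ≫ e) h1, ?_⟩
      have h2 : (v ≫ u) ≫ EffectiveEpi.desc (v ≫ u) (v ≫ e) h1 = v ≫ e :=
        EffectiveEpi.fac _ _ _
      rw [← cancel_epi p]
      have h3 : (q ≫ v) ≫ e = p ≫ e := he (q ≫ v) p (by rw [Category.assoc]; exact hpq)
      calc p ≫ u ≫ EffectiveEpi.desc (v ≫ u) (v ≫ e) h1
          = q ≫ (v ≫ u) ≫ EffectiveEpi.desc (v ≫ u) (v ≫ e) h1 := by
            rw [← Category.assoc, ← hpq]; simp only [Category.assoc]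
        _ = q ≫ v ≫ e := by rw [h2]
        _ = p ≫ e := by rw [← Category.assoc]; exact h3
    exact ⟨⟨{ desc := fun e h => (ex e h).choose
              fac := fun e h => (ex e h).choose_spec
              uniq := fun e h m hm => by rw [← cancel_epi u, hm, (ex e h).choose_spec] }⟩⟩
  intro T' S' i₁ i₂ u' hpb
  have h1 : IsPullback (pullback.fst v i₁) (pullback.snd v i₁ ≫ u') (v ≫ u) i₂ :=
    (IsPullback.of_hasPullback v i₁).paste_vert hpb.flip
  have h2 : (MorphismProperty.universally (fun (A B : C) (p : A ⟶ B) => EffectiveEpi p))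
      (pullback.snd v i₁ ≫ u') := MorphismProperty.of_isPullback h1 h
  exact key _ _ h2

end Groth.Agent.S5206
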