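import Groth.Statements.S5209
import Mathlib

set_option autoImplicit false
open CategoryTheory CategoryTheory.Limits
universe w v₁ u₁
open DescCat

namespace Groth.Agent.S5209

/-- In a category with pullbacks, let `f : S' ⟶ S` be a universal effective epimorphism, that is, a
morphism all of whose base changes are effective epimorphisms. Then a morphism `g` over `S` is an
isomorphism (resp. a monomorphism) if and only if its base change along `f` is. -/
theorem result {C : Type u₁} [Category.{v₁} C] [HasPullbacks C]
    {S' S : C} (f : S' ⟶ S) (hf : (MorphismProperty.universally (fun (A B : C) (p : A ⟶ B) => EffectiveEpi p)) f) {X Y : Over S} (g : X ⟶ Y) :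
    (IsIso g ↔ IsIso ((Over.pullback f).map g)) ∧ (Mono g ↔ Mono ((Over.pullback f).map g)) := by
  have hP : ∀ {W : C} (c : W ⟶ S), EffectiveEpi (pullback.fst c f) := by
    intro W c
    have : (MorphismProperty.universally (fun (A B : C) (p : A ⟶ B) => EffectiveEpi p))
        (pullback.fst c f) :=
      MorphismProperty.of_isPullback (IsPullback.of_hasPullback c f).flip hf
    exact MorphismProperty.universally_le _ _ this
  obtain ⟨g', hg'def⟩ : ∃ g' : pullback X.hom f ⟶ pullback Y.hom f,
      g' = ((Over.pullback f).map g).left := ⟨_, rfl⟩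
  have hg'1 : g' ≫ pullback.fst Y.hom f = pullback.fst X.hom f ≫ g.left := by
    rw [hg'def]; exact pullback.lift_fst _ _ _
  have hg'2 : g' ≫ pullback.snd Y.hom f = pullback.snd X.hom f := by
    rw [hg'def]; exact pullback.lift_snd _ _ _
  have monoLeft : Mono g' → Mono g.left := by
    intro hm
    constructor
    intro Z a b hab
    have hXa : a ≫ X.hom = b ≫ X.hom := by
      rw [← Over.w g, ← Category.assoc, hab, Category.assoc]
    obtain ⟨p, hp⟩ : ∃ p : pullback (a ≫ X.hom) f ⟶ Z, p = pullback.fst (a ≫ X.hom) f := ⟨_, rfl⟩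
    obtain ⟨s, hs⟩ : ∃ s : pullback (a ≫ X.hom) f ⟶ S', s = pullback.snd (a ≫ X.hom) f :=
      ⟨_, rfl⟩
    have hps : p ≫ a ≫ X.hom = s ≫ f := by rw [hp, hs]; exact pullback.condition
    haveI : Epi p := by
      rw [hp]
      haveI := hP (a ≫ X.hom)
      infer_instance
    let a' : pullback (a ≫ X.hom) f ⟶ pullback X.hom f :=
      pullback.lift (p ≫ a) s (by rw [Category.assoc, hps])
    let b' : pullback (a ≫ X.hom) f ⟶ pullback X.hom f :=
      pullback.lift (p ≫ b) s (by rw [Category.assoc, ← hXa, hps])
    have ha'1 : a' ≫ pullback.fst X.hom f = p ≫ a := pullback.lift_fst _ _ _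
    have ha'2 : a' ≫ pullback.snd X.hom f = s := pullback.lift_snd _ _ _
    have hb'1 : b' ≫ pullback.fst X.hom f = p ≫ b := pullback.lift_fst _ _ _
    have hb'2 : b' ≫ pullback.snd X.hom f = s := pullback.lift_snd _ _ _
    have hab' : a' ≫ g' = b' ≫ g' := by
      apply pullback.hom_ext
      · rw [Category.assoc, Category.assoc, hg'1, ← Category.assoc, ← Category.assoc, ha'1, hb'1,
          Category.assoc, Category.assoc, hab]
      · rw [Category.assoc, Category.assoc, hg'2, ha'2, hb'2]
    have hab'' : a' = b' := (cancel_mono g').mp hab'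
    rw [← cancel_epi p, ← ha'1, ← hb'1, hab'']
  refine ⟨⟨fun h => inferInstance, fun h => ?_⟩, ⟨fun h => inferInstance, fun h => ?_⟩⟩
  · haveI : IsIso g' := by
      rw [hg'def]
      exact (Over.forget _).map_isIso ((Over.pullback f).map g)
    haveI : Mono g.left := monoLeft inferInstance
    haveI := hP Y.hom
    obtain ⟨h, hdef⟩ : ∃ h : pullback Y.hom f ⟶ X.left, h = inv g' ≫ pullback.fst X.hom f :=
      ⟨_, rfl⟩
    have hh : h ≫ g.left = pullback.fst Y.hom f := by
      rw [hdef, Category.assoc, ← hg'1, IsIso.inv_hom_id_assoc]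
    have hco : ∀ {Z : C} (a b : Z ⟶ pullback Y.hom f),
        a ≫ pullback.fst Y.hom f = b ≫ pullback.fst Y.hom f → a ≫ h = b ≫ h := by
      intro Z a b hab
      rw [← cancel_mono g.left, Category.assoc, Category.assoc, hh, hab]
    obtain ⟨s, hs⟩ : ∃ s : Y.left ⟶ X.left, pullback.fst Y.hom f ≫ s = h :=
      ⟨EffectiveEpi.desc (pullback.fst Y.hom f) h hco, EffectiveEpi.fac _ _ _⟩
    have h1 : s ≫ g.left = 𝟙 _ := by
      rw [← cancel_epi (pullback.fst Y.hom f), ← Category.assoc, hs, hh, Category.comp_id]
    have h2 : g.left ≫ s = 𝟙 _ := by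
      rw [← cancel_mono g.left, Category.assoc, h1, Category.comp_id, Category.id_comp]
    haveI : IsIso ((Over.forget S).map g) := (⟨s, h2, h1⟩ : IsIso g.left)
    exact isIso_of_reflects_iso g (Over.forget S)
  · haveI : Mono g' := by
      rw [hg'def]
      infer_instance
    haveI : Mono g.left := monoLeft inferInstance
    exact Over.mono_of_mono_left g

end Groth.Agent.S5209
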