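import Groth.Statements.S5210
import Mathlib

set_option autoImplicit false
open CategoryTheory CategoryTheory.Limits
universe w v₁ u₁
open DescCat

namespace Groth.Agent.S5210

/-- In a category with pullbacks, let `f : S' ⟶ S` be a universal effective epimorphism (all of its base
changes are effective epimorphisms) and `Y ⟶ S` a monomorphism. Then an object `X` over `S` admits a
morphism to `Y` over `S` if and only if it does so after base change along `f`. -/
theorem result {C : Type u₁} [Category.{v₁} C] [HasPullbacks C]
    {S' S : C} (f : S' ⟶ S) (hf : (MorphismProperty.universally (fun (A B : C) (p : A ⟶ B) => EffectiveEpi p)) f) (X Y : Over S) [Mono Y.hom] :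
    Nonempty (X ⟶ Y) ↔ Nonempty ((Over.pullback f).obj X ⟶ (Over.pullback f).obj Y) := by
  constructor
  · rintro ⟨g⟩
    exact ⟨(Over.pullback f).map g⟩
  · rintro ⟨φ⟩
    have hπ : (MorphismProperty.universally (fun (A B : C) (p : A ⟶ B) => EffectiveEpi p))
        (pullback.fst X.hom f) :=
      MorphismProperty.of_isPullback (IsPullback.of_hasPullback X.hom f).flip hf
    haveI hπ' : EffectiveEpi (pullback.fst X.hom f) := MorphismProperty.universally_le _ _ hπ
    have hφ : φ.left ≫ pullback.snd Y.hom f = pullback.snd X.hom f := Over.w φ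
    obtain ⟨h, hdef⟩ : ∃ h : pullback X.hom f ⟶ Y.left, h = φ.left ≫ pullback.fst Y.hom f :=
      ⟨_, rfl⟩
    have hh : h ≫ Y.hom = pullback.fst X.hom f ≫ X.hom := by
      simp only [hdef, Category.assoc]
      rw [pullback.condition, ← Category.assoc, hφ, pullback.condition]
    have hco : ∀ {Z : C} (a b : Z ⟶ pullback X.hom f),
        a ≫ pullback.fst X.hom f = b ≫ pullback.fst X.hom f → a ≫ h = b ≫ h := by
      intro Z a b hab
      rw [← cancel_mono Y.hom, Category.assoc, Category.assoc, hh, ← Category.assoc,
        ← Category.assoc, hab]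
    let s : X.left ⟶ Y.left := EffectiveEpi.desc (pullback.fst X.hom f) h hco
    have hs : pullback.fst X.hom f ≫ s = h := EffectiveEpi.fac _ _ _
    refine ⟨Over.homMk s ?_⟩
    rw [← cancel_epi (pullback.fst X.hom f), ← Category.assoc, hs, hh]

end Groth.Agent.S5210
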