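import Groth.Statements.S5211
import Mathlib

set_option autoImplicit false
open CategoryTheory CategoryTheory.Limits
universe w v₁ u₁
open DescCat

namespace Groth.Agent.S5211

/-- In a category with pullbacks: if `f : S' ⟶ S` is a universal effective epimorphism and the canonical
map `S' ×_S S' ⟶ S' ×_T S'` induced by `g : S ⟶ T` is an isomorphism, then `g` is a monomorphism. -/
theorem result {C : Type u₁} [Category.{v₁} C] [HasPullbacks C]
    {S' S T : C} (f : S' ⟶ S) (hf : (MorphismProperty.universally (fun (A B : C) (p : A ⟶ B) => EffectiveEpi p)) f) (g : S ⟶ T)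
    [IsIso (pullback.mapDesc f f g)] : Mono g := by
  constructor
  intro Z a b hab
  have hP : ∀ {W : C} (c : W ⟶ S), Epi (pullback.fst c f) := by
    intro W c
    have : (MorphismProperty.universally (fun (A B : C) (p : A ⟶ B) => EffectiveEpi p))
        (pullback.fst c f) :=
      MorphismProperty.of_isPullback (IsPullback.of_hasPullback c f).flip hf
    haveI : EffectiveEpi (pullback.fst c f) := MorphismProperty.universally_le _ _ this
    infer_instance
  obtain ⟨p₁, hp₁⟩ : ∃ p : pullback a f ⟶ Z, p = pullback.fst a f := ⟨_, rfl⟩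
  obtain ⟨a₁, ha₁⟩ : ∃ p : pullback a f ⟶ S', p = pullback.snd a f := ⟨_, rfl⟩
  have e1 : p₁ ≫ a = a₁ ≫ f := by rw [hp₁, ha₁]; exact pullback.condition
  haveI : Epi p₁ := by rw [hp₁]; exact hP a
  obtain ⟨p₂, hp₂⟩ : ∃ p : pullback (p₁ ≫ b) f ⟶ pullback a f, p = pullback.fst (p₁ ≫ b) f :=
    ⟨_, rfl⟩
  obtain ⟨b₂, hb₂⟩ : ∃ p : pullback (p₁ ≫ b) f ⟶ S', p = pullback.snd (p₁ ≫ b) f := ⟨_, rfl⟩
  have e2 : p₂ ≫ p₁ ≫ b = b₂ ≫ f := by rw [hp₂, hb₂]; exact pullback.condition
  haveI : Epi p₂ := by rw [hp₂]; exact hP (p₁ ≫ b)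
  have e3 : (p₂ ≫ a₁) ≫ f ≫ g = b₂ ≫ f ≫ g := by
    rw [Category.assoc, ← Category.assoc a₁, ← e1, ← Category.assoc b₂, ← e2]
    simp only [Category.assoc, hab]
  let ℓ : pullback (p₁ ≫ b) f ⟶ pullback (f ≫ g) (f ≫ g) := pullback.lift (p₂ ≫ a₁) b₂ e3
  let k := ℓ ≫ inv (pullback.mapDesc f f g)
  have hk1 : k ≫ pullback.fst f f = p₂ ≫ a₁ := by
    have h1 : pullback.mapDesc f f g ≫ pullback.fst (f ≫ g) (f ≫ g) = pullback.fst f f := by
      rw [pullback.lift_fst, Category.comp_id]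
    simp only [k, Category.assoc]
    rw [← h1, IsIso.inv_hom_id_assoc]
    exact pullback.lift_fst _ _ _
  have hk2 : k ≫ pullback.snd f f = b₂ := by
    have h1 : pullback.mapDesc f f g ≫ pullback.snd (f ≫ g) (f ≫ g) = pullback.snd f f := by
      rw [pullback.lift_snd, Category.comp_id]
    simp only [k, Category.assoc]
    rw [← h1, IsIso.inv_hom_id_assoc]
    exact pullback.lift_snd _ _ _
  have e4 : (p₂ ≫ a₁) ≫ f = b₂ ≫ f := by
    calc (p₂ ≫ a₁) ≫ f = (k ≫ pullback.fst f f) ≫ f := by rw [hk1]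
      _ = k ≫ pullback.fst f f ≫ f := Category.assoc _ _ _
      _ = k ≫ pullback.snd f f ≫ f := by rw [pullback.condition]
      _ = (k ≫ pullback.snd f f) ≫ f := (Category.assoc _ _ _).symm
      _ = b₂ ≫ f := by rw [hk2]
  rw [← cancel_epi p₁, ← cancel_epi p₂, e2, ← e4, Category.assoc, ← e1]

end Groth.Agent.S5211
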