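import Mathlib
import Groth.Statements.S5212
-- import your own Groth.Agent.* helpers here

set_option autoImplicit false
universe u
open GrpQ

namespace Groth.Agent.S5212

/-- For `A'` finite and free as an `A`-module, a prime `p` of `A` and `a ∈ A'`, the element `a` belongs
to some prime of `A'` lying over `p` if and only if its norm belongs to `p`. (The published
statement allows `A'` projective of constant rank over `A`; this row takes `A'` free, where the norm
is the determinant of multiplication.) -/
theorem result {A A' : Type u} [CommRing A] [CommRing A'] [Algebra A A']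
    [Module.Free A A'] [Module.Finite A A'] (p : Ideal A) [p.IsPrime] (a : A') :
    (∃ q : Ideal A', q.IsPrime ∧ q.LiesOver p ∧ a ∈ q) ↔ Algebra.norm A a ∈ p := by
  have hdvd : algebraMap A A' (Algebra.norm A a) ∈ Ideal.span {a} := by
    have h0 : Polynomial.aeval a (LinearMap.charpoly (Algebra.lmul A A' a)) = 0 :=
      Algebra.aeval_self_charpoly_lmul a
    have h2 : Polynomial.aeval a ((LinearMap.charpoly (Algebra.lmul A A' a)).divX * Polynomial.X +
        Polynomial.C ((LinearMap.charpoly (Algebra.lmul A A' a)).coeff 0)) = 0 := by
      rw [Polynomial.divX_mul_X_add]; exact h0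
    rw [map_add, map_mul, Polynomial.aeval_X, Polynomial.aeval_C] at h2
    have h3 : algebraMap A A' ((LinearMap.charpoly (Algebra.lmul A A' a)).coeff 0) ∈
        Ideal.span {a} := by
      rw [Ideal.mem_span_singleton']
      exact ⟨-(Polynomial.aeval a (LinearMap.charpoly (Algebra.lmul A A' a)).divX), by
        linear_combination (-1 : A') * h2⟩
    rw [Algebra.norm_apply, LinearMap.det_eq_sign_charpoly_coeff, map_mul]
    exact Ideal.mul_mem_left _ _ h3
  constructor
  · rintro ⟨q, hq, hlo, haq⟩
    have h1 : algebraMap A A' (Algebra.norm A a) ∈ q :=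
      (Ideal.span_singleton_le_iff_mem (I := q)).mpr haq hdvd
    have h2 := hlo.over
    rw [h2]
    exact Ideal.mem_comap.mpr h1
  · intro hN
    have hle : (Ideal.span {a}).comap (algebraMap A A') ≤ p := by
      intro s hs
      rw [Ideal.mem_comap, Ideal.mem_span_singleton'] at hs
      obtain ⟨b, hb⟩ := hs
      have h1 : Algebra.norm A (algebraMap A A' s) = Algebra.norm A b * Algebra.norm A a := by
        rw [← hb, map_mul]
      rw [Algebra.norm_algebraMap] at h1
      have h2 : s ^ Module.finrank A A' ∈ p := by
        rw [h1]; exact Ideal.mul_mem_left _ _ hN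
      exact Ideal.IsPrime.mem_of_pow_mem inferInstance _ h2
    obtain ⟨Q, hQle, hQ, hQp⟩ := Ideal.exists_ideal_over_prime_of_isIntegral p (Ideal.span {a}) hle
    exact ⟨Q, hQ, ⟨hQp.symm⟩, hQle (Ideal.mem_span_singleton_self a)⟩

end Groth.Agent.S5212
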