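import Groth.Statements.S5214
import Mathlib
import Groth.Agent.S5205

set_option autoImplicit false
open CategoryTheory CategoryTheory.Limits
universe w v₁ u₁
open DescCat

namespace Groth.Agent.S5214

/-- In a category with pullbacks and binary products: the product `u × u'` of two universal effective
epimorphisms (morphisms all of whose base changes are effective epimorphisms) is a universal
effective epimorphism. -/
theorem result {C : Type u₁} [Category.{v₁} C] [HasPullbacks C] [HasBinaryProducts C]
    {X Y X' Y' : C} (u : X ⟶ Y) (u' : X' ⟶ Y')
    (hu : (MorphismProperty.universally (fun (A B : C) (p : A ⟶ B) => EffectiveEpi p)) u) (hu' : (MorphismProperty.universally (fun (A B : C) (p : A ⟶ B) => EffectiveEpi p)) u') :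
    (MorphismProperty.universally (fun (A B : C) (p : A ⟶ B) => EffectiveEpi p)) (prod.map u u') := by
  have hsq : IsPullback (prod.snd : Y ⨯ X' ⟶ X') (prod.map (𝟙 Y) u') u'
      (prod.snd : Y ⨯ Y' ⟶ Y') := by
    refine IsPullback.mk' (prod.map_snd _ _).symm ?_ ?_
    · intro T φ φ' h1 h2
      apply Limits.prod.hom_ext
      · have := congrArg (· ≫ prod.fst) h2
        simp only [Category.assoc, prod.map_fst, Category.comp_id] at this
        exact this
      · exact h1
    · intro T a b hab
      refine ⟨prod.lift (b ≫ prod.fst) a, prod.lift_snd _ _, ?_⟩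
      rw [prod.lift_map]
      apply Limits.prod.hom_ext
      · rw [prod.lift_fst, Category.comp_id]
      · rw [prod.lift_snd, hab]
  have h1 : (MorphismProperty.universally (fun (A B : C) (p : A ⟶ B) => EffectiveEpi p))
      (prod.map u (𝟙 X')) :=
    MorphismProperty.of_isPullback (IsPullback.of_prod_fst_with_id u X') hu
  have h2 : (MorphismProperty.universally (fun (A B : C) (p : A ⟶ B) => EffectiveEpi p))
      (prod.map (𝟙 Y) u') :=
    MorphismProperty.of_isPullback hsq hu'
  have h3 := Groth.Agent.S5205.result _ _ h2 h1
  have h4 : prod.map u (𝟙 X') ≫ prod.map (𝟙 Y) u' = prod.map u u' := by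
    rw [prod.map_map, Category.comp_id, Category.id_comp]
  rw [h4] at h3
  exact h3

end Groth.Agent.S5214
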