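import Groth.Statements.S5218
import Mathlib

set_option autoImplicit false
open CategoryTheory CategoryTheory.Limits
universe w v₁ u₁
open ShfCat

namespace Groth.Agent.S5218

/-- (i) ⇒ (ii), for a single morphism: in the category of sheaves of sets on a site (with
sheafification), every epimorphism is a universal effective epimorphism. -/
theorem result {C : Type u₁} [Category.{v₁} C]
    (J : GrothendieckTopology C) [HasSheafify J (Type w)]
    {X Y : Sheaf J (Type w)} (f : X ⟶ Y) [Epi f] :
    (MorphismProperty.universally (fun (A B : Sheaf J (Type w)) (p : A ⟶ B) => EffectiveEpi p)) f := by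
  intro X' Y' i₁ i₂ f' hpb
  haveI hls : Sheaf.IsLocallySurjective f := (Sheaf.isLocallySurjective_iff_epi f).mpr inferInstance
  haveI : Sheaf.IsLocallySurjective f' := by
    constructor
    intro U s
    refine J.superset_covering ?_ (Presheaf.imageSieve_mem J f.hom (i₂.hom.app (Opposite.op U) s))
    rintro V g ⟨t, ht⟩
    have hpbV : IsPullback (f'.hom.app (Opposite.op V)) (i₁.hom.app (Opposite.op V))
        (i₂.hom.app (Opposite.op V)) (f.hom.app (Opposite.op V)) :=
      hpb.map (sheafToPresheaf J (Type w) ⋙ (evaluation _ _).obj (Opposite.op V))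
    have hnat := ConcreteCategory.congr_hom (i₂.hom.naturality g.op) s
    obtain ⟨x', hx'1, hx'2⟩ := Limits.Types.exists_of_isPullback hpbV (Y'.obj.map g.op s) t
      (by rw [ht]; exact hnat)
    exact ⟨x', hx'1⟩
  haveI : Epi f' := inferInstance
  haveI := IsRegularEpiCategory.regularEpiOfEpi f'
  infer_instance

end Groth.Agent.S5218
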