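import Groth.Statements.S5220
import Mathlib

set_option autoImplicit false
open CategoryTheory CategoryTheory.Limits
universe w v₁ u₁
open GrpQ

namespace Groth.Agent.S5220

/-- In a category with pullbacks: let `d₀ d₁ : X₁ ⇉ X₀` admit a common section and let `f₀ : Y₀ ⟶ X₀` be
an effective epimorphism which is also a universal epimorphism. For the inverse-image pair `Y₁ :=
(Y₀ ×_{X₀,d₁} X₁) ×_{d₀,X₀} Y₀ ⇉ Y₀`, every morphism out of `Y₀` equalized by the two projections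
descends uniquely to a morphism out of `X₀` equalized by `d₀, d₁`. (Only the common section of the
groupoid structure is used.) -/
theorem result {C : Type u₁} [Category.{v₁} C] [HasPullbacks C]
    {X₁ X₀ Y₀ : C} (d₀ d₁ : X₁ ⟶ X₀) (s : X₀ ⟶ X₁) (hs₀ : s ≫ d₀ = 𝟙 X₀) (hs₁ : s ≫ d₁ = 𝟙 X₀)
    (f₀ : Y₀ ⟶ X₀) [EffectiveEpi f₀]
    (hf : MorphismProperty.universally (MorphismProperty.epimorphisms C) f₀)
    {T : C} (g : Y₀ ⟶ T)
    (hg : (pullback.fst (pullback.snd f₀ d₁ ≫ d₀) f₀ ≫ pullback.fst f₀ d₁) ≫ g =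
      pullback.snd (pullback.snd f₀ d₁ ≫ d₀) f₀ ≫ g) :
    ∃! h : X₀ ⟶ T, d₁ ≫ h = d₀ ≫ h ∧ f₀ ≫ h = g := by
  have hdesc : ∀ {Z : C} (a b : Z ⟶ Y₀), a ≫ f₀ = b ≫ f₀ → a ≫ g = b ≫ g := by
    intro Z a b hab
    let u : Z ⟶ pullback f₀ d₁ := pullback.lift a (a ≫ f₀ ≫ s) (by simp [hs₁])
    let w : Z ⟶ pullback (pullback.snd f₀ d₁ ≫ d₀) f₀ :=
      pullback.lift u b (by simp [u, hs₀, hab, pullback.lift_snd_assoc])
    have h1 : w ≫ (pullback.fst (pullback.snd f₀ d₁ ≫ d₀) f₀ ≫ pullback.fst f₀ d₁) = a := by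
      simp [w, u, pullback.lift_fst, pullback.lift_fst_assoc]
    have h2 : w ≫ pullback.snd (pullback.snd f₀ d₁ ≫ d₀) f₀ = b := by simp [w, pullback.lift_snd]
    calc a ≫ g = (w ≫ (pullback.fst (pullback.snd f₀ d₁ ≫ d₀) f₀ ≫ pullback.fst f₀ d₁)) ≫ g := by
          rw [h1]
      _ = w ≫ ((pullback.fst (pullback.snd f₀ d₁ ≫ d₀) f₀ ≫ pullback.fst f₀ d₁) ≫ g) :=
          Category.assoc _ _ _
      _ = w ≫ (pullback.snd (pullback.snd f₀ d₁ ≫ d₀) f₀ ≫ g) := by rw [hg]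
      _ = b ≫ g := by rw [← Category.assoc, h2]
  let h := EffectiveEpi.desc f₀ g hdesc
  have hfac : f₀ ≫ h = g := EffectiveEpi.fac f₀ g hdesc
  haveI hepi1 : Epi (pullback.snd f₀ d₁) :=
    (MorphismProperty.epimorphisms.iff _).mp (hf _ _ _ (IsPullback.of_hasPullback f₀ d₁).flip)
  haveI hepi2 : Epi (pullback.fst (pullback.snd f₀ d₁ ≫ d₀) f₀) :=
    (MorphismProperty.epimorphisms.iff _).mp (hf _ _ _ (IsPullback.of_hasPullback _ f₀))
  have hd : d₁ ≫ h = d₀ ≫ h := by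
    rw [← cancel_epi (pullback.snd f₀ d₁),
      ← cancel_epi (pullback.fst (pullback.snd f₀ d₁ ≫ d₀) f₀)]
    have c1 : pullback.snd f₀ d₁ ≫ d₁ = pullback.fst f₀ d₁ ≫ f₀ := pullback.condition.symm
    have c2 : pullback.fst (pullback.snd f₀ d₁ ≫ d₀) f₀ ≫ (pullback.snd f₀ d₁ ≫ d₀) =
        pullback.snd (pullback.snd f₀ d₁ ≫ d₀) f₀ ≫ f₀ := pullback.condition
    calc pullback.fst (pullback.snd f₀ d₁ ≫ d₀) f₀ ≫ pullback.snd f₀ d₁ ≫ d₁ ≫ h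
        = pullback.fst (pullback.snd f₀ d₁ ≫ d₀) f₀ ≫ (pullback.snd f₀ d₁ ≫ d₁) ≫ h := by
          simp only [Category.assoc]
      _ = (pullback.fst (pullback.snd f₀ d₁ ≫ d₀) f₀ ≫ pullback.fst f₀ d₁) ≫ g := by
          rw [c1]; simp only [Category.assoc, hfac]
      _ = pullback.snd (pullback.snd f₀ d₁ ≫ d₀) f₀ ≫ g := hg
      _ = (pullback.fst (pullback.snd f₀ d₁ ≫ d₀) f₀ ≫ (pullback.snd f₀ d₁ ≫ d₀)) ≫ h := by
          rw [c2, Category.assoc, hfac]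
      _ = pullback.fst (pullback.snd f₀ d₁ ≫ d₀) f₀ ≫ pullback.snd f₀ d₁ ≫ d₀ ≫ h := by
          simp only [Category.assoc]
  refine ⟨h, ⟨hd, hfac⟩, ?_⟩
  rintro h' ⟨-, hh'⟩
  rw [← cancel_epi f₀, hh', hfac]

end Groth.Agent.S5220
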