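import Groth.Statements.S5221
import Mathlib

set_option autoImplicit false
open CategoryTheory CategoryTheory.Limits
universe w v₁ u₁
open GrpQ

namespace Groth.Agent.S5221

theorem desc_lemma {C : Type u₁} [Category.{v₁} C] [HasPullbacks C]
    {X₁ X₀ Y₀ : C} (d₀ d₁ : X₁ ⟶ X₀) (s : X₀ ⟶ X₁) (hs₀ : s ≫ d₀ = 𝟙 X₀) (hs₁ : s ≫ d₁ = 𝟙 X₀)
    (f₀ : Y₀ ⟶ X₀) [EffectiveEpi f₀]
    (hf : MorphismProperty.universally (MorphismProperty.epimorphisms C) f₀)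
    {T : C} (g : Y₀ ⟶ T)
    (hg : (pullback.fst (pullback.snd f₀ d₁ ≫ d₀) f₀ ≫ pullback.fst f₀ d₁) ≫ g =
      pullback.snd (pullback.snd f₀ d₁ ≫ d₀) f₀ ≫ g) :
    ∃! h : X₀ ⟶ T, d₁ ≫ h = d₀ ≫ h ∧ f₀ ≫ h = g := by
  have hdesc : ∀ {Z : C} (a b : Z ⟶ Y₀), a ≫ f₀ = b ≫ f₀ → a ≫ g = b ≫ g := by
    intro Z a b hab
    let u : Z ⟶ pullback f₀ d₁ := pullback.lift a (a ≫ f₀ ≫ s) (by simp [hs₁])
    let w : Z ⟶ pullback (pullback.snd f₀ d₁ ≫ d₀) f₀ :=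
      pullback.lift u b (by simp [u, hs₀, hab, pullback.lift_snd_assoc])
    have h1 : w ≫ (pullback.fst (pullback.snd f₀ d₁ ≫ d₀) f₀ ≫ pullback.fst f₀ d₁) = a := by
      simp [w, u, pullback.lift_fst, pullback.lift_fst_assoc]
    have h2 : w ≫ pullback.snd (pullback.snd f₀ d₁ ≫ d₀) f₀ = b := by simp [w, pullback.lift_snd]
    calc a ≫ g = (w ≫ (pullback.fst (pullback.snd f₀ d₁ ≫ d₀) f₀ ≫ pullback.fst f₀ d₁)) ≫ g := by
          rw [h1]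
      _ = w ≫ ((pullback.fst (pullback.snd f₀ d₁ ≫ d₀) f₀ ≫ pullback.fst f₀ d₁) ≫ g) :=
          Category.assoc _ _ _
      _ = w ≫ (pullback.snd (pullback.snd f₀ d₁ ≫ d₀) f₀ ≫ g) := by rw [hg]
      _ = b ≫ g := by rw [← Category.assoc, h2]
  let h := EffectiveEpi.desc f₀ g hdesc
  have hfac : f₀ ≫ h = g := EffectiveEpi.fac f₀ g hdesc
  haveI hepi1 : Epi (pullback.snd f₀ d₁) :=
    (MorphismProperty.epimorphisms.iff _).mp (hf _ _ _ (IsPullback.of_hasPullback f₀ d₁).flip)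
  haveI hepi2 : Epi (pullback.fst (pullback.snd f₀ d₁ ≫ d₀) f₀) :=
    (MorphismProperty.epimorphisms.iff _).mp (hf _ _ _ (IsPullback.of_hasPullback _ f₀))
  have hd : d₁ ≫ h = d₀ ≫ h := by
    rw [← cancel_epi (pullback.snd f₀ d₁),
      ← cancel_epi (pullback.fst (pullback.snd f₀ d₁ ≫ d₀) f₀)]
    have c1 : pullback.snd f₀ d₁ ≫ d₁ = pullback.fst f₀ d₁ ≫ f₀ := pullback.condition.symm
    have c2 : pullback.fst (pullback.snd f₀ d₁ ≫ d₀) f₀ ≫ (pullback.snd f₀ d₁ ≫ d₀) =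
        pullback.snd (pullback.snd f₀ d₁ ≫ d₀) f₀ ≫ f₀ := pullback.condition
    calc pullback.fst (pullback.snd f₀ d₁ ≫ d₀) f₀ ≫ pullback.snd f₀ d₁ ≫ d₁ ≫ h
        = pullback.fst (pullback.snd f₀ d₁ ≫ d₀) f₀ ≫ (pullback.snd f₀ d₁ ≫ d₁) ≫ h := by
          simp only [Category.assoc]
      _ = (pullback.fst (pullback.snd f₀ d₁ ≫ d₀) f₀ ≫ pullback.fst f₀ d₁) ≫ g := by
          rw [c1]; simp only [Category.assoc, hfac]
      _ = pullback.snd (pullback.snd f₀ d₁ ≫ d₀) f₀ ≫ g := hg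
      _ = (pullback.fst (pullback.snd f₀ d₁ ≫ d₀) f₀ ≫ (pullback.snd f₀ d₁ ≫ d₀)) ≫ h := by
          rw [c2, Category.assoc, hfac]
      _ = pullback.fst (pullback.snd f₀ d₁ ≫ d₀) f₀ ≫ pullback.snd f₀ d₁ ≫ d₀ ≫ h := by
          simp only [Category.assoc]
  refine ⟨h, ⟨hd, hfac⟩, ?_⟩
  rintro h' ⟨-, hh'⟩
  rw [← cancel_epi f₀, hh', hfac]


/-- Existence part: in a category with pullbacks: with `d₀ d₁ : X₁ ⇉ X₀` admitting a common section and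
`f₀ : Y₀ ⟶ X₀` an effective and universal epimorphism, the pair `(d₀, d₁)` has a coequalizer if and
only if its inverse-image pair on `Y₀` has one. -/
theorem result {C : Type u₁} [Category.{v₁} C] [HasPullbacks C]
    {X₁ X₀ Y₀ : C} (d₀ d₁ : X₁ ⟶ X₀) (s : X₀ ⟶ X₁) (hs₀ : s ≫ d₀ = 𝟙 X₀) (hs₁ : s ≫ d₁ = 𝟙 X₀)
    (f₀ : Y₀ ⟶ X₀) [EffectiveEpi f₀]
    (hf : MorphismProperty.universally (MorphismProperty.epimorphisms C) f₀) :
    HasCoequalizer d₁ d₀ ↔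
      HasCoequalizer (pullback.fst (pullback.snd f₀ d₁ ≫ d₀) f₀ ≫ pullback.fst f₀ d₁)
        (pullback.snd (pullback.snd f₀ d₁ ≫ d₀) f₀) := by
  have c1 : pullback.snd f₀ d₁ ≫ d₁ = pullback.fst f₀ d₁ ≫ f₀ := pullback.condition.symm
  have c2 : pullback.fst (pullback.snd f₀ d₁ ≫ d₀) f₀ ≫ (pullback.snd f₀ d₁ ≫ d₀) =
      pullback.snd (pullback.snd f₀ d₁ ≫ d₀) f₀ ≫ f₀ := pullback.condition
  have hcond : ∀ {T : C} (h : X₀ ⟶ T), d₁ ≫ h = d₀ ≫ h →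
      (pullback.fst (pullback.snd f₀ d₁ ≫ d₀) f₀ ≫ pullback.fst f₀ d₁) ≫ (f₀ ≫ h) =
        pullback.snd (pullback.snd f₀ d₁ ≫ d₀) f₀ ≫ (f₀ ≫ h) := by
    intro T h hh
    calc (pullback.fst (pullback.snd f₀ d₁ ≫ d₀) f₀ ≫ pullback.fst f₀ d₁) ≫ (f₀ ≫ h)
        = pullback.fst (pullback.snd f₀ d₁ ≫ d₀) f₀ ≫ (pullback.fst f₀ d₁ ≫ f₀) ≫ h := by
          simp only [Category.assoc]
      _ = pullback.fst (pullback.snd f₀ d₁ ≫ d₀) f₀ ≫ pullback.snd f₀ d₁ ≫ d₀ ≫ h := by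
          rw [← c1]; simp only [Category.assoc, hh]
      _ = (pullback.fst (pullback.snd f₀ d₁ ≫ d₀) f₀ ≫ (pullback.snd f₀ d₁ ≫ d₀)) ≫ h := by
          simp only [Category.assoc]
      _ = pullback.snd (pullback.snd f₀ d₁ ≫ d₀) f₀ ≫ (f₀ ≫ h) := by
          rw [c2, Category.assoc]
  constructor
  · intro hco
    have hπ : d₁ ≫ coequalizer.π d₁ d₀ = d₀ ≫ coequalizer.π d₁ d₀ := coequalizer.condition d₁ d₀
    have H : ∀ c : Cofork (pullback.fst (pullback.snd f₀ d₁ ≫ d₀) f₀ ≫ pullback.fst f₀ d₁)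
        (pullback.snd (pullback.snd f₀ d₁ ≫ d₀) f₀),
        ∃! h : X₀ ⟶ c.pt, d₁ ≫ h = d₀ ≫ h ∧ f₀ ≫ h = c.π :=
      fun c => desc_lemma d₀ d₁ s hs₀ hs₁ f₀ hf c.π c.condition
    refine HasColimit.mk ⟨Cofork.ofπ (f₀ ≫ coequalizer.π d₁ d₀) (hcond _ hπ),
      Cofork.IsColimit.mk _
        (fun c => coequalizer.desc (H c).exists.choose (H c).exists.choose_spec.1) ?_ ?_⟩
    · intro c
      show (f₀ ≫ coequalizer.π d₁ d₀) ≫ coequalizer.desc _ _ = c.π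
      rw [Category.assoc, coequalizer.π_desc]
      exact (H c).exists.choose_spec.2
    · intro c m hm
      have hm' : (f₀ ≫ coequalizer.π d₁ d₀) ≫ m = c.π := hm
      have key : ∀ m' : coequalizer d₁ d₀ ⟶ c.pt, (f₀ ≫ coequalizer.π d₁ d₀) ≫ m' = c.π →
          m' = coequalizer.desc (H c).exists.choose (H c).exists.choose_spec.1 := by
        intro m' hm''
        apply coequalizer.hom_ext
        rw [coequalizer.π_desc]
        refine (H c).unique ⟨?_, ?_⟩ (H c).exists.choose_spec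
        · rw [← Category.assoc, hπ, Category.assoc]
        · rw [← Category.assoc]; exact hm''
      exact key m hm'
  · intro hco
    have hρ := coequalizer.condition
        (pullback.fst (pullback.snd f₀ d₁ ≫ d₀) f₀ ≫ pullback.fst f₀ d₁)
        (pullback.snd (pullback.snd f₀ d₁ ≫ d₀) f₀)
    obtain ⟨π, ⟨hπ1, hπ2⟩, -⟩ := desc_lemma d₀ d₁ s hs₀ hs₁ f₀ hf _ hρ
    refine HasColimit.mk ⟨Cofork.ofπ π hπ1, Cofork.IsColimit.mk _
      (fun c => coequalizer.desc (f₀ ≫ c.π) (hcond _ c.condition)) ?_ ?_⟩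
    · intro c
      show π ≫ coequalizer.desc (f₀ ≫ c.π) (hcond _ c.condition) = c.π
      rw [← cancel_epi f₀, ← Category.assoc, hπ2, coequalizer.π_desc]
    · intro c m hm
      have hm' : π ≫ m = c.π := hm
      have key : ∀ m' : coequalizer
          (pullback.fst (pullback.snd f₀ d₁ ≫ d₀) f₀ ≫ pullback.fst f₀ d₁)
          (pullback.snd (pullback.snd f₀ d₁ ≫ d₀) f₀) ⟶ c.pt, π ≫ m' = c.π →
          m' = coequalizer.desc (f₀ ≫ c.π) (hcond _ c.condition) := by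
        intro m' hm''
        apply coequalizer.hom_ext
        rw [coequalizer.π_desc, ← hπ2, Category.assoc, hm'']
      exact key m hm'

end Groth.Agent.S5221
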