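import Groth.Statements.S5222
import Mathlib

set_option autoImplicit false
open CategoryTheory CategoryTheory.Limits MonoidalCategory
universe v₁ u₁
open DescCat

namespace Groth.Agent.S5222

open MonObj CartesianMonoidalCategory SemiCartesianMonoidalCategory in
/-- In a cartesian monoidal category with pullbacks: for a homomorphism `f : G ⟶ G'` of group objects
with kernel `K = G ×_{G'} e`, the pair `G × K ⇉ G` given by the projection and by multiplication is
the kernel pair of `f`. -/
theorem result {C : Type u₁} [Category.{v₁} C]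
    [CartesianMonoidalCategory C] [HasPullbacks C]
    {G G' : C} [GrpObj G] [GrpObj G'] (f : G ⟶ G') [IsMonHom f] :
    IsKernelPair f (fst G (pullback f η[G']))
      ((G ◁ pullback.fst f η[G']) ≫ μ[G]) := by
  obtain ⟨j, hj⟩ : ∃ j : pullback f η[G'] ⟶ G, j = pullback.fst f η[G'] := ⟨_, rfl⟩
  rw [← hj]
  have hjf : j ≫ f = 1 := by
    rw [hj, pullback.condition, Hom.one_def]
    congr 1
    exact toUnit_unique _ _
  haveI : Mono j := by rw [hj]; infer_instance
  have hmul : (G ◁ j) ≫ μ[G] = fst G (pullback f η[G']) * (snd G (pullback f η[G']) ≫ j) := by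
    rw [Hom.mul_def]
    congr 1
    apply CartesianMonoidalCategory.hom_ext
    · rw [whiskerLeft_fst, lift_fst]
    · rw [whiskerLeft_snd, lift_snd]
  rw [hmul]
  refine IsPullback.mk' ?_ ?_ ?_
  · rw [MonObj.mul_comp, Category.assoc, hjf, MonObj.comp_one, _root_.mul_one]
  · intro T φ φ' h1 h2
    rw [MonObj.comp_mul, MonObj.comp_mul, h1] at h2
    have h3 : φ ≫ snd G (pullback f η[G']) ≫ j = φ' ≫ snd G (pullback f η[G']) ≫ j :=
      _root_.mul_left_cancel h2
    apply CartesianMonoidalCategory.hom_ext
    · exact h1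
    · rw [← cancel_mono j, Category.assoc, Category.assoc]; exact h3
  · intro T a b hab
    have hc : (a⁻¹ * b) ≫ f = toUnit T ≫ η[G'] := by
      rw [MonObj.mul_comp, GrpObj.inv_comp, hab, _root_.inv_mul_cancel, Hom.one_def]
    let c' : T ⟶ pullback f η[G'] := pullback.lift (a⁻¹ * b) (toUnit T) hc
    have hc' : c' ≫ j = a⁻¹ * b := by rw [hj]; exact pullback.lift_fst _ _ _
    refine ⟨lift a c', lift_fst _ _, ?_⟩
    rw [MonObj.comp_mul, lift_fst, ← Category.assoc, lift_snd, hc', _root_.mul_inv_cancel_left]

end Groth.Agent.S5222
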