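import Groth.Statements.S5228
import Mathlib
import Groth.Agent.Lib.helper4.Comod

set_option autoImplicit false
universe w u
open HopfRep

namespace Groth.Agent.S5228

open scoped TensorProduct
open Groth.Agent.Lib.helper4

section
variable {k : Type u} [CommRing k] {M : Type u} [CommGroup M] [DecidableEq M]
variable {V : Type w} [AddCommGroup V] [Module k V]

/-- coefficient functional -/
noncomputable def phi (m : M) : MonoidAlgebra k M →ₗ[k] k :=
  (Finsupp.lapply m : (M →₀ k) →ₗ[k] k) ∘ₗ (MonoidAlgebra.coeffLinearEquiv k).toLinearMap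

theorem phi_apply (m : M) (a : MonoidAlgebra k M) : phi m a = a.coeff m := rfl

variable (k M V) in
/-- `V ⊗ k[M] ≃ (M →₀ V)` -/
noncomputable def Theta : V ⊗[k] MonoidAlgebra k M ≃ₗ[k] (M →₀ V) :=
  (LinearEquiv.lTensor V (MonoidAlgebra.coeffLinearEquiv k)) ≪≫ₗ
    TensorProduct.finsuppScalarRight k k V M

theorem Theta_tmul (x : V) (a : MonoidAlgebra k M) (m : M) :
    Theta k M V (x ⊗ₜ[k] a) m = a.coeff m • x := by
  simp [Theta]

theorem Theta_apply (z : V ⊗[k] MonoidAlgebra k M) (m : M) :
    Theta k M V z m = (TensorProduct.rid k V) ((phi m).lTensor V z) := by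
  induction z using TensorProduct.induction_on with
  | zero => simp
  | tmul x a => rw [Theta_tmul, LinearMap.lTensor_tmul, TensorProduct.rid_tmul, phi_apply]
  | add z₁ z₂ h₁ h₂ => rw [map_add, Finsupp.add_apply, h₁, h₂, map_add, map_add]

theorem Theta_tmul_single (x : V) (m : M) :
    Theta k M V (x ⊗ₜ[k] MonoidAlgebra.single m (1:k)) = Finsupp.single m x := by
  ext n
  rw [Theta_tmul, MonoidAlgebra.coeff_single, Finsupp.single_apply, Finsupp.single_apply]
  split_ifs <;> simp

theorem eq_sum_Theta (z : V ⊗[k] MonoidAlgebra k M) :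
    z = (Theta k M V z).sum (fun m x => x ⊗ₜ[k] MonoidAlgebra.single m (1:k)) := by
  apply (Theta k M V).injective
  rw [map_finsuppSum]
  simp only [Theta_tmul_single]
  exact (Finsupp.sum_single _).symm

theorem conv_phi (m n : M) (a : MonoidAlgebra k M) :
    h4conv (phi (k := k) m) (phi n) a = if m = n then phi n a else 0 := by
  induction a using MonoidAlgebra.induction_linear with
  | zero => simp
  | add x y hx hy => rw [map_add, hx, hy, map_add]; split_ifs <;> simp
  | single g r =>
    show (TensorProduct.lid k k) (TensorProduct.map (phi m) (phi n)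
      (CoalgebraStruct.comul (R := k) (MonoidAlgebra.single g r))) = _
    rw [MonoidAlgebra.comul_single]
    simp only [CommSemiring.comul_apply, TensorProduct.map_tmul, MonoidAlgebra.lsingle_apply,
      TensorProduct.lid_tmul, phi_apply, MonoidAlgebra.coeff_single, Finsupp.single_apply,
      smul_eq_mul]
    split_ifs <;> simp_all

variable [HopfRep.Comod k (MonoidAlgebra k M) V]

theorem p_comp (m n : M) (v : V) :
    h4T (phi (k := k) m) (h4T (phi (k := k) n) v) = if m = n then h4T (phi (k := k) n) v else 0 := by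
  rw [h4T_comp]
  split_ifs with h
  · have : h4conv (phi (k := k) m) (phi n) = phi n :=
      LinearMap.ext (fun a => by rw [conv_phi, if_pos h])
    rw [this]
  · have : h4conv (phi (k := k) m) (phi n) = 0 :=
      LinearMap.ext (fun a => by rw [conv_phi, if_neg h]; rfl)
    rw [this, h4T_apply]
    simp

theorem sum_Theta_coact (v : V) :
    (Theta k M V (HopfRep.Comod.coact (k := k) (A := MonoidAlgebra k M) v)).sum (fun _ x => x)
      = v := by
  have h2 : (TensorProduct.rid k V)
      ((CoalgebraStruct.counit (R := k) (A := MonoidAlgebra k M)).lTensor V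
        (HopfRep.Comod.coact (k := k) (A := MonoidAlgebra k M) v)) =
      (TensorProduct.rid k V)
      ((CoalgebraStruct.counit (R := k) (A := MonoidAlgebra k M)).lTensor V
        ((Theta k M V (HopfRep.Comod.coact (k := k) (A := MonoidAlgebra k M) v)).sum
          (fun m x => x ⊗ₜ[k] MonoidAlgebra.single m (1:k)))) := by
    rw [← eq_sum_Theta]
  rw [← h4T_apply, h4T_counit, map_finsuppSum, map_finsuppSum] at h2
  simp only [LinearMap.lTensor_tmul, TensorProduct.rid_tmul, MonoidAlgebra.counit_single,
    CommSemiring.counit_apply, one_smul] at h2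
  exact h2.symm

theorem p_stable (W : Submodule k V)
    (hW : HopfRep.IsSubcomod (k := k) (A := MonoidAlgebra k M) W)
    (φ : MonoidAlgebra k M →ₗ[k] k) (w : V) (hw : w ∈ W) : h4T φ w ∈ W := by
  obtain ⟨z, hz⟩ := hW w hw
  rw [h4T_apply, ← hz, h4_lTensor_rTensor_comm, h4_rid_rTensor]
  exact Submodule.coe_mem _

end


/-- Over an affine base, in comodule form: for a representation `V` of a diagonalizable group `D(M)`
over a commutative ring `k` (a `k[M]`-comodule), every sub-representation which is a direct summand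
as a `k`-module is a direct summand as a representation. (The published statement: a short exact
sequence of quasi-coherent `D(M)`-modules that splits as a sequence of modules splits
equivariantly.) -/
theorem result {k : Type u} [CommRing k] {M : Type u} [CommGroup M]
    (V : Type w) [AddCommGroup V] [Module k V] [HopfRep.Comod k (MonoidAlgebra k M) V]
    (W : Submodule k V) (hW : HopfRep.IsSubcomod (k := k) (A := MonoidAlgebra k M) W)
    (hsplit : ∃ W' : Submodule k V, IsCompl W W') :
    ∃ W'' : Submodule k V, HopfRep.IsSubcomod (k := k) (A := MonoidAlgebra k M) W'' ∧ IsCompl W W'' := by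
  classical
  obtain ⟨W', hWW'⟩ := hsplit
  let q : V →ₗ[k] W := W.projectionOnto W' hWW'
  let π : V →ₗ[k] V := W.subtype ∘ₗ q
  have hπW : ∀ x, π x ∈ W := fun x => (q x).2
  have hπid : ∀ x ∈ W, π x = x := by
    intro x hx
    show ((q x : W) : V) = x
    have h1 : q ((⟨x, hx⟩ : W) : V) = ⟨x, hx⟩ :=
      Submodule.projectionOnto_apply_left hWW' ⟨x, hx⟩
    exact congrArg Subtype.val h1
  let p : M → V →ₗ[k] V := fun m => h4T (phi (k := k) m)
  let G : V →ₗ[k] (M →₀ V) :=
    (Theta k M V).toLinearMap ∘ₗ HopfRep.Comod.coact (k := k) (A := MonoidAlgebra k M)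
  have hG : ∀ v m, G v m = p m v := fun v m => (Theta_apply _ m).trans (h4T_apply _ _).symm
  let π' : V →ₗ[k] V := (Finsupp.lsum k (fun m => p m ∘ₗ π)) ∘ₗ G
  have hπ'_apply : ∀ v, π' v = (G v).sum (fun m x => p m (π x)) := by
    intro v
    show (Finsupp.lsum k (fun m => p m ∘ₗ π)) (G v) = _
    rw [Finsupp.lsum_apply]
    rfl
  have hpW : ∀ m, ∀ w ∈ W, p m w ∈ W := fun m w hw => p_stable W hW _ w hw
  have hpp : ∀ m n v, p m (p n v) = if m = n then p n v else 0 := fun m n v => p_comp m n v
  have hGp : ∀ n v, G (p n v) = Finsupp.single n (p n v) := by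
    intro n v
    ext m
    rw [hG, hpp, Finsupp.single_apply]
    by_cases h : m = n
    · rw [if_pos h, if_pos h.symm]
    · rw [if_neg h, if_neg (Ne.symm h)]
  have hsum : ∀ v, (G v).sum (fun _ x => x) = v := fun v => sum_Theta_coact v
  have hπ'W : ∀ v, π' v ∈ W := by
    intro v
    rw [hπ'_apply, Finsupp.sum]
    exact Submodule.sum_mem _ (fun m _ => hpW m _ (hπW _))
  have hπ'id : ∀ w ∈ W, π' w = w := by
    intro w hw
    rw [hπ'_apply]
    conv_rhs => rw [← hsum w]
    apply Finsupp.sum_congr
    intro m _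
    rw [hG, hπid _ (hpW m w hw), hpp, if_pos rfl]
  have hK : ∀ n v, p n (π' v) = p n (π (p n v)) := by
    intro n v
    rw [hπ'_apply, map_finsuppSum]
    simp only [hpp]
    rw [Finsupp.sum, Finset.sum_ite_eq]
    split_ifs with h
    · rw [hG]
    · have h0 : G v n = 0 := Finsupp.notMem_support_iff.1 h
      rw [← hG v n, h0, map_zero, map_zero]
  have hK' : ∀ n v, π' (p n v) = p n (π (p n v)) := by
    intro n v
    rw [hπ'_apply, hGp, Finsupp.sum_single_index]
    rw [map_zero, map_zero]
  refine ⟨LinearMap.ker π', ?_, ?_⟩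
  · intro v hv
    rw [LinearMap.mem_ker] at hv
    have hmem : ∀ n, p n v ∈ LinearMap.ker π' := by
      intro n
      rw [LinearMap.mem_ker, hK', ← hK, hv, map_zero]
    have hrep := eq_sum_Theta (HopfRep.Comod.coact (k := k) (A := MonoidAlgebra k M) v)
    rw [hrep, Finsupp.sum]
    apply Submodule.sum_mem
    intro m _
    have hx : Theta k M V (HopfRep.Comod.coact (k := k) (A := MonoidAlgebra k M) v) m ∈
        LinearMap.ker π' := by
      have h1 : Theta k M V (HopfRep.Comod.coact (k := k) (A := MonoidAlgebra k M) v) m = p m v :=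
        hG v m
      rw [h1]
      exact hmem m
    exact ⟨(⟨_, hx⟩ : LinearMap.ker π') ⊗ₜ[k] MonoidAlgebra.single m (1:k), by
      rw [LinearMap.rTensor_tmul]; rfl⟩
  · have h1 := LinearMap.isCompl_of_proj (f := π'.codRestrict W hπ'W)
      (fun x => Subtype.ext (hπ'id x.1 x.2))
    rwa [LinearMap.ker_codRestrict] at h1

end Groth.Agent.S5228
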