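import Groth.Statements.S5233
import Mathlib

set_option autoImplicit false
open CategoryTheory CategoryTheory.Limits AlgebraicGeometry
universe u
open GrpQ

namespace Groth.Agent.S5233

lemma toImage_ker_eq_bot {X Y : Scheme.{u}} (f : X ⟶ Y) [QuasiCompact f] : f.toImage.ker = ⊥ := by
  rw [← le_bot_iff]
  refine Scheme.IdealSheafData.le_of_iSup_eq_top (ι := Y.affineOpens)
    (fun U => ⟨f.imageι ⁻¹ᵁ U.1, U.2.preimage f.imageι⟩) ?_ ?_
  · rw [eq_top_iff]
    intro x _
    obtain ⟨_, ⟨U, hU, rfl⟩, hxU, -⟩ :=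
      Y.isBasis_affineOpens.exists_subset_of_mem_open (Set.mem_univ (f.imageι x)) isOpen_univ
    exact TopologicalSpace.Opens.mem_iSup.mpr ⟨⟨U, hU⟩, hxU⟩
  · intro U
    refine (Scheme.Hom.ideal_ker_le _ _).trans ?_
    rw [Scheme.IdealSheafData.ideal_bot, Pi.bot_apply, le_bot_iff]
    exact (RingHom.injective_iff_ker_eq_bot _).mp (f.toImage_app_injective U)

theorem ker_pullback_snd {X Y Y' : Scheme.{u}} (f : X ⟶ Y) (g : Y' ⟶ Y)
    [QuasiCompact f] [Flat g] :
    (pullback.snd f g).ker = f.ker.comap g := by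
  haveI : IsSchemeTheoreticallyDominant f.toImage := ⟨toImage_ker_eq_bot f⟩
  have H1 := (IsPullback.of_hasPullback f.toImage (pullback.fst f.imageι g)).flip
  have H2 := (IsPullback.of_hasPullback f.imageι g).flip
  have H := (H1.paste_horiz H2).flip
  rw [f.toImage_imageι] at H
  obtain ⟨e, he⟩ : ∃ e : pullback f.toImage (pullback.fst f.imageι g) ≅ pullback f g,
      e.hom ≫ pullback.snd f g
        = pullback.snd f.toImage (pullback.fst f.imageι g) ≫ pullback.snd f.imageι g :=
    ⟨H.isoPullback, H.isoPullback_hom_snd⟩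
  have h2 : pullback.snd f g = e.inv ≫
      (pullback.snd f.toImage (pullback.fst f.imageι g) ≫ pullback.snd f.imageι g) := by
    rw [← he, Iso.inv_hom_id_assoc]
  have h3 : (pullback.snd f.toImage (pullback.fst f.imageι g)).ker = ⊥ :=
    IsSchemeTheoreticallyDominant.ker_eq_bot _
  have h4 : pullback.snd f.imageι g = (pullbackSymmetry f.imageι g).hom ≫ pullback.fst g f.imageι :=
    (pullbackSymmetry_hom_comp_fst f.imageι g).symm
  rw [h2, Scheme.Hom.ker_comp_of_isIso, Scheme.Hom.ker_comp, h3, Scheme.IdealSheafData.map_bot, h4,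
    Scheme.Hom.ker_comp_of_isIso]
  rfl

theorem le_of_pullback_le {X X' : Scheme.{u}} (π : X ⟶ X') [Flat π] [Surjective π] [QuasiCompact π]
    (Y1 Y2 : Subobject X')
    (hle : (Subobject.pullback π).obj Y1 ≤ (Subobject.pullback π).obj Y2) : Y1 ≤ Y2 := by
  have hQ : (@Surjective ⊓ @Flat ⊓ @QuasiCompact : MorphismProperty Scheme.{u})
      (Subobject.pullbackπ π Y1) :=
    MorphismProperty.of_isPullback (Subobject.isPullback π Y1).flip
      ⟨⟨inferInstance, inferInstance⟩, inferInstance⟩
  let c : ((Subobject.pullback π).obj Y1 : Scheme.{u}) ⟶ (Y2 : Scheme.{u}) :=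
    Subobject.ofLE _ _ hle ≫ Subobject.pullbackπ π Y2
  have hc : c ≫ Y2.arrow = Subobject.pullbackπ π Y1 ≫ Y1.arrow := by
    simp only [c, Category.assoc]
    rw [(Subobject.isPullback π Y2).w, ← Category.assoc, Subobject.ofLE_arrow,
      (Subobject.isPullback π Y1).w]
  let b : ((Subobject.pullback π).obj Y1 : Scheme.{u}) ⟶ pullback Y1.arrow Y2.arrow :=
    pullback.lift (Subobject.pullbackπ π Y1) c hc.symm
  have hb : b ≫ pullback.fst Y1.arrow Y2.arrow = Subobject.pullbackπ π Y1 :=
    pullback.lift_fst _ _ _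
  let s : ((Subobject.pullback π).obj Y1 : Scheme.{u}) ⟶
      pullback (Subobject.pullbackπ π Y1) (pullback.fst Y1.arrow Y2.arrow) :=
    pullback.lift (𝟙 _) b (by rw [Category.id_comp, hb])
  have hs : s ≫ pullback.fst (Subobject.pullbackπ π Y1) (pullback.fst Y1.arrow Y2.arrow) = 𝟙 _ :=
    pullback.lift_fst _ _ _
  haveI : IsSplitEpi (pullback.fst (Subobject.pullbackπ π Y1) (pullback.fst Y1.arrow Y2.arrow)) :=
    IsSplitEpi.mk' ⟨s, hs⟩
  haveI : IsIso (pullback.fst (Subobject.pullbackπ π Y1) (pullback.fst Y1.arrow Y2.arrow)) :=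
    isIso_of_mono_of_isSplitEpi _
  have hiso : IsIso (pullback.fst Y1.arrow Y2.arrow) :=
    MorphismProperty.of_pullback_fst_of_descendsAlong (P := MorphismProperty.isomorphisms Scheme)
      (Q := @Surjective ⊓ @Flat ⊓ @QuasiCompact) (f := Subobject.pullbackπ π Y1) hQ
      (inferInstance : IsIso (pullback.fst (Subobject.pullbackπ π Y1) (pullback.fst Y1.arrow Y2.arrow)))
  exact Subobject.le_of_comm (inv (pullback.fst Y1.arrow Y2.arrow) ≫ pullback.snd Y1.arrow Y2.arrow)
    (by rw [Category.assoc, ← pullback.condition, IsIso.inv_hom_id_assoc])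

theorem surj_core {X X' : Scheme.{u}} (π : X ⟶ X') [Flat π] [Surjective π] [QuasiCompact π]
    (Y : Subobject X) [IsClosedImmersion Y.arrow]
    (hst : (Subobject.pullback (pullback.fst π π)).obj Y ≤
      (Subobject.pullback (pullback.snd π π)).obj Y) :
    (Subobject.pullback π).obj (Subobject.mk (Y.arrow ≫ π).imageι) = Y := by
  have sq1 := Subobject.isPullback (pullback.fst π π) Y
  have sq2 := Subobject.isPullback (pullback.snd π π) Y
  let d : pullback (Y.arrow ≫ π) π ⟶ pullback π π :=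
    pullback.lift (pullback.fst (Y.arrow ≫ π) π ≫ Y.arrow) (pullback.snd (Y.arrow ≫ π) π)
      (by rw [Category.assoc]; exact pullback.condition)
  have hd1 : d ≫ pullback.fst π π = pullback.fst (Y.arrow ≫ π) π ≫ Y.arrow :=
    pullback.lift_fst _ _ _
  have hd2 : d ≫ pullback.snd π π = pullback.snd (Y.arrow ≫ π) π := pullback.lift_snd _ _ _
  let c1 : pullback (Y.arrow ≫ π) π ⟶ ((Subobject.pullback (pullback.fst π π)).obj Y : Scheme.{u}) :=
    sq1.lift (pullback.fst (Y.arrow ≫ π) π) d hd1.symm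
  have hc1 : c1 ≫ ((Subobject.pullback (pullback.fst π π)).obj Y).arrow = d := sq1.lift_snd _ _ _
  let θ' : pullback (Y.arrow ≫ π) π ⟶ (Y : Scheme.{u}) :=
    c1 ≫ Subobject.ofLE _ _ hst ≫ Subobject.pullbackπ (pullback.snd π π) Y
  have hθ' : θ' ≫ Y.arrow = pullback.snd (Y.arrow ≫ π) π := by
    simp only [θ', Category.assoc]
    rw [sq2.w, Subobject.ofLE_arrow_assoc, ← Category.assoc, hc1, hd2]
  have hker : Y.arrow.ker ≤ (pullback.fst π (Y.arrow ≫ π).imageι).ker := by
    have e1 : (pullback.snd (Y.arrow ≫ π) π).ker = (Y.arrow ≫ π).ker.comap π :=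
      ker_pullback_snd (Y.arrow ≫ π) π
    have e2 : Y.arrow.ker ≤ (pullback.snd (Y.arrow ≫ π) π).ker := by
      rw [← hθ']; exact Scheme.Hom.le_ker_comp _ _
    exact e2.trans (le_of_eq e1)
  rw [Subobject.pullback_obj_mk (IsPullback.of_hasPullback π (Y.arrow ≫ π).imageι).flip]
  apply le_antisymm
  · exact Subobject.mk_le_of_comm
      (IsClosedImmersion.lift Y.arrow (pullback.fst π (Y.arrow ≫ π).imageι) hker)
      (IsClosedImmersion.lift_fac _ _ _)
  · exact Subobject.le_mk_of_comm
      (pullback.lift Y.arrow (Y.arrow ≫ π).toImage (by rw [Scheme.Hom.toImage_imageι]))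
      (pullback.lift_fst _ _ _)

/-- For schemes, with (M) the faithfully flat quasi-compact morphisms and (N) the closed immersions: if
`π : X ⟶ X'` is flat, surjective and quasi-compact (so `X' = X/R` for its kernel pair `R ⇉ X`), then
`Y' ↦ π⁻¹(Y')` is a bijection from closed subschemes of `X'` onto the closed subschemes of `X`
stable under `R`. -/
theorem result {X X' : Scheme.{u}} (π : X ⟶ X')
    [Flat π] [Surjective π] [QuasiCompact π] :
    Set.BijOn (Subobject.pullback π).obj
      {Y' : Subobject X' | IsClosedImmersion Y'.arrow}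
      {Y : Subobject X | IsClosedImmersion Y.arrow ∧
        (Subobject.pullback (pullback.fst π π)).obj Y = (Subobject.pullback (pullback.snd π π)).obj Y} := by
  have hclosed : ∀ {T T' : Scheme.{u}} (f : T' ⟶ T) (P : Subobject T), IsClosedImmersion P.arrow →
      IsClosedImmersion ((Subobject.pullback f).obj P).arrow := fun f P hP =>
    MorphismProperty.of_isPullback (P := @IsClosedImmersion) (Subobject.isPullback f P) hP
  refine ⟨?_, ?_, ?_⟩
  · intro Y' hY'
    have hY'' : IsClosedImmersion Y'.arrow := hY'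
    refine ⟨hclosed π Y' hY'', ?_⟩
    rw [← Subobject.pullback_comp, ← Subobject.pullback_comp, pullback.condition]
  · intro Y1 _ Y2 _ heq
    exact le_antisymm (le_of_pullback_le π Y1 Y2 (le_of_eq heq))
      (le_of_pullback_le π Y2 Y1 (le_of_eq heq.symm))
  · rintro Y ⟨hY, hst⟩
    haveI hY' : IsClosedImmersion Y.arrow := hY
    refine ⟨Subobject.mk (Y.arrow ≫ π).imageι, ?_, surj_core π Y (le_of_eq hst)⟩
    show IsClosedImmersion (Subobject.mk (Y.arrow ≫ π).imageι).arrow
    rw [← Subobject.underlyingIso_hom_comp_eq_mk]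
    infer_instance

end Groth.Agent.S5233
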