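import Groth.Statements.S5235
import Mathlib

set_option autoImplicit false
open CategoryTheory CategoryTheory.Limits AlgebraicGeometry
universe u
open GrpQ

namespace Groth.Agent.S5235

theorem eq_of_range_eq {T : Scheme.{u}} (P Q : Subobject T) (hP : IsOpenImmersion P.arrow)
    (hQ : IsOpenImmersion Q.arrow)
    (h : Set.range P.arrow = Set.range Q.arrow) : P = Q := by
  apply le_antisymm
  · exact Subobject.le_of_comm (IsOpenImmersion.lift Q.arrow P.arrow h.le)
      (IsOpenImmersion.lift_fac _ _ _)
  · exact Subobject.le_of_comm (IsOpenImmersion.lift P.arrow Q.arrow h.ge)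
      (IsOpenImmersion.lift_fac _ _ _)

theorem range_pullback_arrow {T T' : Scheme.{u}} (f : T' ⟶ T) (P : Subobject T) :
    Set.range ((Subobject.pullback f).obj P).arrow = f ⁻¹' Set.range P.arrow := by
  have h := Subobject.isPullback f P
  apply Set.Subset.antisymm
  · rintro _ ⟨z, rfl⟩
    refine ⟨Subobject.pullbackπ f P z, ?_⟩
    rw [← Scheme.Hom.comp_apply, h.w, Scheme.Hom.comp_apply]
  · rintro x ⟨p, hp⟩
    obtain ⟨z0, hz1, hz2⟩ := Scheme.Pullback.exists_preimage_pullback (f := P.arrow) (g := f) p x hp
    refine ⟨h.isoPullback.inv z0, ?_⟩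
    rw [← Scheme.Hom.comp_apply, h.isoPullback_inv_snd]
    exact hz2

theorem range_mk_arrow {T A : Scheme.{u}} (f : A ⟶ T) [Mono f] :
    Set.range (Subobject.mk f).arrow = Set.range f := by
  apply Set.Subset.antisymm
  · rintro _ ⟨z, rfl⟩
    refine ⟨(Subobject.underlyingIso f).hom z, ?_⟩
    rw [← Scheme.Hom.comp_apply, Subobject.underlyingIso_hom_comp_eq_mk]
  · rintro _ ⟨z, rfl⟩
    refine ⟨(Subobject.underlyingIso f).inv z, ?_⟩
    rw [← Scheme.Hom.comp_apply, Subobject.underlyingIso_arrow]

/-- For schemes, with (M) the faithfully flat quasi-compact morphisms and (N) the open immersions: if `π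
: X ⟶ X'` is flat, surjective and quasi-compact, then `Y' ↦ π⁻¹(Y')` is a bijection from open
subschemes of `X'` onto the open subschemes of `X` stable under the kernel pair of `π`. -/
theorem result {X X' : Scheme.{u}} (π : X ⟶ X')
    [Flat π] [Surjective π] [QuasiCompact π] :
    Set.BijOn (Subobject.pullback π).obj
      {Y' : Subobject X' | IsOpenImmersion Y'.arrow}
      {Y : Subobject X | IsOpenImmersion Y.arrow ∧
        (Subobject.pullback (pullback.fst π π)).obj Y = (Subobject.pullback (pullback.snd π π)).obj Y} := by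
  have hopen : ∀ {T T' : Scheme.{u}} (f : T' ⟶ T) (P : Subobject T), IsOpenImmersion P.arrow →
      IsOpenImmersion ((Subobject.pullback f).obj P).arrow := fun f P hP =>
    MorphismProperty.of_isPullback (P := @IsOpenImmersion) (Subobject.isPullback f P) hP
  refine ⟨?_, ?_, ?_⟩
  · intro Y' hY'
    have hY'' : IsOpenImmersion Y'.arrow := hY'
    refine ⟨hopen π Y' hY'', ?_⟩
    rw [← Subobject.pullback_comp, ← Subobject.pullback_comp, pullback.condition]
  · intro Y1 h1 Y2 h2 heq
    have h1' : IsOpenImmersion Y1.arrow := h1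
    have h2' : IsOpenImmersion Y2.arrow := h2
    apply eq_of_range_eq _ _ h1' h2'
    have := congrArg (fun Q : Subobject X => Set.range Q.arrow) heq
    simp only [range_pullback_arrow] at this
    exact (Function.Surjective.preimage_injective π.surjective) this
  · rintro Y ⟨hY, hst⟩
    have hY' : IsOpenImmersion Y.arrow := hY
    have hUo : IsOpen (Set.range Y.arrow) := Y.arrow.isOpenEmbedding.isOpen_range
    have hsat : π ⁻¹' (π '' (Set.range Y.arrow)) = Set.range Y.arrow := by
      apply Set.Subset.antisymm
      · rintro x' ⟨x, hx, hxx⟩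
        obtain ⟨z, hz1, hz2⟩ := Scheme.Pullback.exists_preimage_pullback (f := π) (g := π) x x' hxx
        have h3 := congrArg (fun Q : Subobject (pullback π π) => Set.range Q.arrow) hst
        simp only [range_pullback_arrow] at h3
        have h4 : z ∈ (pullback.fst π π) ⁻¹' (Set.range Y.arrow) := by
          rw [Set.mem_preimage, hz1]; exact hx
        rw [h3, Set.mem_preimage, hz2] at h4
        exact h4
      · exact Set.subset_preimage_image _ _
    have hV : IsOpen (π '' (Set.range Y.arrow)) := by
      rw [← (Flat.isQuotientMap_of_surjective π).isOpen_preimage, hsat]; exact hUo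
    let V : X'.Opens := ⟨π '' (Set.range Y.arrow), hV⟩
    have hmk : IsOpenImmersion (Subobject.mk V.ι).arrow := by
      rw [← Subobject.underlyingIso_hom_comp_eq_mk]
      infer_instance
    refine ⟨Subobject.mk V.ι, hmk, ?_⟩
    apply eq_of_range_eq _ _ (hopen π _ hmk) hY'
    rw [range_pullback_arrow, range_mk_arrow, Scheme.Opens.range_ι]
    exact hsat

end Groth.Agent.S5235
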