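import Groth.Statements.S5343
import Mathlib

set_option autoImplicit false
universe u
open CategoryTheory CategoryTheory.Limits MonoidalCategory CartesianMonoidalCategory MonObj GrpObj AlgebraicGeometry
open SGA3

namespace Groth.Agent.S5343

/-- Let R be a commutative ring and B a commutative R-algebra which is projective as an R-module. Then
the image of Spec B → Spec R is an open and closed subset of Spec R. (The published statement
concerns a quasi-coherent algebra on any scheme which is a direct summand of a free module; this row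
is the affine case.) -/
theorem result (R B : Type u) [CommRing R] [CommRing B] [Algebra R B] [Module.Projective R B] :
    IsClopen (Set.range (PrimeSpectrum.comap (algebraMap R B))) := by
  classical
  obtain ⟨s, hs⟩ := (Module.projective_def' (R := R) (P := B)).mp inferInstance
  have hsum : ∀ b : B, b = ∑ c ∈ (s b).support, (s b c) • c := by
    intro b
    have := LinearMap.congr_fun hs b
    simp only [LinearMap.comp_apply, LinearMap.id_apply, Finsupp.linearCombination_apply,
      Finsupp.sum, id] at this
    exact this.symm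
  set F := (s 1).support with hF
  let t : B → R := fun c => s 1 c
  have h1 : (1 : B) = ∑ c ∈ F, t c • c := hsum 1
  let T : Ideal R := Ideal.span (t '' (F : Set B))
  have hTfg : T.FG := ⟨F.image t, by simp [T]⟩
  have hφ : ∀ (φ : B →ₗ[R] R) (b : B), φ b ∈ T := by
    intro φ b
    have : b = ∑ c ∈ F, t c • (b * c) := by
      conv_lhs => rw [← mul_one b, h1, Finset.mul_sum]
      refine Finset.sum_congr rfl (fun c _ => ?_)
      rw [mul_smul_comm]
    rw [this, map_sum]
    refine Ideal.sum_mem _ (fun c hc => ?_)
    rw [map_smul, smul_eq_mul]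
    exact Ideal.mul_mem_right _ _ (Ideal.subset_span ⟨c, hc, rfl⟩)
  have hTid : IsIdempotentElem T := by
    apply le_antisymm Ideal.mul_le_right
    rw [Ideal.span_le]
    rintro _ ⟨c, hc, rfl⟩
    have : t c = ∑ d ∈ F, t d * (s d c) := by
      have h2 := congrArg (fun b => s b c) h1
      simp only [map_sum, map_smul, Finsupp.coe_finset_sum, Finsupp.coe_smul, Finset.sum_apply,
        Pi.smul_apply, smul_eq_mul] at h2
      exact h2
    rw [SetLike.mem_coe, this]
    refine Ideal.sum_mem _ (fun d hd => ?_)
    exact Ideal.mul_mem_mul (Ideal.subset_span ⟨d, hd, rfl⟩) (hφ ((Finsupp.lapply c).comp s) d)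
  obtain ⟨e, he, hTe⟩ := (Ideal.isIdempotentElem_iff_of_fg T hTfg).mp hTid
  rw [PrimeSpectrum.isClopen_iff]
  refine ⟨e, he, ?_⟩
  have hte : ∀ c ∈ F, e * t c = t c := by
    intro c hc
    have : t c ∈ T := Ideal.subset_span ⟨c, hc, rfl⟩
    rw [hTe, Ideal.mem_span_singleton'] at this
    obtain ⟨a, ha⟩ := this
    rw [← ha, _root_.mul_comm, _root_.mul_assoc, he.eq]
  have he1 : algebraMap R B e = 1 := by
    rw [Algebra.algebraMap_eq_smul_one]
    conv_lhs => rw [h1, Finset.smul_sum]
    conv_rhs => rw [h1]
    refine Finset.sum_congr rfl (fun c hc => ?_)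
    rw [smul_smul, hte c hc]
  have heT : e ∈ T := by rw [hTe]; exact Ideal.mem_span_singleton_self e
  ext p
  rw [SetLike.mem_coe, PrimeSpectrum.mem_basicOpen]
  constructor
  · rintro ⟨q, rfl⟩
    intro hmem
    have : algebraMap R B e ∈ q.asIdeal := hmem
    rw [he1] at this
    exact q.isPrime.ne_top ((Ideal.eq_top_iff_one _).mpr this)
  · intro hp
    rw [← PrimeSpectrum.nontrivial_iff_mem_rangeComap]
    obtain ⟨c, hc, hcp⟩ : ∃ c ∈ F, t c ∉ p.asIdeal := by
      by_contra hcon
      push Not at hcon
      apply hp
      have : T ≤ p.asIdeal := by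
        rw [Ideal.span_le]; rintro _ ⟨c, hc, rfl⟩; exact hcon c hc
      exact this heT
    let ψ : B →ₗ[R] R := (Finsupp.lapply c).comp s
    let L : TensorProduct R p.asIdeal.ResidueField B →ₗ[R] p.asIdeal.ResidueField :=
      (TensorProduct.rid R p.asIdeal.ResidueField).toLinearMap ∘ₗ
        (LinearMap.lTensor p.asIdeal.ResidueField ψ)
    refine nontrivial_of_ne ((1 : p.asIdeal.ResidueField) ⊗ₜ[R] (1 : B)) 0 (fun h0 => ?_)
    have := congrArg L h0
    simp only [L, LinearMap.comp_apply, LinearMap.lTensor_tmul, LinearEquiv.coe_coe,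
      TensorProduct.rid_tmul, map_zero] at this
    rw [← Algebra.algebraMap_eq_smul_one, Ideal.algebraMap_residueField_eq_zero] at this
    exact hcp this

end Groth.Agent.S5343
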