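import Groth.Statements.S5375
import Mathlib
import Groth.Agent.Lib.helper1.SubCoalg
import Groth.Agent.Lib.helper8.AntipodeLib

set_option autoImplicit false
universe u
open CategoryTheory CategoryTheory.Limits MonoidalCategory CartesianMonoidalCategory MonObj GrpObj AlgebraicGeometry
open SGA3

namespace Groth.Agent.S5375

open scoped TensorProduct

theorem antipode_antipode' {k : Type u} [Field k] {A : Type u} [CommRing A] [HopfAlgebra k A]
    (a : A) : HopfAlgebraStruct.antipode (R := k)
      (HopfAlgebraStruct.antipode (R := k) a) = a := by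
  have h : ((WithConv.toConv (AlgHom.id k A))⁻¹)⁻¹ = WithConv.toConv (AlgHom.id k A) :=
    inv_inv _
  have h2 := congrArg (fun f => f.ofConv a) h
  exact h2


/-- Let A be a commutative Hopf algebra over a field k (an affine k-group, not necessarily of finite
type) and x an element of A. Then there is a subalgebra B of A of finite type over k containing x
which is a sub-Hopf-algebra: the comultiplication sends B into B ⊗ B and the antipode preserves B. -/
theorem result (k : Type u) [Field k] (A : Type u) [CommRing A] [HopfAlgebra k A] (x : A) :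
    ∃ B : Subalgebra k A, x ∈ B ∧ B.FG ∧ SGA3.IsHopfSubalgebra k A B := by
  classical
  obtain ⟨B₀, hfin, hxB₀, hB₀⟩ :=
    Helper1.SubCoalg.exists_finite_subcoalgebra (K := k) ({x} : Finset A)
  have hx0 : x ∈ B₀ := hxB₀ (by simp)
  let Sl : A →ₗ[k] A := HopfAlgebraStruct.antipode (R := k) (A := A)
  let B₁ : Submodule k A := B₀ ⊔ B₀.map Sl
  haveI : Module.Finite k B₀ := hfin
  haveI hB₁fin : Module.Finite k B₁ := inferInstance
  let B : Subalgebra k A := Algebra.adjoin k (B₁ : Set A)
  have hB₁B : ∀ b ∈ B₁, b ∈ B := fun b hb => Algebra.subset_adjoin hb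
  have hB₀B₁ : B₀ ≤ B₁ := le_sup_left
  have hSB₁ : B₀.map Sl ≤ B₁ := le_sup_right
  have hmono : ∀ (P Q : Submodule k A), P ≤ Q →
      LinearMap.range (TensorProduct.map P.subtype P.subtype) ≤
        LinearMap.range (TensorProduct.map Q.subtype Q.subtype) := by
    intro P Q hPQ
    rintro _ ⟨z, rfl⟩
    refine ⟨TensorProduct.map (Submodule.inclusion hPQ) (Submodule.inclusion hPQ) z, ?_⟩
    rw [TensorProduct.map_map]
    rfl
  have hB₁coalg : ∀ b ∈ B₁, CoalgebraStruct.comul (R := k) b ∈
      LinearMap.range (TensorProduct.map B₁.subtype B₁.subtype) := by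
    have hle : B₁ ≤ (LinearMap.range (TensorProduct.map B₁.subtype B₁.subtype)).comap
        (CoalgebraStruct.comul (R := k) (A := A)) := by
      apply sup_le
      · intro b hb
        exact hmono B₀ B₁ hB₀B₁ (hB₀ b hb)
      · rintro _ ⟨b, hb, rfl⟩
        rw [Submodule.mem_comap]
        obtain ⟨z, hz⟩ := hB₀ b hb
        have h1 : CoalgebraStruct.comul (R := k) (Sl b) =
            TensorProduct.map Sl Sl ((TensorProduct.comm k A A)
              (CoalgebraStruct.comul (R := k) b)) :=
          LinearMap.congr_fun H8Anti.comul_comp_antipode b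
        rw [h1, ← hz]
        clear hz
        apply hmono (B₀.map Sl) B₁ hSB₁
        let σ : ↥B₀ →ₗ[k] ↥(B₀.map Sl) :=
          { toFun := fun c => ⟨Sl c.1, Submodule.mem_map_of_mem c.2⟩
            map_add' := fun a b => Subtype.ext (map_add Sl a.1 b.1)
            map_smul' := fun r a => Subtype.ext (map_smul Sl r a.1) }
        refine ⟨TensorProduct.map σ σ ((TensorProduct.comm k ↥B₀ ↥B₀) z), ?_⟩
        induction z using TensorProduct.induction_on with
        | zero => simp
        | tmul p q => rfl
        | add z₁ z₂ h₁ h₂ => simp only [map_add, h₁, h₂]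
    exact fun b hb => hle hb
  refine ⟨B, hB₁B x (hB₀B₁ hx0), ?_, ?_, ?_⟩
  · obtain ⟨s, hs⟩ := Module.Finite.iff_fg.1 hB₁fin
    have hBs : B = Algebra.adjoin k (s : Set A) := by
      show Algebra.adjoin k (B₁ : Set A) = _
      rw [← hs, Algebra.adjoin_span]
    rw [hBs]
    exact Subalgebra.fg_adjoin_finset s
  · intro b hb
    let T : Subalgebra k A :=
      (Algebra.TensorProduct.map B.val B.val).range.comap (Bialgebra.comulAlgHom k A)
    have hBT : B ≤ T := by
      apply Algebra.adjoin_le
      intro c hc
      obtain ⟨z, hz⟩ := hB₁coalg c hc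
      let incl : ↥B₁ →ₗ[k] ↥B :=
        { toFun := fun c => ⟨c.1, hB₁B c.1 c.2⟩
          map_add' := fun _ _ => rfl
          map_smul' := fun _ _ => rfl }
      have e : B.val.toLinearMap ∘ₗ incl = B₁.subtype := LinearMap.ext (fun _ => rfl)
      rw [SetLike.mem_coe, Subalgebra.mem_comap, AlgHom.mem_range]
      refine ⟨TensorProduct.map incl incl z, ?_⟩
      have h3 : (Algebra.TensorProduct.map B.val B.val) (TensorProduct.map incl incl z) =
          TensorProduct.map B.val.toLinearMap B.val.toLinearMap (TensorProduct.map incl incl z) := rfl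
      rw [h3, TensorProduct.map_map, e]
      exact hz
    obtain ⟨z, hz⟩ := hBT hb
    exact ⟨z, hz⟩
  · intro b hb
    let T2 : Subalgebra k A := B.comap (HopfAlgebra.antipodeAlgHom k A)
    have hBT2 : B ≤ T2 := by
      apply Algebra.adjoin_le
      intro c hc
      rw [SetLike.mem_coe, Subalgebra.mem_comap]
      show Sl c ∈ B
      rcases Submodule.mem_sup.1 hc with ⟨p, hp, q, hq, rfl⟩
      rw [map_add]
      apply B.add_mem
      · exact hB₁B _ (hSB₁ (Submodule.mem_map_of_mem hp))
      · obtain ⟨q₀, hq₀, rfl⟩ := hq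
        rw [show Sl (Sl q₀) = q₀ from antipode_antipode' q₀]
        exact hB₁B _ (hB₀B₁ hq₀)
    exact hBT2 hb

end Groth.Agent.S5375
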