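import Groth.Statements.S5390
-- import your own Groth.Agent.* helpers here

set_option autoImplicit false
universe u
open CategoryTheory CategoryTheory.Limits MonoidalCategory CartesianMonoidalCategory MonObj GrpObj AlgebraicGeometry
open SGA3

namespace Groth.Agent.S5390

/-- Let P be a property of morphisms of schemes which is local on the target for the fpqc topology
(stable under base change, Zariski-local on the target, descending along flat surjective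
quasi-compact morphisms). Let f : X → Y be a morphism, g : Y' → Y a flat morphism whose underlying
map is open, and f' : X ×_Y Y' → Y' the base change. If W is the largest open of Y over which f has
P and W₁' the largest open of Y' over which f' has P, then W₁' = g⁻¹(W). -/
theorem result (P : MorphismProperty Scheme.{u}) [P.IsStableUnderBaseChange] [IsZariskiLocalAtTarget P]
    [P.DescendsAlong (@Flat ⊓ @Surjective ⊓ @QuasiCompact)]
    (X Y Y' : Scheme.{u}) (f : X ⟶ Y) (g : Y' ⟶ Y) [Flat g] (hg : IsOpenMap g.base)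
    (W : Y.Opens) (hW : P (f ∣_ W)) (hmax : ∀ W₀ : Y.Opens, P (f ∣_ W₀) → W₀ ≤ W)
    (W₁ : Y'.Opens) (hW₁ : P (pullback.snd f g ∣_ W₁)) (hmax₁ : ∀ W₀ : Y'.Opens, P (pullback.snd f g ∣_ W₀) → W₀ ≤ W₁) :
    W₁ = g ⁻¹ᵁ W := by
  have BC : ∀ {X X' Y Y' : Scheme.{u}} {p : X' ⟶ X} {f' : X' ⟶ Y'} {f : X ⟶ Y} {g : Y' ⟶ Y}
      (_ : IsPullback p f' f g) (V : Y.Opens) (V' : Y'.Opens)
      (gV : (V' : Scheme.{u}) ⟶ (V : Scheme.{u})) (_ : gV ≫ V.ι = V'.ι ≫ g),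
      ∃ l, IsPullback (f' ∣_ V') l gV (f ∣_ V) := by
    intro X X' Y Y' p f' f g sq V V' gV hgV
    have sq1 := (isPullback_morphismRestrict f' V').flip
    have big := sq1.paste_horiz sq
    have sq3 := (isPullback_morphismRestrict f V).flip
    have hw : ((f' ⁻¹ᵁ V').ι ≫ p) ≫ f = (f' ∣_ V' ≫ gV) ≫ V.ι := by
      rw [Category.assoc (f' ∣_ V'), hgV, big.w]
    have hl1 : sq3.lift _ _ hw ≫ (f ⁻¹ᵁ V).ι = (f' ⁻¹ᵁ V').ι ≫ p := sq3.lift_fst _ _ hw
    have hl2 : sq3.lift _ _ hw ≫ f ∣_ V = f' ∣_ V' ≫ gV := sq3.lift_snd _ _ hw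
    refine ⟨sq3.lift _ _ hw, (IsPullback.of_right ?_ hl2 sq3).flip⟩
    rw [hl1, hgV]
    exact big
  apply le_antisymm
  · intro y' hy'
    obtain ⟨V, hVaff, hyV⟩ : ∃ V : Y.Opens, IsAffineOpen V ∧ g y' ∈ V := by
      obtain ⟨_, ⟨V, hV, rfl⟩, hy, -⟩ := Y.isBasis_affineOpens.exists_subset_of_mem_open
        (Set.mem_univ (g y')) isOpen_univ
      exact ⟨V, hV, hy⟩
    obtain ⟨V', hV'aff, hy'V', hV'le⟩ :
        ∃ V' : Y'.Opens, IsAffineOpen V' ∧ y' ∈ V' ∧ V' ≤ g ⁻¹ᵁ V ⊓ W₁ := by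
      obtain ⟨_, ⟨V', hV', rfl⟩, hy, hle⟩ := Y'.isBasis_affineOpens.exists_subset_of_mem_open
        (show y' ∈ ((g ⁻¹ᵁ V ⊓ W₁ : Y'.Opens) : Set Y') from ⟨hyV, hy'⟩) (g ⁻¹ᵁ V ⊓ W₁).isOpen
      exact ⟨V', hV', hy, hle⟩
    let G : Y.Opens := ⟨g.base '' (V' : Set Y'), hg _ V'.isOpen⟩
    obtain ⟨s, hsle, hys⟩ := hVaff.exists_basicOpen_le (V := G) ⟨g y', ⟨y', hy'V', rfl⟩⟩ hyV
    have hV₂aff : IsAffineOpen (Y.basicOpen s) := hVaff.basicOpen s
    obtain ⟨V'₂, hV'₂, hV'₂aff⟩ : ∃ V'₂ : Y'.Opens, V'₂ = V' ⊓ g ⁻¹ᵁ Y.basicOpen s ∧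
        IsAffineOpen V'₂ := by
      refine ⟨Y'.basicOpen (Y'.presheaf.map (homOfLE (hV'le.trans inf_le_left)).op (g.app V s)),
        ?_, hV'aff.basicOpen _⟩
      rw [Scheme.basicOpen_res, Scheme.preimage_basicOpen]
    have hle2 : V'₂ ≤ g ⁻¹ᵁ Y.basicOpen s := hV'₂ ▸ inf_le_right
    have hsub : Set.range (V'₂.ι ≫ g) ⊆ Set.range (Y.basicOpen s).ι := by
      rintro _ ⟨v, rfl⟩
      exact ⟨⟨g v.1, hle2 v.2⟩, by simp⟩
    have hgV : IsOpenImmersion.lift (Y.basicOpen s).ι (V'₂.ι ≫ g) hsub ≫ (Y.basicOpen s).ι =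
        V'₂.ι ≫ g := IsOpenImmersion.lift_fac _ _ _
    haveI : IsAffine (V'₂ : Scheme.{u}) := hV'₂aff
    haveI : IsAffine ((Y.basicOpen s : Y.Opens) : Scheme.{u}) := hV₂aff
    have hQ : (@Flat ⊓ @Surjective ⊓ @QuasiCompact : MorphismProperty Scheme.{u})
        (IsOpenImmersion.lift (Y.basicOpen s).ι (V'₂.ι ≫ g) hsub) := by
      refine ⟨⟨?_, ⟨fun z => ?_⟩⟩, inferInstance⟩
      · have hfl : Flat (V'₂.ι ≫ g) := inferInstance
        exact IsZariskiLocalAtTarget.of_isPullback (P := @Flat)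
          (IsOpenImmersion.isPullback_lift_id (V'₂.ι ≫ g) (Y.basicOpen s).ι hsub).flip hfl
      · obtain ⟨v, hv, hvz⟩ := hsle z.2
        have hv2 : v ∈ V'₂ := by
          rw [hV'₂]
          refine ⟨hv, ?_⟩
          show g v ∈ Y.basicOpen s
          rw [hvz]
          exact z.2
        refine ⟨⟨v, hv2⟩, ?_⟩
        apply (Y.basicOpen s).ι.injective
        rw [← Scheme.Hom.comp_apply, hgV]
        simpa using hvz
    have hV'₂W₁ : V'₂ ≤ W₁ := (hV'₂ ▸ inf_le_left : V'₂ ≤ V').trans (hV'le.trans inf_le_right)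
    have hP' : P (pullback.snd f g ∣_ V'₂) := by
      obtain ⟨l, sq⟩ := BC (IsPullback.of_id_fst (f := pullback.snd f g)) W₁ V'₂
        (Y'.homOfLE hV'₂W₁) (by simp)
      exact P.of_isPullback sq.flip hW₁
    obtain ⟨l, sq⟩ := BC (IsPullback.of_hasPullback f g) (Y.basicOpen s) V'₂ _ hgV
    have hPV : P (f ∣_ Y.basicOpen s) :=
      MorphismProperty.of_isPullback_of_descendsAlong sq hQ hP'
    exact hmax _ hPV hys
  · apply hmax₁
    obtain ⟨l, sq⟩ := BC (IsPullback.of_hasPullback f g) W (g ⁻¹ᵁ W) (g ∣_ W)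
      (morphismRestrict_ι g W)
    exact P.of_isPullback sq.flip hW

end Groth.Agent.S5390
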