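import Groth.Statements.S5446
import Groth.Agent.Lib.helper3.RootD25

set_option autoImplicit false
open RootD

 open RootD Groth.Agent.Helper3.RD
namespace Groth.Agent.S5446

/-- If the roots indexed by Δ are indivisible and linearly independent and every root is, up to sign, a
non-negative rational combination of them (some positive multiple is a non-negative integer
combination), then Δ is a system of simple roots: every root is, up to sign, a non-negative integer
combination of Δ. -/
theorem result {ι M N : Type*} [AddCommGroup M] [AddCommGroup N]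
    (P : RootPairing ι ℤ M N) [Finite ι] (Δ : Set ι)
    (hind : ∀ i ∈ Δ, RootD.IsIndiv P i) (hli : LinearIndepOn ℤ P.root Δ)
    (hcone : ∀ k : ι, ∃ n : ℕ, 0 < n ∧
      (n • P.root k ∈ RootD.natSpan P Δ ∨ n • (-P.root k) ∈ RootD.natSpan P Δ)) :
    RootD.IsSimpleSys P Δ := by
  classical
  set S : Set ι := {k | ∃ n : ℕ, 0 < n ∧ n • P.root k ∈ natSpan P Δ} with hS
  have hzero : ∀ x : M, x ∈ natSpan P Δ → -x ∈ natSpan P Δ → x = 0 := by
    intro x hx hnx
    obtain ⟨c, hc, hc0, hcx⟩ := (mem_natSpan_iff_finsupp P Δ x).mp hx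
    obtain ⟨c', hc', hc0', hcx'⟩ := (mem_natSpan_iff_finsupp P Δ (-x)).mp hnx
    have := coeff_zero_of_pos_neg hli hc hc' hc0 hc0' (by rw [hcx, hcx', neg_neg])
    rw [← hcx, this, map_zero]
  have hP1 : ∀ i ∈ S, P.reflectionPerm i i ∉ S := by
    rintro i ⟨n, hn, hmem⟩ ⟨m, hm, hmem'⟩
    rw [root_neg] at hmem'
    have h1 : (m * n) • P.root i ∈ natSpan P Δ := by
      rw [mul_smul]; exact AddSubmonoid.nsmul_mem _ hmem m
    have h2 : -((m * n) • P.root i) ∈ natSpan P Δ := by
      have : -((m * n) • P.root i) = n • (m • -P.root i) := by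
        rw [smul_neg, smul_neg, ← mul_smul, mul_comm]
      rw [this]; exact AddSubmonoid.nsmul_mem _ hmem' n
    have h3 := hzero _ h1 h2
    have hne := P.ne_zero i
    have : ((m * n : ℕ) : ℤ) • P.root i = ((m * n : ℕ) : ℤ) • (0 : M) := by
      rw [Nat.cast_smul_eq_nsmul, h3, smul_zero]
    exact hne (smul_cancel_M P (Int.natCast_ne_zero.mpr (Nat.mul_ne_zero hm.ne' hn.ne')) this)
  have hP2 : ∀ i : ι, i ∈ S ∨ P.reflectionPerm i i ∈ S := by
    intro i
    obtain ⟨n, hn, h | h⟩ := hcone i
    · exact Or.inl ⟨n, hn, h⟩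
    · exact Or.inr ⟨n, hn, by rw [root_neg]; exact h⟩
  have hcl : IsClosedSub P S := by
    rintro i j k ⟨n, hn, hi⟩ ⟨m, hm, hj⟩ hk
    refine ⟨n * m, Nat.mul_pos hn hm, ?_⟩
    rw [hk, smul_add]
    refine AddSubmonoid.add_mem _ ?_ ?_
    · rw [mul_comm, mul_smul]; exact AddSubmonoid.nsmul_mem _ hi m
    · rw [mul_smul]; exact AddSubmonoid.nsmul_mem _ hj n
  have hpos : IsPosSys P S := (isPosSys_iff_closed P S).mpr ⟨hP1, hP2, hcl⟩
  obtain ⟨Δ₀, ⟨hΔ₀, hΔ₀S⟩, -⟩ := existsUnique_simpleSys_subset_posSys P S hpos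
  have hSeq : S = posOf P Δ₀ := (subset_iff_eq_posOf hΔ₀ S hpos).mp hΔ₀S
  have hΔS : Δ ⊆ S := fun d hd => ⟨1, one_pos, by rw [one_smul]; exact root_mem_natSpan P hd⟩
  have h3 : Δ ⊆ Δ₀ := by
    intro d hd
    by_contra hdΔ₀
    have hdpos : d ∈ posOf P Δ₀ := hSeq ▸ hΔS hd
    have hex := (mem_simpleSys_iff_not_sum P Δ₀ hΔ₀ d hdpos).not.mp hdΔ₀
    obtain ⟨a, b, ha, hb, hab⟩ := not_not.mp hex
    rw [← hSeq] at ha hb
    obtain ⟨na, hna, hamem⟩ := ha
    obtain ⟨nb, hnb, hbmem⟩ := hb
    obtain ⟨x, hx, hx0, hxe⟩ := (mem_natSpan_iff_finsupp P Δ _).mp hamem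
    obtain ⟨y, hy, hy0, hye⟩ := (mem_natSpan_iff_finsupp P Δ _).mp hbmem
    have hnb' : (nb : ℤ) ≠ 0 := by exact_mod_cast hnb.ne'
    have hna' : (na : ℤ) ≠ 0 := by exact_mod_cast hna.ne'
    have hnbp : (0 : ℤ) < nb := by exact_mod_cast hnb
    have hnap : (0 : ℤ) < na := by exact_mod_cast hna
    have hsum : Finsupp.linearCombination ℤ P.root (Finsupp.single d ((na : ℤ) * nb)) =
        Finsupp.linearCombination ℤ P.root ((nb : ℤ) • x + (na : ℤ) • y) := by
      rw [Finsupp.linearCombination_single, map_add, map_smul, map_smul, hxe, hye, hab]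
      module
    have hsupp : ↑(((nb : ℤ) • x + (na : ℤ) • y).support) ⊆ Δ := by
      intro e he
      have he' := Finsupp.support_add (Finset.mem_coe.mp he)
      rcases Finset.mem_union.mp he' with h | h
      · exact hx (Finsupp.support_smul h)
      · exact hy (Finsupp.support_smul h)
    have heq := coeff_unique hli (support_single_subset' hd _) hsupp hsum
    have hval : ∀ e, (Finsupp.single d ((na : ℤ) * nb)) e = (nb : ℤ) * x e + (na : ℤ) * y e := by
      intro e; rw [heq]; simp [Finsupp.add_apply, Finsupp.smul_apply]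
    have hxz : ∀ e, e ≠ d → x e = 0 ∧ y e = 0 := by
      intro e hed
      have h := hval e
      rw [Finsupp.single_apply, if_neg (Ne.symm hed)] at h
      have h1 : 0 ≤ (nb : ℤ) * x e := mul_nonneg hnbp.le (hx0 e)
      have h2 : 0 ≤ (na : ℤ) * y e := mul_nonneg hnap.le (hy0 e)
      have h3 : (nb : ℤ) * x e = 0 := by linarith
      have h4 : (na : ℤ) * y e = 0 := by linarith
      exact ⟨(mul_eq_zero.mp h3).resolve_left hnb', (mul_eq_zero.mp h4).resolve_left hna'⟩
    have hxs : x = Finsupp.single d (x d) := by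
      ext e
      by_cases hed : e = d
      · rw [hed]; simp
      · rw [Finsupp.single_apply, if_neg (Ne.symm hed)]; exact (hxz e hed).1
    have hys : y = Finsupp.single d (y d) := by
      ext e
      by_cases hed : e = d
      · rw [hed]; simp
      · rw [Finsupp.single_apply, if_neg (Ne.symm hed)]; exact (hxz e hed).2
    have hxa : (na : ℤ) • P.root a = (x d) • P.root d := by
      have h := hxe
      rw [hxs, Finsupp.linearCombination_single] at h
      rw [Nat.cast_smul_eq_nsmul]
      simpa using h.symm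
    have hyb : (nb : ℤ) • P.root b = (y d) • P.root d := by
      have h := hye
      rw [hys, Finsupp.linearCombination_single] at h
      rw [Nat.cast_smul_eq_nsmul]
      simpa using h.symm
    obtain ⟨s, hs⟩ := dvd_of_smul_eq_smul_indiv P d a (hind d hd) (x d) (na : ℤ) hna' hxa
    obtain ⟨t, ht⟩ := dvd_of_smul_eq_smul_indiv P d b (hind d hd) (y d) (nb : ℤ) hnb' hyb
    have hst : s + t = 1 := by
      have h := hval d
      rw [Finsupp.single_apply, if_pos rfl, hs, ht] at h
      have hne : (na : ℤ) * nb ≠ 0 := mul_ne_zero hna' hnb'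
      have : (na : ℤ) * nb * (s + t) = (na : ℤ) * nb * 1 := by linear_combination -h
      exact mul_left_cancel₀ hne this
    have hs0 : 0 ≤ s := by
      have := hx0 d; rw [hs] at this
      by_contra hneg; push_neg at hneg
      have : (na : ℤ) * s < 0 := mul_neg_of_pos_of_neg hnap hneg
      linarith
    have ht0 : 0 ≤ t := by
      have := hy0 d; rw [ht] at this
      by_contra hneg; push_neg at hneg
      have : (nb : ℤ) * t < 0 := mul_neg_of_pos_of_neg hnbp hneg
      linarith
    rcases (show s = 0 ∨ t = 0 by omega) with h0 | h0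
    · rw [hs, h0, mul_zero, zero_smul] at hxa
      have : (na : ℤ) • P.root a = (na : ℤ) • (0 : M) := by rw [hxa, smul_zero]
      exact P.ne_zero a (smul_cancel_M P hna' this)
    · rw [ht, h0, mul_zero, zero_smul] at hyb
      have : (nb : ℤ) • P.root b = (nb : ℤ) • (0 : M) := by rw [hyb, smul_zero]
      exact P.ne_zero b (smul_cancel_M P hnb' this)
  have h4 : Δ₀ ⊆ Δ := by
    intro e he
    obtain ⟨n, hn, hmem⟩ := hΔ₀S he
    obtain ⟨c, hc, hc0, hce⟩ := (mem_natSpan_iff_finsupp P Δ _).mp hmem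
    have hsum : Finsupp.linearCombination ℤ P.root (Finsupp.single e (n : ℤ)) =
        Finsupp.linearCombination ℤ P.root c := by
      rw [Finsupp.linearCombination_single, hce, Nat.cast_smul_eq_nsmul]
    have heq := coeff_unique hΔ₀.linInd (support_single_subset' he _) (hc.trans h3) hsum
    have hce' : c e = n := by rw [← heq]; simp
    apply hc
    have : c e ≠ 0 := by rw [hce']; exact_mod_cast hn.ne'
    simpa [Finsupp.mem_support_iff] using this
  have : Δ = Δ₀ := Set.Subset.antisymm h3 h4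
  rw [this]; exact hΔ₀

end Groth.Agent.S5446
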