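import Groth.Statements.S5457
import Groth.Agent.Lib.helper3.RootD3

set_option autoImplicit false
open RootD

namespace Groth.Agent.S5457

/-- Given a translation-invariant partial order (pulled back along an additive map to an ordered abelian
group) for which every root is > 0 or < 0, the roots > 0 form a system of positive roots. -/
theorem result {ι M N : Type*} [AddCommGroup M] [AddCommGroup N]
    (P : RootPairing ι ℤ M N) [Finite ι] {G : Type*} [AddCommGroup G] [PartialOrder G]
    [IsOrderedAddMonoid G] (φ : M →+ G) (hφ : ∀ i : ι, 0 < φ (P.root i) ∨ φ (P.root i) < 0) :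
    RootD.IsPosSys P {i : ι | 0 < φ (P.root i)} := by
  have hneg : ∀ i : ι, φ (P.root (P.reflectionPerm i i)) = - φ (P.root i) := by
    intro i
    rw [Groth.Agent.Helper3.RD.root_neg, map_neg]
  have hnn : ∀ x ∈ RootD.natSpan P {i : ι | 0 < φ (P.root i)}, 0 ≤ φ x := by
    intro x hx
    induction hx using AddSubmonoid.closure_induction with
    | mem y hy =>
      obtain ⟨i, hi, rfl⟩ := hy
      exact le_of_lt hi
    | zero => simp
    | add y z _ _ hy hz =>
      rw [map_add]; exact add_nonneg hy hz
  refine ⟨?_, ?_, ?_⟩
  · intro i hi hi'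
    simp only [Set.mem_setOf_eq] at hi hi'
    rw [hneg, neg_pos] at hi'
    exact lt_asymm hi hi'
  · intro i
    rcases hφ i with h | h
    · exact Or.inl h
    · right
      simp only [Set.mem_setOf_eq]
      rw [hneg, neg_pos]; exact h
  · intro k n hn hk
    have h1 := hnn _ hk
    rw [map_nsmul] at h1
    rcases hφ k with h | h
    · exact h
    · exfalso
      have h2 : 0 < n • (- φ (P.root k)) := nsmul_pos (neg_pos.mpr h) (Nat.pos_iff_ne_zero.mp hn)
      rw [smul_neg, neg_pos] at h2
      exact not_lt_of_ge h1 h2

end Groth.Agent.S5457
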