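import Groth.Statements.S5460
import Groth.Agent.Lib.helper3.RootD26

set_option autoImplicit false
open RootD

 open RootD Groth.Agent.Helper3.RD
namespace Groth.Agent.S5460

/-- A set of roots R' is the trace on R of a vector subspace (every root with a positive multiple in the
span of R' lies in R') if and only if R' is the set of roots in the span of a subset Δ' of some
system of simple roots Δ. -/
theorem result {ι M N : Type*} [AddCommGroup M] [AddCommGroup N]
    (P : RootPairing ι ℤ M N) [Finite ι] (R' : Set ι) :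
    (∀ k : ι, (∃ n : ℕ, 0 < n ∧ n • P.root k ∈ Submodule.span ℤ (P.root '' R')) → k ∈ R') ↔
      ∃ Δ Δ' : Set ι, RootD.IsSimpleSys P Δ ∧ Δ' ⊆ Δ ∧ R' = RootD.inSpan P Δ' := by
  constructor
  · intro hsat
    obtain ⟨Δ, Δs, hΔ, hΔs, hsub⟩ := exists_simpleSys_extending P R' hsat
    exact ⟨Δ, Subtype.val '' Δs, hΔ, hsub, eq_inSpan_of_sat P R' hsat _ Δs hΔs⟩
  · rintro ⟨Δ, Δ', hΔ, hsub, rfl⟩
    rintro k ⟨n, hn, hmem⟩
    exact sat_inSpan P hΔ hsub k n hn hmem

end Groth.Agent.S5460
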