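import Groth.Statements.S5461
import Groth.Agent.Lib.helper3.RootD26

set_option autoImplicit false
open RootD

 open RootD Groth.Agent.Helper3.RD
namespace Groth.Agent.S5461

/-- If R' is the trace of a vector subspace on the roots, every system of simple roots Δ' of the root
datum with roots R' is contained in a system of simple roots Δ of the whole datum, and R' is the set
of roots in the span of Δ'. -/
theorem result {ι M N : Type*} [AddCommGroup M] [AddCommGroup N]
    (P : RootPairing ι ℤ M N) [Finite ι] (R' : Set ι)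
    (hsat : ∀ k : ι, (∃ n : ℕ, 0 < n ∧ n • P.root k ∈ Submodule.span ℤ (P.root '' R')) → k ∈ R')
    (Δ' : Set ι) (hΔ'R : Δ' ⊆ R') (hli : LinearIndepOn ℤ P.root Δ')
    (hgen : ∀ k ∈ R', P.root k ∈ RootD.natSpan P Δ' ∨ -P.root k ∈ RootD.natSpan P Δ') :
    ∃ Δ : Set ι, RootD.IsSimpleSys P Δ ∧ Δ' ⊆ Δ ∧ R' = RootD.inSpan P Δ' := by
  obtain ⟨Δ, Δs, hΔ, hΔs, hsub⟩ := exists_simpleSys_extending P R' hsat
  have hst := reflStable_of_sat P R' hsat
  have himg : Subtype.val '' (Subtype.val ⁻¹' Δ' : Set ↥R') = Δ' := by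
    rw [Subtype.image_preimage_coe]; exact Set.inter_eq_right.mpr hΔ'R
  have hΔ's : IsSimpleSys (subP P R' hst) (Subtype.val ⁻¹' Δ' : Set ↥R') := by
    refine ⟨?_, ?_⟩
    · have h1 : LinearIndepOn ℤ P.root (Subtype.val '' (Subtype.val ⁻¹' Δ' : Set ↥R')) := by
        rw [himg]; exact hli
      exact h1.comp_of_image Subtype.val_injective.injOn
    · intro k
      rw [natSpan_subP, himg]
      exact hgen k.1 k.2
  obtain ⟨w, hw, hwΔ⟩ := weylGroup_transitive_simpleSys (subP P R' hst) Δs _ hΔs hΔ's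
  obtain ⟨g, hg, hgw⟩ := exists_lift P R' hst w hw
  refine ⟨(fun i => g • i) '' Δ, isSimpleSys_image P g hΔ, ?_, ?_⟩
  · intro d hd
    have hd' : (⟨d, hΔ'R hd⟩ : ↥R') ∈ (fun i => w • i) '' Δs := by rw [hwΔ]; exact hd
    obtain ⟨e, he, hed⟩ := hd'
    refine ⟨e.1, hsub ⟨e, he, rfl⟩, ?_⟩
    show g • e.1 = d
    rw [hgw e]
    exact congrArg Subtype.val hed
  · have := eq_inSpan_of_sat P R' hsat hst _ hΔ's
    rwa [himg] at this

end Groth.Agent.S5461
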