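import Groth.Statements.S5473
import Groth.Agent.Lib.helper3.RootD24

set_option autoImplicit false
open RootD

namespace Groth.Agent.S5473

/-- If a linear map f and its transpose g induce bijections from the roots of R' onto the roots of R and
from the coroots of R onto the coroots of R' respectively (a morphism of root data in the
two-bijection sense), then the two bijections correspond: the coroot of α' is g applied to the
coroot of f(α'). -/
theorem result {ι M N ι' M' N' : Type*} [AddCommGroup M] [AddCommGroup N] [AddCommGroup M'] [AddCommGroup N']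
    (P : RootPairing ι ℤ M N) (P' : RootPairing ι' ℤ M' N') [Finite ι] [Finite ι']
    (f : M' →ₗ[ℤ] M) (g : N →ₗ[ℤ] N') (hfg : ∀ (m' : M') (n : N), P.toLinearMap (f m') n = P'.toLinearMap m' (g n))
    (e : ι' ≃ ι) (he : ∀ i' : ι', f (P'.root i') = P.root (e i'))
    (e' : ι ≃ ι') (he' : ∀ i : ι, g (P.coroot i) = P'.coroot (e' i)) :
    ∀ i' : ι', g (P.coroot (e i')) = P'.coroot i' := by
  classical
  cases nonempty_fintype ι'
  have key : ∀ i' : ι', P'.pairing i' (e' (e i')) = 2 := by
    intro i'
    have h1 := hfg (P'.root i') (P.coroot (e i'))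
    rw [he, he', P.root_coroot_two] at h1
    exact h1.symm
  have hmem : ∀ i' : ι', P'.pairing (e' (e i')) i' = 1 ∨ P'.pairing (e' (e i')) i' = 2 := by
    intro i'
    have h := Groth.Agent.Helper3.RD.pairing_pair_mem P' i' (e' (e i'))
    rw [key] at h
    simp only [Set.mem_insert_iff, Prod.mk.injEq, Set.mem_singleton_iff] at h
    omega
  have hL : ∀ i' : ι', 0 < P'.RootForm (P'.root i') (P'.root i') :=
    fun i' => Groth.Agent.Helper3.RD.rootForm_self_pos P' i'
  have hsw : ∀ i' : ι', P'.pairing (e' (e i')) i' * P'.RootForm (P'.root i') (P'.root i') =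
      2 * P'.RootForm (P'.root (e' (e i'))) (P'.root (e' (e i'))) := by
    intro i'
    have := Groth.Agent.Helper3.RD.rootForm_swap P' i' (e' (e i'))
    rw [key] at this
    exact this
  have hle : ∀ i' ∈ (Finset.univ : Finset ι'),
      P'.RootForm (P'.root (e' (e i'))) (P'.root (e' (e i'))) ≤ P'.RootForm (P'.root i') (P'.root i') := by
    intro i' _
    have h1 := hsw i'
    have h2 := hL i'
    rcases hmem i' with h | h <;> rw [h] at h1 <;> linarith
  have hsum : ∑ i' : ι', P'.RootForm (P'.root (e' (e i'))) (P'.root (e' (e i'))) =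
      ∑ i' : ι', P'.RootForm (P'.root i') (P'.root i') :=
    Equiv.sum_comp (e.trans e') (fun i' => P'.RootForm (P'.root i') (P'.root i'))
  have heq := (Finset.sum_eq_sum_iff_of_le hle).mp hsum
  intro i'
  have h2 : P'.pairing (e' (e i')) i' = 2 := by
    have h1 := hsw i'
    have h3 := heq i' (Finset.mem_univ _)
    rw [h3] at h1
    exact mul_right_cancel₀ (ne_of_gt (hL i')) h1
  have hij : i' = e' (e i') := Groth.Agent.Helper3.RD.eq_of_pairing_two P' (key i') h2
  rw [he', ← hij]

end Groth.Agent.S5473
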