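import Groth.Statements.S5474
import Groth.Agent.Lib.helper3.RootD24

set_option autoImplicit false
open RootD

namespace Groth.Agent.S5474

/-- Every morphism between semisimple root data is an isogeny (injective on weight lattices with finite
cokernel). -/
theorem result {ι M N ι' M' N' : Type*} [AddCommGroup M] [AddCommGroup N] [AddCommGroup M'] [AddCommGroup N']
    (P : RootPairing ι ℤ M N) (P' : RootPairing ι' ℤ M' N') [Finite ι] [Finite ι']
    [Module.Finite ℤ M] [Module.Finite ℤ N] [Module.Finite ℤ M'] [Module.Finite ℤ N']
    (hss : Module.finrank ℤ (Submodule.span ℤ (Set.range P.root)) = Module.finrank ℤ M)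
    (hss' : Module.finrank ℤ (Submodule.span ℤ (Set.range P'.root)) = Module.finrank ℤ M')
    (f : RootPairing.Hom P' P) :
    Function.Injective f.weightMap ∧ Finite (M ⧸ LinearMap.range f.weightMap) := by
  constructor
  · rw [injective_iff_map_eq_zero]
    intro x hx
    have h0 : ∀ i', P'.coroot' i' x = 0 := by
      intro i'
      have h1 := Groth.Agent.Helper3.RD.hom_pairing P' P f x (P.coroot (f.indexEquiv i'))
      rw [hx, map_zero, LinearMap.zero_apply, Groth.Agent.Helper3.RD.hom_coweight_coroot] at h1
      exact h1.symm
    obtain ⟨n, hn, hmem⟩ := Groth.Agent.Helper3.RD.exists_nat_smul_mem_of_finrank_eq _ hss' x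
    exact Groth.Agent.Helper3.RD.eq_zero_of_orth_of_smul_mem P' x h0 n hn hmem
  · exact Groth.Agent.Helper3.RD.finite_quotient_of_finrank_eq_of_le _ _ hss
      (Groth.Agent.Helper3.RD.span_root_le_range_hom P' P f)

end Groth.Agent.S5474
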