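import Groth.Statements.S5486
import Mathlib

set_option autoImplicit false
open RootD

namespace Groth.Agent.S5486

/-- For orthogonal roots α, β, the sum α + β is a root if and only if the difference α - β is. -/
theorem result {ι M N : Type*} [AddCommGroup M] [AddCommGroup N]
    (P : RootPairing ι ℤ M N) [Finite ι] (i j : ι) (h : P.IsOrthogonal i j) :
    P.root i + P.root j ∈ Set.range P.root ↔ P.root i - P.root j ∈ Set.range P.root := by
  have hij : P.pairing i j = 0 := h.1
  constructor
  · rintro ⟨k, hk⟩
    refine ⟨P.reflectionPerm j k, ?_⟩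
    have hp : P.pairing k j = 2 := by
      rw [← P.root_coroot'_eq_pairing, hk, map_add, P.root_coroot'_eq_pairing, P.root_coroot'_eq_pairing,
        hij, P.pairing_same]; norm_num
    rw [P.root_reflectionPerm, P.reflection_apply_root, hp, hk, two_smul]; abel
  · rintro ⟨k, hk⟩
    refine ⟨P.reflectionPerm j k, ?_⟩
    have hp : P.pairing k j = -2 := by
      rw [← P.root_coroot'_eq_pairing, hk, map_sub, P.root_coroot'_eq_pairing, P.root_coroot'_eq_pairing,
        hij, P.pairing_same]; norm_num
    rw [P.root_reflectionPerm, P.reflection_apply_root, hp, hk, neg_smul, two_smul]; abel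

end Groth.Agent.S5486
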