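import Groth.Statements.S5489
import Mathlib

set_option autoImplicit false
open RootD

namespace Groth.Agent.S5489

/-- If a root α, distinct from roots α_1, ..., α_n, is a non-negative rational combination of them, then
some α_l with non-zero coefficient has (α^v, α_l) > 0 and α - α_l a root. -/
theorem result {ι M N : Type*} [AddCommGroup M] [AddCommGroup N]
    (P : RootPairing ι ℤ M N) [Finite ι] {n : ℕ} (a : Fin n → ι) (m : Fin n → ℕ)
    (k : ι) (hne : ∀ l, a l ≠ k) (c : ℕ) (hc : 0 < c) (hk : c • P.root k = ∑ l, m l • P.root (a l)) :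
    ∃ l : Fin n, m l ≠ 0 ∧ 0 < P.pairing (a l) k ∧ P.root k - P.root (a l) ∈ Set.range P.root := by
  classical
  have h2 : (P.coroot' k) (c • P.root k) = (P.coroot' k) (∑ l, m l • P.root (a l)) := by rw [hk]
  simp only [map_sum, map_nsmul, P.root_coroot'_eq_pairing, P.pairing_same] at h2
  have hex : ∃ l : Fin n, 0 < m l • P.pairing (a l) k := by
    by_contra hcon
    push_neg at hcon
    have : ∑ l, m l • P.pairing (a l) k ≤ 0 := Finset.sum_nonpos (fun l _ => hcon l)
    rw [← h2] at this
    have : (0:ℤ) < c • 2 := by simp; omega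
    omega
  obtain ⟨l, hl⟩ := hex
  have hml : m l ≠ 0 := by
    rintro h0
    simp [h0] at hl
  have hp : 0 < P.pairing (a l) k := by
    rw [nsmul_eq_mul] at hl
    have : (0:ℤ) < m l := by exact_mod_cast Nat.pos_of_ne_zero hml
    exact (mul_pos_iff_of_pos_left this).mp hl
  refine ⟨l, hml, hp, ?_⟩
  have hp' : 0 < P.pairingIn ℤ (a l) k := by
    have := P.algebraMap_pairingIn ℤ (a l) k
    simp only [algebraMap_int_eq, eq_intCast, Int.cast_id] at this
    rwa [this]
  have := P.root_sub_root_mem_of_pairingIn_pos hp' (hne l)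
  rw [← P.neg_mem_range_root_iff, neg_sub]
  exact this

end Groth.Agent.S5489
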