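import Groth.Statements.S5491
-- import your own Groth.Agent.* helpers here
import Mathlib

set_option autoImplicit false
open RootD

namespace Groth.Agent.S5491

open Classical in
lemma sum_pos_pairing_simple {ι M N : Type*} [AddCommGroup M] [AddCommGroup N]
    (P : RootPairing ι ℤ M N) [Finite ι] [Fintype ι] [P.IsReduced] (b : P.Base) (k : ι)
    (hk : k ∈ b.support) :
    (∑ j, if b.IsPos j then P.pairing k j else 0) = 2 := by
  rw [← Finset.sum_filter]
  set S := Finset.univ.filter (fun j => b.IsPos j ∧ j ≠ k) with hS
  have hkpos : b.IsPos k := b.isPos_of_mem_support hk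
  have hins : Finset.univ.filter (fun j => b.IsPos j) = insert k S := by
    ext j
    simp only [Finset.mem_filter, Finset.mem_univ, true_and, Finset.mem_insert, hS]
    constructor
    · intro h
      by_cases hjk : j = k
      · exact Or.inl hjk
      · exact Or.inr ⟨h, hjk⟩
    · rintro (h | h)
      · rw [h]; exact hkpos
      · exact h.1
  have hkS : k ∉ S := by simp [hS]
  have hneg : ¬ b.IsPos (P.reflectionPerm k k) := fun h =>
    ((RootPairing.Base.IsPos.neg_iff_not b k).mp h) hkpos
  have hflip : ∀ j, P.pairing k (P.reflectionPerm k j) = - P.pairing k j := by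
    intro j
    rw [P.pairing_reflectionPerm k k j, P.pairing_reflectionPerm_self_left]
  rw [hins, Finset.sum_insert hkS, P.pairing_same]
  have hT : ∑ j ∈ S, P.pairing k j = 0 := by
    apply Finset.sum_involution (fun j _ => P.reflectionPerm k j)
    · intro j _
      rw [hflip j]
      ring
    · intro j _ hne hfix
      apply hne
      have h1 := hflip j
      rw [hfix] at h1
      linarith
    · intro j hj
      rw [hS, Finset.mem_filter] at hj ⊢
      obtain ⟨-, hpos, hjk⟩ := hj
      refine ⟨Finset.mem_univ _, hpos.reflectionPerm hk hjk, ?_⟩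
      intro hfix
      have hj' : j = P.reflectionPerm k k := by
        have h2 := P.reflectionPerm_self k j
        rw [hfix] at h2
        exact h2.symm
      rw [hj'] at hpos
      exact hneg hpos
    · intro j _
      exact P.reflectionPerm_self k j
  rw [hT, add_zero]

open Classical in
/-- With ρ^v the half-sum of the positive coroots, the order (height) of any root α relative to the
simple system equals (ρ^v, α); equivalently 2·height(α) = Σ_{β > 0} (β^v, α). -/
theorem result {ι M N : Type*} [AddCommGroup M] [AddCommGroup N]
    (P : RootPairing ι ℤ M N) [Finite ι] [Fintype ι] [P.IsReduced] (b : P.Base) (i : ι) :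
    2 * b.height i = ∑ j, if b.IsPos j then P.pairing i j else 0 := by
  classical
  obtain ⟨f, hf₀, hf₁, hf₂⟩ := b.exists_root_eq_sum_int i
  rw [RootPairing.Base.height_eq_sum hf₂]
  have hpair : ∀ j, P.pairing i j = ∑ l ∈ b.support, f l * P.pairing l j := by
    intro j
    rw [← P.root_coroot_eq_pairing i j, hf₂]
    simp only [map_sum, map_zsmul, LinearMap.coe_sum, Finset.sum_apply, LinearMap.smul_apply,
      P.root_coroot_eq_pairing, smul_eq_mul]
  have hterm : ∀ j, (if b.IsPos j then P.pairing i j else 0) =
      ∑ l ∈ b.support, f l * (if b.IsPos j then P.pairing l j else 0) := by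
    intro j
    split_ifs
    · exact hpair j
    · simp
  simp_rw [hterm]
  rw [Finset.sum_comm]
  simp_rw [← Finset.mul_sum]
  rw [Finset.mul_sum]
  apply Finset.sum_congr rfl
  intro l hl
  rw [sum_pos_pairing_simple P b l hl]; ring

end Groth.Agent.S5491
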