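import Groth.Statements.S5500
import Groth.Agent.Lib.helper3.RootD25

set_option autoImplicit false
open RootD

namespace Groth.Agent.S5500

/-- For a p-morphism between irreducible reduced root data there is a rational constant k with k ·
long(u(α)) = q(α)² · long(α) for every root α; stated as the proportionality q(α)² ℓ(α) ℓ'(u β) =
q(β)² ℓ(β) ℓ'(u α) of the canonical quadratic forms. -/
theorem result {ι M N ι' M' N' : Type*} [AddCommGroup M] [AddCommGroup N] [AddCommGroup M'] [AddCommGroup N']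
    (P : RootPairing ι ℤ M N) (P' : RootPairing ι' ℤ M' N') [Finite ι] [Finite ι'] [Fintype ι] [Fintype ι'] [P.IsReduced] [P'.IsReduced]
    (hirr : ∀ R₁ : Set ι, RootD.IsClosedSub P R₁ → RootD.IsSymmSub P R₁ → RootD.IsClosedSub P R₁ᶜ →
      RootD.IsSymmSub P R₁ᶜ → R₁ = ∅ ∨ R₁ = Set.univ)
    (hirr' : ∀ R₁ : Set ι', RootD.IsClosedSub P' R₁ → RootD.IsSymmSub P' R₁ → RootD.IsClosedSub P' R₁ᶜ →
      RootD.IsSymmSub P' R₁ᶜ → R₁ = ∅ ∨ R₁ = Set.univ)
    (p : ℕ) (hp : 0 < p) (f : M' →ₗ[ℤ] M) (g : N →ₗ[ℤ] N')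
    (hfg : ∀ (m' : M') (n : N), P.toLinearMap (f m') n = P'.toLinearMap m' (g n))
    (u : ι ≃ ι') (q : ι → ℕ) (hq : ∀ i, ∃ e : ℕ, q i = p ^ e)
    (hroot : ∀ i : ι, f (P'.root (u i)) = (q i : ℤ) • P.root i)
    (hcoroot : ∀ i : ι, g (P.coroot i) = (q i : ℤ) • P'.coroot (u i)) (i j : ι) :
    ((q i : ℤ) ^ 2 * P.RootForm (P.root i) (P.root i)) * P'.RootForm (P'.root (u j)) (P'.root (u j)) =
      ((q j : ℤ) ^ 2 * P.RootForm (P.root j) (P.root j)) * P'.RootForm (P'.root (u i)) (P'.root (u i)) := by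
  have hqpos : ∀ i, 0 < q i := by
    intro i; obtain ⟨e, he⟩ := hq i; rw [he]; exact pow_pos hp e
  have hL : ∀ i : ι, 0 < P.RootForm (P.root i) (P.root i) :=
    fun i => Groth.Agent.Helper3.RD.rootForm_self_pos P i
  have hL' : ∀ i' : ι', 0 < P'.RootForm (P'.root i') (P'.root i') :=
    fun i' => Groth.Agent.Helper3.RD.rootForm_self_pos P' i'
  have hconn := Groth.Agent.Helper3.RD.connected_of_irr P hirr i j
  induction hconn with
  | refl => rfl
  | @tail b c hab hbc ih =>
    have hstep : ((q b : ℤ) ^ 2 * P.RootForm (P.root b) (P.root b)) * P'.RootForm (P'.root (u c)) (P'.root (u c)) =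
        ((q c : ℤ) ^ 2 * P.RootForm (P.root c) (P.root c)) * P'.RootForm (P'.root (u b)) (P'.root (u b)) := by
      have ha0 : P.pairing b c ≠ 0 := by
        rwa [Groth.Agent.Helper3.RD.isOrthogonal_iff] at hbc
      have h1 := Groth.Agent.Helper3.RD.rootForm_swap P b c
      have h2 := Groth.Agent.Helper3.RD.rootForm_swap P' (u b) (u c)
      have h3 := Groth.Agent.Helper3.RD.pmor_pairing P P' f g hfg u q hroot hcoroot b c
      have h4 := Groth.Agent.Helper3.RD.pmor_pairing P P' f g hfg u q hroot hcoroot c b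
      have hqb : (0 : ℤ) < q b := by exact_mod_cast hqpos b
      have hqc : (0 : ℤ) < q c := by exact_mod_cast hqpos c
      have hb0 : P.pairing c b ≠ 0 := by
        intro h0
        rw [h0, zero_mul] at h1
        rcases mul_eq_zero.mp h1.symm with h | h
        · exact ha0 h
        · exact (ne_of_gt (hL c)) h
      have ha'0 : P'.pairing (u b) (u c) ≠ 0 := by
        intro h0
        rw [h0, mul_zero] at h4
        rcases mul_eq_zero.mp h4 with h | h
        · exact (ne_of_gt hqb) h
        · exact ha0 h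
      apply mul_left_cancel₀ (mul_ne_zero hb0 ha'0)
      linear_combination ((q b : ℤ) ^ 2 * P'.pairing (u b) (u c) * P'.RootForm (P'.root (u c)) (P'.root (u c))) * h1
        - ((q b : ℤ) ^ 2 * P.pairing b c * P.RootForm (P.root c) (P.root c)) * h2
        + (P.RootForm (P.root c) (P.root c) * P'.RootForm (P'.root (u b)) (P'.root (u b)) * (q b : ℤ) * P'.pairing (u c) (u b)) * h4
        - (P.RootForm (P.root c) (P.root c) * P'.RootForm (P'.root (u b)) (P'.root (u b)) * (q c : ℤ) * P'.pairing (u b) (u c)) * h3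
    have hne : ((q b : ℤ) ^ 2 * P.RootForm (P.root b) (P.root b)) * P'.RootForm (P'.root (u b)) (P'.root (u b)) ≠ 0 := by
      have hqb : (0 : ℤ) < q b := by exact_mod_cast hqpos b
      have := hL b
      have := hL' (u b)
      positivity
    apply mul_left_cancel₀ hne
    linear_combination ((q b : ℤ) ^ 2 * P.RootForm (P.root b) (P.root b) * P'.RootForm (P'.root (u c)) (P'.root (u c))) * ih
      + ((q b : ℤ) ^ 2 * P.RootForm (P.root b) (P.root b) * P'.RootForm (P'.root (u i)) (P'.root (u i))) * hstep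

end Groth.Agent.S5500
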