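import Groth.Statements.S5501
import Groth.Agent.Lib.helper3.RootD24

set_option autoImplicit false
universe u v w
open RootD

namespace Groth.Agent.S5501

/-- Adjoint case; the simply connected case is dual: a semisimple root datum R is adjoint if and only if
every isogeny R' → R is an isomorphism. -/
theorem result {ι : Type u} {M : Type v} {N : Type w} [AddCommGroup M] [AddCommGroup N]
    (P : RootPairing ι ℤ M N) [Finite ι] [Module.Finite ℤ M] [Module.Finite ℤ N]
    (hss : Module.finrank ℤ (Submodule.span ℤ (Set.range P.root)) = Module.finrank ℤ M) :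
    Submodule.span ℤ (Set.range P.root) = ⊤ ↔
      ∀ (ι' : Type u) (M' N' : Type v) [AddCommGroup M'] [AddCommGroup N'] [Finite ι']
        [Module.Finite ℤ M'] [Module.Finite ℤ N'] (P' : RootPairing ι' ℤ M' N') (f : RootPairing.Hom P' P),
        Function.Injective f.weightMap → Finite (M ⧸ LinearMap.range f.weightMap) →
          Function.Bijective f.weightMap := by
  constructor
  · intro htop ι' M' N' _ _ _ _ _ P' f hinj _
    refine ⟨hinj, ?_⟩
    rw [← LinearMap.range_eq_top]
    have := Groth.Agent.Helper3.RD.span_root_le_range_hom P' P f
    rw [htop] at this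
    exact top_le_iff.mp this
  · intro h
    have hb := h ι _ _ (Groth.Agent.Helper3.RD.adjCover P) (Groth.Agent.Helper3.RD.adjCoverHom P)
      Subtype.val_injective
      (Groth.Agent.Helper3.RD.finite_quotient_of_finrank_eq_of_le _ _ hss
        (Submodule.range_subtype _).ge)
    have := LinearMap.range_eq_top.mpr hb.2
    rwa [show (Groth.Agent.Helper3.RD.adjCoverHom P).weightMap =
      (Submodule.span ℤ (Set.range P.root)).subtype from rfl, Submodule.range_subtype] at this

end Groth.Agent.S5501
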