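import Groth.Statements.S5578
-- import your own Groth.Agent.* helpers here

set_option autoImplicit false
open CategoryTheory CategoryTheory.Limits Opposite
universe u
open ToposFin

namespace Groth.Agent.S5578

/-- For the topos of sheaves of sets on a small site: every monomorphism is quasi-separated, i.e. its
diagonal is a quasi-compact morphism. -/
theorem result {C : Type u} [SmallCategory C] {J : GrothendieckTopology C}
    {X Y : ToposFin.Sh J} (u : X ⟶ Y) [Mono u] : ToposFin.IsQSHom u := by
  have hiso : ∀ {P Q : ToposFin.Sh J} (e : P ≅ Q), ToposFin.IsQC Q → ToposFin.IsQC P := by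
    intro P Q e hQ ι F π hπ
    haveI := hπ
    have h1 : Limits.Sigma.desc (fun i => π i ≫ e.hom) = Limits.Sigma.desc π ≫ e.hom := by
      apply Limits.Sigma.hom_ext
      intro i
      simp
    have h2 : Epi (Limits.Sigma.desc (fun i => π i ≫ e.hom)) := by
      rw [h1]
      exact epi_comp _ _
    obtain ⟨s, hs⟩ := hQ ι F (fun i => π i ≫ e.hom) h2
    refine ⟨s, ?_⟩
    haveI := hs
    have h3 : Limits.Sigma.desc (fun i : s => π i) =
        Limits.Sigma.desc (fun i : s => π i ≫ e.hom) ≫ e.inv := by
      apply Limits.Sigma.hom_ext
      intro i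
      simp
    rw [h3]
    exact epi_comp _ _
  intro Y' g hY'
  haveI : IsIso (Limits.pullback.diagonal u) := inferInstance
  haveI : IsIso (Limits.pullback.snd (Limits.pullback.diagonal u) g) := inferInstance
  exact hiso (asIso (Limits.pullback.snd (Limits.pullback.diagonal u) g)) hY'

end Groth.Agent.S5578
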