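import Groth.Statements.S5614
import Mathlib

set_option autoImplicit false
universe v u
open CategoryTheory CategoryTheory.Limits CategoryTheory.Pretriangulated
open KZero

namespace Groth.Agent.S5614

/-- Let C be a pretriangulated category and S a dense set of objects, meaning that every set of objects
which contains S and which contains the third vertex of a distinguished triangle as soon as it
contains the other two is all of C. Then K₀(C) is generated by the classes of the objects of S. -/
theorem result {C : Type u} [Category.{v} C] [Preadditive C] [HasZeroObject C]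
    [HasShift C ℤ] [∀ n : ℤ, (shiftFunctor C n).Additive] [Pretriangulated C]
    (S : Set C)
    (hdense : ∀ T : Set C, S ⊆ T →
      (∀ tr : Triangle C, tr ∈ distinguishedTriangles →
        (tr.obj₁ ∈ T → tr.obj₂ ∈ T → tr.obj₃ ∈ T) ∧ (tr.obj₁ ∈ T → tr.obj₃ ∈ T → tr.obj₂ ∈ T) ∧
          (tr.obj₂ ∈ T → tr.obj₃ ∈ T → tr.obj₁ ∈ T)) → T = Set.univ) :
    AddSubgroup.closure (KZero.clTri '' S) = (⊤ : AddSubgroup (KZero.K0tri C)) := by
  set H := AddSubgroup.closure (KZero.clTri '' S) with hH
  have hT := hdense {X | KZero.clTri X ∈ H}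
    (fun X hX => AddSubgroup.subset_closure ⟨X, hX, rfl⟩) ?_
  · rw [eq_top_iff]
    rintro x -
    obtain ⟨y, rfl⟩ := QuotientAddGroup.mk_surjective x
    induction y using FreeAbelianGroup.induction_on with
    | zero => exact H.zero_mem
    | of X =>
      have : X.1 ∈ {X | KZero.clTri X ∈ H} := hT ▸ Set.mem_univ X.1
      exact this
    | neg X ih => exact H.neg_mem ih
    | add x y hx hy => exact H.add_mem hx hy
  · intro X hX
    have h0 : (QuotientAddGroup.mk (FreeAbelianGroup.of ⟨X.obj₂, trivial⟩ -
        FreeAbelianGroup.of ⟨X.obj₁, trivial⟩ -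
        FreeAbelianGroup.of ⟨X.obj₃, trivial⟩) : KZero.K0tri C) = 0 :=
      (QuotientAddGroup.eq_zero_iff _).mpr
        (AddSubgroup.subset_closure ⟨X, trivial, trivial, trivial, hX, rfl⟩)
    have rel : KZero.clTri X.obj₂ = KZero.clTri X.obj₁ + KZero.clTri X.obj₃ := by
      rw [QuotientAddGroup.mk_sub, QuotientAddGroup.mk_sub, sub_sub, sub_eq_zero] at h0
      exact h0
    refine ⟨fun h1 h2 => ?_, fun h1 h3 => ?_, fun h2 h3 => ?_⟩
    · have : KZero.clTri X.obj₃ = KZero.clTri X.obj₂ - KZero.clTri X.obj₁ := by rw [rel]; abel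
      show KZero.clTri X.obj₃ ∈ H
      rw [this]; exact H.sub_mem h2 h1
    · show KZero.clTri X.obj₂ ∈ H
      rw [rel]; exact H.add_mem h1 h3
    · have : KZero.clTri X.obj₁ = KZero.clTri X.obj₂ - KZero.clTri X.obj₃ := by rw [rel]; abel
      show KZero.clTri X.obj₁ ∈ H
      rw [this]; exact H.sub_mem h2 h3

end Groth.Agent.S5614
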