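import Groth.Statements.S5615
import Mathlib

set_option autoImplicit false
universe v u
open CategoryTheory CategoryTheory.Limits
open KZero

namespace Groth.Agent.S5615

/-- Let A be an abelian category and S a dense set of objects, meaning that every set of objects which
contains S and which contains the third term of a short exact sequence as soon as it contains the
other two is all of A. Then K₀(A) is generated by the classes of the objects of S. -/
theorem result {A : Type u} [Category.{v} A] [Abelian A] (S : Set A)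
    (hdense : ∀ T : Set A, S ⊆ T →
      (∀ X : ShortComplex A, X.ShortExact →
        (X.X₁ ∈ T → X.X₂ ∈ T → X.X₃ ∈ T) ∧ (X.X₁ ∈ T → X.X₃ ∈ T → X.X₂ ∈ T) ∧
          (X.X₂ ∈ T → X.X₃ ∈ T → X.X₁ ∈ T)) → T = Set.univ) :
    AddSubgroup.closure (KZero.cl '' S) = (⊤ : AddSubgroup (KZero.K0 A)) := by
  set H := AddSubgroup.closure (KZero.cl '' S) with hH
  have hT := hdense {X | KZero.cl X ∈ H} (fun X hX => AddSubgroup.subset_closure ⟨X, hX, rfl⟩) ?_
  · rw [eq_top_iff]
    rintro x -
    obtain ⟨y, rfl⟩ := QuotientAddGroup.mk_surjective x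
    induction y using FreeAbelianGroup.induction_on with
    | zero => exact H.zero_mem
    | of X =>
      have : X ∈ {X | KZero.cl X ∈ H} := hT ▸ Set.mem_univ X
      exact this
    | neg X ih => exact H.neg_mem ih
    | add x y hx hy => exact H.add_mem hx hy
  · intro X hX
    have h0 : (QuotientAddGroup.mk (FreeAbelianGroup.of X.X₂ - FreeAbelianGroup.of X.X₁ -
        FreeAbelianGroup.of X.X₃) : KZero.K0 A) = 0 :=
      (QuotientAddGroup.eq_zero_iff _).mpr (AddSubgroup.subset_closure ⟨X, hX, rfl⟩)
    have rel : KZero.cl X.X₂ = KZero.cl X.X₁ + KZero.cl X.X₃ := by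
      rw [QuotientAddGroup.mk_sub, QuotientAddGroup.mk_sub, sub_sub, sub_eq_zero] at h0
      exact h0
    refine ⟨fun h1 h2 => ?_, fun h1 h3 => ?_, fun h2 h3 => ?_⟩
    · have : KZero.cl X.X₃ = KZero.cl X.X₂ - KZero.cl X.X₁ := by rw [rel]; abel
      show KZero.cl X.X₃ ∈ H
      rw [this]; exact H.sub_mem h2 h1
    · show KZero.cl X.X₂ ∈ H
      rw [rel]; exact H.add_mem h1 h3
    · have : KZero.cl X.X₁ = KZero.cl X.X₂ - KZero.cl X.X₃ := by rw [rel]; abel
      show KZero.cl X.X₁ ∈ H
      rw [this]; exact H.sub_mem h2 h3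

end Groth.Agent.S5615
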