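import Groth.Statements.S5624
import Mathlib


set_option autoImplicit false
universe v u
open CategoryTheory CategoryTheory.Limits
open PCoh

namespace Groth.Agent.S5624

/-- Punctual site: let C be an abelian category and C₀ a strictly full additive subcategory,
quasi-liftable in C, and let 0 → F → G → H → 0 be a short exact sequence. If F and H are precoherent
relative to C₀ then G is precoherent; if F and H are of C₀-finite type then G is of C₀-finite type. -/
theorem result {C : Type u} [Category.{v} C] [Abelian C]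
    (P : ObjectProperty C) [P.IsClosedUnderIsomorphisms] [P.ContainsZero] (hsum : ∀ X Y : C, P X → P Y → P (X ⨯ Y))
    (hql : PCoh.IsQuasiLiftable P)
    (S : ShortComplex C) (hS : S.ShortExact) :
    ((∀ (E : C) (u : E ⟶ S.X₁), P E → PCoh.IsOfFiniteType P (kernel u)) → (∀ (E : C) (u : E ⟶ S.X₃), P E → PCoh.IsOfFiniteType P (kernel u)) →
        (∀ (E : C) (u : E ⟶ S.X₂), P E → PCoh.IsOfFiniteType P (kernel u))) ∧
      (PCoh.IsOfFiniteType P S.X₁ → PCoh.IsOfFiniteType P S.X₃ → PCoh.IsOfFiniteType P S.X₂) := by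
  haveI := hS.mono_f
  haveI := hS.epi_g
  constructor
  · intro hF hH E u hPE
    obtain ⟨E₁, σ, hPE₁, hσ⟩ := hH E (u ≫ S.g) hPE
    have hz : (kernel.ι (u ≫ S.g) ≫ u) ≫ S.g = 0 := by rw [Category.assoc, kernel.condition]
    obtain ⟨lam, hlam⟩ : ∃ lam : kernel (u ≫ S.g) ⟶ S.X₁,
        lam ≫ S.f = kernel.ι (u ≫ S.g) ≫ u := ⟨hS.exact.lift _ hz, hS.exact.lift_f _ _⟩
    obtain ⟨E₂, τ, hPE₂, hτ⟩ := hF E₁ (σ ≫ lam) hPE₁
    have hρz : (kernel.ι (σ ≫ lam) ≫ σ ≫ kernel.ι (u ≫ S.g)) ≫ u = 0 := by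
      rw [Category.assoc, Category.assoc, ← hlam, ← Category.assoc σ, ← Category.assoc,
        kernel.condition, zero_comp]
    refine ⟨E₂, τ ≫ kernel.lift u _ hρz, hPE₂, ?_⟩
    haveI : Epi (kernel.lift u _ hρz) := by
      rw [epi_iff_surjective_up_to_refinements]
      intro T x
      have hx3 : (x ≫ kernel.ι u) ≫ (u ≫ S.g) = 0 := by
        rw [Category.assoc, kernel.condition_assoc, zero_comp, comp_zero]
      obtain ⟨Ta, πa, hπa, e₁, he₁⟩ := surjective_up_to_refinements_of_epi σ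
        (kernel.lift (u ≫ S.g) (x ≫ kernel.ι u) hx3)
      have hx3lam : kernel.lift (u ≫ S.g) (x ≫ kernel.ι u) hx3 ≫ lam = 0 := by
        rw [← cancel_mono S.f, Category.assoc, hlam, kernel.lift_ι_assoc, Category.assoc,
          kernel.condition, comp_zero, zero_comp]
      have he₁μ : e₁ ≫ (σ ≫ lam) = 0 := by
        rw [← Category.assoc, ← he₁, Category.assoc, hx3lam, comp_zero]
      refine ⟨Ta, πa, hπa, kernel.lift (σ ≫ lam) e₁ he₁μ, ?_⟩
      rw [← cancel_mono (kernel.ι u), Category.assoc, Category.assoc, kernel.lift_ι,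
        kernel.lift_ι_assoc, ← Category.assoc e₁, ← he₁, Category.assoc, kernel.lift_ι]
    exact epi_comp _ _
  · intro h1 h3
    obtain ⟨E₁, π₁, hPE₁, hπ₁⟩ := h1
    obtain ⟨E₃, π₃, hPE₃, hπ₃⟩ := h3
    obtain ⟨F', v, hPF', hv⟩ := hql _ _ (pullback.snd S.g π₃) inferInstance hPE₃
    have hφ : Epi ((v ≫ pullback.fst S.g π₃) ≫ S.g) := by
      rw [Category.assoc, pullback.condition, ← Category.assoc]
      exact epi_comp _ _
    refine ⟨E₁ ⨯ F', prod.fst ≫ π₁ ≫ S.f + prod.snd ≫ v ≫ pullback.fst S.g π₃,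
      hsum _ _ hPE₁ hPF', ?_⟩
    rw [epi_iff_surjective_up_to_refinements]
    intro T y
    obtain ⟨Ta, πa, hπa, t, ht⟩ := surjective_up_to_refinements_of_epi
      ((v ≫ pullback.fst S.g π₃) ≫ S.g) (y ≫ S.g)
    have hd : (πa ≫ y - t ≫ v ≫ pullback.fst S.g π₃) ≫ S.g = 0 := by
      rw [Preadditive.sub_comp, Category.assoc, ht]
      simp only [Category.assoc, sub_self]
    obtain ⟨Tb, πb, hπb, x, hx⟩ := hS.exact.exact_up_to_refinements _ hd
    obtain ⟨Tc, πc, hπc, e, he⟩ := surjective_up_to_refinements_of_epi π₁ x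
    refine ⟨Tc, πc ≫ πb ≫ πa, inferInstance, prod.lift e (πc ≫ πb ≫ t), ?_⟩
    have e1 : e ≫ π₁ ≫ S.f = πc ≫ πb ≫ (πa ≫ y - t ≫ v ≫ pullback.fst S.g π₃) := by
      rw [← Category.assoc, ← he, Category.assoc, ← hx]
    rw [Preadditive.comp_add, prod.lift_fst_assoc, prod.lift_snd_assoc, e1]
    simp only [Preadditive.comp_sub, Category.assoc]
    abel

end Groth.Agent.S5624
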