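import Groth.Statements.S5753
import Mathlib

set_option autoImplicit false
universe u
open EGA41

namespace Groth.Agent.S5753

/-- Let A be a Noetherian local ring with maximal ideal m and residue field k, and N a finitely
generated A-module. Then no element of m is N-regular (multiplication by it injective) if and only
if Hom_A(k, N) is nonzero. Applied to N = M/(x_1 M + ... + x_n M) for an M-regular sequence (x_i) in
m, this says that the sequence cannot be extended by an element of m if and only if Hom_A(k, M/(x_1
M + ... + x_n M)) ≠ 0. (The published statement allows an arbitrary module; for the direct sum N of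
the quotients of a two-dimensional regular local ring by all its height-one primes no element of m
is N-regular while Hom_A(k, N) = 0, and the published proof uses finiteness of the set of associated
primes, so N is taken finitely generated here.) -/
theorem result (A : Type u) [CommRing A]
    [IsLocalRing A] [IsNoetherianRing A] (N : Type u) [AddCommGroup N] [Module A N] [Module.Finite A N] :
    (∀ x ∈ IsLocalRing.maximalIdeal A, ¬ IsSMulRegular N x) ↔
      Nontrivial (IsLocalRing.ResidueField A →ₗ[A] N) := by
  classical
  constructor
  · intro hnr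
    have hfin : (associatedPrimes A N).Finite := associatedPrimes.finite A N
    have hsub : ((IsLocalRing.maximalIdeal A : Ideal A) : Set A) ⊆
        ⋃ i ∈ ((hfin.toFinset : Finset (Ideal A)) : Set (Ideal A)), ((id i : Ideal A) : Set A) := by
      intro a ha
      have hz : a ∈ ⋃ p ∈ associatedPrimes A N, (p : Set A) := by
        rw [biUnion_associatedPrimes_eq_zero_divisors]
        have := hnr a ha
        unfold IsSMulRegular at this
        rw [Function.Injective] at this
        push_neg at this
        obtain ⟨x, y, hxy, hne⟩ := this
        exact ⟨x - y, sub_ne_zero.2 hne, by rw [smul_sub]; exact sub_eq_zero.2 hxy⟩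
      obtain ⟨p, hp, hap⟩ := Set.mem_iUnion₂.1 hz
      exact Set.mem_biUnion (by simp [hp]) hap
    obtain ⟨i, hi, hmi⟩ := (Ideal.subset_union_prime (f := id) (⊤ : Ideal A) ⊤ (by
      intro i hi _ _
      exact ((hfin.mem_toFinset).1 hi).isPrime)).1 hsub
    have hi' := (hfin.mem_toFinset).1 hi
    have hp' : i.IsPrime := hi'.isPrime
    have him : i = IsLocalRing.maximalIdeal A :=
      le_antisymm (IsLocalRing.le_maximalIdeal hp'.ne_top) hmi
    obtain ⟨_, n, hn⟩ := isAssociatedPrime_iff.1 hi'
    have hn0 : n ≠ 0 := by
      rintro rfl
      apply hp'.ne_top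
      rw [hn, Ideal.eq_top_iff_one, Submodule.mem_colon_singleton]; simp
    have hkill : ∀ a ∈ IsLocalRing.maximalIdeal A, a • n = 0 := by
      intro a ha
      rw [← him, hn, Submodule.mem_colon_singleton] at ha
      simpa using ha
    obtain ⟨φ, hφ⟩ : ∃ φ : IsLocalRing.ResidueField A →ₗ[A] N,
        φ (IsLocalRing.residue A 1) = n := by
      refine ⟨Submodule.liftQ (IsLocalRing.maximalIdeal A) (LinearMap.toSpanSingleton A N n) ?_, ?_⟩
      · intro a ha
        rw [LinearMap.mem_ker, LinearMap.toSpanSingleton_apply]
        exact hkill a ha
      · show (LinearMap.toSpanSingleton A N n) 1 = n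
        rw [LinearMap.toSpanSingleton_apply, one_smul]
    refine ⟨⟨φ, 0, ?_⟩⟩
    intro h0
    apply hn0
    rw [← hφ, h0]; rfl
  · intro hnt a ha hreg
    obtain ⟨φ, ψ, hne⟩ := hnt
    have : ∃ χ : IsLocalRing.ResidueField A →ₗ[A] N, χ ≠ 0 := by
      by_contra hcon; push Not at hcon
      exact hne ((hcon φ).trans (hcon ψ).symm)
    obtain ⟨χ, hχ⟩ := this
    apply hχ
    refine LinearMap.ext (fun y => ?_)
    obtain ⟨b, rfl⟩ := IsLocalRing.residue_surjective y
    apply hreg
    show a • χ (IsLocalRing.residue A b) = a • (0 : IsLocalRing.ResidueField A →ₗ[A] N) (IsLocalRing.residue A b)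
    have h2 : a • (IsLocalRing.residue A b) = 0 := by
      rw [Algebra.smul_def, IsLocalRing.ResidueField.algebraMap_eq,
        (IsLocalRing.residue_eq_zero_iff a).2 ha, zero_mul]
    rw [LinearMap.zero_apply, smul_zero, ← map_smul, h2, map_zero]

end Groth.Agent.S5753
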