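import Groth.Statements.S5754
import Mathlib

set_option autoImplicit false
universe u
open EGA41

namespace Groth.Agent.S5754

/-- Let A be a Noetherian ring, M a finitely generated A-module and t an element of A which is
M-regular. For every associated prime p of M, every prime ideal minimal among those containing p +
tA is an associated prime of M/tM. -/
theorem result (A : Type u) [CommRing A]
    [IsNoetherianRing A] (M : Type u) [AddCommGroup M] [Module A M] [Module.Finite A M] (t : A)
    (ht : IsSMulRegular M t) (p : Ideal A) (hp : p ∈ associatedPrimes A M) (q : Ideal A)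
    (hq : q ∈ (p ⊔ Ideal.span {t}).minimalPrimes) : q ∈ associatedPrimes A (QuotSMulTop t M) := by
  classical
  obtain ⟨hpprime, x, hx⟩ := (isAssociatedPrime_iff).1 hp
  have hpx : ∀ a, a ∈ p ↔ a • x = 0 := by
    intro a
    rw [hx, Submodule.mem_colon_singleton, Submodule.mem_bot]
  haveI : IsNoetherian A M := isNoetherian_of_isNoetherianRing_of_finite A M
  let N : Submodule A M := Submodule.torsionBySet A M (p : Set A)
  have hN : ∀ m, m ∈ N ↔ ∀ a ∈ p, a • m = 0 := by
    intro m
    rw [Submodule.mem_torsionBySet_iff]
    exact ⟨fun h a ha => h ⟨a, ha⟩, fun h a => h a a.2⟩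
  have hxN : x ∈ N := (hN x).2 (fun a ha => (hpx a).1 ha)
  have hann : Module.annihilator A N = p := by
    apply le_antisymm
    · intro a ha
      rw [hpx]
      have h1 := (Module.mem_annihilator.1 ha) ⟨x, hxN⟩
      exact congrArg Subtype.val h1
    · intro a ha
      rw [Module.mem_annihilator]
      intro n
      apply Subtype.ext
      exact (hN n).1 n.2 a ha
  have hsupp : Module.support A (QuotSMulTop t N) =
      PrimeSpectrum.zeroLocus ((p ⊔ Ideal.span {t} : Ideal A) : Set A) := by
    rw [Module.support_quotSMulTop, Module.support_eq_zeroLocus, hann,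
      PrimeSpectrum.zeroLocus_sup, PrimeSpectrum.zeroLocus_span]
  have hmin : (Module.annihilator A (QuotSMulTop t N)).minimalPrimes =
      (p ⊔ Ideal.span {t}).minimalPrimes := by
    have key : ∀ q' : Ideal A, q'.IsPrime →
        (Module.annihilator A (QuotSMulTop t N) ≤ q' ↔ p ⊔ Ideal.span {t} ≤ q') := by
      intro q' hq'
      have h1 : (⟨q', hq'⟩ : PrimeSpectrum A) ∈ Module.support A (QuotSMulTop t N) ↔
          (⟨q', hq'⟩ : PrimeSpectrum A) ∈
            PrimeSpectrum.zeroLocus ((p ⊔ Ideal.span {t} : Ideal A) : Set A) := by rw [hsupp]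
      rw [Module.support_eq_zeroLocus, PrimeSpectrum.mem_zeroLocus,
        PrimeSpectrum.mem_zeroLocus] at h1
      exact h1
    unfold Ideal.minimalPrimes Ideal.IsMinimalPrime
    have : (fun q' : Ideal A => q'.IsPrime ∧ Module.annihilator A (QuotSMulTop t N) ≤ q') =
        (fun q' : Ideal A => q'.IsPrime ∧ p ⊔ Ideal.span {t} ≤ q') := by
      funext q'
      exact propext (and_congr_right (key q'))
    rw [this]
  have hqN : q ∈ associatedPrimes A (QuotSMulTop t N) := by
    apply Module.associatedPrimes.minimalPrimes_annihilator_subset_associatedPrimes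
    rw [hmin]
    exact hq
  have hinj : Function.Injective (QuotSMulTop.map t N.subtype) := by
    rw [injective_iff_map_eq_zero]
    intro y hy
    obtain ⟨n, rfl⟩ := Submodule.Quotient.mk_surjective _ y
    rw [QuotSMulTop.map_apply_mk, Submodule.Quotient.mk_eq_zero] at hy
    obtain ⟨m, -, hm⟩ := (Submodule.mem_smul_pointwise_iff_exists _ _ _).1 hy
    have hmN : m ∈ N := by
      rw [hN]
      intro a ha
      apply ht
      show t • a • m = t • (0 : M)
      rw [smul_zero, smul_comm, hm]
      exact (hN n).1 n.2 a ha
    rw [Submodule.Quotient.mk_eq_zero]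
    refine (Submodule.mem_smul_pointwise_iff_exists _ _ _).2 ⟨⟨m, hmN⟩, Submodule.mem_top, ?_⟩
    apply Subtype.ext
    exact hm
  exact associatedPrimes.subset_of_injective hinj hqN

end Groth.Agent.S5754
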