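import Groth.Statements.S5755
import Groth.Agent.S5752

set_option autoImplicit false
universe u
open EGA41

namespace Groth.Agent.S5755

/-- A reduced Noetherian local ring A has depth 0 if and only if A is a field. -/
theorem result (A : Type u) [CommRing A] [IsLocalRing A]
    [IsNoetherianRing A] [IsReduced A] : LocCoh.depth A A = 0 ↔ IsField A := by
  rw [Groth.Agent.S5752.result A A, IsLocalRing.isField_iff_maximalIdeal_eq]
  constructor
  · intro hm
    obtain ⟨hprime, x, hx⟩ := isAssociatedPrime_iff.1 hm
    have hx0 : x ≠ 0 := by
      rintro rfl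
      apply hprime.ne_top
      rw [hx, Ideal.eq_top_iff_one, Submodule.mem_colon_singleton]; simp
    by_cases hxm : x ∈ IsLocalRing.maximalIdeal A
    · exfalso
      rw [hx, Submodule.mem_colon_singleton] at hxm
      apply hx0
      have : x * x = 0 := by simpa using hxm
      exact IsReduced.eq_zero x ⟨2, by rw [pow_two]; exact this⟩
    · have hu : IsUnit x := by
        by_contra h; exact hxm ((IsLocalRing.mem_maximalIdeal x).2 h)
      rw [eq_bot_iff]
      intro a ha
      rw [hx, Submodule.mem_colon_singleton] at ha
      have : a * x = 0 := by simpa using ha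
      rw [Ideal.mem_bot]
      exact (hu.mul_left_eq_zero).1 this
  · intro hbot
    rw [hbot]
    have hf : IsField A := IsLocalRing.isField_iff_maximalIdeal_eq.2 hbot
    haveI := hf.isDomain
    refine isAssociatedPrime_iff.2 ⟨Ideal.bot_prime, 1, ?_⟩
    ext r
    rw [Submodule.mem_colon_singleton]
    simp

end Groth.Agent.S5755
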