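import Groth.Statements.S5763
import Mathlib

set_option autoImplicit false
universe u
open EGA41

namespace Groth.Agent.S5763

/-- Let ρ : A → B be a ring homomorphism making B an integral A-algebra. Then dim(B) ≤ dim(A), and if ρ
is injective then dim(B) = dim(A) (Krull dimensions). -/
theorem result (A B : Type u) [CommRing A] [CommRing B] [Algebra A B]
    [Algebra.IsIntegral A B] :
    ringKrullDim B ≤ ringKrullDim A ∧
      (Function.Injective (algebraMap A B) → ringKrullDim B = ringKrullDim A) := by
  have h1 : ringKrullDim B ≤ ringKrullDim A := by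
    unfold ringKrullDim
    apply Order.krullDim_le_of_strictMono
      (fun q : PrimeSpectrum B => PrimeSpectrum.comap (algebraMap A B) q)
    intro q q' hlt
    exact Ideal.IsIntegral.comap_lt_comap (R := A) (I := q.asIdeal) (J := q'.asIdeal) hlt
  refine ⟨h1, fun hinj => le_antisymm h1 ?_⟩
  unfold ringKrullDim
  rw [Order.krullDim]
  refine iSup_le (fun l => ?_)
  obtain ⟨Q, -, hQ, hQl⟩ := Ideal.exists_ideal_over_prime_of_isIntegral (S := B) l.head.asIdeal ⊥ (by
    rw [← RingHom.ker_eq_comap_bot, (RingHom.injective_iff_ker_eq_bot _).1 hinj]; exact bot_le)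
  haveI : Q.LiesOver l.head.asIdeal := ⟨hQl.symm⟩
  obtain ⟨L, hL, -, -⟩ := Ideal.exists_ltSeries_of_hasGoingUp l Q
  rw [← hL]
  exact Order.LTSeries.length_le_krullDim L

end Groth.Agent.S5763
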