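import Groth.Statements.S5765
import Mathlib
import Groth.Agent.Lib.helper3.SuppLoc

set_option autoImplicit false
universe u
open EGA41

namespace Groth.Agent.S5765

/-- Let A be a ring, M a finitely generated A-module and p a prime ideal of A. Then dim_{A_p}(M_p) +
dim_A(M/pM) ≤ dim_A(M). -/
theorem result (A : Type u) [CommRing A] (M : Type u)
    [AddCommGroup M] [Module A M] [Module.Finite A M] (p : Ideal A) [p.IsPrime] :
    Module.supportDim (Localization.AtPrime p) (LocalizedModule p.primeCompl M) +
        Module.supportDim A (M ⧸ (p • (⊤ : Submodule A M))) ≤ Module.supportDim A M := by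
  classical
  by_cases hp : (⟨p, inferInstance⟩ : PrimeSpectrum A) ∈ Module.support A M
  swap
  · have h0 : Module.supportDim (Localization.AtPrime p) (LocalizedModule p.primeCompl M) = ⊥ := by
      rw [Module.supportDim_eq_bot_iff_subsingleton]
      exact Module.notMem_support_iff.1 hp
    rw [h0, WithBot.bot_add]
    exact bot_le
  · let x₀ : Module.support A M := ⟨⟨p, inferInstance⟩, hp⟩
    have h1 : Module.supportDim (Localization.AtPrime p) (LocalizedModule p.primeCompl M) ≤
        ((Order.height x₀ : ℕ∞) : WithBot ℕ∞) := by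
      rw [Order.height_eq_krullDim_Iic]
      unfold Module.supportDim
      let g : Module.support (Localization.AtPrime p) (LocalizedModule p.primeCompl M) →
          Set.Iic x₀ := fun P' =>
        ⟨⟨PrimeSpectrum.comap (algebraMap A (Localization.AtPrime p)) P'.1,
          (H3SuppLoc.supp_loc M p P'.1).1 P'.2⟩, H3SuppLoc.under_le p P'.1⟩
      refine Order.krullDim_le_of_strictMono g ?_
      intro a b hab
      refine lt_of_le_of_ne (Ideal.comap_mono (le_of_lt hab)) ?_
      intro heq
      have h3 := congrArg (fun z : Set.Iic x₀ => (z.1.1 : PrimeSpectrum A)) heq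
      exact (ne_of_lt hab) (Subtype.ext (H3SuppLoc.comap_injective p _ _ h3))
    have hP : ∀ P ∈ Module.support A (M ⧸ (p • (⊤ : Submodule A M))),
        P ∈ Module.support A M ∧ p ≤ P.asIdeal := fun P hP => by
      rw [Module.support_quotient] at hP
      exact ⟨hP.1, (PrimeSpectrum.mem_zeroLocus _ _).1 hP.2⟩
    have h2 : Module.supportDim A (M ⧸ (p • (⊤ : Submodule A M))) ≤
        ((Order.coheight x₀ : ℕ∞) : WithBot ℕ∞) := by
      rw [Order.coheight_eq_krullDim_Ici]
      unfold Module.supportDim
      let g : Module.support A (M ⧸ (p • (⊤ : Submodule A M))) → Set.Ici x₀ := fun P =>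
        ⟨⟨P.1, (hP P.1 P.2).1⟩, (hP P.1 P.2).2⟩
      exact Order.krullDim_le_of_strictMono g (fun a b hab => hab)
    calc _ ≤ ((Order.height x₀ : ℕ∞) : WithBot ℕ∞) + ((Order.coheight x₀ : ℕ∞) : WithBot ℕ∞) :=
          add_le_add h1 h2
      _ = ((Order.height x₀ + Order.coheight x₀ : ℕ∞) : WithBot ℕ∞) := (WithBot.coe_add _ _).symm
      _ ≤ Order.krullDim (Module.support A M) := by
          haveI : Nonempty (Module.support A M) := ⟨x₀⟩
          rw [Order.krullDim_eq_iSup_height_add_coheight_of_nonempty]
          exact WithBot.coe_le_coe.2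
            (le_iSup (fun a : Module.support A M => Order.height a + Order.coheight a) x₀)

end Groth.Agent.S5765
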