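import Groth.Statements.S5766
import Mathlib
import Groth.Agent.Lib.helper5.IntegralDim

set_option autoImplicit false
universe u
open EGA41

namespace Groth.Agent.S5766

/-- Let A be a Noetherian ring, ρ : A → B a ring homomorphism and M a B-module which is finitely
generated as an A-module via ρ. Then the dimension of M as an A-module equals its dimension as a
B-module. -/
theorem result (A B : Type u) [CommRing A] [CommRing B] [IsNoetherianRing A]
    [Algebra A B] (M : Type u) [AddCommGroup M] [Module B M] [Module A M] [IsScalarTower A B M]
    [Module.Finite A M] : Module.supportDim A M = Module.supportDim B M := by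
  haveI : Module.Finite B M := Module.Finite.of_restrictScalars_finite A B M
  rw [Module.supportDim_eq_ringKrullDim_quotient_annihilator,
    Module.supportDim_eq_ringKrullDim_quotient_annihilator (R := B)]
  have hIJ : Module.annihilator A M = (Module.annihilator B M).comap (algebraMap A B) := by
    ext a
    simp only [Ideal.mem_comap, Module.mem_annihilator, algebraMap_smul]
  letI : Algebra (A ⧸ Module.annihilator A M) (B ⧸ Module.annihilator B M) :=
    (Ideal.quotientMap (Module.annihilator B M) (algebraMap A B) hIJ.le).toAlgebra
  have hinj : Function.Injective
      (algebraMap (A ⧸ Module.annihilator A M) (B ⧸ Module.annihilator B M)) :=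
    Ideal.quotientMap_injective' hIJ.ge
  let f : B ⧸ Module.annihilator B M →ₐ[A] Module.End A M :=
    Ideal.Quotient.liftₐ (Module.annihilator B M) (Algebra.lsmul A A M) (by
      intro b hb
      ext m
      exact Module.mem_annihilator.1 hb m)
  have hfinj : Function.Injective f := by
    rw [injective_iff_map_eq_zero]
    intro x hx
    obtain ⟨b, rfl⟩ := Ideal.Quotient.mk_surjective x
    rw [Ideal.Quotient.eq_zero_iff_mem, Module.mem_annihilator]
    intro m
    have := LinearMap.congr_fun hx m
    exact this
  haveI : IsNoetherian A (Module.End A M) := isNoetherian_of_isNoetherianRing_of_finite A _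
  haveI : Module.Finite A (B ⧸ Module.annihilator B M) :=
    Module.Finite.of_injective f.toLinearMap hfinj
  haveI : Algebra.IsIntegral A (B ⧸ Module.annihilator B M) := Algebra.IsIntegral.of_finite A _
  haveI : IsScalarTower A (A ⧸ Module.annihilator A M) (B ⧸ Module.annihilator B M) :=
    IsScalarTower.of_algebraMap_eq (fun a => rfl)
  haveI : Algebra.IsIntegral (A ⧸ Module.annihilator A M) (B ⧸ Module.annihilator B M) :=
    Algebra.IsIntegral.tower_top (R := A)
  exact (Groth.Agent.Lib.helper5.h5_ringKrullDim_eq_of_isIntegral hinj).symm

end Groth.Agent.S5766
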