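import Groth.Statements.S5767
-- import your own Groth.Agent.* helpers here

set_option autoImplicit false
universe u
open EGA41

namespace Groth.Agent.S5767

/-- Let A be a semi-local Noetherian ring, M a finitely generated A-module and x an element of the
Jacobson radical of A. One always has dim(M/xM) ≥ dim(M) - 1; equality dim(M/xM) = dim(M) - 1 holds
if and only if x belongs to none of the prime ideals p of Supp(M) with dim(A/p) = dim(M). Stated as:
dim(M/xM) + 1 = dim(M) iff x avoids those primes. -/
theorem result (A : Type u) [CommRing A] [IsNoetherianRing A]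
    [Finite (MaximalSpectrum A)] (M : Type u) [AddCommGroup M] [Module A M] [Module.Finite A M] (x : A)
    (hx : x ∈ Ring.jacobson A) :
    Module.supportDim A (QuotSMulTop x M) + 1 = Module.supportDim A M ↔
      ∀ p : PrimeSpectrum A, p ∈ Module.support A M →
        ringKrullDim (A ⧸ p.asIdeal) = Module.supportDim A M → x ∉ p.asIdeal := by
  classical
  have hle : Module.supportDim A M ≤ Module.supportDim A (QuotSMulTop x M) + 1 :=
    Module.supportDim_le_supportDim_quotSMulTop_succ_of_mem_jacobson
      ((Module.annihilator A M).ringJacobson_le_jacobson hx)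
  have hV : ∀ (N : Type u) [AddCommGroup N] [Module A N] (p : PrimeSpectrum A),
      p ∈ Module.support A N → ringKrullDim (A ⧸ p.asIdeal) ≤ Module.supportDim A N := by
    intro N _ _ p hp
    rw [ringKrullDim_quotient]
    refine Order.krullDim_le_of_strictMono
      (fun q => ⟨q.1, Module.mem_support_mono ?_ hp⟩) (fun a b h => h)
    have := q.2
    rw [PrimeSpectrum.mem_zeroLocus, SetLike.coe_subset_coe] at this
    exact this
  have hsub : ∀ q : PrimeSpectrum A, q ∈ Module.support A (QuotSMulTop x M) →
      q ∈ Module.support A M ∧ x ∈ q.asIdeal := by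
    intro q hq
    rw [Module.support_quotSMulTop] at hq
    refine ⟨hq.1, ?_⟩
    have := hq.2
    rw [PrimeSpectrum.mem_zeroLocus, Set.singleton_subset_iff] at this
    exact this
  have hd'd : Module.supportDim A (QuotSMulTop x M) ≤ Module.supportDim A M := by
    refine Order.krullDim_le_of_strictMono (fun q => ⟨q.1, ?_⟩) (fun a b h => h)
    exact (hsub _ q.2).1
  have hfin : Nontrivial A → ringKrullDim A < ⊤ := by
    intro _
    obtain ⟨m₁, hm₁⟩ := Ideal.exists_maximal A
    haveI : Nonempty (MaximalSpectrum A) := ⟨⟨m₁, hm₁⟩⟩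
    obtain ⟨m₀, hm₀⟩ := Finite.exists_max (fun m : MaximalSpectrum A => m.asIdeal.height)
    have h1 : ringKrullDim A ≤ ((m₀.asIdeal.height : ℕ∞) : WithBot ℕ∞) := by
      rw [ringKrullDim_le_iff_isMaximal_height_le]
      intro m hm
      exact WithBot.coe_le_coe.mpr (hm₀ ⟨m, hm⟩)
    have h2 : m₀.asIdeal.height < ⊤ := Ideal.height_lt_top m₀.isMaximal.ne_top
    refine lt_of_le_of_lt h1 ?_
    rw [← WithBot.coe_top]
    exact WithBot.coe_lt_coe.mpr h2
  constructor
  · intro heq p hpM hp hxp
    haveI : Nontrivial A := by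
      refine ⟨⟨0, 1, fun h => p.2.ne_top ?_⟩⟩
      rw [Ideal.eq_top_iff_one, ← h]
      exact zero_mem _
    have hp' : p ∈ Module.support A (QuotSMulTop x M) := by
      rw [Module.support_quotSMulTop]
      refine ⟨hpM, ?_⟩
      rw [PrimeSpectrum.mem_zeroLocus, Set.singleton_subset_iff]
      exact hxp
    have h5 : Module.supportDim A M ≤ Module.supportDim A (QuotSMulTop x M) :=
      le_of_eq_of_le hp.symm (hV (QuotSMulTop x M) p hp')
    have h6 : Module.supportDim A (QuotSMulTop x M) + 1 ≤
        Module.supportDim A (QuotSMulTop x M) := heq.le.trans h5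
    have hnb : Module.supportDim A (QuotSMulTop x M) ≠ ⊥ :=
      Order.krullDim_ne_bot_iff.mpr ⟨⟨p, hp'⟩⟩
    have hnt : Module.supportDim A (QuotSMulTop x M) < ⊤ :=
      lt_of_le_of_lt (Module.supportDim_le_ringKrullDim _ _) (hfin inferInstance)
    obtain ⟨e, he⟩ := WithBot.ne_bot_iff_exists.mp hnb
    rw [← he] at h6 hnt
    have h6' : e + 1 ≤ e := by exact_mod_cast h6
    have hnt' : e ≠ ⊤ := by
      rw [← WithBot.coe_top] at hnt
      exact (WithBot.coe_lt_coe.mp hnt).ne
    exact lt_irrefl _ ((ENat.add_one_le_iff hnt').mp h6')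
  · intro h
    refine le_antisymm ?_ hle
    by_cases hemp : Module.supportDim A (QuotSMulTop x M) = ⊥
    · rw [hemp, WithBot.bot_add]
      exact bot_le
    have hne' : Nonempty (Module.support A (QuotSMulTop x M)) :=
      Order.krullDim_ne_bot_iff.mp hemp
    have hd'eq : Module.supportDim A (QuotSMulTop x M) =
        ((⨆ l : LTSeries (Module.support A (QuotSMulTop x M)), (l.length : ℕ∞) : ℕ∞) :
          WithBot ℕ∞) := Order.krullDim_eq_iSup_length
    have hdne : Module.supportDim A M ≠ ⊥ := ne_bot_of_le_ne_bot hemp hd'd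
    obtain ⟨e, he⟩ := WithBot.ne_bot_iff_exists.mp hdne
    have key : (⨆ l : LTSeries (Module.support A (QuotSMulTop x M)), (l.length : ℕ∞)) + 1
        ≤ e := by
      rw [ENat.iSup_add]
      refine iSup_le fun l => ?_
      have hl := hsub _ l.head.2
      have hxl : x ∈ l.head.1.asIdeal := hl.2
      have hlt : ringKrullDim (A ⧸ l.head.1.asIdeal) < Module.supportDim A M :=
        lt_of_le_of_ne (hV M _ hl.1) (fun heq => h _ hl.1 heq hxl)
      have h1 : (l.length : WithBot ℕ∞) ≤ ringKrullDim (A ⧸ l.head.1.asIdeal) := by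
        rw [ringKrullDim_quotient]
        have h2 : (l.length : ℕ∞) ≤ Order.coheight l.head := Order.length_le_coheight_head
        have h3 : ((Order.coheight l.head : ℕ∞) : WithBot ℕ∞) =
            Order.krullDim (Set.Ici l.head) := Order.coheight_eq_krullDim_Ici _
        have h4 : Order.krullDim (Set.Ici l.head) ≤
            Order.krullDim (PrimeSpectrum.zeroLocus (l.head.1.asIdeal : Set A)) := by
          refine Order.krullDim_le_of_strictMono (fun q => ⟨q.1.1, ?_⟩) (fun a b h => h)
          rw [PrimeSpectrum.mem_zeroLocus, SetLike.coe_subset_coe]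
          exact q.2
        calc (l.length : WithBot ℕ∞) = ((l.length : ℕ∞) : WithBot ℕ∞) := rfl
          _ ≤ ((Order.coheight l.head : ℕ∞) : WithBot ℕ∞) := WithBot.coe_le_coe.mpr h2
          _ = _ := h3
          _ ≤ _ := h4
      have h7 : (l.length : WithBot ℕ∞) < (e : WithBot ℕ∞) := by
        rw [he]
        exact lt_of_le_of_lt h1 hlt
      have h8 : (l.length : ℕ∞) < e := by exact_mod_cast h7
      exact (ENat.add_one_le_iff (ENat.coe_ne_top _)).mpr h8
    calc Module.supportDim A (QuotSMulTop x M) + 1
        = ((⨆ l : LTSeries (Module.support A (QuotSMulTop x M)), (l.length : ℕ∞) : ℕ∞) :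
          WithBot ℕ∞) + 1 := by rw [hd'eq]
      _ ≤ (e : WithBot ℕ∞) := by exact_mod_cast key
      _ = Module.supportDim A M := he

end Groth.Agent.S5767
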