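import Groth.Statements.S5771
import Groth.Agent.S5769

set_option autoImplicit false
universe u
open EGA41

namespace Groth.Agent.S5771

/-- Let φ : A → B be a local homomorphism of Noetherian local rings, m the maximal ideal of A, and
suppose mB is an ideal of definition of B (equivalently dim(B/mB) = 0). Then dim(B) ≤ dim(A); if
moreover A is an integral domain and dim(A) = dim(B), then φ is injective. -/
theorem result (A B : Type u) [CommRing A] [CommRing B]
    [IsLocalRing A] [IsLocalRing B] [IsNoetherianRing A] [IsNoetherianRing B] [Algebra A B]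
    [IsLocalHom (algebraMap A B)]
    (hdef : ringKrullDim (B ⧸ (IsLocalRing.maximalIdeal A).map (algebraMap A B)) = 0) :
    ringKrullDim B ≤ ringKrullDim A ∧
      (IsDomain A → ringKrullDim A = ringKrullDim B → Function.Injective (algebraMap A B)) := by
  constructor
  · have h := Groth.Agent.S5769.result A B
    rw [hdef, add_zero] at h
    exact h
  · intro hdom hdim
    rw [injective_iff_map_eq_zero]
    intro a ha
    by_contra hne
    have hnzd : a ∈ nonZeroDivisors A := mem_nonZeroDivisors_of_ne_zero hne
    have hle := ringKrullDim_quotient_succ_le_of_nonZeroDivisor hnzd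
    have hnu : ¬ IsUnit a := fun hu => by
      have := hu.map (algebraMap A B); rw [ha] at this; exact not_isUnit_zero this
    have hproper : Ideal.span {a} ≠ ⊤ := by rwa [Ne, Ideal.span_singleton_eq_top]
    haveI : Nontrivial (A ⧸ Ideal.span {a}) := Ideal.Quotient.nontrivial_iff.2 hproper
    haveI : IsLocalRing (A ⧸ Ideal.span {a}) :=
      IsLocalRing.of_surjective' (Ideal.Quotient.mk _) Ideal.Quotient.mk_surjective
    letI : Algebra (A ⧸ Ideal.span {a}) B :=
      (Ideal.Quotient.lift (Ideal.span {a}) (algebraMap A B) (by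
        intro x hx
        obtain ⟨c, rfl⟩ := Ideal.mem_span_singleton'.1 hx
        rw [map_mul, ha, mul_zero])).toAlgebra
    have hcomp : (algebraMap (A ⧸ Ideal.span {a}) B).comp (Ideal.Quotient.mk (Ideal.span {a})) =
        algebraMap A B := Ideal.Quotient.lift_comp_mk _ _ _
    haveI : IsLocalHom (algebraMap (A ⧸ Ideal.span {a}) B) := by
      constructor
      intro x hx
      obtain ⟨y, rfl⟩ := Ideal.Quotient.mk_surjective x
      have : IsUnit (algebraMap A B y) := hx
      exact (isUnit_of_map_unit (algebraMap A B) y this).map _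
    have hmax' : ((IsLocalRing.maximalIdeal A).map (Ideal.Quotient.mk (Ideal.span {a}))).IsMaximal :=
      Ideal.IsMaximal.map_of_surjective_of_ker_le Ideal.Quotient.mk_surjective (by
        rw [Ideal.mk_ker]; exact IsLocalRing.le_maximalIdeal hproper)
    have hmap : (IsLocalRing.maximalIdeal (A ⧸ Ideal.span {a})).map
        (algebraMap (A ⧸ Ideal.span {a}) B) = (IsLocalRing.maximalIdeal A).map (algebraMap A B) := by
      rw [← IsLocalRing.eq_maximalIdeal hmax', Ideal.map_map, hcomp]
    have h5 := Groth.Agent.S5769.result (A ⧸ Ideal.span {a}) B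
    have hdef' : ringKrullDim (B ⧸ (IsLocalRing.maximalIdeal (A ⧸ Ideal.span {a})).map
        (algebraMap (A ⧸ Ideal.span {a}) B)) = 0 := by
      rw [← hdef]
      exact ringKrullDim_eq_of_ringEquiv (Ideal.quotEquivOfEq hmap)
    rw [hdef', add_zero, ← hdim] at h5
    have h6 : ringKrullDim (A ⧸ Ideal.span {a}) + 1 ≤ ringKrullDim (A ⧸ Ideal.span {a}) :=
      hle.trans h5
    rw [← IsLocalRing.maximalIdeal_height_eq_ringKrullDim] at h6
    have hfin : (IsLocalRing.maximalIdeal (A ⧸ Ideal.span {a})).height ≠ ⊤ :=
      Ideal.height_ne_top_of_isPrime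
    have h7 : (IsLocalRing.maximalIdeal (A ⧸ Ideal.span {a})).height + 1 ≤
        (IsLocalRing.maximalIdeal (A ⧸ Ideal.span {a})).height := by exact_mod_cast h6
    rw [ENat.add_one_le_iff hfin] at h7
    exact lt_irrefl _ h7

end Groth.Agent.S5771
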