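import Groth.Statements.S5774
import Mathlib
import Groth.Agent.Lib.helper3.RegFlat

set_option autoImplicit false
universe u
open EGA41

namespace Groth.Agent.S5774

/-- Let A → B be a local homomorphism of Noetherian local rings, m the maximal ideal of A and k = A/m, M
a finitely generated B-module which is flat over A, and f_1, ..., f_n elements of B whose images g_i
in B ⊗_A k form an (M ⊗_A k)-regular sequence. Then (f_i) is an M-regular sequence and the quotients
M/(f_1 M + ... + f_i M), 0 ≤ i ≤ n, are flat over A. (The f_i are not required to lie in the maximal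
ideal of B.) -/
theorem result (A B : Type u) [CommRing A] [CommRing B]
    [IsLocalRing A] [IsLocalRing B] [IsNoetherianRing A] [IsNoetherianRing B] [Algebra A B]
    [IsLocalHom (algebraMap A B)] (M : Type u) [AddCommGroup M] [Module B M] [Module A M]
    [IsScalarTower A B M] [Module.Finite B M] [Module.Flat A M] (fs : List B)
    (hreg : RingTheory.Sequence.IsWeaklyRegular
      (M ⧸ ((IsLocalRing.maximalIdeal A).map (algebraMap A B) • (⊤ : Submodule B M))) fs) :
    RingTheory.Sequence.IsWeaklyRegular M fs ∧
      ∀ i ≤ fs.length, Module.Flat A (M ⧸ (Ideal.ofList (fs.take i) • (⊤ : Submodule B M))) := by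
  classical
  have hinj : ∀ i (hi : i < fs.length), ∀ m : M ⧸ (Ideal.ofList (fs.take i) • (⊤ : Submodule B M)),
      fs[i] • m ∈ ((IsLocalRing.maximalIdeal A).map (algebraMap A B)) •
        (⊤ : Submodule B (M ⧸ (Ideal.ofList (fs.take i) • (⊤ : Submodule B M)))) →
      m ∈ ((IsLocalRing.maximalIdeal A).map (algebraMap A B)) •
        (⊤ : Submodule B (M ⧸ (Ideal.ofList (fs.take i) • (⊤ : Submodule B M)))) := by
    intro i hi m hm
    exact H3RegFlat.inj_mod_of_regular _ _ _ (hreg.regular_mod_prev i hi) m hm
  have hF : ∀ i : ℕ, i ≤ fs.length →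
      Module.Flat A (M ⧸ (Ideal.ofList (fs.take i) • (⊤ : Submodule B M))) := by
    intro i
    induction i with
    | zero =>
      intro _
      have h0 : Ideal.ofList (fs.take 0) • (⊤ : Submodule B M) = ⊥ := by
        rw [List.take_zero, Ideal.ofList_nil, Submodule.bot_smul]
      exact Module.Flat.of_linearEquiv ((Submodule.quotEquivOfEqBot _ h0).restrictScalars A)
    | succ i ih =>
      intro hi
      haveI := ih (by omega)
      obtain ⟨hle, hex⟩ := H3RegFlat.exact_take (M := M) fs i (by omega)
      exact H3RegFlat.flat_quot_of_flat (B := B) (fs[i]) (hinj i (by omega))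
        ((Submodule.factor hle).restrictScalars A) (Submodule.factor_surjective hle) hex
  refine ⟨⟨fun i hi => ?_⟩, hF⟩
  haveI := hF i (le_of_lt hi)
  haveI := hF (i + 1) hi
  obtain ⟨hle, hex⟩ := H3RegFlat.exact_take (M := M) fs i hi
  exact H3RegFlat.regular_of_flat (A := A) (B := B) (fs[i]) (hinj i hi)
    ((Submodule.factor hle).restrictScalars A) (Submodule.factor_surjective hle) hex

end Groth.Agent.S5774
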