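import Groth.Statements.S5775
import Mathlib
import Groth.Agent.S5774
import Groth.Agent.Lib.helper3.RegFlat
import Groth.Agent.Lib.helper3.RegFlat3

set_option autoImplicit false
universe u
open EGA41

namespace Groth.Agent.S5775

/-- Let A → B be a local homomorphism of Noetherian local rings, m the maximal ideal of A, M a finitely
generated B-module flat over A and R a B-submodule of M such that M/R is flat over A. Let f_1, ...,
f_n be elements of the maximal ideal of B such that (i) f_i M ⊆ R for all i, (ii) the images of the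
f_i form an (M/mM)-regular sequence, and (iii) the submodule f_1 (M/mM) + ... + f_n (M/mM) is the
image of R in M/mM. Then (f_i) is an M-regular sequence and R = f_1 M + ... + f_n M. -/
theorem result (A B : Type u) [CommRing A] [CommRing B] [IsLocalRing A]
    [IsLocalRing B] [IsNoetherianRing A] [IsNoetherianRing B] [Algebra A B] [IsLocalHom (algebraMap A B)]
    (M : Type u) [AddCommGroup M] [Module B M] [Module A M] [IsScalarTower A B M] [Module.Finite B M]
    [Module.Flat A M] (R : Submodule B M) (hR : Module.Flat A (M ⧸ R)) (fs : List B)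
    (hfs : ∀ f ∈ fs, f ∈ IsLocalRing.maximalIdeal B) (h1 : Ideal.ofList fs • (⊤ : Submodule B M) ≤ R)
    (h2 : RingTheory.Sequence.IsWeaklyRegular
      (M ⧸ ((IsLocalRing.maximalIdeal A).map (algebraMap A B) • (⊤ : Submodule B M))) fs)
    (h3 : Ideal.ofList fs • (⊤ : Submodule B
        (M ⧸ ((IsLocalRing.maximalIdeal A).map (algebraMap A B) • (⊤ : Submodule B M)))) =
      R.map ((IsLocalRing.maximalIdeal A).map (algebraMap A B) • (⊤ : Submodule B M)).mkQ) :
    RingTheory.Sequence.IsWeaklyRegular M fs ∧ R = Ideal.ofList fs • (⊤ : Submodule B M) := by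
  classical
  obtain ⟨hreg, -⟩ := Groth.Agent.S5774.result A B M fs h2
  refine ⟨hreg, ?_⟩
  refine le_antisymm ?_ h1
  haveI : IsNoetherian B M := isNoetherian_of_isNoetherianRing_of_finite B M
  haveI : Module.Flat A (M ⧸ R.restrictScalars A) :=
    Module.Flat.of_linearEquiv (Submodule.Quotient.restrictScalarsEquiv A R)
  set 𝔪B : Ideal B := (IsLocalRing.maximalIdeal A).map (algebraMap A B) with h𝔪B
  set R' : Submodule B M := Ideal.ofList fs • (⊤ : Submodule B M) with hR'
  set K : Submodule B (M ⧸ R') := R.map R'.mkQ with hKdef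
  have hK : K = ⊥ := by
    apply Submodule.eq_bot_of_le_smul_of_le_jacobson_bot 𝔪B K (IsNoetherian.noetherian K)
    · rintro _ ⟨r, hr, rfl⟩
      have h4 : ((𝔪B • (⊤ : Submodule B M)).mkQ r) ∈
          Ideal.ofList fs • (⊤ : Submodule B (M ⧸ (𝔪B • (⊤ : Submodule B M)))) := by
        rw [h3]
        exact Submodule.mem_map_of_mem hr
      rw [Submodule.mkQ_apply, H3RegFlat.mk_mem_smul_top_iff] at h4
      obtain ⟨r', hr', z, hz, rfl⟩ := Submodule.mem_sup.1 h4
      have hzR : z ∈ R := by
        have := R.sub_mem hr (h1 hr')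
        simpa using this
      have h5 : R'.mkQ (r' + z) = R'.mkQ z := by
        rw [map_add, Submodule.mkQ_apply, (Submodule.Quotient.mk_eq_zero _).2 hr', zero_add]
      rw [h5]
      have hz' : (⟨z, hzR⟩ : R.restrictScalars A) ∈
          (IsLocalRing.maximalIdeal A) • (⊤ : Submodule A (R.restrictScalars A)) := by
        apply H3RegFlat.mem_smul_top_of_flat_quot
        rw [H3RegFlat.mem_smul_top_iff (B := B)]
        exact hz
      have h6 : ∀ y ∈ (IsLocalRing.maximalIdeal A) • (⊤ : Submodule A (R.restrictScalars A)),
          R'.mkQ (y : M) ∈ 𝔪B • K := by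
        intro y hy
        refine Submodule.smul_induction_on hy ?_ ?_
        · intro a ha y' _
          rw [Submodule.coe_smul, ← algebraMap_smul B a (y' : M), map_smul]
          exact Submodule.smul_mem_smul (Ideal.mem_map_of_mem _ ha)
            (Submodule.mem_map_of_mem y'.2)
        · intro y1 y2 h1 h2
          rw [Submodule.coe_add, map_add]
          exact add_mem h1 h2
      exact h6 _ hz'
    · exact Helper1.map_le_jacobson_of_isLocalHom _ (IsLocalRing.maximalIdeal.isMaximal A).ne_top
  intro r hr
  have h7 : R'.mkQ r ∈ K := Submodule.mem_map_of_mem hr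
  rw [hK, Submodule.mem_bot, Submodule.mkQ_apply, Submodule.Quotient.mk_eq_zero] at h7
  exact h7

end Groth.Agent.S5775
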