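import Groth.Statements.S5777
import Mathlib
import Groth.Agent.Lib.helper3.RegFlat2

set_option autoImplicit false
universe u
open EGA41

namespace Groth.Agent.S5777

/-- Let φ : A → B be a local homomorphism of Noetherian local rings, M a finitely generated B-module and
(f_i)_{1 ≤ i ≤ n} an A-regular sequence of elements of the maximal ideal of A, generating the ideal
J. Then M is flat over A if and only if M/JM is flat over A/J and (f_i) is an M-regular sequence. -/
theorem result (A B : Type u) [CommRing A] [CommRing B]
    [IsLocalRing A] [IsLocalRing B] [IsNoetherianRing A] [IsNoetherianRing B] [Algebra A B]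
    [IsLocalHom (algebraMap A B)] (M : Type u) [AddCommGroup M] [Module B M] [Module A M]
    [IsScalarTower A B M] [Module.Finite B M] (fs : List A) (hfs : ∀ f ∈ fs, f ∈ IsLocalRing.maximalIdeal A)
    (hA : RingTheory.Sequence.IsWeaklyRegular A fs) :
    Module.Flat A M ↔
      Module.Flat (A ⧸ Ideal.ofList fs) (M ⧸ (Ideal.ofList fs • (⊤ : Submodule A M))) ∧
        RingTheory.Sequence.IsWeaklyRegular M fs := by
  classical
  have hJle : Ideal.ofList fs ≤ IsLocalRing.maximalIdeal A :=
    Ideal.span_le.2 (fun f hf => hfs f hf)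
  have hne : Ideal.ofList fs ≠ ⊤ := fun h =>
    (IsLocalRing.maximalIdeal.isMaximal A).ne_top (top_le_iff.1 (h ▸ hJle))
  constructor
  · intro hflat
    refine ⟨?_, H3RegFlat.isWeaklyRegular_of_flat fs hA⟩
    exact Module.Flat.of_linearEquiv (H3RegFlat.quotTensorEquiv (M := M) (Ideal.ofList fs)).symm
  · rintro ⟨hq, hM⟩
    have hT := H3RegFlat.tor1Zero_take fs hM fs.length le_rfl
    rw [List.take_length, H3RegFlat.ideal_smul_top] at hT
    have h1 : Function.Injective ((Ideal.ofList fs).subtype.rTensor M) :=
      hT (Ideal.ofList fs) A (Ideal.ofList fs).subtype (Ideal.ofList fs).mkQ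
        Subtype.val_injective (Submodule.mkQ_surjective _) (LinearMap.exact_subtype_mkQ _)
    haveI : Module.Flat (A ⧸ Ideal.ofList fs) (TensorProduct A (A ⧸ Ideal.ofList fs) M) :=
      Module.Flat.of_linearEquiv (H3RegFlat.quotTensorEquiv (M := M) (Ideal.ofList fs))
    exact Helper1.flat_of_localCriterion_of_finite (R := A) (S := B) (Ideal.ofList fs)
      (Helper1.map_le_jacobson_of_isLocalHom _ hne) h1

end Groth.Agent.S5777
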