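import Groth.Statements.S5780
import Mathlib

set_option autoImplicit false
universe u
open EGA41

namespace Groth.Agent.S5780

/-- Let A be a Noetherian local ring with maximal ideal m. If every element of m which is not in m² is a
zero divisor in A, then there is a nonzero c in A with c m = 0, i.e. m is an associated prime of A. -/
theorem result (A : Type u) [CommRing A]
    [IsLocalRing A] [IsNoetherianRing A]
    (h : ∀ a ∈ IsLocalRing.maximalIdeal A, a ∉ IsLocalRing.maximalIdeal A ^ 2 → ¬ IsSMulRegular A a) :
    IsLocalRing.maximalIdeal A ∈ associatedPrimes A A := by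
  classical
  have hfin : (associatedPrimes A A).Finite := associatedPrimes.finite A A
  have hsub : ((IsLocalRing.maximalIdeal A : Ideal A) : Set A) ⊆
      ⋃ i ∈ ((insert (IsLocalRing.maximalIdeal A ^ 2) hfin.toFinset : Finset (Ideal A)) :
        Set (Ideal A)), ((id i : Ideal A) : Set A) := by
    intro a ha
    by_cases ha2 : a ∈ IsLocalRing.maximalIdeal A ^ 2
    · exact Set.mem_biUnion (by simp) ha2
    · have hnr := h a ha ha2
      have hz : a ∈ ⋃ p ∈ associatedPrimes A A, (p : Set A) := by
        rw [biUnion_associatedPrimes_eq_zero_divisors]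
        unfold IsSMulRegular at hnr
        rw [Function.Injective] at hnr
        push_neg at hnr
        obtain ⟨x, y, hxy, hne⟩ := hnr
        refine ⟨x - y, sub_ne_zero.2 hne, ?_⟩
        rw [smul_sub]; exact sub_eq_zero.2 hxy
      obtain ⟨p, hp, hap⟩ := Set.mem_iUnion₂.1 hz
      exact Set.mem_biUnion (by simp [hp]) hap
  obtain ⟨i, hi, hmi⟩ := (Ideal.subset_union_prime (f := id) (IsLocalRing.maximalIdeal A ^ 2)
    (IsLocalRing.maximalIdeal A ^ 2) (by
    intro i hi hne _
    rw [Finset.mem_insert] at hi
    rcases hi with rfl | hi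
    · exact absurd rfl hne
    · exact ((hfin.mem_toFinset).1 hi).isPrime)).1 hsub
  rw [Finset.mem_insert] at hi
  rcases hi with rfl | hi
  · have hbot : IsLocalRing.maximalIdeal A = ⊥ := by
      apply Submodule.eq_bot_of_le_smul_of_le_jacobson_bot (IsLocalRing.maximalIdeal A) _
        (IsNoetherian.noetherian _)
      · rw [smul_eq_mul, ← pow_two]; exact hmi
      · rw [IsLocalRing.jacobson_eq_maximalIdeal ⊥ bot_ne_top]
    obtain ⟨p, hp⟩ := associatedPrimes.nonempty A A
    have hp' : p.IsPrime := hp.isPrime
    have : p = IsLocalRing.maximalIdeal A := by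
      rw [hbot]; exact le_bot_iff.1 (hbot ▸ IsLocalRing.le_maximalIdeal hp'.ne_top)
    rw [← this]; exact hp
  · have hi' := (hfin.mem_toFinset).1 hi
    have hp' : i.IsPrime := hi'.isPrime
    have : i = IsLocalRing.maximalIdeal A :=
      le_antisymm (IsLocalRing.le_maximalIdeal hp'.ne_top) hmi
    rw [← this]; exact hi'

end Groth.Agent.S5780
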