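import Groth.Statements.S5781
import Mathlib

set_option autoImplicit false
universe u
open EGA41

 open IsLocalRing Pointwise
namespace Groth.Agent.S5781

/-- Suppose A is a Noetherian local ring whose maximal ideal is m, and take a ∈ m with a ∉ m². Then the
quotient m/am contains a direct summand isomorphic to m/Aa: concretely, one can find A-linear maps f
: m/Aa → m/am and g : m/am → m/Aa such that g ∘ f is the identity. -/
theorem result (A : Type u) [CommRing A] [IsLocalRing A]
    [IsNoetherianRing A] (a : A) (ha : a ∈ IsLocalRing.maximalIdeal A) (ha2 : a ∉ IsLocalRing.maximalIdeal A ^ 2) :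
    ∃ (f : (↥(IsLocalRing.maximalIdeal A) ⧸ Submodule.span A {(⟨a, ha⟩ : ↥(IsLocalRing.maximalIdeal A))}) →ₗ[A]
          QuotSMulTop a ↥(IsLocalRing.maximalIdeal A))
      (g : QuotSMulTop a ↥(IsLocalRing.maximalIdeal A) →ₗ[A]
          (↥(IsLocalRing.maximalIdeal A) ⧸ Submodule.span A {(⟨a, ha⟩ : ↥(IsLocalRing.maximalIdeal A))})),
      g.comp f = LinearMap.id := by
  classical
  let a' : ↥(maximalIdeal A) := ⟨a, ha⟩
  have hane : (maximalIdeal A).toCotangent a' ≠ 0 := by
    rw [Ne, Ideal.toCotangent_eq_zero]; exact ha2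
  let abar : CotangentSpace A := (maximalIdeal A).toCotangent a'
  let ψ₀ : ResidueField A →ₗ[ResidueField A] CotangentSpace A :=
    LinearMap.toSpanSingleton (ResidueField A) (CotangentSpace A) abar
  have hψ₀ : LinearMap.ker ψ₀ = ⊥ := LinearMap.ker_toSpanSingleton _ hane
  obtain ⟨φ, hφ⟩ := ψ₀.exists_leftInverse_of_injective hψ₀
  have hφa : φ abar = 1 := by
    have := LinearMap.congr_fun hφ 1
    simpa [ψ₀] using this
  let φ' : ↥(maximalIdeal A) →ₗ[A] ResidueField A :=
    (φ.restrictScalars A).comp (maximalIdeal A).toCotangent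
  have hφ'a : φ' a' = 1 := hφa
  let abar2 : QuotSMulTop a ↥(maximalIdeal A) := Submodule.Quotient.mk a'
  have hkill : ∀ c ∈ maximalIdeal A, c • abar2 = 0 := by
    intro c hc
    show c • (Submodule.Quotient.mk a' : QuotSMulTop a ↥(maximalIdeal A)) = 0
    rw [← Submodule.Quotient.mk_smul, Submodule.Quotient.mk_eq_zero,
      Submodule.mem_smul_pointwise_iff_exists]
    exact ⟨⟨c, hc⟩, trivial, Subtype.ext (by simp [a', mul_comm])⟩
  let ι : ResidueField A →ₗ[A] QuotSMulTop a ↥(maximalIdeal A) :=
    Submodule.liftQ (maximalIdeal A)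
      (LinearMap.toSpanSingleton A (QuotSMulTop a ↥(maximalIdeal A)) abar2) (by
        intro c hc
        rw [LinearMap.mem_ker, LinearMap.toSpanSingleton_apply]
        exact hkill c hc)
  have hι1 : ι 1 = abar2 := by
    have h0 : ι (Submodule.Quotient.mk (1 : A)) =
        (LinearMap.toSpanSingleton A (QuotSMulTop a ↥(maximalIdeal A)) abar2) 1 :=
      Submodule.liftQ_apply _ _ _
    rw [LinearMap.toSpanSingleton_apply, one_smul] at h0
    exact h0
  let ψ : ↥(maximalIdeal A) →ₗ[A] QuotSMulTop a ↥(maximalIdeal A) :=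
    (a • (⊤ : Submodule A ↥(maximalIdeal A))).mkQ - ι.comp φ'
  have hψa : ψ a' = 0 := by
    show (Submodule.Quotient.mk a' : QuotSMulTop a ↥(maximalIdeal A)) - ι (φ' a') = 0
    rw [hφ'a, hι1, sub_self]
  let f : (↥(maximalIdeal A) ⧸ Submodule.span A {a'}) →ₗ[A] QuotSMulTop a ↥(maximalIdeal A) :=
    Submodule.liftQ _ ψ (by
      rw [Submodule.span_le, Set.singleton_subset_iff]
      exact hψa)
  let g : QuotSMulTop a ↥(maximalIdeal A) →ₗ[A] (↥(maximalIdeal A) ⧸ Submodule.span A {a'}) :=
    Submodule.liftQ _ (Submodule.span A {a'}).mkQ (by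
      intro x hx
      rw [Submodule.mem_smul_pointwise_iff_exists] at hx
      obtain ⟨y, -, rfl⟩ := hx
      rw [Submodule.ker_mkQ]
      have : a • y = (y : A) • a' := Subtype.ext (by simp [a', mul_comm])
      rw [this]
      exact Submodule.smul_mem _ _ (Submodule.mem_span_singleton_self a'))
  have hgι : g.comp ι = 0 := by
    apply Submodule.linearMap_qext
    ext
    simp only [LinearMap.comp_apply, Submodule.mkQ_apply, LinearMap.zero_apply]
    show g (ι (Submodule.Quotient.mk (1 : A))) = 0
    have : ι (Submodule.Quotient.mk (1 : A)) = abar2 := hι1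
    rw [this]
    show (Submodule.span A {a'}).mkQ a' = 0
    rw [Submodule.mkQ_apply, Submodule.Quotient.mk_eq_zero]
    exact Submodule.mem_span_singleton_self a'
  refine ⟨f, g, ?_⟩
  apply Submodule.linearMap_qext
  ext x
  show g (ψ x) = Submodule.Quotient.mk x
  have h1 : ψ x = Submodule.Quotient.mk x - ι (φ' x) := rfl
  rw [h1, map_sub]
  have h2 : g (ι (φ' x)) = 0 := LinearMap.congr_fun hgι (φ' x)
  rw [h2, sub_zero]
  rfl

end Groth.Agent.S5781
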