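import Groth.Statements.S5793
import Groth.Agent.Lib.helper3.TopDim

set_option autoImplicit false
universe u
open TopDim

namespace Groth.Agent.S5793

/-- Let X be a Noetherian Kolmogoroff space. Then dim(X) = sup dim_x(X), the supremum being over the
closed points x of X only. -/
theorem result (X : Type u) [TopologicalSpace X]
    [TopologicalSpace.NoetherianSpace X] [T0Space X] :
    topologicalKrullDim X = ⨆ x ∈ {x : X | IsClosed ({x} : Set X)}, FlatMor.localDim X x := by
  apply le_antisymm
  · show Order.krullDim (TopologicalSpace.IrreducibleCloseds X) ≤ _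
    rw [Order.krullDim_eq_iSup_coheight]
    refine iSup_le (fun W => ?_)
    obtain ⟨x, hxW, hxc⟩ := IsClosed.exists_closed_singleton W.isClosed W.isIrreducible.nonempty
    exact le_trans (Groth.Agent.Lib.helper3.TopDim.coheight_le_localDim W x hxW)
      (le_iSup₂ (f := fun x (_ : x ∈ {x : X | IsClosed ({x} : Set X)}) => FlatMor.localDim X x) x hxc)
  · exact iSup₂_le (fun x _ => Groth.Agent.Lib.helper3.TopDim.localDim_le_dim X x)

end Groth.Agent.S5793
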