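import Groth.Statements.S5794
import Groth.Agent.Lib.helper3.TopDim

set_option autoImplicit false
universe u
open TopDim

namespace Groth.Agent.S5794

/-- Let X be a nonempty Noetherian Kolmogoroff space. Then dim(X) = 0 if and only if X is finite and
discrete. -/
theorem result (X : Type u) [TopologicalSpace X]
    [TopologicalSpace.NoetherianSpace X] [T0Space X] [Nonempty X] :
    topologicalKrullDim X = 0 ↔ Finite X ∧ DiscreteTopology X := by
  have hne : Nonempty (TopologicalSpace.IrreducibleCloseds X) := by
    obtain ⟨x⟩ := ‹Nonempty X›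
    exact ⟨⟨closure {x}, isIrreducible_singleton.closure, isClosed_closure⟩⟩
  constructor
  · intro h0
    have hle : Order.krullDim (TopologicalSpace.IrreducibleCloseds X) ≤ 0 := le_of_eq h0
    rw [Order.krullDim_nonpos_iff_forall_isMax] at hle
    have hpt : ∀ x : X, IsClosed ({x} : Set X) := by
      intro x
      obtain ⟨y, hy, hyc⟩ := IsClosed.exists_closed_singleton (isClosed_closure (s := {x}))
        ⟨x, subset_closure rfl⟩
      let Ay : TopologicalSpace.IrreducibleCloseds X := ⟨{y}, isIrreducible_singleton, hyc⟩
      let Zx : TopologicalSpace.IrreducibleCloseds X :=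
        ⟨closure {x}, isIrreducible_singleton.closure, isClosed_closure⟩
      have h1 : Ay ≤ Zx := by
        rw [← SetLike.coe_subset_coe]; intro z hz; rw [Set.mem_singleton_iff.1 hz]; exact hy
      have h2 : Zx ≤ Ay := hle Ay h1
      have : x ∈ ({y} : Set X) := (SetLike.coe_subset_coe.2 h2) (subset_closure rfl)
      rw [Set.mem_singleton_iff.1 this]; exact hyc
    haveI : T1Space X := ⟨hpt⟩
    have hfin : Finite X := by
      rw [← Set.finite_univ_iff, ← sUnion_irreducibleComponents]
      apply Set.Finite.sUnion TopologicalSpace.NoetherianSpace.finite_irreducibleComponents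
      intro Z hZ
      obtain ⟨x, hx⟩ := hZ.1.nonempty
      let Ax : TopologicalSpace.IrreducibleCloseds X := ⟨{x}, isIrreducible_singleton, hpt x⟩
      let AZ : TopologicalSpace.IrreducibleCloseds X :=
        ⟨Z, hZ.1, isClosed_of_mem_irreducibleComponents Z hZ⟩
      have h1 : Ax ≤ AZ := by
        rw [← SetLike.coe_subset_coe]; intro z hz; rw [Set.mem_singleton_iff.1 hz]; exact hx
      have h2 : AZ ≤ Ax := hle Ax h1
      exact (Set.finite_singleton x).subset (SetLike.coe_subset_coe.2 h2)
    exact ⟨hfin, inferInstance⟩
  · rintro ⟨hfin, hdisc⟩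
    apply le_antisymm (topologicalKrullDim_zero_of_discreteTopology X)
    exact Order.krullDim_nonneg

end Groth.Agent.S5794
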