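import Groth.Statements.S5795
import Groth.Agent.Lib.helper3.TopDim
import Groth.Agent.S5794

set_option autoImplicit false
universe u
open TopDim

namespace Groth.Agent.S5795

/-- Let X be a Noetherian Kolmogoroff space and x a point of X. Then x is isolated in X if and only if
dim_x(X) = 0. -/
theorem result (X : Type u) [TopologicalSpace X]
    [TopologicalSpace.NoetherianSpace X] [T0Space X] (x : X) :
    IsOpen ({x} : Set X) ↔ FlatMor.localDim X x = 0 := by
  constructor
  · intro ho
    apply le_antisymm
    · unfold FlatMor.localDim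
      refine le_trans (iInf_le (fun U : {U : TopologicalSpace.Opens X // x ∈ U} =>
        topologicalKrullDim (U.1 : Set X)) ⟨⟨{x}, ho⟩, rfl⟩) ?_
      haveI : DiscreteTopology (((⟨{x}, ho⟩ : TopologicalSpace.Opens X) : Set X)) := by
        haveI : Subsingleton ↥(((⟨{x}, ho⟩ : TopologicalSpace.Opens X) : Set X)) :=
          ⟨fun a b => Subtype.ext (a.2.trans b.2.symm)⟩
        infer_instance
      exact topologicalKrullDim_zero_of_discreteTopology _
    · unfold FlatMor.localDim
      refine le_iInf (fun U => ?_)
      haveI : Nonempty (TopologicalSpace.IrreducibleCloseds (U.1 : Set X)) :=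
        ⟨⟨closure {⟨x, U.2⟩}, isIrreducible_singleton.closure, isClosed_closure⟩⟩
      exact Order.krullDim_nonneg
  · intro h0
    obtain ⟨U, hxU, hU⟩ := Groth.Agent.Lib.helper3.TopDim.exists_opens_dim_eq x
    rw [h0] at hU
    haveI : Nonempty (U : Set X) := ⟨⟨x, hxU⟩⟩
    obtain ⟨_, hdisc⟩ := (Groth.Agent.S5794.result (U : Set X)).1 hU
    have : IsOpen ((Subtype.val : ↥(U : Set X) → X) '' {⟨x, hxU⟩}) :=
      U.isOpen.isOpenMap_subtype_val _ (isOpen_discrete _)
    simpa using this

end Groth.Agent.S5795
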