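import Groth.Statements.S5799
import Groth.Agent.Lib.helper3.TopDim

set_option autoImplicit false
universe u
open TopDim

namespace Groth.Agent.S5799

/-- If (X_i) is a locally finite covering of a topological space X by closed subsets, then dim(X) =
sup_i dim(X_i). -/
theorem result (X : Type u) [TopologicalSpace X]
    (ι : Type u) (Y : ι → Set X) (hY : ∀ i, IsClosed (Y i)) (hlf : LocallyFinite Y) (hcov : ⋃ i, Y i = Set.univ) :
    topologicalKrullDim X = ⨆ i, topologicalKrullDim (Y i) := by
  apply le_antisymm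
  · show Order.krullDim (TopologicalSpace.IrreducibleCloseds X) ≤ _
    rw [Order.krullDim_eq_iSup_coheight]
    refine iSup_le (fun W => ?_)
    obtain ⟨x, hx⟩ := W.isIrreducible.nonempty
    obtain ⟨t, ht, hfin⟩ := hlf x
    obtain ⟨U, hUt, hUo, hxU⟩ := mem_nhds_iff.1 ht
    have hfin' : {i | (Y i ∩ U).Nonempty}.Finite :=
      hfin.subset (fun i hi => hi.mono (Set.inter_subset_inter_right _ hUt))
    refine le_trans (Groth.Agent.Lib.helper3.TopDim.coheight_le_dim_open U hUo W ⟨x, hx, hxU⟩) ?_
    haveI : Finite {i // (Y i ∩ U).Nonempty} := hfin'.to_subtype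
    apply Groth.Agent.Lib.helper3.TopDim.dim_le_of_finite_closed_cover
      (fun j : {i // (Y i ∩ U).Nonempty} => (Subtype.val : U → X) ⁻¹' (Y j.1))
    · intro j; exact (hY j.1).preimage continuous_subtype_val
    · ext u
      simp only [Set.mem_iUnion, Set.mem_preimage, Set.mem_univ, iff_true]
      have : (u : X) ∈ ⋃ i, Y i := by rw [hcov]; trivial
      obtain ⟨i, hi⟩ := Set.mem_iUnion.1 this
      exact ⟨⟨i, ⟨u, hi, u.2⟩⟩, hi⟩
    · intro j
      exact le_trans (Groth.Agent.Lib.helper3.TopDim.dim_preimage_le U (Y j.1))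
        (le_iSup (fun i => topologicalKrullDim (Y i)) j.1)
  · exact iSup_le (fun i => topologicalKrullDim_subspace_le X _)

end Groth.Agent.S5799
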