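import Groth.Statements.S5800
import Groth.Agent.Lib.helper3.TopDim

set_option autoImplicit false
universe u
open TopDim

namespace Groth.Agent.S5800

/-- Let X be a topological space, x a point of X and (Y_i) a finite family of closed subsets each
containing x whose union is X. Then dim_x(X) = sup_i dim_x(Y_i). (The published statement lets the
Y_i be closed subsets of a neighbourhood U of x covering U; this row is the case U = X.) -/
theorem result (X : Type u) [TopologicalSpace X] (x : X)
    (ι : Type u) [Finite ι] (Y : ι → Set X) (hY : ∀ i, IsClosed (Y i)) (hx : ∀ i, x ∈ Y i)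
    (hcov : ⋃ i, Y i = Set.univ) :
    FlatMor.localDim X x = ⨆ i, FlatMor.localDim (Y i) ⟨x, hx i⟩ := by
  apply le_antisymm
  · have hV := fun i => Groth.Agent.Lib.helper3.TopDim.exists_opens_dim_eq (X := Y i) ⟨x, hx i⟩
    choose V hxV hV using hV
    have hU : ∀ i, ∃ U : Set X, IsOpen U ∧ (Subtype.val : Y i → X) ⁻¹' U = (V i : Set (Y i)) :=
      fun i => isOpen_induced_iff.1 (V i).isOpen
    choose U hUo hUV using hU
    let U₀ : TopologicalSpace.Opens X := ⟨⋂ i, U i, isOpen_iInter_of_finite hUo⟩
    have hxU₀ : x ∈ U₀ := by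
      show x ∈ ⋂ i, U i
      rw [Set.mem_iInter]; intro i
      have : (⟨x, hx i⟩ : Y i) ∈ (Subtype.val : Y i → X) ⁻¹' U i := by rw [hUV i]; exact hxV i
      exact this
    refine le_trans (iInf_le (fun U : {U : TopologicalSpace.Opens X // x ∈ U} =>
      topologicalKrullDim (U.1 : Set X)) ⟨U₀, hxU₀⟩) ?_
    apply Groth.Agent.Lib.helper3.TopDim.dim_le_of_finite_closed_cover
      (fun i => (Subtype.val : ↥(U₀ : Set X) → X) ⁻¹' (Y i))
    · intro i; exact (hY i).preimage continuous_subtype_val
    · ext u; simp only [Set.mem_iUnion, Set.mem_preimage, Set.mem_univ, iff_true]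
      have : (u : X) ∈ ⋃ i, Y i := by rw [hcov]; trivial
      exact Set.mem_iUnion.1 this
    · intro i
      refine le_trans ?_ (le_iSup (fun i => FlatMor.localDim (Y i) ⟨x, hx i⟩) i)
      rw [← hV i]
      let g : ((Subtype.val : ↥(U₀ : Set X) → X) ⁻¹' (Y i)) → ((V i : Set (Y i))) :=
        fun y => ⟨⟨(y.1 : X), y.2⟩, by
          have : (⟨(y.1 : X), y.2⟩ : Y i) ∈ (Subtype.val : Y i → X) ⁻¹' U i :=
            (Set.mem_iInter.1 y.1.2 i)
          rw [hUV i] at this; exact this⟩
      have hg : Continuous g := Continuous.subtype_mk (Continuous.subtype_mk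
        (continuous_subtype_val.comp continuous_subtype_val) _) _
      exact Groth.Agent.Lib.helper3.TopDim.dim_le_of_val_eq
        (fun y : ((Subtype.val : ↥(U₀ : Set X) → X) ⁻¹' (Y i)) => ((y.1 : (U₀ : Set X)) : X))
        (fun y : ((V i : Set (Y i))) => ((y.1 : Y i) : X))
        (Topology.IsInducing.subtypeVal.comp Topology.IsInducing.subtypeVal)
        (continuous_subtype_val.comp continuous_subtype_val) g hg (fun y => rfl)
  · refine iSup_le (fun i => ?_)
    unfold FlatMor.localDim
    refine le_iInf (fun U => ?_)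
    refine le_trans (iInf_le (fun V : {V : TopologicalSpace.Opens (Y i) // (⟨x, hx i⟩ : Y i) ∈ V} =>
      topologicalKrullDim (V.1 : Set (Y i)))
      ⟨⟨(Subtype.val : Y i → X) ⁻¹' U.1, U.1.isOpen.preimage continuous_subtype_val⟩, U.2⟩) ?_
    exact Groth.Agent.Lib.helper3.TopDim.dim_preimage_le (Y i) (U.1 : Set X)

end Groth.Agent.S5800
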