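import Groth.Statements.S5806
import Mathlib

set_option autoImplicit false
universe u
open EGA41

namespace Groth.Agent.S5806

open TensorProduct in
/-- Let A be a ring, B a commutative A-algebra, (f_i)_{1 ≤ i ≤ n} elements of B and M a B-module.
Suppose (f_i) is M-regular and each of the A-modules M/(f_1 M + ... + f_i M), 0 ≤ i ≤ n, is flat.
Then for every ring homomorphism A → A', writing M' = M ⊗_A A' and f'_i = f_i ⊗ 1, the sequence
(f'_i) is M'-regular and the A'-modules M'/(f'_1 M' + ... + f'_{i-1} M') are flat: concretely,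
identifying M'/(f'_1 M' + ... + f'_{i-1} M') with A' ⊗_A (M/(f_1 M + ... + f_{i-1} M)),
multiplication by f_i on the latter is injective and the latter is A'-flat, for 1 ≤ i ≤ n. (The
published hypothesis lists only the flatness of M/(f_1 M + ... + f_{i-1} M) for 1 ≤ i ≤ n, omitting
M/(f_1 M + ... + f_n M); with that omission the case n = 1, A = B = k[t], M = k[t], f_1 = t, A' =
k[t]/(t) fails, since t acts as zero on k ⊗_A M = k, and the published proof uses the flatness of
M/(f_1 M + ... + f_i M) for every i ≤ n; so flatness of all these quotients is assumed here.) -/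
theorem result (A B : Type u) [CommRing A]
    [CommRing B] [Algebra A B] (M : Type u) [AddCommGroup M] [Module B M] [Module A M] [IsScalarTower A B M]
    (fs : List B) (hreg : RingTheory.Sequence.IsWeaklyRegular M fs)
    (hflat : ∀ i : ℕ, i ≤ fs.length → Module.Flat A (M ⧸ (Ideal.ofList (fs.take i) • (⊤ : Submodule B M))))
    (A' : Type u) [CommRing A'] [Algebra A A'] (i : Fin fs.length) :
    Function.Injective (LinearMap.lTensor A'
        (((LinearMap.lsmul B (M ⧸ (Ideal.ofList (fs.take i) • (⊤ : Submodule B M)))) (fs.get i)).restrictScalars A)) ∧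
      Module.Flat A' (A' ⊗[A] (M ⧸ (Ideal.ofList (fs.take i) • (⊤ : Submodule B M)))) := by
  classical
  set i' : ℕ := (i : ℕ) with hi'
  have hi : i' < fs.length := i.2
  have hget : fs.get i = fs[i'] := by simp [hi']
  set Ni : Submodule B M := Ideal.ofList (fs.take i') • (⊤ : Submodule B M) with hNi
  set Ni1 : Submodule B M := Ideal.ofList (fs.take (i' + 1)) • (⊤ : Submodule B M) with hNi1
  have hsucc : Ni1 = Ni ⊔ ((Ideal.span {fs[i']} : Ideal B) • (⊤ : Submodule B M)) := by
    rw [hNi1, hNi, List.take_succ_eq_append_getElem hi, Ideal.ofList_append, Ideal.ofList_singleton,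
      Submodule.sup_smul]
  have hle : Ni ≤ Ni1 := by rw [hsucc]; exact le_sup_left
  haveI : Module.Flat A (M ⧸ Ni1) := hflat (i' + 1) hi
  haveI : Module.Flat A (M ⧸ Ni) := hflat i' (le_of_lt hi)
  refine ⟨?_, inferInstance⟩
  set φ : (M ⧸ Ni) →ₗ[A] (M ⧸ Ni) := ((LinearMap.lsmul B (M ⧸ Ni)) (fs.get i)).restrictScalars A with hφ
  have hφinj : Function.Injective φ := by
    have := hreg.regular_mod_prev i' hi
    intro x y hxy
    apply this
    simpa [hφ, hget] using hxy
  set p : (M ⧸ Ni) →ₗ[A] (M ⧸ Ni1) := (Submodule.factor hle).restrictScalars A with hp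
  have hpsurj : Function.Surjective p := Submodule.factor_surjective hle
  have hex : Function.Exact φ p := by
    intro y
    obtain ⟨m, rfl⟩ := Submodule.Quotient.mk_surjective _ y
    constructor
    · intro h
      have h1 : (Submodule.Quotient.mk m : M ⧸ Ni1) = 0 := by simpa [hp] using h
      rw [Submodule.Quotient.mk_eq_zero, hsucc, Submodule.mem_sup] at h1
      obtain ⟨n, hn, z, hz, rfl⟩ := h1
      rw [Submodule.ideal_span_singleton_smul] at hz
      obtain ⟨m', -, rfl⟩ := (Submodule.mem_smul_pointwise_iff_exists _ _ _).1 hz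
      refine ⟨Submodule.Quotient.mk m', ?_⟩
      simp only [hφ, hget, LinearMap.coe_restrictScalars, LinearMap.lsmul_apply]
      rw [Submodule.Quotient.mk_add, (Submodule.Quotient.mk_eq_zero _).2 hn, zero_add,
        Submodule.Quotient.mk_smul]
    · rintro ⟨y', hy'⟩
      obtain ⟨m', rfl⟩ := Submodule.Quotient.mk_surjective _ y'
      rw [← hy']
      simp only [hφ, hget, hp, LinearMap.coe_restrictScalars, LinearMap.lsmul_apply]
      rw [← Submodule.Quotient.mk_smul]
      change (Submodule.factor hle) (Ni.mkQ (fs[i'] • m')) = 0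
      rw [Submodule.factor_mk, Submodule.mkQ_apply, Submodule.Quotient.mk_eq_zero, hsucc]
      refine Submodule.mem_sup_right ?_
      rw [Submodule.ideal_span_singleton_smul]
      exact Submodule.smul_mem_pointwise_smul _ _ _ Submodule.mem_top
  exact LinearMap.lTensor_injective_of_exact_of_flat p hpsurj φ hφinj hex A'

end Groth.Agent.S5806
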