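import Groth.Statements.S5807
import Mathlib
-- import your own Groth.Agent.* helpers here

set_option autoImplicit false
universe u
open EGA41

namespace Groth.Agent.S5807

/-- Let A be a Noetherian ring which is a quotient of a regular ring B, and C an A-algebra of finite
type. Then every ring of fractions of C is a quotient of a regular ring. -/
theorem result (B A C : Type u) [CommRing B]
    [IsRegularRing B] [CommRing A] (π : B →+* A) (hπ : Function.Surjective π) [CommRing C] [Algebra A C]
    [Algebra.FiniteType A C] (S : Submonoid C) :
    ∃ (R : Type u) (_ : CommRing R) (_ : IsRegularRing R) (f : R →+* Localization S),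
      Function.Surjective f := by
  obtain ⟨n, f, hf⟩ := Algebra.FiniteType.iff_quotient_mvPolynomial''.1
    (inferInstance : Algebra.FiniteType A C)
  obtain ⟨g, hg⟩ : ∃ g : MvPolynomial (Fin n) B →+* C, Function.Surjective g :=
    ⟨(f : MvPolynomial (Fin n) A →+* C).comp (MvPolynomial.map π),
      hf.comp (MvPolynomial.map_surjective π hπ)⟩
  haveI : IsLocalization ((S.comap g).map g) (Localization S) := by
    rw [Submonoid.map_comap_eq_of_surjective hg]; infer_instance
  haveI hreg : IsRegularRing (MvPolynomial (Fin n) B) := inferInstance
  haveI : IsRegularRing (Localization (S.comap g)) := by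
    haveI : IsNoetherianRing (Localization (S.comap g)) :=
      IsLocalization.isNoetherianRing (S.comap g) _ inferInstance
    rw [isRegularRing_iff]
    intro p hp
    haveI hq : (p.comap (algebraMap (MvPolynomial (Fin n) B) (Localization (S.comap g)))).IsPrime :=
      Ideal.comap_isPrime _ _
    haveI := IsRegularRing.isRegularLocalRing_localization (R := MvPolynomial (Fin n) B)
      (p.comap (algebraMap (MvPolynomial (Fin n) B) (Localization (S.comap g))))
    exact IsRegularLocalRing.of_ringEquiv
      (IsLocalization.localizationLocalizationAtPrimeIsoLocalization (S.comap g) p).toRingEquiv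
  exact ⟨Localization (S.comap g), inferInstance, inferInstance,
    IsLocalization.map (Localization S) g (Submonoid.le_comap_map _),
    IsLocalization.map_surjective_of_surjective (S.comap g) (Localization (S.comap g)) (Localization S) hg⟩

end Groth.Agent.S5807
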