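import Groth.Statements.S5815
import Mathlib
import Groth.Agent.Lib.helper3.Exal

set_option autoImplicit false
universe u
open EGA41

namespace Groth.Agent.S5815

/-- Discrete case. A commutative A-algebra B is formally smooth if and only if every A-extension of B by
a B-module L is trivial (has an A-algebra section). A and B are taken in one universe and L ranges
over that universe. (The published statement is for topological rings, with direct-limit classes of
extensions; this row is its discrete case.) -/
theorem result (A B : Type u) [CommRing A] [CommRing B] [Algebra A B] :
    Algebra.FormallySmooth A B ↔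
      ∀ (L : Type u) [AddCommGroup L] [Module B L] (X : Exal.Ext A B L), X.IsTrivial := by
  constructor
  · intro hfs L _ _ X
    have hnil : IsNilpotent (RingHom.ker (X.proj : X.E →+* B)) := ⟨2, H3Exal.ker_sq X⟩
    exact ⟨Algebra.FormallySmooth.liftOfSurjective (AlgHom.id A B) X.proj
      X.isExtension.proj_surjective hnil, fun b => by
        rw [Algebra.FormallySmooth.liftOfSurjective_apply]; rfl⟩
  · intro h
    apply Algebra.FormallySmooth.of_comp_surjective
    intro T _ _ I hI g
    exact H3Exal.exists_lift_of_isTrivial I g hI
      (@h _ _ (H3Exal.kerModule (H3Exal.fiberProj I g) (H3Exal.fiberProj_surjective I g)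
        (H3Exal.fiberProj_sqZero I g hI)) (H3Exal.fiberExt I g hI))

end Groth.Agent.S5815
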