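import Groth.Statements.S5816
import Mathlib
import Groth.Agent.Lib.helper3.Exal

set_option autoImplicit false
universe u
open EGA41

namespace Groth.Agent.S5816

/-- Discrete case. For ring maps Λ → A → B, B is formally smooth over A relative to Λ (square-zero test
ideals) if and only if every A-extension of B by a B-module L which is Λ-trivial is A-trivial. Λ, A,
B are taken in one universe and L ranges over it. (The published statement is for topological rings;
this row is its discrete case.) -/
theorem result (Λ A B : Type u) [CommRing Λ]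
    [CommRing A] [CommRing B] [Algebra Λ A] [Algebra Λ B] [Algebra A B] [IsScalarTower Λ A B] :
    EGA41.IsFormallySmoothRel Λ A B ↔
      ∀ (L : Type u) [AddCommGroup L] [Module B L] (X : Exal.Ext A B L),
        X.IsTrivialOver Λ → X.IsTrivial := by
  constructor
  · rintro hrel L _ _ X ⟨s, hs⟩
    letI algΛ : Algebra Λ X.E := ((algebraMap A X.E).comp (algebraMap Λ A)).toAlgebra
    haveI : IsScalarTower Λ A X.E := IsScalarTower.of_algebraMap_eq (fun _ => rfl)
    have hJ : (RingHom.ker X.proj) ^ 2 = ⊥ := H3Exal.ker_sq X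
    let e : (X.E ⧸ RingHom.ker X.proj) ≃ₐ[A] B :=
      Ideal.quotientKerAlgEquivOfSurjective X.isExtension.proj_surjective
    have he : ∀ x : X.E, e (Ideal.Quotient.mk (RingHom.ker X.proj) x) = X.proj x := fun x => rfl
    have h1 := hrel X.E (RingHom.ker X.proj) hJ (e.symm : B →ₐ[A] _)
    have h3 : (∃ u : B →ₐ[Λ] X.E, (Ideal.Quotient.mkₐ Λ (RingHom.ker X.proj)).comp u =
        AlgHom.restrictScalars Λ (e.symm : B →ₐ[A] _)) := by
      refine ⟨s, ?_⟩
      ext b
      show Ideal.Quotient.mk (RingHom.ker X.proj) (s b) = e.symm b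
      rw [AlgEquiv.eq_symm_apply, he]
      exact hs b
    obtain ⟨v, hv⟩ := h1 h3
    refine ⟨v, fun b => ?_⟩
    have h4 : Ideal.Quotient.mk (RingHom.ker X.proj) (v b) = e.symm b :=
      AlgHom.congr_fun hv b
    rw [← he, h4, AlgEquiv.apply_symm_apply]
  · intro h C _ _ _ _ J hJ u₀ ⟨u, hu⟩
    refine H3Exal.exists_lift_of_isTrivial J u₀ hJ ?_
    refine @h _ _ (H3Exal.kerModule (H3Exal.fiberProj J u₀) (H3Exal.fiberProj_surjective J u₀)
        (H3Exal.fiberProj_sqZero J u₀ hJ)) (H3Exal.fiberExt J u₀ hJ) ?_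
    exact H3Exal.isTrivialOver_fiberExt J u₀ Λ hJ u (fun b => AlgHom.congr_fun hu b)

end Groth.Agent.S5816
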