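import Groth.Statements.S5817
import Mathlib
import Groth.Agent.Lib.helper3.Exal

set_option autoImplicit false
universe u v
open EGA41

open H3Exal
namespace Groth.Agent.S5817

/-- Commutative rings, exactness at Der_A(B, L). For ring maps A → B → C and a C-module L, the
B-extension of C by L attached to an A-derivation D : B → L (middle ring C ⊕ L, made a B-algebra
through x ↦ (x, D x)) is trivial if and only if D is the composite of B → C with an A-derivation C →
L. -/
theorem result {A : Type u} {B C L : Type v} [CommRing A] [CommRing B] [CommRing C]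
    [Algebra A B] [Algebra B C] [Algebra A C] [IsScalarTower A B C]
    [AddCommGroup L] [Module C L] [Module B L] [IsScalarTower B C L] [Module A L] [IsScalarTower A B L]
    [IsScalarTower A C L]
    (D : Derivation A B L) :
    (Exal.Ext.ofDerivation (C := C) D).IsTrivial ↔
      ∃ D' : Derivation A C L, D'.compAlgebraMap B = D := by
  constructor
  · rintro ⟨s, hs⟩
    have hfst : ∀ c, dfst D (s c) = c := hs
    let D₀ : C → L := fun c => dsnd D (s c)
    have hD₀ : ∀ c, D₀ c = dsnd D (s c) := fun _ => rfl
    have hadd : ∀ x y, D₀ (x + y) = D₀ x + D₀ y := fun x y => by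
      rw [hD₀, map_add, dsnd_add]
    have hmul : ∀ x y, D₀ (x * y) = x • D₀ y + y • D₀ x := fun x y => by
      rw [hD₀, map_mul, dsnd_mul, hfst, hfst]
    have hD₀alg : ∀ b : B, D₀ (algebraMap B C b) = D b := fun b => by
      rw [hD₀, s.commutes, dsnd_algebraMap]
    have hsmul : ∀ (a : A) (c : C), D₀ (a • c) = a • D₀ c := fun a c => by
      rw [Algebra.smul_def, IsScalarTower.algebraMap_apply A B C, hmul, hD₀alg,
        Derivation.map_algebraMap, smul_zero, add_zero, ← IsScalarTower.algebraMap_apply A B C,
        algebraMap_smul]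
    let D' : Derivation A C L :=
      Derivation.mk' { toFun := D₀, map_add' := hadd, map_smul' := hsmul } hmul
    refine ⟨D', ?_⟩
    ext b
    exact hD₀alg b
  · rintro ⟨D', rfl⟩
    let f : C → (Exal.Ext.ofDerivation (C := C) (D'.compAlgebraMap B)).E :=
      fun c => dmk _ c (D' c)
    have f1 : ∀ c, dfst _ (f c) = c := fun c => dfst_dmk _ _ _
    have f2 : ∀ c, dsnd _ (f c) = D' c := fun c => dsnd_dmk _ _ _
    refine ⟨{ toFun := f
              map_one' := d_ext _ ?_ ?_
              map_mul' := fun x y => d_ext _ ?_ ?_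
              map_zero' := d_ext _ ?_ ?_
              map_add' := fun x y => d_ext _ ?_ ?_
              commutes' := fun b => d_ext _ ?_ ?_ }, fun c => f1 c⟩
    · rw [f1, dfst_one]
    · rw [f2, dsnd_one, Derivation.map_one_eq_zero]
    · rw [f1, dfst_mul, f1, f1]
    · rw [f2, dsnd_mul, f1, f1, f2, f2, Derivation.leibniz]
    · rw [f1, dfst_zero]
    · rw [f2, dsnd_zero, map_zero]
    · rw [f1, dfst_add, f1, f1]
    · rw [f2, dsnd_add, f2, f2, map_add]
    · rw [f1, dfst_algebraMap]
    · rw [f2, dsnd_algebraMap]; rfl

end Groth.Agent.S5817
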