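import Groth.Statements.S5818
import Mathlib
import Groth.Agent.Lib.helper3.Exal

set_option autoImplicit false
universe u v
open EGA41

open H3Exal
namespace Groth.Agent.S5818

/-- Commutative rings, exactness at Exalcom_B(C, L) on underlying pointed sets. For ring maps A → B → C
and a C-module L, a B-extension of C by L is A-trivial if and only if it is equivalent to the
extension attached to some A-derivation B → L. -/
theorem result {A : Type u} {B C L : Type v} [CommRing A] [CommRing B] [CommRing C]
    [Algebra A B] [Algebra B C] [Algebra A C] [IsScalarTower A B C]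
    [AddCommGroup L] [Module C L] [Module B L] [IsScalarTower B C L] [Module A L] [IsScalarTower A B L]
    [IsScalarTower A C L]
    (X : Exal.Ext B C L) :
    X.IsTrivialOver A ↔
      ∃ D : Derivation A B L, Nonempty (X.Equiv (Exal.Ext.ofDerivation (C := C) D)) := by
  constructor
  · rintro ⟨s, hs⟩
    let s' : C → X.E := fun c => s c
    have hs' : ∀ c, X.proj (s' c) = c := hs
    have s'_one : s' 1 = 1 := map_one s
    have s'_zero : s' 0 = 0 := map_zero s
    have s'_mul : ∀ x y, s' (x * y) = s' x * s' y := map_mul s
    have s'_add : ∀ x y, s' (x + y) = s' x + s' y := map_add s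
    have s'_alg : ∀ a : A, s' (algebraMap A C a) = algebraMap B X.E (algebraMap A B a) :=
      fun a => s.commutes a
    let σ : B → X.E := fun b => s' (algebraMap B C b)
    have hσdef : ∀ b, σ b = s' (algebraMap B C b) := fun _ => rfl
    have hσ : ∀ b, X.proj (σ b) = algebraMap B C b := fun b => hs' _
    have hσmul : ∀ x y, σ (x * y) = σ x * σ y := fun x y => by
      rw [hσdef, map_mul, s'_mul]
    have hσadd : ∀ x y, σ (x + y) = σ x + σ y := fun x y => by
      rw [hσdef, map_add, s'_add]
    have hσalg : ∀ a : A, σ (algebraMap A B a) = algebraMap B X.E (algebraMap A B a) :=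
      fun a => by
        rw [hσdef, ← IsScalarTower.algebraMap_apply A B C, s'_alg]
    have hker : ∀ b, X.proj (algebraMap B X.E b - σ b) = 0 := fun b => by
      rw [map_sub, hσ, AlgHom.commutes, sub_self]
    let D₀ : B → L := fun b => X.kerLift _ (hker b)
    have hD₀ : ∀ b, X.incl (D₀ b) = algebraMap B X.E b - σ b := fun b => X.incl_kerLift _ _
    have hinj := X.isExtension.incl_injective
    have hsmulB : ∀ (b : B) (z : L) (e : X.E), X.proj e = algebraMap B C b →
        X.incl (b • z) = e * X.incl z := fun b z e he => by
      rw [X.isExtension.mul_incl, he, algebraMap_smul]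
    have hadd : ∀ x y, D₀ (x + y) = D₀ x + D₀ y := fun x y => hinj (by
      rw [map_add, hD₀, hD₀, hD₀, map_add, hσadd]; ring)
    have hmul : ∀ x y, D₀ (x * y) = x • D₀ y + y • D₀ x := fun x y => hinj (by
      rw [map_add, hsmulB x _ (algebraMap B X.E x) (X.proj.commutes x),
        hsmulB y _ (σ y) (hσ y), hD₀, hD₀, hD₀, map_mul, hσmul]; ring)
    have hD₀alg : ∀ a : A, D₀ (algebraMap A B a) = 0 := fun a => hinj (by
      rw [hD₀, hσalg, sub_self, map_zero])
    have hsmul : ∀ (a : A) (b : B), D₀ (a • b) = a • D₀ b := fun a b => by
      rw [Algebra.smul_def, hmul, hD₀alg, smul_zero, add_zero, algebraMap_smul]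
    let D : Derivation A B L :=
      Derivation.mk' { toFun := D₀, map_add' := hadd, map_smul' := hsmul } hmul
    have hD : ∀ b, D b = D₀ b := fun _ => rfl
    have hsmulC : ∀ (c : C) (z : L), X.incl (c • z) = s' c * X.incl z := fun c z => by
      rw [X.isExtension.mul_incl, hs']
    let f : (Exal.Ext.ofDerivation (C := C) D).E →ₐ[B] X.E :=
      { toFun := fun w => s' (dfst D w) + X.incl (dsnd D w)
        map_one' := by rw [dfst_one, dsnd_one, map_zero, add_zero, s'_one]
        map_mul' := fun w w' => by
          rw [dfst_mul, dsnd_mul, s'_mul, map_add, hsmulC, hsmulC]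
          have := incl_mul_incl X (dsnd D w) (dsnd D w')
          linear_combination (-1 : X.E) * this
        map_zero' := by rw [dfst_zero, dsnd_zero, s'_zero, map_zero, add_zero]
        map_add' := fun w w' => by
          rw [dfst_add, dsnd_add, s'_add, map_add]; ring
        commutes' := fun b => by
          rw [dfst_algebraMap, dsnd_algebraMap, hD, hD₀]
          show σ b + (algebraMap B X.E b - σ b) = algebraMap B X.E b
          ring }
    have hf : ∀ w, f w = s' (dfst D w) + X.incl (dsnd D w) := fun _ => rfl
    refine ⟨D, ⟨(equivOfHom f (fun w => ?_) (fun z => ?_)).symm⟩⟩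
    · rw [hf, map_add, hs', proj_incl, add_zero]; rfl
    · rw [hf, dfst_incl, dsnd_incl, s'_zero, zero_add]
  · rintro ⟨D, ⟨e⟩⟩
    let φ : C →+* X.E := (e.symm.toAlgEquiv : _ →+* X.E).comp (dinl D)
    have hφ : ∀ c, φ c = e.symm.toAlgEquiv (dinl D c) := fun _ => rfl
    refine ⟨{ toFun := φ
              map_one' := map_one φ
              map_mul' := map_mul φ
              map_zero' := map_zero φ
              map_add' := map_add φ
              commutes' := fun a => ?_ }, fun c => ?_⟩
    · show φ (algebraMap A C a) = algebraMap B X.E (algebraMap A B a)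
      rw [hφ, dinl_algebraMap]
      exact e.symm.toAlgEquiv.commutes _
    · show X.proj (φ c) = c
      rw [hφ]
      exact (e.symm.proj_apply _).trans rfl

end Groth.Agent.S5818
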