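import Groth.Statements.S5819
import Mathlib
import Groth.Agent.Lib.helper3.Exal

set_option autoImplicit false
universe u v
open EGA41

open H3Exal
namespace Groth.Agent.S5819

/-- Commutative rings, exactness at Exalcom_A(C, L) on underlying pointed sets. For ring maps A → B → C
and a C-module L, an A-extension Y of C by L pulls back to a trivial A-extension of B if and only if
Y is equivalent to some B-extension of C by L viewed as an A-extension. -/
theorem result {A : Type u} {B C L : Type v} [CommRing A]
    [CommRing B] [CommRing C] [Algebra A B] [Algebra B C] [Algebra A C] [IsScalarTower A B C]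
    [AddCommGroup L] [Module C L] [Module B L] [IsScalarTower B C L]
    (Y : Exal.Ext A C L) :
    (Y.pullback B).IsTrivial ↔
      ∃ X : Exal.Ext B C L, Nonempty ((X.restrictBase A).Equiv Y) := by
  constructor
  · rintro ⟨s, hs⟩
    let t : B → Y.fiberProd B := fun b => s b
    let g : B →ₐ[A] Y.E := ((AlgHom.fst A Y.E B).comp (Y.fiberProd B).val).comp s
    have hgt : ∀ b, g b = (t b).1.1 := fun _ => rfl
    have hg : ∀ b, Y.proj (g b) = algebraMap B C b := fun b => by
      have h1 : Y.proj (t b).1.1 = algebraMap B C (t b).1.2 := (t b).2
      have h2 : (t b).1.2 = b := hs b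
      rw [h2] at h1
      rw [hgt]
      exact h1
    letI algB : Algebra B Y.E := g.toRingHom.toAlgebra
    let X : Exal.Ext B C L :=
      { E := Y.E
        proj :=
          { toFun := fun x => Y.proj x
            map_one' := map_one Y.proj
            map_mul' := map_mul Y.proj
            map_zero' := map_zero Y.proj
            map_add' := map_add Y.proj
            commutes' := fun b => hg b }
        incl := Y.incl
        isExtension := ⟨Y.isExtension.proj_surjective, Y.isExtension.incl_injective,
          Y.isExtension.exact, Y.isExtension.mul_incl⟩ }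
    let f : (X.restrictBase A).E →ₐ[A] Y.E :=
      { toFun := fun x => x
        map_one' := rfl
        map_mul' := fun _ _ => rfl
        map_zero' := rfl
        map_add' := fun _ _ => rfl
        commutes' := fun a => g.commutes a }
    exact ⟨X, ⟨equivOfHom f (fun x => rfl) (fun z => rfl)⟩⟩
  · rintro ⟨X, ⟨e⟩⟩
    let φ : B →+* Y.E := (e.toAlgEquiv : (X.restrictBase A).E →+* Y.E).comp (algebraMap B X.E)
    have hφ : ∀ b, φ b = e.toAlgEquiv (algebraMap B X.E b) := fun _ => rfl
    have hφproj : ∀ b, Y.proj (φ b) = algebraMap B C b := fun b => by
      rw [hφ]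
      exact (e.proj_apply _).trans (X.proj.commutes b)
    have hφalg : ∀ a : A, φ (algebraMap A B a) = algebraMap A Y.E a :=
      fun a => e.toAlgEquiv.commutes a
    let t : B → Y.fiberProd B := fun b => ⟨(φ b, b), hφproj b⟩
    refine ⟨{ toFun := t
              map_one' := Subtype.ext (Prod.ext (map_one φ) rfl)
              map_mul' := fun x y => Subtype.ext (Prod.ext (map_mul φ x y) rfl)
              map_zero' := Subtype.ext (Prod.ext (map_zero φ) rfl)
              map_add' := fun x y => Subtype.ext (Prod.ext (map_add φ x y) rfl)
              commutes' := fun a => Subtype.ext (Prod.ext (hφalg a) rfl) }, fun b => rfl⟩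

end Groth.Agent.S5819
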