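import Groth.Statements.S5821
import Mathlib
import Groth.Agent.Lib.helper3.ExalChar

set_option autoImplicit false
universe u v
open EGA41

open H3Exal KaehlerDifferential
open scoped TensorProduct
namespace Groth.Agent.S5821

/-- For a ring map A → B, an ideal K of B, C = B ⧸ K and the B-extension E = B ⧸ K² of C by K/K², if E
is A-trivial then its characteristic homomorphism Υ_{C/B/A} → K/K² is bijective (stated for every
C-linear χ satisfying the defining square, of which there is exactly one). -/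
theorem result {A : Type u} {B : Type v} [CommRing A] [CommRing B] [Algebra A B]
    (K : Ideal B) (hK : (Exal.Ext.infinitesimal K).IsTrivialOver A)
    (χ : ↥(EGA41.imperfection A B (B ⧸ K)) →ₗ[B ⧸ K] K.Cotangent)
    (hχ : (Exal.Ext.infinitesimal K).IsCharHom A χ) :
    Function.Bijective χ := by
  obtain ⟨g, hg⟩ := exists_section hK
  have hχ' := (isCharHom_iff A (Exal.Ext.infinitesimal K) g hg χ).1 hχ
  -- key fact
  have keyF : ∀ (k : B) (hk : k ∈ K),
      charMap A (Exal.Ext.infinitesimal K) g hg ((1 : B ⧸ K) ⊗ₜ[B] D A B k) =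
        K.toCotangent ⟨k, hk⟩ := by
    intro k hk
    rw [charMap_tmul, one_smul]
    apply ι_injective A (Exal.Ext.infinitesimal K)
    rw [ι_secDer]
    have h0 : algebraMap B (B ⧸ K) k = 0 := by
      rw [Ideal.Quotient.algebraMap_eq]; exact Ideal.Quotient.eq_zero_iff_mem.2 hk
    rw [h0, map_zero, sub_zero]
    rfl
  have hmem : ∀ (k : B), k ∈ K →
      (1 : B ⧸ K) ⊗ₜ[B] D A B k ∈ EGA41.imperfection A B (B ⧸ K) := by
    intro k hk
    show mapBaseChange A B (B ⧸ K) _ = 0
    have h0 : algebraMap B (B ⧸ K) k = 0 := by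
      rw [Ideal.Quotient.algebraMap_eq]; exact Ideal.Quotient.eq_zero_iff_mem.2 hk
    rw [KaehlerDifferential.mapBaseChange_tmul, KaehlerDifferential.map_D, h0, map_zero,
      smul_zero]
  constructor
  · rw [injective_iff_map_eq_zero]
    intro z hz
    have hex := KaehlerDifferential.exact_kerCotangentToTensor_mapBaseChange A B (B ⧸ K)
      Ideal.Quotient.mk_surjective
    obtain ⟨κ, hκ⟩ := (hex z.1).1 z.2
    obtain ⟨⟨k, hk⟩, rfl⟩ := Ideal.toCotangent_surjective _ κ
    have hk' : k ∈ K := by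
      have := (RingHom.mem_ker).1 hk
      rw [Ideal.Quotient.algebraMap_eq] at this
      exact Ideal.Quotient.eq_zero_iff_mem.1 this
    have hz1 : z.1 = (1 : B ⧸ K) ⊗ₜ[B] D A B k := by
      rw [← hκ, KaehlerDifferential.kerCotangentToTensor_toCotangent]
    have h1 : χ z = K.toCotangent ⟨k, hk'⟩ := by
      rw [hχ' z, ← keyF k hk']
      congr 1
    rw [hz, eq_comm, Ideal.toCotangent_eq_zero] at h1
    have hkerK : RingHom.ker (algebraMap B (B ⧸ K)) = K := by
      rw [Ideal.Quotient.algebraMap_eq]; exact Ideal.mk_ker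
    have h2 : (RingHom.ker (algebraMap B (B ⧸ K))).toCotangent ⟨k, hk⟩ = 0 := by
      rw [Ideal.toCotangent_eq_zero]
      show k ∈ _ ^ 2
      rw [hkerK]
      exact h1
    apply Subtype.ext
    rw [← hκ, h2, map_zero]
    rfl
  · intro κ
    obtain ⟨⟨k, hk⟩, rfl⟩ := K.toCotangent_surjective κ
    refine ⟨⟨_, hmem k hk⟩, ?_⟩
    rw [hχ', keyF k hk]

end Groth.Agent.S5821
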