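import Groth.Statements.S5822
import Mathlib
import Groth.Agent.Lib.helper3.ExalChar

set_option autoImplicit false
universe u v
open scoped TensorProduct
open EGA41

open H3Exal KaehlerDifferential
namespace Groth.Agent.S5822

/-- Injectivity. For ring maps A → B → C and a C-module L, assume (i) L is an injective C-module, or
(ii) Υ_{C/B/A} is a direct summand of C ⊗_B Ω_{B/A} and Ω_{C/A} → Ω_{C/B} has a right inverse. Then
two A-trivial B-extensions of C by L with a common characteristic homomorphism are equivalent: the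
map from classes of A-trivial extensions to Hom_C(Υ_{C/B/A}, L) is injective. -/
theorem result {A : Type u} {B C L : Type v} [CommRing A] [CommRing B] [CommRing C]
    [Algebra A B] [Algebra B C] [Algebra A C] [IsScalarTower A B C] [AddCommGroup L] [Module C L]
    (h : Module.Injective C L ∨
      ((∃ r : C ⊗[B] Ω[B⁄A] →ₗ[C] ↥(EGA41.imperfection A B C), ∀ z : ↥(EGA41.imperfection A B C), r z = z) ∧
        ∃ s : Ω[C⁄B] →ₗ[C] Ω[C⁄A], ∀ ω : Ω[C⁄B], KaehlerDifferential.map A B C C (s ω) = ω))
    (X Y : Exal.Ext B C L) (hX : X.IsTrivialOver A) (hY : Y.IsTrivialOver A)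
    (χ : ↥(EGA41.imperfection A B C) →ₗ[C] L) (hXχ : X.IsCharHom A χ) (hYχ : Y.IsCharHom A χ) :
    Nonempty (X.Equiv Y) := by
  obtain ⟨gX, hgX⟩ := exists_section hX
  obtain ⟨gY, hgY⟩ := exists_section hY
  have hXχ' := (isCharHom_iff A X gX hgX χ).1 hXχ
  have hYχ' := (isCharHom_iff A Y gY hgY χ).1 hYχ
  let Ψ : C ⊗[B] Ω[B⁄A] →ₗ[C] L := charMap A X gX hgX - charMap A Y gY hgY
  have hΨ : ∀ z, Ψ z = charMap A X gX hgX z - charMap A Y gY hgY z := fun _ => rfl
  have hΨker : LinearMap.ker (mapBaseChange A B C) ≤ LinearMap.ker Ψ := by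
    intro z hz
    rw [LinearMap.mem_ker, hΨ, sub_eq_zero]
    have h1 := hXχ' (⟨z, hz⟩ : EGA41.imperfection A B C)
    have h2 := hYχ' (⟨z, hz⟩ : EGA41.imperfection A B C)
    exact h1.symm.trans h2
  let φ : LinearMap.range (mapBaseChange A B C) →ₗ[C] L :=
    (Submodule.liftQ _ Ψ hΨker).comp
      (mapBaseChange A B C).quotKerEquivRange.symm.toLinearMap
  have hφ : ∀ z', φ ⟨mapBaseChange A B C z', LinearMap.mem_range_self _ z'⟩ = Ψ z' := fun z' => by
    show Submodule.liftQ _ Ψ hΨker
      ((mapBaseChange A B C).quotKerEquivRange.symm ⟨mapBaseChange A B C z', _⟩) = _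
    rw [LinearMap.quotKerEquivRange_symm_apply_image]
    rfl
  obtain ⟨ψ, hψ⟩ : ∃ ψ : Ω[C⁄A] →ₗ[C] L, ∀ z', ψ (mapBaseChange A B C z') = Ψ z' := by
    rcases h with hinj | ⟨_, ⟨s, hs⟩⟩
    · obtain ⟨ψ, hψ⟩ := hinj.out (X := ↥(LinearMap.range (mapBaseChange A B C))) (Y := Ω[C⁄A])
        (LinearMap.range (mapBaseChange A B C)).subtype (Submodule.injective_subtype _) φ
      exact ⟨ψ, fun z' => (hψ ⟨_, LinearMap.mem_range_self _ z'⟩).trans (hφ z')⟩
    · let P₀ : Ω[C⁄A] →ₗ[C] Ω[C⁄A] := LinearMap.id - s.comp (KaehlerDifferential.map A B C C)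
      have hπ : ∀ ω : Ω[C⁄A], P₀ ω ∈
          LinearMap.range (mapBaseChange A B C) := fun ω => by
        rw [KaehlerDifferential.range_mapBaseChange, LinearMap.mem_ker]
        show KaehlerDifferential.map A B C C (ω - s (KaehlerDifferential.map A B C C ω)) = 0
        rw [map_sub, hs, sub_self]
      let π : Ω[C⁄A] →ₗ[C] LinearMap.range (mapBaseChange A B C) :=
        LinearMap.codRestrict _ P₀ hπ
      refine ⟨φ.comp π, fun z' => ?_⟩
      have h0 : KaehlerDifferential.map A B C C (mapBaseChange A B C z') = 0 := by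
        have := LinearMap.mem_range_self (mapBaseChange A B C) z'
        rw [KaehlerDifferential.range_mapBaseChange] at this
        exact this
      have h1 : π (mapBaseChange A B C z') =
          ⟨mapBaseChange A B C z', LinearMap.mem_range_self _ z'⟩ := by
        apply Subtype.ext
        show mapBaseChange A B C z' - s (KaehlerDifferential.map A B C C (mapBaseChange A B C z')) =
          mapBaseChange A B C z'
        rw [h0, map_zero, sub_zero]
      rw [LinearMap.comp_apply, h1, hφ]
  let d' : C → L := fun c => ψ (D A C c)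
  have hd' : ∀ c, d' c = ψ (D A C c) := fun _ => rfl
  have d'_add : ∀ x y, d' (x + y) = d' x + d' y := fun x y => by
    rw [hd', map_add, map_add]
  have d'_mul : ∀ x y, d' (x * y) = x • d' y + y • d' x := fun x y => by
    rw [hd', Derivation.leibniz, map_add, map_smul, map_smul]
  have d'_algB : ∀ b : B, d' (algebraMap B C b) =
      secDer A X gX hgX b - secDer A Y gY hgY b := fun b => by
    have h1 : mapBaseChange A B C ((1 : C) ⊗ₜ[B] D A B b) = D A C (algebraMap B C b) := by
      rw [KaehlerDifferential.mapBaseChange_tmul, KaehlerDifferential.map_D, one_smul]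
    rw [hd', ← h1, hψ, hΨ, charMap_tmul, charMap_tmul, one_smul, one_smul]
  let gX' : C →+* X.E := (gX : C →+* X.CharCarrier A)
  let gY' : C →+* Y.E := (gY : C →+* Y.CharCarrier A)
  have hgX' : ∀ c, X.proj (gX' c) = c := pr_section A X gX hgX
  have hgY' : ∀ c, Y.proj (gY' c) = c := pr_section A Y gY hgY
  obtain ⟨g', hg'⟩ := exists_section_sub Y gY' hgY' d' d'_add d'_mul
  have hg'proj : ∀ c, Y.proj (g' c) = c := fun c => by
    rw [hg', map_sub, hgY', proj_incl, sub_zero]
  have hδX : ∀ b, X.incl (secDer A X gX hgX b) =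
      algebraMap B X.E b - gX' (algebraMap B C b) := ι_secDer A X gX hgX
  have hδY0 : ∀ b, Y.incl (secDer A Y gY hgY b) =
      algebraMap B Y.E b - gY' (algebraMap B C b) := ι_secDer A Y gY hgY
  have hδY : ∀ b, Y.incl (secDer A X gX hgX b) =
      algebraMap B Y.E b - g' (algebraMap B C b) := fun b => by
    rw [hg', d'_algB, map_sub, hδY0]
    ring
  exact equiv_of_sections X Y gX' hgX' g' hg'proj (secDer A X gX hgX) hδX hδY

end Groth.Agent.S5822
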