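import Groth.Statements.S5823
import Mathlib
import Groth.Agent.Lib.helper3.ExalChar

set_option autoImplicit false
universe u v
open scoped TensorProduct
open EGA41

open H3Exal
namespace Groth.Agent.S5823

/-- Surjectivity. For ring maps A → B → C and a C-module L, assume (i) L is an injective C-module, or
(ii) Υ_{C/B/A} is a direct summand of C ⊗_B Ω_{B/A} and Ω_{C/A} → Ω_{C/B} has a right inverse. Then
every C-linear map Υ_{C/B/A} → L is the characteristic homomorphism of an A-trivial B-extension of C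
by L. -/
theorem result {A : Type u} {B C L : Type v} [CommRing A] [CommRing B] [CommRing C]
    [Algebra A B] [Algebra B C] [Algebra A C] [IsScalarTower A B C] [AddCommGroup L] [Module C L]
    (h : Module.Injective C L ∨
      ((∃ r : C ⊗[B] Ω[B⁄A] →ₗ[C] ↥(EGA41.imperfection A B C), ∀ z : ↥(EGA41.imperfection A B C), r z = z) ∧
        ∃ s : Ω[C⁄B] →ₗ[C] Ω[C⁄A], ∀ ω : Ω[C⁄B], KaehlerDifferential.map A B C C (s ω) = ω))
    (χ : ↥(EGA41.imperfection A B C) →ₗ[C] L) :
    ∃ X : Exal.Ext B C L, X.IsTrivialOver A ∧ X.IsCharHom A χ := by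
  obtain ⟨χ', hχ'⟩ : ∃ χ' : C ⊗[B] Ω[B⁄A] →ₗ[C] L,
      ∀ z : EGA41.imperfection A B C, χ' z = χ z := by
    rcases h with hinj | ⟨⟨r, hr⟩, _⟩
    · obtain ⟨h', hh'⟩ := hinj.out (X := ↥(EGA41.imperfection A B C)) (Y := C ⊗[B] Ω[B⁄A])
        (EGA41.imperfection A B C).subtype (Submodule.injective_subtype _) χ
      exact ⟨h', fun z => hh' z⟩
    · exact ⟨χ.comp r, fun z => by rw [LinearMap.comp_apply, hr]⟩
  have hsm : ∀ (b : B) (t : C ⊗[B] Ω[B⁄A]), χ' (b • t) = algebraMap B C b • χ' t :=
    fun b t => by rw [← algebraMap_smul C b t, map_smul]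
  let dd : DerData B C L :=
    { d := fun b => χ' ((1 : C) ⊗ₜ[B] KaehlerDifferential.D A B b)
      map_add := fun x y => by rw [map_add, TensorProduct.tmul_add, map_add]
      map_mul := fun x y => by
        rw [Derivation.leibniz, TensorProduct.tmul_add, TensorProduct.tmul_smul,
          TensorProduct.tmul_smul, map_add, hsm, hsm] }
  have hdd : ∀ b, dd.d b = χ' ((1 : C) ⊗ₜ[B] KaehlerDifferential.D A B b) := fun _ => rfl
  have h0 : ∀ a : A, dd.d (algebraMap A B a) = 0 := fun a => by
    rw [hdd, Derivation.map_algebraMap, TensorProduct.tmul_zero, map_zero]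
  obtain ⟨s, hs1, hs2⟩ := exists_section_ofDerData dd A h0
  have hX : (ofDerData dd).IsTrivialOver A := ⟨s, hs1⟩
  refine ⟨ofDerData dd, hX, ?_⟩
  let g : C →ₐ[A] (ofDerData dd).CharCarrier A := s
  have hg : (IsScalarTower.toAlgHom A ((ofDerData dd).CharCarrier A) C).comp g =
      AlgHom.id A C := AlgHom.ext fun c => hs1 c
  rw [isCharHom_iff A (ofDerData dd) g hg]
  intro z
  rw [← hχ' z]
  have hmaps : χ' = charMap A (ofDerData dd) g hg := by
    apply ext_tmul_D A
    intro b
    rw [charMap_tmul, one_smul]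
    apply ι_injective A (ofDerData dd)
    rw [ι_secDer, eq_sub_iff_add_eq]
    have key : ∀ (x : DerCarrier' dd), efst dd x = algebraMap B C b → esnd dd x = 0 →
        emk dd 0 (dd.d b) + x = emk dd (algebraMap B C b) (dd.d b) := by
      intro x h1 h2
      apply e_ext dd
      · rw [efst_add, efst_emk, efst_emk, h1, zero_add]
      · rw [esnd_add, esnd_emk, esnd_emk, h2, add_zero]
    exact key _ (hs2 _).1 (hs2 _).2
  rw [hmaps]

end Groth.Agent.S5823
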