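import Groth.Statements.S5824
import Mathlib
import Groth.Agent.Lib.helper3.ExalChar
import Groth.Agent.S5822
import Groth.Agent.S5823

set_option autoImplicit false
universe u v
open EGA41

open H3Exal KaehlerDifferential
open scoped TensorProduct
namespace Groth.Agent.S5824

/-- For ring maps A → B → C with C formally smooth over A (discrete topologies) and Ω_{C/B} a projective
C-module, and a C-module L, the characteristic homomorphism is a bijection from the classes of all
B-extensions of C by L (each of which is A-trivial) onto Hom_C(Υ_{C/B/A}, L): injectivity on classes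
and surjectivity. -/
theorem result {A : Type u} {B C L : Type v} [CommRing A] [CommRing B] [CommRing C]
    [Algebra A B] [Algebra B C] [Algebra A C] [IsScalarTower A B C] [AddCommGroup L] [Module C L]
    [Algebra.FormallySmooth A C] [Module.Projective C Ω[C⁄B]] :
    (∀ (X Y : Exal.Ext B C L) (χ : ↥(EGA41.imperfection A B C) →ₗ[C] L),
        X.IsCharHom A χ → Y.IsCharHom A χ → Nonempty (X.Equiv Y)) ∧
      ∀ χ : ↥(EGA41.imperfection A B C) →ₗ[C] L, ∃ X : Exal.Ext B C L, X.IsCharHom A χ := by
  have hT : ∀ X : Exal.Ext B C L, X.IsTrivialOver A := fun X =>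
    isTrivial_of_formallySmooth (X.restrictBase A)
  obtain ⟨s, hs⟩ := Module.projective_lifting_property (KaehlerDifferential.map A B C C)
    LinearMap.id (KaehlerDifferential.map_surjective A B C)
  have hs' : ∀ ω : Ω[C⁄B], KaehlerDifferential.map A B C C (s ω) = ω :=
    fun ω => LinearMap.congr_fun hs ω
  -- the image is a direct summand of Ω[C⁄A], hence projective
  let P₀ : Ω[C⁄A] →ₗ[C] Ω[C⁄A] := LinearMap.id - s.comp (KaehlerDifferential.map A B C C)
  have hP₀ : ∀ ω, P₀ ω = ω - s (KaehlerDifferential.map A B C C ω) := fun _ => rfl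
  have hπ : ∀ ω : Ω[C⁄A], P₀ ω ∈ LinearMap.range (mapBaseChange A B C) := fun ω => by
    rw [KaehlerDifferential.range_mapBaseChange, LinearMap.mem_ker, hP₀, map_sub, hs', sub_self]
  let π : Ω[C⁄A] →ₗ[C] LinearMap.range (mapBaseChange A B C) :=
    LinearMap.codRestrict _ P₀ hπ
  have hπi : π.comp (LinearMap.range (mapBaseChange A B C)).subtype = LinearMap.id := by
    apply LinearMap.ext
    intro x
    apply Subtype.ext
    show P₀ x.1 = x.1
    have h0 : KaehlerDifferential.map A B C C x.1 = 0 := by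
      have : (x : Ω[C⁄A]) ∈ LinearMap.ker (KaehlerDifferential.map A B C C) := by
        rw [← KaehlerDifferential.range_mapBaseChange]; exact x.2
      exact this
    rw [hP₀, h0, map_zero, sub_zero]
  haveI : Module.Projective C (LinearMap.range (mapBaseChange A B C)) :=
    Module.Projective.of_split _ π hπi
  obtain ⟨σ, hσ⟩ := Module.projective_lifting_property (mapBaseChange A B C).rangeRestrict
    LinearMap.id (LinearMap.surjective_rangeRestrict _)
  have hσ' : ∀ x, (mapBaseChange A B C).rangeRestrict (σ x) = x := fun x => LinearMap.congr_fun hσ x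
  let R₀ : C ⊗[B] Ω[B⁄A] →ₗ[C] C ⊗[B] Ω[B⁄A] :=
    LinearMap.id - σ.comp (mapBaseChange A B C).rangeRestrict
  have hR₀ : ∀ z, R₀ z = z - σ ((mapBaseChange A B C).rangeRestrict z) := fun _ => rfl
  have hR₀mem : ∀ z, R₀ z ∈ EGA41.imperfection A B C := fun z => by
    show mapBaseChange A B C (R₀ z) = 0
    rw [hR₀, map_sub, sub_eq_zero]
    have := congrArg Subtype.val (hσ' ((mapBaseChange A B C).rangeRestrict z))
    exact this.symm
  let r : C ⊗[B] Ω[B⁄A] →ₗ[C] ↥(EGA41.imperfection A B C) := LinearMap.codRestrict _ R₀ hR₀mem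
  have hr : ∀ z : ↥(EGA41.imperfection A B C), r z = z := fun z => by
    apply Subtype.ext
    show R₀ z.1 = z.1
    have h0 : (mapBaseChange A B C).rangeRestrict z.1 = 0 := by
      apply Subtype.ext
      exact z.2
    rw [hR₀, h0, map_zero, sub_zero]
  have hyp : Module.Injective C L ∨
      ((∃ r : C ⊗[B] Ω[B⁄A] →ₗ[C] ↥(EGA41.imperfection A B C),
          ∀ z : ↥(EGA41.imperfection A B C), r z = z) ∧
        ∃ s : Ω[C⁄B] →ₗ[C] Ω[C⁄A], ∀ ω : Ω[C⁄B], KaehlerDifferential.map A B C C (s ω) = ω) :=
    Or.inr ⟨⟨r, hr⟩, ⟨s, hs'⟩⟩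
  refine ⟨fun X Y χ hXχ hYχ => Groth.Agent.S5822.result hyp X Y (hT X) (hT Y) χ hXχ hYχ,
    fun χ => ?_⟩
  obtain ⟨X, _, hX⟩ := Groth.Agent.S5823.result hyp χ
  exact ⟨X, hX⟩

end Groth.Agent.S5824
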