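import Groth.Statements.S5825
import Groth.Agent.Lib.helper3.TopModLib

set_option autoImplicit false
universe u v w
open EGA41

namespace Groth.Agent.S5825

/-- Let A be a topological ring, M, N topological A-modules with the topologies deduced from that of A,
and u : M → N a continuous linear map with dense image (a formal epimorphism). Then u is a formal
bimorphism (dense image and inducing) if and only if, for every open ideal J of A, the induced map
M/JM → N/JN is bijective (injectivity and surjectivity are written out elementwise). -/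
theorem result {A : Type u} {M : Type v} {N : Type w} [CommRing A]
    [TopologicalSpace A] [AddCommGroup M] [Module A M] [TopologicalSpace M] [AddCommGroup N] [Module A N]
    [TopologicalSpace N] (hM : TopMod.IsDeduced A M) (hN : TopMod.IsDeduced A N) (u : M →L[A] N)
    (hu : DenseRange u) :
    IsDenseInducing u ↔
      ∀ J : Ideal A, IsOpen (J : Set A) →
        (∀ x : M, u x ∈ (J • ⊤ : Submodule A N) → x ∈ (J • ⊤ : Submodule A M)) ∧
          ∀ y : N, ∃ x : M, y - u x ∈ (J • ⊤ : Submodule A N) := by
  haveI : IsTopologicalAddGroup M := hM.1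
  haveI : IsTopologicalAddGroup N := hN.1
  have hlin : ∀ J : Ideal A, ∀ x ∈ (J • ⊤ : Submodule A M), u x ∈ (J • ⊤ : Submodule A N) := by
    intro J x hx
    refine Submodule.smul_induction_on hx (fun a ha m _ => ?_) (fun x y hx hy => ?_)
    · rw [map_smul]; exact Submodule.smul_mem_smul ha Submodule.mem_top
    · rw [map_add]; exact Submodule.add_mem _ hx hy
  have hdense : ∀ J : Ideal A, IsOpen (J : Set A) →
      ∀ y : N, ∃ x : M, y - u x ∈ (J • ⊤ : Submodule A N) := by
    intro J hJ y
    have ho : IsOpen ((fun z : N => y - z) ⁻¹' ((J • ⊤ : Submodule A N) : Set N)) :=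
      (H3TopMod.isOpen_smul_top hN J hJ).preimage (continuous_const.sub continuous_id)
    have hne : ((fun z : N => y - z) ⁻¹' ((J • ⊤ : Submodule A N) : Set N)).Nonempty :=
      ⟨y, by show y - y ∈ (J • ⊤ : Submodule A N); rw [sub_self]; exact Submodule.zero_mem _⟩
    obtain ⟨z, ⟨x, rfl⟩, hz⟩ := Dense.exists_mem_open hu ho hne
    exact ⟨x, hz⟩
  constructor
  · intro h J hJ
    refine ⟨?_, hdense J hJ⟩
    have hind := (IsTopologicalAddGroup.isInducing_iff_nhds_zero (f := u)).1 h.toIsInducing
    have h1 : ((J • ⊤ : Submodule A M) : Set M) ∈ Filter.comap u (nhds (0 : N)) := by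
      rw [← hind]; exact hM.2.mem_of_mem hJ
    obtain ⟨J', hJ', hsub⟩ := (hN.2.comap u).mem_iff.1 h1
    have key : ∀ z ∈ (J • ⊤ : Submodule A N), ∃ m ∈ (J • ⊤ : Submodule A M),
        z - u m ∈ (J' • ⊤ : Submodule A N) := by
      intro z hz
      refine Submodule.smul_induction_on hz (fun a ha n _ => ?_) (fun z₁ z₂ h₁ h₂ => ?_)
      · obtain ⟨x', hx'⟩ := hdense J' hJ' n
        refine ⟨a • x', Submodule.smul_mem_smul ha Submodule.mem_top, ?_⟩
        rw [map_smul, ← smul_sub]
        exact Submodule.smul_mem _ a hx'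
      · obtain ⟨m₁, hm₁, h₁'⟩ := h₁
        obtain ⟨m₂, hm₂, h₂'⟩ := h₂
        refine ⟨m₁ + m₂, Submodule.add_mem _ hm₁ hm₂, ?_⟩
        rw [map_add, add_sub_add_comm]
        exact Submodule.add_mem _ h₁' h₂'
    intro x hx
    obtain ⟨m, hm, hxm⟩ := key (u x) hx
    have h2 : x - m ∈ (J • ⊤ : Submodule A M) := by
      apply hsub
      show u (x - m) ∈ (J' • ⊤ : Submodule A N)
      rw [map_sub]; exact hxm
    have : x = (x - m) + m := by abel
    rw [this]
    exact Submodule.add_mem _ h2 hm
  · intro H
    refine ⟨?_, hu⟩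
    rw [IsTopologicalAddGroup.isInducing_iff_nhds_zero (f := u)]
    refine hM.2.ext (hN.2.comap u) (fun J hJ => ⟨J, hJ, fun x hx => (H J hJ).1 x hx⟩)
      (fun J hJ => ⟨J, hJ, fun x hx => hlin J x hx⟩)

end Groth.Agent.S5825
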