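import Groth.Statements.S5826
import Groth.Agent.Lib.helper3.TopModLib

set_option autoImplicit false
universe u v w
open EGA41

namespace Groth.Agent.S5826

/-- Let A be a topological ring, M, N topological A-modules with the topologies deduced from that of A,
u : M → N a continuous linear map. Then u is formally left invertible if and only if, for every open
ideal J of A, the induced map M/JM → N/JN is left invertible, i.e. some linear map N → M/JM composes
with u to the projection M → M/JM. -/
theorem result {A : Type u} {M : Type v} {N : Type w}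
    [CommRing A] [TopologicalSpace A] [AddCommGroup M] [Module A M] [TopologicalSpace M] [AddCommGroup N]
    [Module A N] [TopologicalSpace N] (hM : TopMod.IsDeduced A M) (hN : TopMod.IsDeduced A N)
    (u : M →L[A] N) :
    TopMod.IsFormallyLeftInvertible u ↔
      ∀ J : Ideal A, IsOpen (J : Set A) →
        ∃ w : N →ₗ[A] M ⧸ (J • ⊤ : Submodule A M), ∀ x : M, w (u x) = Submodule.Quotient.mk x := by
  constructor
  · intro h J hJ
    letI : TopologicalSpace (M ⧸ (J • ⊤ : Submodule A M)) := ⊥
    haveI : DiscreteTopology (M ⧸ (J • ⊤ : Submodule A M)) := ⟨rfl⟩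
    have hcont : Continuous (Submodule.mkQ (J • ⊤ : Submodule A M)) :=
      H3TopMod.continuous_of_le_ker hM _ J hJ (by rw [Submodule.ker_mkQ])
    obtain ⟨w, hw⟩ := h (M ⧸ (J • ⊤ : Submodule A M)) ⟨Submodule.mkQ _, hcont⟩
    exact ⟨w.toLinearMap, fun x => hw x⟩
  · intro H E _ _ _ _ v
    obtain ⟨J, hJ, hle⟩ := H3TopMod.exists_le_ker hM v
    obtain ⟨wJ, hwJ⟩ := H J hJ
    let vbar : (M ⧸ (J • ⊤ : Submodule A M)) →ₗ[A] E := Submodule.liftQ _ (v : M →ₗ[A] E) hle
    have hker : (J • ⊤ : Submodule A N) ≤ LinearMap.ker (vbar ∘ₗ wJ) := by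
      rw [Submodule.smul_le]
      intro a ha n _
      rw [LinearMap.mem_ker, LinearMap.comp_apply, map_smul]
      obtain ⟨m, hm⟩ := Submodule.Quotient.mk_surjective _ (wJ n)
      have h0 : a • wJ n = 0 := by
        rw [← hm, ← Submodule.Quotient.mk_smul, Submodule.Quotient.mk_eq_zero]
        exact Submodule.smul_mem_smul ha Submodule.mem_top
      rw [h0, map_zero]
    have hcont : Continuous (vbar ∘ₗ wJ) :=
      H3TopMod.continuous_of_le_ker hN _ J hJ hker
    refine ⟨⟨vbar ∘ₗ wJ, hcont⟩, fun x => ?_⟩
    show vbar (wJ (u x)) = v x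
    rw [hwJ]
    rfl

end Groth.Agent.S5826
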