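import Groth.Statements.S5827
import Groth.Agent.S5826
import Groth.Agent.Lib.helper3.LeftInvLift

set_option autoImplicit false
universe u v w
open EGA41

namespace Groth.Agent.S5827

/-- Let A be a preadmissible topological ring with an ideal of definition 𝔏, M, N topological A-modules
with the topologies deduced from that of A such that N/JN is a projective (A/J)-module for every
open ideal J, and u : M → N a continuous linear map. Then u is formally left invertible if and only
if the induced map M/𝔏M → N/𝔏N is left invertible. -/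
theorem result {A : Type u} {M : Type v}
    {N : Type w} [CommRing A] [TopologicalSpace A] [AddCommGroup M] [Module A M] [TopologicalSpace M]
    [AddCommGroup N] [Module A N] [TopologicalSpace N] (hA : LinTop.IsPreadmissible A) (𝔏 : Ideal A)
    (h𝔏 : LinTop.IsIdealOfDefinition A 𝔏) (hM : TopMod.IsDeduced A M) (hN : TopMod.IsDeduced A N)
    (hproj : ∀ J : Ideal A, IsOpen (J : Set A) → Module.Projective (A ⧸ J) (N ⧸ (J • (⊤ : Submodule A N))))
    (u : M →L[A] N) :
    TopMod.IsFormallyLeftInvertible u ↔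
      ∃ w : N →ₗ[A] M ⧸ (𝔏 • ⊤ : Submodule A M), ∀ x : M, w (u x) = Submodule.Quotient.mk x := by
  rw [Groth.Agent.S5826.result hM hN u]
  constructor
  · intro H
    exact H 𝔏 h𝔏.1
  · rintro ⟨w₀, hw₀⟩ J hJ
    have hJ₁ : IsOpen ((J ⊓ 𝔏 : Ideal A) : Set A) := by
      rw [Submodule.coe_inf]
      exact hJ.inter h𝔏.1
    have hmem : ((J ⊓ 𝔏 : Ideal A) : Set A) ∈ nhds (0 : A) :=
      hJ₁.mem_nhds (Submodule.zero_mem _)
    obtain ⟨n, -, hn⟩ := h𝔏.2 _ hmem
    haveI := hproj (J ⊓ 𝔏) hJ₁
    obtain ⟨w, hw⟩ := H3LeftInv.exists_leftInv_of_mod (J ⊓ 𝔏) 𝔏 inf_le_right n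
      (fun a ha => hn ha) (u : M →ₗ[A] N) w₀ hw₀
    have hle : ((J ⊓ 𝔏) • ⊤ : Submodule A M) ≤ J • ⊤ := Submodule.smul_mono_left inf_le_left
    refine ⟨(Submodule.factor hle) ∘ₗ w, fun x => ?_⟩
    show Submodule.factor hle (w (u x)) = _
    have := hw x
    rw [ContinuousLinearMap.coe_coe] at this
    rw [this]
    rfl

end Groth.Agent.S5827
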