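import Groth.Statements.S5828
import Mathlib
import Groth.Agent.Lib.helper3.Exal

set_option autoImplicit false
universe u v
open EGA41

open H3Exal
namespace Groth.Agent.S5828

/-- Commutative case. For an A-extension X of C by a C-module L, with middle ring E, projection p and
inclusion i, the A-derivations D : C → L and the self-equivalences of X correspond under D ↦ (x ↦ x
+ i (D (p x))): every derivation defines a self-equivalence with this formula, and every
self-equivalence is of this form for exactly one derivation. (Bijection of sets; the published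
statement also records compatibility with the group laws.) -/
theorem result {A : Type u} {C L : Type v} [CommRing A] [CommRing C] [Algebra A C]
    [AddCommGroup L] [Module C L] [Module A L] [IsScalarTower A C L] (X : Exal.Ext A C L) :
    (∀ D : Derivation A C L, ∃ e : X.Equiv X, ∀ x : X.E, e.toAlgEquiv x = x + X.incl (D (X.proj x))) ∧
      ∀ e : X.Equiv X, ∃! D : Derivation A C L, ∀ x : X.E, e.toAlgEquiv x = x + X.incl (D (X.proj x)) := by
  refine ⟨fun D => ?_, fun e => ?_⟩
  · let f : X.E →ₐ[A] X.E :=
      { toFun := fun x => x + X.incl (D (X.proj x))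
        map_one' := by rw [map_one, Derivation.map_one_eq_zero, map_zero, add_zero]
        map_mul' := fun x y => by
          rw [map_mul, Derivation.leibniz, map_add, ← X.isExtension.mul_incl,
            ← X.isExtension.mul_incl]
          have := incl_mul_incl X (D (X.proj x)) (D (X.proj y))
          linear_combination (-1 : X.E) * this
        map_zero' := by rw [map_zero, map_zero, map_zero, add_zero]
        map_add' := fun x y => by rw [map_add, map_add, map_add]; ring
        commutes' := fun a => by
          rw [AlgHom.commutes, Derivation.map_algebraMap, map_zero, add_zero] }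
    have hf : ∀ x, f x = x + X.incl (D (X.proj x)) := fun _ => rfl
    refine ⟨equivOfHom f (fun x => ?_) (fun z => ?_), fun x => rfl⟩
    · rw [hf, map_add, proj_incl, add_zero]
    · rw [hf, proj_incl, map_zero, map_zero, add_zero]
  · have hker : ∀ x, X.proj (e.toAlgEquiv x - x) = 0 := fun x => by
      rw [map_sub, e.proj_apply, sub_self]
    let δ : X.E → L := fun x => X.kerLift _ (hker x)
    have hδ : ∀ x, X.incl (δ x) = e.toAlgEquiv x - x := fun x => X.incl_kerLift _ _
    have hinj := X.isExtension.incl_injective
    have hδincl : ∀ z, δ (X.incl z) = 0 := fun z => hinj (by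
      rw [hδ, e.apply_incl, sub_self, map_zero])
    have hδadd : ∀ x y, δ (x + y) = δ x + δ y := fun x y => hinj (by
      rw [map_add, hδ, hδ, hδ, map_add]; ring)
    have hδfac : ∀ x y, X.proj x = X.proj y → δ x = δ y := fun x y h => by
      obtain ⟨z, hz⟩ := exists_incl_eq_sub X x y h
      have : x = y + X.incl z := by rw [hz]; ring
      rw [this, hδadd, hδincl, add_zero]
    let σ : C → X.E := Function.surjInv X.isExtension.proj_surjective
    have hσ : ∀ c, X.proj (σ c) = c := Function.surjInv_eq _
    let D₀ : C → L := fun c => δ (σ c)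
    have hD₀ : ∀ x, D₀ (X.proj x) = δ x := fun x => hδfac _ _ (hσ _)
    have hδmul : ∀ x y, δ (x * y) = X.proj x • δ y + X.proj y • δ x := fun x y => hinj (by
      rw [map_add, ← X.isExtension.mul_incl, ← X.isExtension.mul_incl, hδ, hδ, hδ, map_mul]
      have h1 := incl_mul_incl X (δ x) (δ y)
      rw [hδ, hδ] at h1
      linear_combination h1)
    have hδsmul : ∀ (a : A) x, δ (a • x) = a • δ x := fun a x => hinj (by
      rw [hδ, map_smul e.toAlgEquiv, ← smul_sub, ← hδ, Algebra.smul_def,
        X.isExtension.mul_incl, AlgHom.commutes, algebraMap_smul])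
    have hD₀add : ∀ c c', D₀ (c + c') = D₀ c + D₀ c' := fun c c' => by
      calc D₀ (c + c') = D₀ (X.proj (σ c + σ c')) := by rw [map_add, hσ, hσ]
        _ = δ (σ c + σ c') := hD₀ _
        _ = δ (σ c) + δ (σ c') := hδadd _ _
    have hD₀mul : ∀ c c', D₀ (c * c') = c • D₀ c' + c' • D₀ c := fun c c' => by
      calc D₀ (c * c') = D₀ (X.proj (σ c * σ c')) := by rw [map_mul, hσ, hσ]
        _ = δ (σ c * σ c') := hD₀ _
        _ = X.proj (σ c) • δ (σ c') + X.proj (σ c') • δ (σ c) := hδmul _ _
        _ = c • D₀ c' + c' • D₀ c := by rw [hσ, hσ]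
    have hD₀smul : ∀ (a : A) c, D₀ (a • c) = a • D₀ c := fun a c => by
      calc D₀ (a • c) = D₀ (X.proj (a • σ c)) := by rw [map_smul, hσ]
        _ = δ (a • σ c) := hD₀ _
        _ = a • δ (σ c) := hδsmul _ _
    let D : Derivation A C L :=
      Derivation.mk' { toFun := D₀, map_add' := hD₀add, map_smul' := hD₀smul } hD₀mul
    have hD : ∀ x, X.incl (D (X.proj x)) = e.toAlgEquiv x - x := fun x => by
      show X.incl (D₀ (X.proj x)) = _
      rw [hD₀, hδ]
    refine ⟨D, fun x => by rw [hD]; ring, fun D' hD' => ?_⟩
    ext c
    obtain ⟨x, rfl⟩ := X.isExtension.proj_surjective c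
    apply hinj
    rw [hD, hD' x]
    ring

end Groth.Agent.S5828
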