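import Groth.Statements.S5831
import Mathlib

set_option autoImplicit false
universe u
open EGA41

namespace Groth.Agent.S5831

/-- Discrete case. Let B be an A-algebra which is a projective A-module (A and B in one universe). If
for every B-module L in that universe every A-bilinear symmetric Hochschild 2-cocycle B × B → L is a
coboundary, then B is formally smooth over A. (The published statement assumes B formally projective
as a topological A-module; for discrete rings this is projectivity.) -/
theorem result {A B : Type u} [CommRing A]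
    [CommRing B] [Algebra A B] [Module.Projective A B]
    (h : ∀ (L : Type u) [AddCommGroup L] [Module B L] [Module A L] [IsScalarTower A B L]
      (f : B →ₗ[A] B →ₗ[A] L), (∀ x y : B, f x y = f y x) →
        (∀ x y z : B, f (x * y) z + z • f x y = x • f y z + f x (y * z)) →
          ∃ g : B →ₗ[A] L, ∀ x y : B, f x y = x • g y - g (x * y) + y • g x) :
    Algebra.FormallySmooth A B := by
  apply Algebra.FormallySmooth.of_comp_surjective
  intro R' _ _ I hI g
  have F1 : ∀ i j : R', i ∈ I → j ∈ I → i * j = 0 := by
    intro i j hi hj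
    have : i * j ∈ I ^ 2 := by rw [pow_two]; exact Ideal.mul_mem_mul hi hj
    rw [hI] at this
    exact this
  obtain ⟨σ, hσ⟩ := Module.projective_lifting_property (Ideal.Quotient.mkₐ A I).toLinearMap
    g.toLinearMap (Ideal.Quotient.mkₐ_surjective A I)
  have hσ' : ∀ x, Ideal.Quotient.mk I (σ x) = g x := fun x => LinearMap.congr_fun hσ x
  have F2 : σ 1 - 1 ∈ I := by
    rw [← Ideal.Quotient.eq]
    simp only [hσ', map_one]
  have F3 : ∀ x y, σ (x * y) - σ x * σ y ∈ I := by
    intro x y
    rw [← Ideal.Quotient.eq]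
    simp only [map_mul, hσ']
  letI modB : Module B I :=
    { smul := fun b i => ⟨σ b * i.1, I.mul_mem_left _ i.2⟩
      one_smul := fun i => Subtype.ext (by
        show σ 1 * i.1 = i.1
        have := F1 _ _ F2 i.2
        linear_combination this)
      mul_smul := fun x y i => Subtype.ext (by
        show σ (x * y) * i.1 = σ x * (σ y * i.1)
        have := F1 _ _ (F3 x y) i.2
        linear_combination this)
      smul_zero := fun b => Subtype.ext (by
        show σ b * (0 : I).1 = (0 : I).1
        simp)
      smul_add := fun b i j => Subtype.ext (by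
        show σ b * (i + j).1 = (σ b * i.1) + (σ b * j.1)
        simp [mul_add])
      add_smul := fun x y i => Subtype.ext (by
        show σ (x + y) * i.1 = σ x * i.1 + σ y * i.1
        rw [map_add, add_mul])
      zero_smul := fun i => Subtype.ext (by
        show σ 0 * i.1 = (0 : I).1
        simp) }
  haveI : IsScalarTower A B I := ⟨fun a b i => Subtype.ext (by
    show σ (a • b) * i.1 = a • (σ b * i.1)
    rw [map_smul, smul_mul_assoc])⟩
  let f : B →ₗ[A] B →ₗ[A] I := LinearMap.mk₂ A (fun x y => ⟨σ (x * y) - σ x * σ y, F3 x y⟩)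
    (fun x₁ x₂ y => Subtype.ext (by
      show σ ((x₁ + x₂) * y) - σ (x₁ + x₂) * σ y =
        (σ (x₁ * y) - σ x₁ * σ y) + (σ (x₂ * y) - σ x₂ * σ y)
      rw [add_mul, map_add, map_add]; ring))
    (fun a x y => Subtype.ext (by
      show σ ((a • x) * y) - σ (a • x) * σ y = a • (σ (x * y) - σ x * σ y)
      rw [smul_mul_assoc, map_smul, map_smul, smul_mul_assoc, smul_sub]))
    (fun x y₁ y₂ => Subtype.ext (by
      show σ (x * (y₁ + y₂)) - σ x * σ (y₁ + y₂) =
        (σ (x * y₁) - σ x * σ y₁) + (σ (x * y₂) - σ x * σ y₂)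
      rw [mul_add, map_add, map_add]; ring))
    (fun a x y => Subtype.ext (by
      show σ (x * (a • y)) - σ x * σ (a • y) = a • (σ (x * y) - σ x * σ y)
      rw [mul_smul_comm, map_smul, map_smul, mul_smul_comm, smul_sub]))
  have hf : ∀ x y, ((f x y : I) : R') = σ (x * y) - σ x * σ y := fun _ _ => rfl
  obtain ⟨g', hg'⟩ := h I f
    (fun x y => Subtype.ext (by rw [hf, hf, mul_comm x y, mul_comm (σ x)]))
    (fun x y z => Subtype.ext (by
      show (f (x * y) z : I).1 + σ z * (f x y : I).1 = σ x * (f y z : I).1 + (f x (y * z) : I).1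
      rw [hf, hf, hf, hf, mul_assoc x y z]; ring))
  have hg'' : ∀ x y, σ (x * y) - σ x * σ y =
      σ x * (g' y).1 - (g' (x * y)).1 + σ y * (g' x).1 := by
    intro x y
    have := congrArg Subtype.val (hg' x y)
    rw [hf] at this
    exact this
  let σ' : B →ₗ[A] R' := σ + (I.subtype.restrictScalars A).comp g'
  have hσ'_apply : ∀ x, σ' x = σ x + (g' x).1 := fun _ => rfl
  have hmul : ∀ x y, σ' (x * y) = σ' x * σ' y := by
    intro x y
    rw [hσ'_apply, hσ'_apply, hσ'_apply]
    have e1 := hg'' x y
    have e2 := F1 _ _ (g' x).2 (g' y).2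
    linear_combination e1 - e2
  have hone : σ' 1 = 1 := by
    have hi : σ' 1 - 1 ∈ I := by
      rw [hσ'_apply]
      have : σ 1 + (g' 1).1 - 1 = (σ 1 - 1) + (g' 1).1 := by ring
      rw [this]; exact I.add_mem F2 (g' 1).2
    have h_sq := F1 _ _ hi hi
    have h_idem : σ' 1 * σ' 1 = σ' 1 := by rw [← hmul, mul_one]
    linear_combination h_idem - h_sq
  refine ⟨AlgHom.ofLinearMap σ' hone hmul, ?_⟩
  ext x
  show Ideal.Quotient.mk I (σ' x) = g x
  rw [hσ'_apply, map_add, hσ', Ideal.Quotient.eq_zero_iff_mem.mpr (g' x).2, add_zero]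

end Groth.Agent.S5831
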