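import Groth.Statements.S5832
import Mathlib
import Groth.Agent.Lib.helper3.Exal

set_option autoImplicit false
universe u u' v
open EGA41

open H3Exal
namespace Groth.Agent.S5832

/-- Surjectivity at the end of the sequence. For ring maps Λ → A → B → C and a C-module L, every
Λ-trivial A-extension of B by L is equivalent to the inverse image along B → C of a Λ-trivial
A-extension of C by L. (Exactness at the other places is that of the six-term derivation-extension
sequence restricted to Λ-trivial classes.) -/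
theorem result {Λ : Type u} {A : Type u'} {B C L : Type v}
    [CommRing Λ] [CommRing A] [CommRing B] [CommRing C] [Algebra Λ A] [Algebra Λ B] [Algebra Λ C]
    [Algebra A B] [Algebra B C] [Algebra A C] [IsScalarTower Λ A B] [IsScalarTower Λ A C] [IsScalarTower A B C]
    [AddCommGroup L] [Module C L] [Module B L] [IsScalarTower B C L]
    (Y : Exal.Ext A B L) (hY : Y.IsTrivialOver Λ) :
    ∃ X : Exal.Ext A C L, X.IsTrivialOver Λ ∧ Nonempty ((X.pullback B).Equiv Y) := by
  obtain ⟨s, hs⟩ := hY
  let s' : B → Y.E := fun b => s b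
  have hs' : ∀ b, Y.proj (s' b) = b := hs
  have s'_one : s' 1 = 1 := map_one s
  have s'_zero : s' 0 = 0 := map_zero s
  have s'_mul : ∀ x y, s' (x * y) = s' x * s' y := map_mul s
  have s'_add : ∀ x y, s' (x + y) = s' x + s' y := map_add s
  have s'_alg : ∀ l : Λ, s' (algebraMap Λ B l) = algebraMap A Y.E (algebraMap Λ A l) :=
    fun l => s.commutes l
  let σ : A → Y.E := fun a => s' (algebraMap A B a)
  have hσdef : ∀ a, σ a = s' (algebraMap A B a) := fun _ => rfl
  have hσ : ∀ a, Y.proj (σ a) = algebraMap A B a := fun a => hs' _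
  have hσmul : ∀ x y, σ (x * y) = σ x * σ y := fun x y => by rw [hσdef, map_mul, s'_mul]
  have hσadd : ∀ x y, σ (x + y) = σ x + σ y := fun x y => by rw [hσdef, map_add, s'_add]
  have hσalg : ∀ l : Λ, σ (algebraMap Λ A l) = algebraMap A Y.E (algebraMap Λ A l) := fun l => by
    rw [hσdef, ← IsScalarTower.algebraMap_apply Λ A B, s'_alg]
  have hker : ∀ a, Y.proj (algebraMap A Y.E a - σ a) = 0 := fun a => by
    rw [map_sub, hσ, AlgHom.commutes, sub_self]
  let δ : A → L := fun a => Y.kerLift _ (hker a)
  have hδ : ∀ a, Y.incl (δ a) = algebraMap A Y.E a - σ a := fun a => Y.incl_kerLift _ _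
  have hinj := Y.isExtension.incl_injective
  have hsmulC : ∀ (b : B) (z : L) (e : Y.E), Y.proj e = b →
      Y.incl (algebraMap B C b • z) = e * Y.incl z := fun b z e he => by
    rw [Y.isExtension.mul_incl, he, algebraMap_smul]
  let dd : DerData A C L :=
    { d := δ
      map_add := fun x y => hinj (by rw [map_add, hδ, hδ, hδ, map_add, hσadd]; ring)
      map_mul := fun x y => hinj (by
        rw [map_add, IsScalarTower.algebraMap_apply A B C x,
          IsScalarTower.algebraMap_apply A B C y,
          hsmulC _ _ (algebraMap A Y.E x) (Y.proj.commutes x), hsmulC _ _ (σ y) (hσ y),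
          hδ, hδ, hδ, map_mul, hσmul]
        ring) }
  have hdd : ∀ a, dd.d a = δ a := fun _ => rfl
  have h0 : ∀ l : Λ, dd.d (algebraMap Λ A l) = 0 := fun l => hinj (by
    rw [hdd, hδ, hσalg, sub_self, map_zero])
  refine ⟨ofDerData dd, isTrivialOver_ofDerData dd Λ h0, ?_⟩
  have hw : ∀ w : (ofDerData dd).fiberProd B, efst dd w.1.1 = algebraMap B C w.1.2 :=
    fun w => w.2
  let g : ((ofDerData dd).pullback B).E →ₐ[A] Y.E :=
    { toFun := fun (w : (ofDerData dd).fiberProd B) => s' w.1.2 + Y.incl (esnd dd w.1.1)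
      map_one' := by
        show s' 1 + Y.incl (esnd dd 1) = 1
        rw [esnd_one, map_zero, add_zero, s'_one]
      map_mul' := fun (w w' : (ofDerData dd).fiberProd B) => by
        show s' (w.1.2 * w'.1.2) + Y.incl (esnd dd (w.1.1 * w'.1.1)) =
          (s' w.1.2 + Y.incl (esnd dd w.1.1)) * (s' w'.1.2 + Y.incl (esnd dd w'.1.1))
        have e1 : esnd dd (w.1.1 * w'.1.1) =
            efst dd w.1.1 • esnd dd w'.1.1 + efst dd w'.1.1 • esnd dd w.1.1 := rfl
        rw [e1, hw w, hw w', map_add, hsmulC _ _ (s' w.1.2) (hs' _),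
          hsmulC _ _ (s' w'.1.2) (hs' _), s'_mul]
        have := incl_mul_incl Y (esnd dd w.1.1) (esnd dd w'.1.1)
        linear_combination (-1 : Y.E) * this
      map_zero' := by
        show s' 0 + Y.incl (esnd dd 0) = 0
        rw [esnd_zero, map_zero, add_zero, s'_zero]
      map_add' := fun (w w' : (ofDerData dd).fiberProd B) => by
        show s' (w.1.2 + w'.1.2) + Y.incl (esnd dd (w.1.1 + w'.1.1)) =
          (s' w.1.2 + Y.incl (esnd dd w.1.1)) + (s' w'.1.2 + Y.incl (esnd dd w'.1.1))
        have e1 : esnd dd (w.1.1 + w'.1.1) = esnd dd w.1.1 + esnd dd w'.1.1 := rfl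
        rw [e1, map_add, s'_add]; ring
      commutes' := fun a => by
        show s' (algebraMap A B a) + Y.incl (esnd dd (algebraMap A (DerCarrier' dd) a)) =
          algebraMap A Y.E a
        rw [esnd_algebraMap, hdd, hδ]; ring }
  refine ⟨equivOfHom g (fun (w : (ofDerData dd).fiberProd B) => ?_) (fun z => ?_)⟩
  · show Y.proj (s' w.1.2 + Y.incl (esnd dd w.1.1)) = w.1.2
    rw [map_add, hs', proj_incl, add_zero]
  · show s' 0 + Y.incl (esnd dd (emk dd 0 z)) = Y.incl z
    rw [esnd_emk, s'_zero, zero_add]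

end Groth.Agent.S5832
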