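import Groth.Statements.S5833
import Mathlib
import Groth.Agent.Lib.helper3.ExalChar2

set_option autoImplicit false
universe u v
open scoped TensorProduct
open EGA41

open H3Exal KaehlerDifferential
namespace Groth.Agent.S5833

/-- Let Λ → A → B be ring maps, K an ideal of B, C = B ⧸ K, and suppose E = B ⧸ K², as an extension of C
by K/K², is Λ-trivial. Let χ : Υ_{C/A/Λ} → K/K² be the characteristic homomorphism of E as an
A-extension, relative to Λ → A. Then: (a) the kernel of χ consists of the elements of Υ_{C/A/Λ} ⊆ C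
⊗_A Ω_{A/Λ} whose image in C ⊗_B Ω_{B/Λ} is zero (that image map is written as the base change to C
of B ⊗_A Ω_{A/Λ} → Ω_{B/Λ}, through the canonical identification C ⊗_B (B ⊗_A Ω_{A/Λ}) = C ⊗_A
Ω_{A/Λ}); (b) the image of χ is the kernel of the conormal map K/K² → C ⊗_B Ω_{B/A}, x ↦ 1 ⊗ dx.
This is the exact sequence 0 → Υ^C_{B/A/Λ} → Υ_{C/A/Λ} → K/K² → C ⊗_B Ω_{B/A} → Ω_{C/A} → 0 up to
its last two (conormal-sequence) terms. -/
theorem result {Λ : Type u} {A B : Type v} [CommRing Λ]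
    [CommRing A] [CommRing B] [Algebra Λ A] [Algebra Λ B] [Algebra A B] [IsScalarTower Λ A B] (K : Ideal B)
    (htriv : ((Exal.Ext.infinitesimal K).restrictBase A).IsTrivialOver Λ)
    (χ : ↥(EGA41.imperfection Λ A (B ⧸ K)) →ₗ[B ⧸ K] K.Cotangent)
    (hχ : ((Exal.Ext.infinitesimal K).restrictBase A).IsCharHom Λ χ) :
    (∀ z : ↥(EGA41.imperfection Λ A (B ⧸ K)),
        χ z = 0 ↔
          ((KaehlerDifferential.mapBaseChange Λ A B).baseChange (B ⧸ K))
              ((TensorProduct.AlgebraTensorModule.cancelBaseChange A B (B ⧸ K) (B ⧸ K) Ω[A⁄Λ]).symm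
                (z : (B ⧸ K) ⊗[A] Ω[A⁄Λ])) = 0) ∧
      ∀ (x : B) (hx : x ∈ K),
        K.toCotangent ⟨x, hx⟩ ∈ LinearMap.range χ ↔
          (1 : B ⧸ K) ⊗ₜ[B] KaehlerDifferential.D A B x = (0 : (B ⧸ K) ⊗[B] Ω[B⁄A]) := by
  obtain ⟨gA, hgA⟩ := exists_section htriv
  have hχ' := (isCharHom_iff Λ ((Exal.Ext.infinitesimal K).restrictBase A) gA hgA χ).1 hχ
  have hfac := charMap_restrict_eq Λ K gA hgA
  have hfac' : ∀ z', charMap Λ ((Exal.Ext.infinitesimal K).restrictBase A) gA hgA z' =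
      charMap Λ (Exal.Ext.infinitesimal K) (secB Λ K gA) (secB_spec Λ K gA hgA)
        (theta Λ K z') := fun z' => by rw [hfac]; rfl
  have hθmem : ∀ z' : (B ⧸ K) ⊗[A] Ω[A⁄Λ], z' ∈ EGA41.imperfection Λ A (B ⧸ K) →
      theta Λ K z' ∈ EGA41.imperfection Λ B (B ⧸ K) := fun z' hz' => by
    show mapBaseChange Λ B (B ⧸ K) (theta Λ K z') = 0
    rw [mapBaseChange_theta]; exact hz'
  constructor
  · intro z
    rw [hχ' z, hfac' z.1]
    show _ ↔ theta Λ K z.1 = 0
    constructor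
    · intro h0
      exact inf_injective Λ K _ _ _ (hθmem z.1 z.2) h0
    · intro h0; rw [h0, map_zero]
  · intro x hx
    constructor
    · rintro ⟨z, hz⟩
      have h1 : charMap Λ (Exal.Ext.infinitesimal K) (secB Λ K gA) (secB_spec Λ K gA hgA)
          (theta Λ K z.1 - (1 : B ⧸ K) ⊗ₜ[B] D Λ B x) = 0 := by
        rw [map_sub, ← hfac' z.1, ← hχ' z, hz, inf_keyF Λ K _ _ x hx, sub_self]
      have h2 : theta Λ K z.1 - (1 : B ⧸ K) ⊗ₜ[B] D Λ B x = 0 :=
        inf_injective Λ K _ _ _ (sub_mem (hθmem z.1 z.2) (inf_mem Λ K x hx)) h1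
      have h3 : theta Λ K z.1 = (1 : B ⧸ K) ⊗ₜ[B] D Λ B x := sub_eq_zero.1 h2
      have h4 := baseChange_map_theta Λ K z.1
      rw [h3, LinearMap.baseChange_tmul, KaehlerDifferential.map_D] at h4
      exact h4
    · intro h0
      have hex := lTensor_exact (B ⧸ K) (KaehlerDifferential.exact_mapBaseChange_map Λ A B)
        (KaehlerDifferential.map_surjective Λ A B)
      have h1 : (KaehlerDifferential.map Λ A B B).lTensor (B ⧸ K)
          ((1 : B ⧸ K) ⊗ₜ[B] D Λ B x) = 0 := by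
        rw [LinearMap.lTensor_tmul, KaehlerDifferential.map_D]; exact h0
      obtain ⟨y', hy'⟩ := (hex _).1 h1
      have hθy : theta Λ K
          (TensorProduct.AlgebraTensorModule.cancelBaseChange A B (B ⧸ K) (B ⧸ K) Ω[A⁄Λ] y') =
          (1 : B ⧸ K) ⊗ₜ[B] D Λ B x := by
        rw [theta_apply, LinearEquiv.symm_apply_apply]
        exact hy'
      have hymem : TensorProduct.AlgebraTensorModule.cancelBaseChange A B (B ⧸ K) (B ⧸ K)
          Ω[A⁄Λ] y' ∈ EGA41.imperfection Λ A (B ⧸ K) := by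
        show mapBaseChange Λ A (B ⧸ K) _ = 0
        rw [← mapBaseChange_theta, hθy]
        exact inf_mem Λ K x hx
      refine ⟨⟨_, hymem⟩, ?_⟩
      rw [hχ', hfac', hθy, inf_keyF]

end Groth.Agent.S5833
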