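import Groth.Statements.S5834
import Mathlib
import Groth.Agent.Lib.helper3.ExalChar2
import Groth.Agent.S5833

set_option autoImplicit false
universe u v
open EGA41

open H3Exal KaehlerDifferential
open scoped TensorProduct
namespace Groth.Agent.S5834

/-- Let Λ → A → B be ring maps with B formally smooth over A, K an ideal of B, C = B ⧸ K, and suppose E
= B ⧸ K², as an extension of C by K/K², is Λ-trivial. Then the characteristic homomorphism χ :
Υ_{C/A/Λ} → K/K² of E as an A-extension relative to Λ → A is injective (so that, with the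
description of its image as the kernel of K/K² → C ⊗_B Ω_{B/A}, the sequence 0 → Υ_{C/A/Λ} → K/K² →
C ⊗_B Ω_{B/A} → Ω_{C/A} → 0 is exact). -/
theorem result {Λ : Type u} {A B : Type v} [CommRing Λ]
    [CommRing A] [CommRing B] [Algebra Λ A] [Algebra Λ B] [Algebra A B] [IsScalarTower Λ A B]
    [Algebra.FormallySmooth A B] (K : Ideal B)
    (htriv : ((Exal.Ext.infinitesimal K).restrictBase A).IsTrivialOver Λ)
    (χ : ↥(EGA41.imperfection Λ A (B ⧸ K)) →ₗ[B ⧸ K] K.Cotangent)
    (hχ : ((Exal.Ext.infinitesimal K).restrictBase A).IsCharHom Λ χ) :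
    Function.Injective χ := by
  have hA := (Groth.Agent.S5833.result K htriv χ hχ).1
  have hinj : Function.Injective (mapBaseChange Λ A B) := by
    rw [injective_iff_map_eq_zero]
    intro x hx
    obtain ⟨y, rfl⟩ := (Algebra.H1Cotangent.exact_δ_mapBaseChange Λ A B x).mp hx
    rw [Subsingleton.elim y 0, map_zero]
  obtain ⟨σ, hσ⟩ := Module.projective_lifting_property (KaehlerDifferential.map Λ A B B)
    LinearMap.id (KaehlerDifferential.map_surjective Λ A B)
  have hσ' : ∀ ω, KaehlerDifferential.map Λ A B B (σ ω) = ω := fun ω => LinearMap.congr_fun hσ ω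
  let P₀ : Ω[B⁄Λ] →ₗ[B] Ω[B⁄Λ] := LinearMap.id - σ.comp (KaehlerDifferential.map Λ A B B)
  have hP₀ : ∀ ω, P₀ ω = ω - σ (KaehlerDifferential.map Λ A B B ω) := fun _ => rfl
  have hP₀mem : ∀ ω, P₀ ω ∈ LinearMap.range (mapBaseChange Λ A B) := fun ω => by
    rw [KaehlerDifferential.range_mapBaseChange, LinearMap.mem_ker, hP₀, map_sub, hσ', sub_self]
  let e := LinearEquiv.ofInjective (mapBaseChange Λ A B) hinj
  let ρ : Ω[B⁄Λ] →ₗ[B] B ⊗[A] Ω[A⁄Λ] :=
    e.symm.toLinearMap.comp (LinearMap.codRestrict _ P₀ hP₀mem)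
  have hρ : ρ.comp (mapBaseChange Λ A B) = LinearMap.id := by
    apply LinearMap.ext
    intro t
    show e.symm (LinearMap.codRestrict _ P₀ hP₀mem (mapBaseChange Λ A B t)) = t
    rw [LinearEquiv.symm_apply_eq]
    apply Subtype.ext
    show P₀ (mapBaseChange Λ A B t) = mapBaseChange Λ A B t
    have h0 : KaehlerDifferential.map Λ A B B (mapBaseChange Λ A B t) = 0 :=
      (KaehlerDifferential.exact_mapBaseChange_map Λ A B).apply_apply_eq_zero t
    rw [hP₀, h0, map_zero, sub_zero]
  have hbc : Function.Injective ((mapBaseChange Λ A B).baseChange (B ⧸ K)) := by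
    have hcomp : (ρ.baseChange (B ⧸ K)).comp ((mapBaseChange Λ A B).baseChange (B ⧸ K)) =
        LinearMap.id := by
      rw [← LinearMap.baseChange_comp, hρ, LinearMap.baseChange_id]
    exact Function.LeftInverse.injective (g := ρ.baseChange (B ⧸ K))
      (fun t => LinearMap.congr_fun hcomp t)
  rw [injective_iff_map_eq_zero]
  intro z hz
  have h1 := (hA z).1 hz
  have h2 := hbc (h1.trans (map_zero _).symm)
  apply Subtype.ext
  exact (LinearEquiv.map_eq_zero_iff _).1 h2

end Groth.Agent.S5834
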