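import Groth.Statements.S5838
import Groth.Agent.Lib.helper3.ComplLeftInv
import Groth.Agent.S5826

set_option autoImplicit false
universe u v w
open EGA41

namespace Groth.Agent.S5838

/-- Let A be a topological ring with a countable decreasing fundamental system (𝔍_n) of open ideals, M
and N topological A-modules with the topologies deduced from that of A, M Hausdorff and complete,
and u : M → N a continuous linear map such that for every n the cokernel of M/𝔍_n M → N/𝔍_n N is a
projective (A/𝔍_n)-module. Then u is formally left invertible if and only if it has a linear left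
inverse. (The published statement adds that u is then a topological isomorphism onto a topological
direct factor.) -/
theorem result {A : Type u} {M : Type v} {N : Type w}
    [CommRing A] [TopologicalSpace A] [AddCommGroup M] [Module A M] [UniformSpace M] [IsUniformAddGroup M]
    [CompleteSpace M] [T2Space M] [AddCommGroup N] [Module A N] [TopologicalSpace N]
    (𝔍 : ℕ → Ideal A) (h𝔍open : ∀ n, IsOpen (𝔍 n : Set A)) (h𝔍anti : Antitone 𝔍)
    (h𝔍basis : (nhds (0 : A)).HasBasis (fun _ : ℕ => True) (fun n => (𝔍 n : Set A)))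
    (hM : TopMod.IsDeduced A M) (hN : TopMod.IsDeduced A N) (u : M →L[A] N)
    (hcoker : ∀ n, Module.Projective (A ⧸ 𝔍 n)
      ((N ⧸ LinearMap.range u.toLinearMap) ⧸ (𝔍 n • (⊤ : Submodule A (N ⧸ LinearMap.range u.toLinearMap))))) :
    TopMod.IsFormallyLeftInvertible u ↔ ∃ w : N →ₗ[A] M, ∀ x : M, w (u x) = x := by
  constructor
  · intro hfl
    have h26 := (Groth.Agent.S5826.result hM hN u).1 hfl
    obtain ⟨w, hw⟩ := H3Compl.exists_leftInv 𝔍 h𝔍open h𝔍anti h𝔍basis hM (u : M →ₗ[A] N) hcoker
      (fun n => by
        obtain ⟨w, hw⟩ := h26 (𝔍 n) (h𝔍open n)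
        exact ⟨w, fun x => hw x⟩)
    exact ⟨w, fun x => hw x⟩
  · rintro ⟨w, hw⟩
    intro E _ _ _ _ v
    obtain ⟨J, hJ, hle⟩ := H3TopMod.exists_le_ker hM v
    have hle' : (J • ⊤ : Submodule A N) ≤ LinearMap.ker ((v : M →ₗ[A] E) ∘ₗ w) := by
      rw [Submodule.smul_le]
      intro a ha y _
      rw [LinearMap.mem_ker, LinearMap.comp_apply, map_smul]
      exact hle (Submodule.smul_mem_smul ha Submodule.mem_top)
    have hcont : Continuous ((v : M →ₗ[A] E) ∘ₗ w) :=
      H3TopMod.continuous_of_le_ker hN _ J hJ hle'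
    refine ⟨⟨(v : M →ₗ[A] E) ∘ₗ w, hcont⟩, fun x => ?_⟩
    show v (w (u x)) = v x
    rw [hw]

end Groth.Agent.S5838
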