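import Groth.Statements.S5939
import Mathlib

set_option autoImplicit false
universe u
open CategoryTheory AlgebraicGeometry
open Unram17

namespace Groth.Agent.S5939

open CategoryTheory.Limits

theorem qc_of_pullback_fst {X Y Z : Scheme.{u}} (f : X ⟶ Z) (g : Y ⟶ Z) [Surjective f]
    [QuasiCompact f] [QuasiCompact (pullback.fst f g)] : QuasiCompact g := by
  constructor
  intro U hU hUc
  have h1 : IsCompact ((pullback.fst f g) ⁻¹' (f ⁻¹' U)) :=
    QuasiCompact.isCompact_preimage _ (hU.preimage f.continuous)
      (QuasiCompact.isCompact_preimage _ hU hUc)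
  have h2 : g ⁻¹' U = (pullback.snd f g) '' ((pullback.fst f g) ⁻¹' (f ⁻¹' U)) := by
    ext y
    constructor
    · intro hy
      obtain ⟨x, hx⟩ := f.surjective (g y)
      obtain ⟨z, hz1, hz2⟩ := Scheme.Pullback.exists_preimage_pullback (f := f) (g := g) x y hx
      refine ⟨z, ?_, hz2⟩
      simp only [Set.mem_preimage]
      rw [hz1, hx]
      exact hy
    · rintro ⟨z, hz, rfl⟩
      have h3 : f (pullback.fst f g z) = g (pullback.snd f g z) := by
        rw [← Scheme.Hom.comp_apply, ← Scheme.Hom.comp_apply, pullback.condition]
      simp only [Set.mem_preimage] at hz ⊢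
      rw [← h3]
      exact hz
  rw [h2]
  exact h1.image (pullback.snd f g).continuous

theorem qc_of_isPullback {P X Y Z : Scheme.{u}} {fst : P ⟶ X} {snd : P ⟶ Y} {f : X ⟶ Z}
    {g : Y ⟶ Z} (h : IsPullback fst snd f g) [Surjective f] [QuasiCompact f] [QuasiCompact fst] :
    QuasiCompact g := by
  have e1 : pullback.fst f g = h.isoPullback.inv ≫ fst := by simp
  haveI : QuasiCompact (pullback.fst f g) := by rw [e1]; infer_instance
  exact qc_of_pullback_fst f g

/-- Let f : X ⟶ Y be faithfully flat, locally of finite presentation and quasi-compact, and let g : Y ⟶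
Z be a morphism such that f ≫ g is of finite presentation (locally of finite presentation,
quasi-compact and quasi-separated). Then g is quasi-compact and quasi-separated; together with the
descent of local finite presentation along f this says that g is of finite presentation. This is the
case f quasi-compact. -/
theorem result {X Y Z : Scheme.{u}} (f : X ⟶ Y) (g : Y ⟶ Z)
    [Surjective f] [Flat f] [LocallyOfFinitePresentation f] [QuasiCompact f]
    [LocallyOfFinitePresentation (f ≫ g)] [QuasiCompact (f ≫ g)] [QuasiSeparated (f ≫ g)] :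
    QuasiCompact g ∧ QuasiSeparated g := by
  constructor
  · constructor
    intro U hU hUc
    have h1 : IsCompact ((f ≫ g) ⁻¹' U) := QuasiCompact.isCompact_preimage _ hU hUc
    have h2 : g ⁻¹' U = f '' ((f ≫ g) ⁻¹' U) := by
      ext y
      constructor
      · intro hy
        obtain ⟨x, rfl⟩ := f.surjective y
        refine ⟨x, ?_, rfl⟩
        simp only [Set.mem_preimage] at hy ⊢
        rw [Scheme.Hom.comp_apply]
        exact hy
      · rintro ⟨x, hx, rfl⟩
        simp only [Set.mem_preimage] at hx ⊢
        rw [Scheme.Hom.comp_apply] at hx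
        exact hx
    rw [h2]
    exact h1.image f.continuous
  · have sq := pullback_map_diagonal_isPullback f f g
    have hQ : (@Surjective ⊓ @QuasiCompact : MorphismProperty Scheme.{u})
        (pullback.map (f ≫ g) (f ≫ g) g g f f (𝟙 _) (Category.comp_id _) (Category.comp_id _)) :=
      MorphismProperty.pullbackMap (P := @Surjective ⊓ @QuasiCompact)
        ⟨inferInstance, inferInstance⟩ ⟨inferInstance, inferInstance⟩ rfl rfl
    haveI : Surjective
        (pullback.map (f ≫ g) (f ≫ g) g g f f (𝟙 _) (Category.comp_id _) (Category.comp_id _)) :=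
      hQ.1
    haveI : QuasiCompact
        (pullback.map (f ≫ g) (f ≫ g) g g f f (𝟙 _) (Category.comp_id _) (Category.comp_id _)) :=
      hQ.2
    have hm : pullback.mapDesc f f g ≫ pullback.fst (f ≫ g) (f ≫ g) = pullback.fst f f := by
      delta pullback.mapDesc pullback.map
      rw [pullback.lift_fst, Category.comp_id]
    haveI : QuasiCompact (pullback.mapDesc f f g ≫ pullback.fst (f ≫ g) (f ≫ g)) := by
      rw [hm]; infer_instance
    haveI : QuasiCompact (pullback.mapDesc f f g) :=
      QuasiCompact.of_comp (pullback.mapDesc f f g) (pullback.fst (f ≫ g) (f ≫ g))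
    haveI : QuasiCompact (pullback.diagonal g) := qc_of_isPullback sq.flip
    exact ⟨inferInstance⟩

end Groth.Agent.S5939
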