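import Groth.Statements.S5998
import Groth.Agent.Lib.helper3.Jacobian

set_option autoImplicit false
universe u
open SGA1

namespace Groth.Agent.S5998

open TensorProduct in
/-- Let R be a Noetherian ring, A a smooth R-algebra, I an ideal of A, P a prime ideal of A/I and q its
preimage in A. Then A/I is smooth over R at P (that is, the local ring of A/I at P is formally
smooth over R) exactly when there are finitely many elements g_1, ..., g_p of I generating the ideal
I·A_q whose differentials dg_i have linearly independent images in κ(q) ⊗_A Ω_{A/R}. -/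
theorem result
    (R A : Type u) [CommRing R] [CommRing A] [IsNoetherianRing R] [Algebra R A] [Algebra.Smooth R A]
    (I : Ideal A) (P : Ideal (A ⧸ I)) [P.IsPrime] :
    letI q : Ideal A := P.comap (Ideal.Quotient.mk I)
    Algebra.IsSmoothAt R P ↔ ∃ s : Finset A, (↑s : Set A) ⊆ (I : Set A) ∧
      Ideal.map (algebraMap A (Localization.AtPrime q)) I =
        Ideal.span ((algebraMap A (Localization.AtPrime q)) '' (↑s : Set A)) ∧
      LinearIndependent q.ResidueField
        (fun g : ↥s => (1 : q.ResidueField) ⊗ₜ[A] KaehlerDifferential.D R A (g : A)) := by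
  set q : Ideal A := P.comap (Ideal.Quotient.mk I) with hqdef
  haveI hq : q.IsPrime := Ideal.comap_isPrime _ _
  have hIq : I ≤ q := by
    intro x hx
    show Ideal.Quotient.mk I x ∈ P
    rw [Ideal.Quotient.eq_zero_iff_mem.mpr hx]
    exact P.zero_mem
  have hP : q.map (Ideal.Quotient.mk I) = P :=
    Ideal.map_comap_of_surjective _ Ideal.Quotient.mk_surjective P
  haveI : (q.map (Ideal.Quotient.mk I)).IsPrime := hP ▸ inferInstance
  haveI : Algebra.FormallySmooth R A := Algebra.Smooth.formallySmooth
  haveI : Algebra.FinitePresentation R A := Algebra.Smooth.finitePresentation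
  haveI : IsNoetherianRing A := Algebra.FiniteType.isNoetherianRing R A
  have hI : I.FG := (isNoetherianRing_iff_ideal_fg _).mp inferInstance I
  have key : ∀ (P' : Ideal (A ⧸ I)) (hP' : P' = P) [P'.IsPrime],
      Algebra.FormallySmooth R (Localization.AtPrime P') ↔
        Algebra.FormallySmooth R (Localization.AtPrime P) := by
    intro P' hP' _
    subst hP'
    exact Iff.rfl
  show Algebra.FormallySmooth R (Localization.AtPrime P) ↔ _
  rw [← key _ hP, H3Jac.smooth_iff_inj I q hI]
  classical
  constructor
  · intro h
    obtain ⟨m, f, D', hfI, hgen, hdet⟩ := H3Jac.jac_of_inj I q hIq hI h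
    have hli := H3Jac.li_of_det (A := R) q f D' hdet
    have hinj : Function.Injective f := by
      intro i j hij
      by_contra hne
      apply hdet
      rw [Matrix.det_zero_of_row_eq hne]
      · exact q.zero_mem
      · ext k; simp [hij]
    refine ⟨Finset.univ.image f, ?_, ?_, ?_⟩
    · intro x hx
      simp only [Finset.coe_image, Finset.coe_univ, Set.image_univ, Set.mem_range] at hx
      obtain ⟨i, rfl⟩ := hx
      exact hfI i
    · rw [hgen]
      congr 1
      ext x
      simp only [Set.mem_range, Set.mem_image, Finset.coe_image, Finset.coe_univ, Set.image_univ]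
      constructor
      · rintro ⟨i, rfl⟩
        exact ⟨f i, ⟨i, rfl⟩, rfl⟩
      · rintro ⟨_, ⟨i, rfl⟩, rfl⟩
        exact ⟨i, rfl⟩
    · let e : Fin m ≃ ↥(Finset.univ.image f) :=
        Equiv.ofBijective (fun i => ⟨f i, Finset.mem_image_of_mem f (Finset.mem_univ i)⟩)
          ⟨fun i j hij => hinj (Subtype.ext_iff.mp hij), fun ⟨x, hx⟩ => by
            obtain ⟨i, -, rfl⟩ := Finset.mem_image.mp hx
            exact ⟨i, rfl⟩⟩
      exact (linearIndependent_equiv e).mp hli
  · rintro ⟨s, hsI, hgen, hli⟩
    let e := s.equivFin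
    let f : Fin s.card → A := fun i => (e.symm i : A)
    have hli' : LinearIndependent q.ResidueField
        (fun i => (1 : q.ResidueField) ⊗ₜ[A] KaehlerDifferential.D R A (f i)) :=
      (linearIndependent_equiv e.symm).mpr hli
    obtain ⟨D', hdet⟩ := H3Jac.exists_der_of_li (A := R) q f hli'
    refine H3Jac.inj_of_jac I q hIq f (fun i => hsI (e.symm i).2) ?_ D' hdet
    rw [hgen]
    congr 1
    ext x
    simp only [Set.mem_image, Finset.mem_coe, Set.mem_range, f]
    constructor
    · rintro ⟨a, ha, rfl⟩
      exact ⟨e ⟨a, ha⟩, by rw [Equiv.symm_apply_apply]⟩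
    · rintro ⟨i, rfl⟩
      exact ⟨_, (e.symm i).2, rfl⟩

end Groth.Agent.S5998
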