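import Groth.Statements.S6011
import Mathlib

set_option autoImplicit false
universe u
open CategoryTheory AlgebraicGeometry
open SGA1

namespace Groth.Agent.S6011

open CategoryTheory MonoidalCategory CartesianMonoidalCategory MonObj in
theorem aux_S6011 {C : Type*} [Category C] [CartesianMonoidalCategory C] (G X : C) [GrpObj G]
    (act : G ⊗ X ⟶ X) (one_act : (η[G] ▷ X) ≫ act = (λ_ X).hom)
    (mul_act : (μ[G] ▷ X) ≫ act = (α_ G G X).hom ≫ (G ◁ act) ≫ act)
    (hT : IsIso (lift μ[G] (snd G G))) :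
    (∃ e : G ≅ X, μ[G] ≫ e.hom = (G ◁ e.hom) ≫ act) ↔
      (IsIso (lift act (snd G X)) ∧ Nonempty (𝟙_ C ⟶ X)) := by
  constructor
  · rintro ⟨e, he⟩
    refine ⟨?_, ⟨η[G] ≫ e.hom⟩⟩
    have h1 : (G ◁ e.inv) ≫ (G ◁ e.hom) = 𝟙 (G ⊗ X) := by
      rw [← MonoidalCategory.whiskerLeft_comp, e.inv_hom_id, MonoidalCategory.whiskerLeft_id]
    have key : lift act (snd G X) = (G ◁ e.inv) ≫ lift μ[G] (snd G G) ≫ (e.hom ⊗ₘ e.hom) := by
      apply CartesianMonoidalCategory.hom_ext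
      · simp only [Category.assoc, lift_fst, tensorHom_fst, lift_fst_assoc]
        rw [he, reassoc_of% h1]
      · simp only [Category.assoc, lift_snd, tensorHom_snd, lift_snd_assoc, whiskerLeft_snd_assoc,
          e.inv_hom_id, Category.comp_id]
    rw [key]
    infer_instance
  · rintro ⟨hΨ, ⟨x₀⟩⟩
    have hone : ∀ (T : C) (x : T ⟶ X), lift (1 : T ⟶ G) x ≫ act = x := by
      intro T x
      have h1 : lift (1 : T ⟶ G) x = lift (toUnit T) x ≫ (η[G] ▷ X) := by
        rw [lift_whiskerRight, Hom.one_def]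
      rw [h1, Category.assoc, one_act, lift_leftUnitor_hom]
    have hmul : ∀ (T : C) (g h : T ⟶ G) (x : T ⟶ X),
        lift (g * h) x ≫ act = lift g (lift h x ≫ act) ≫ act := by
      intro T g h x
      have h1 : lift (g * h) x = lift (lift g h) x ≫ (μ[G] ▷ X) := by
        rw [lift_whiskerRight, Hom.mul_def]
      rw [h1, Category.assoc, mul_act, lift_lift_associator_hom_assoc, lift_whiskerLeft_assoc]
    obtain ⟨Ψ, hΨdef⟩ : ∃ Ψ : G ⊗ X ⟶ X ⊗ X, Ψ = lift act (snd G X) := ⟨_, rfl⟩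
    haveI : IsIso Ψ := hΨdef ▸ hΨ
    have hΨ1 : Ψ ≫ fst X X = act := by rw [hΨdef, lift_fst]
    have hΨ2 : Ψ ≫ snd X X = snd G X := by rw [hΨdef, lift_snd]
    obtain ⟨io, hiodef⟩ : ∃ io : G ⟶ G ⊗ X, io = lift (𝟙 G) (toUnit G ≫ x₀) := ⟨_, rfl⟩
    obtain ⟨j, hjdef⟩ : ∃ j : X ⟶ X ⊗ X, j = lift (𝟙 X) (toUnit X ≫ x₀) := ⟨_, rfl⟩
    have hio1 : io ≫ fst G X = 𝟙 G := by rw [hiodef, lift_fst]
    have hio2 : io ≫ snd G X = toUnit G ≫ x₀ := by rw [hiodef, lift_snd]
    have hj1 : j ≫ fst X X = 𝟙 X := by rw [hjdef, lift_fst]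
    have hj2 : j ≫ snd X X = toUnit X ≫ x₀ := by rw [hjdef, lift_snd]
    have hpt : ∀ {T : C} (t : T ⟶ 𝟙_ C), t ≫ x₀ = toUnit T ≫ x₀ := by
      intro T t; rw [toUnit_unique t (toUnit T)]
    have h1 : (io ≫ act) ≫ j = io ≫ Ψ := by
      apply CartesianMonoidalCategory.hom_ext
      · rw [Category.assoc, hj1, Category.comp_id, Category.assoc, hΨ1]
      · rw [Category.assoc, hj2, Category.assoc io Ψ, hΨ2, hio2]
        simp only [← Category.assoc]
        exact hpt _
    have hγ : (j ≫ inv Ψ) ≫ Ψ = j := by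
      rw [Category.assoc, IsIso.inv_hom_id, Category.comp_id]
    have hγ1 : (j ≫ inv Ψ) ≫ act = 𝟙 X := by
      rw [← hΨ1, ← Category.assoc, hγ, hj1]
    have hγ2 : (j ≫ inv Ψ) ≫ snd G X = toUnit X ≫ x₀ := by
      rw [← hΨ2, ← Category.assoc, hγ, hj2]
    have h3 : ((j ≫ inv Ψ) ≫ fst G X) ≫ io = j ≫ inv Ψ := by
      apply CartesianMonoidalCategory.hom_ext
      · rw [Category.assoc, hio1, Category.comp_id]
      · rw [Category.assoc, hio2, hγ2]
        simp only [← Category.assoc]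
        exact hpt _
    refine ⟨⟨io ≫ act, (j ≫ inv Ψ) ≫ fst G X, ?_, ?_⟩, ?_⟩
    · rw [← Category.assoc, ← Category.assoc, h1, Category.assoc io, IsIso.hom_inv_id,
        Category.comp_id, hio1]
    · rw [← Category.assoc, h3, hγ1]
    · have hμ : (μ[G] : G ⊗ G ⟶ G) = fst G G * snd G G := by
        rw [Hom.mul_def, lift_fst_snd, Category.id_comp]
      have hcomp : ∀ {T : C} (g : T ⟶ G), g ≫ io = lift g (toUnit T ≫ x₀) := by
        intro T g
        apply CartesianMonoidalCategory.hom_ext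
        · rw [Category.assoc, hio1, Category.comp_id, lift_fst]
        · rw [Category.assoc, hio2, lift_snd, ← Category.assoc]
          exact hpt _
      have hwh : G ◁ (io ≫ act) = lift (fst G G) (snd G G ≫ io ≫ act) := by
        apply CartesianMonoidalCategory.hom_ext
        · rw [whiskerLeft_fst, lift_fst]
        · rw [whiskerLeft_snd, lift_snd]
      rw [hwh, ← Category.assoc μ[G], hcomp, ← Category.assoc (snd G G), hcomp, hμ, hmul]

/-- An S-scheme X with an action of the S-group G is trivial — equivariantly isomorphic over S to G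
acting on itself by translation — if and only if it is formally principal homogeneous (a
pseudo-torsor) and admits a section over S. -/
theorem result {S : Scheme.{u}}
    (G X : Over S) [GrpObj G] (a : AlgGrp.Action G X) :
    Nonempty (NonAbH1.EquivIso (NonAbH1.trivialAction G) a) ↔
      (NonAbH1.IsPseudoTorsorSch a ∧ NonAbH1.HasSectionOver X (𝟙 S)) := by
  have H := aux_S6011 G X a.act a.one_act a.mul_act (NonAbH1.isPseudoTorsorSch_trivialAction G)
  have h1 : Nonempty (NonAbH1.EquivIso (NonAbH1.trivialAction G) a) ↔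
      ∃ e : G ≅ X, MonObj.mul ≫ e.hom = (MonoidalCategory.whiskerLeft G e.hom) ≫ a.act :=
    ⟨fun ⟨h⟩ => ⟨h.iso, h.comm⟩, fun ⟨e, he⟩ => ⟨⟨e, he⟩⟩⟩
  have h2 : NonAbH1.HasSectionOver X (𝟙 S) ↔ Nonempty (MonoidalCategoryStruct.tensorUnit (Over S) ⟶ X) :=
    ⟨fun ⟨s, hs⟩ => ⟨Over.homMk (U := MonoidalCategoryStruct.tensorUnit (Over S)) (V := X) s hs⟩,
      fun ⟨x₀⟩ => ⟨x₀.left, Over.w x₀⟩⟩
  rw [h1, h2]
  exact H

end Groth.Agent.S6011
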