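import Groth.Statements.S6019
-- import your own Groth.Agent.* helpers here

set_option autoImplicit false
open CategoryTheory
universe v₁ v₂ u₁ u₂
open FibCat FibCat.Cleavage

open CategoryTheory CategoryTheory.Functor in
theorem helper3_clv_aux {𝒮 : Type*} {𝒳 : Type*} [Category 𝒮] [Category 𝒳] (p : 𝒳 ⥤ 𝒮) {R S : 𝒮} {a : 𝒳} {f : R ⟶ S}
    (t : Σ' (b : 𝒳) (φ : b ⟶ a), p.IsCartesian f φ) (hc : p.IsCartesian f (𝟙 a)) (h : t = ⟨a, 𝟙 a, hc⟩) :
    ∃ h : t.1 = a, t.2.1 = eqToHom h := by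
  subst h; exact ⟨rfl, rfl⟩
open CategoryTheory CategoryTheory.Functor in
theorem helper3_id_isCartesian {𝒮 : Type*} {𝒳 : Type*} [Category 𝒮] [Category 𝒳] (p : 𝒳 ⥤ 𝒮) {R S : 𝒮} {a : 𝒳}
    (ha : p.obj a = S) (f : R ⟶ S) (h : ∃ e : R = S, f = eqToHom e) : p.IsCartesian f (𝟙 a) := by
  obtain ⟨e, rfl⟩ := h
  subst e
  subst ha
  have : p.IsStronglyCartesian (𝟙 (p.obj a)) (𝟙 a) := inferInstance
  simpa using (inferInstance : p.IsCartesian (𝟙 (p.obj a)) (𝟙 a))
namespace Groth.Agent.S6019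

/-- A pre-fibred category admits a normalised cleavage: if every base morphism `R ⟶ p(a)` has a
cartesian morphism over it with target `a`, then one cartesian lift can be chosen for every base
morphism at every object over its target in such a way that the chosen lift of each identity `𝟙 S`
at each object `a` over `S` is the identity of `a` (identities are transport morphisms). -/
theorem result (𝒮 : Type u₁) (𝒳 : Type u₂) [Category.{v₁} 𝒮] [Category.{v₂} 𝒳]
    (p : 𝒳 ⥤ 𝒮) [p.IsPreFibered] : ∃ K : FibCat.Cleavage p, K.IsNormalised := by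
  classical
  let choice : ∀ {R S : 𝒮} {a : 𝒳} (ha : p.obj a = S) (f : R ⟶ S),
      Σ' (b : 𝒳) (φ : b ⟶ a), p.IsCartesian f φ := fun {R S a} ha f =>
    if h : ∃ e : R = S, f = eqToHom e then ⟨a, 𝟙 a, helper3_id_isCartesian p ha f h⟩
    else ⟨Functor.IsPreFibered.pullbackObj ha f, Functor.IsPreFibered.pullbackMap ha f, inferInstance⟩
  let K : FibCat.Cleavage p :=
    { obj := fun ha f => (choice ha f).1
      lift := fun ha f => (choice ha f).2.1
      isCartesian := fun ha f => (choice ha f).2.2 }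
  refine ⟨K, ?_⟩
  intro S a ha
  have h : ∃ e : S = S, (𝟙 S) = eqToHom e := ⟨rfl, rfl⟩
  exact helper3_clv_aux p (choice ha (𝟙 S)) (helper3_id_isCartesian p ha (𝟙 S) h) (dif_pos h)

end Groth.Agent.S6019
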