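import Groth.Statements.S6120
import Mathlib

set_option autoImplicit false
open CategoryTheory CategoryTheory.Limits Opposite
universe w v₁ v₂ u₁ u₂
open SGA4

namespace Groth.Agent.S6120

/-- Let `I` be a category with a family of objects `i α` (`α : A`) such that every binary product `i α ⨯
i β` exists in `I` and every object of `I` admits a morphism to some `i α`. Let `F : Iᵒᵖ ⥤ C` be a
functor, and assume that `C` has equalizers and that the products `∏ F (i α)` and `∏ F (i α ⨯ i β)`
exist in `C`. Then the limit of `F` exists, the canonical map `lim F ⟶ ∏ F (i α)` is a monomorphism,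
and a map `t : T ⟶ ∏ F (i α)` factors through `lim F` exactly when its composites with the two maps
`∏ F (i α) ⇉ ∏ F (i α ⨯ i β)` induced by the two projections agree: `lim F` is the equalizer of that
pair. (The published statement assumes that `C` has all limits of the size of `A`; only equalizers
and the two products named are assumed here, which is what the equalizer construction uses.) -/
theorem result
    {I : Type u₁} [Category.{v₁} I] {C : Type u₂} [Category.{v₂} C] {A : Type w} (i : A → I)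
    [∀ α β, HasBinaryProduct (i α) (i β)]
    (hcov : ∀ j : I, ∃ α, Nonempty (j ⟶ i α))
    (F : Iᵒᵖ ⥤ C) [HasEqualizers C]
    [HasProduct (fun α => F.obj (op (i α)))]
    [HasProduct (fun p : A × A => F.obj (op (i p.1 ⨯ i p.2)))] :
    HasLimit F ∧ ∀ [HasLimit F],
      Mono (Pi.lift (fun α => limit.π F (op (i α)))) ∧
      ∀ (T : C) (t : T ⟶ ∏ᶜ (fun α => F.obj (op (i α)))),
        (∃ s : T ⟶ limit F, s ≫ Pi.lift (fun α => limit.π F (op (i α))) = t) ↔
        t ≫ Pi.lift (fun p : A × A =>
            Pi.π (fun α => F.obj (op (i α))) p.1 ≫ F.map (prod.fst : i p.1 ⨯ i p.2 ⟶ i p.1).op) =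
        t ≫ Pi.lift (fun p : A × A =>
            Pi.π (fun α => F.obj (op (i α))) p.2 ≫ F.map (prod.snd : i p.1 ⨯ i p.2 ⟶ i p.2).op) := by
  classical
  -- abbreviations
  let P := ∏ᶜ (fun α => F.obj (op (i α)))
  let a : P ⟶ ∏ᶜ (fun p : A × A => F.obj (op (i p.1 ⨯ i p.2))) :=
    Pi.lift (fun p : A × A =>
      Pi.π (fun α => F.obj (op (i α))) p.1 ≫ F.map (prod.fst : i p.1 ⨯ i p.2 ⟶ i p.1).op)
  let b : P ⟶ ∏ᶜ (fun p : A × A => F.obj (op (i p.1 ⨯ i p.2))) :=
    Pi.lift (fun p : A × A =>
      Pi.π (fun α => F.obj (op (i α))) p.2 ≫ F.map (prod.snd : i p.1 ⨯ i p.2 ⟶ i p.2).op)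
  have ha : ∀ α β, a ≫ Pi.π (fun p : A × A => F.obj (op (i p.1 ⨯ i p.2))) (α, β) =
      Pi.π (fun α => F.obj (op (i α))) α ≫ F.map (prod.fst : i α ⨯ i β ⟶ i α).op :=
    fun α β => Pi.lift_π _ _
  have hb : ∀ α β, b ≫ Pi.π (fun p : A × A => F.obj (op (i p.1 ⨯ i p.2))) (α, β) =
      Pi.π (fun α => F.obj (op (i α))) β ≫ F.map (prod.snd : i α ⨯ i β ⟶ i β).op :=
    fun α β => Pi.lift_π _ _
  -- independence
  have indep : ∀ (T : C) (t : T ⟶ P), t ≫ a = t ≫ b → ∀ (x : I) (α β : A) (u : x ⟶ i α)
      (v : x ⟶ i β), t ≫ Pi.π (fun α => F.obj (op (i α))) α ≫ F.map u.op =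
        t ≫ Pi.π (fun α => F.obj (op (i α))) β ≫ F.map v.op := by
    intro T t ht x α β u v
    have hu : u = prod.lift u v ≫ prod.fst := (prod.lift_fst u v).symm
    have hv : v = prod.lift u v ≫ prod.snd := (prod.lift_snd u v).symm
    conv_lhs => rw [hu, op_comp, F.map_comp, ← Category.assoc (Pi.π _ α), ← ha α β]
    conv_rhs => rw [hv, op_comp, F.map_comp, ← Category.assoc (Pi.π _ β), ← hb α β]
    simp only [← Category.assoc]
    rw [ht]
  let αof : I → A := fun x => (hcov x).choose
  let uof : ∀ x : I, x ⟶ i (αof x) := fun x => (hcov x).choose_spec.some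
  -- the cone attached to (T, t)
  let coneOf : ∀ (T : C) (t : T ⟶ P), t ≫ a = t ≫ b → Cone F := fun T t ht =>
    { pt := T
      π :=
        { app := fun j => t ≫ Pi.π (fun α => F.obj (op (i α))) (αof j.unop) ≫
            F.map (uof j.unop).op
          naturality := fun j j' g => by
            simp only [Functor.const_obj_obj, Functor.const_obj_map, Category.id_comp,
              Category.assoc]
            rw [← F.map_comp]
            have : (uof j.unop).op ≫ g = (g.unop ≫ uof j.unop).op := rfl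
            rw [this]
            exact indep T t ht j'.unop _ _ (uof j'.unop) (g.unop ≫ uof j.unop) } }
  have coneOf_π : ∀ (T : C) (t : T ⟶ P) (ht : t ≫ a = t ≫ b) (x : I) (α : A) (u : x ⟶ i α),
      (coneOf T t ht).π.app (op x) = t ≫ Pi.π (fun α => F.obj (op (i α))) α ≫ F.map u.op :=
    fun T t ht x α u => indep T t ht x _ _ (uof x) u
  -- has limit
  have hlim : HasLimit F := by
    have hee : equalizer.ι a b ≫ a = equalizer.ι a b ≫ b := equalizer.condition a b
    refine ⟨⟨⟨coneOf (equalizer a b) (equalizer.ι a b) hee, ?_⟩⟩⟩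
    refine
      { lift := fun s => equalizer.lift (Pi.lift (fun α => s.π.app (op (i α)))) ?_
        fac := fun s j => ?_
        uniq := fun s m hm => ?_ }
    · apply Pi.hom_ext
      rintro ⟨α, β⟩
      rw [Category.assoc, Category.assoc, ha, hb, Pi.lift_π_assoc, Pi.lift_π_assoc]
      rw [s.w, s.w]
    · show _ ≫ equalizer.ι a b ≫ _ ≫ _ = _
      rw [equalizer.lift_ι_assoc, Pi.lift_π_assoc]
      exact s.w (uof j.unop).op
    · apply equalizer.hom_ext
      rw [equalizer.lift_ι]
      apply Pi.hom_ext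
      intro α
      rw [Pi.lift_π, ← hm (op (i α)), coneOf_π _ _ hee (i α) α (𝟙 _)]
      simp
  refine ⟨hlim, ?_⟩
  intro _
  have hπ : ∀ x : I, limit.π F (op (i (αof x))) ≫ F.map (uof x).op = limit.π F (op x) :=
    fun x => limit.w F (uof x).op
  refine ⟨⟨fun {Z} m m' h => ?_⟩, fun T t => ⟨?_, fun ht => ?_⟩⟩
  · apply limit.hom_ext
    intro j
    have hα : ∀ α, m ≫ limit.π F (op (i α)) = m' ≫ limit.π F (op (i α)) := fun α => by
      have := congrArg (· ≫ Pi.π (fun α => F.obj (op (i α))) α) h
      simpa using this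
    have hj : limit.π F j = limit.π F (op (i (αof j.unop))) ≫ F.map (uof j.unop).op :=
      (hπ j.unop).symm
    rw [hj, ← Category.assoc, ← Category.assoc, hα]
  · rintro ⟨s, rfl⟩
    show (s ≫ _) ≫ a = (s ≫ _) ≫ b
    rw [Category.assoc, Category.assoc]
    congr 1
    apply Pi.hom_ext
    rintro ⟨α, β⟩
    rw [Category.assoc, Category.assoc, ha, hb, Pi.lift_π_assoc, Pi.lift_π_assoc, limit.w, limit.w]
  · refine ⟨limit.lift F (coneOf T t ht), ?_⟩
    apply Pi.hom_ext
    intro α
    rw [Category.assoc, Pi.lift_π, limit.lift_π, coneOf_π T t ht (i α) α (𝟙 _)]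
    simp

end Groth.Agent.S6120
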