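import Groth.Statements.S6121
import Mathlib

set_option autoImplicit false
open CategoryTheory
universe v₁ v₂ u₁ u₂
open SGA4

namespace Groth.Agent.S6121

/-- For a fibered functor `p : E ⥤ B` (every morphism of `B` has a cartesian lift with prescribed
codomain, and cartesian morphisms compose), `p` reflects isomorphisms if and only if every fibre
category of `p` (objects over `b`, morphisms lying over the identity of `b`) is a groupoid. -/
theorem result
    {B : Type u₁} [Category.{v₁} B] {E : Type u₂} [Category.{v₂} E] (p : E ⥤ B) [p.IsFibered] :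
    p.ReflectsIsomorphisms ↔ ∀ b : B, IsGroupoid (p.Fiber b) := by
  constructor
  · intro hr b
    constructor
    intro x y φ
    have h1 : p.IsHomLift (𝟙 b) (Functor.Fiber.fiberInclusion.map φ) := inferInstance
    haveI : IsIso (p.map (Functor.Fiber.fiberInclusion.map φ)) := by
      rw [IsHomLift.fac' p (𝟙 b) (Functor.Fiber.fiberInclusion.map φ)]
      infer_instance
    haveI : IsIso (Functor.Fiber.fiberInclusion.map φ) :=
      isIso_of_reflects_iso (Functor.Fiber.fiberInclusion.map φ) p
    haveI : p.IsHomLift (𝟙 b) (inv (Functor.Fiber.fiberInclusion.map φ)) := inferInstance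
    refine ⟨Functor.Fiber.homMk p b (inv (Functor.Fiber.fiberInclusion.map φ)), ?_, ?_⟩
    · apply Functor.Fiber.hom_ext
      exact IsIso.hom_inv_id (Functor.Fiber.fiberInclusion.map φ)
    · apply Functor.Fiber.hom_ext
      exact IsIso.inv_hom_id (Functor.Fiber.fiberInclusion.map φ)
  · intro h
    constructor
    intro x y f hf
    obtain ⟨z, φ, hφ⟩ := IsPreFibered.exists_isCartesian p (a := y) rfl (p.map f)
    haveI := hφ
    haveI : p.IsHomLift (p.map f) f := inferInstance
    have e1 : Functor.IsCartesian.map p (p.map f) φ f ≫ φ = f :=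
      Functor.IsCartesian.fac p (p.map f) φ f
    let m1 := Functor.Fiber.homMk p (p.obj x) (Functor.IsCartesian.map p (p.map f) φ f)
    haveI := h (p.obj x)
    haveI : IsIso m1 := IsGroupoid.all_isIso m1
    haveI : IsIso (Functor.IsCartesian.map p (p.map f) φ f) := by
      have : IsIso (Functor.Fiber.fiberInclusion.map m1) := inferInstance
      exact this
    haveI : IsIso φ := Functor.IsStronglyCartesian.isIso_of_base_isIso p (p.map f) φ
    rw [← e1]; infer_instance

end Groth.Agent.S6121
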