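import Groth.Statements.S6122
import Mathlib

set_option autoImplicit false
open CategoryTheory
universe v₁ v₂ u₁ u₂
open SGA4

namespace Groth.Agent.S6122

/-- For a fibered functor `p : E ⥤ B` (every morphism of `B` has a cartesian lift with prescribed
codomain, and cartesian morphisms compose), `p` is faithful if and only if every fibre category of
`p` (objects over `b`, morphisms lying over the identity of `b`) has at most one morphism between
any two objects. -/
theorem result
    {B : Type u₁} [Category.{v₁} B] {E : Type u₂} [Category.{v₂} E] (p : E ⥤ B) [p.IsFibered] :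
    p.Faithful ↔ ∀ (b : B) (x y : p.Fiber b), Subsingleton (x ⟶ y) := by
  constructor
  · intro hf b x y
    constructor
    intro φ ψ
    apply Functor.Fiber.hom_ext
    apply p.map_injective
    have h1 : p.IsHomLift (𝟙 b) (Functor.Fiber.fiberInclusion.map φ) := inferInstance
    have h2 : p.IsHomLift (𝟙 b) (Functor.Fiber.fiberInclusion.map ψ) := inferInstance
    rw [IsHomLift.fac' p (𝟙 b) (Functor.Fiber.fiberInclusion.map φ),
      IsHomLift.fac' p (𝟙 b) (Functor.Fiber.fiberInclusion.map ψ)]
  · intro h
    constructor
    intro x y f g hfg
    obtain ⟨z, φ, hφ⟩ := IsPreFibered.exists_isCartesian p (a := y) rfl (p.map f)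
    haveI := hφ
    haveI : p.IsHomLift (p.map f) f := inferInstance
    haveI : p.IsHomLift (p.map f) g := by rw [hfg]; infer_instance
    have e1 : Functor.IsCartesian.map p (p.map f) φ f ≫ φ = f := Functor.IsCartesian.fac p (p.map f) φ f
    have e2 : Functor.IsCartesian.map p (p.map f) φ g ≫ φ = g := Functor.IsCartesian.fac p (p.map f) φ g
    let m1 := Functor.Fiber.homMk p (p.obj x) (Functor.IsCartesian.map p (p.map f) φ f)
    let m2 := Functor.Fiber.homMk p (p.obj x) (Functor.IsCartesian.map p (p.map f) φ g)
    have hm : m1 = m2 := Subsingleton.elim _ _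
    have h3 : Functor.IsCartesian.map p (p.map f) φ f = Functor.IsCartesian.map p (p.map f) φ g :=
      congrArg (fun m => Functor.Fiber.fiberInclusion.map m) hm
    rw [← e1, ← e2, h3]

end Groth.Agent.S6122
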