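import Groth.Statements.S6124
-- import your own Groth.Agent.* helpers here

set_option autoImplicit false
open CategoryTheory CategoryTheory.Limits Opposite
universe w v₁ v₂ u₁ u₂
open SGA4

namespace Groth.Agent.S6124

/-- Let `E` have pullbacks, let `P` be a detecting family of objects of `E` (a morphism `f` is
invertible as soon as every map out of an object of `P` factors uniquely through `f`), and let `φ i
: E ⥤ E' i` be functors preserving pullbacks. Then the `φ i` jointly reflect isomorphisms if and
only if, for every `X` with `P X` and every subobject `X'` of `X` other than `⊤`, some `φ i` takes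
the inclusion `X' ⟶ X` to a morphism that is not invertible. -/
theorem result
    {E : Type u₁} [Category.{v₁} E] [HasPullbacks E] (P : ObjectProperty E) (hP : P.IsDetecting)
    {κ : Type w} {E' : κ → Type u₂} [∀ k, Category.{v₂} (E' k)] (φ : ∀ k, E ⥤ E' k)
    [∀ k, PreservesLimitsOfShape WalkingCospan (φ k)] :
    (∀ ⦃X Y : E⦄ (f : X ⟶ Y), (∀ k, IsIso ((φ k).map f)) → IsIso f) ↔
      ∀ (X : E), P X → ∀ (X' : Subobject X), X' ≠ ⊤ → ∃ k, ¬ IsIso ((φ k).map X'.arrow) := by
  -- key lemma: a mono inverted by all φ k is an iso
  have key : (∀ (X : E), P X → ∀ (X' : Subobject X), X' ≠ ⊤ → ∃ k, ¬ IsIso ((φ k).map X'.arrow)) →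
      ∀ ⦃A B : E⦄ (m : A ⟶ B) [Mono m], (∀ k, IsIso ((φ k).map m)) → IsIso m := by
    intro H A B m _ hm
    refine hP m (fun G hG h => existsUnique_of_exists_of_unique ?_ ?_)
    · have hpb : IsPullback (pullback.fst m h) (pullback.snd m h) m h :=
        IsPullback.of_hasPullback m h
      have hiso : ∀ k, IsIso ((φ k).map (pullback.snd m h)) := by
        intro k
        have := hm k
        exact (hpb.map (φ k)).isIso_snd_of_isIso
      have htop : Subobject.mk (pullback.snd m h) = ⊤ := by
        by_contra hne
        obtain ⟨k, hk⟩ := H G hG _ hne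
        apply hk
        have e : (Subobject.mk (pullback.snd m h)).arrow =
            (Subobject.underlyingIso (pullback.snd m h)).hom ≫ pullback.snd m h := by
          simp
        rw [e, Functor.map_comp]
        have := hiso k
        infer_instance
      have hsnd : IsIso (pullback.snd m h) := (Subobject.isIso_iff_mk_eq_top _).2 htop
      refine ⟨inv (pullback.snd m h) ≫ pullback.fst m h, ?_⟩
      rw [Category.assoc, pullback.condition, ← Category.assoc, IsIso.inv_hom_id, Category.id_comp]
    · intro l₁ l₂ h₁ h₂
      rw [← cancel_mono m, h₁, h₂]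
  constructor
  · intro H X _ X' hX'
    by_contra hcon
    push Not at hcon
    have : IsIso X'.arrow := H X'.arrow hcon
    exact hX' (Subobject.eq_top_of_isIso_arrow X')
  · intro H X Y f hf
    have hkey := key H
    -- the diagonal is an iso
    have hpb : IsPullback (pullback.fst f f) (pullback.snd f f) f f :=
      IsPullback.of_hasPullback f f
    have hfst : ∀ k, IsIso ((φ k).map (pullback.fst f f)) := by
      intro k
      have := hf k
      exact (hpb.map (φ k)).isIso_fst_of_isIso
    let d : X ⟶ pullback f f := pullback.lift (𝟙 X) (𝟙 X) rfl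
    have hd1 : d ≫ pullback.fst f f = 𝟙 X := pullback.lift_fst _ _ _
    have hd2 : d ≫ pullback.snd f f = 𝟙 X := pullback.lift_snd _ _ _
    have : Mono d := mono_of_mono_fac hd1
    have hdiso : IsIso d := by
      apply hkey d
      intro k
      have := hfst k
      have e : (φ k).map d ≫ (φ k).map (pullback.fst f f) = 𝟙 _ := by
        rw [← Functor.map_comp, hd1, CategoryTheory.Functor.map_id]
      have : (φ k).map d = inv ((φ k).map (pullback.fst f f)) := by
        rw [← cancel_mono ((φ k).map (pullback.fst f f)), e, IsIso.inv_hom_id]
      rw [this]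
      infer_instance
    have hfs : pullback.fst f f = pullback.snd f f := by
      rw [← cancel_epi d, hd1, hd2]
    have : Mono f := by
      constructor
      intro Z a b hab
      have h1 : pullback.lift a b hab ≫ pullback.fst f f = a := pullback.lift_fst _ _ _
      have h2 : pullback.lift a b hab ≫ pullback.snd f f = b := pullback.lift_snd _ _ _
      rw [← h1, hfs, h2]
    exact hkey f hf

end Groth.Agent.S6124
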