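import Groth.Statements.S6126
import Mathlib

set_option autoImplicit false
open CategoryTheory CategoryTheory.Limits
universe v₁ u₁
open SGA4

namespace Groth.Agent.S6126

/-- Let `E` be a category with `v₁`-small hom-sets admitting a separating family of objects `G t`
indexed by a `v₁`-small type, in which every object admits a monomorphism into an injective object.
Assume that each coproduct `G t ⨿ G t` exists and that every morphism out of `G t ⨿ G t` factors as
an effective epimorphism followed by a monomorphism. Then `E` admits a coseparating family of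
injective objects indexed by a `v₁`-small type. (The published statement moreover bounds the size of
this family in terms of the hom-sets `Hom (G t', G t ⨿ G t)`; only existence is stated here. The
published statement speaks of generating and cogenerating families; its proof uses and produces
joint faithfulness of maps out of, resp. into, the family, which is the sense taken here.) -/
theorem result
    {E : Type u₁} [Category.{v₁} E] {ι : Type v₁} (G : ι → E)
    (hG : (ObjectProperty.ofObj G).IsSeparating)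
    [EnoughInjectives E] [∀ t, HasBinaryCoproduct (G t) (G t)]
    (hfac : ∀ (t : ι) (X : E) (f : G t ⨿ G t ⟶ X),
      ∃ (Y : E) (e : G t ⨿ G t ⟶ Y) (m : Y ⟶ X), EffectiveEpi e ∧ Mono m ∧ e ≫ m = f) :
    ∃ (κ : Type v₁) (H : κ → E),
      (∀ k, Injective (H k)) ∧ (ObjectProperty.ofObj H).IsCoseparating := by
  classical
  let Rel : ι → Type v₁ := fun t => Set (Σ t' : ι, (G t' ⟶ G t ⨿ G t) × (G t' ⟶ G t ⨿ G t))
  let relOf : ∀ (t : ι) (Y : E) (_ : G t ⨿ G t ⟶ Y), Rel t :=
    fun t Y e => {p | p.2.1 ≫ e = p.2.2 ≫ e}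
  have key : ∀ (t : ι) (Y Y' : E) (e : G t ⨿ G t ⟶ Y) (e' : G t ⨿ G t ⟶ Y') (_ : EffectiveEpi e),
      relOf t Y e = relOf t Y' e' → ∃ θ : Y ⟶ Y', e ≫ θ = e' := by
    intro t Y Y' e e' he hrel
    haveI := he
    suffices hcoeq : ∀ {Z : E} (g₁ g₂ : Z ⟶ G t ⨿ G t), g₁ ≫ e = g₂ ≫ e → g₁ ≫ e' = g₂ ≫ e' from
      ⟨EffectiveEpi.desc e e' hcoeq, EffectiveEpi.fac e e' hcoeq⟩
    intro Z g₁ g₂ h
    apply hG
    rintro _ ⟨t'⟩ u
    have hmem : (⟨t', (u ≫ g₁, u ≫ g₂)⟩ :
        Σ t' : ι, (G t' ⟶ G t ⨿ G t) × (G t' ⟶ G t ⨿ G t)) ∈ relOf t Y e := by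
      show (u ≫ g₁) ≫ e = (u ≫ g₂) ≫ e
      rw [Category.assoc, Category.assoc, h]
    rw [hrel] at hmem
    have h' : (u ≫ g₁) ≫ e' = (u ≫ g₂) ≫ e' := hmem
    simpa only [Category.assoc] using h'
  let κ : Type v₁ := Σ t : ι, Rel t
  let good : κ → Prop := fun k =>
    ∃ (Y : E) (e : G k.1 ⨿ G k.1 ⟶ Y), EffectiveEpi e ∧ relOf k.1 Y e = k.2
  let Yk : κ → E := fun k => if h : good k then h.choose else G k.1
  let H : κ → E := fun k => Injective.under (Yk k)
  refine ⟨κ, H, fun k => inferInstance, ?_⟩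
  intro A B f g hfg
  by_contra hne
  obtain ⟨t, u, hu⟩ : ∃ (t : ι) (u : G t ⟶ A), u ≫ f ≠ u ≫ g := by
    by_contra hcon
    push Not at hcon
    apply hne
    apply hG
    rintro _ ⟨t⟩ u
    exact hcon t u
  obtain ⟨Y, e, m, he, hm, hem⟩ := hfac t B (coprod.desc (u ≫ f) (u ≫ g))
  haveI := he
  haveI := hm
  let k : κ := ⟨t, relOf t Y e⟩
  have hgood : good k := ⟨Y, e, he, rfl⟩
  have hYk : Yk k = hgood.choose := dif_pos hgood
  obtain ⟨ek, hek_eff, hek_rel⟩ := hgood.choose_spec
  haveI := hek_eff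
  obtain ⟨θ, hθ⟩ := key t Y _ e ek he hek_rel.symm
  obtain ⟨θ', hθ'⟩ := key t _ Y ek e hek_eff hek_rel
  let j : hgood.choose ⟶ H k := eqToHom hYk.symm ≫ Injective.ι (Yk k)
  haveI : Mono j := show Mono (eqToHom hYk.symm ≫ Injective.ι (Yk k)) from mono_comp _ _
  let h : B ⟶ H k := Injective.factorThru (θ ≫ j) m
  have hh : m ≫ h = θ ≫ j := Injective.comp_factorThru _ _
  have hfgh := hfg (H k) ⟨k⟩ h
  apply hu
  have h1 : coprod.inl ≫ e ≫ m = u ≫ f := by rw [hem, coprod.inl_desc]
  have h2 : coprod.inr ≫ e ≫ m = u ≫ g := by rw [hem, coprod.inr_desc]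
  have e1 : ek ≫ j = e ≫ m ≫ h := by rw [← hθ, Category.assoc, hh]
  have h3 : coprod.inl ≫ ek ≫ j = coprod.inr ≫ ek ≫ j := by
    calc coprod.inl ≫ ek ≫ j = (coprod.inl ≫ e ≫ m) ≫ h := by
          rw [e1]; simp only [Category.assoc] <;> rfl
      _ = u ≫ f ≫ h := by rw [h1, Category.assoc]
      _ = u ≫ g ≫ h := by rw [hfgh]
      _ = (coprod.inr ≫ e ≫ m) ≫ h := by rw [h2, Category.assoc]
      _ = coprod.inr ≫ ek ≫ j := by rw [e1]; simp only [Category.assoc] <;> rfl
  have h4 : coprod.inl ≫ ek = coprod.inr ≫ ek :=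
    (cancel_mono j).mp (by simpa only [Category.assoc] using h3)
  have h5 : coprod.inl ≫ e = coprod.inr ≫ e := by
    rw [← hθ', ← Category.assoc, h4, Category.assoc]
  rw [← h1, ← h2, ← Category.assoc, h5, Category.assoc]

end Groth.Agent.S6126
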