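import Groth.Statements.S6128
import Mathlib

set_option autoImplicit false
open CategoryTheory
universe u
open SGA4

namespace Groth.Agent.S6128

/-- Let `u : C ⥤ C'` be a functor between small sites. If the right Kan extension along `u` of the
underlying presheaf of every sheaf of sets on `C` is a sheaf on `C'`, then `u` is cocontinuous: for
every object `Y` of `C` and every covering sieve `R` of `u Y`, the sieve of morphisms `g : Z ⟶ Y`
with `u g ∈ R` covers `Y`. -/
theorem result
    {C : Type u} [SmallCategory C] {C' : Type u} [SmallCategory C']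
    (J : GrothendieckTopology C) (J' : GrothendieckTopology C') (u : C ⥤ C')
    (h : ∀ G : Sheaf J (Type u), Presheaf.IsSheaf J' ((u.op.ran).obj G.obj)) :
    u.IsCocontinuous J J' := by
  constructor
  intro Y R hR
  have htop : ∀ X : C, J.IsClosed (⊤ : Sieve X) := fun X Y f _ => trivial
  let Gp : Cᵒᵖ ⥤ Type u := (Functor.closedSieves J).toFunctor
  have hGp : Presheaf.IsSheaf J Gp := (isSheaf_iff_isSheaf_of_type J Gp).mpr (classifier_isSheaf J)
  let G : Sheaf J (Type u) := ⟨Gp, hGp⟩
  have hran : Presieve.IsSheaf J' ((u.op.ran).obj Gp) :=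
    (isSheaf_iff_isSheaf_of_type J' _).mp (h G)
  let adj := u.op.ranAdjunction (Type u)
  let α : u.op ⋙ yoneda.obj (u.obj Y) ⟶ Gp :=
    { app := fun Z => TypeCat.ofHom (fun _ => ⟨(⊤ : Sieve Z.unop), htop _⟩)
      naturality := by
        intro Z Z' g
        ext f
        apply Subtype.ext
        show (⊤ : Sieve Z'.unop) = (⊤ : Sieve Z.unop).pullback g.unop
        exact (Sieve.pullback_top).symm }
  let β : u.op ⋙ yoneda.obj (u.obj Y) ⟶ Gp :=
    { app := fun Z => TypeCat.ofHom (fun f =>
        ⟨J.close ((R.pullback f).functorPullback u), J.close_isClosed _⟩)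
      naturality := by
        intro Z Z' g
        ext f
        apply Subtype.ext
        show J.close ((R.pullback (u.map g.unop ≫ f)).functorPullback u) =
          (J.close ((R.pullback f).functorPullback u)).pullback g.unop
        rw [← J.pullback_close]
        congr 1
        ext W k
        simp [Sieve.functorPullback_apply, Sieve.pullback_apply] }
  have hαβ : α = β := by
    apply (adj.homEquiv (yoneda.obj (u.obj Y)) Gp).injective
    apply yonedaEquiv.injective
    apply (hran R hR).isSeparatedFor.ext
    intro V r hr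
    have e1 : ∀ γ : u.op ⋙ yoneda.obj (u.obj Y) ⟶ Gp,
        ((u.op.ran).obj Gp).map r.op (yonedaEquiv (adj.homEquiv (yoneda.obj (u.obj Y)) Gp γ)) =
          yonedaEquiv (adj.homEquiv (yoneda.obj V) Gp
            (((Functor.whiskeringLeft _ _ _).obj u.op).map (yoneda.map r) ≫ γ)) := by
      intro γ
      rw [adj.homEquiv_naturality_left]
      exact yonedaEquiv_naturality _ _
    rw [e1 α, e1 β]
    congr 2
    ext Z f
    apply Subtype.ext
    show (⊤ : Sieve Z.unop) = J.close ((R.pullback (f ≫ r)).functorPullback u)
    rw [Sieve.pullback_eq_top_of_mem R (R.downward_closed hr f), Sieve.functorPullback_top,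
      (J.close_eq_top_iff_mem ⊤).mpr (J.top_mem _)]
  have h3 := congrArg (fun γ => (γ.app (Opposite.op Y) (𝟙 (u.obj Y))).1) hαβ
  have h4 : (⊤ : Sieve Y) = J.close ((R.pullback (𝟙 (u.obj Y))).functorPullback u) := h3
  rw [Sieve.pullback_id] at h4
  exact (J.close_eq_top_iff_mem _).mp h4.symm

end Groth.Agent.S6128
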