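import Groth.Statements.S6131
import Mathlib

set_option autoImplicit false
open CategoryTheory CategoryTheory.Limits
universe u
open SGA4

namespace Groth.Agent.S6131

open Opposite

section
variable {C : Type u} [SmallCategory C] (J : GrothendieckTopology C)

/-- The presheaf `Y ↦ (⊥ ∈ J Y)`. -/
def PP : Cᵒᵖ ⥤ Type u where
  obj Y := ULift.{u} (PLift ((⊥ : Sieve Y.unop) ∈ J Y.unop))
  map {Y Z} f := ↾(fun x => ⟨⟨by
    have := J.pullback_stable f.unop x.down.down
    rwa [Sieve.pullback_bot] at this⟩⟩)
  map_id := by intros; ext x; exact Subsingleton.elim _ _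
  map_comp := by intros; ext x; exact Subsingleton.elim _ _

lemma PP_isSheaf : Presheaf.IsSheaf J (PP J) := by
  rw [isSheaf_iff_isSheaf_of_type]
  intro X S hS x hx
  have hbot : (⊥ : Sieve X) ∈ J X := by
    refine J.transitive hS ⊥ ?_
    intro Y f hf
    have h1 : ULift.{u} (PLift ((⊥ : Sieve Y) ∈ J Y)) := x f hf
    rw [Sieve.pullback_bot]
    exact h1.down.down
  have t : (PP J).obj (op X) := (⟨⟨hbot⟩⟩ : ULift.{u} (PLift ((⊥ : Sieve X) ∈ J X)))
  refine ⟨t, ?_, ?_⟩
  · intro Y f hf
    have : Subsingleton ((PP J).obj (op Y)) :=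
      inferInstanceAs (Subsingleton (ULift.{u} (PLift ((⊥ : Sieve Y) ∈ J Y))))
    exact Subsingleton.elim _ _
  · intro t' _
    have : Subsingleton ((PP J).obj (op X)) :=
      inferInstanceAs (Subsingleton (ULift.{u} (PLift ((⊥ : Sieve X) ∈ J X))))
    exact Subsingleton.elim _ _

end


/-- For a small site `(C, J)` and an object `X` of `C`, the sheaf associated to the presheaf represented
by `X` is an initial object of the category of sheaves of sets if and only if the empty sieve covers
`X`. -/
theorem result
    {C : Type u} [SmallCategory C] (J : GrothendieckTopology C) (X : C) :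
    Nonempty (IsInitial ((presheafToSheaf J (Type u)).obj (yoneda.obj X))) ↔ (⊥ : Sieve X) ∈ J X := by
  constructor
  · rintro ⟨hI⟩
    let F : Sheaf J (Type u) := ⟨PP J, PP_isSheaf J⟩
    have φ := hI.to F
    have ψ := (sheafificationAdjunction J (Type u)).homEquiv _ _ φ
    have h3 : ULift.{u} (PLift ((⊥ : Sieve X) ∈ J X)) := yonedaEquiv ψ
    exact h3.down.down
  · intro h
    refine ⟨@IsInitial.ofUnique _ _ _ (fun F => ?_)⟩
    haveI : Unique (((sheafToPresheaf J (Type u)).obj F).obj (op X)) :=
      (Limits.Types.isTerminalEquivUnique _) (Sheaf.isTerminalOfBotCover F X h)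
    exact Equiv.unique
      (((sheafificationAdjunction J (Type u)).homEquiv (yoneda.obj X) F).trans yonedaEquiv)

end Groth.Agent.S6131
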