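import Groth.Statements.S6134
import Mathlib

set_option autoImplicit false
open CategoryTheory CategoryTheory.Limits
universe u
open SGA4

namespace Groth.Agent.S6134

open Opposite

section
variable {C : Type u} [SmallCategory C] (K : GrothendieckTopology C)

noncomputable def ee (G : Sheaf K (Type u)) (Z : C) :
    ((presheafToSheaf K (Type u)).obj (yoneda.obj Z) ⟶ G) ≃ G.obj.obj (op Z) :=
  ((sheafificationAdjunction K (Type u)).homEquiv (yoneda.obj Z) G).trans yonedaEquiv

lemma ee_nat (G : Sheaf K (Type u)) {X Y : C} (s : Y ⟶ X)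
    (f : (presheafToSheaf K (Type u)).obj (yoneda.obj X) ⟶ G) :
    ee K G Y ((presheafToSheaf K (Type u)).map (yoneda.map s) ≫ f) =
      G.obj.map s.op (ee K G X f) := by
  unfold ee
  simp only [Equiv.trans_apply]
  rw [Adjunction.homEquiv_naturality_left]
  exact (yonedaEquiv_naturality _ _).symm

lemma isColimit_iff {X : C} {ι : Type u} (Y : ι → C) (s : ∀ i, Y i ⟶ X) :
    Nonempty (IsColimit (Cofan.mk ((presheafToSheaf K (Type u)).obj (yoneda.obj X))
      (fun i => (presheafToSheaf K (Type u)).map (yoneda.map (s i))))) ↔
    ∀ G : Sheaf K (Type u), Function.Bijective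
      (fun (g : G.obj.obj (op X)) (i : ι) => G.obj.map (s i).op g) := by
  constructor
  · rintro ⟨hc⟩ G
    constructor
    · intro g g' hgg
      obtain ⟨f, rfl⟩ := (ee K G X).surjective g
      obtain ⟨f', rfl⟩ := (ee K G X).surjective g'
      congr 1
      refine Cofan.IsColimit.hom_ext hc _ _ (fun i => ?_)
      apply (ee K G (Y i)).injective
      have h1 : G.obj.map (s i).op (ee K G X f) = G.obj.map (s i).op (ee K G X f') :=
        congrFun hgg i
      rw [← ee_nat, ← ee_nat] at h1
      exact h1
    · intro g
      refine ⟨ee K G X (Cofan.IsColimit.desc hc (fun i => (ee K G (Y i)).symm (g i))), ?_⟩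
      funext i
      show G.obj.map (s i).op (ee K G X _) = g i
      rw [← ee_nat]
      have h2 : (presheafToSheaf K (Type u)).map (yoneda.map (s i)) ≫
          Cofan.IsColimit.desc hc (fun i => (ee K G (Y i)).symm (g i)) =
          (ee K G (Y i)).symm (g i) := Cofan.IsColimit.fac hc _ i
      rw [h2, Equiv.apply_symm_apply]
  · intro hb
    refine ⟨Cofan.IsColimit.mk _ (fun t => (ee K t.pt X).symm
      ((Equiv.ofBijective _ (hb t.pt)).symm (fun i => ee K t.pt (Y i) (t.inj i)))) ?_ ?_⟩
    · intro t j
      apply (ee K t.pt (Y j)).injective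
      show ee K t.pt (Y j) ((presheafToSheaf K (Type u)).map (yoneda.map (s j)) ≫ _) = _
      rw [ee_nat, Equiv.apply_symm_apply]
      exact congrFun ((Equiv.ofBijective _ (hb t.pt)).apply_symm_apply _) j
    · intro t m hm
      apply (ee K t.pt X).injective
      rw [Equiv.apply_symm_apply]
      apply (Equiv.ofBijective _ (hb t.pt)).injective
      rw [Equiv.apply_symm_apply]
      funext i
      show t.pt.obj.map (s i).op (ee K t.pt X m) = _
      rw [← ee_nat]
      exact congrArg _ (hm i)

end


/-- Let `C` be a small category with topologies `J ≤ J'` (every `J`-covering sieve is `J'`-covering),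
`X` an object and `s i : Y i ⟶ X` a family of morphisms. If the associated `J`-sheaf of the presheaf
represented by `X`, with the maps induced by the `s i`, is a coproduct of the associated `J`-sheaves
of the `Y i` (in sheaves of sets), then the same holds for `J'`. -/
theorem result
    {C : Type u} [SmallCategory C] {J J' : GrothendieckTopology C} (hJ : J ≤ J')
    {X : C} {ι : Type u} (Y : ι → C) (s : ∀ i, Y i ⟶ X)
    (h : Nonempty (IsColimit (Cofan.mk ((presheafToSheaf J (Type u)).obj (yoneda.obj X))
      (fun i => (presheafToSheaf J (Type u)).map (yoneda.map (s i)))))) :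
    Nonempty (IsColimit (Cofan.mk ((presheafToSheaf J' (Type u)).obj (yoneda.obj X))
      (fun i => (presheafToSheaf J' (Type u)).map (yoneda.map (s i))))) := by
  rw [isColimit_iff] at h ⊢
  intro G
  exact h ⟨G.obj, (isSheaf_iff_isSheaf_of_type J _).mpr
    (Presieve.isSheaf_of_le _ hJ ((isSheaf_iff_isSheaf_of_type J' _).mp G.property))⟩

end Groth.Agent.S6134
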