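import Groth.Statements.S6132
import Mathlib
import Groth.Agent.S6134

set_option autoImplicit false
open CategoryTheory CategoryTheory.Limits
universe u
open SGA4

namespace Groth.Agent.S6132

/-- Let `(C, J)` be a small site, `X` an object and `s i : Y i ⟶ X` a family of morphisms all of whose
base changes exist in `C`. If the family is covering, every `s i` is a monomorphism, and for `i ≠ j`
the fibre product `Y i ×_X Y j` is covered by the empty sieve, then the associated sheaf of `X`,
with the maps induced by the `s i`, is a coproduct of the associated sheaves of the `Y i` in the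
category of sheaves of sets. -/
theorem result
    {C : Type u} [SmallCategory C] (J : GrothendieckTopology C) {X : C} {ι : Type u}
    (Y : ι → C) (s : ∀ i, Y i ⟶ X) [∀ (i : ι) (Z : C) (g : Z ⟶ X), HasPullback (s i) g]
    (hcov : Sieve.ofArrows Y s ∈ J X) (hmono : ∀ i, Mono (s i))
    (hdisj : ∀ i j, i ≠ j → (⊥ : Sieve (pullback (s i) (s j))) ∈ J (pullback (s i) (s j))) :
    Nonempty (IsColimit (Cofan.mk ((presheafToSheaf J (Type u)).obj (yoneda.obj X))
      (fun i => (presheafToSheaf J (Type u)).map (yoneda.map (s i))))) := by
  rw [Groth.Agent.S6134.isColimit_iff]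
  intro G
  rw [Function.bijective_iff_existsUnique]
  intro g
  have hG : Presieve.IsSheaf J G.obj := (isSheaf_iff_isSheaf_of_type J _).mp G.property
  have h1 : Presieve.IsSheafFor G.obj (Presieve.ofArrows Y s) :=
    (Presieve.isSheafFor_iff_generate _).mpr (hG _ hcov)
  haveI : (Presieve.ofArrows Y s).HasPairwisePullbacks :=
    ⟨by intro Y' Z' f hf g hg; cases hf; cases hg; infer_instance⟩
  rw [Presieve.isSheafFor_arrows_iff_pullbacks] at h1
  have hcompat : Presieve.Arrows.PullbackCompatible G.obj s g := by
    intro i j
    by_cases hij : i = j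
    · subst hij
      have h2 : pullback.fst (s i) (s i) = pullback.snd (s i) (s i) :=
        (cancel_mono (s i)).mp pullback.condition
      rw [h2]
    · haveI := (Limits.Types.isTerminalEquivUnique _)
        (Sheaf.isTerminalOfBotCover G _ (hdisj i j hij))
      exact Subsingleton.elim _ _
  obtain ⟨t, ht, htu⟩ := h1 g hcompat
  exact ⟨t, funext ht, fun t' ht' => htu t' (fun i => congrFun ht' i)⟩

end Groth.Agent.S6132
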