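import Groth.Statements.S6135
import Mathlib

set_option autoImplicit false
open CategoryTheory CategoryTheory.Limits
universe u
open SGA4

namespace Groth.Agent.S6135

/-- Faithful case. Let `u : C ⥤ C'` be a functor between small categories and `u_!` the left Kan
extension functor on presheaves of sets, whose restriction to ind-objects (presheaves that are small
filtered colimits of representables) is the induced functor `Ind C ⥤ Ind C'`. Then `u` is faithful
if and only if `u_!` is injective on morphisms between ind-representable presheaves. -/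
theorem result
    {C : Type u} [SmallCategory C] {C' : Type u} [SmallCategory C'] (u : C ⥤ C') :
    u.Faithful ↔ ∀ (F G : Cᵒᵖ ⥤ Type u), IsIndObject F → IsIndObject G →
      Function.Injective (fun φ : F ⟶ G => (u.op.lan : (Cᵒᵖ ⥤ Type u) ⥤ (C'ᵒᵖ ⥤ Type u)).map φ) := by
  constructor
  · intro hfaith F G hF hG
    haveI := hfaith
    let L : (Cᵒᵖ ⥤ Type u) ⥤ (C'ᵒᵖ ⥤ Type u) := u.op.lan
    let R : (C'ᵒᵖ ⥤ Type u) ⥤ (Cᵒᵖ ⥤ Type u) := (Functor.whiskeringLeft _ _ _).obj u.op
    let adj : L ⊣ R := u.op.lanAdjunction (Type u)
    have hmono : ∀ X : Cᵒᵖ, Function.Injective ((adj.unit.app G).app X) := by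
      intro X x x' hxx
      let P := hG.presentation
      haveI : PreservesColimitsOfSize.{u, u} L := adj.leftAdjoint_preservesColimits
      let cX := ((evaluation Cᵒᵖ (Type u)).obj X).mapCocone P.cocone
      have hcX : IsColimit cX := isColimitOfPreserves _ P.coconeIsColimit
      let c2 := (L ⋙ (evaluation C'ᵒᵖ (Type u)).obj
        (Opposite.op (u.obj X.unop))).mapCocone P.cocone
      have hc2 : IsColimit c2 := isColimitOfPreserves _ P.coconeIsColimit
      have nat : ∀ {A B : Cᵒᵖ ⥤ Type u} (m : A ⟶ B) (b : A.obj X),
          (adj.unit.app B).app X (m.app X b) =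
            (L.map m).app (Opposite.op (u.obj X.unop)) ((adj.unit.app A).app X b) := by
        intro A B m b
        exact congrArg (fun t => t.app X b) (adj.unit.naturality m)
      have hinj5 : ∀ (W : C), Function.Injective ((adj.unit.app (yoneda.obj W)).app X) := by
        intro W b b' hbb
        let κ : yoneda.obj W ⟶ u.op ⋙ yoneda.obj (u.obj W) :=
          { app := fun Z => TypeCat.ofHom (fun c => u.map c)
            naturality := by intro Z Z' f; ext c; simp }
        let κ' : L.obj (yoneda.obj W) ⟶ yoneda.obj (u.obj W) :=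
          (adj.homEquiv (yoneda.obj W) (yoneda.obj (u.obj W))).symm κ
        have hκ : adj.unit.app (yoneda.obj W) ≫ R.map κ' = κ :=
          (adj.homEquiv (yoneda.obj W) (yoneda.obj (u.obj W))).apply_symm_apply κ
        have e1 : ∀ c : X.unop ⟶ W, κ'.app (Opposite.op (u.obj X.unop))
            ((adj.unit.app (yoneda.obj W)).app X c) = u.map c := by
          intro c
          exact congrArg (fun t => t.app X c) hκ
        exact u.map_injective ((e1 b).symm.trans
          ((congrArg (κ'.app (Opposite.op (u.obj X.unop))) hbb).trans (e1 b')))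
      obtain ⟨j, a, rfl⟩ := Types.jointly_surjective_of_isColimit hcX x
      obtain ⟨j', a', rfl⟩ := Types.jointly_surjective_of_isColimit hcX x'
      have h1 : (L.map (P.cocone.ι.app j)).app (Opposite.op (u.obj X.unop))
            ((adj.unit.app (yoneda.obj (P.F.obj j))).app X a) =
          (L.map (P.cocone.ι.app j')).app (Opposite.op (u.obj X.unop))
            ((adj.unit.app (yoneda.obj (P.F.obj j'))).app X a') :=
        (nat (P.cocone.ι.app j) a).symm.trans (hxx.trans (nat (P.cocone.ι.app j') a'))
      have h2 : c2.ι.app j ((adj.unit.app (yoneda.obj (P.F.obj j))).app X a) =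
          c2.ι.app j' ((adj.unit.app (yoneda.obj (P.F.obj j'))).app X a') := h1
      obtain ⟨k, f, g, hk⟩ := (Types.FilteredColimit.isColimit_eq_iff _ hc2).mp h2
      have h3 : (adj.unit.app (yoneda.obj (P.F.obj k))).app X (a ≫ P.F.map f) =
          (adj.unit.app (yoneda.obj (P.F.obj k))).app X (a' ≫ P.F.map g) :=
        (nat (yoneda.map (P.F.map f)) a).trans
          (hk.trans (nat (yoneda.map (P.F.map g)) a').symm)
      have h4 : a ≫ P.F.map f = a' ≫ P.F.map g := hinj5 (P.F.obj k) h3
      exact (Types.FilteredColimit.isColimit_eq_iff _ hcX).mpr ⟨k, f, g, h4⟩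
    intro φ ψ h
    dsimp only at h
    have n1 : φ ≫ adj.unit.app G = adj.unit.app F ≫ R.map (L.map φ) := adj.unit.naturality φ
    have n2 : ψ ≫ adj.unit.app G = adj.unit.app F ≫ R.map (L.map ψ) := adj.unit.naturality ψ
    have h5 : φ ≫ adj.unit.app G = ψ ≫ adj.unit.app G := by
      rw [n1, n2]
      exact congrArg (fun t => adj.unit.app F ≫ R.map t) h
    ext X x
    apply hmono X
    exact congrArg (fun t => t.app X x) h5
  · intro hinj
    have hind : ∀ X : C, IsIndObject (uliftYoneda.{u}.obj X) := fun X =>
      IsIndObject.map ((uliftYonedaIsoYoneda.{u} (C := C)).inv.app X) (isIndObject_yoneda X)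
    let e := Presheaf.compULiftYonedaIsoULiftYonedaCompLan.{u} u
    have hnat : ∀ {X X' : C} (a : X ⟶ X'),
        uliftYoneda.{u}.map (u.map a) ≫ e.hom.app X' =
          e.hom.app X ≫ (u.op.lan).map (uliftYoneda.{u}.map a) :=
      fun a => e.hom.naturality a
    constructor
    intro X X' a b hab
    apply (uliftYoneda.{u} (C := C)).map_injective
    apply hinj _ _ (hind X) (hind X')
    dsimp only
    have h1 : e.hom.app X ≫ (u.op.lan).map (uliftYoneda.{u}.map a) =
        e.hom.app X ≫ (u.op.lan).map (uliftYoneda.{u}.map b) := by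
      rw [← hnat a, ← hnat b, hab]
    have h2 := congrArg (fun t => e.inv.app X ≫ t) h1
    simpa using h2

end Groth.Agent.S6135
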