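import Groth.Statements.S6136
import Mathlib

set_option autoImplicit false
open CategoryTheory CategoryTheory.Limits
universe u
open SGA4

namespace Groth.Agent.S6136

/-- Fully faithful case. Let `u : C ⥤ C'` be a functor between small categories and `u_!` the left Kan
extension functor on presheaves of sets, whose restriction to ind-representable presheaves is the
induced functor `Ind C ⥤ Ind C'`. Then `u` is full and faithful if and only if `u_!` is bijective on
morphisms between ind-representable presheaves. -/
theorem result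
    {C : Type u} [SmallCategory C] {C' : Type u} [SmallCategory C'] (u : C ⥤ C') :
    (u.Full ∧ u.Faithful) ↔ ∀ (F G : Cᵒᵖ ⥤ Type u), IsIndObject F → IsIndObject G →
      Function.Bijective (fun φ : F ⟶ G => (u.op.lan : (Cᵒᵖ ⥤ Type u) ⥤ (C'ᵒᵖ ⥤ Type u)).map φ) := by
  constructor
  · rintro ⟨hfull, hfaith⟩ F G _ _
    haveI := hfull
    haveI := hfaith
    have hff : (u.op.lan : (Cᵒᵖ ⥤ Type u) ⥤ (C'ᵒᵖ ⥤ Type u)).FullyFaithful :=
      (u.op.lanAdjunction (Type u)).fullyFaithfulLOfIsIsoUnit
    exact hff.map_bijective F G
  · intro hbij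
    have hind : ∀ X : C, IsIndObject (uliftYoneda.{u}.obj X) := fun X =>
      IsIndObject.map ((uliftYonedaIsoYoneda.{u} (C := C)).inv.app X) (isIndObject_yoneda X)
    let e := Presheaf.compULiftYonedaIsoULiftYonedaCompLan.{u} u
    have hnat : ∀ {X X' : C} (a : X ⟶ X'),
        uliftYoneda.{u}.map (u.map a) ≫ e.hom.app X' =
          e.hom.app X ≫ (u.op.lan).map (uliftYoneda.{u}.map a) :=
      fun a => e.hom.naturality a
    constructor
    · constructor
      intro X X' c
      obtain ⟨θ, hθ⟩ := (hbij _ _ (hind X) (hind X')).2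
        (e.inv.app X ≫ uliftYoneda.{u}.map c ≫ e.hom.app X')
      obtain ⟨a, rfl⟩ := (uliftYoneda.{u} (C := C)).map_surjective θ
      refine ⟨a, ?_⟩
      apply (uliftYoneda.{u} (C := C')).map_injective
      dsimp only at hθ
      have h1 : uliftYoneda.{u}.map (u.map a) ≫ e.hom.app X' =
          uliftYoneda.{u}.map c ≫ e.hom.app X' := by
        rw [hnat a, hθ, Iso.hom_inv_id_app_assoc]
      have h2 := congrArg (fun t => t ≫ e.inv.app X') h1
      simpa using h2
    · constructor
      intro X X' a b hab
      apply (uliftYoneda.{u} (C := C)).map_injective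
      apply (hbij _ _ (hind X) (hind X')).1
      dsimp only
      have h1 : e.hom.app X ≫ (u.op.lan).map (uliftYoneda.{u}.map a) =
          e.hom.app X ≫ (u.op.lan).map (uliftYoneda.{u}.map b) := by
        rw [← hnat a, ← hnat b, hab]
      have h2 := congrArg (fun t => e.inv.app X ≫ t) h1
      simpa using h2

end Groth.Agent.S6136
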