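import Groth.Statements.S6137
import Mathlib

set_option autoImplicit false
open CategoryTheory CategoryTheory.Limits
universe v u
open SGA4

namespace Groth.Agent.S6137

/-- Let `C` be a category with `v`-small hom-sets admitting all `v`-small limits, and `F : C ⥤ Type v` a
functor. Then `F` is corepresentable if and only if it is pro-representable (viewed as a presheaf on
`Cᵒᵖ` it is an ind-object, i.e. a small filtered colimit of corepresentable functors) and preserves
all `v`-small limits. -/
theorem result
    {C : Type u} [Category.{v} C] [HasLimitsOfSize.{v, v} C] (F : C ⥤ Type v) :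
    F.IsCorepresentable ↔
      IsIndObject (unopUnop C ⋙ F) ∧ PreservesLimitsOfSize.{v, v} F := by
  constructor
  · intro hF
    haveI := hF
    constructor
    · let e : yoneda.obj (Opposite.op F.coreprX) ≅
          unopUnop C ⋙ coyoneda.obj (Opposite.op F.coreprX) :=
        NatIso.ofComponents (fun Z => (opEquiv Z.unop (Opposite.op F.coreprX)).toIso)
          (by intro Z Z' f; ext g; first | rfl | simp [opEquiv])
      exact IsIndObject.map (e ≪≫ Functor.isoWhiskerLeft (unopUnop C) F.coreprW).hom
        (isIndObject_yoneda (Opposite.op F.coreprX))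
    · exact preservesLimits_of_natIso F.coreprW
  · rintro ⟨hind, hpres⟩
    haveI := hpres
    let P := hind.presentation
    haveI : HasWideEqualizers.{v} F.Elements := fun J => inferInstance
    haveI : HasLimitsOfShape (Discrete P.I) F.Elements := inferInstance
    let e : ∀ i : P.I, F.obj (P.F.obj i).unop :=
      fun i => (P.cocone.ι.app i).app (Opposite.op (P.F.obj i)) (𝟙 (P.F.obj i))
    let E : P.I → F.Elements := fun i => ⟨(P.F.obj i).unop, e i⟩
    haveI : HasInitial F.Elements := by
      refine hasInitial_of_weakly_initial_and_hasWideEqualizers (T := ∏ᶜ E) ?_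
      rintro ⟨c, x⟩
      have hcX : IsColimit (((evaluation _ (Type v)).obj
          (Opposite.op (Opposite.op c))).mapCocone P.cocone) :=
        isColimitOfPreserves _ P.coconeIsColimit
      obtain ⟨i, g, hg⟩ := Types.jointly_surjective_of_isColimit hcX x
      let g' : Opposite.op c ⟶ P.F.obj i := g
      have h := FunctorToTypes.naturality (P.cocone.ι.app i) g'.op (𝟙 (P.F.obj i))
      have h1 : ((P.F ⋙ yoneda).obj i).map g'.op (𝟙 (P.F.obj i)) = g' := Category.comp_id g'
      have hx : F.map g'.unop (e i) = x :=
        h.symm.trans ((congrArg
          (fun z => (P.cocone.ι.app i).app (Opposite.op (Opposite.op c)) z) h1).trans hg)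
      exact ⟨Pi.π E i ≫ CategoryOfElements.homMk (E i) ⟨c, x⟩ g'.unop hx⟩
    exact Functor.Elements.isCorepresentable_of_hasInitial F

end Groth.Agent.S6137
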