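import Groth.Statements.S6138
import Mathlib

set_option autoImplicit false
open CategoryTheory CategoryTheory.Limits Opposite
universe v u
open SGA4

namespace Groth.Agent.S6138

/-- Let `C` have coequalizers and pullbacks, let `F` be a presheaf of sets on `C` taking coequalizers of
`C` to equalizers, and let `u ∈ F(X)`, viewed as a morphism `h_X ⟶ F`. Then this morphism is a
monomorphism (the map `v ↦ F(v)(u)` is injective on `Hom(Y, X)` for every `Y`) if and only if `u` is
minimal: whenever `u = F(p)(u')` for an effective epimorphism `p : X ⟶ X'` and some `u' ∈ F(X')`,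
`p` is an isomorphism. (Coequalizers are used for one implication and pullbacks for the other; both
are assumed here.) -/
theorem result
    {C : Type u} [Category.{v} C] [HasCoequalizers C] [HasPullbacks C]
    (F : Cᵒᵖ ⥤ Type v) [PreservesLimitsOfShape WalkingParallelPair F]
    {X : C} (u : F.obj (op X)) :
    (∀ (Y : C) (v v' : Y ⟶ X), F.map v.op u = F.map v'.op u → v = v') ↔
      ∀ (X' : C) (p : X ⟶ X') (u' : F.obj (op X')),
        EffectiveEpi p → F.map p.op u' = u → IsIso p := by
  constructor
  · intro hinj X' p u' hp hu
    have hmono : ∀ {Z : C} (g₁ g₂ : Z ⟶ X), g₁ ≫ p = g₂ ≫ p → g₁ ≫ 𝟙 X = g₂ ≫ 𝟙 X := by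
      intro Z g₁ g₂ h
      rw [Category.comp_id, Category.comp_id]
      apply hinj
      rw [← hu, ← Functor.map_comp_apply, ← Functor.map_comp_apply, ← op_comp, ← op_comp, h]
    obtain ⟨S⟩ := hp.effectiveEpi
    refine ⟨⟨S.desc (𝟙 X) hmono, S.fac _ _, ?_⟩⟩
    haveI := hp
    rw [← cancel_epi p, ← Category.assoc, S.fac, Category.id_comp, Category.comp_id]
  · intro hmin Y v v' huv
    have hcolim : IsColimit (Cofork.ofπ (coequalizer.π v v') (coequalizer.condition v v')) :=
      coequalizerIsCoequalizer v v'
    have w' : (coequalizer.π v v').op ≫ v.op = (coequalizer.π v v').op ≫ v'.op := by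
      rw [← op_comp, ← op_comp, coequalizer.condition]
    have hlim : IsLimit (Fork.ofι (coequalizer.π v v').op w') :=
      Cofork.isColimitOfπEquivIsLimitOp _ _ (coequalizer.condition v v') w' rfl hcolim
    have hlimF := isLimitForkMapOfIsLimit F w' hlim
    obtain ⟨u', hu', -⟩ :=
      (Types.type_equalizer_iff_unique (F.map (coequalizer.π v v').op) _).mp ⟨hlimF⟩ u huv
    have heff : EffectiveEpi (coequalizer.π v v') :=
      ⟨⟨{ desc := fun e h => coequalizer.desc e (h v v' (coequalizer.condition v v'))
          fac := fun e h => coequalizer.π_desc _ _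
          uniq := fun e h m hm => by
            apply coequalizer.hom_ext
            rw [hm, coequalizer.π_desc] }⟩⟩
    haveI := hmin (coequalizer v v') (coequalizer.π v v') u' heff hu'
    exact (cancel_mono (coequalizer.π v v')).mp (coequalizer.condition v v')

end Groth.Agent.S6138
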