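import Groth.Statements.S6139
import Mathlib

set_option autoImplicit false
open CategoryTheory CategoryTheory.Limits
universe v u
open SGA4

namespace Groth.Agent.S6139

/-- For an object `X` of a category `C`, the empty sieve on `X` is covering for the canonical topology
of `C` (the finest topology for which every representable presheaf is a sheaf) if and only if `X` is
a strict initial object: `X` is initial and every morphism with target `X` is an isomorphism. (The
source phrases the first condition as: for some topology coarser than the canonical one the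
associated sheaf of `h_X` is initial; that sheaf is initial exactly when the empty sieve covers `X`,
and coverage by the empty sieve passes to the finer canonical topology.) -/
theorem result
    {C : Type u} [Category.{v} C] (X : C) :
    (⊥ : Sieve X) ∈ Sheaf.canonicalTopology C X ↔
      (Nonempty (IsInitial X) ∧ ∀ (Y : C) (f : Y ⟶ X), IsIso f) := by
  constructor
  · intro h
    have huniq : ∀ (Y : C) (f : Y ⟶ X) (Z : C), ∃! t : Y ⟶ Z, True := by
      intro Y f Z
      have h1 : (⊥ : Sieve X).pullback f ∈ Sheaf.canonicalTopology C Y :=
        (Sheaf.canonicalTopology C).pullback_stable f h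
      have h2 := Sheaf.isSheaf_yoneda_obj Z _ h1
      have h3 := h2 (fun W g hg => False.elim hg) (fun _ _ _ _ _ _ _ h₁ _ _ => False.elim h₁)
      obtain ⟨t, -, ht⟩ := h3
      refine ⟨t, trivial, fun t' _ => ht t' (fun W g hg => False.elim hg)⟩
    have hX : ∀ Z, ∃! t : X ⟶ Z, True := huniq X (𝟙 X)
    refine ⟨⟨Limits.IsInitial.ofUniqueHom (fun Z => (hX Z).exists.choose)
      (fun Z m => (hX Z).unique trivial trivial)⟩, ?_⟩
    intro Y f
    obtain ⟨g, -, -⟩ := hX Y
    exact ⟨g, (huniq Y f Y).unique trivial trivial, (hX X).unique trivial trivial⟩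
  · rintro ⟨⟨hX⟩, hiso⟩
    apply Sheaf.mem_finestTopology_of_forall_isSheafFor
    rintro _ ⟨Z, rfl⟩ Y f
    haveI := hiso Y f
    intro x hx
    refine ⟨f ≫ hX.to Z, fun W g hg => False.elim hg, fun t' _ => ?_⟩
    have : inv f ≫ t' = hX.to Z := hX.hom_ext _ _
    rw [← this, IsIso.hom_inv_id_assoc]

end Groth.Agent.S6139
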