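import Groth.Statements.S6142
import Mathlib

set_option autoImplicit false
open CategoryTheory
universe u
open SGA4

namespace Groth.Agent.S6142

/-- Let `u : C ⥤ C'` be a continuous and cocontinuous functor between small sites whose topologies are
subcanonical. If the left adjoint `u_!` of the restriction functor `u^*` on sheaves of sets is full
and faithful, then `u` is full and faithful. -/
theorem result
    {C : Type u} [SmallCategory C] {C' : Type u} [SmallCategory C']
    (J : GrothendieckTopology C) (K : GrothendieckTopology C') [J.Subcanonical] [K.Subcanonical]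
    (u : C ⥤ C') [u.IsContinuous J K] [u.IsCocontinuous J K]
    (h : (u.sheafPullback (Type u) J K).Full ∧ (u.sheafPullback (Type u) J K).Faithful) :
    u.Full ∧ u.Faithful := by
  obtain ⟨hfull, hfaith⟩ := h
  let L : Sheaf J (Type u) ⥤ Sheaf K (Type u) := u.sheafPullback (Type u) J K
  let R : Sheaf K (Type u) ⥤ Sheaf J (Type u) := u.sheafPushforwardContinuous (Type u) J K
  let adj : L ⊣ R := u.sheafAdjunctionContinuous (Type u) J K
  haveI : L.Full := hfull
  haveI : L.Faithful := hfaith
  haveI : IsIso adj.unit := Adjunction.unit_isIso_of_L_fully_faithful adj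
  let S : C → Sheaf K (Type u) := fun X' => L.obj (J.yoneda.obj X')
  let η : ∀ X' : C, J.yoneda.obj X' ⟶ R.obj (S X') := fun X' => adj.unit.app (J.yoneda.obj X')
  have hbij : ∀ (X' X : C), Function.Bijective ((η X').hom.app (Opposite.op X)) := by
    intro X' X
    haveI : IsIso (η X') := (inferInstance : IsIso (adj.unit.app (J.yoneda.obj X')))
    haveI : IsIso (η X').hom := inferInstance
    haveI : IsIso ((η X').hom.app (Opposite.op X)) := inferInstance
    exact (isIso_iff_bijective _).mp inferInstance
  let s : ∀ X' : C, (S X').obj.obj (Opposite.op (u.obj X')) :=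
    fun X' => (η X').hom.app (Opposite.op X') (𝟙 X' : X' ⟶ X')
  let κ0 : ∀ X' : C, yoneda.obj X' ⟶ u.op ⋙ yoneda.obj (u.obj X') := fun X' =>
    { app := fun Z => TypeCat.ofHom (fun c => u.map c)
      naturality := by intro Z Z' f; ext c; simp }
  let κ : ∀ X' : C, J.yoneda.obj X' ⟶ R.obj (K.yoneda.obj (u.obj X')) :=
    fun X' => ObjectProperty.homMk (κ0 X')
  let κ' : ∀ X' : C, S X' ⟶ K.yoneda.obj (u.obj X') :=
    fun X' => (adj.homEquiv (J.yoneda.obj X') (K.yoneda.obj (u.obj X'))).symm (κ X')
  have hκ : ∀ X' : C, η X' ≫ R.map (κ' X') = κ X' := fun X' =>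
    (adj.homEquiv (J.yoneda.obj X') (K.yoneda.obj (u.obj X'))).apply_symm_apply (κ X')
  have e1 : ∀ (X' X : C) (c : X ⟶ X'), (κ' X').hom.app (Opposite.op (u.obj X))
      ((η X').hom.app (Opposite.op X) c) = u.map c := by
    intro X' X c
    exact congrArg (fun (t : J.yoneda.obj X' ⟶ R.obj (K.yoneda.obj (u.obj X'))) =>
      t.hom.app (Opposite.op X) c) (hκ X')
  constructor
  · constructor
    intro X X' c
    let t : (S X').obj.obj (Opposite.op (u.obj X)) := (S X').obj.map c.op (s X')
    obtain ⟨a, ha⟩ := (hbij X' X).2 t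
    refine ⟨a, ?_⟩
    have h2 : (κ' X').hom.app (Opposite.op (u.obj X)) t =
        c ≫ (κ' X').hom.app (Opposite.op (u.obj X')) (s X') :=
      FunctorToTypes.naturality (κ' X').hom c.op (s X')
    have h3 : (κ' X').hom.app (Opposite.op (u.obj X')) (s X') = u.map (𝟙 X') := e1 X' X' (𝟙 X')
    calc u.map a = (κ' X').hom.app (Opposite.op (u.obj X))
          ((η X').hom.app (Opposite.op X) a) := (e1 X' X a).symm
      _ = (κ' X').hom.app (Opposite.op (u.obj X)) t :=
          congrArg (fun z => (κ' X').hom.app (Opposite.op (u.obj X)) z) ha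
      _ = c ≫ (κ' X').hom.app (Opposite.op (u.obj X')) (s X') := h2
      _ = c ≫ u.map (𝟙 X') := congrArg (fun z => c ≫ z) h3
      _ = c := by simp
  · constructor
    intro X X' a b hab
    apply (hbij X' X).1
    have hn : ∀ a : X ⟶ X', (η X').hom.app (Opposite.op X) a =
        (S X').obj.map (u.map a).op (s X') := by
      intro a
      have h := FunctorToTypes.naturality (η X').hom a.op (𝟙 X' : X' ⟶ X')
      have h1 : (yoneda.obj X').map a.op (𝟙 X' : X' ⟶ X') = a := Category.comp_id a
      exact (congrArg (fun z => (η X').hom.app (Opposite.op X) z) h1).symm.trans h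
    exact (hn a).trans ((congrArg (fun (m : u.obj X ⟶ u.obj X') =>
      (S X').obj.map m.op (s X')) hab).trans (hn b).symm)

end Groth.Agent.S6142
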