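import Groth.Statements.S6144
import Mathlib

set_option autoImplicit false
open CategoryTheory CategoryTheory.Limits
universe w v u
open SGA4

namespace Groth.Agent.S6144

/-- Let `E` be a category with `v`-small hom-sets and pullbacks, admitting a detecting family of objects
indexed by a `v`-small type (maps out of the family jointly reflect isomorphisms). Then every
detecting family `Y : I → E`, indexed by an arbitrary type, contains a detecting subfamily indexed
by a `v`-small subset of `I`. -/
theorem result
    {E : Type u} [Category.{v} E] [HasPullbacks E] {κ : Type v} (G : κ → E)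
    (hG : (ObjectProperty.ofObj G).IsDetecting) {I : Type w} (Y : I → E)
    (hY : (ObjectProperty.ofObj Y).IsDetecting) :
    ∃ J : Set I, Small.{v} J ∧ (ObjectProperty.ofObj (fun j : J => Y j)).IsDetecting := by
  classical
  haveI : WellPowered.{v} E := wellPowered_of_isDetecting hG
  have hchoice : ∀ (l : κ) (m : Subobject (G l)), ¬ IsIso m.arrow →
      ∃ (i : I) (y : Y i ⟶ G l), ¬ m.Factors y := by
    intro l m hm
    by_contra hcon
    push_neg at hcon
    apply hm
    apply hY m.arrow
    rintro _ ⟨i⟩ h
    refine ⟨m.factorThru h (hcon i h), m.factorThru_arrow _ _, ?_⟩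
    intro h' hh'
    rw [← cancel_mono m.arrow, hh', Subobject.factorThru_arrow]
  choose iof yof hy using hchoice
  let J : Set I := Set.range
    (fun t : Σ l : κ, {m : Subobject (G l) // ¬ IsIso m.arrow} => iof t.1 t.2.1 t.2.2)
  have hJmem : ∀ (l : κ) (m : Subobject (G l)) (hm : ¬ IsIso m.arrow), iof l m hm ∈ J :=
    fun l m hm => ⟨⟨l, ⟨m, hm⟩⟩, rfl⟩
  have hsub : ∀ (l : κ) {Q : E} (s : Q ⟶ G l) [Mono s],
      (∀ (j : I), j ∈ J → ∀ y : Y j ⟶ G l, ∃ z : Y j ⟶ Q, z ≫ s = y) → IsIso s := by
    intro l Q s _ hs
    by_contra hns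
    have hm : ¬ IsIso (Subobject.mk s).arrow := by
      intro hiso
      apply hns
      have : s = (Subobject.underlyingIso s).inv ≫ (Subobject.mk s).arrow :=
        (Subobject.underlyingIso_arrow s).symm
      rw [this]
      infer_instance
    obtain ⟨z, hz⟩ := hs _ (hJmem l _ hm) (yof l _ hm)
    exact hy l _ hm ((Subobject.mk_factors_iff s _).mpr ⟨z, hz⟩)
  have key : ∀ (k : κ) {P : E} (p : P ⟶ G k),
      (∀ (j : I), j ∈ J → ∀ h : Y j ⟶ G k, ∃! h' : Y j ⟶ P, h' ≫ p = h) → IsIso p := by
    intro k P p hp
    have hU : ∀ (l : κ) (a b : G l ⟶ P), a ≫ p = b ≫ p → a = b := by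
      intro l a b hab
      obtain ⟨h, hh1, hh2⟩ : ∃ h : G l ⟶ pullback p p,
          h ≫ pullback.fst p p = a ∧ h ≫ pullback.snd p p = b :=
        ⟨pullback.lift a b hab, pullback.lift_fst _ _ _, pullback.lift_snd _ _ _⟩
      haveI : IsIso (pullback.snd (pullback.diagonal p) h) := by
        apply hsub l
        intro j hj y
        have e1 : y ≫ a = y ≫ b :=
          (hp j hj (y ≫ a ≫ p)).unique (by rw [Category.assoc])
            (by rw [Category.assoc, hab])
        refine ⟨pullback.lift (y ≫ a) y ?_, pullback.lift_snd _ _ _⟩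
        apply pullback.hom_ext
        · simp [hh1]
        · simp [hh2, e1]
      have e2 : inv (pullback.snd (pullback.diagonal p) h) ≫
          pullback.fst (pullback.diagonal p) h ≫ pullback.diagonal p = h := by
        rw [pullback.condition, IsIso.inv_hom_id_assoc]
      calc a = h ≫ pullback.fst p p := hh1.symm
        _ = (inv (pullback.snd (pullback.diagonal p) h) ≫
          pullback.fst (pullback.diagonal p) h ≫ pullback.diagonal p) ≫ pullback.fst p p := by
            rw [e2]
        _ = (inv (pullback.snd (pullback.diagonal p) h) ≫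
          pullback.fst (pullback.diagonal p) h ≫ pullback.diagonal p) ≫ pullback.snd p p := by
            simp
        _ = h ≫ pullback.snd p p := by rw [e2]
        _ = b := hh2
    haveI hδ : IsIso (pullback.diagonal p) := by
      apply hG
      rintro _ ⟨l⟩ h
      have hab : (h ≫ pullback.fst p p) ≫ p = (h ≫ pullback.snd p p) ≫ p := by
        rw [Category.assoc, Category.assoc, pullback.condition]
      have e := hU l _ _ hab
      refine ⟨h ≫ pullback.fst p p, ?_, ?_⟩
      · apply pullback.hom_ext
        · simp
        · simp [e]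
      · intro t ht
        rw [← ht]; simp
    haveI : Mono p := by
      constructor
      intro Z a b hab
      have hfs : pullback.fst p p = pullback.snd p p := by
        rw [← cancel_epi (pullback.diagonal p)]; simp
      calc a = pullback.lift a b hab ≫ pullback.fst p p := (pullback.lift_fst _ _ _).symm
        _ = pullback.lift a b hab ≫ pullback.snd p p := by rw [hfs]
        _ = b := pullback.lift_snd _ _ _
    apply hG
    rintro _ ⟨l⟩ c
    haveI : IsIso (pullback.snd p c) := by
      apply hsub l
      intro j hj y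
      obtain ⟨y', hy', -⟩ := hp j hj (y ≫ c)
      exact ⟨pullback.lift y' y hy', pullback.lift_snd _ _ _⟩
    refine ⟨inv (pullback.snd p c) ≫ pullback.fst p c, ?_, ?_⟩
    · show (inv (pullback.snd p c) ≫ pullback.fst p c) ≫ p = c
      rw [Category.assoc, pullback.condition, IsIso.inv_hom_id_assoc]
    · intro t ht
      replace ht : t ≫ p = c := ht
      apply hU l
      rw [ht, Category.assoc, pullback.condition, IsIso.inv_hom_id_assoc]
  refine ⟨J, small_range _, ?_⟩
  intro A B f hf
  have hf' : ∀ (j : I), j ∈ J → ∀ h : Y j ⟶ B, ∃! h' : Y j ⟶ A, h' ≫ f = h :=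
    fun j hj h => hf (Y j) (ObjectProperty.ofObj_apply (X := fun j : J => Y j) ⟨j, hj⟩) h
  apply hG
  rintro _ ⟨l⟩ g
  haveI : IsIso (pullback.snd f g) := by
    apply key l
    intro j hj h
    obtain ⟨t, ht, htu⟩ := hf' j hj (h ≫ g)
    refine ⟨pullback.lift t h ht, pullback.lift_snd _ _ _, ?_⟩
    intro h'' hh''
    apply pullback.hom_ext
    · rw [pullback.lift_fst]
      apply htu
      rw [Category.assoc, pullback.condition, ← Category.assoc, hh'']
    · rw [pullback.lift_snd, hh'']
  refine ⟨inv (pullback.snd f g) ≫ pullback.fst f g, ?_, ?_⟩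
  · show (inv (pullback.snd f g) ≫ pullback.fst f g) ≫ f = g
    rw [Category.assoc, pullback.condition, IsIso.inv_hom_id_assoc]
  · intro a ha
    replace ha : a ≫ f = g := ha
    have hc : a ≫ f = 𝟙 (G l) ≫ g := by rw [ha, Category.id_comp]
    have hσ : pullback.lift a (𝟙 (G l)) hc ≫ pullback.snd f g = 𝟙 _ := pullback.lift_snd _ _ _
    have hσ' : pullback.lift a (𝟙 (G l)) hc = inv (pullback.snd f g) := by
      rw [← cancel_mono (pullback.snd f g), hσ, IsIso.inv_hom_id]
    rw [← hσ', pullback.lift_fst]

end Groth.Agent.S6144
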