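import Groth.Statements.S6268
import Mathlib

set_option autoImplicit false
universe u
open CAlg

 open TensorProduct
namespace Groth.Agent.S6268

/-- Suppose the structure map R → S of an R-algebra S is universally injective as an R-linear map. Then
tensoring with S detects injectivity and surjectivity of R-linear maps (and hence reflects
isomorphisms): for an R-linear g : M → N, if S ⊗ g is injective then so is g, and if S ⊗ g is
surjective then so is g. -/
theorem result {R S : Type u} [CommRing R] [CommRing S] [Algebra R S] (hS : CAlgX.UniversallyInjective R (Algebra.linearMap R S)) {M N : Type u} [AddCommGroup M] [Module R M] [AddCommGroup N] [Module R N] (g : M →ₗ[R] N) : (Function.Injective (g.lTensor S) → Function.Injective g) ∧ (Function.Surjective (g.lTensor S) → Function.Surjective g) := by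
  have hι : ∀ (Q : Type u) [AddCommGroup Q] [Module R Q],
      Function.Injective (TensorProduct.mk R S Q 1) := by
    intro Q _ _
    have h := hS Q
    have e : (TensorProduct.mk R S Q 1 : Q →ₗ[R] S ⊗[R] Q) =
        ((Algebra.linearMap R S).rTensor Q) ∘ₗ (TensorProduct.lid R Q).symm.toLinearMap := by
      ext q; simp
    rw [e]
    exact h.comp (TensorProduct.lid R Q).symm.injective
  refine ⟨fun hinj m₁ m₂ h => ?_, fun hsurj n => ?_⟩
  · apply hι M
    apply hinj
    simp only [TensorProduct.mk_apply, LinearMap.lTensor_tmul, h]
  · let π := (LinearMap.range g).mkQ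
    obtain ⟨y, hy⟩ := hsurj ((1 : S) ⊗ₜ[R] n)
    have hπg : π ∘ₗ g = 0 := by
      ext m; simp [π]
    have h0 : (π.lTensor S) ((1 : S) ⊗ₜ[R] n) = 0 := by
      rw [← hy, ← LinearMap.comp_apply, ← LinearMap.lTensor_comp, hπg, LinearMap.lTensor_zero,
        LinearMap.zero_apply]
    have h1 : TensorProduct.mk R S _ 1 (π n) = TensorProduct.mk R S _ 1 (0 : N ⧸ LinearMap.range g) := by
      simpa using h0
    have h2 := hι _ h1
    have h3 : n ∈ LinearMap.range g := (Submodule.Quotient.mk_eq_zero _).1 h2
    exact h3

end Groth.Agent.S6268
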