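import Groth.Statements.S6273
-- import your own Groth.Agent.* helpers here

set_option autoImplicit false
universe u
open CAlg

namespace Groth.Agent.S6273

/-- Let R be a ring, S ⊆ R a multiplicative subset and A = S⁻¹R. If the image of Spec(A) → Spec(R) is
closed, then the localization map R → A is surjective; in particular A is isomorphic to R/I for the
ideal I = ker(R → A). -/
theorem result {R : Type u} [CommRing R] (S : Submonoid R) (A : Type u) [CommRing A] [Algebra R A] [IsLocalization S A] (hcl : IsClosed (Set.range (PrimeSpectrum.comap (algebraMap R A)))) : Function.Surjective (algebraMap R A) := by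
  intro a
  obtain ⟨⟨r, s⟩, hrs⟩ := IsLocalization.surj S a
  have htop : Ideal.span {(s : R)} ⊔ RingHom.ker (algebraMap R A) = ⊤ := by
    by_contra hne
    obtain ⟨m, hm, hle⟩ := Ideal.exists_le_maximal _ hne
    have hmem : (⟨m, hm.isPrime⟩ : PrimeSpectrum R) ∈ Set.range (PrimeSpectrum.comap (algebraMap R A)) := by
      rw [← hcl.closure_eq, PrimeSpectrum.closure_range_comap, PrimeSpectrum.mem_zeroLocus]
      exact fun z hz => hle (Ideal.mem_sup_right hz)
    obtain ⟨q, hq⟩ := hmem
    have hs : (s : R) ∈ m := hle (Ideal.mem_sup_left (Ideal.subset_span rfl))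
    have : algebraMap R A s ∈ q.asIdeal := by
      have : (s : R) ∈ (PrimeSpectrum.comap (algebraMap R A) q).asIdeal := by rw [hq]; exact hs
      exact this
    exact q.isPrime.ne_top (Ideal.eq_top_of_isUnit_mem _ this (IsLocalization.map_units A s))
  have h1 : (1 : R) ∈ Ideal.span {(s : R)} ⊔ RingHom.ker (algebraMap R A) := by rw [htop]; trivial
  obtain ⟨x, hx, y, hy, hxy⟩ := Submodule.mem_sup.1 h1
  obtain ⟨t, rfl⟩ := Ideal.mem_span_singleton'.1 hx
  have hy' : algebraMap R A y = 0 := hy
  have h2 : algebraMap R A t * algebraMap R A s = 1 := by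
    have := congrArg (algebraMap R A) hxy
    simpa [hy'] using this
  refine ⟨r * t, ?_⟩
  simp only at hrs
  rw [map_mul, ← hrs]
  rw [mul_assoc, mul_comm (algebraMap R A s), h2, mul_one]

end Groth.Agent.S6273
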