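import Groth.Statements.S6275
import Mathlib

set_option autoImplicit false
universe u
open CAlg

namespace Groth.Agent.S6275

/-- Let R be a Noetherian ring and p ⊆ R a prime. Then there is f ∈ R, f ∉ p, such that R_f → R_p is
injective; equivalently every x ∈ R mapping to zero in R_p maps to zero in R_f. (The cases of a
domain and of a reduced ring with finitely many minimal primes are not included here.) -/
theorem result {R : Type u} [CommRing R] [IsNoetherianRing R] (p : Ideal R) [p.IsPrime] : ∃ f : R, f ∉ p ∧ ∀ x : R, algebraMap R (Localization.AtPrime p) x = 0 → algebraMap R (Localization.Away f) x = 0 := by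
  classical
  let K : Ideal R := RingHom.ker (algebraMap R (Localization.AtPrime p))
  obtain ⟨s, hs⟩ : K.FG := IsNoetherian.noetherian K
  have hx : ∀ x ∈ K, ∃ t : R, t ∉ p ∧ t * x = 0 := by
    intro x hx
    have h0 : algebraMap R (Localization.AtPrime p) x = 0 := hx
    rw [IsLocalization.map_eq_zero_iff p.primeCompl] at h0
    obtain ⟨m, hm⟩ := h0
    exact ⟨m.1, m.2, hm⟩
  choose! t ht1 ht2 using hx
  refine ⟨∏ x ∈ s, t x, ?_, ?_⟩
  · intro hmem
    obtain ⟨x, hxs, hxp⟩ := (Ideal.IsPrime.prod_mem_iff).1 hmem
    exact ht1 x (hs ▸ Submodule.subset_span hxs) hxp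
  · intro x hx0
    have hxK : x ∈ Submodule.span R (s : Set R) := by
      show x ∈ Ideal.span (s : Set R)
      rw [hs]; exact hx0
    have hfx : (∏ y ∈ s, t y) * x = 0 := by
      refine Submodule.span_induction ?_ ?_ ?_ ?_ hxK
      · intro y hy
        obtain ⟨c, hc⟩ := Finset.dvd_prod_of_mem t hy
        rw [hc, mul_right_comm, ht2 y (hs ▸ Submodule.subset_span hy), zero_mul]
      · simp
      · intro a b _ _ ha hb; rw [mul_add, ha, hb, add_zero]
      · intro r a _ ha; rw [smul_eq_mul, mul_left_comm, ha, mul_zero]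
    rw [IsLocalization.map_eq_zero_iff (Submonoid.powers (∏ y ∈ s, t y))]
    exact ⟨⟨_, Submonoid.mem_powers _⟩, hfx⟩

end Groth.Agent.S6275
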