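import Groth.Statements.S6276
import Mathlib

set_option autoImplicit false
universe u
open scoped TensorProduct
open CAlg

namespace Groth.Agent.S6276

/-- Let k be a field, R a Noetherian k-algebra and K/k a finitely generated field extension. Then K ⊗ₖ R
is a Noetherian ring. -/
theorem result (k : Type u) [Field k] (R : Type u) [CommRing R] [Algebra k R] [IsNoetherianRing R] (K : Type u) [Field K] [Algebra k K] (hK : ∃ s : Finset K, IntermediateField.adjoin k (s : Set K) = ⊤) : IsNoetherianRing (K ⊗[k] R) := by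
  classical
  have key : ∀ (B₀ : Type u) [CommRing B₀] [Algebra k B₀] [Algebra B₀ K] [IsScalarTower k B₀ K]
      [IsFractionRing B₀ K] [Algebra.FiniteType k B₀], IsNoetherianRing (K ⊗[k] R) := by
    intro B₀ _ _ _ _ _ _
    haveI h1 : IsNoetherianRing (R ⊗[k] B₀) := Algebra.FiniteType.isNoetherianRing R (R ⊗[k] B₀)
    haveI h2 : IsNoetherianRing (B₀ ⊗[k] R) :=
      isNoetherianRing_of_ringEquiv (R ⊗[k] B₀) (Algebra.TensorProduct.comm k R B₀).toRingEquiv
    letI alg : Algebra (B₀ ⊗[k] R) (K ⊗[k] R) :=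
      (Algebra.TensorProduct.map (IsScalarTower.toAlgHom k B₀ K)
        (AlgHom.id k R)).toRingHom.toAlgebra
    haveI : IsScalarTower B₀ (B₀ ⊗[k] R) (K ⊗[k] R) := .of_algebraMap_eq (fun b => by
      show algebraMap B₀ (K ⊗[k] R) b =
        (Algebra.TensorProduct.map (IsScalarTower.toAlgHom k B₀ K) (AlgHom.id k R))
          (algebraMap B₀ (B₀ ⊗[k] R) b)
      rw [Algebra.TensorProduct.algebraMap_apply, Algebra.TensorProduct.algebraMap_apply,
        Algebra.TensorProduct.map_tmul]
      simp)
    have H : (algebraMap (B₀ ⊗[k] R) (K ⊗[k] R)).comp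
        Algebra.TensorProduct.includeRight.toRingHom =
        Algebra.TensorProduct.includeRight.toRingHom := by
      ext r
      show (Algebra.TensorProduct.map (IsScalarTower.toAlgHom k B₀ K) (AlgHom.id k R))
        ((1 : B₀) ⊗ₜ[k] r) = (1 : K) ⊗ₜ[k] r
      simp
    haveI := IsLocalization.tensorProduct_tensorProduct k R (nonZeroDivisors B₀) K H
    exact IsLocalization.isNoetherianRing
      (Algebra.algebraMapSubmonoid (B₀ ⊗[k] R) (nonZeroDivisors B₀)) _ h2
  obtain ⟨s, hs⟩ := hK
  let B₀ : Subalgebra k K := Algebra.adjoin k (s : Set K)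
  haveI : Algebra.FiniteType k B₀ :=
    (Subalgebra.fg_iff_finiteType _).mp (Subalgebra.fg_adjoin_finset s)
  haveI : IsFractionRing B₀ K := by
    apply IsFractionRing.of_field
    intro z
    have hz : z ∈ IntermediateField.adjoin k (s : Set K) := by rw [hs]; trivial
    obtain ⟨r, hr, t, ht, rfl⟩ := IntermediateField.mem_adjoin_iff_div.mp hz
    exact ⟨⟨r, hr⟩, ⟨t, ht⟩, rfl⟩
  exact key B₀

end Groth.Agent.S6276
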