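import Groth.Statements.S6277
import Mathlib.RingTheory.Noetherian.Basic
import Mathlib.RingTheory.Ideal.Maps
import Mathlib.Order.OrderIsoNat

set_option autoImplicit false
universe u
open CAlg

namespace Groth.Agent.S6277

/-- Any surjective ring endomorphism of a Noetherian ring is an isomorphism (bijective). -/
theorem result {R : Type u} [CommRing R] [IsNoetherianRing R] (f : R →+* R) (hf : Function.Surjective f) : Function.Bijective f := by
  refine ⟨?_, hf⟩
  -- ascending chain of kernels of iterates
  let K : ℕ → Ideal R := fun n => RingHom.ker (f ^ n : R →+* R)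
  have hpow : ∀ n (x : R), (f ^ (n+1) : R →+* R) x = (f ^ n : R →+* R) (f x) := by
    intro n x
    rw [pow_succ]; rfl
  have hmono : Monotone K := by
    apply monotone_nat_of_le_succ
    intro n x hx
    change (f ^ (n+1) : R →+* R) x = 0
    have hx' : (f ^ n : R →+* R) x = 0 := hx
    rw [pow_succ']
    change f ((f ^ n : R →+* R) x) = 0
    rw [hx', map_zero]
  obtain ⟨n, hn⟩ := monotone_stabilizes_iff_noetherian.mpr inferInstance ⟨K, hmono⟩
  have hsurj : Function.Surjective (f ^ n : R →+* R) := by
    have : ∀ m, Function.Surjective (f ^ m : R →+* R) := by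
      intro m
      induction m with
      | zero => intro x; exact ⟨x, rfl⟩
      | succ m ih =>
        intro x
        obtain ⟨y, rfl⟩ := ih x
        obtain ⟨z, rfl⟩ := hf y
        exact ⟨z, hpow m z⟩
    exact this n
  rw [injective_iff_map_eq_zero]
  intro x hx
  obtain ⟨y, rfl⟩ := hsurj x
  have h1 : y ∈ K (n+1) := by
    change (f ^ (n+1) : R →+* R) y = 0
    rw [pow_succ']
    exact hx
  have h2 : y ∈ K n := by
    have := hn (n+1) (Nat.le_succ n)
    change K n = K (n+1) at this
    rw [this]; exact h1
  exact h2

end Groth.Agent.S6277
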