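import Groth.Statements.S6278
import Mathlib.RingTheory.LocalProperties.Basic
import Mathlib.RingTheory.IntegralClosure.IntegrallyClosed
import Mathlib.RingTheory.Localization.FractionRing
import Mathlib.RingTheory.Localization.AtPrime.Basic

set_option autoImplicit false
universe u
open CAlg

namespace Groth.Agent.S6278

/-- A normal ring R (all localizations at primes are integrally closed domains) is integrally closed in
its total ring of fractions. -/
theorem result (R : Type u) [CommRing R] (hR : EGA4.IsNormalRing R) : IsIntegrallyClosedIn R (FractionRing R) := by
  rw [isIntegrallyClosedIn_iff]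
  refine ⟨IsFractionRing.injective R (FractionRing R), ?_⟩
  intro x hx
  obtain ⟨a, s, rfl⟩ := IsLocalization.exists_mk'_eq (nonZeroDivisors R) x
  have key : a ∈ Ideal.span {(s : R)} := by
    apply Ideal.mem_of_localization_maximal
    intro P hP
    haveI : P.IsPrime := hP.isPrime
    obtain ⟨hdom, hic⟩ := hR P
    have hs0 : algebraMap R (Localization.AtPrime P) s ∈ nonZeroDivisors (Localization.AtPrime P) :=
      IsLocalization.map_nonZeroDivisors_le P.primeCompl (Localization.AtPrime P)
        (Submonoid.mem_map_of_mem _ s.2)
    have hunit : ∀ t : nonZeroDivisors R,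
        IsUnit (((algebraMap (Localization.AtPrime P) (FractionRing (Localization.AtPrime P))).comp
          (algebraMap R (Localization.AtPrime P))) t) := by
      intro t
      have ht0 : algebraMap R (Localization.AtPrime P) t ∈
          nonZeroDivisors (Localization.AtPrime P) :=
        IsLocalization.map_nonZeroDivisors_le P.primeCompl (Localization.AtPrime P)
          (Submonoid.mem_map_of_mem _ t.2)
      exact IsLocalization.map_units (FractionRing (Localization.AtPrime P))
        (⟨_, ht0⟩ : nonZeroDivisors (Localization.AtPrime P))
    let g : FractionRing R →+* FractionRing (Localization.AtPrime P) :=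
      IsLocalization.lift (M := nonZeroDivisors R) hunit
    have hg : ∀ r : R, g (algebraMap R (FractionRing R) r) =
        algebraMap (Localization.AtPrime P) (FractionRing (Localization.AtPrime P))
          (algebraMap R (Localization.AtPrime P) r) := fun r => IsLocalization.lift_eq hunit r
    have hint : IsIntegral (Localization.AtPrime P)
        (g (IsLocalization.mk' (FractionRing R) a s)) := by
      refine IsIntegral.map_of_comp_eq (algebraMap R (Localization.AtPrime P)) g ?_ hx
      ext r
      exact (hg r).symm
    obtain ⟨b, hb⟩ := IsIntegrallyClosed.isIntegral_iff.1 hint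
    have h1 : IsLocalization.mk' (FractionRing R) a s * algebraMap R (FractionRing R) s =
        algebraMap R (FractionRing R) a := IsLocalization.mk'_spec _ a s
    have h2 := congrArg g h1
    rw [map_mul, hg, hg, ← hb, ← map_mul] at h2
    have h3 := IsFractionRing.injective (Localization.AtPrime P)
      (FractionRing (Localization.AtPrime P)) h2
    rw [← h3]
    exact Ideal.mul_mem_left _ b (Ideal.mem_map_of_mem _ (Ideal.mem_span_singleton_self _))
  obtain ⟨r, hr⟩ := Ideal.mem_span_singleton'.1 key
  refine ⟨r, ?_⟩
  rw [eq_comm, IsLocalization.mk'_eq_iff_eq_mul, ← map_mul, hr]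

end Groth.Agent.S6278
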