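import Groth.Statements.S6279
import Mathlib.RingTheory.Spectrum.Prime.RingHom
import Mathlib.RingTheory.IntegralClosure.IntegrallyClosed
import Mathlib.RingTheory.Localization.AtPrime.Basic

set_option autoImplicit false
universe u
open CAlg

namespace Groth.Agent.S6279

/-- A finite product of normal rings is normal (a ring is normal when every localization at a prime is
an integrally closed domain). -/
theorem result {ι : Type u} [Finite ι] (A : ι → Type u) [∀ i, CommRing (A i)] (hA : ∀ i, EGA4.IsNormalRing (A i)) : EGA4.IsNormalRing (∀ i, A i) := by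
  classical
  intro P hP
  obtain ⟨j, q, hq⟩ := PrimeSpectrum.exists_comap_evalRingHom_eq ⟨P, hP⟩
  have hP' : P = q.asIdeal.comap (Pi.evalRingHom A j) := (congrArg PrimeSpectrum.asIdeal hq).symm
  haveI := q.isPrime
  obtain ⟨hdom, hic⟩ := hA j q.asIdeal
  letI : Algebra (∀ i, A i) (Localization.AtPrime q.asIdeal) :=
    ((algebraMap (A j) (Localization.AtPrime q.asIdeal)).comp (Pi.evalRingHom A j)).toAlgebra
  have halg : ∀ x : (∀ i, A i), algebraMap (∀ i, A i) (Localization.AtPrime q.asIdeal) x =
      algebraMap (A j) (Localization.AtPrime q.asIdeal) (x j) := fun x => rfl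
  have hmem : ∀ x : (∀ i, A i), x ∈ P ↔ x j ∈ q.asIdeal := by
    intro x; rw [hP']; rfl
  have hloc : IsLocalization.AtPrime (Localization.AtPrime q.asIdeal) P := by
    refine ⟨?_, ?_, ?_⟩
    · rintro ⟨x, hx⟩
      rw [halg]
      exact IsLocalization.map_units _
        (⟨x j, fun h => hx ((hmem x).2 h)⟩ : q.asIdeal.primeCompl)
    · intro z
      obtain ⟨⟨a, s⟩, h⟩ := IsLocalization.surj q.asIdeal.primeCompl z
      refine ⟨⟨Pi.single j a, ⟨Function.update 1 j (s : A j), ?_⟩⟩, ?_⟩
      · intro h0
        rw [SetLike.mem_coe, hmem, Function.update_self] at h0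
        exact s.2 h0
      · show z * algebraMap (∀ i, A i) _ (Function.update 1 j (s : A j)) =
          algebraMap (∀ i, A i) _ (Pi.single j a)
        rw [halg, halg, Function.update_self, Pi.single_eq_same]
        exact h
    · intro x y hxy
      rw [halg, halg] at hxy
      obtain ⟨c, hc⟩ := IsLocalization.exists_of_eq (M := q.asIdeal.primeCompl) hxy
      refine ⟨⟨Pi.single j (c : A j), ?_⟩, ?_⟩
      · intro h0
        rw [SetLike.mem_coe, hmem, Pi.single_eq_same] at h0
        exact c.2 h0
      · show Pi.single j (c : A j) * x = Pi.single j (c : A j) * y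
        ext i
        by_cases hij : i = j
        · subst hij
          simp only [Pi.mul_apply, Pi.single_eq_same]
          exact hc
        · simp only [Pi.mul_apply, Pi.single_eq_of_ne hij, zero_mul]
  let e : Localization.AtPrime q.asIdeal ≃+* Localization.AtPrime P :=
    (IsLocalization.algEquiv P.primeCompl (Localization.AtPrime q.asIdeal)
      (Localization.AtPrime P)).toRingEquiv
  exact ⟨MulEquiv.isDomain (Localization.AtPrime q.asIdeal) e.symm.toMulEquiv,
    IsIntegrallyClosed.of_equiv (R := Localization.AtPrime q.asIdeal)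
      (S := Localization.AtPrime P) e⟩

end Groth.Agent.S6279
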