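import Groth.Statements.S6281
import Mathlib

set_option autoImplicit false
universe u
open CAlg

 open TensorProduct
namespace Groth.Agent.S6281

/-- For an R-algebra S and an S-module M, flatness of S over R follows once M is both flat over R and
faithfully flat over S. -/
theorem result {R S : Type u} [CommRing R] [CommRing S] [Algebra R S] (M : Type u) [AddCommGroup M] [Module S M] [Module R M] [IsScalarTower R S M] [Module.Flat R M] [Module.FaithfullyFlat S M] : Module.Flat R S := by
  rw [Module.Flat.iff_lTensor_preserves_injective_linearMap]
  intro N N' _ _ _ _ f hf
  let fS : S ⊗[R] N →ₗ[S] S ⊗[R] N' := TensorProduct.AlgebraTensorModule.lTensor S S f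
  let gM : M ⊗[S] (S ⊗[R] N) →ₗ[S] M ⊗[S] (S ⊗[R] N') :=
    TensorProduct.AlgebraTensorModule.lTensor S M fS
  have hnat := TensorProduct.AlgebraTensorModule.lTensor_comp_cancelBaseChange
    (R := R) (A := S) (B := S) (M := M) f
  have hMf : Function.Injective (TensorProduct.AlgebraTensorModule.lTensor S M f) :=
    Module.Flat.lTensor_preserves_injective_linearMap (M := M) f hf
  have hg : Function.Injective gM := by
    have h1 : Function.Injective
        ((TensorProduct.AlgebraTensorModule.cancelBaseChange R S S M N').toLinearMap ∘ₗ gM) := by
      rw [← hnat]
      exact hMf.comp (TensorProduct.AlgebraTensorModule.cancelBaseChange R S S M N).injective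
    have h1' : Function.Injective
        ((TensorProduct.AlgebraTensorModule.cancelBaseChange R S S M N') ∘ gM) := h1
    exact Function.Injective.of_comp h1'
  have hfS : Function.Injective fS :=
    (Module.FaithfullyFlat.lTensor_injective_iff_injective S M fS).1 hg
  exact hfS

end Groth.Agent.S6281
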