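import Groth.Statements.S6282
import Mathlib

set_option autoImplicit false
universe u
open scoped TensorProduct
open CAlg

namespace Groth.Agent.S6282

/-- Let S → S' be a homomorphism of R-algebras, M an S-module, and M' = S' ⊗_S M with its induced
R-module structure. (1) When S' is flat over S, R-flatness of M passes to M'. (2) When S' is
faithfully flat over S, M is R-flat exactly when M' is. -/
theorem result {R S S' : Type u} [CommRing R] [CommRing S] [CommRing S'] [Algebra R S] [Algebra R S'] [Algebra S S'] [IsScalarTower R S S'] (M : Type u) [AddCommGroup M] [Module S M] [Module R M] [IsScalarTower R S M] : ([Module.Flat S S'] → Module.Flat R M → Module.Flat R (S' ⊗[S] M)) ∧ ([Module.FaithfullyFlat S S'] → (Module.Flat R M ↔ Module.Flat R (S' ⊗[S] M))) := by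
  have key : ∀ {N N' : Type u} [AddCommGroup N] [AddCommGroup N'] [Module R N] [Module R N']
      (f : N →ₗ[R] N') (x : (S' ⊗[S] M) ⊗[R] N),
      (TensorProduct.AlgebraTensorModule.assoc R S S' S' M N') (f.lTensor (S' ⊗[S] M) x) =
        (LinearMap.lTensor S' (TensorProduct.AlgebraTensorModule.lTensor S M f))
          ((TensorProduct.AlgebraTensorModule.assoc R S S' S' M N) x) := by
    intro N N' _ _ _ _ f x
    induction x using TensorProduct.induction_on with
    | zero => simp
    | tmul y n =>
      induction y using TensorProduct.induction_on with
      | zero => simp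
      | tmul s m => simp
      | add a b ha hb => simp only [TensorProduct.add_tmul, map_add, ha, hb]
    | add a b ha hb => simp only [map_add, ha, hb]
  have inj_iff : ∀ {N N' : Type u} [AddCommGroup N] [AddCommGroup N'] [Module R N] [Module R N']
      (f : N →ₗ[R] N'), Function.Injective (f.lTensor (S' ⊗[S] M)) ↔
        Function.Injective (LinearMap.lTensor S' (TensorProduct.AlgebraTensorModule.lTensor S M f)) := by
    intro N N' _ _ _ _ f
    constructor
    · intro h
      have : ⇑(LinearMap.lTensor S' (TensorProduct.AlgebraTensorModule.lTensor S M f)) =
          (TensorProduct.AlgebraTensorModule.assoc R S S' S' M N') ∘ (f.lTensor (S' ⊗[S] M)) ∘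
            (TensorProduct.AlgebraTensorModule.assoc R S S' S' M N).symm := by
        funext y
        simp only [Function.comp]
        rw [key]
        simp
      rw [this]
      exact (LinearEquiv.injective _).comp (h.comp (LinearEquiv.injective _))
    · intro h
      have : ⇑(f.lTensor (S' ⊗[S] M)) =
          (TensorProduct.AlgebraTensorModule.assoc R S S' S' M N').symm ∘
            (LinearMap.lTensor S' (TensorProduct.AlgebraTensorModule.lTensor S M f)) ∘
            (TensorProduct.AlgebraTensorModule.assoc R S S' S' M N) := by
        funext x
        simp only [Function.comp]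
        rw [← key]
        simp
      rw [this]
      exact (LinearEquiv.injective _).comp (h.comp (LinearEquiv.injective _))
  have part1 : ∀ [Module.Flat S S'], Module.Flat R M → Module.Flat R (S' ⊗[S] M) := by
    intro _ hM
    haveI := hM
    rw [Module.Flat.iff_lTensor_preserves_injective_linearMap]
    intro N N' _ _ _ _ f hf
    rw [inj_iff]
    apply Module.Flat.lTensor_preserves_injective_linearMap
    exact (Module.Flat.lTensor_preserves_injective_linearMap (M := M) f hf :
      Function.Injective (f.lTensor M))
  refine ⟨fun hM => part1 hM, ?_⟩
  intro _
  refine ⟨fun hM => part1 hM, ?_⟩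
  intro hM'
  haveI := hM'
  rw [Module.Flat.iff_lTensor_preserves_injective_linearMap]
  intro N N' _ _ _ _ f hf
  have h1 := (inj_iff f).mp
    (Module.Flat.lTensor_preserves_injective_linearMap (M := S' ⊗[S] M) f hf)
  rw [Module.FaithfullyFlat.lTensor_injective_iff_injective] at h1
  exact h1

end Groth.Agent.S6282
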