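import Groth.Statements.S6283
import Mathlib

set_option autoImplicit false
universe u
open scoped TensorProduct
open CAlg

namespace Groth.Agent.S6283

/-- Let R → S be a flat ring map, M an R-module and m ∈ M. Then Ann_R(m)S = Ann_S(1 ⊗ m), the
annihilator in S of the element 1 ⊗ m of S ⊗_R M. If moreover M is a finite R-module then Ann_R(M)S
= Ann_S(S ⊗_R M). -/
theorem result {R S : Type u} [CommRing R] [CommRing S] [Algebra R S] [Module.Flat R S] (M : Type u) [AddCommGroup M] [Module R M] : (∀ m : M, ((Submodule.span R {m}).annihilator).map (algebraMap R S) = (Submodule.span S {(1 : S) ⊗ₜ[R] m}).annihilator) ∧ (Module.Finite R M → (Module.annihilator R M).map (algebraMap R S) = Module.annihilator S (S ⊗[R] M)) := by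
  classical
  have key : ∀ {P : Type u} [AddCommGroup P] [Module R P] (g : R →ₗ[R] P) (s : S),
      (g.lTensor S) (s ⊗ₜ[R] (1 : R)) = 0 →
      s ∈ Ideal.map (algebraMap R S) (LinearMap.ker g : Ideal R) := by
    intro P _ _ g s h
    have hex : Function.Exact (LinearMap.ker g).subtype g := LinearMap.exact_subtype_ker_map g
    have hex' := Module.Flat.lTensor_exact S hex
    obtain ⟨z, hz⟩ := (hex' _).mp h
    have hall : ∀ z : S ⊗[R] (LinearMap.ker g),
        TensorProduct.rid R S (((LinearMap.ker g).subtype.lTensor S) z) ∈
          Ideal.map (algebraMap R S) (LinearMap.ker g : Ideal R) := by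
      intro z
      induction z using TensorProduct.induction_on with
      | zero => simp
      | tmul s' i =>
        rw [LinearMap.lTensor_tmul, Submodule.subtype_apply, TensorProduct.rid_tmul,
          Algebra.smul_def]
        exact Ideal.mul_mem_right _ _ (Ideal.mem_map_of_mem _ i.2)
      | add a b ha hb =>
        rw [map_add, map_add]
        exact add_mem ha hb
    have h2 := hall z
    rw [hz, TensorProduct.rid_tmul, one_smul] at h2
    exact h2
  refine ⟨fun m => ?_, fun hfin => ?_⟩
  · apply le_antisymm
    · rw [Ideal.map_le_iff_le_comap]
      intro r hr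
      rw [Submodule.mem_annihilator_span_singleton] at hr
      rw [Ideal.mem_comap, Submodule.mem_annihilator_span_singleton, algebraMap_smul,
        ← TensorProduct.tmul_smul, hr, TensorProduct.tmul_zero]
    · intro s hs
      rw [Submodule.mem_annihilator_span_singleton] at hs
      have h1 : ((LinearMap.toSpanSingleton R M m).lTensor S) (s ⊗ₜ[R] (1 : R)) = 0 := by
        rw [LinearMap.lTensor_tmul, LinearMap.toSpanSingleton_apply, one_smul]
        rw [TensorProduct.smul_tmul', smul_eq_mul, mul_one] at hs
        exact hs
      have h2 := key _ s h1
      have h3 : (LinearMap.ker (LinearMap.toSpanSingleton R M m) : Ideal R) =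
          (Submodule.span R {m}).annihilator := by
        ext r
        rw [Submodule.mem_annihilator_span_singleton, LinearMap.mem_ker,
          LinearMap.toSpanSingleton_apply]
      rw [h3] at h2
      exact h2
  · obtain ⟨t, ht⟩ := hfin.fg_top
    apply le_antisymm
    · rw [Ideal.map_le_iff_le_comap]
      intro r hr
      rw [Module.mem_annihilator] at hr
      rw [Ideal.mem_comap, Module.mem_annihilator]
      intro x
      rw [algebraMap_smul]
      induction x using TensorProduct.induction_on with
      | zero => simp
      | tmul s m => rw [← TensorProduct.tmul_smul, hr, TensorProduct.tmul_zero]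
      | add a b ha hb => rw [smul_add, ha, hb, add_zero]
    · intro s hs
      rw [Module.mem_annihilator] at hs
      let g : R →ₗ[R] (t → M) := LinearMap.pi (fun i : t => LinearMap.toSpanSingleton R M (i : M))
      have h1 : (g.lTensor S) (s ⊗ₜ[R] (1 : R)) = 0 := by
        rw [LinearMap.lTensor_tmul]
        have hg1 : g 1 = ∑ i : t, Pi.single i (i : M) := by
          funext j
          simp [g, Finset.sum_apply, Pi.single_apply]
        rw [hg1, TensorProduct.tmul_sum]
        refine Finset.sum_eq_zero fun i _ => ?_
        have h4 : s ⊗ₜ[R] (Pi.single i (i : M) : t → M) =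
            ((LinearMap.single R (fun _ : t => M) i).lTensor S) (s ⊗ₜ[R] (i : M)) := by
          rw [LinearMap.lTensor_tmul]; rfl
        have h5 : s ⊗ₜ[R] (i : M) = 0 := by
          have := hs ((1 : S) ⊗ₜ[R] (i : M))
          rw [TensorProduct.smul_tmul', smul_eq_mul, mul_one] at this
          exact this
        rw [h4, h5, map_zero]
      have h2 := key g s h1
      have h3 : (LinearMap.ker g : Ideal R) = Module.annihilator R M := by
        ext r
        rw [← Submodule.annihilator_top, ← ht, Submodule.mem_annihilator_span, LinearMap.mem_ker]
        constructor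
        · intro h i
          have := congrFun h i
          simpa [g] using this
        · intro h
          funext i
          simpa [g] using h i
      rw [h3] at h2
      exact h2

end Groth.Agent.S6283
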