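import Groth.Statements.S6284
import Mathlib

set_option autoImplicit false
universe u
open scoped TensorProduct
open CAlg

namespace Groth.Agent.S6284

/-- Let R → R' be a ring map and M a finite R-module. Then the support of R' ⊗_R M is the inverse image
of the support of M under Spec(R') → Spec(R). -/
theorem result {R R' : Type u} [CommRing R] [CommRing R'] [Algebra R R'] (M : Type u) [AddCommGroup M] [Module R M] [Module.Finite R M] : Module.support R' (R' ⊗[R] M) = PrimeSpectrum.comap (algebraMap R R') ⁻¹' Module.support R M := by
  classical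
  have L : ∀ (K : Type u) [Field K] [Algebra R K] (p : PrimeSpectrum R),
      p.asIdeal = RingHom.ker (algebraMap R K) →
      (Nontrivial (K ⊗[R] M) ↔ p ∈ Module.support R M) := by
    intro K _ _ p hp
    rw [Module.mem_support_iff_nontrivial_residueField_tensorProduct]
    have h1 : p.asIdeal ≤ RingHom.ker (algebraMap R K) := hp.le
    have h2 : p.asIdeal.primeCompl ≤ (IsUnit.submonoid K).comap (algebraMap R K) := by
      intro s hs
      show IsUnit (algebraMap R K s)
      rw [isUnit_iff_ne_zero]
      intro h0
      exact hs (hp ▸ (RingHom.mem_ker.mpr h0))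
    letI : Algebra p.asIdeal.ResidueField K :=
      (Ideal.ResidueField.lift p.asIdeal (algebraMap R K) h1 h2).toAlgebra
    haveI : IsScalarTower R p.asIdeal.ResidueField K :=
      .of_algebraMap_eq (fun r =>
        (Ideal.ResidueField.lift_algebraMap p.asIdeal (algebraMap R K) h1 h2 r).symm)
    let e : K ⊗[p.asIdeal.ResidueField] (p.asIdeal.ResidueField ⊗[R] M) ≃ₗ[K] K ⊗[R] M :=
      TensorProduct.AlgebraTensorModule.cancelBaseChange R p.asIdeal.ResidueField K K M
    constructor
    · intro h
      by_contra hn
      rw [not_nontrivial_iff_subsingleton] at hn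
      haveI := hn
      haveI : Subsingleton (K ⊗[p.asIdeal.ResidueField] (p.asIdeal.ResidueField ⊗[R] M)) :=
        inferInstance
      exact not_subsingleton _ (e.symm.toEquiv.subsingleton)
    · intro h
      haveI := h
      exact e.symm.toEquiv.nontrivial
  ext q
  rw [Set.mem_preimage, Module.mem_support_iff_nontrivial_residueField_tensorProduct]
  have hker : (PrimeSpectrum.comap (algebraMap R R') q).asIdeal =
      RingHom.ker (algebraMap R q.asIdeal.ResidueField) := by
    rw [IsScalarTower.algebraMap_eq R R' q.asIdeal.ResidueField, ← RingHom.comap_ker,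
      Ideal.ker_algebraMap_residueField]
    rfl
  rw [← L q.asIdeal.ResidueField _ hker]
  let e2 : q.asIdeal.ResidueField ⊗[R'] (R' ⊗[R] M) ≃ₗ[q.asIdeal.ResidueField]
      q.asIdeal.ResidueField ⊗[R] M :=
    TensorProduct.AlgebraTensorModule.cancelBaseChange R R' q.asIdeal.ResidueField
      q.asIdeal.ResidueField M
  exact ⟨fun h => by haveI := h; exact e2.symm.toEquiv.nontrivial,
    fun h => by haveI := h; exact e2.toEquiv.nontrivial⟩

end Groth.Agent.S6284
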