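import Groth.Statements.S6285
import Groth.Agent.Lib.helper3.DetMinor

set_option autoImplicit false
universe u
open CAlg

open Matrix

namespace Groth.Agent.S6285

/-- For a ring R and an R-module M of finite presentation, the support Supp(M) is closed in Spec(R), and
its complement in Spec(R) is quasi-compact. -/
theorem result (R : Type u) [CommRing R] (M : Type u) [AddCommGroup M] [Module R M] [Module.FinitePresentation R M] : IsClosed (Module.support R M) ∧ IsCompact (Module.support R M)ᶜ := by
  obtain ⟨n, K, e, hK⟩ := Module.FinitePresentation.exists_fin R M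
  obtain ⟨m, k, hk⟩ := Submodule.fg_iff_exists_fin_generating_family.1 hK
  rw [e.support_eq]
  have hcol : ∀ (g : Fin n → Fin m) (y : Fin n → R),
      ((Matrix.of fun i j => k j i : Matrix (Fin n) (Fin m) R).submatrix id g) *ᵥ y ∈ K := by
    intro g y
    have : ((Matrix.of fun i j => k j i : Matrix (Fin n) (Fin m) R).submatrix id g) *ᵥ y
        = ∑ l, y l • k (g l) := by
      ext i
      simp [Matrix.mulVec, dotProduct, mul_comm]
    rw [this]
    exact Submodule.sum_mem _ fun l _ => Submodule.smul_mem _ _ (hk ▸ Submodule.subset_span ⟨g l, rfl⟩)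
  have hcompl : (Module.support R ((Fin n → R) ⧸ K))ᶜ =
      ⋃ g : Fin n → Fin m, (PrimeSpectrum.basicOpen
        ((Matrix.of fun i j => k j i : Matrix (Fin n) (Fin m) R).submatrix id g).det :
          Set (PrimeSpectrum R)) := by
    ext p
    simp only [Set.mem_compl_iff, Set.mem_iUnion, SetLike.mem_coe, PrimeSpectrum.mem_basicOpen]
    constructor
    · intro hp
      rw [Module.notMem_support_iff'] at hp
      have h1 : ∀ i : Fin n, ∃ s : R, s ∉ p.asIdeal ∧ s • (Pi.single i (1:R) : Fin n → R) ∈ K := by
        intro i
        obtain ⟨s, hs, h0⟩ := hp (Submodule.Quotient.mk (Pi.single i 1))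
        refine ⟨s, hs, ?_⟩
        rwa [← Submodule.Quotient.mk_smul, Submodule.Quotient.mk_eq_zero] at h0
      choose s hs hsK using h1
      have hS : (∏ i, s i) ∉ p.asIdeal := by
        intro h
        obtain ⟨i, -, hi⟩ := (Ideal.IsPrime.prod_mem_iff (hp := p.2)).1 h
        exact hs i hi
      have h2 : ∀ i : Fin n, ∃ b : Fin m → R,
          ∑ j, b j • k j = (∏ i, s i) • (Pi.single i (1:R) : Fin n → R) := by
        intro i
        have : (∏ i, s i) • (Pi.single i (1:R) : Fin n → R) ∈ K := by
          rw [← Finset.mul_prod_erase Finset.univ s (Finset.mem_univ i), mul_comm, mul_smul]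
          exact K.smul_mem _ (hsK i)
        rw [← hk] at this
        exact (Submodule.mem_span_range_iff_exists_fun R).1 this
      choose b hb using h2
      have hAB : (Matrix.of fun i j => k j i : Matrix (Fin n) (Fin m) R) *
          (Matrix.of fun j i => b i j : Matrix (Fin m) (Fin n) R) =
          (∏ i, s i) • (1 : Matrix (Fin n) (Fin n) R) := by
        ext i' i
        have := congrFun (hb i) i'
        rw [Finset.sum_apply] at this
        rw [Matrix.mul_apply, Matrix.smul_apply, Matrix.one_apply, smul_eq_mul]
        rw [Pi.smul_apply, Pi.single_apply, smul_eq_mul] at this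
        rw [← this]
        exact Finset.sum_congr rfl fun j _ => by simp [mul_comm]
      by_contra hall
      push_neg at hall
      have : (∏ i, s i) ^ n ∈ p.asIdeal := by
        have h3 : (∏ i, s i) ^ n = ((Matrix.of fun i j => k j i : Matrix (Fin n) (Fin m) R) *
          (Matrix.of fun j i => b i j : Matrix (Fin m) (Fin n) R)).det := by
          rw [hAB, Matrix.det_smul, Matrix.det_one, mul_one, Fintype.card_fin]
        rw [h3, h3_det_mul_eq_sum']
        exact Ideal.sum_mem _ fun g _ => Ideal.mul_mem_left _ _ (hall g)
      exact hS (p.2.mem_of_pow_mem _ this)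
    · rintro ⟨g, hg⟩
      rw [Module.notMem_support_iff']
      intro x
      obtain ⟨x, rfl⟩ := Submodule.Quotient.mk_surjective K x
      refine ⟨_, hg, ?_⟩
      rw [← Submodule.Quotient.mk_smul, Submodule.Quotient.mk_eq_zero]
      have : ((Matrix.of fun i j => k j i : Matrix (Fin n) (Fin m) R).submatrix id g).det • x =
          ((Matrix.of fun i j => k j i : Matrix (Fin n) (Fin m) R).submatrix id g) *ᵥ
          (((Matrix.of fun i j => k j i : Matrix (Fin n) (Fin m) R).submatrix id g).adjugate *ᵥ x) := by
        rw [Matrix.mulVec_mulVec, Matrix.mul_adjugate, Matrix.smul_mulVec, Matrix.one_mulVec]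
      rw [this]
      exact hcol g _
  constructor
  · rw [← isOpen_compl_iff, hcompl]
    exact isOpen_iUnion fun g => (PrimeSpectrum.basicOpen _).2
  · rw [hcompl]
    exact isCompact_iUnion fun g => PrimeSpectrum.isCompact_basicOpen _

end Groth.Agent.S6285
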