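import Groth.Statements.S6286
import Mathlib

set_option autoImplicit false
universe u
open scoped TensorProduct
open CAlg

namespace Groth.Agent.S6286

/-- Let k be a field, R and S k-algebras, S' ⊆ S a k-subalgebra and f ∈ R ⊗ₖ S', with image f again in R
⊗ₖ S. Then the images in Spec(R) of Spec((R ⊗ₖ S)_f) and of Spec((R ⊗ₖ S')_f) coincide: a prime p of
R is the contraction of a prime of R ⊗ₖ S not containing f if and only if it is the contraction of a
prime of R ⊗ₖ S' not containing f. -/
theorem result (k : Type u) [Field k] (R S : Type u) [CommRing R] [Algebra k R] [CommRing S] [Algebra k S] (S' : Subalgebra k S) (f : R ⊗[k] S') (p : PrimeSpectrum R) : (∃ q : PrimeSpectrum (R ⊗[k] S), Algebra.TensorProduct.map (AlgHom.id k R) S'.val f ∉ q.asIdeal ∧ q.asIdeal.comap (algebraMap R (R ⊗[k] S)) = p.asIdeal) ↔ (∃ q' : PrimeSpectrum (R ⊗[k] S'), f ∉ q'.asIdeal ∧ q'.asIdeal.comap (algebraMap R (R ⊗[k] S')) = p.asIdeal) := by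
  -- key equivalence
  have key : ∀ (T : Type u) [CommRing T] [Algebra R T] (g : T),
      (∃ q : PrimeSpectrum T, g ∉ q.asIdeal ∧ q.asIdeal.comap (algebraMap R T) = p.asIdeal) ↔
        ∀ (s : R) (n : ℕ), s ∉ p.asIdeal →
          algebraMap R T s * g ^ n ∉ Ideal.map (algebraMap R T) p.asIdeal := by
    intro T _ _ g
    constructor
    · rintro ⟨q, hgq, hqp⟩ s n hs hmem
      have hle : Ideal.map (algebraMap R T) p.asIdeal ≤ q.asIdeal := by
        rw [Ideal.map_le_iff_le_comap, hqp]
      rcases q.isPrime.mem_or_mem (hle hmem) with h1 | h1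
      · apply hs
        rw [← hqp]; exact h1
      · exact hgq (q.isPrime.mem_of_pow_mem n h1)
    · intro hC
      let Mset : Submonoid T :=
        { carrier := {x | ∃ s : R, s ∉ p.asIdeal ∧ ∃ n : ℕ, x = algebraMap R T s * g ^ n}
          one_mem' := ⟨1, fun h => p.isPrime.ne_top ((Ideal.eq_top_iff_one _).2 h), 0, by
            rw [map_one, pow_zero, mul_one]⟩
          mul_mem' := by
            rintro _ _ ⟨s, hs, n, rfl⟩ ⟨s', hs', n', rfl⟩
            refine ⟨s * s', fun h => ?_, n + n', ?_⟩
            · rcases p.isPrime.mem_or_mem h with h | h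
              · exact hs h
              · exact hs' h
            · rw [map_mul, pow_add]; ring }
      have hdisj : Disjoint ((Ideal.map (algebraMap R T) p.asIdeal : Ideal T) : Set T) Mset := by
        rw [Set.disjoint_left]
        rintro x hx ⟨s, hs, n, rfl⟩
        exact hC s n hs hx
      obtain ⟨q, hqprime, hle, hqdisj⟩ := Ideal.exists_le_prime_disjoint _ Mset hdisj
      rw [Set.disjoint_left] at hqdisj
      refine ⟨⟨q, hqprime⟩, ?_, ?_⟩
      · intro hg
        exact hqdisj hg ⟨1, fun h => p.isPrime.ne_top ((Ideal.eq_top_iff_one _).2 h), 1, by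
          rw [map_one, pow_one, one_mul]⟩
      · apply le_antisymm
        · intro r hr
          by_contra hrp
          exact hqdisj (Ideal.mem_comap.1 hr) ⟨r, hrp, 0, by rw [pow_zero, mul_one]⟩
        · rw [← Ideal.map_le_iff_le_comap]; exact hle
  rw [key (R ⊗[k] S), key (R ⊗[k] S')]
  -- transfer
  let φ : R ⊗[k] S' →ₐ[k] R ⊗[k] S := Algebra.TensorProduct.map (AlgHom.id k R) S'.val
  have hφalg : ∀ s : R, φ (algebraMap R (R ⊗[k] S') s) = algebraMap R (R ⊗[k] S) s := by
    intro s
    rw [Algebra.TensorProduct.algebraMap_apply, Algebra.TensorProduct.algebraMap_apply]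
    show Algebra.TensorProduct.map (AlgHom.id k R) S'.val _ = _
    rw [Algebra.TensorProduct.map_tmul, map_one]
    rfl
  obtain ⟨ρ, hρ⟩ := LinearMap.exists_leftInverse_of_injective S'.val.toLinearMap
    (LinearMap.ker_eq_bot.2 Subtype.val_injective)
  have hρ' : ∀ s' : S', ρ (s' : S) = s' := fun s' => LinearMap.congr_fun hρ s'
  let π : R ⊗[k] S →ₗ[R] R ⊗[k] S' := ρ.baseChange R
  have hπφ : ∀ x : R ⊗[k] S', π (φ x) = x := by
    intro x
    induction x using TensorProduct.induction_on with
    | zero => rw [map_zero, map_zero]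
    | tmul r s' =>
      show π (Algebra.TensorProduct.map (AlgHom.id k R) S'.val (r ⊗ₜ s')) = _
      rw [Algebra.TensorProduct.map_tmul]
      show (ρ.baseChange R) (r ⊗ₜ (s' : S)) = _
      rw [LinearMap.baseChange_tmul, hρ']
    | add x y hx hy => rw [map_add, map_add, hx, hy]
  have hπmem : ∀ x : R ⊗[k] S, x ∈ Ideal.map (algebraMap R (R ⊗[k] S)) p.asIdeal →
      π x ∈ Ideal.map (algebraMap R (R ⊗[k] S')) p.asIdeal := by
    intro x hx
    have h1 : ∀ t : R ⊗[k] S, π (t * x) ∈ Ideal.map (algebraMap R (R ⊗[k] S')) p.asIdeal := by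
      refine Submodule.span_induction
        (p := fun x _ => ∀ t : R ⊗[k] S,
          π (t * x) ∈ Ideal.map (algebraMap R (R ⊗[k] S')) p.asIdeal) ?_ ?_ ?_ ?_ hx
      · rintro _ ⟨r, hr, rfl⟩ t
        have : t * algebraMap R (R ⊗[k] S) r = r • t := by
          rw [Algebra.smul_def, mul_comm]
        rw [this, map_smul]
        have h2 : algebraMap R (R ⊗[k] S') r * π t ∈
            Ideal.map (algebraMap R (R ⊗[k] S')) p.asIdeal :=
          Ideal.mul_mem_right _ _ (Ideal.mem_map_of_mem _ hr)
        convert h2 using 1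
        exact Algebra.smul_def r (π t)
      · intro t
        rw [mul_zero, map_zero]; exact Ideal.zero_mem _
      · intro x y _ _ hx hy t
        rw [mul_add, map_add]; exact Ideal.add_mem _ (hx t) (hy t)
      · intro t' x _ hx t
        rw [smul_eq_mul, ← mul_assoc]; exact hx (t * t')
    have := h1 1
    rwa [one_mul] at this
  have hmemiff : ∀ x : R ⊗[k] S', φ x ∈ Ideal.map (algebraMap R (R ⊗[k] S)) p.asIdeal ↔
      x ∈ Ideal.map (algebraMap R (R ⊗[k] S')) p.asIdeal := by
    intro x
    constructor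
    · intro h
      have := hπmem _ h
      rwa [hπφ] at this
    · intro h
      have h1 : φ x ∈ Ideal.map (φ : R ⊗[k] S' →+* R ⊗[k] S)
          (Ideal.map (algebraMap R (R ⊗[k] S')) p.asIdeal) := Ideal.mem_map_of_mem _ h
      rw [Ideal.map_map] at h1
      have h2 : (φ : R ⊗[k] S' →+* R ⊗[k] S).comp (algebraMap R (R ⊗[k] S')) =
          algebraMap R (R ⊗[k] S) := RingHom.ext hφalg
      rwa [h2] at h1
  have hkey2 : ∀ (s : R) (n : ℕ), algebraMap R (R ⊗[k] S) s * (φ f) ^ n =
      φ (algebraMap R (R ⊗[k] S') s * f ^ n) := by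
    intro s n
    rw [map_mul, map_pow, hφalg]
  constructor
  · intro h s n hs hmem
    apply h s n hs
    rw [show Algebra.TensorProduct.map (AlgHom.id k R) S'.val f = φ f from rfl, hkey2, hmemiff]
    exact hmem
  · intro h s n hs hmem
    apply h s n hs
    rw [show Algebra.TensorProduct.map (AlgHom.id k R) S'.val f = φ f from rfl, hkey2,
      hmemiff] at hmem
    exact hmem

end Groth.Agent.S6286
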