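import Groth.Statements.S6287
import Mathlib

set_option autoImplicit false
universe u
open CAlg

namespace Groth.Agent.S6287

/-- Let (A_i) be a directed system of valuation rings. Then the colimit A = colim A_i is a valuation
ring (in particular a domain). -/
theorem result {ι : Type u} [Preorder ι] [Nonempty ι] [IsDirected ι (· ≤ ·)] (G : ι → Type u) [∀ i, CommRing (G i)] [∀ i, IsDomain (G i)] [∀ i, ValuationRing (G i)] (f : ∀ i j, i ≤ j → G i →+* G j) [DirectedSystem G fun i j h => f i j h] : ∃ _ : IsDomain (Ring.DirectLimit G fun i j h => f i j h), ValuationRing (Ring.DirectLimit G fun i j h => f i j h) := by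
  have hdom : IsDomain (Ring.DirectLimit G fun i j h => f i j h) := by
    haveI : Nontrivial (Ring.DirectLimit G fun i j h => f i j h) := by
      refine ⟨⟨0, 1, fun h => ?_⟩⟩
      obtain ⟨i⟩ := ‹Nonempty ι›
      have h1 : Ring.DirectLimit.of G (fun i j h => f i j h) i 1 = 0 := by rw [map_one]; exact h.symm
      obtain ⟨j, hij, hj⟩ := Ring.DirectLimit.of.zero_exact h1
      rw [map_one] at hj
      exact one_ne_zero hj
    haveI : NoZeroDivisors (Ring.DirectLimit G fun i j h => f i j h) := by
      refine ⟨fun {x y} hxy => ?_⟩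
      obtain ⟨i, a, rfl⟩ := Ring.DirectLimit.exists_of x
      obtain ⟨j, b, rfl⟩ := Ring.DirectLimit.exists_of y
      obtain ⟨k, hik, hjk⟩ := exists_ge_ge i j
      rw [← Ring.DirectLimit.of_f hik, ← Ring.DirectLimit.of_f hjk, ← map_mul] at hxy
      obtain ⟨l, hkl, hl⟩ := Ring.DirectLimit.of.zero_exact hxy
      rw [map_mul] at hl
      rcases mul_eq_zero.1 hl with h | h
      · left
        rw [← Ring.DirectLimit.of_f hik, ← Ring.DirectLimit.of_f hkl, h, map_zero]
      · right
        rw [← Ring.DirectLimit.of_f hjk, ← Ring.DirectLimit.of_f hkl, h, map_zero]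
    exact NoZeroDivisors.to_isDomain _
  refine ⟨hdom, ?_⟩
  refine { cond' := ?_ }
  intro x y
  obtain ⟨i, a, rfl⟩ := Ring.DirectLimit.exists_of x
  obtain ⟨j, b, rfl⟩ := Ring.DirectLimit.exists_of y
  obtain ⟨k, hik, hjk⟩ := exists_ge_ge i j
  obtain ⟨c, hc | hc⟩ := ValuationRing.cond (f i k hik a) (f j k hjk b)
  · refine ⟨Ring.DirectLimit.of G _ k c, Or.inl ?_⟩
    rw [← Ring.DirectLimit.of_f hik, ← map_mul, hc, Ring.DirectLimit.of_f]
  · refine ⟨Ring.DirectLimit.of G _ k c, Or.inr ?_⟩
    rw [← Ring.DirectLimit.of_f hjk, ← map_mul, hc, Ring.DirectLimit.of_f]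

end Groth.Agent.S6287
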