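import Groth.Statements.S6289
import Mathlib

set_option autoImplicit false
universe u
open CAlg

namespace Groth.Agent.S6289

/-- Let A' be a valuation ring with residue field K and A ⊆ K a valuation ring with fraction field K.
Then the subring C of A' consisting of the elements whose residue class lies in A is a valuation
ring. -/
theorem result (A' : Type u) [CommRing A'] [IsDomain A'] [ValuationRing A'] (A : ValuationSubring (IsLocalRing.ResidueField A')) : ValuationRing (A.toSubring.comap (IsLocalRing.residue A')) := by
  have key : ∀ (a b c : A'), a * c = b → 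
      ∃ c' : A', IsLocalRing.residue A' c' ∈ A ∧ (a * c' = b ∨ b * c' = a) := by
    intro a b c h
    by_cases hc : IsLocalRing.residue A' c ∈ A
    · exact ⟨c, hc, Or.inl h⟩
    · have hne : IsLocalRing.residue A' c ≠ 0 := fun h0 => hc (by rw [h0]; exact A.zero_mem)
      have hu : IsUnit c := by
        by_contra hnu
        exact hne ((IsLocalRing.residue_eq_zero_iff c).2 ((IsLocalRing.mem_maximalIdeal c).2 hnu))
      obtain ⟨u, rfl⟩ := hu
      refine ⟨(↑u⁻¹ : A'), ?_, Or.inr ?_⟩
      · have : IsLocalRing.residue A' (↑u⁻¹ : A') = (IsLocalRing.residue A' (u : A'))⁻¹ := by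
          symm
          apply inv_eq_of_mul_eq_one_right
          rw [← map_mul, Units.mul_inv, map_one]
        rw [this]
        exact (A.mem_or_inv_mem _).resolve_left hc
      · rw [← h, mul_assoc, Units.mul_inv, mul_one]
  refine { cond' := ?_ }
  rintro ⟨a, ha⟩ ⟨b, hb⟩
  obtain ⟨c, hc | hc⟩ := ValuationRing.cond a b
  · obtain ⟨c', hc', h⟩ := key a b c hc
    refine ⟨⟨c', hc'⟩, ?_⟩
    rcases h with h | h
    · left; exact Subtype.ext h
    · right; exact Subtype.ext h
  · obtain ⟨c', hc', h⟩ := key b a c hc
    refine ⟨⟨c', hc'⟩, ?_⟩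
    rcases h with h | h
    · right; exact Subtype.ext h
    · left; exact Subtype.ext h

end Groth.Agent.S6289
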