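import Groth.Statements.S6292
import Mathlib

set_option autoImplicit false
universe u
open CAlg

namespace Groth.Agent.S6292

/-- Let R be a ring and m ⊆ R a finitely generated maximal ideal (for instance R Noetherian). If M is a
finite R-module with mⁿM = 0 for some n, then M has finite length. -/
theorem result {R : Type u} [CommRing R] (m : Ideal R) [m.IsMaximal] (hm : m.FG) (M : Type u) [AddCommGroup M] [Module R M] [Module.Finite R M] (n : ℕ) (hn : m ^ n • (⊤ : Submodule R M) = ⊥) : IsFiniteLength R M := by
  classical
  induction n generalizing M with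
  | zero =>
    rw [pow_zero, Ideal.one_eq_top, Submodule.top_smul] at hn
    haveI : Subsingleton M := by
      refine ⟨fun a b => ?_⟩
      have ha : a ∈ (⊤ : Submodule R M) := trivial
      have hb : b ∈ (⊤ : Submodule R M) := trivial
      rw [hn, Submodule.mem_bot] at ha hb
      rw [ha, hb]
    exact IsFiniteLength.of_subsingleton
  | succ n ih =>
    let N : Submodule R M := m ^ n • ⊤
    have hNfg : N.FG := Submodule.FG.smul (Ideal.FG.pow hm) (Module.Finite.fg_top)
    haveI : Module.Finite R N := Module.Finite.iff_fg.mpr hNfg
    have h2 : m • N = ⊥ := by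
      rw [← Submodule.mul_smul, ← pow_succ', hn]
    have htors : Module.IsTorsionBySet R N (m : Set R) := by
      intro x a
      apply Subtype.ext
      have : (a : R) • (x : M) ∈ m • N := Submodule.smul_mem_smul a.2 x.2
      rw [h2, Submodule.mem_bot] at this
      simpa using this
    have hss : IsSemisimpleModule R N := by
      letI := Ideal.Quotient.field m
      letI := htors.module
      exact htors.isSemisimpleModule_iff.mp inferInstance
    have hN : IsFiniteLength R N := ((IsSemisimpleModule.finite_tfae (R := R) (M := N)).out 0 3).mp ‹Module.Finite R N›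
    have hQ : IsFiniteLength R (M ⧸ N) := by
      apply ih
      rw [show (⊤ : Submodule R (M ⧸ N)) = Submodule.map N.mkQ ⊤ by
        rw [Submodule.map_top, Submodule.range_mkQ], ← Submodule.map_smul'']
      exact Submodule.mkQ_map_self N
    rw [isFiniteLength_iff_isNoetherian_isArtinian] at hN hQ ⊢
    obtain ⟨hN1, hN2⟩ := hN
    obtain ⟨hQ1, hQ2⟩ := hQ
    have hex : LinearMap.range N.subtype = LinearMap.ker N.mkQ := by
      rw [Submodule.range_subtype, Submodule.ker_mkQ]
    exact ⟨isNoetherian_of_range_eq_ker N.subtype N.mkQ hex,
      isArtinian_of_range_eq_ker N.subtype N.mkQ hex⟩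

end Groth.Agent.S6292
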