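import Groth.Statements.S6295
import Mathlib

set_option autoImplicit false
universe u
open CAlg

namespace Groth.Agent.S6295

/-- Let R be a reduced ring. Then every localization R_p at a minimal prime p is a field and the map R →
∏_{p minimal} R_p is injective (so R is a subring of a product of fields); moreover the set of
zerodivisors of R is the union of the minimal primes. -/
theorem result (R : Type u) [CommRing R] [IsReduced R] : (∀ p : PrimeSpectrum R, p.asIdeal ∈ minimalPrimes R → IsField (Localization.AtPrime p.asIdeal)) ∧ Function.Injective (algebraMap R (∀ p : {p : PrimeSpectrum R // p.asIdeal ∈ minimalPrimes R}, Localization.AtPrime p.1.asIdeal)) ∧ (∀ x : R, x ∉ nonZeroDivisors R ↔ ∃ p ∈ minimalPrimes R, x ∈ p) := by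
  have key : ∀ y : R, y ≠ 0 → ∃ p ∈ minimalPrimes R, y ∉ p := by
    intro y hy
    by_contra h
    push_neg at h
    apply hy
    have : y ∈ sInf (⊥ : Ideal R).minimalPrimes := by
      rw [Ideal.mem_sInf]
      intro p hp
      exact h p hp
    rw [Ideal.sInf_minimalPrimes] at this
    obtain ⟨n, hn⟩ := this
    rw [Ideal.mem_bot] at hn
    exact IsReduced.eq_zero y ⟨n, hn⟩
  refine ⟨?_, ?_, ?_⟩
  · intro p hp
    have h := IsLocalization.AtPrime.radical_map_of_mem_minimalPrimes (A := Localization.AtPrime p.asIdeal) p.asIdeal ⊥ hp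
    rw [Ideal.map_bot, IsLocalization.AtPrime.map_eq_maximalIdeal p.asIdeal (Localization.AtPrime p.asIdeal)] at h
    rw [IsLocalRing.isField_iff_maximalIdeal_eq, ← h]
    ext x; simp only [Ideal.mem_bot]; constructor
    · rintro ⟨n, hn⟩; exact IsReduced.eq_zero x ⟨n, by simpa using hn⟩
    · rintro rfl; exact Ideal.zero_mem _
  · rw [injective_iff_map_eq_zero]
    intro x hx
    by_contra hne
    obtain ⟨p, hp, hxp⟩ := key x hne
    have hp' : p.IsPrime := hp.1.1
    have h1 := congrFun hx ⟨⟨p, hp'⟩, hp⟩
    have h2 : algebraMap R (Localization.AtPrime p) x = 0 := h1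
    obtain ⟨s, hs⟩ := (IsLocalization.map_eq_zero_iff p.primeCompl _ x).1 h2
    rcases hp'.mem_or_mem (show (s : R) * x ∈ p by rw [hs]; exact p.zero_mem) with h | h
    · exact s.2 h
    · exact hxp h
  · intro x
    constructor
    · intro hx
      rw [mem_nonZeroDivisors_iff_right] at hx
      push_neg at hx
      obtain ⟨y, hyx, hy⟩ := hx
      obtain ⟨p, hp, hyp⟩ := key y hy
      refine ⟨p, hp, ?_⟩
      have hp' : p.IsPrime := hp.1.1
      rcases hp'.mem_or_mem (show y * x ∈ p by rw [hyx]; exact p.zero_mem) with h | h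
      · exact absurd h hyp
      · exact h
    · rintro ⟨p, hp, hxp⟩
      exact notMem_nonZeroDivisors_of_mem_mem_minimalPrimes hxp hp

end Groth.Agent.S6295
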