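import Groth.Statements.S6297
-- import your own Groth.Agent.* helpers here

set_option autoImplicit false
universe u
open CAlg

namespace Groth.Agent.S6297

/-- Let R be a ring, m ≤ n, A an n × m matrix over R and J the ideal generated by the m × m minors of A.
(1) For every f ∈ J there is an m × n matrix B with BA = f · 1. (2) If BA = f · 1 for some m × n
matrix B, then f^m ∈ J. -/
theorem result {R : Type u} [CommRing R] {n m : ℕ} (hmn : m ≤ n) (A : Matrix (Fin n) (Fin m) R) : (∀ f ∈ CAlgX.minorIdeal A m, ∃ B : Matrix (Fin m) (Fin n) R, B * A = f • (1 : Matrix (Fin m) (Fin m) R)) ∧ (∀ (f : R) (B : Matrix (Fin m) (Fin n) R), B * A = f • (1 : Matrix (Fin m) (Fin m) R) → f ^ m ∈ CAlgX.minorIdeal A m) := by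
  refine ⟨fun f hf => ?_, fun f B hB => ?_⟩
  · let S : Submodule R R :=
      { carrier := {f | ∃ B : Matrix (Fin m) (Fin n) R, B * A = f • (1 : Matrix (Fin m) (Fin m) R)}
        add_mem' := by
          rintro a b ⟨B1, h1⟩ ⟨B2, h2⟩
          exact ⟨B1 + B2, by rw [Matrix.add_mul, h1, h2, add_smul]⟩
        zero_mem' := ⟨0, by simp⟩
        smul_mem' := by
          rintro c a ⟨B1, h1⟩
          exact ⟨c • B1, by rw [Matrix.smul_mul, h1, smul_smul, smul_eq_mul]⟩ }
    have hle : CAlgX.minorIdeal A m ≤ S := by
      unfold CAlgX.minorIdeal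
      rw [Ideal.span_le]
      rintro _ ⟨⟨r, c⟩, rfl⟩
      show ∃ B : Matrix (Fin m) (Fin n) R, B * A = (A.submatrix r c).det • (1 : Matrix (Fin m) (Fin m) R)
      by_cases hc : Function.Injective c
      · have hbij : Function.Bijective c := Finite.injective_iff_bijective.1 hc
        have hdet : (A.submatrix r c).det =
            ((Equiv.Perm.sign (Equiv.ofBijective c hbij) : ℤ) : R) * (A.submatrix r id).det := by
          have : A.submatrix r c = (A.submatrix r id).submatrix id (Equiv.ofBijective c hbij) := by
            ext i j; rfl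
          rw [this, Matrix.det_permute']
        have hP : (Matrix.of fun (j : Fin m) (k : Fin n) => if r j = k then (1 : R) else 0) * A
            = A.submatrix r id := by
          ext j l
          simp [Matrix.mul_apply]
        refine ⟨((Equiv.Perm.sign (Equiv.ofBijective c hbij) : ℤ) : R) •
          ((A.submatrix r id).adjugate *
            (Matrix.of fun (j : Fin m) (k : Fin n) => if r j = k then (1 : R) else 0)), ?_⟩
        rw [Matrix.smul_mul, Matrix.mul_assoc, hP, Matrix.adjugate_mul, smul_smul, hdet]
      · refine ⟨0, ?_⟩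
        obtain ⟨i, j, hij, hne⟩ := Function.not_injective_iff.1 hc
        rw [Matrix.det_zero_of_column_eq hne (by intro k; simp [hij]), zero_smul, Matrix.zero_mul]
    exact hle hf
  · have key : (B * A).det = ∑ g : Fin m → Fin n, (∏ i, B i (g i)) * (A.submatrix g id).det := by
      have h1 : B * A = fun i => ∑ k, B i k • A k := by
        ext i j
        simp [Matrix.mul_apply, Finset.sum_apply]
      rw [h1]
      show (Matrix.detRowAlternating (R := R) (n := Fin m)).toMultilinearMap
        (fun i => ∑ k, B i k • A k) = _
      rw [MultilinearMap.map_sum]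
      refine Finset.sum_congr rfl fun g _ => ?_
      rw [MultilinearMap.map_smul_univ]
      rfl
    have h2 : f ^ m = (B * A).det := by
      rw [hB, Matrix.det_smul, Matrix.det_one, mul_one, Fintype.card_fin]
    rw [h2, key]
    refine Ideal.sum_mem _ fun g _ => Ideal.mul_mem_left _ _ ?_
    exact Ideal.subset_span ⟨(g, id), rfl⟩

end Groth.Agent.S6297
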