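import Groth.Statements.S6298
import Mathlib.RingTheory.Ideal.Operations

set_option autoImplicit false
universe u
open CAlg

theorem helper3_coset_prime_avoidance {R : Type*} [CommRing R] {ι : Type*} [DecidableEq ι] (x : R) (I : Ideal R)
    (p : ι → Ideal R) (hp : ∀ i, (p i).IsPrime) (s : Finset ι)
    (h : ∀ i ∈ s, ∃ y ∈ I, x + y ∉ p i) : ∃ y ∈ I, ∀ i ∈ s, x + y ∉ p i := by
  induction s using Finset.strongInduction with
  | H s ih =>
    rcases s.eq_empty_or_nonempty with rfl | ⟨j, hj⟩
    · exact ⟨0, I.zero_mem, by simp⟩
    by_cases hinc : ∃ i ∈ s, ∃ k ∈ s, i ≠ k ∧ p i ≤ p k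
    · obtain ⟨i, hi, k, hk, hik, hle⟩ := hinc
      obtain ⟨y, hyI, hy⟩ := ih (s.erase i) (Finset.erase_ssubset hi)
        (fun l hl => h l (Finset.mem_of_mem_erase hl))
      refine ⟨y, hyI, fun l hl => ?_⟩
      by_cases hli : l = i
      · subst hli
        intro hmem
        exact hy k (Finset.mem_erase.mpr ⟨fun e => hik e.symm, hk⟩) (hle hmem)
      · exact hy l (Finset.mem_erase.mpr ⟨hli, hl⟩)
    · push Not at hinc
      obtain ⟨y, hyI, hy⟩ := ih (s.erase j) (Finset.erase_ssubset hj)
        (fun l hl => h l (Finset.mem_of_mem_erase hl))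
      by_cases hyj : x + y ∉ p j
      · refine ⟨y, hyI, fun l hl => ?_⟩
        by_cases hlj : l = j
        · subst hlj; exact hyj
        · exact hy l (Finset.mem_erase.mpr ⟨hlj, hl⟩)
      · push Not at hyj
        have hIj : ¬ I ≤ p j := by
          intro hle
          obtain ⟨y', hy'I, hy'⟩ := h j hj
          apply hy'
          have hxj : x ∈ p j := by
            have := (p j).sub_mem hyj (hle hyI)
            simpa using this
          exact (p j).add_mem hxj (hle hy'I)
        obtain ⟨z, hzI, hzj⟩ := SetLike.not_le_iff_exists.mp hIj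
        have hchoice : ∀ i ∈ s.erase j, ∃ a ∈ p i, a ∉ p j := by
          intro i hi
          have hne : i ≠ j := (Finset.mem_erase.mp hi).1
          have := hinc i (Finset.mem_of_mem_erase hi) j hj hne
          exact SetLike.not_le_iff_exists.mp this
        choose! a ha ha' using hchoice
        let b := z * ∏ i ∈ s.erase j, a i
        have hbI : b ∈ I := I.mul_mem_right _ hzI
        have hbj : b ∉ p j := by
          intro hb
          rcases (hp j).mem_or_mem hb with h1 | h1
          · exact hzj h1
          · have := hp j
            rw [Ideal.IsPrime.prod_mem_iff] at h1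
            obtain ⟨i, hi, hai⟩ := h1
            exact ha' i hi hai
        have hbi : ∀ i ∈ s.erase j, b ∈ p i := by
          intro i hi
          apply Ideal.mul_mem_left
          obtain ⟨c, hc⟩ := Finset.dvd_prod_of_mem a hi
          rw [hc]
          exact Ideal.mul_mem_right _ _ (ha i hi)
        refine ⟨y + b, I.add_mem hyI hbI, fun l hl => ?_⟩
        by_cases hlj : l = j
        · subst hlj
          intro hmem
          apply hbj
          have := (p l).sub_mem hmem hyj
          have e : x + (y + b) - (x + y) = b := by ring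
          rwa [e] at this
        · have hl' : l ∈ s.erase j := Finset.mem_erase.mpr ⟨hlj, hl⟩
          intro hmem
          apply hy l hl'
          have := (p l).sub_mem hmem (hbi l hl')
          have e : x + (y + b) - b = x + y := by ring
          rwa [e] at this

namespace Groth.Agent.S6298

/-- Let R be a ring, x ∈ R, I ⊆ R an ideal and p₁, …, p_r prime ideals such that for each i the coset x
+ I is not contained in p_i. Then there is y ∈ I with x + y ∉ p_i for all i. -/
theorem result {R : Type u} [CommRing R] (x : R) (I : Ideal R) {r : ℕ} (p : Fin r → Ideal R) [∀ i, (p i).IsPrime] (h : ∀ i, ∃ y ∈ I, x + y ∉ p i) : ∃ y ∈ I, ∀ i, x + y ∉ p i := by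
  classical
  obtain ⟨y, hyI, hy⟩ := helper3_coset_prime_avoidance x I p inferInstance Finset.univ (fun i _ => h i)
  exact ⟨y, hyI, fun i => hy i (Finset.mem_univ i)⟩

end Groth.Agent.S6298
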