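import Groth.Statements.S6301
import Mathlib

set_option autoImplicit false
universe u
open CAlg

namespace Groth.Agent.S6301

/-- An R-module M is flat exactly when, for every finitely presented R-module P and every surjective
R-module map N → M, the induced map Hom_R(P, N) → Hom_R(P, M) is surjective (modules P, N taken in
the same universe). -/
theorem result {R : Type u} [CommRing R] (M : Type u) [AddCommGroup M] [Module R M] : Module.Flat R M ↔ ∀ (P : Type u) [AddCommGroup P] [Module R P], Module.FinitePresentation R P → ∀ (N : Type u) [AddCommGroup N] [Module R N] (g : N →ₗ[R] M), Function.Surjective g → ∀ h : P →ₗ[R] M, ∃ h' : P →ₗ[R] N, g.comp h' = h := by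
  classical
  constructor
  · intro hflat P _ _ hP N _ _ g hg h
    obtain ⟨k, h₂, h₃, rfl⟩ :=
      Module.Flat.exists_factorization_of_finitePresentation (R := R) (M := M) h
    obtain ⟨φ, hφ⟩ := Module.projective_lifting_property g h₃ hg
    exact ⟨φ ∘ₗ h₂, by rw [← LinearMap.comp_assoc, hφ]⟩
  · intro H
    refine Module.Flat.of_forall_isTrivialRelation ?_
    intro l f x hfx
    let X : (Fin l → R) →ₗ[R] M := Fintype.linearCombination R x
    have hXf : X f = 0 := by
      simpa [X, Fintype.linearCombination_apply] using hfx
    let K : Submodule R (Fin l → R) := Submodule.span R {f}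
    have hK : K ≤ LinearMap.ker X := by
      rw [Submodule.span_le, Set.singleton_subset_iff]; exact hXf
    let h : ((Fin l → R) ⧸ K) →ₗ[R] M := K.liftQ X hK
    have hP : Module.FinitePresentation R ((Fin l → R) ⧸ K) :=
      Module.finitePresentation_of_surjective K.mkQ (Submodule.mkQ_surjective K)
        (by rw [Submodule.ker_mkQ]; exact Submodule.fg_span_singleton f)
    obtain ⟨h', hh'⟩ := H ((Fin l → R) ⧸ K) hP (M →₀ R)
      (Finsupp.linearCombination R (id : M → M))
      (Finsupp.linearCombination_id_surjective R M) h
    let c : Fin l → (M →₀ R) := fun i => h' (K.mkQ (Pi.single i 1))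
    let T : Finset M := Finset.univ.biUnion (fun i => (c i).support)
    have hsub : ∀ i, (c i).support ⊆ T := fun i =>
      Finset.subset_biUnion_of_mem (fun i => (c i).support) (Finset.mem_univ i)
    refine ⟨T.card, fun i j => c i (T.equivFin.symm j : M), fun j => (T.equivFin.symm j : M),
      ?_, ?_⟩
    · intro i
      have e1 : h (K.mkQ (Pi.single i 1)) = x i := by
        rw [Submodule.mkQ_apply]
        show K.liftQ X hK (Submodule.Quotient.mk _) = _
        rw [Submodule.liftQ_apply]
        show Fintype.linearCombination R x (Pi.single i 1) = x i
        rw [Fintype.linearCombination_apply_single, one_smul]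
      have e2 : Finsupp.linearCombination R (id : M → M) (c i) = x i := by
        rw [← e1, ← hh']; rfl
      rw [← e2, Finsupp.linearCombination_apply,
        Finsupp.sum_of_support_subset _ (hsub i) _ (by intro m _; simp)]
      rw [← Finset.sum_coe_sort T (fun m => c i m • id m)]
      rw [← Equiv.sum_comp T.equivFin.symm]
      rfl
    · intro j
      have hz : ∑ i, f i • c i = 0 := by
        have h1 : ∑ i, f i • c i = h' (K.mkQ (∑ i, f i • Pi.single i 1)) := by
          simp only [c, map_sum, map_smul]
        have h2 : (∑ i, f i • (Pi.single i (1:R) : Fin l → R)) = f := by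
          ext j
          simp [Finset.sum_apply, Pi.single_apply]
        have h3 : K.mkQ f = 0 := by
          rw [Submodule.mkQ_apply, Submodule.Quotient.mk_eq_zero]
          exact Submodule.mem_span_singleton_self f
        rw [h1, h2, h3, map_zero]
      have := DFunLike.congr_fun hz (T.equivFin.symm j : M)
      simpa [Finsupp.coe_finset_sum, Finset.sum_apply, smul_eq_mul] using this

end Groth.Agent.S6301
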