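import Groth.Statements.S6303
import Mathlib

set_option autoImplicit false
universe u
open CAlg

namespace Groth.Agent.S6303

/-- Let R be a ring, I, J ⊆ R ideals and M a flat R-module. Then IM ∩ JM = (I ∩ J)M. -/
theorem result {R : Type u} [CommRing R] (I J : Ideal R) (M : Type u) [AddCommGroup M] [Module R M] [Module.Flat R M] : (I • (⊤ : Submodule R M)) ⊓ (J • ⊤) = (I ⊓ J) • (⊤ : Submodule R M) := by
  classical
  apply le_antisymm
  · intro x hx
    obtain ⟨hxI, hxJ⟩ := hx
    have rep : ∀ (K : Ideal R) (x : M), x ∈ K • (⊤ : Submodule R M) →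
        ∃ (n : ℕ) (a : Fin n → R) (m : Fin n → M), (∀ i, a i ∈ K) ∧ x = ∑ i, a i • m i := by
      intro K x hx
      refine Submodule.smul_induction_on hx ?_ ?_
      · intro r hr m _
        exact ⟨1, fun _ => r, fun _ => m, fun _ => hr, by simp⟩
      · rintro x y ⟨n, a, m, ha, rfl⟩ ⟨n', a', m', ha', rfl⟩
        refine ⟨n + n', Fin.append a a', Fin.append m m', ?_, ?_⟩
        · intro i
          refine Fin.addCases (fun i => ?_) (fun i => ?_) i <;> simp [ha, ha']
        · rw [Fin.sum_univ_add]; simp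
    obtain ⟨n, a, m, ha, rfl⟩ := rep I x hxI
    obtain ⟨n', b, m', hb, hx'⟩ := rep J _ hxJ
    have hrel : ∑ i : Fin n ⊕ Fin n', (Sum.elim a (fun j => - b j) i) • (Sum.elim m m' i) = 0 := by
      rw [Fintype.sum_sum_type]
      simp only [Sum.elim_inl, Sum.elim_inr, neg_smul, Finset.sum_neg_distrib]
      rw [hx']; simp
    obtain ⟨k, c, y, hxy, hc⟩ := Module.Flat.isTrivialRelation_of_sum_smul_eq_zero hrel
    have hr : ∀ j : Fin k, ∑ i, a i * c (Sum.inl i) j = ∑ i, b i * c (Sum.inr i) j := by
      intro j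
      have := hc j
      rw [Fintype.sum_sum_type] at this
      simp only [Sum.elim_inl, Sum.elim_inr, neg_mul, Finset.sum_neg_distrib] at this
      exact add_neg_eq_zero.mp this
    have hmem : ∀ j : Fin k, ∑ i, a i * c (Sum.inl i) j ∈ I ⊓ J := by
      intro j
      refine ⟨?_, ?_⟩
      · exact Ideal.sum_mem _ (fun i _ => Ideal.mul_mem_right _ _ (ha i))
      · rw [hr j]; exact Ideal.sum_mem _ (fun i _ => Ideal.mul_mem_right _ _ (hb i))
    have hfin : ∑ i, a i • m i = ∑ j, (∑ i, a i * c (Sum.inl i) j) • y j := by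
      have h1 : ∀ i, m i = ∑ j, c (Sum.inl i) j • y j := fun i => hxy (Sum.inl i)
      simp_rw [h1, Finset.smul_sum, Finset.sum_smul, mul_smul]
      exact Finset.sum_comm
    rw [hfin]
    exact Submodule.sum_mem _ (fun j _ => Submodule.smul_mem_smul (hmem j) Submodule.mem_top)
  · exact le_inf (Submodule.smul_mono_left inf_le_left) (Submodule.smul_mono_left inf_le_right)

end Groth.Agent.S6303
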