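import Groth.Statements.S6304
import Mathlib.RingTheory.Flat.Equalizer

set_option autoImplicit false
universe u
open CAlg

namespace Groth.Agent.S6304

/-- In a short exact sequence 0 → M' → M → M'' → 0 of R-modules whose right-hand term M'' is flat, the
middle term M is flat when M' is, and M' is flat when M is. -/
theorem result {R : Type u} [CommRing R] {M' M M'' : Type u} [AddCommGroup M'] [Module R M'] [AddCommGroup M] [Module R M] [AddCommGroup M''] [Module R M''] (f : M' →ₗ[R] M) (g : M →ₗ[R] M'') (hf : Function.Injective f) (hexact : Function.Exact f g) (hg : Function.Surjective g) [Module.Flat R M''] : (Module.Flat R M' → Module.Flat R M) ∧ (Module.Flat R M → Module.Flat R M') := by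
  constructor
  · intro hM'
    rw [Module.Flat.iff_rTensor_preserves_injective_linearMap]
    intro A B _ _ _ _ i hi
    have hA := lTensor_exact A hexact hg
    have hfB : Function.Injective (f.lTensor B) :=
      LinearMap.lTensor_injective_of_exact_of_flat g hg f hf hexact B
    have hiM'' : Function.Injective (i.rTensor M'') :=
      Module.Flat.rTensor_preserves_injective_linearMap i hi
    have hiM' : Function.Injective (i.rTensor M') :=
      Module.Flat.rTensor_preserves_injective_linearMap i hi
    rw [injective_iff_map_eq_zero]
    intro x hx
    have h1 : (i.rTensor M'') ((g.lTensor A) x) = 0 := by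
      have : (i.rTensor M'').comp (g.lTensor A) = (g.lTensor B).comp (i.rTensor M) := by
        rw [LinearMap.rTensor_comp_lTensor, LinearMap.lTensor_comp_rTensor]
      have := congrArg (fun φ => φ x) this
      simp only [LinearMap.comp_apply] at this
      rw [this, hx, map_zero]
    have h2 : (g.lTensor A) x = 0 := by
      apply hiM''
      rw [h1, map_zero]
    obtain ⟨x', rfl⟩ := (hA x).mp h2
    have h3 : (f.lTensor B) ((i.rTensor M') x') = 0 := by
      have : (f.lTensor B).comp (i.rTensor M') = (i.rTensor M).comp (f.lTensor A) := by
        rw [LinearMap.rTensor_comp_lTensor, LinearMap.lTensor_comp_rTensor]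
      have := congrArg (fun φ => φ x') this
      simp only [LinearMap.comp_apply] at this
      rw [this, hx]
    have h4 : (i.rTensor M') x' = 0 := by
      apply hfB
      rw [h3, map_zero]
    have h5 : x' = 0 := by
      apply hiM'
      rw [h4, map_zero]
    rw [h5, map_zero]
  · intro hM
    rw [Module.Flat.iff_rTensor_preserves_injective_linearMap]
    intro A B _ _ _ _ i hi
    have hfA : Function.Injective (f.lTensor A) :=
      LinearMap.lTensor_injective_of_exact_of_flat g hg f hf hexact A
    have hiM : Function.Injective (i.rTensor M) :=
      Module.Flat.rTensor_preserves_injective_linearMap i hi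
    have hcomp : Function.Injective ((f.lTensor B).comp (i.rTensor M')) := by
      have : (f.lTensor B).comp (i.rTensor M') = (i.rTensor M).comp (f.lTensor A) := by
        rw [LinearMap.rTensor_comp_lTensor, LinearMap.lTensor_comp_rTensor]
      rw [this]
      exact hiM.comp hfA
    exact Function.Injective.of_comp hcomp

end Groth.Agent.S6304
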