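import Groth.Statements.S6305
import Groth.Agent.Lib.helper3.UnivInj

set_option autoImplicit false
universe u
open CAlg

namespace Groth.Agent.S6305

/-- An R-module M is flat exactly when every short exact sequence 0 → M₁ → M₂ → M → 0 of R-modules is
universally exact, i.e. its first map M₁ → M₂ is universally injective. -/
theorem result {R : Type u} [CommRing R] (M : Type u) [AddCommGroup M] [Module R M] : Module.Flat R M ↔ ∀ (M₁ M₂ : Type u) [AddCommGroup M₁] [Module R M₁] [AddCommGroup M₂] [Module R M₂] (f : M₁ →ₗ[R] M₂) (g : M₂ →ₗ[R] M), Function.Injective f → Function.Exact f g → Function.Surjective g → CAlgX.UniversallyInjective R f := by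
  constructor
  · intro hM M₁ M₂ _ _ _ _ f g hf hexact hg Q _ _
    rw [← LinearMap.lTensor_inj_iff_rTensor_inj]
    exact LinearMap.lTensor_injective_of_exact_of_flat g hg f hf hexact Q
  · intro h
    -- free presentation
    let F := M →₀ R
    let g : F →ₗ[R] M := Finsupp.linearCombination R (fun m : M => m)
    have hg : Function.Surjective g := by
      intro m
      exact ⟨Finsupp.single m 1, by
        show Finsupp.linearCombination R (fun m : M => m) (Finsupp.single m 1) = m
        rw [Finsupp.linearCombination_single, one_smul]⟩
    let K := LinearMap.ker g
    have hexact : Function.Exact K.subtype g := LinearMap.exact_subtype_ker_map g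
    have hu := h K F K.subtype g K.subtype_injective hexact hg
    refine Groth.Agent.Helper3.flat_right_of_univExact (M₁ := ↥K) K.subtype g hexact hg ?_
    exact hu

end Groth.Agent.S6305
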