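import Groth.Statements.S6308
import Mathlib.RingTheory.Spectrum.Prime.Module
import Mathlib.Algebra.Module.LocalizedModule.Exact
import Mathlib.RingTheory.LocalRing.Module
-- import your own Groth.Agent.* helpers here

set_option autoImplicit false
universe u
open scoped TensorProduct
open CAlg

namespace Groth.Agent.S6308

/-- Let R be a ring and φ : M → N a map of R-modules with N finite. For a prime p, the localization φ_p
: M_p → N_p is surjective if and only if φ ⊗ κ(p) : M ⊗ κ(p) → N ⊗ κ(p) is surjective; the set U of
such primes is open in Spec(R); and for every f ∈ R with D(f) ⊆ U the map M_f → N_f is surjective. -/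
theorem result {R : Type u} [CommRing R] {M N : Type u} [AddCommGroup M] [Module R M] [AddCommGroup N] [Module R N] [Module.Finite R N] (φ : M →ₗ[R] N) : (∀ p : PrimeSpectrum R, Function.Surjective (LocalizedModule.map p.asIdeal.primeCompl φ) ↔ Function.Surjective (φ.lTensor p.asIdeal.ResidueField)) ∧ IsOpen {p : PrimeSpectrum R | Function.Surjective (LocalizedModule.map p.asIdeal.primeCompl φ)} ∧ (∀ f : R, (↑(PrimeSpectrum.basicOpen f) : Set (PrimeSpectrum R)) ⊆ {p : PrimeSpectrum R | Function.Surjective (LocalizedModule.map p.asIdeal.primeCompl φ)} → Function.Surjective (LocalizedModule.map (Submonoid.powers f) φ)) := by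
  classical
  have hex : Function.Exact φ (LinearMap.range φ).mkQ := LinearMap.exact_map_mkQ_range φ
  have hsurjQ := (LinearMap.range φ).mkQ_surjective
  have L : ∀ {X Y Z : Type u} [Zero Z] (f : X → Y) (g : Y → Z), Function.Exact f g →
      Function.Surjective g → (Function.Surjective f ↔ Subsingleton Z) := by
    intro X Y Z _ f g hfg hg
    constructor
    · intro hf
      refine ⟨fun a b => ?_⟩
      have h0 : ∀ z : Z, z = 0 := by
        intro z
        obtain ⟨y, rfl⟩ := hg z
        exact (hfg y).2 (hf y)
      rw [h0 a, h0 b]
    · intro hZ y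
      exact (hfg y).1 (Subsingleton.elim _ _)
  have hA : ∀ (S : Submonoid R), Function.Surjective (LocalizedModule.map S φ) ↔
      Subsingleton (LocalizedModule S (N ⧸ LinearMap.range φ)) := by
    intro S
    exact L _ _ (LocalizedModule.map_exact S φ _ hex)
      (IsLocalizedModule.map_surjective S (LocalizedModule.mkLinearMap S N)
        (LocalizedModule.mkLinearMap S (N ⧸ LinearMap.range φ)) _ hsurjQ)
  have hB : ∀ (p : PrimeSpectrum R), Function.Surjective (φ.lTensor p.asIdeal.ResidueField) ↔
      Subsingleton (p.asIdeal.ResidueField ⊗[R] (N ⧸ LinearMap.range φ)) := by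
    intro p
    exact L _ _ (lTensor_exact p.asIdeal.ResidueField hex hsurjQ)
      (LinearMap.lTensor_surjective p.asIdeal.ResidueField hsurjQ)
  refine ⟨?_, ?_, ?_⟩
  · intro p
    rw [hA, hB, ← Module.notMem_support_iff,
      Module.mem_support_iff_nontrivial_residueField_tensorProduct,
      not_nontrivial_iff_subsingleton]
  · have : {p : PrimeSpectrum R | Function.Surjective (LocalizedModule.map p.asIdeal.primeCompl φ)}
        = (Module.support R (N ⧸ LinearMap.range φ))ᶜ := by
      ext p
      simp only [Set.mem_setOf_eq, hA, Set.mem_compl_iff, Module.notMem_support_iff]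
    rw [this]
    exact Module.isClosed_support.isOpen_compl
  · intro f hf
    rw [hA]
    apply LocalizedModule.subsingleton_iff_disjoint.2
    rw [Set.disjoint_left]
    intro p hp hsupp
    have h1 := hf hp
    simp only [Set.mem_setOf_eq, hA] at h1
    exact (Module.notMem_support_iff.2 h1) hsupp

end Groth.Agent.S6308
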