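import Groth.Statements.S6310
import Groth.Agent.Lib.helper3.LocSpan

set_option autoImplicit false
universe u
open CAlg

namespace Groth.Agent.S6310

/-- Let R be a ring, S ⊆ R a multiplicative subset, I ⊆ R an ideal and M a finite R-module. If x₁, …,
x_r ∈ M have images generating S⁻¹(M/IM) as an S⁻¹R-module, then there is f ∈ S + I (f = s + i with
s ∈ S, i ∈ I) such that x₁, …, x_r generate M_f as an R_f-module. -/
theorem result {R : Type u} [CommRing R] (S : Submonoid R) (I : Ideal R) (M : Type u) [AddCommGroup M] [Module R M] [Module.Finite R M] {r : ℕ} (x : Fin r → M) (hx : Submodule.span (Localization S) (Set.range fun j => LocalizedModule.mkLinearMap S (M ⧸ (I • (⊤ : Submodule R M))) (Submodule.Quotient.mk (x j))) = ⊤) : ∃ (s : R) (i : R), s ∈ S ∧ i ∈ I ∧ Submodule.span (Localization.Away (s + i)) (Set.range fun j => LocalizedModule.mkLinearMap (Submonoid.powers (s + i)) M (x j)) = ⊤ := by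
  classical
  have step1 : ∀ m : M, ∃ s ∈ S, s • m ∈ Submodule.span R (Set.range x) ⊔ I • (⊤ : Submodule R M) := by
    intro m
    obtain ⟨s, hs, hsm⟩ := H3LocSpan.exists_smul_mem_span S
      (fun j => (Submodule.Quotient.mk (x j) : M ⧸ (I • (⊤ : Submodule R M))))
      (Submodule.Quotient.mk m) (by rw [hx]; trivial)
    refine ⟨s, hs, ?_⟩
    have h1 : Submodule.span R (Set.range fun j =>
        (Submodule.Quotient.mk (x j) : M ⧸ (I • (⊤ : Submodule R M)))) =
        (Submodule.span R (Set.range x)).map (Submodule.mkQ (I • (⊤ : Submodule R M))) := by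
      rw [Submodule.map_span, ← Set.range_comp]; rfl
    rw [h1] at hsm
    obtain ⟨n', hn', hnm⟩ := hsm
    have h2 : n' - s • m ∈ I • (⊤ : Submodule R M) := by
      rw [← Submodule.Quotient.mk_eq_zero, Submodule.Quotient.mk_sub, Submodule.Quotient.mk_smul]
      rw [← hnm]; exact sub_self _
    have h3 : s • m = n' - (n' - s • m) := by abel
    rw [h3]
    exact Submodule.sub_mem _ (Submodule.mem_sup_left hn') (Submodule.mem_sup_right h2)
  obtain ⟨t, g, hg⟩ := Module.Finite.exists_fin (R := R) (M := M)
  choose sg hsgS hsg using fun a => step1 (g a)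
  have hsS : (∏ a, sg a) ∈ S := Submonoid.prod_mem _ (fun a _ => hsgS a)
  have step1' : ∀ m : M, (∏ a, sg a) • m ∈
      Submodule.span R (Set.range x) ⊔ I • (⊤ : Submodule R M) := by
    intro m
    have hm : m ∈ Submodule.span R (Set.range g) := by rw [hg]; trivial
    induction hm using Submodule.span_induction with
    | mem m hm =>
      obtain ⟨a, rfl⟩ := hm
      rw [← Finset.mul_prod_erase Finset.univ sg (Finset.mem_univ a), mul_comm, mul_smul]
      exact Submodule.smul_mem _ _ (hsg a)
    | zero => rw [smul_zero]; exact Submodule.zero_mem _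
    | add m₁ m₂ _ _ h₁ h₂ => rw [smul_add]; exact Submodule.add_mem _ h₁ h₂
    | smul c m _ h => rw [smul_comm]; exact Submodule.smul_mem _ _ h
  obtain ⟨s, hsS', hs'⟩ : ∃ s ∈ S, ∀ m : M, s • m ∈
      Submodule.span R (Set.range x) ⊔ I • (⊤ : Submodule R M) := ⟨_, hsS, step1'⟩
  have hrange : LinearMap.range (algebraMap R (Module.End R (M ⧸ Submodule.span R (Set.range x))) s) ≤
      I • (⊤ : Submodule R (M ⧸ Submodule.span R (Set.range x))) := by
    rintro _ ⟨y, rfl⟩
    obtain ⟨m, rfl⟩ := Submodule.Quotient.mk_surjective _ y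
    rw [Module.algebraMap_end_apply, ← Submodule.Quotient.mk_smul]
    obtain ⟨n, hn, z, hz, hnz⟩ := Submodule.mem_sup.1 (hs' m)
    rw [← hnz, Submodule.Quotient.mk_add, (Submodule.Quotient.mk_eq_zero _).2 hn, zero_add]
    have : (Submodule.Quotient.mk z : M ⧸ Submodule.span R (Set.range x)) ∈
        (I • (⊤ : Submodule R M)).map (Submodule.mkQ _) := Submodule.mem_map_of_mem hz
    rw [Submodule.map_smul''] at this
    exact Submodule.smul_mono le_rfl le_top this
  obtain ⟨p, hpm, -, hpc, hp0⟩ :=
    LinearMap.exists_monic_and_natDegree_eq_and_coeff_mem_pow_and_aeval_eq_zero R _ I hrange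
  have hev : ∀ y : M ⧸ Submodule.span R (Set.range x), (p.eval s) • y = 0 := by
    intro y
    rw [Polynomial.aeval_algebraMap_apply] at hp0
    have := LinearMap.congr_fun hp0 y
    rw [Module.algebraMap_end_apply, Polynomial.coe_aeval_eq_eval] at this
    exact this
  have hsplit : p.eval s = s ^ p.natDegree +
      ∑ k ∈ Finset.range p.natDegree, p.coeff k * s ^ k := by
    rw [Polynomial.eval_eq_sum_range, Finset.sum_range_succ, hpm.coeff_natDegree, one_mul, add_comm]
  have hi : (∑ k ∈ Finset.range p.natDegree, p.coeff k * s ^ k) ∈ I := by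
    refine Ideal.sum_mem _ fun k hk => Ideal.mul_mem_right _ _ ?_
    have hk' : p.natDegree - k ≠ 0 := by have := Finset.mem_range.1 hk; omega
    exact Ideal.pow_le_self hk' (hpc k)
  refine ⟨s ^ p.natDegree, _, Submonoid.pow_mem _ hsS' _, hi, ?_⟩
  rw [← hsplit]
  apply H3LocSpan.span_eq_top_of_smul_mem
  intro m
  have := hev (Submodule.Quotient.mk m)
  rwa [← Submodule.Quotient.mk_smul, Submodule.Quotient.mk_eq_zero] at this

end Groth.Agent.S6310
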