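import Groth.Statements.S6324
import Mathlib

set_option autoImplicit false
universe u
open CAlg

namespace Groth.Agent.S6324

/-- Let R → S be a ring map, I ⊆ R an ideal and A = Σ Iⁿtⁿ ⊆ R[t] the Rees algebra of I. For s ∈ S,
being integral over I is equivalent to s·t ∈ S[t] being integral over A (via A ⊆ R[t] → S[t]). -/
theorem result {R S : Type u} [CommRing R] [CommRing S] [Algebra R S] (I : Ideal R) (s : S) : W4stkalgebra1.IsIntegralOverIdeal I s ↔ ((Polynomial.mapRingHom (algebraMap R S)).comp (reesAlgebra I).val.toRingHom).IsIntegralElem (Polynomial.C s * Polynomial.X) := by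
  obtain ⟨ψ, hψdef⟩ : ∃ ψ : ↥(reesAlgebra I) →+* Polynomial S,
      ψ = (Polynomial.mapRingHom (algebraMap R S)).comp (reesAlgebra I).val.toRingHom := ⟨_, rfl⟩
  rw [← hψdef]
  have hψ : ∀ b : ↥(reesAlgebra I), ψ b = (b : Polynomial R).map (algebraMap R S) := by
    intro b; rw [hψdef]; rfl
  constructor
  · rintro ⟨p, hpm, hcoef, hroot⟩
    obtain ⟨d, hd⟩ : ∃ d, d = p.natDegree := ⟨_, rfl⟩
    rw [← hd] at hcoef
    have hall : ∀ j, p.coeff j ∈ I ^ (d - j) := by
      intro j
      by_cases hj : j < d
      · exact hcoef j hj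
      · rw [Nat.sub_eq_zero_of_le (not_lt.mp hj), pow_zero, Ideal.one_eq_top]
        exact Submodule.mem_top
    obtain ⟨a, ha⟩ : ∃ a : ℕ → ↥(reesAlgebra I), ∀ j,
        ((a j : ↥(reesAlgebra I)) : Polynomial R) = Polynomial.monomial (d - j) (p.coeff j) :=
      ⟨fun j => ⟨Polynomial.monomial (d - j) (p.coeff j),
        reesAlgebra.monomial_mem.mpr (hall j)⟩, fun j => rfl⟩
    have hdeg : (∑ j ∈ Finset.range d,
        Polynomial.C (a j) * Polynomial.X ^ j).degree < (d : WithBot ℕ) := by
      refine lt_of_le_of_lt (Polynomial.degree_sum_le _ _) ?_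
      refine (Finset.sup_lt_iff (WithBot.bot_lt_coe d)).mpr ?_
      intro j hj
      exact lt_of_le_of_lt (Polynomial.degree_C_mul_X_pow_le j (a j))
        (Nat.cast_lt.mpr (Finset.mem_range.mp hj))
    have hterm : ∀ j ∈ Finset.range d, ψ (a j) * (Polynomial.C s * Polynomial.X) ^ j =
        Polynomial.C (algebraMap R S (p.coeff j) * s ^ j) * Polynomial.X ^ d := by
      intro j hj
      have hjd : j < d := Finset.mem_range.mp hj
      rw [hψ, ha j, Polynomial.map_monomial, ← Polynomial.C_mul_X_pow_eq_monomial, mul_pow,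
        ← Polynomial.C_pow, Polynomial.C_mul]
      have hd' : d = (d - j) + j := by omega
      conv_rhs => rw [hd', pow_add]
      ring
    refine ⟨Polynomial.X ^ d + ∑ j ∈ Finset.range d, Polynomial.C (a j) * Polynomial.X ^ j,
      Polynomial.monic_X_pow_add hdeg, ?_⟩
    rw [Polynomial.eval₂_add, Polynomial.eval₂_pow, Polynomial.eval₂_X,
      Polynomial.eval₂_finsetSum]
    have hsum : ∑ j ∈ Finset.range d, Polynomial.eval₂ ψ (Polynomial.C s * Polynomial.X)
        (Polynomial.C (a j) * Polynomial.X ^ j) =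
        ∑ j ∈ Finset.range d,
          Polynomial.C (algebraMap R S (p.coeff j) * s ^ j) * Polynomial.X ^ d := by
      refine Finset.sum_congr rfl (fun j hj => ?_)
      rw [Polynomial.eval₂_mul, Polynomial.eval₂_C, Polynomial.eval₂_pow, Polynomial.eval₂_X]
      exact hterm j hj
    have hC : ∑ j ∈ Finset.range d,
        (Polynomial.C (algebraMap R S (p.coeff j) * s ^ j) : Polynomial S) =
        Polynomial.C (∑ j ∈ Finset.range d, algebraMap R S (p.coeff j) * s ^ j) :=
      (map_sum Polynomial.C _ _).symm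
    have hzero : s ^ d + ∑ j ∈ Finset.range d, algebraMap R S (p.coeff j) * s ^ j = 0 := by
      have h1 := hroot
      rw [Polynomial.eval₂_eq_sum_range, ← hd, Finset.sum_range_succ, hd, hpm.coeff_natDegree,
        map_one, one_mul] at h1
      rw [add_comm, hd]; exact h1
    rw [hsum, mul_pow, ← Polynomial.C_pow, ← Finset.sum_mul, hC, ← add_mul, ← Polynomial.C_add,
      hzero, Polynomial.C_0, zero_mul]
  · rintro ⟨P, hPm, hP⟩
    rcases subsingleton_or_nontrivial R with hsub | hnt
    · have h10 : (1 : S) = 0 := by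
        rw [← map_one (algebraMap R S), Subsingleton.elim (1 : R) 0, map_zero]
      refine ⟨1, Polynomial.monic_one, ?_, ?_⟩
      · intro j hj
        rw [Polynomial.natDegree_one] at hj
        exact absurd hj (Nat.not_lt_zero j)
      · rw [Polynomial.eval₂_one]; exact h10
    obtain ⟨d, hd⟩ : ∃ d, d = P.natDegree := ⟨_, rfl⟩
    obtain ⟨c, hc⟩ : ∃ c : ℕ → R, ∀ j,
        c j = ((P.coeff j : ↥(reesAlgebra I)) : Polynomial R).coeff (d - j) := ⟨_, fun j => rfl⟩
    obtain ⟨q, hq⟩ : ∃ q : Polynomial R,
        q = Polynomial.X ^ d + ∑ j ∈ Finset.range d, Polynomial.C (c j) * Polynomial.X ^ j :=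
      ⟨_, rfl⟩
    have hdeg : (∑ j ∈ Finset.range d,
        Polynomial.C (c j) * Polynomial.X ^ j).degree < (d : WithBot ℕ) := by
      refine lt_of_le_of_lt (Polynomial.degree_sum_le _ _) ?_
      refine (Finset.sup_lt_iff (WithBot.bot_lt_coe d)).mpr ?_
      intro j hj
      exact lt_of_le_of_lt (Polynomial.degree_C_mul_X_pow_le j (c j))
        (Nat.cast_lt.mpr (Finset.mem_range.mp hj))
    have hqm : q.Monic := by rw [hq]; exact Polynomial.monic_X_pow_add hdeg
    have hnat : q.natDegree = d := by
      apply Polynomial.natDegree_eq_of_degree_eq_some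
      rw [hq, Polynomial.degree_add_eq_left_of_degree_lt, Polynomial.degree_X_pow]
      rw [Polynomial.degree_X_pow]; exact hdeg
    have hqcoeff : ∀ j, j < d → q.coeff j = c j := by
      intro j hj
      rw [hq, Polynomial.coeff_add, Polynomial.coeff_X_pow, if_neg (by omega), zero_add,
        Polynomial.finsetSum_coeff]
      rw [Finset.sum_eq_single j]
      · rw [Polynomial.coeff_C_mul, Polynomial.coeff_X_pow, if_pos rfl, mul_one]
      · intro i _ hij
        rw [Polynomial.coeff_C_mul, Polynomial.coeff_X_pow, if_neg (Ne.symm hij), mul_zero]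
      · intro hnot
        exact absurd (Finset.mem_range.mpr hj) hnot
    have hcoef : ∀ j, j ≤ d →
        (ψ (P.coeff j) * (Polynomial.C s * Polynomial.X) ^ j).coeff d =
        algebraMap R S (c j) * s ^ j := by
      intro j hj
      rw [hψ, mul_pow, ← Polynomial.C_pow, ← mul_assoc, Polynomial.coeff_mul_X_pow', if_pos hj,
        Polynomial.coeff_mul_C, Polynomial.coeff_map, hc j]
    have h0 : (Polynomial.eval₂ ψ (Polynomial.C s * Polynomial.X) P).coeff d = 0 := by
      rw [hP]; exact Polynomial.coeff_zero d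
    rw [Polynomial.eval₂_eq_sum_range, Polynomial.finsetSum_coeff, ← hd] at h0
    rw [Finset.sum_congr rfl (fun j hj => hcoef j
      (Nat.lt_succ_iff.mp (Finset.mem_range.mp hj)))] at h0
    rw [Finset.sum_range_succ] at h0
    have hcd : c d = 1 := by
      rw [hc d, hd, hPm.coeff_natDegree, Nat.sub_self]
      exact Polynomial.coeff_one_zero
    rw [hcd, map_one, one_mul] at h0
    refine ⟨q, hqm, ?_, ?_⟩
    · intro j hj
      rw [hnat] at hj ⊢
      rw [hqcoeff j hj, hc j]
      exact (mem_reesAlgebra_iff I _).mp (P.coeff j).2 (d - j)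
    · rw [hq, Polynomial.eval₂_add, Polynomial.eval₂_pow, Polynomial.eval₂_X,
        Polynomial.eval₂_finsetSum]
      simp only [Polynomial.eval₂_mul, Polynomial.eval₂_C, Polynomial.eval₂_pow,
        Polynomial.eval₂_X]
      rw [add_comm]; exact h0

end Groth.Agent.S6324
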