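import Groth.Statements.S6325
import Mathlib
import Groth.Agent.S6324

set_option autoImplicit false
universe u
open CAlg

namespace Groth.Agent.S6325

/-- Let R → S be a ring map and I ⊆ R an ideal. The elements of S integral over I form an R-submodule of
S; moreover, the product s s' is integral over I for any s ∈ S integral over R and any s' ∈ S
integral over I. -/
theorem result {R S : Type u} [CommRing R] [CommRing S] [Algebra R S] (I : Ideal R) : (∃ N : Submodule R S, ∀ s : S, s ∈ N ↔ W4stkalgebra1.IsIntegralOverIdeal I s) ∧ (∀ s s' : S, IsIntegral R s → W4stkalgebra1.IsIntegralOverIdeal I s' → W4stkalgebra1.IsIntegralOverIdeal I (s * s')) := by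
  obtain ⟨ψ, hψdef⟩ : ∃ ψ : ↥(reesAlgebra I) →+* Polynomial S,
      ψ = (Polynomial.mapRingHom (algebraMap R S)).comp (reesAlgebra I).val.toRingHom := ⟨_, rfl⟩
  have hiff : ∀ s : S, W4stkalgebra1.IsIntegralOverIdeal I s ↔
      ψ.IsIntegralElem (Polynomial.C s * Polynomial.X) := by
    intro s; rw [hψdef]; exact Groth.Agent.S6324.result I s
  have hψalg : ∀ r : R, ψ (algebraMap R ↥(reesAlgebra I) r) = Polynomial.C (algebraMap R S r) := by
    intro r
    have h1 : ψ (algebraMap R ↥(reesAlgebra I) r) =
        Polynomial.map (algebraMap R S) (Polynomial.C r) := by rw [hψdef]; rfl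
    rw [h1, Polynomial.map_C]
  have hCint : ∀ s : S, IsIntegral R s → ψ.IsIntegralElem (Polynomial.C s) := by
    rintro s ⟨p, hpm, hp⟩
    refine ⟨p.map (algebraMap R ↥(reesAlgebra I)), hpm.map _, ?_⟩
    rw [Polynomial.eval₂_map]
    have hcomp : ψ.comp (algebraMap R ↥(reesAlgebra I)) =
        (Polynomial.C : S →+* Polynomial S).comp (algebraMap R S) := by
      refine RingHom.ext (fun r => ?_)
      exact hψalg r
    rw [hcomp, ← Polynomial.hom_eval₂, hp, map_zero]
  constructor
  · refine ⟨{ carrier := {s | W4stkalgebra1.IsIntegralOverIdeal I s}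
              zero_mem' := ?_
              add_mem' := ?_
              smul_mem' := ?_ }, fun s => Iff.rfl⟩
    · intro x y hx hy
      have hx' := (hiff x).mp hx
      have hy' := (hiff y).mp hy
      show W4stkalgebra1.IsIntegralOverIdeal I (x + y)
      rw [hiff, Polynomial.C_add, add_mul]
      exact RingHom.IsIntegralElem.add ψ hx' hy'
    · show W4stkalgebra1.IsIntegralOverIdeal I (0 : S)
      rw [hiff, Polynomial.C_0, zero_mul]
      exact ψ.isIntegralElem_zero
    · intro r x hx
      have hx' := (hiff x).mp hx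
      show W4stkalgebra1.IsIntegralOverIdeal I (r • x)
      rw [hiff, Algebra.smul_def, Polynomial.C_mul, mul_assoc, ← hψalg r]
      exact RingHom.IsIntegralElem.mul ψ ψ.isIntegralElem_map hx'
  · intro s s' hs hs'
    rw [hiff] at hs' ⊢
    rw [Polynomial.C_mul, mul_assoc]
    exact RingHom.IsIntegralElem.mul ψ (hCint s hs) hs'

end Groth.Agent.S6325
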