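import Groth.Statements.S6326
import Mathlib

set_option autoImplicit false
universe u
open CategoryTheory CategoryTheory.Limits
open CAlg

namespace Groth.Agent.S6326

/-- Let R be a ring and N an R-module such that whenever M is the colimit of a filtered diagram (Mᵢ) of
R-modules (indexed by a filtered category in the same universe), the comparison map colim Hom_R(N,
Mᵢ) → Hom_R(N, M) is injective. Then N is finitely generated. (The implication from finite
generation back to this injectivity also holds; only the characterizing direction is stated here.) -/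
theorem result (R : Type u) [CommRing R] (N : Type u) [AddCommGroup N] [Module R N] (h : ∀ (J : Type u) [SmallCategory J] [IsFiltered J] (F : J ⥤ ModuleCat.{u} R), Function.Injective (colimit.post F (coyoneda.obj (Opposite.op (ModuleCat.of R N))))) : Module.Finite R N := by
  classical
  let J : Type u := {N' : Submodule R N // N'.FG}
  haveI : Nonempty J := ⟨⟨⊥, Submodule.fg_bot⟩⟩
  haveI : IsDirected J (· ≤ ·) :=
    ⟨fun a b => ⟨⟨a.1 ⊔ b.1, a.2.sup b.2⟩, le_sup_left (a := a.1), le_sup_right (a := a.1)⟩⟩
  let F : J ⥤ ModuleCat.{u} R :=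
    { obj := fun a => ModuleCat.of R (N ⧸ a.1)
      map := fun {a b} h => ModuleCat.ofHom (Submodule.factor (leOfHom h))
      map_id := fun a => by
        apply ModuleCat.hom_ext
        apply Submodule.linearMap_qext
        ext x
        rfl
      map_comp := fun {a b c} f g => by
        apply ModuleCat.hom_ext
        apply Submodule.linearMap_qext
        ext x
        rfl }
  let j0 : J := ⟨⊥, Submodule.fg_bot⟩
  let π : ModuleCat.of R N ⟶ F.obj j0 := ModuleCat.ofHom (Submodule.mkQ ⊥)
  have hpost : ∀ (j : J) (φ : ModuleCat.of R N ⟶ F.obj j),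
      colimit.post F (coyoneda.obj (Opposite.op (ModuleCat.of R N)))
        (colimit.ι (F ⋙ coyoneda.obj (Opposite.op (ModuleCat.of R N))) j φ) = φ ≫ colimit.ι F j :=
    fun j φ => ConcreteCategory.congr_hom
      (colimit.ι_post F (coyoneda.obj (Opposite.op (ModuleCat.of R N))) j) φ
  have hπ : π ≫ colimit.ι F j0 = 0 := by
    apply ModuleCat.hom_ext
    ext n
    show colimit.ι F j0 (Submodule.Quotient.mk n) = 0
    let a : J := ⟨Submodule.span R {n}, Submodule.fg_span_singleton n⟩
    have hle : j0 ≤ a := bot_le (a := (Submodule.span R {n}))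
    have h1 := ConcreteCategory.congr_hom (colimit.w F (homOfLE hle))
      (Submodule.Quotient.mk n : N ⧸ (⊥ : Submodule R N))
    rw [← h1]
    show colimit.ι F a (Submodule.Quotient.mk n : N ⧸ Submodule.span R {n}) = 0
    have h2 : (Submodule.Quotient.mk n : N ⧸ Submodule.span R {n}) = 0 :=
      (Submodule.Quotient.mk_eq_zero _).mpr (Submodule.mem_span_singleton_self n)
    rw [h2, map_zero]
  have hxy : colimit.post F (coyoneda.obj (Opposite.op (ModuleCat.of R N)))
        (colimit.ι (F ⋙ coyoneda.obj (Opposite.op (ModuleCat.of R N))) j0 π) =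
      colimit.post F (coyoneda.obj (Opposite.op (ModuleCat.of R N)))
        (colimit.ι (F ⋙ coyoneda.obj (Opposite.op (ModuleCat.of R N))) j0 (0 : ModuleCat.of R N ⟶ F.obj j0)) := by
    rw [hpost, hpost, hπ, Limits.zero_comp]
  have hinj := h J F hxy
  obtain ⟨k, f, g, hk⟩ := (Types.FilteredColimit.colimit_eq_iff _).mp hinj
  have hk' : π ≫ F.map f = (0 : ModuleCat.of R N ⟶ F.obj j0) ≫ F.map g := hk
  rw [Limits.zero_comp] at hk'
  have htop : k.1 = ⊤ := by
    rw [eq_top_iff]
    rintro n -
    have h3 := ConcreteCategory.congr_hom hk' n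
    have h4 : (Submodule.Quotient.mk n : N ⧸ k.1) = 0 := h3
    exact (Submodule.Quotient.mk_eq_zero _).mp h4
  rw [Module.finite_def, ← htop]
  exact k.2

end Groth.Agent.S6326
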