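import Groth.Statements.S6327
import Mathlib
import Groth.Agent.S6326

set_option autoImplicit false
universe u
open CategoryTheory CategoryTheory.Limits
open CAlg

namespace Groth.Agent.S6327

/-- Let R be a ring and N an R-module such that whenever M is the colimit of a filtered diagram (Mᵢ) of
R-modules (indexed by a filtered category in the same universe), the comparison map colim Hom_R(N,
Mᵢ) → Hom_R(N, M) is bijective. Then N is finitely presented. (The implication from finite
presentation back to this bijectivity also holds; only the characterizing direction is stated here.) -/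
theorem result (R : Type u) [CommRing R] (N : Type u) [AddCommGroup N] [Module R N] (h : ∀ (J : Type u) [SmallCategory J] [IsFiltered J] (F : J ⥤ ModuleCat.{u} R), Function.Bijective (colimit.post F (coyoneda.obj (Opposite.op (ModuleCat.of R N))))) : Module.FinitePresentation R N := by
  classical
  haveI : Module.Finite R N := Groth.Agent.S6326.result R N (fun J _ _ F => (h J F).injective)
  obtain ⟨n, p, hp⟩ := Module.Finite.exists_fin' R N
  let J : Type u := {K' : Submodule R (Fin n → R) // K'.FG ∧ K' ≤ LinearMap.ker p}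
  haveI : Nonempty J := ⟨⟨⊥, Submodule.fg_bot, bot_le⟩⟩
  haveI : IsDirected J (· ≤ ·) :=
    ⟨fun a b => ⟨⟨a.1 ⊔ b.1, a.2.1.sup b.2.1, sup_le a.2.2 b.2.2⟩,
      le_sup_left (a := a.1), le_sup_right (a := a.1)⟩⟩
  let F : J ⥤ ModuleCat.{u} R :=
    { obj := fun a => ModuleCat.of R ((Fin n → R) ⧸ a.1)
      map := fun {a b} h => ModuleCat.ofHom (Submodule.factor (leOfHom h))
      map_id := fun a => by
        apply ModuleCat.hom_ext
        apply Submodule.linearMap_qext
        ext x
        rfl
      map_comp := fun {a b c} f g => by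
        apply ModuleCat.hom_ext
        apply Submodule.linearMap_qext
        ext x
        rfl }
  let j0 : J := ⟨⊥, Submodule.fg_bot, bot_le⟩
  have hpost : ∀ (j : J) (φ : ModuleCat.of R N ⟶ F.obj j),
      colimit.post F (coyoneda.obj (Opposite.op (ModuleCat.of R N)))
        (colimit.ι (F ⋙ coyoneda.obj (Opposite.op (ModuleCat.of R N))) j φ) = φ ≫ colimit.ι F j :=
    fun j φ => ConcreteCategory.congr_hom
      (colimit.ι_post F (coyoneda.obj (Opposite.op (ModuleCat.of R N))) j) φ
  -- the cocone with point N
  let q : ∀ a : J, F.obj a ⟶ ModuleCat.of R N := fun a =>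
    ModuleCat.ofHom (a.1.liftQ p a.2.2)
  let s : Cocone F :=
    { pt := ModuleCat.of R N
      ι :=
        { app := q
          naturality := fun a b f => by
            apply ModuleCat.hom_ext
            apply Submodule.linearMap_qext
            ext x
            rfl } }
  have hdesc : ∀ a : J, colimit.ι F a ≫ colimit.desc F s = q a := fun a => colimit.ι_desc s a
  -- the map N → colimit F
  let L : (Fin n → R) →ₗ[R] (colimit F : ModuleCat.{u} R) :=
    (colimit.ι F j0).hom ∘ₗ Submodule.mkQ ⊥
  have hker : LinearMap.ker p ≤ LinearMap.ker L := by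
    intro v hv
    show colimit.ι F j0 (Submodule.Quotient.mk v) = 0
    let a : J := ⟨Submodule.span R {v}, Submodule.fg_span_singleton v,
      (Submodule.span_singleton_le_iff_mem _ _).mpr hv⟩
    have hle : j0 ≤ a := bot_le (a := (Submodule.span R {v}))
    have h1 := ConcreteCategory.congr_hom (colimit.w F (homOfLE hle))
      (Submodule.Quotient.mk v : (Fin n → R) ⧸ (⊥ : Submodule R (Fin n → R)))
    rw [← h1]
    show colimit.ι F a (Submodule.Quotient.mk v : (Fin n → R) ⧸ Submodule.span R {v}) = 0
    have h2 : (Submodule.Quotient.mk v : (Fin n → R) ⧸ Submodule.span R {v}) = 0 :=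
      (Submodule.Quotient.mk_eq_zero _).mpr (Submodule.mem_span_singleton_self v)
    rw [h2, map_zero]
  let φ₀ : N →ₗ[R] (colimit F : ModuleCat.{u} R) :=
    ((LinearMap.ker p).liftQ L hker) ∘ₗ (p.quotKerEquivOfSurjective hp).symm.toLinearMap
  have hφ₀ : ∀ v, φ₀ (p v) = L v := by
    intro v
    have h3 : (p.quotKerEquivOfSurjective hp).symm (p v) = Submodule.Quotient.mk v := by
      rw [LinearEquiv.symm_apply_eq]
      simp
    show ((LinearMap.ker p).liftQ L hker) ((p.quotKerEquivOfSurjective hp).symm (p v)) = L v
    rw [h3, Submodule.liftQ_apply]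
  let φ : ModuleCat.of R N ⟶ colimit F := ModuleCat.ofHom φ₀
  have hφdesc : φ ≫ colimit.desc F s = 𝟙 _ := by
    apply ModuleCat.hom_ext
    refine (LinearMap.cancel_right hp).mp (LinearMap.ext fun v => ?_)
    show colimit.desc F s (φ₀ (p v)) = p v
    rw [hφ₀]
    show colimit.desc F s (colimit.ι F j0 (Submodule.Quotient.mk v)) = p v
    have h4 := ConcreteCategory.congr_hom (hdesc j0)
      (Submodule.Quotient.mk v : (Fin n → R) ⧸ (⊥ : Submodule R (Fin n → R)))
    exact h4
  obtain ⟨x, hx⟩ := (h J F).surjective φ
  obtain ⟨a, ψ, rfl⟩ := Types.jointly_surjective' x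
  have hψ : (ψ : ModuleCat.of R N ⟶ F.obj a) ≫ colimit.ι F a = φ := by
    rw [← hpost]; exact hx
  have hsec : (ψ : ModuleCat.of R N ⟶ F.obj a) ≫ q a = 𝟙 _ := by
    rw [← hdesc a, ← Category.assoc, hψ, hφdesc]
  -- conclude
  have hsec' : (q a).hom ∘ₗ (ψ : ModuleCat.of R N ⟶ F.obj a).hom = LinearMap.id := by
    have := congrArg ModuleCat.Hom.hom hsec
    exact this
  have hQfp : Module.FinitePresentation R ((Fin n → R) ⧸ a.1) :=
    Module.finitePresentation_of_surjective (Submodule.mkQ a.1) (Submodule.mkQ_surjective _)
      (by rw [Submodule.ker_mkQ]; exact a.2.1)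
  have hsurj : Function.Surjective (q a).hom := by
    intro y
    exact ⟨(ψ : ModuleCat.of R N ⟶ F.obj a).hom y, LinearMap.congr_fun hsec' y⟩
  have hfg : (LinearMap.ker (q a).hom).FG := by
    rw [LinearMap.ker_eq_range_of_comp_eq_id hsec', LinearMap.range_eq_map]
    exact (Module.Finite.fg_top).map _
  exact Module.finitePresentation_of_surjective (q a).hom hsurj hfg

end Groth.Agent.S6327
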