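import Groth.Statements.S6330
import Groth.Agent.Lib.helper3.LeftInv2

set_option autoImplicit false
universe u
open scoped TensorProduct
open CAlg

namespace Groth.Agent.S6330

/-- Let R be a ring and φ : P₁ → P₂ a map of finite projective R-modules. The set W of primes p of R
such that φ ⊗ κ(p) is surjective is open, and for every f ∈ R with D(f) ⊆ W the map (P₁)_f → (P₂)_f
is surjective and Ker(φ)_f is a finite projective module over R_f. -/
theorem result {R : Type u} [CommRing R] {P₁ P₂ : Type u} [AddCommGroup P₁] [Module R P₁] [AddCommGroup P₂] [Module R P₂] [Module.Finite R P₁] [Module.Projective R P₁] [Module.Finite R P₂] [Module.Projective R P₂] (φ : P₁ →ₗ[R] P₂) : IsOpen {p : PrimeSpectrum R | Function.Surjective (φ.lTensor p.asIdeal.ResidueField)} ∧ ∀ f : R, (↑(PrimeSpectrum.basicOpen f) : Set (PrimeSpectrum R)) ⊆ {p : PrimeSpectrum R | Function.Surjective (φ.lTensor p.asIdeal.ResidueField)} → Function.Surjective (LocalizedModule.map (Submonoid.powers f) φ) ∧ Module.Finite (Localization.Away f) (LocalizedModule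 (Submonoid.powers f) (LinearMap.ker φ)) ∧ Module.Projective (Localization.Away f) (LocalizedModule (Submonoid.powers f) (LinearMap.ker φ)) := by
  have hU : {p : PrimeSpectrum R | Function.Surjective (φ.lTensor p.asIdeal.ResidueField)} =
      (PrimeSpectrum.zeroLocus (H3LI.J φ : Set R))ᶜ := by
    ext p
    simp only [Set.mem_setOf_eq, Set.mem_compl_iff, PrimeSpectrum.mem_zeroLocus]
    constructor
    · intro h hle
      obtain ⟨a, hap, ha⟩ := H3LI.mem_J_of_surjective φ p.asIdeal h
      exact hap (hle ha)
    · intro hle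
      rw [Set.not_subset] at hle
      obtain ⟨a, ha, hap⟩ := hle
      exact H3LI.surjective_of_mem φ p.asIdeal hap ha
  refine ⟨by rw [hU]; exact (PrimeSpectrum.isClosed_zeroLocus _).isOpen_compl, fun f hf => ?_⟩
  rw [hU] at hf
  have hrad : f ∈ (H3LI.J φ).radical := by
    rw [Ideal.radical_eq_sInf, Ideal.mem_sInf]
    rintro J ⟨hIJ, hJ⟩
    by_contra hfJ
    have hmem : (⟨J, hJ⟩ : PrimeSpectrum R) ∈ (PrimeSpectrum.basicOpen f : Set _) := hfJ
    exact hf hmem (by simpa [PrimeSpectrum.mem_zeroLocus] using hIJ)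
  obtain ⟨n, hn⟩ := hrad
  exact H3LI.props_surj (Submonoid.powers f) φ ⟨n, rfl⟩ hn

end Groth.Agent.S6330
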