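import Groth.Statements.S6331
import Mathlib

set_option autoImplicit false
universe u
open CAlg

open Polynomial
namespace Groth.Agent.S6331

/-- Let R be a ring, I ⊆ R an ideal all of whose elements are nilpotent, and n ≥ 1 an integer whose
image in R/I is invertible. Then (1) raising to the n-th power is a bijection of the subset 1 + I of
R onto itself: for every y ∈ I there is exactly one x ∈ I with (1 + x)ⁿ = 1 + y; (2) a unit u of R
has an n-th root in R exactly when the residue class of u has an n-th root in R/I. -/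
theorem result {R : Type u} [CommRing R] (I : Ideal R) (hI : ∀ x ∈ I, IsNilpotent x) (n : ℕ) (hn : 1 ≤ n) (hinv : IsUnit ((n : ℕ) : R ⧸ I)) : (∀ y ∈ I, ∃! x : R, x ∈ I ∧ (1 + x) ^ n = 1 + y) ∧ (∀ u : Rˣ, (∃ v : R, v ^ n = (u : R)) ↔ ∃ w : R ⧸ I, w ^ n = Ideal.Quotient.mk I (u : R)) := by
  have hunit : ∀ a : R, IsUnit (Ideal.Quotient.mk I a) → IsUnit a := by
    intro a ha
    obtain ⟨b', hb'⟩ := ha.exists_right_inv
    obtain ⟨b, rfl⟩ := Ideal.Quotient.mk_surjective b'
    have h1 : a * b - 1 ∈ I := by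
      rw [← Ideal.Quotient.eq, map_mul, map_one]; exact hb'
    have h2 : IsUnit (a * b) := by
      have := (hI _ h1).isUnit_add_one
      rwa [sub_add_cancel] at this
    exact isUnit_of_mul_isUnit_left h2
  have hnunit : IsUnit ((n : ℕ) : R) := hunit _ (by rwa [map_natCast])
  have hn0 : n ≠ 0 := by omega
  have root : ∀ (c x₀ : R), IsNilpotent (x₀ ^ n - c) → IsUnit x₀ →
      ∃! r : R, IsNilpotent (x₀ - r) ∧ r ^ n = c := by
    intro c x₀ h0 hx₀
    have hP : ∀ r : R, aeval r (X ^ n - C c : R[X]) = r ^ n - c := fun r => by simp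
    have hP' : aeval x₀ (derivative (X ^ n - C c : R[X])) = (n : R) * x₀ ^ (n - 1) := by
      rw [derivative_sub, derivative_X_pow, derivative_C, sub_zero]; simp
    have := Polynomial.existsUnique_nilpotent_sub_and_aeval_eq_zero (R := R) (S := R)
      (P := X ^ n - C c) (x := x₀) (by rw [hP]; exact h0)
      (by rw [hP']; exact hnunit.mul (hx₀.pow _))
    simpa only [hP, sub_eq_zero] using this
  constructor
  · intro y hy
    have h0 : IsNilpotent ((1 : R) ^ n - (1 + y)) := by
      have : (1 : R) ^ n - (1 + y) = -y := by rw [one_pow]; ring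
      rw [this]; exact (hI y hy).neg
    obtain ⟨r, ⟨hr1, hr2⟩, hruniq⟩ := root (1 + y) 1 h0 isUnit_one
    -- r - 1 ∈ I
    have hrI : r - 1 ∈ I := by
      have hQ : ∀ s : R ⧸ I, aeval s (X ^ n - C 1 : R[X]) = s ^ n - 1 := fun s => by simp
      have hQ' : aeval (1 : R ⧸ I) (derivative (X ^ n - C 1 : R[X])) = ((n : ℕ) : R ⧸ I) := by
        rw [derivative_sub, derivative_X_pow, derivative_C, sub_zero]; simp
      have hex := Polynomial.existsUnique_nilpotent_sub_and_aeval_eq_zero (R := R) (S := R ⧸ I)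
        (P := X ^ n - C 1) (x := 1) (by rw [hQ, one_pow, sub_self]; exact IsNilpotent.zero)
        (by rw [hQ']; exact hinv)
      have e1 : IsNilpotent ((1 : R ⧸ I) - Ideal.Quotient.mk I r) ∧
          aeval (Ideal.Quotient.mk I r) (X ^ n - C 1 : R[X]) = 0 := by
        refine ⟨?_, ?_⟩
        · have := hr1.map (Ideal.Quotient.mk I)
          rwa [map_sub, map_one] at this
        · rw [hQ, ← map_pow, hr2, map_add, map_one, Ideal.Quotient.eq_zero_iff_mem.2 hy,
            add_zero, sub_self]
      have e2 : IsNilpotent ((1 : R ⧸ I) - 1) ∧ aeval (1 : R ⧸ I) (X ^ n - C 1 : R[X]) = 0 := by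
        refine ⟨by rw [sub_self]; exact IsNilpotent.zero, ?_⟩
        rw [hQ, one_pow, sub_self]
      have e3 := hex.unique e1 e2
      rw [← map_one (Ideal.Quotient.mk I), Ideal.Quotient.eq] at e3
      exact e3
    refine ⟨r - 1, ⟨hrI, by rw [add_sub_cancel, hr2]⟩, ?_⟩
    rintro x' ⟨hx'I, hx'⟩
    have h1 : IsNilpotent ((1 : R) - (1 + x')) := by
      have : (1 : R) - (1 + x') = -x' := by ring
      rw [this]; exact (hI x' hx'I).neg
    have := hruniq (1 + x') ⟨h1, hx'⟩
    rw [← this]; ring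
  · intro u
    constructor
    · rintro ⟨v, hv⟩
      exact ⟨Ideal.Quotient.mk I v, by rw [← map_pow, hv]⟩
    · rintro ⟨w, hw⟩
      obtain ⟨v₀, rfl⟩ := Ideal.Quotient.mk_surjective w
      have h0 : IsNilpotent (v₀ ^ n - (u : R)) := by
        apply hI
        rw [← Ideal.Quotient.eq, map_pow]; exact hw
      have hv₀ : IsUnit v₀ := by
        apply hunit
        rw [← isUnit_pow_iff hn0, hw]
        exact u.isUnit.map _
      obtain ⟨r, ⟨_, hr⟩, _⟩ := root (u : R) v₀ h0 hv₀
      exact ⟨r, hr⟩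

end Groth.Agent.S6331
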