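import Groth.Statements.S6332
import Mathlib.RingTheory.Trace.Basic
import Mathlib.FieldTheory.Galois.Basic

set_option autoImplicit false
universe u
open Fields

open IntermediateField
namespace Groth.Agent.S6332

open IntermediateField in
/-- Let L/K be a finite Galois extension of fields of characteristic p > 0 whose degree equals the prime
p (equivalently, the Galois group is cyclic of order p). Then there is an element z of L with z ^ p
- z in K which generates L over K. -/
theorem result {K L : Type u} [Field K] [Field L] [Algebra K L] (p : ℕ)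
    [Fact p.Prime] [CharP K p] [FiniteDimensional K L] [IsGalois K L]
    (hdeg : Module.finrank K L = p) :
    ∃ z : L, z ^ p - z ∈ Set.range (algebraMap K L) ∧ K⟮z⟯ = ⊤ := by
  classical
  have hp : p.Prime := Fact.out
  haveI : CharP L p := charP_of_injective_algebraMap (algebraMap K L).injective p
  have hcard : Nat.card (L ≃ₐ[K] L) = p := by rw [IsGalois.card_aut_eq_finrank, hdeg]
  haveI : Nontrivial (L ≃ₐ[K] L) := by
    rw [← Finite.one_lt_card_iff_nontrivial, hcard]
    exact hp.one_lt
  obtain ⟨σ, hσ⟩ := exists_ne (1 : L ≃ₐ[K] L)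
  have hgen : Subgroup.zpowers σ = ⊤ := zpowers_eq_top_of_prime_card hcard hσ
  -- fixed points of σ lie in K
  have hfix : ∀ x : L, σ x = x → x ∈ Set.range (algebraMap K L) := by
    intro x hx
    have h1 : Subgroup.zpowers σ ≤ MulAction.stabilizer (L ≃ₐ[K] L) x := by
      rw [Subgroup.zpowers_le, MulAction.mem_stabilizer_iff]
      exact hx
    rw [hgen] at h1
    have h2 : x ∈ (⊥ : IntermediateField K L) := by
      rw [IsGalois.mem_bot_iff_fixed]
      intro f
      have := h1 (Subgroup.mem_top f)
      rw [MulAction.mem_stabilizer_iff] at this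
      exact this
    exact IntermediateField.mem_bot.1 h2
  -- the operator N = σ - 1
  let N : L →ₗ[K] L := σ.toLinearMap - LinearMap.id
  have hN : ∀ x, N x = σ x - x := fun x => rfl
  have hker : LinearMap.ker N = LinearMap.range (Algebra.linearMap K L) := by
    ext x
    rw [LinearMap.mem_ker, hN, sub_eq_zero, LinearMap.mem_range]
    constructor
    · intro hx
      obtain ⟨k, hk⟩ := hfix x hx
      exact ⟨k, hk⟩
    · rintro ⟨k, rfl⟩
      exact σ.commutes k
  have hkerdim : Module.finrank K (LinearMap.ker N) = 1 := by
    rw [hker, LinearMap.finrank_range_of_inj (algebraMap K L).injective, Module.finrank_self]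
  have hrn := LinearMap.finrank_range_add_finrank_ker N
  rw [hkerdim, hdeg] at hrn
  -- trace
  have hTsurj : Function.Surjective (Algebra.trace K L) := Algebra.trace_surjective K L
  have hrt := LinearMap.finrank_range_add_finrank_ker (Algebra.trace K L)
  rw [LinearMap.range_eq_top.2 hTsurj, finrank_top, Module.finrank_self, hdeg] at hrt
  have hle : LinearMap.range N ≤ LinearMap.ker (Algebra.trace K L) := by
    rintro _ ⟨x, rfl⟩
    rw [LinearMap.mem_ker, hN, map_sub, Algebra.trace_eq_of_algEquiv, sub_self]
  have heq : LinearMap.range N = LinearMap.ker (Algebra.trace K L) := by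
    apply Submodule.eq_of_le_of_finrank_eq hle
    omega
  have h1mem : (1 : L) ∈ LinearMap.ker (Algebra.trace K L) := by
    rw [LinearMap.mem_ker, ← map_one (algebraMap K L), Algebra.trace_algebraMap, hdeg,
      nsmul_eq_mul, mul_one, CharP.cast_eq_zero]
  rw [← heq] at h1mem
  obtain ⟨z, hz⟩ := h1mem
  have hσz : σ z = z + 1 := by
    rw [hN] at hz
    rw [← hz]; ring
  refine ⟨z, ?_, ?_⟩
  · apply hfix
    rw [map_sub, map_pow, hσz, add_pow_char, one_pow]
    ring
  · haveI := IntermediateField.isSimpleOrder_of_finrank_prime K L (hdeg ▸ hp)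
    rcases eq_bot_or_eq_top (K⟮z⟯) with h | h
    · exfalso
      have hzmem : z ∈ K⟮z⟯ := IntermediateField.mem_adjoin_simple_self K z
      rw [h, IntermediateField.mem_bot] at hzmem
      obtain ⟨k, rfl⟩ := hzmem
      rw [σ.commutes] at hσz
      have : (1 : L) = 0 := by
        have := hσz
        rwa [left_eq_add] at this
      exact one_ne_zero this
    · exact h

end Groth.Agent.S6332
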