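import Groth.Statements.S6333
import Mathlib

set_option autoImplicit false
universe u
open Fields

namespace Groth.Agent.S6333

open scoped IntermediateField.algebraAdjoinAdjoin


/-- For a finitely generated field extension K/k, the algebraic closure of k inside K is a finite
extension of k. -/
theorem result {k K : Type u} [Field k] [Field K] [Algebra k K]
    (hfg : (⊤ : IntermediateField k K).FG) :
    FiniteDimensional k (algebraicClosure k K) := by
  classical
  obtain ⟨s, hs⟩ := hfg
  haveI hess : Algebra.EssFiniteType k K := IntermediateField.fg_top_iff.mp ⟨s, hs⟩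
  have halg0 : Algebra.IsAlgebraic (Algebra.adjoin k (s : Set K)) K := by
    rw [← IntermediateField.isAlgebraic_adjoin_iff_top, hs, Algebra.isAlgebraic_iff_isIntegral]
    exact Algebra.isIntegral_of_surjective IntermediateField.topEquiv.surjective
  obtain ⟨t, hts, ht⟩ := exists_isTranscendenceBasis_subset (R := k) (s : Set K)
  lift t to Finset K using s.finite_toSet.subset hts
  haveI halg : Algebra.IsAlgebraic (IntermediateField.adjoin k (t : Set K)) K := by
    convert! ht.isAlgebraic_field <;> simp
  haveI : Algebra.EssFiniteType (IntermediateField.adjoin k (t : Set K)) K :=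
    Algebra.EssFiniteType.of_comp k _ K
  haveI hfin : Module.Finite (IntermediateField.adjoin k (t : Set K)) K :=
    Algebra.finite_of_essFiniteType_of_isAlgebraic
  set x : ↥(t : Set K) → K := Subtype.val with hxdef
  have hx : AlgebraicIndependent k x := ht.1
  have hxL : AlgebraicIndependent (algebraicClosure k K) x := hx.algebraicClosure
  have keyLI : ∀ (J : Type u) (v : J → algebraicClosure k K), LinearIndependent k v →
      LinearIndependent (Algebra.adjoin k (t : Set K))
        (fun j => ((v j : algebraicClosure k K) : K)) := by
    intro J v hv
    rw [linearIndependent_iff']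
    intro S g hg j hj
    have hrep : ∀ j, ∃ p : MvPolynomial ↥(t : Set K) k,
        MvPolynomial.aeval x p = ((g j : Algebra.adjoin k (t : Set K)) : K) := by
      intro j
      have h1 : ∀ y : K, y ∈ Algebra.adjoin k (t : Set K) →
          ∃ p : MvPolynomial ↥(t : Set K) k, MvPolynomial.aeval x p = y := by
        intro y hy
        rw [Algebra.adjoin_eq_range, AlgHom.mem_range] at hy
        exact hy
      exact h1 _ (g j).2
    choose p hp using hrep
    let P : MvPolynomial ↥(t : Set K) (algebraicClosure k K) :=
      ∑ i ∈ S, MvPolynomial.C (v i) *
        MvPolynomial.map (algebraMap k (algebraicClosure k K)) (p i)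
    have hP : MvPolynomial.aeval x P = 0 := by
      rw [map_sum]
      refine Eq.trans (Finset.sum_congr rfl fun i _ => ?_) hg
      calc MvPolynomial.aeval x (MvPolynomial.C (v i) *
              MvPolynomial.map (algebraMap k (algebraicClosure k K)) (p i))
          = algebraMap (algebraicClosure k K) K (v i) * MvPolynomial.aeval x (p i) := by
            rw [map_mul, MvPolynomial.aeval_C, MvPolynomial.aeval_map_algebraMap]
        _ = ((g i : Algebra.adjoin k (t : Set K)) : K) *
              ((v i : algebraicClosure k K) : K) := by
            rw [hp, mul_comm]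
            rfl
        _ = g i • ((v i : algebraicClosure k K) : K) := rfl
    have hP0 : P = 0 := (injective_iff_map_eq_zero _).mp hxL P hP
    have hcoef : ∀ m, ∑ i ∈ S, (MvPolynomial.coeff m (p i)) • v i = 0 := by
      intro m
      have h1 := congrArg (MvPolynomial.coeff m) hP0
      rw [MvPolynomial.coeff_sum, MvPolynomial.coeff_zero] at h1
      rw [← h1]
      refine Finset.sum_congr rfl fun i _ => ?_
      rw [MvPolynomial.coeff_C_mul, MvPolynomial.coeff_map, Algebra.smul_def, mul_comm]
    have hpj : p j = 0 := by
      ext m
      rw [MvPolynomial.coeff_zero]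
      exact linearIndependent_iff'.mp hv S (fun i => MvPolynomial.coeff m (p i)) (hcoef m) j hj
    apply Subtype.ext
    rw [← hp, hpj, map_zero]
    rfl
  let bL := Module.Basis.ofVectorSpace k (algebraicClosure k K)
  have h1 := keyLI _ _ bL.linearIndependent
  have h2 : LinearIndependent (IntermediateField.adjoin k (t : Set K))
      (fun j => ((bL j : algebraicClosure k K) : K)) :=
    (LinearIndependent.iff_fractionRing (Algebra.adjoin k (t : Set K))
      (IntermediateField.adjoin k (t : Set K))).mp h1
  haveI : Finite (Module.Basis.ofVectorSpaceIndex k (algebraicClosure k K)) :=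
    h2.finite_of_isNoetherian
  exact Module.Finite.of_basis bL

end Groth.Agent.S6333
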