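import Groth.Statements.S6334
import Mathlib

set_option autoImplicit false
universe u
open Fields

namespace Groth.Agent.S6334


open IntermediateField in
theorem tower (E : Type u) [Field E] (p : ℕ) [Fact p.Prime] : ∀ (d : ℕ) (F : Type u) [Field F]
    [Algebra F E] [CharP F p] [FiniteDimensional F E] [IsPurelyInseparable F E],
    Module.finrank F E = d → ∃ (n : ℕ) (a : Fin n → E), adjoin F (Set.range a) = ⊤ ∧
      (∀ i : Fin n, a i ^ p ∈ adjoin F (a '' {j | j < i}) ∧ a i ∉ adjoin F (a '' {j | j < i})) ∧
      Module.finrank F E = p ^ n := by
  intro d
  induction d using Nat.strong_induction_on with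
  | _ d ih =>
    intro F _ _ _ _ _ hd
    have hpp : p.Prime := Fact.out
    by_cases hbt : (⊥ : IntermediateField F E) = ⊤
    · refine ⟨0, Fin.elim0, ?_, fun i => i.elim0, ?_⟩
      · rw [Set.range_eq_empty, IntermediateField.adjoin_empty]; exact hbt
      · rw [pow_zero]; exact IntermediateField.bot_eq_top_iff_finrank_eq_one.1 hbt
    · obtain ⟨x, hx⟩ : ∃ x : E, x ∉ (⊥ : IntermediateField F E) := by
        by_contra hcon
        push Not at hcon
        exact hbt (eq_top_iff.2 (fun x _ => hcon x))
      haveI : CharP E p := charP_of_injective_algebraMap (algebraMap F E).injective p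
      haveI : ExpChar F p := ExpChar.prime hpp
      haveI : ExpChar E p := ExpChar.prime hpp
      have hY : ∀ (n : ℕ) (x : E), x ∉ (⊥ : IntermediateField F E) →
          x ^ p ^ n ∈ (⊥ : IntermediateField F E) →
          ∃ y : E, y ∉ (⊥ : IntermediateField F E) ∧ y ^ p ∈ (⊥ : IntermediateField F E) := by
        intro n
        induction n with
        | zero => intro x hx hx'; rw [pow_zero, pow_one] at hx'; exact absurd hx' hx
        | succ n ihn =>
          intro x hx hx'
          by_cases h : x ^ p ^ n ∈ (⊥ : IntermediateField F E)
          · exact ihn x hx h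
          · refine ⟨x ^ p ^ n, h, ?_⟩
            rw [← pow_mul, ← pow_succ]; exact hx'
      obtain ⟨e, he⟩ := IsPurelyInseparable.pow_mem F p x
      obtain ⟨y, hy, hyp⟩ := hY e x hx (IntermediateField.mem_bot.2 (RingHom.mem_range.1 he))
      obtain ⟨c, hc⟩ := IntermediateField.mem_bot.1 hyp
      have hirr : Irreducible (Polynomial.X ^ p - Polynomial.C c : Polynomial F) := by
        apply X_pow_sub_C_irreducible_of_prime hpp
        intro b hb
        apply hy
        rw [IntermediateField.mem_bot]
        refine ⟨b, ?_⟩
        apply frobenius_inj E p
        show (algebraMap F E b) ^ p = y ^ p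
        rw [← map_pow, hb, hc]
      have hmin : minpoly F y = Polynomial.X ^ p - Polynomial.C c := by
        symm
        apply minpoly.eq_of_irreducible_of_monic hirr
        · rw [map_sub, map_pow, Polynomial.aeval_X, Polynomial.aeval_C, hc, sub_self]
        · exact Polynomial.monic_X_pow_sub_C c hpp.ne_zero
      have hyint : IsIntegral F y := IsIntegral.of_finite F y
      have hdeg : Module.finrank F (IntermediateField.adjoin F ({y} : Set E)) = p := by
        rw [IntermediateField.adjoin.finrank hyint, hmin, Polynomial.natDegree_X_pow_sub_C]
      have hmul : Module.finrank F (IntermediateField.adjoin F ({y} : Set E)) *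
          Module.finrank (IntermediateField.adjoin F ({y} : Set E)) E = Module.finrank F E :=
        Module.finrank_mul_finrank F (IntermediateField.adjoin F ({y} : Set E)) E
      have hpos : 0 < Module.finrank (IntermediateField.adjoin F ({y} : Set E)) E :=
        Module.finrank_pos
      have hlt : Module.finrank (IntermediateField.adjoin F ({y} : Set E)) E < d := by
        rw [← hd, ← hmul, hdeg]
        have h2 : 2 ≤ p := hpp.two_le
        nlinarith
      haveI : CharP (IntermediateField.adjoin F ({y} : Set E)) p :=
        charP_of_injective_algebraMap
          (algebraMap F (IntermediateField.adjoin F ({y} : Set E))).injective p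
      haveI : IsPurelyInseparable (IntermediateField.adjoin F ({y} : Set E)) E :=
        IsPurelyInseparable.tower_top F _ E
      obtain ⟨n', a', h1, h2, h3⟩ :=
        ih (Module.finrank (IntermediateField.adjoin F ({y} : Set E)) E) hlt
          (IntermediateField.adjoin F ({y} : Set E)) rfl
      have key : ∀ T : Set E, IntermediateField.adjoin F (insert y T) =
          (IntermediateField.adjoin (IntermediateField.adjoin F ({y} : Set E)) T).restrictScalars F := by
        intro T
        rw [IntermediateField.adjoin_adjoin_left, Set.singleton_union]
      refine ⟨n' + 1, Fin.cons y a', ?_, ?_, ?_⟩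
      · rw [Fin.range_cons, key, h1, IntermediateField.restrictScalars_top]
      · intro i
        refine Fin.cases ?_ (fun k => ?_) i
        · have hempty : (Fin.cons y a' : Fin (n' + 1) → E) '' {j | j < 0} = ∅ := by
            rw [Set.image_eq_empty]
            ext j
            simp
          rw [hempty, IntermediateField.adjoin_empty, Fin.cons_zero]
          exact ⟨hyp, hy⟩
        · have himg : (Fin.cons y a' : Fin (n' + 1) → E) '' {j | j < k.succ} =
              insert y (a' '' {j | j < k}) := by
            ext z
            constructor
            · rintro ⟨j, hj, rfl⟩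
              revert hj
              refine Fin.cases ?_ (fun j' => ?_) j
              · intro _
                left
                exact Fin.cons_zero _ _
              · intro hj
                right
                exact ⟨j', Fin.succ_lt_succ_iff.1 hj, by rw [Fin.cons_succ]⟩
            · rintro (rfl | ⟨j', hj', rfl⟩)
              · exact ⟨0, Fin.succ_pos k, Fin.cons_zero _ _⟩
              · exact ⟨j'.succ, Fin.succ_lt_succ_iff.2 hj', Fin.cons_succ _ _ _⟩
          rw [himg, key, Fin.cons_succ]
          exact ⟨(h2 k).1, (h2 k).2⟩
      · rw [← hmul, hdeg, h3, pow_succ']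


open IntermediateField in
/-- Let E/F be a finite purely inseparable extension of fields of characteristic p > 0. Then there are
elements a_1, ..., a_n of E generating E over F such that for each i the p-th power of a_i lies in
F(a_1, ..., a_{i-1}) while a_i itself does not (so each step adjoins a p-th root and has degree p);
in particular [E : F] = p ^ n. -/
theorem result {F E : Type u} [Field F] [Field E] [Algebra F E] (p : ℕ)
    [Fact p.Prime] [CharP F p] [FiniteDimensional F E] [IsPurelyInseparable F E] :
    ∃ (n : ℕ) (a : Fin n → E), adjoin F (Set.range a) = ⊤ ∧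
      (∀ i : Fin n, a i ^ p ∈ adjoin F (a '' {j | j < i}) ∧ a i ∉ adjoin F (a '' {j | j < i})) ∧
      Module.finrank F E = p ^ n := by
  exact tower E p _ F rfl

end Groth.Agent.S6334
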