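import Groth.Statements.S6335
import Mathlib

set_option autoImplicit false
universe u
open Fields

 open IntermediateField
namespace Groth.Agent.S6335

/-- Let K be a field of characteristic p > 0, L/K a separable algebraic extension and a an element of L.
If a is a root of a polynomial P over K which is separable (pairwise distinct roots in an algebraic
closure) and all of whose coefficients are p-th powers in K, then a is a p-th power in L. (Part (1),
the case where P is the minimal polynomial of a, is a special case.) -/
theorem result {K L : Type u} [Field K] [Field L] [Algebra K L]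
    (p : ℕ) [Fact p.Prime] [CharP K p] [Algebra.IsSeparable K L] (a : L) (P : Polynomial K)
    (hroot : Polynomial.aeval a P = 0) (hsep : P.Separable) (hcoeff : ∀ i : ℕ, ∃ b : K, b ^ p = P.coeff i) :
    ∃ c : L, c ^ p = a := by
  classical
  have hp : p.Prime := Fact.out
  haveI : CharP L p := charP_of_injective_algebraMap (algebraMap K L).injective p
  haveI : CharP (AlgebraicClosure L) p :=
    charP_of_injective_algebraMap (algebraMap L (AlgebraicClosure L)).injective p
  haveI : ExpChar L p := ExpChar.prime hp
  choose b hb using hcoeff
  -- the Frobenius-untwisted polynomial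
  let Q : Polynomial K := ∑ i ∈ Finset.range (P.natDegree + 1), Polynomial.monomial i (b i)
  have hQmap : Q.map (frobenius K p) = P := by
    show (∑ i ∈ Finset.range (P.natDegree + 1), Polynomial.monomial i (b i)).map _ = P
    rw [Polynomial.map_sum]
    conv_rhs => rw [Polynomial.as_sum_range P]
    refine Finset.sum_congr rfl fun i _ => ?_
    rw [Polynomial.map_monomial, frobenius_def, hb]
  have hQsep : Q.Separable := by
    rw [← Polynomial.separable_map (frobenius K p), hQmap]; exact hsep
  obtain ⟨α, hα⟩ := IsAlgClosed.exists_pow_nat_eq (algebraMap L (AlgebraicClosure L) a) hp.pos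
  -- α is a root of Q
  have hQα : Polynomial.aeval α Q = 0 := by
    have h1 : frobenius (AlgebraicClosure L) p (Polynomial.aeval α Q) = 0 := by
      rw [Polynomial.aeval_def, Polynomial.hom_eval₂]
      have hcomp : (frobenius (AlgebraicClosure L) p).comp (algebraMap K (AlgebraicClosure L))
          = (algebraMap K (AlgebraicClosure L)).comp (frobenius K p) := by
        refine RingHom.ext fun x => ?_
        simp [frobenius_def]
      rw [hcomp, ← Polynomial.eval₂_map, hQmap, frobenius_def, hα, ← Polynomial.aeval_def,
        Polynomial.aeval_algebraMap_apply, hroot, map_zero]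
    rw [frobenius_def] at h1
    exact pow_eq_zero_iff hp.ne_zero |>.1 h1
  have hsepK : IsSeparable K α := by
    have hdvd := minpoly.dvd K α hQα
    exact hQsep.of_dvd hdvd
  have hsepL : IsSeparable L α := hsepK.tower_top L
  haveI : Algebra.IsSeparable L L⟮α⟯ :=
    (IntermediateField.isSeparable_adjoin_simple_iff_isSeparable L (AlgebraicClosure L)).2 hsepL
  haveI : IsPurelyInseparable L L⟮α⟯ := by
    rw [IntermediateField.isPurelyInseparable_adjoin_simple_iff_pow_mem L (AlgebraicClosure L) p]
    exact ⟨1, by rw [pow_one, hα]; exact ⟨a, rfl⟩⟩
  obtain ⟨c, hc⟩ := IsPurelyInseparable.surjective_algebraMap_of_isSeparable L L⟮α⟯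
    ⟨α, IntermediateField.mem_adjoin_simple_self L α⟩
  have hcα : algebraMap L (AlgebraicClosure L) c = α := by
    have := congrArg (fun z : L⟮α⟯ => (z : AlgebraicClosure L)) hc
    exact this
  refine ⟨c, ?_⟩
  apply (algebraMap L (AlgebraicClosure L)).injective
  rw [map_pow, hcα, hα]

end Groth.Agent.S6335
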