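import Groth.Statements.S6336
import Mathlib

set_option autoImplicit false
universe u
open Fields

namespace Groth.Agent.S6336

open IntermediateField Polynomial in
/-- With an added hypothesis: let L/K be a finite extension of degree e generated by a single element a
whose e-th power lies in K, and assume that the polynomial X ^ e - 1 splits into linear factors over
K (so every e-th root of unity of any extension of K already lies in K; this holds when K contains a
primitive e-th root of unity, and when e is a power of the characteristic). Then every intermediate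
field of L/K is generated by a ^ d for some divisor d of e. (The published statement has no
hypothesis on roots of unity; for K the rationals and a a primitive 8-th root of unity, e = 4 and a
^ 4 = -1, the intermediate field generated by a + a⁻¹, a square root of 2, is none of K(a), K(a ^
2), K(a ^ 4); the published proof uses that the e-th roots of unity met are fixed by the
automorphisms it constructs, which the splitting hypothesis guarantees.) -/
theorem result {K L : Type u} [Field K] [Field L] [Algebra K L]
    [FiniteDimensional K L] (a : L) (ha : K⟮a⟯ = ⊤)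
    (hpow : a ^ Module.finrank K L ∈ Set.range (algebraMap K L))
    (hroots : (X ^ Module.finrank K L - 1 : K[X]).Splits) (L' : IntermediateField K L) :
    ∃ d : ℕ, d ∣ Module.finrank K L ∧ L' = K⟮a ^ d⟯ := by
  classical
  have hnpos : 0 < Module.finrank K L := Module.finrank_pos
  obtain ⟨c, hc⟩ := hpow
  have hmpos : 0 < Module.finrank L' L := Module.finrank_pos
  have hmn : Module.finrank K L' * Module.finrank L' L = Module.finrank K L :=
    Module.finrank_mul_finrank K L' L
  refine ⟨Module.finrank L' L, Dvd.intro_left _ hmn, ?_⟩
  have hA : a ^ Module.finrank L' L ∈ L' := by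
    by_cases ha0 : a = 0
    · rw [ha0, zero_pow hmpos.ne']; exact L'.zero_mem
    · obtain ⟨ν, hνdef⟩ : ∃ ν : L, ν = algebraMap L' L (Algebra.norm L' a) := ⟨_, rfl⟩
      have h2 : (Algebra.norm L' a) ^ Module.finrank K L
          = (algebraMap K L' c) ^ Module.finrank L' L := by
        rw [← map_pow, ← hc, IsScalarTower.algebraMap_apply K L' L c,
          Algebra.norm_algebraMap (S := L)]
      have h1 : ν ^ Module.finrank K L = (a ^ Module.finrank L' L) ^ Module.finrank K L := by
        calc ν ^ Module.finrank K L
            = algebraMap L' L ((Algebra.norm L' a) ^ Module.finrank K L) := by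
              rw [hνdef, map_pow]
          _ = algebraMap L' L ((algebraMap K L' c) ^ Module.finrank L' L) := by rw [h2]
          _ = (algebraMap K L c) ^ Module.finrank L' L := by
              rw [map_pow, ← IsScalarTower.algebraMap_apply]
          _ = (a ^ Module.finrank K L) ^ Module.finrank L' L := by rw [hc]
          _ = (a ^ Module.finrank L' L) ^ Module.finrank K L := by
              rw [← pow_mul, ← pow_mul, mul_comm]
      have hpne : (a ^ Module.finrank L' L) ^ Module.finrank K L ≠ 0 :=
        pow_ne_zero _ (pow_ne_zero _ ha0)
      have hν : ν ≠ 0 := by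
        intro h0
        rw [h0, zero_pow hnpos.ne'] at h1
        exact hpne h1.symm
      have hζ : (ν / a ^ Module.finrank L' L) ^ Module.finrank K L = 1 := by
        rw [div_pow, h1, div_self hpne]
      have hroot : ((X ^ Module.finrank K L - 1 : K[X]).map (algebraMap K L)).IsRoot
          (ν / a ^ Module.finrank L' L) := by
        simp [Polynomial.IsRoot.def, hζ]
      have hne : (X ^ Module.finrank K L - 1 : K[X]) ≠ 0 := by
        simpa using Polynomial.X_pow_sub_C_ne_zero hnpos (1 : K)
      obtain ⟨z, hz⟩ := hroots.mem_range_of_isRoot hne hroot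
      have h3 : a ^ Module.finrank L' L = ν * (algebraMap K L z)⁻¹ := by
        rw [hz]
        field_simp
      rw [h3]
      refine L'.mul_mem ?_ (L'.inv_mem (L'.algebraMap_mem z))
      rw [hνdef]
      exact (Algebra.norm L' a).2
  have hB : K⟮a ^ Module.finrank L' L⟯ ≤ L' := IntermediateField.adjoin_simple_le_iff.2 hA
  symm
  apply IntermediateField.eq_of_le_of_finrank_le' hB
  have htop : (IntermediateField.adjoin (↥K⟮a ^ Module.finrank L' L⟯) {a}
      : IntermediateField (↥K⟮a ^ Module.finrank L' L⟯) L) = ⊤ :=
    IntermediateField.adjoin_eq_top_of_adjoin_eq_top (F := K) ha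
  have hint : IsIntegral (↥K⟮a ^ Module.finrank L' L⟯) a := IsIntegral.of_finite _ a
  have h1 : Module.finrank (↥K⟮a ^ Module.finrank L' L⟯) L
      = (minpoly (↥K⟮a ^ Module.finrank L' L⟯) a).natDegree := by
    rw [← IntermediateField.finrank_top' (F := ↥K⟮a ^ Module.finrank L' L⟯) (E := L), ← htop,
      IntermediateField.adjoin.finrank hint]
  rw [h1]
  obtain ⟨b, hb⟩ : ∃ b : ↥K⟮a ^ Module.finrank L' L⟯, (b : L) = a ^ Module.finrank L' L :=
    ⟨⟨a ^ Module.finrank L' L, IntermediateField.mem_adjoin_simple_self K _⟩, rfl⟩
  have hdvd : minpoly (↥K⟮a ^ Module.finrank L' L⟯) a ∣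
      (X ^ Module.finrank L' L - C b : (↥K⟮a ^ Module.finrank L' L⟯)[X]) := by
    apply minpoly.dvd
    simp [hb]
  have hne : (X ^ Module.finrank L' L - C b : (↥K⟮a ^ Module.finrank L' L⟯)[X]) ≠ 0 :=
    Polynomial.X_pow_sub_C_ne_zero hmpos b
  calc (minpoly (↥K⟮a ^ Module.finrank L' L⟯) a).natDegree
      ≤ (X ^ Module.finrank L' L - C b : (↥K⟮a ^ Module.finrank L' L⟯)[X]).natDegree :=
        Polynomial.natDegree_le_of_dvd hdvd hne
    _ = Module.finrank L' L := Polynomial.natDegree_X_pow_sub_C

end Groth.Agent.S6336
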