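import Groth.Statements.S6337
import Groth.Agent.Lib.helper3.ML

set_option autoImplicit false
universe u
open CAlg

namespace Groth.Agent.S6337

/-- A direct sum of modules is Mittag-Leffler if and only if each summand is Mittag-Leffler. -/
theorem result (R : Type u) [CommRing R] {ι : Type u} (M : ι → Type u)
    [∀ i, AddCommGroup (M i)] [∀ i, Module R (M i)] :
    CAlg.IsMittagLeffler R (DirectSum ι M) ↔ ∀ i, CAlg.IsMittagLeffler R (M i) := by
  classical
  constructor
  · intro H i κ Q _ _ x y hxy
    have hcomp : (DirectSum.component R ι M i) ∘ₗ (DirectSum.lof R ι M i) = LinearMap.id :=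
      LinearMap.ext (fun b => DirectSum.component.lof_self R i b)
    have inj : Function.Injective ((DirectSum.lof R ι M i).rTensor (∀ j, Q j)) := by
      apply Function.LeftInverse.injective (g := (DirectSum.component R ι M i).rTensor _)
      intro z
      rw [← LinearMap.comp_apply, ← LinearMap.rTensor_comp, hcomp, LinearMap.rTensor_id]
      rfl
    apply inj
    apply H κ Q
    funext j
    rw [Groth.Agent.Lib.helper3.ML.piRightHom_natural, Groth.Agent.Lib.helper3.ML.piRightHom_natural, hxy]
  · intro h κ Q _ _
    rw [injective_iff_map_eq_zero]
    intro x hx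
    apply Groth.Agent.Lib.helper3.ML.directSum_tensor_eq_zero
    intro i
    apply h i κ Q
    rw [map_zero]
    funext j
    rw [Groth.Agent.Lib.helper3.ML.piRightHom_natural, hx]; simp

end Groth.Agent.S6337
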