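import Groth.Statements.S6340
import Groth.Agent.Lib.helper3.ML

set_option autoImplicit false
universe u
open CAlg

namespace Groth.Agent.S6340

/-- Let M₁ → M₂ → M₃ → 0 be exact with M₁ finitely generated; if M₂ is Mittag-Leffler then so is M₃.
Equivalently, as stated here: the quotient of a Mittag-Leffler module by a finitely generated
submodule is Mittag-Leffler. -/
theorem result (R : Type u) [CommRing R] {M : Type u} [AddCommGroup M] [Module R M]
    (N : Submodule R M) (hN : N.FG) (hM : CAlg.IsMittagLeffler R M) :
    CAlg.IsMittagLeffler R (M ⧸ N) := by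
  intro κ Q _ _
  rw [injective_iff_map_eq_zero]
  intro x hx
  have hex : ∀ (P : Type u) [AddCommGroup P] [Module R P],
      Function.Exact (N.subtype.rTensor P) (N.mkQ.rTensor P) := fun P _ _ =>
    rTensor_exact P (LinearMap.exact_subtype_mkQ N) (Submodule.mkQ_surjective N)
  have hsurj : Function.Surjective (N.mkQ.rTensor (∀ k, Q k)) :=
    LinearMap.rTensor_surjective _ (Submodule.mkQ_surjective N)
  obtain ⟨x', rfl⟩ := hsurj x
  have h1 : ∀ k, ∃ z : TensorProduct R N (Q k),
      N.subtype.rTensor (Q k) z = TensorProduct.piRightHom R R M Q x' k := by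
    intro k
    apply (hex (Q k) _).1
    rw [← Groth.Agent.Lib.helper3.ML.piRightHom_natural, hx]; rfl
  choose z hz using h1
  haveI : Module.Finite R N := Module.Finite.iff_fg.2 hN
  obtain ⟨w, hw⟩ := Groth.Agent.Lib.helper3.ML.piRightHom_surjective_of_finite (R := R) N Q z
  have : x' = N.subtype.rTensor _ w := by
    apply hM κ Q
    funext k
    rw [Groth.Agent.Lib.helper3.ML.piRightHom_natural, hw, hz]
  rw [this]
  exact (hex _).apply_apply_eq_zero w

end Groth.Agent.S6340
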