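import Groth.Statements.S6341
import Groth.Agent.Lib.helper3.ML

set_option autoImplicit false
universe u
open CAlg

namespace Groth.Agent.S6341

/-- The colimit of a directed system of Mittag-Leffler modules with universally injective transition
maps is Mittag-Leffler. -/
theorem result (R : Type u) [CommRing R] {ι : Type u}
    [Preorder ι] [IsDirected ι (· ≤ ·)] [DecidableEq ι] (G : ι → Type u) [∀ i, AddCommGroup (G i)]
    [∀ i, Module R (G i)] (f : ∀ i j, i ≤ j → G i →ₗ[R] G j) [DirectedSystem G fun i j h => f i j h]
    (hf : ∀ i j (h : i ≤ j), CAlgX.UniversallyInjective R (f i j h))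
    (hG : ∀ i, CAlg.IsMittagLeffler R (G i)) :
    CAlg.IsMittagLeffler R (Module.DirectLimit G f) := by
  intro κ Q _ _
  rcases isEmpty_or_nonempty ι with hι | hι
  · have hsub : ∀ a : Module.DirectLimit G f, a = 0 := fun a => Subsingleton.elim _ _
    intro x y _
    have hx : ∀ z : TensorProduct R (Module.DirectLimit G f) (∀ k, Q k), z = 0 := by
      intro z
      induction z using TensorProduct.induction_on with
      | zero => rfl
      | tmul a p => rw [hsub a, TensorProduct.zero_tmul]
      | add a b ha hb => rw [ha, hb, add_zero]
    rw [hx x, hx y]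
  · have huniv : ∀ (i : ι) (N : Type u) [AddCommGroup N] [Module R N],
        Function.Injective ((Module.DirectLimit.of R ι G f i).rTensor N) := by
      intro i N _ _
      rw [injective_iff_map_eq_zero]
      intro z hz
      have h1 := TensorProduct.directLimitLeft_rTensor_of f N z
      rw [hz, map_zero] at h1
      obtain ⟨j, hij, hj⟩ := Module.DirectLimit.of.zero_exact h1.symm
      exact (injective_iff_map_eq_zero _).1 (hf i j hij N) z hj
    rw [injective_iff_map_eq_zero]
    intro x hx
    obtain ⟨i, z, hz⟩ : ∃ i z, (Module.DirectLimit.of R ι G f i).rTensor _ z = x := by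
      obtain ⟨i, z, hz⟩ := Module.DirectLimit.exists_of (TensorProduct.directLimitLeft f (∀ k, Q k) x)
      refine ⟨i, z, ?_⟩
      apply (TensorProduct.directLimitLeft f (∀ k, Q k)).injective
      rw [TensorProduct.directLimitLeft_rTensor_of, hz]
    subst hz
    have : z = 0 := by
      apply hG i κ Q
      rw [map_zero]
      funext k
      apply huniv i (Q k)
      rw [← Groth.Agent.Lib.helper3.ML.piRightHom_natural, hx]; simp
    rw [this, map_zero]

end Groth.Agent.S6341
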