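import Groth.Statements.S6348
import Groth.Agent.Lib.helper3.ML

set_option autoImplicit false
universe u
open scoped TensorProduct
open CAlg

namespace Groth.Agent.S6348

/-- For a ring map R → S and a Mittag-Leffler R-module M, the S-module S ⊗_R M is Mittag-Leffler. (The
companion parts on flat modules, projective modules and direct sums of countably generated modules
are standard base-change facts.) -/
theorem result (R S : Type u) [CommRing R] [CommRing S] [Algebra R S] (M : Type u)
    [AddCommGroup M] [Module R M] (hM : CAlg.IsMittagLeffler R M) :
    CAlg.IsMittagLeffler S (S ⊗[R] M) := by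
  intro ι Q _ _
  letI : ∀ i, Module R (Q i) := fun i => Module.compHom (Q i) (algebraMap R S)
  haveI : ∀ i, IsScalarTower R S (Q i) := fun i => IsScalarTower.of_algebraMap_smul (fun r x => rfl)
  have key : ∀ (x : (S ⊗[R] M) ⊗[S] (∀ i, Q i)) (i : ι),
      TensorProduct.piRightHom R R M Q (Groth.Agent.Lib.helper3.ML.bcEquiv R S M (∀ i, Q i) x) i
        = Groth.Agent.Lib.helper3.ML.bcEquiv R S M (Q i) (TensorProduct.piRightHom S S _ Q x i) := by
    intro x i
    induction x using TensorProduct.induction_on with
    | zero => simp
    | add a b ha hb => simp only [map_add, Pi.add_apply, ha, hb]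
    | tmul t q =>
      induction t using TensorProduct.induction_on with
      | zero => simp
      | add a b ha hb => simp only [TensorProduct.add_tmul, map_add, Pi.add_apply, ha, hb]
      | tmul s m =>
        rw [Groth.Agent.Lib.helper3.ML.bcEquiv_tmul, TensorProduct.piRightHom_tmul,
          TensorProduct.piRightHom_tmul, Groth.Agent.Lib.helper3.ML.bcEquiv_tmul]
        rfl
  intro x y hxy
  apply (Groth.Agent.Lib.helper3.ML.bcEquiv R S M (∀ i, Q i)).injective
  apply hM ι Q
  funext i
  rw [key, key, hxy]

end Groth.Agent.S6348
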