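import Groth.Statements.S6350
import Groth.Agent.Lib.helper2.NilFree
import Mathlib.RingTheory.LocalRing.Module
import Mathlib.LinearAlgebra.TensorProduct.Basis

set_option autoImplicit false
universe u
open scoped TensorProduct
open CAlg

namespace Groth.Agent.S6350

/-- Let (R, m) be a local ring with nilpotent maximal ideal and M a flat R-module. A family of elements
of M is a basis of M over R if and only if its image is a basis of the R/m-vector space M/mM = R/m ⊗
M. -/
theorem result (R : Type u) [CommRing R] [IsLocalRing R]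
    (hnil : IsNilpotent (IsLocalRing.maximalIdeal R)) (M : Type u) [AddCommGroup M] [Module R M] [Module.Flat R M]
    {A : Type u} (x : A → M) :
    (LinearIndependent R x ∧ Submodule.span R (Set.range x) = ⊤) ↔
      (LinearIndependent (R ⧸ IsLocalRing.maximalIdeal R)
          (fun a => (1 : R ⧸ IsLocalRing.maximalIdeal R) ⊗ₜ[R] x a) ∧
        Submodule.span (R ⧸ IsLocalRing.maximalIdeal R)
          (Set.range fun a => (1 : R ⧸ IsLocalRing.maximalIdeal R) ⊗ₜ[R] x a) = ⊤) := by
  constructor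
  · rintro ⟨hli, hsp⟩
    let b : Module.Basis A R M := Module.Basis.mk hli hsp.ge
    let b' := b.baseChange (R ⧸ IsLocalRing.maximalIdeal R)
    have hb' : (fun a => (1 : R ⧸ IsLocalRing.maximalIdeal R) ⊗ₜ[R] x a) = ⇑b' := by
      ext a
      rw [Module.Basis.baseChange_apply, Module.Basis.mk_apply]
    rw [hb']
    exact ⟨b'.linearIndependent, b'.span_eq⟩
  · rintro ⟨hli, hsp⟩
    refine ⟨Module.IsLocalRing.linearIndependent_of_flat x hli, ?_⟩
    apply Groth.Agent.Lib.helper2.h2_eq_top_of_sup_smul (IsLocalRing.maximalIdeal R) hnil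
    intro y _
    have key : ∀ t ∈ Submodule.span (R ⧸ IsLocalRing.maximalIdeal R)
        (Set.range fun a => (1 : R ⧸ IsLocalRing.maximalIdeal R) ⊗ₜ[R] x a),
        ∃ n ∈ Submodule.span R (Set.range x), t = (1 : R ⧸ IsLocalRing.maximalIdeal R) ⊗ₜ[R] n := by
      intro t ht
      induction ht using Submodule.span_induction with
      | mem t ht =>
        obtain ⟨a, rfl⟩ := ht
        exact ⟨x a, Submodule.subset_span ⟨a, rfl⟩, rfl⟩
      | zero => exact ⟨0, Submodule.zero_mem _, (TensorProduct.tmul_zero _ _).symm⟩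
      | add t₁ t₂ _ _ h₁ h₂ =>
        obtain ⟨n₁, hn₁, rfl⟩ := h₁
        obtain ⟨n₂, hn₂, rfl⟩ := h₂
        exact ⟨n₁ + n₂, Submodule.add_mem _ hn₁ hn₂, (TensorProduct.tmul_add _ _ _).symm⟩
      | smul c t _ h₁ =>
        obtain ⟨n₁, hn₁, rfl⟩ := h₁
        obtain ⟨r, rfl⟩ := Ideal.Quotient.mk_surjective c
        refine ⟨r • n₁, Submodule.smul_mem _ _ hn₁, ?_⟩
        rw [TensorProduct.tmul_smul, Groth.Agent.Lib.helper2.h2_smul_quot_tmul]
    obtain ⟨n, hn, hyn⟩ := key ((1 : R ⧸ IsLocalRing.maximalIdeal R) ⊗ₜ[R] y) (by rw [hsp]; trivial)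
    have h1 : (1 : R ⧸ IsLocalRing.maximalIdeal R) ⊗ₜ[R] (y - n) = 0 := by
      rw [TensorProduct.tmul_sub, hyn, sub_self]
    have h2 := Groth.Agent.Lib.helper2.h2_mem_smul_top_of_tmul_eq_zero (IsLocalRing.maximalIdeal R) M _ h1
    have : y = n + (y - n) := by abel
    rw [this]
    exact Submodule.add_mem_sup hn h2

end Groth.Agent.S6350
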