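import Groth.Statements.S6352
import Groth.Agent.Lib.helper3.FlatSq

set_option autoImplicit false
universe u
open scoped TensorProduct
open CAlg

open TensorProduct
namespace Groth.Agent.S6352

/-- Let R → R' be an injective ring map, I ⊆ R a nilpotent ideal and M an R-module. Then flatness of M
over R follows from flatness of M/IM over R/I together with flatness of R' ⊗_R M over R'. -/
theorem result (R R' : Type u) [CommRing R] [CommRing R']
    [Algebra R R'] (hinj : Function.Injective (algebraMap R R')) (I : Ideal R) (hI : IsNilpotent I)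
    (M : Type u) [AddCommGroup M] [Module R M] [Module.Flat (R ⧸ I) ((R ⧸ I) ⊗[R] M)]
    [Module.Flat R' (R' ⊗[R] M)] : Module.Flat R M := by
  obtain ⟨k, hk⟩ := hI
  have claim : ∀ n : ℕ, ∀ J : Ideal R, Module.Flat (R ⧸ J) ((R ⧸ J) ⊗[R] M) →
      (J.map (algebraMap R R')) ^ (2 ^ n) = ⊥ → Module.Flat R M := by
    intro n
    induction n with
    | zero =>
      intro J hJ hmap
      rw [pow_zero, pow_one] at hmap
      have hJbot : J = ⊥ := by
        rw [eq_bot_iff]
        intro a ha
        have : algebraMap R R' a ∈ J.map (algebraMap R R') := Ideal.mem_map_of_mem _ ha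
        rw [hmap] at this
        exact Ideal.mem_bot.2 (hinj (by rw [Ideal.mem_bot.1 this, map_zero]))
      subst hJbot
      haveI : Module.Flat R (R ⧸ (⊥ : Ideal R)) :=
        Module.Flat.of_linearEquiv (Submodule.quotEquivOfEqBot (⊥ : Ideal R) rfl)
      haveI : Module.Flat R ((R ⧸ (⊥ : Ideal R)) ⊗[R] M) :=
        Module.Flat.trans R (R ⧸ (⊥ : Ideal R)) _
      exact Module.Flat.of_linearEquiv ((TensorProduct.lid R M).symm ≪≫ₗ
        TensorProduct.congr (Submodule.quotEquivOfEqBot (⊥ : Ideal R) rfl).symm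
          (LinearEquiv.refl R M))
    | succ n ih =>
      intro J hJ hmap
      haveI := hJ
      have h2 := H3FlatSq.core (R' := R') J _ ((J ^ 2).map (algebraMap R R')) rfl
        Ideal.le_comap_map (by rw [Ideal.map_pow]) M
      apply ih _ h2
      rw [eq_bot_iff]
      calc ((((J ^ 2).map (algebraMap R R')).comap (algebraMap R R')).map (algebraMap R R')) ^ (2 ^ n)
          ≤ ((J ^ 2).map (algebraMap R R')) ^ (2 ^ n) := Ideal.pow_right_mono Ideal.map_comap_le _
        _ = (J.map (algebraMap R R')) ^ (2 ^ (n + 1)) := by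
          rw [Ideal.map_pow, ← pow_mul, ← pow_succ']
        _ = ⊥ := hmap
  apply claim k I inferInstance
  rw [← Ideal.map_pow, eq_bot_iff]
  have h1 : I ^ (2 ^ k) ≤ I ^ k := Ideal.pow_le_pow_right (Nat.lt_two_pow_self).le
  rw [hk, Ideal.zero_eq_bot] at h1
  rw [le_bot_iff.1 h1, Ideal.map_bot]

end Groth.Agent.S6352
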