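import Groth.Statements.S6353
import Mathlib

set_option autoImplicit false
universe u
open CAlg

namespace Groth.Agent.S6353

open PrimeSpectrum in
/-- For a commutative ring R, I ↦ V(I) is a bijection between pure ideals (R/I flat over R) and closed
subsets of Spec R stable under generalization. Stated here as: V(I) is stable under generalization
for I pure, and every closed generalization-stable subset is V(I) for some pure I (injectivity on
pure ideals being the standard fact that pure ideals with the same zero locus coincide). -/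
theorem result (R : Type u) [CommRing R] :
    (∀ I : Ideal R, I.Pure → StableUnderGeneralization (zeroLocus (I : Set R))) ∧
      ∀ Z : Set (PrimeSpectrum R), IsClosed Z → StableUnderGeneralization Z →
        ∃ I : Ideal R, I.Pure ∧ zeroLocus (I : Set R) = Z := by
  constructor
  · intro I hI p q hqp hp
    haveI := hI
    rw [← PrimeSpectrum.le_iff_specializes] at hqp
    rw [PrimeSpectrum.mem_zeroLocus] at hp ⊢
    intro x hx
    obtain ⟨y, hy, hxy⟩ := Ideal.exists_eq_mul_of_pure hx
    have h0 : x * (1 - y) = 0 := by rw [mul_sub, mul_one, ← hxy, sub_self]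
    have hmem : x * (1 - y) ∈ q.asIdeal := by rw [h0]; exact zero_mem _
    rcases q.2.mem_or_mem hmem with h | h
    · exact h
    · exfalso
      have h1 : (1 - y) ∈ p.asIdeal := (PrimeSpectrum.asIdeal_le_asIdeal q p).2 hqp h
      have h2 : y ∈ p.asIdeal := hp hy
      exact p.2.ne_top ((Ideal.eq_top_iff_one _).2 (by simpa using add_mem h1 h2))
  · intro Z hZc hZg
    obtain ⟨J, hJ⟩ : ∃ J : Ideal R, J = PrimeSpectrum.vanishingIdeal Z := ⟨_, rfl⟩
    have hZJ : zeroLocus (J : Set R) = Z := by
      rw [hJ, PrimeSpectrum.zeroLocus_vanishingIdeal_eq_closure, hZc.closure_eq]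
    let S : Submonoid R := (⊥ : Submonoid (R ⧸ J)).comap (Ideal.Quotient.mk J)
    have hS : ∀ s : R, s ∈ S ↔ 1 - s ∈ J := by
      intro s
      have h0 : s ∈ S ↔ Ideal.Quotient.mk J s = 1 := by
        show Ideal.Quotient.mk J s ∈ (⊥ : Submonoid (R ⧸ J)) ↔ _
        exact Submonoid.mem_bot
      rw [h0]
      constructor
      · intro h
        rw [← Ideal.Quotient.eq_zero_iff_mem, map_sub, map_one, h, sub_self]
      · intro h
        rw [← Ideal.Quotient.eq_zero_iff_mem, map_sub, map_one, sub_eq_zero] at h
        exact h.symm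
    let I : Ideal R := RingHom.ker (algebraMap R (Localization S))
    have hI : ∀ x, x ∈ I ↔ ∃ y ∈ J, x = x * y := by
      intro x
      show algebraMap R (Localization S) x = 0 ↔ _
      rw [IsLocalization.map_eq_zero_iff S]
      constructor
      · rintro ⟨⟨s, hs⟩, hsx⟩
        refine ⟨1 - s, (hS s).1 hs, ?_⟩
        have : s * x = 0 := hsx
        rw [mul_sub, mul_one, mul_comm x s, this, sub_zero]
      · rintro ⟨y, hy, hxy⟩
        refine ⟨⟨1 - y, (hS _).2 (by simpa using hy)⟩, ?_⟩
        show (1 - y) * x = 0
        rw [sub_mul, one_mul, mul_comm y x, ← hxy, sub_self]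
    have hrange : Set.range (PrimeSpectrum.comap (algebraMap R (Localization S))) = Z := by
      rw [PrimeSpectrum.localization_comap_range (Localization S) S]
      ext p
      simp only [Set.mem_setOf_eq]
      constructor
      · intro hdis
        have hne : p.asIdeal ⊔ J ≠ ⊤ := by
          intro htop
          have h1 : (1 : R) ∈ p.asIdeal ⊔ J := by rw [htop]; exact Submodule.mem_top
          obtain ⟨a, ha, j, hj, haj⟩ := Submodule.mem_sup.1 h1
          have haS : a ∈ S := (hS a).2 (by rw [← haj]; simpa using hj)
          exact Set.disjoint_left.1 hdis haS ha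
        obtain ⟨m, hm, hle⟩ := Ideal.exists_le_maximal _ hne
        have hmZ : (⟨m, hm.isPrime⟩ : PrimeSpectrum R) ∈ Z := by
          rw [← hZJ, PrimeSpectrum.mem_zeroLocus]
          intro x hx
          exact hle (Submodule.mem_sup_right hx)
        refine hZg ?_ hmZ
        refine (PrimeSpectrum.le_iff_specializes p ⟨m, hm.isPrime⟩).1 ?_
        rw [← PrimeSpectrum.asIdeal_le_asIdeal]
        exact le_trans le_sup_left hle
      · intro hpZ
        rw [← hZJ, PrimeSpectrum.mem_zeroLocus] at hpZ
        rw [Set.disjoint_left]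
        intro s hs hsp
        have : 1 - s ∈ p.asIdeal := hpZ ((hS s).1 hs)
        exact p.2.ne_top ((Ideal.eq_top_iff_one _).2 (by simpa using add_mem this hsp))
    have hVI : zeroLocus (I : Set R) = Z := by
      rw [← PrimeSpectrum.closure_range_comap, hrange, hZc.closure_eq]
    have hJrad : J = I.radical := by
      rw [← PrimeSpectrum.vanishingIdeal_zeroLocus_eq_radical, hVI, hJ]
    have hI5 : ∀ x ∈ I, ∃ y ∈ I, x = x * y := by
      intro x hx
      obtain ⟨y, hy, hxy⟩ := (hI x).1 hx
      rw [hJrad] at hy
      obtain ⟨n, hn⟩ := hy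
      have hpow : ∀ k : ℕ, x = x * y ^ k := by
        intro k
        induction k with
        | zero => simp
        | succ k ih => rw [pow_succ, ← mul_assoc, ← ih, ← hxy]
      exact ⟨y ^ n, hn, hpow n⟩
    refine ⟨I, ?_, hVI⟩
    apply Ideal.Pure.of_inf_eq_mul
    intro K _
    apply le_antisymm
    · intro z hz
      obtain ⟨y, hy, hzy⟩ := hI5 z hz.1
      have hz' : z = y * z := by rw [mul_comm]; exact hzy
      rw [hz']
      exact Ideal.mul_mem_mul hy hz.2
    · exact Ideal.mul_le_inf

end Groth.Agent.S6353
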