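import Groth.Statements.S6354
import Mathlib

set_option autoImplicit false
universe u
open CAlg

namespace Groth.Agent.S6354

open PrimeSpectrum in
/-- For an ideal I of a commutative ring R these four conditions are equivalent: (1) I is finitely
generated and pure; (2) I = (e) for some idempotent e; (3) I is pure with V(I) open in Spec R; (4)
R/I is projective as an R-module. -/
theorem result (R : Type u) [CommRing R] (I : Ideal R) :
    List.TFAE [I.Pure ∧ I.FG, ∃ e : R, IsIdempotentElem e ∧ I = Ideal.span {e},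
      I.Pure ∧ IsOpen (zeroLocus (I : Set R)), Module.Projective R (R ⧸ I)] := by
  have hpure : ∀ e : R, IsIdempotentElem e → (Ideal.span {e}).Pure ∧ (Ideal.span {e}).FG := by
    intro e he
    have hfg : (Ideal.span {e}).FG := ⟨{e}, by simp⟩
    exact ⟨Ideal.Pure.of_isIdempotentElem hfg
      ((Ideal.isIdempotentElem_iff_of_fg _ hfg).2 ⟨e, he, rfl⟩), hfg⟩
  have h12 : (I.Pure ∧ I.FG) ↔ ∃ e : R, IsIdempotentElem e ∧ I = Ideal.span {e} := by
    constructor
    · rintro ⟨hp, hfg⟩
      haveI := hp
      exact (Ideal.isIdempotentElem_iff_of_fg I hfg).1 (Ideal.isIdempotentElem_of_pure I)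
    · rintro ⟨e, he, rfl⟩
      exact hpure e he
  have h23 : (∃ e : R, IsIdempotentElem e ∧ I = Ideal.span {e}) →
      I.Pure ∧ IsOpen (zeroLocus (I : Set R)) := by
    intro h
    refine ⟨(h12.2 h).1, ?_⟩
    obtain ⟨e, he, rfl⟩ := h
    rw [PrimeSpectrum.zeroLocus_span,
      PrimeSpectrum.zeroLocus_eq_basicOpen_of_isIdempotentElem e he]
    exact (PrimeSpectrum.basicOpen (1 - e)).2
  have h32 : I.Pure ∧ IsOpen (zeroLocus (I : Set R)) →
      ∃ e : R, IsIdempotentElem e ∧ I = Ideal.span {e} := by
    rintro ⟨hp, hopen⟩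
    haveI := hp
    obtain ⟨e, he, hz⟩ := PrimeSpectrum.isClopen_iff_zeroLocus.1
      ⟨PrimeSpectrum.isClosed_zeroLocus _, hopen⟩
    refine ⟨e, he, ?_⟩
    haveI : (Ideal.span {e}).Pure := (hpure e he).1
    rw [← Ideal.zeroLocus_inj_of_pure, hz, PrimeSpectrum.zeroLocus_span]
  have h24 : (∃ e : R, IsIdempotentElem e ∧ I = Ideal.span {e}) →
      Module.Projective R (R ⧸ I) := by
    rintro ⟨e, he, rfl⟩
    have hle : Ideal.span {e} ≤ LinearMap.ker (LinearMap.mulLeft R (1 - e)) := by
      rw [Ideal.span_le, Set.singleton_subset_iff]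
      show (1 - e) * e = 0
      rw [sub_mul, one_mul, he.eq, sub_self]
    let i : (R ⧸ Ideal.span {e}) →ₗ[R] R :=
      Submodule.liftQ (Ideal.span {e}) (LinearMap.mulLeft R (1 - e)) hle
    refine Module.Projective.of_split i (Submodule.mkQ (Ideal.span {e})) ?_
    apply Submodule.linearMap_qext
    refine LinearMap.ext fun x => ?_
    show Submodule.Quotient.mk ((1 - e) * x) = Submodule.Quotient.mk x
    rw [Submodule.Quotient.eq]
    have : (1 - e) * x - x = (-x) * e := by ring
    rw [this]
    exact Ideal.mul_mem_left _ _ (Ideal.subset_span rfl)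
  have h42 : Module.Projective R (R ⧸ I) →
      ∃ e : R, IsIdempotentElem e ∧ I = Ideal.span {e} := by
    intro hproj
    obtain ⟨s, hs⟩ := Module.projective_lifting_property (Submodule.mkQ I) LinearMap.id
      (Submodule.mkQ_surjective I)
    obtain ⟨a, ha⟩ : ∃ a : R, a = s (Submodule.Quotient.mk 1) := ⟨_, rfl⟩
    have h1 : (1 - a) ∈ I := by
      have h' : (Submodule.Quotient.mk a : R ⧸ I) = Submodule.Quotient.mk 1 := by
        have := LinearMap.congr_fun hs (Submodule.Quotient.mk 1)
        rw [ha]; exact this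
      have h2 := (Submodule.Quotient.eq I).1 h'
      have h3 := I.neg_mem h2
      rwa [neg_sub] at h3
    have h2 : ∀ x ∈ I, x * a = 0 := by
      intro x hx
      have e1 : s (x • Submodule.Quotient.mk 1) = x • a := by rw [map_smul, ha]
      have hz : x • (Submodule.Quotient.mk (1:R) : R ⧸ I) = 0 := by
        rw [← Submodule.Quotient.mk_smul, smul_eq_mul, mul_one, Submodule.Quotient.mk_eq_zero]
        exact hx
      rw [hz, map_zero] at e1
      rw [← smul_eq_mul]; exact e1.symm
    refine ⟨1 - a, ?_, ?_⟩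
    · have := h2 _ h1
      show (1 - a) * (1 - a) = 1 - a
      rw [mul_sub, mul_one, this, sub_zero]
    · apply le_antisymm
      · intro x hx
        rw [Ideal.mem_span_singleton']
        exact ⟨x, by rw [mul_sub, mul_one, h2 x hx, sub_zero]⟩
      · rw [Ideal.span_le, Set.singleton_subset_iff]; exact h1
  tfae_have 1 ↔ 2 := h12
  tfae_have 2 → 3 := h23
  tfae_have 3 → 2 := h32
  tfae_have 2 → 4 := h24
  tfae_have 4 → 2 := h42
  tfae_finish

end Groth.Agent.S6354
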