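import Groth.Statements.S6362
import Mathlib

set_option autoImplicit false
universe u
open scoped TensorProduct
open Fields

namespace Groth.Agent.S6362

/-- Let K/F be a finite separable extension and L/F an extension with L algebraically closed. Then the
L-algebra map K ⊗_F L → ∏_σ L, indexed by the F-algebra maps σ : K → L and sending a ⊗ b to (σ(a)
b)_σ, is an isomorphism; stated as bijectivity of that map. -/
theorem result {F K L : Type u} [Field F] [Field K] [Field L]
    [Algebra F K] [Algebra F L] [FiniteDimensional F K] [Algebra.IsSeparable F K] [IsAlgClosed L] :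
    Function.Bijective (fun x : K ⊗[F] L => fun σ : K →ₐ[F] L =>
      Algebra.TensorProduct.lift σ (AlgHom.id F L) (fun a b => Commute.all (σ a) b) x) := by
  classical
  let Ψσ : (K →ₐ[F] L) → (L ⊗[F] K →ₗ[L] L) := fun σ =>
    (Algebra.TensorProduct.lift (AlgHom.id L L) σ (fun _ _ => Commute.all _ _)).toLinearMap
  let Ψ : L ⊗[F] K →ₗ[L] ((K →ₐ[F] L) → L) := LinearMap.pi Ψσ
  have hΨ : ∀ (b : L) (a : K) (σ : K →ₐ[F] L), Ψ (b ⊗ₜ a) σ = b * σ a := by
    intro b a σ
    simp [Ψ, Ψσ]
  have hsurj : Function.Surjective Ψ := by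
    rw [← LinearMap.range_eq_top]
    by_contra hne
    obtain ⟨φ, hφ0, hφ⟩ := Submodule.exists_le_ker_of_lt_top _ (lt_top_iff_ne_top.2 hne)
    apply hφ0
    have hc : ∀ σ : K →ₐ[F] L, φ (fun j => if σ = j then 1 else 0) = 0 := by
      have hli := linearIndependent_toLinearMap F K L
      rw [Fintype.linearIndependent_iff] at hli
      apply hli
      refine LinearMap.ext fun a => ?_
      have h1 : φ (Ψ (1 ⊗ₜ a)) = 0 := hφ (LinearMap.mem_range_self Ψ _)
      rw [LinearMap.pi_apply_eq_sum_univ φ] at h1
      rw [LinearMap.sum_apply]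
      simp only [LinearMap.smul_apply, AlgHom.toLinearMap_apply, LinearMap.zero_apply]
      refine Eq.trans (Finset.sum_congr rfl fun σ _ => ?_) h1
      rw [hΨ, one_mul, smul_eq_mul, smul_eq_mul, mul_comm]
    refine LinearMap.ext fun v => ?_
    rw [LinearMap.pi_apply_eq_sum_univ φ v]
    simp [hc]
  have hrank : Module.finrank L (L ⊗[F] K) = Module.finrank L ((K →ₐ[F] L) → L) := by
    rw [Module.finrank_baseChange, Module.finrank_fintype_fun_eq_card, AlgHom.card]
  have hinj : Function.Injective Ψ :=
    (LinearMap.injective_iff_surjective_of_finrank_eq_finrank hrank).2 hsurj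
  have hf : ∀ x : K ⊗[F] L, (fun σ : K →ₐ[F] L =>
      Algebra.TensorProduct.lift σ (AlgHom.id F L) (fun a b => Commute.all (σ a) b) x)
        = Ψ (TensorProduct.comm F K L x) := by
    intro x
    funext σ
    induction x using TensorProduct.induction_on with
    | zero => simp
    | tmul a b => simp [hΨ, mul_comm]
    | add x y hx hy => simp only [map_add, Pi.add_apply, hx, hy]
  have hfun : (fun x : K ⊗[F] L => fun σ : K →ₐ[F] L =>
      Algebra.TensorProduct.lift σ (AlgHom.id F L) (fun a b => Commute.all (σ a) b) x)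
        = Ψ ∘ (TensorProduct.comm F K L) := funext hf
  rw [hfun]
  have hbij : Function.Bijective Ψ := ⟨hinj, hsurj⟩
  exact Function.Bijective.comp hbij (TensorProduct.comm F K L).bijective

end Groth.Agent.S6362
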