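import Groth.Statements.S6364
import Mathlib

set_option autoImplicit false
universe u
open Fields

namespace Groth.Agent.S6364

open IntermediateField in
/-- Let L/K be a finite extension and a ∈ L with minimal polynomial P over K. Then P ^ e, with e = [L :
K(a)], is the characteristic polynomial of multiplication by a (the K-linear map x ↦ a x on L), and
e · deg P = [L : K]. -/
theorem result {K L : Type u} [Field K] [Field L] [Algebra K L] [FiniteDimensional K L]
    (a : L) :
    (Algebra.lmul K L a).charpoly = minpoly K a ^ Module.finrank K⟮a⟯ L ∧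
      Module.finrank K⟮a⟯ L * (minpoly K a).natDegree = Module.finrank K L := by
  classical
  have hint : IsIntegral K a := IsIntegral.of_finite K a
  constructor
  · let hpb := IntermediateField.adjoin.powerBasis hint
    let c := Module.Free.chooseBasis K⟮a⟯ L
    have hblock : ∀ (N : Matrix (Fin hpb.dim) (Fin hpb.dim) K),
        (Matrix.blockDiagonal (fun _ : Module.Free.ChooseBasisIndex K⟮a⟯ L => N)).charpoly =
          N.charpoly ^ Fintype.card (Module.Free.ChooseBasisIndex K⟮a⟯ L) := by
      intro N
      have h1 : (Matrix.blockDiagonal
          (fun _ : Module.Free.ChooseBasisIndex K⟮a⟯ L => N)).charmatrix =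
          Matrix.blockDiagonal (fun _ : Module.Free.ChooseBasisIndex K⟮a⟯ L => N.charmatrix) := by
        ext ⟨i, k⟩ ⟨j, k'⟩
        simp only [Matrix.charmatrix_apply, Matrix.blockDiagonal_apply, Matrix.diagonal_apply,
          Prod.mk.injEq]
        by_cases hk : k = k'
        · subst hk; by_cases hij : i = j <;> simp [hij]
        · simp [hk]
      rw [Matrix.charpoly, h1, Matrix.det_blockDiagonal, Finset.prod_const, Finset.card_univ]
      rfl
    have ha : a = algebraMap K⟮a⟯ L (IntermediateField.AdjoinSimple.gen K a) :=
      (IntermediateField.AdjoinSimple.algebraMap_gen K a).symm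
    rw [← LinearMap.charpoly_toMatrix (Algebra.lmul K L a) (hpb.basis.smulTower c)]
    have h2 : LinearMap.toMatrix (hpb.basis.smulTower c) (hpb.basis.smulTower c)
        (Algebra.lmul K L a) = Algebra.leftMulMatrix (hpb.basis.smulTower c) a := rfl
    have h2' : Algebra.leftMulMatrix (hpb.basis.smulTower c) a =
        Algebra.leftMulMatrix (hpb.basis.smulTower c)
          (algebraMap K⟮a⟯ L (IntermediateField.AdjoinSimple.gen K a)) :=
      congrArg (Algebra.leftMulMatrix (hpb.basis.smulTower c)) ha
    rw [h2, h2']
    rw [Algebra.smulTower_leftMulMatrix_algebraMap, hblock,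
      ← Module.finrank_eq_card_chooseBasisIndex]
    have h3 : IntermediateField.AdjoinSimple.gen K a = hpb.gen :=
      (IntermediateField.adjoin.powerBasis_gen hint).symm
    rw [h3, charpoly_leftMulMatrix hpb, ← h3, IntermediateField.minpoly_gen]
  · rw [← IntermediateField.adjoin.finrank hint, mul_comm]
    exact Module.finrank_mul_finrank K K⟮a⟯ L

end Groth.Agent.S6364
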