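import Groth.Statements.S6366
import Groth.Agent.Lib.helper3.CoherentMod

set_option autoImplicit false
universe u
open CAlg

namespace Groth.Agent.S6366

/-- Let R be a coherent ring, i.e. every finitely generated ideal of R is finitely presented. Then an
R-module is coherent (finitely generated, and every finitely generated submodule is finitely
presented) if and only if it is finitely presented. -/
theorem result (R : Type u) [CommRing R]
    (hR : ∀ I : Ideal R, I.FG → Module.FinitePresentation R I) (M : Type u) [AddCommGroup M] [Module R M] :
    (Module.Finite R M ∧ ∀ N : Submodule R M, N.FG → Module.FinitePresentation R N) ↔ Module.FinitePresentation R M := by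
  have hR' : H3Coh.SubFP R R := fun N hN => hR N hN
  constructor
  · rintro ⟨hfin, hcoh⟩
    haveI : Module.FinitePresentation R (⊤ : Submodule R M) := hcoh ⊤ hfin.fg_top
    exact Module.FinitePresentation.of_equiv (Submodule.topEquiv : (⊤ : Submodule R M) ≃ₗ[R] M)
  · intro h
    exact ⟨inferInstance, H3Coh.of_finitePresentation hR' M⟩

end Groth.Agent.S6366
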