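import Groth.Statements.S6368
import Mathlib

set_option autoImplicit false
universe u
open scoped TensorProduct
open CAlg

namespace Groth.Agent.S6368

/-- Let R → S be faithfully flat and M an R-module. If the S-module S ⊗_R M is countably generated then
M is countably generated. -/
theorem result (R S : Type u) [CommRing R] [CommRing S] [Algebra R S]
    [Module.FaithfullyFlat R S] (M : Type u) [AddCommGroup M] [Module R M]
    (h : CAlg.IsCountablyGenerated S (S ⊗[R] M)) : CAlg.IsCountablyGenerated R M := by
  obtain ⟨s, hs, hspan⟩ := h
  have hF : ∀ t : S ⊗[R] M, ∃ F : Finset M, t ∈ (Submodule.span R (F : Set M)).baseChange S := by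
    intro t
    induction t using TensorProduct.induction_on with
    | zero => exact ⟨∅, Submodule.zero_mem _⟩
    | tmul a m => exact ⟨{m}, Submodule.tmul_mem_baseChange_of_mem a (Submodule.subset_span (by simp))⟩
    | add x y hx hy =>
      classical
      obtain ⟨F, hF⟩ := hx
      obtain ⟨G, hG⟩ := hy
      refine ⟨F ∪ G, Submodule.add_mem _
        (Submodule.baseChange_mono S (Submodule.span_mono (by simp)) hF)
        (Submodule.baseChange_mono S (Submodule.span_mono (by simp)) hG)⟩
  choose F hF using hF
  refine ⟨⋃ t ∈ s, (F t : Set M), hs.biUnion (fun t _ => (F t).countable_toSet), ?_⟩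
  apply Submodule.baseChange_injective (A := S)
  rw [Submodule.baseChange_top, eq_top_iff, ← hspan, Submodule.span_le]
  intro t ht
  exact Submodule.baseChange_mono S (Submodule.span_mono (Set.subset_biUnion_of_mem ht)) (hF t)

end Groth.Agent.S6368
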