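import Groth.Statements.S6370
import Mathlib
import Groth.Agent.S0556
import Groth.Agent.Lib.helper1.KrullAkizuki

set_option autoImplicit false
universe u
open CAlg

namespace Groth.Agent.S6370

/-- For a one-dimensional Noetherian domain A with fraction field K, a finite field extension L of K
(separable or not) and B the integral closure of A in L: B is a Dedekind domain, Spec B → Spec A is
surjective and has finite fibres, and at every maximal ideal Q of B the residue field B/Q is finite
over A/(Q ∩ A). -/
theorem result (A K L B : Type u) [CommRing A] [IsDomain A]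
    [IsNoetherianRing A] (hdim : ringKrullDim A = 1) [Field K] [Algebra A K] [IsFractionRing A K]
    [Field L] [Algebra K L] [FiniteDimensional K L] [Algebra A L] [IsScalarTower A K L]
    [CommRing B] [IsDomain B] [Algebra A B] [Algebra B L] [IsScalarTower A B L] [IsIntegralClosure B A L] :
    IsDedekindDomain B ∧ Function.Surjective (PrimeSpectrum.comap (algebraMap A B)) ∧
      (∀ p : PrimeSpectrum A, (PrimeSpectrum.comap (algebraMap A B) ⁻¹' {p}).Finite) ∧
      ∀ Q : Ideal B, Q.IsMaximal → Module.Finite (A ⧸ Q.comap (algebraMap A B)) (B ⧸ Q) := by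
  classical
  have hBL : Function.Injective (algebraMap B L) := IsIntegralClosure.algebraMap_injective B A L
  have hAL : Function.Injective (algebraMap A L) := by
    rw [IsScalarTower.algebraMap_eq A K L]
    exact (algebraMap K L).injective.comp (IsFractionRing.injective A K)
  have hAB : Function.Injective (algebraMap A B) := by
    intro a b hab
    apply hAL
    rw [IsScalarTower.algebraMap_apply A B L, IsScalarTower.algebraMap_apply A B L, hab]
  haveI hint : Algebra.IsIntegral A B := IsIntegralClosure.isIntegral_algebra A L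
  haveI hNoeth : IsNoetherianRing B := Groth.Agent.S0556.result A hdim K L B hBL
  haveI hK1 : Ring.KrullDimLE 1 A := Ring.krullDimLE_iff.mpr (by rw [hdim]; rfl)
  haveI hdimA : Ring.DimensionLEOne A := ⟨fun {p} hp hpp => hpp.isMaximal_of_ne_bot hp⟩
  haveI hdimB : Ring.DimensionLEOne B := Ring.DimensionLEOne.of_isIntegral A B
  haveI hfrac : IsFractionRing B L := IsIntegralClosure.isFractionRing_of_finite_extension A K L B
  have hDed : IsDedekindDomain B :=
    { hNoeth, hdimB,
      (isIntegrallyClosed_iff L).mpr fun {x} hx =>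
        ⟨IsIntegralClosure.mk' B x (isIntegral_trans (R := A) _ hx),
          IsIntegralClosure.algebraMap_mk' _ _ _⟩ with : IsDedekindDomain B }
  have hker : RingHom.ker (algebraMap A B) = ⊥ := (RingHom.injective_iff_ker_eq_bot _).1 hAB
  refine ⟨hDed, ?_, ?_, ?_⟩
  · -- surjectivity
    intro p
    obtain ⟨Q, -, hQ, hQp⟩ := Ideal.exists_ideal_over_prime_of_isIntegral p.asIdeal (⊥ : Ideal B)
      (by rw [← RingHom.ker_eq_comap_bot, hker]; exact bot_le)
    exact ⟨⟨Q, hQ⟩, PrimeSpectrum.ext hQp⟩
  · -- finite fibres
    intro p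
    by_cases hp : p.asIdeal = ⊥
    · apply Set.Subsingleton.finite
      intro Q₁ h₁ Q₂ h₂
      have e₁ : Q₁.asIdeal = ⊥ := by
        apply Ideal.eq_bot_of_comap_eq_bot (R := A)
        have := congrArg PrimeSpectrum.asIdeal (Set.mem_singleton_iff.1 h₁)
        rw [← hp]; exact this
      have e₂ : Q₂.asIdeal = ⊥ := by
        apply Ideal.eq_bot_of_comap_eq_bot (R := A)
        have := congrArg PrimeSpectrum.asIdeal (Set.mem_singleton_iff.1 h₂)
        rw [← hp]; exact this
      exact PrimeSpectrum.ext (e₁.trans e₂.symm)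
    · set I : Ideal B := p.asIdeal.map (algebraMap A B) with hI
      have hIne : I ≠ ⊥ := by
        rw [hI, Ne, Ideal.map_eq_bot_iff_of_injective hAB]
        exact hp
      have hfin := Ideal.finite_minimalPrimes_of_isNoetherianRing B I
      have hsub : PrimeSpectrum.comap (algebraMap A B) ⁻¹' {p} ⊆
          PrimeSpectrum.asIdeal ⁻¹' I.minimalPrimes := by
        intro Q hQ
        have hQp : Q.asIdeal.comap (algebraMap A B) = p.asIdeal :=
          congrArg PrimeSpectrum.asIdeal (Set.mem_singleton_iff.1 hQ)
        have hIQ : I ≤ Q.asIdeal := by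
          rw [hI, Ideal.map_le_iff_le_comap, hQp]
        refine ⟨⟨Q.2, hIQ⟩, ?_⟩
        rintro Q' ⟨hQ'prime, hIQ'⟩ hQ'Q
        have hQ'ne : Q' ≠ ⊥ := fun h => hIne (le_bot_iff.1 (h ▸ hIQ'))
        have hQ'max : Q'.IsMaximal := hQ'prime.isMaximal hQ'ne
        exact (hQ'max.eq_of_le Q.2.ne_top hQ'Q).ge
      exact (hfin.preimage (fun x _ y _ h => PrimeSpectrum.ext h)).subset hsub
  · -- residue fields
    intro Q hQmax
    set q : Ideal A := Q.comap (algebraMap A B) with hq
    have hqne : q ≠ ⊥ := by
      intro h0
      have hQ0 : Q = ⊥ := Ideal.eq_bot_of_comap_eq_bot (R := A) h0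
      have hBfield : IsField B := by
        rw [Ring.isField_iff_maximal_bot]
        exact hQ0 ▸ hQmax
      have hAfield : IsField A := isField_of_isIntegral_of_isField hAB hBfield
      have h1 : ringKrullDim A = 0 := by
        letI := hAfield.toField
        exact ringKrullDim_eq_zero_of_field A
      rw [hdim] at h1
      exact one_ne_zero h1
    obtain ⟨x, hxq, hx0⟩ : ∃ x ∈ q, x ≠ 0 := by
      by_contra hcon
      push_neg at hcon
      exact hqne (eq_bot_iff.2 fun y hy => (Ideal.mem_bot).2 (hcon y hy))
    -- embed B in K^r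
    let r := Module.finrank K L
    let e : L ≃ₗ[K] (Fin r → K) := (Module.finBasis K L).equivFun
    let ψ : B →ₗ[A] (Fin r → K) :=
      (e.restrictScalars A).toLinearMap ∘ₗ (IsScalarTower.toAlgHom A B L).toLinearMap
    have hψ : Function.Injective ψ := by
      intro a b hab
      apply hBL
      exact e.injective hab
    let M : Submodule A (Fin r → K) := LinearMap.range ψ
    let eB : B ≃ₗ[A] M := LinearEquiv.ofInjective ψ hψ
    have hlenM : Module.length A (QuotSMulTop x M) ≠ ⊤ := by
      have h1 := Helper1.KA.length_quot_le K r M x hx0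
      have h2 := Helper1.KA.length_quot_ne_top (R := A) (le_of_eq hdim) x hx0
      intro h3
      rw [h3, top_le_iff] at h1
      obtain ⟨n, hn⟩ := ENat.ne_top_iff_exists.1 h2
      rw [← hn] at h1
      exact ENat.coe_ne_top _ (by rw [← h1]; push_cast; rfl)
    have hlenB : Module.length A (QuotSMulTop x B) ≠ ⊤ := by
      rw [(QuotSMulTop.congr x eB).length_eq]
      exact hlenM
    -- surjection onto B/Q
    open Pointwise in
    have hxQ : (x • (⊤ : Submodule A B)) ≤ LinearMap.ker ((Submodule.mkQ Q).restrictScalars A) := by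
      intro b hb
      obtain ⟨b', -, rfl⟩ := (Submodule.mem_smul_pointwise_iff_exists _ _ _).1 hb
      rw [LinearMap.mem_ker, LinearMap.restrictScalars_apply, Submodule.mkQ_apply,
        Submodule.Quotient.mk_eq_zero, Algebra.smul_def]
      exact Q.mul_mem_right _ hxq
    let π : QuotSMulTop x B →ₗ[A] B ⧸ Q :=
      Submodule.liftQ _ ((Submodule.mkQ Q).restrictScalars A) hxQ
    have hπ : Function.Surjective π := by
      intro y
      obtain ⟨b, rfl⟩ := Submodule.Quotient.mk_surjective _ y
      exact ⟨Submodule.Quotient.mk b, rfl⟩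
    have hlenQ : Module.length A (B ⧸ Q) ≠ ⊤ := by
      intro h
      have := Module.length_le_of_surjective π hπ
      rw [h, top_le_iff] at this
      exact hlenB this
    have hfl : IsFiniteLength A (B ⧸ Q) := Module.length_ne_top_iff.1 hlenQ
    haveI : IsNoetherian A (B ⧸ Q) := (isFiniteLength_iff_isNoetherian_isArtinian.1 hfl).1
    haveI : Module.Finite A (B ⧸ Q) := inferInstance
    exact Module.Finite.of_restrictScalars_finite A (A ⧸ q) (B ⧸ Q)

end Groth.Agent.S6370
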