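import Groth.Statements.S6371
-- import your own Groth.Agent.* helpers here

set_option autoImplicit false
universe u
open CAlg
open TensorProduct

namespace Groth.Agent.S6371

/-- A ring map R → S is an epimorphism of rings if and only if for every prime p of R the localized map
R_p → S_p is an epimorphism, where S_p is S localized at the image of R ∖ p. -/
theorem result (R S : Type u) [CommRing R] [CommRing S] [Algebra R S] :
    Algebra.IsEpi R S ↔ ∀ (p : Ideal R) [p.IsPrime],
      Algebra.IsEpi (Localization.AtPrime p) (Localization (Algebra.algebraMapSubmonoid S p.primeCompl)) := by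
  constructor
  · intro h p hp
    rw [Algebra.isEpi_iff_forall_one_tmul_eq] at h ⊢
    -- the canonical map
    have F1 : ∀ s : S, (1 : Localization (Algebra.algebraMapSubmonoid S p.primeCompl))
        ⊗ₜ[Localization.AtPrime p]
        (algebraMap S (Localization (Algebra.algebraMapSubmonoid S p.primeCompl)) s) =
        (algebraMap S (Localization (Algebra.algebraMapSubmonoid S p.primeCompl)) s)
        ⊗ₜ[Localization.AtPrime p] 1 := by
      intro s
      have := congrArg ((TensorProduct.mapOfCompatibleSMul (Localization.AtPrime p) R R
        (Localization (Algebra.algebraMapSubmonoid S p.primeCompl))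
        (Localization (Algebra.algebraMapSubmonoid S p.primeCompl))) ∘ₗ
        (TensorProduct.map
          (IsScalarTower.toAlgHom R S
            (Localization (Algebra.algebraMapSubmonoid S p.primeCompl))).toLinearMap
          (IsScalarTower.toAlgHom R S
            (Localization (Algebra.algebraMapSubmonoid S p.primeCompl))).toLinearMap)) (h s)
      simpa using this
    intro x
    obtain ⟨s, t, rfl⟩ := IsLocalization.exists_mk'_eq
      (Algebra.algebraMapSubmonoid S p.primeCompl) x
    obtain ⟨t, ht⟩ := t
    obtain ⟨r, hr, rfl⟩ := ht
    have hunit : IsUnit (algebraMap R (Localization.AtPrime p) r) :=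
      IsLocalization.map_units _ (⟨r, hr⟩ : p.primeCompl)
    obtain ⟨c, hc⟩ := hunit.exists_left_inv
    have hx : IsLocalization.mk' (Localization (Algebra.algebraMapSubmonoid S p.primeCompl)) s
        (⟨algebraMap R S r, ⟨r, hr, rfl⟩⟩ : Algebra.algebraMapSubmonoid S p.primeCompl) =
        c • algebraMap S (Localization (Algebra.algebraMapSubmonoid S p.primeCompl)) s := by
      have h1 : algebraMap S (Localization (Algebra.algebraMapSubmonoid S p.primeCompl)) s =
          (algebraMap R (Localization.AtPrime p) r) • IsLocalization.mk'
            (Localization (Algebra.algebraMapSubmonoid S p.primeCompl)) s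
            (⟨algebraMap R S r, ⟨r, hr, rfl⟩⟩ : Algebra.algebraMapSubmonoid S p.primeCompl) := by
        rw [algebraMap_smul, Algebra.smul_def,
          IsScalarTower.algebraMap_apply R S (Localization (Algebra.algebraMapSubmonoid S p.primeCompl)),
          mul_comm]
        exact (IsLocalization.mk'_spec _ s
          (⟨algebraMap R S r, ⟨r, hr, rfl⟩⟩ : Algebra.algebraMapSubmonoid S p.primeCompl)).symm
      rw [h1, smul_smul, hc, one_smul]
    rw [hx, TensorProduct.tmul_smul, F1, TensorProduct.smul_tmul']
  · intro h
    rw [Algebra.isEpi_iff_forall_one_tmul_eq]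
    intro s
    by_contra hne
    have hne' : (1 : S) ⊗ₜ[R] s - s ⊗ₜ[R] 1 ≠ 0 := fun h0 => hne (sub_eq_zero.mp h0)
    have hann : LinearMap.ker (LinearMap.toSpanSingleton R (S ⊗[R] S)
        ((1 : S) ⊗ₜ[R] s - s ⊗ₜ[R] 1)) ≠ ⊤ := by
      intro htop
      have : (1 : R) ∈ LinearMap.ker (LinearMap.toSpanSingleton R (S ⊗[R] S)
          ((1 : S) ⊗ₜ[R] s - s ⊗ₜ[R] 1)) := by rw [htop]; trivial
      rw [LinearMap.mem_ker, LinearMap.toSpanSingleton_apply, one_smul] at this
      exact hne' this
    obtain ⟨m, hm, hle⟩ := Ideal.exists_le_maximal _ hann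
    have hp : m.IsPrime := hm.isPrime
    have hep := (Algebra.isEpi_iff_forall_one_tmul_eq _ _).mp (h m)
      (algebraMap S (Localization (Algebra.algebraMapSubmonoid S m.primeCompl)) s)
    haveI : IsLocalizedModule m.primeCompl (IsScalarTower.toAlgHom R S
        (Localization (Algebra.algebraMapSubmonoid S m.primeCompl))).toLinearMap :=
      (isLocalizedModule_iff_isLocalization).mpr inferInstance
    have h0 : TensorProduct.map (IsScalarTower.toAlgHom R S
          (Localization (Algebra.algebraMapSubmonoid S m.primeCompl))).toLinearMap
        (IsScalarTower.toAlgHom R S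
          (Localization (Algebra.algebraMapSubmonoid S m.primeCompl))).toLinearMap
        ((1 : S) ⊗ₜ[R] s - s ⊗ₜ[R] 1) = 0 := by
      have := congrArg (IsLocalization.moduleTensorEquiv m.primeCompl (Localization.AtPrime m)
        (Localization (Algebra.algebraMapSubmonoid S m.primeCompl))
        (Localization (Algebra.algebraMapSubmonoid S m.primeCompl))) hep
      simp only [IsLocalization.moduleTensorEquiv, TensorProduct.equivOfCompatibleSMul,
        LinearEquiv.coe_mk, LinearMap.coe_mk] at this
      simp only [map_sub, TensorProduct.map_tmul, AlgHom.toLinearMap_apply,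
        IsScalarTower.coe_toAlgHom', map_one]
      rw [sub_eq_zero]
      simpa using this
    obtain ⟨r, hr⟩ := (IsLocalizedModule.eq_zero_iff m.primeCompl _).mp h0
    exact r.2 (hle (by
      rw [LinearMap.mem_ker, LinearMap.toSpanSingleton_apply]
      exact hr))

end Groth.Agent.S6371
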