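import Groth.Statements.S6372
-- import your own Groth.Agent.* helpers here

set_option autoImplicit false
universe u
open CAlg

namespace Groth.Agent.S6372

/-- A faithfully flat epimorphism of rings is an isomorphism: if R → S is faithfully flat and an
epimorphism in the category of rings then it is bijective. -/
theorem result (R S : Type u) [CommRing R] [CommRing S] [Algebra R S]
    [Module.FaithfullyFlat R S] [Algebra.IsEpi R S] : Function.Bijective (algebraMap R S) := by
  open TensorProduct in
  have key : Function.Bijective ((Algebra.linearMap R S).lTensor S) := by
    let μ : S ⊗[R] S →ₗ[R] S := TensorProduct.lift (LinearMap.mul R S)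
    have hμ : Function.Bijective μ := by
      refine ⟨Algebra.IsEpi.injective_lift_mul, fun s => ⟨s ⊗ₜ 1, by simp [μ]⟩⟩
    have hcomp : μ ∘ₗ ((Algebra.linearMap R S).lTensor S) = (TensorProduct.rid R S).toLinearMap := by
      ext s
      simp [μ]
    have h2 : Function.Bijective (μ ∘ ((Algebra.linearMap R S).lTensor S)) := by
      have : (μ ∘ ((Algebra.linearMap R S).lTensor S)) = ⇑(TensorProduct.rid R S) := by
        funext x
        exact congrArg (fun φ => φ x) hcomp
      rw [this]
      exact (TensorProduct.rid R S).bijective
    exact (Function.Bijective.of_comp_iff' hμ _).mp h2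
  exact (Module.FaithfullyFlat.lTensor_bijective_iff_bijective R S (Algebra.linearMap R S)).mp key

end Groth.Agent.S6372
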