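import Groth.Statements.S6374
-- import your own Groth.Agent.* helpers here

set_option autoImplicit false
universe u
open CAlg

open scoped TensorProduct
namespace Groth.Agent.S6374

/-- For an epimorphism of rings R → S, the induced map Spec S → Spec R is injective and induces trivial
residue field extensions; stated in the form the proof gives: for every prime p of R the fibre ring
S ⊗_R κ(p) is either zero or κ(p) → S ⊗_R κ(p) is bijective, together with injectivity of Spec S →
Spec R. -/
theorem result (R S : Type u) [CommRing R] [CommRing S] [Algebra R S]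
    [Algebra.IsEpi R S] :
    Function.Injective (PrimeSpectrum.comap (algebraMap R S)) ∧
      ∀ (p : Ideal R) [p.IsPrime],
        Subsingleton (p.Fiber S) ∨ Function.Bijective (algebraMap p.ResidueField (p.Fiber S)) := by
  classical
  have hepi := (Algebra.isEpi_iff_forall_one_tmul_eq R S).1 inferInstance
  have fib : ∀ (p : Ideal R) [p.IsPrime],
      Subsingleton (p.Fiber S) ∨ Function.Bijective (algebraMap p.ResidueField (p.Fiber S)) := by
    intro p _
    rcases subsingleton_or_nontrivial (p.Fiber S) with h | h
    · exact Or.inl h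
    · right
      refine ⟨(algebraMap p.ResidueField (p.Fiber S)).injective, ?_⟩
      have key : ∀ a : p.Fiber S, (1 : p.Fiber S) ⊗ₜ[p.ResidueField] a
          = a ⊗ₜ[p.ResidueField] (1 : p.Fiber S) := by
        let i : S →ₗ[R] p.Fiber S :=
          (Algebra.TensorProduct.includeRight : S →ₐ[R] p.Fiber S).toLinearMap
        let g : S ⊗[R] S →ₗ[R] (p.Fiber S) ⊗[p.ResidueField] (p.Fiber S) :=
          (TensorProduct.mapOfCompatibleSMul p.ResidueField R R (p.Fiber S) (p.Fiber S)) ∘ₗ
            TensorProduct.map i i
        have hg : ∀ s : S, (1 : p.Fiber S) ⊗ₜ[p.ResidueField] ((1 : p.ResidueField) ⊗ₜ[R] s : p.Fiber S)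
            = ((1 : p.ResidueField) ⊗ₜ[R] s : p.Fiber S) ⊗ₜ[p.ResidueField] (1 : p.Fiber S) := by
          intro s
          have := congrArg g (hepi s)
          simpa [g, i, Algebra.TensorProduct.one_def] using this
        intro a
        induction a using TensorProduct.induction_on with
        | zero => simp
        | tmul k s =>
          have e : (k ⊗ₜ[R] s : p.Fiber S) = k • ((1 : p.ResidueField) ⊗ₜ[R] s : p.Fiber S) := by
            rw [TensorProduct.smul_tmul', smul_eq_mul, mul_one]
          rw [e, TensorProduct.tmul_smul, ← TensorProduct.smul_tmul', hg s]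
        | add x y hx hy => rw [TensorProduct.tmul_add, TensorProduct.add_tmul, hx, hy]
      obtain ⟨φ, hφ⟩ := LinearMap.exists_leftInverse_of_injective
        (Algebra.linearMap p.ResidueField (p.Fiber S))
        (LinearMap.ker_eq_bot.2 (algebraMap p.ResidueField (p.Fiber S)).injective)
      have hφ1 : φ 1 = 1 := by
        have := LinearMap.congr_fun hφ 1
        simpa [Algebra.TensorProduct.one_def] using this
      let ψ : (p.Fiber S) ⊗[p.ResidueField] (p.Fiber S) →ₗ[p.ResidueField] p.Fiber S :=
        (TensorProduct.lid p.ResidueField (p.Fiber S)).toLinearMap ∘ₗ φ.rTensor (p.Fiber S)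
      intro x
      have h1 := congrArg ψ (key x)
      refine ⟨φ x, ?_⟩
      simp only [ψ, LinearMap.coe_comp, Function.comp_apply, LinearMap.rTensor_tmul,
        LinearEquiv.coe_coe, TensorProduct.lid_tmul, hφ1, one_smul] at h1
      rw [Algebra.algebraMap_eq_smul_one]
      exact h1.symm
  refine ⟨?_, fun p _ => fib p⟩
  intro q₁ q₂ h
  let e := PrimeSpectrum.preimageEquivFiber R S (PrimeSpectrum.comap (algebraMap R S) q₁)
  have hq₁ : q₁ ∈ PrimeSpectrum.comap (algebraMap R S) ⁻¹'
      {PrimeSpectrum.comap (algebraMap R S) q₁} := rfl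
  have hq₂ : q₂ ∈ PrimeSpectrum.comap (algebraMap R S) ⁻¹'
      {PrimeSpectrum.comap (algebraMap R S) q₁} := h.symm
  have he : e ⟨q₁, hq₁⟩ = e ⟨q₂, hq₂⟩ := by
    rcases fib (PrimeSpectrum.comap (algebraMap R S) q₁).asIdeal with hs | hb
    · exact absurd ((Ideal.eq_top_iff_one _).2 (by
        rw [Subsingleton.elim (1 : (PrimeSpectrum.comap (algebraMap R S) q₁).asIdeal.Fiber S) 0]
        exact Ideal.zero_mem _)) (e ⟨q₁, hq₁⟩).isPrime.ne_top
    · have allbot : ∀ P : PrimeSpectrum ((PrimeSpectrum.comap (algebraMap R S) q₁).asIdeal.Fiber S),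
          P.asIdeal = ⊥ := by
        intro P
        rw [eq_bot_iff]
        intro x hx
        obtain ⟨k, rfl⟩ := hb.2 x
        by_contra hne
        have hk : k ≠ 0 := by
          rintro rfl
          exact hne (by rw [map_zero]; exact Submodule.zero_mem _)
        exact P.isPrime.ne_top (Ideal.eq_top_of_isUnit_mem _ hx ((isUnit_iff_ne_zero.2 hk).map _))
      ext1
      rw [allbot, allbot]
  have := e.injective he
  exact congrArg Subtype.val this

end Groth.Agent.S6374
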