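import Groth.Statements.S6376
-- import your own Groth.Agent.* helpers here

set_option autoImplicit false
universe u
open CAlg

namespace Groth.Agent.S6376

/-- A ring map R → S is an epimorphism if and only if for all S-modules N₁, N₂ every R-linear map N₁ →
N₂ is S-linear, i.e. restriction of scalars from S-modules to R-modules is fully faithful. -/
theorem result (R S : Type u) [CommRing R] [CommRing S] [Algebra R S] :
    Algebra.IsEpi R S ↔
      ∀ (N₁ N₂ : Type u) [AddCommGroup N₁] [Module S N₁] [Module R N₁] [IsScalarTower R S N₁]
        [AddCommGroup N₂] [Module S N₂] [Module R N₂] [IsScalarTower R S N₂] (φ : N₁ →ₗ[R] N₂),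
        ∀ (s : S) (x : N₁), φ (s • x) = s • φ x := by
  open TensorProduct in
  constructor
  · intro h N₁ N₂ _ _ _ _ _ _ _ _ φ s x
    let ψ : S ⊗[R] S →ₗ[R] N₂ := TensorProduct.lift
      { toFun := fun a =>
          { toFun := fun b => a • φ (b • x)
            map_add' := by intro b c; simp [add_smul, smul_add]
            map_smul' := by
              intro r b
              simp only [RingHom.id_apply]
              rw [smul_assoc, map_smul, smul_comm] }
        map_add' := by intro a b; ext c; simp [add_smul]
        map_smul' := by intro r a; ext c; simp }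
    have h1 := (Algebra.isEpi_iff_forall_one_tmul_eq R S).mp h s
    have h2 := congrArg ψ h1
    simpa [ψ] using h2
  · intro h
    rw [Algebra.isEpi_iff_forall_one_tmul_eq]
    intro s
    let φ : S →ₗ[R] S ⊗[R] S :=
      { toFun := fun b => 1 ⊗ₜ b
        map_add' := fun b c => TensorProduct.tmul_add _ _ _
        map_smul' := fun r b => TensorProduct.tmul_smul _ _ _ }
    have := h S (S ⊗[R] S) φ s 1
    simpa [φ, TensorProduct.smul_tmul'] using this

end Groth.Agent.S6376
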