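import Groth.Statements.S6382
import Mathlib
import Groth.Agent.Lib.helper1.LocalCrit2
import Groth.Agent.Lib.helper3.FlatTensor

set_option autoImplicit false
universe u
open CAlg

namespace Groth.Agent.S6382

/-- Consider a commutative square of local rings and local homomorphisms R → S, R → R', S → S', R' → S',
and a finite S-module M. Assume the maps R → R' and S → S' are flat, M is flat over R, the maximal
ideal of R generates the maximal ideal of R', and R', S' are Noetherian. Then M' = M ⊗_S S' (any
base change of M along S → S') is flat over R'. -/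
theorem result (R S R' S' : Type u) [CommRing R] [CommRing S]
    [CommRing R'] [CommRing S'] [IsLocalRing R] [IsLocalRing S] [IsLocalRing R'] [IsLocalRing S']
    [Algebra R S] [Algebra R R'] [Algebra S S'] [Algebra R' S'] [Algebra R S']
    [IsScalarTower R S S'] [IsScalarTower R R' S']
    [IsLocalHom (algebraMap R S)] [IsLocalHom (algebraMap R R')] [IsLocalHom (algebraMap S S')]
    [IsLocalHom (algebraMap R' S')] [Module.Flat R R'] [Module.Flat S S']
    [IsNoetherianRing R'] [IsNoetherianRing S']
    (hm : (IsLocalRing.maximalIdeal R).map (algebraMap R R') = IsLocalRing.maximalIdeal R')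
    (M : Type u) [AddCommGroup M] [Module S M] [Module R M] [IsScalarTower R S M] [Module.Finite S M]
    [Module.Flat R M]
    (M' : Type u) [AddCommGroup M'] [Module S' M'] [Module S M'] [IsScalarTower S S' M'] [Module R' M']
    [IsScalarTower R' S' M'] (j : M →ₗ[S] M') (hj : IsBaseChange S' j) :
    Module.Flat R' M' := by
  classical
  letI instRM' : Module R M' := Module.compHom M' (algebraMap R S')
  have hsmul : ∀ (r : R) (m : M'), r • m = (algebraMap R S' r) • m := fun r m => rfl
  haveI : IsScalarTower R S' M' := ⟨fun r s m => by
    rw [hsmul, smul_smul, Algebra.smul_def]⟩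
  haveI : IsScalarTower R R' M' := ⟨fun r r' m => by
    rw [hsmul, ← algebraMap_smul S' (r • r') m, ← algebraMap_smul S' r' m, smul_smul,
      Algebra.smul_def, map_mul, ← IsScalarTower.algebraMap_apply]⟩
  -- M' is flat over R
  haveI : Module.Flat R (TensorProduct S S' M) := H3FlatTensor.flat_tensor_of_flat S' M
  haveI : Module.Flat R M' :=
    Module.Flat.of_linearEquiv ((hj.equiv).restrictScalars R).symm
  haveI : Module.Finite S' M' := Module.Finite.equiv hj.equiv
  have h1 := Helper1.rTensor_map_injective_of_flat (R := R) (S := R') (M := M')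
    (IsLocalRing.maximalIdeal R)
  rw [hm] at h1
  letI : Field (R' ⧸ IsLocalRing.maximalIdeal R') := Ideal.Quotient.field _
  haveI : Module.Flat (R' ⧸ IsLocalRing.maximalIdeal R')
    (TensorProduct R' (R' ⧸ IsLocalRing.maximalIdeal R') M') := inferInstance
  exact Helper1.flat_of_localCriterion_of_finite (R := R') (S := S') (IsLocalRing.maximalIdeal R')
    (Helper1.map_le_jacobson_of_isLocalHom _ (IsLocalRing.maximalIdeal.isMaximal R').ne_top) h1

end Groth.Agent.S6382
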