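import Groth.Statements.S6385
import Mathlib
import Groth.Agent.Lib.helper5.IntegralDim

set_option autoImplicit false
universe u
open CAlg

namespace Groth.Agent.S6385

/-- Let k be a field, S a finite type k-algebra, q a prime of S and x the corresponding point of X =
Spec S. Then there is g ∈ S, g ∉ q, such that dim S_g equals dim_x X — the minimum of dim S_{g'}
over all g' ∉ q — and, writing d for this dimension, a finite injective k-algebra map from the
polynomial ring k[y_1, ..., y_d] to S_g. -/
theorem result (k S : Type u) [Field k] [CommRing S] [Algebra k S]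
    [Algebra.FiniteType k S] (q : Ideal S) [q.IsPrime] :
    ∃ (g : S) (d : ℕ), g ∉ q ∧ ringKrullDim (Localization.Away g) = d ∧
      (∀ g' : S, g' ∉ q → ringKrullDim (Localization.Away g) ≤ ringKrullDim (Localization.Away g')) ∧
      ∃ φ : MvPolynomial (Fin d) k →ₐ[k] Localization.Away g, Function.Injective φ ∧ φ.toRingHom.Finite := by
  classical
  have hne : (Set.range fun g : q.primeCompl =>
      ringKrullDim (Localization.Away (g : S))).Nonempty :=
    ⟨_, ⟨⟨1, q.primeCompl.one_mem⟩, rfl⟩⟩
  obtain ⟨m, ⟨g, rfl⟩, hmin⟩ :=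
    WellFounded.has_min (wellFounded_lt (α := WithBot ℕ∞)) _ hne
  have hgq : (g : S) ∉ q := g.2
  haveI : Nontrivial (Localization.Away (g : S)) := by
    rw [← not_subsingleton_iff_nontrivial,
      IsLocalization.subsingleton_iff (M := Submonoid.powers (g : S))]
    rintro ⟨n, hn⟩
    have hn' : (g : S) ^ n = 0 := hn
    have hmem : (g : S) ^ n ∈ q := by rw [hn']; exact q.zero_mem
    exact hgq (Ideal.IsPrime.mem_of_pow_mem inferInstance n hmem)
  haveI : Algebra.FiniteType k (Localization.Away (g : S)) :=
    Algebra.FiniteType.trans (inferInstance : Algebra.FiniteType k S)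
      (IsLocalization.finiteType_of_monoid_fg (Submonoid.powers (g : S)) _)
  obtain ⟨s, φ, hinj, hfin⟩ := exists_finite_inj_algHom_of_fg k (Localization.Away (g : S))
  refine ⟨g, s, hgq, ?_, ?_, φ, hinj, hfin⟩
  · letI := φ.toRingHom.toAlgebra
    haveI : Module.Finite (MvPolynomial (Fin s) k) (Localization.Away (g : S)) := hfin
    haveI : Algebra.IsIntegral (MvPolynomial (Fin s) k) (Localization.Away (g : S)) :=
      Algebra.IsIntegral.of_finite _ _
    rw [Groth.Agent.Lib.helper5.h5_ringKrullDim_eq_of_isIntegral
      (R := MvPolynomial (Fin s) k)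
      (show Function.Injective (algebraMap (MvPolynomial (Fin s) k) _) from hinj),
      MvPolynomial.ringKrullDim_of_isNoetherianRing, ringKrullDim_eq_zero_of_field, zero_add,
      Nat.card_fin]
  · intro g' hg'
    exact not_lt.1 (hmin _ ⟨⟨g', hg'⟩, rfl⟩)

end Groth.Agent.S6385
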