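import Groth.Statements.S6392
import Mathlib
import Groth.Agent.Lib.helper3.ML9

set_option autoImplicit false
universe u
open CAlg

namespace Groth.Agent.S6392

/-- Suppose M is the colimit of finitely presented R-modules G_i along a directed system over a nonempty
directed index set (transition maps f_ij), and M is both Mittag-Leffler and countably generated.
Then some countable directed subset I' of the indices already computes M: the canonical map from the
colimit of the G_i with i ∈ I' to M is bijective. -/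
theorem result (R : Type u) [CommRing R]
    {ι : Type u} [Preorder ι] [IsDirected ι (· ≤ ·)] [Nonempty ι] [DecidableEq ι] (G : ι → Type u)
    [∀ i, AddCommGroup (G i)] [∀ i, Module R (G i)] [∀ i, Module.FinitePresentation R (G i)]
    (f : ∀ i j, i ≤ j → G i →ₗ[R] G j) [DirectedSystem G fun i j h => f i j h]
    (hML : CAlg.IsMittagLeffler R (Module.DirectLimit G f))
    (hc : CAlg.IsCountablyGenerated R (Module.DirectLimit G f)) :
    ∃ I' : Set ι, I'.Countable ∧ DirectedOn (· ≤ ·) I' ∧
      Function.Bijective (Module.DirectLimit.lift R I' (fun i : I' => G i.1)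
        (fun (i j : I') (h : i ≤ j) => f i.1 j.1 h)
        (fun i : I' => Module.DirectLimit.of R ι G f i.1)
        (fun (i j : I') (h : i ≤ j) (x : G i.1) => Module.DirectLimit.of_f)) := by
  obtain ⟨s, hsc, hs⟩ := hc
  have hs'c : (insert (0 : Module.DirectLimit G f) s).Countable := hsc.insert 0
  obtain ⟨x, hx⟩ := hs'c.exists_eq_range (Set.insert_nonempty 0 s)
  have hspan : Submodule.span R (Set.range x) = ⊤ := by
    rw [← hx]
    exact eq_top_iff.2 (hs ▸ Submodule.span_mono (Set.subset_insert 0 s))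
  have h1 : ∀ n, ∃ (i : ι) (y : G i), Module.DirectLimit.of R ι G f i y = x n :=
    fun n => Module.DirectLimit.exists_of _
  choose σ y hy using h1
  have hEF := fun i => Groth.Agent.Lib.helper3.ML.ef_of_ml G f hML i
  choose φ hφ hφ2 using hEF
  obtain ⟨step, hstep1, hstep2⟩ : ∃ step : ι → ℕ → ι, (∀ i n, φ i ≤ step i n) ∧
      (∀ i n, σ n ≤ step i n) :=
    ⟨fun i n => Classical.choose (exists_ge_ge (φ i) (σ n)),
      fun i n => (Classical.choose_spec (exists_ge_ge (φ i) (σ n))).1,
      fun i n => (Classical.choose_spec (exists_ge_ge (φ i) (σ n))).2⟩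
  obtain ⟨seq, hseq⟩ : ∃ seq : ℕ → ι, ∀ n, seq (n + 1) = step (seq n) n :=
    ⟨fun n => Nat.rec (Classical.arbitrary ι) (fun n i => step i n) n, fun n => rfl⟩
  have hge1 : ∀ n, φ (seq n) ≤ seq (n + 1) := fun n => by rw [hseq]; exact hstep1 _ _
  have hge2 : ∀ n, σ n ≤ seq (n + 1) := fun n => by rw [hseq]; exact hstep2 _ _
  have hmono1 : ∀ n, seq n ≤ seq (n + 1) := fun n => (hφ (seq n)).trans (hge1 n)
  have hmono : Monotone seq := monotone_nat_of_le_succ hmono1
  refine ⟨Set.range seq, Set.countable_range seq, ?_, ?_⟩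
  · rintro _ ⟨m, rfl⟩ _ ⟨n, rfl⟩
    exact ⟨seq (max m n), ⟨_, rfl⟩, hmono (le_max_left m n), hmono (le_max_right m n)⟩
  · haveI : Nonempty ↥(Set.range seq) := ⟨⟨seq 0, 0, rfl⟩⟩
    haveI : IsDirected ↥(Set.range seq) (· ≤ ·) := ⟨by
      rintro ⟨_, m, rfl⟩ ⟨_, n, rfl⟩
      exact ⟨⟨seq (max m n), _, rfl⟩, hmono (le_max_left m n), hmono (le_max_right m n)⟩⟩
    constructor
    · rw [injective_iff_map_eq_zero]
      intro z hz
      obtain ⟨i, w, rfl⟩ := Module.DirectLimit.exists_of z
      rw [Module.DirectLimit.lift_of] at hz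
      obtain ⟨k, hik, hk⟩ := Module.DirectLimit.of.zero_exact hz
      obtain ⟨_, n, rfl⟩ := i
      obtain ⟨h, hh⟩ := hφ2 (seq n) k hik
      have h2 : f (seq n) (φ (seq n)) (hφ (seq n)) w = 0 := by
        rw [hh, LinearMap.comp_apply, hk, map_zero]
      have h3 : f (seq n) (seq (n + 1)) (hmono1 n) w = 0 := by
        rw [← DirectedSystem.map_map' f (hφ (seq n)) (hge1 n), h2, map_zero]
      have e : Module.DirectLimit.of R ↥(Set.range seq) (fun i : ↥(Set.range seq) => G i.1)
          (fun i j h => f i.1 j.1 h) ⟨seq (n + 1), n + 1, rfl⟩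
            (f (seq n) (seq (n + 1)) (hmono1 n) w)
          = Module.DirectLimit.of R ↥(Set.range seq) (fun i : ↥(Set.range seq) => G i.1)
            (fun i j h => f i.1 j.1 h) ⟨seq n, n, rfl⟩ w :=
        Module.DirectLimit.of_f (R := R) (ι := ↥(Set.range seq))
          (G := fun i : ↥(Set.range seq) => G i.1) (f := fun i j h => f i.1 j.1 h)
          (i := ⟨seq n, n, rfl⟩) (j := ⟨seq (n + 1), n + 1, rfl⟩) (hij := hmono1 n) (x := w)
      rw [← e, h3, map_zero]
    · rw [← LinearMap.range_eq_top, eq_top_iff, ← hspan, Submodule.span_le]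
      rintro _ ⟨n, rfl⟩
      refine ⟨Module.DirectLimit.of R ↥(Set.range seq) (fun i : ↥(Set.range seq) => G i.1)
        (fun i j h => f i.1 j.1 h) ⟨seq (n + 1), n + 1, rfl⟩
          (f (σ n) (seq (n + 1)) (hge2 n) (y n)), ?_⟩
      rw [Module.DirectLimit.lift_of, Module.DirectLimit.of_f, hy]

end Groth.Agent.S6392
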