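import Groth.Statements.S6399
import Groth.Agent.Lib.helper3.FibDiag

set_option autoImplicit false
open CategoryTheory
universe v u
open FibCat

namespace Groth.Agent.S6399

/-- A functor `G : 𝒳 ⟶ 𝒴` over `C` between categories fibred in groupoids is fully faithful if and only
if the diagonal `𝒳 ⟶ 𝒳 ×_𝒴 𝒳` is an equivalence over `C`. -/
theorem result {C : Type u} [Category.{v} C] {𝒳 𝒴 : BasedCategory.{v, max u v} C} (G : 𝒳 ⥤ᵇ 𝒴) (h𝒳 : FibCat.IsFibGrpd 𝒳.p) (h𝒴 : FibCat.IsFibGrpd 𝒴.p) :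
    (G.toFunctor.Full ∧ G.toFunctor.Faithful) ↔ FibCat.IsEquivOver (FibCat.diag G) := by
  constructor
  · rintro ⟨h1, h2⟩
    exact Groth.Agent.Helper3.diag_isEquivOver_of_fullyFaithful G
  · intro h
    obtain ⟨⟨h1, h2⟩, h3⟩ := (Groth.Agent.Helper3.isEquivOver_iff _).1 h
    exact ⟨Groth.Agent.Helper3.full_of_diag_essOver G h𝒳 h𝒴 h3,
      Groth.Agent.Helper3.faithful_of_diag_full G⟩

end Groth.Agent.S6399
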