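import Groth.Statements.S6405
import Groth.Agent.Lib.helper3.FibInertia

set_option autoImplicit false
open CategoryTheory
universe v u
open FibCat

namespace Groth.Agent.S6405

/-- (2) ⇒ (1): if `𝒳` is fibred in groupoids over `C` and the canonical functor `I_𝒳 ⟶ 𝒳` from its
inertia is an equivalence over `C`, then `𝒳` is fibred in setoids. (The published statement is an
equivalence; this row states only that the inertia condition implies that `𝒳` is fibred in setoids.) -/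
theorem result {C : Type u} [Category.{v} C] {𝒳 : BasedCategory.{v, max u v} C} (h𝒳 : FibCat.IsFibGrpd 𝒳.p)
    (h : FibCat.IsEquivOver (FibCat.inertiaToBase (FibCat.toSelf 𝒳))) : FibCat.IsFibSetoid 𝒳.p := by
  refine ⟨h𝒳, fun U => ?_⟩
  have hEq := Groth.Agent.Helper3.isEquivalence_of_isEquivOver _ h
  have hfull : (FibCat.inertiaToBase (FibCat.toSelf 𝒳)).toFunctor.Full := inferInstance
  -- every automorphism over an identity is trivial
  have key : ∀ (x : 𝒳.obj) (α : x ≅ x), 𝒳.p.map α.hom = 𝟙 (𝒳.p.obj x) → α.hom = 𝟙 x := by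
    intro x α hα
    let X : FibCat.InertiaObj (FibCat.toSelf 𝒳) := ⟨x, α, hα⟩
    let X₀ : FibCat.InertiaObj (FibCat.toSelf 𝒳) := ⟨x, Iso.refl x, (FibCat.toSelf 𝒳).toFunctor.map_id x⟩
    obtain ⟨m, hm⟩ := (FibCat.inertiaToBase (FibCat.toSelf 𝒳)).toFunctor.map_surjective
      (X := X) (Y := X₀) (𝟙 x)
    have hm' : m.hom = 𝟙 x := hm
    have := m.comm
    rw [hm'] at this
    simpa [X, X₀] using this
  intro a b
  refine ⟨fun φ ψ => ?_⟩
  have hg := Groth.Agent.Helper3.IsFibGrpd.isGroupoid_fiber (hp := h𝒳) 𝒳.p U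
  have hψ : IsIso ψ := IsGroupoid.all_isIso ψ

  have hφiso : IsIso φ := IsGroupoid.all_isIso φ
  let α : a.1 ≅ a.1 := Functor.Fiber.fiberInclusion.mapIso (asIso φ ≪≫ (asIso ψ).symm)
  have hl : 𝒳.p.IsHomLift (𝟙 U) α.hom :=
    (inferInstance : 𝒳.p.IsHomLift (𝟙 U) (Functor.Fiber.fiberInclusion.map ((asIso φ ≪≫ (asIso ψ).symm).hom)))
  have hl' : 𝒳.p.IsHomLift (𝟙 (𝒳.p.obj a.1)) α.hom :=
    Groth.Agent.Helper3.isHomLift_id_of_eq 𝒳.p a.2.symm α.hom
  have e1 : 𝒳.p.map α.hom = 𝟙 (𝒳.p.obj a.1) :=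
    (CategoryTheory.IsHomLift.eq_of_isHomLift 𝒳.p (𝟙 (𝒳.p.obj a.1)) α.hom).symm
  have e2 := key a.1 α e1
  have e3 : (asIso φ ≪≫ (asIso ψ).symm).hom = 𝟙 a := by
    apply Functor.Fiber.hom_ext
    exact e2
  have e4 : φ ≫ inv ψ = 𝟙 a := e3
  have : φ = ψ := by
    have := congrArg (fun k => k ≫ ψ) e4
    simpa using this
  exact this

end Groth.Agent.S6405
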