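import Groth.Statements.S6408
import Groth.Agent.Lib.helper3.FibInertia

set_option autoImplicit false
open CategoryTheory
universe v u
open FibCat

namespace Groth.Agent.S6408

/-- Between categories fibred in sets over `C` the only 2-morphisms over `C` are identities. -/
theorem result {C : Type u} [Category.{v} C] {𝒳 𝒴 : BasedCategory.{v, max u v} C} (h𝒳 : FibCat.IsFibSet 𝒳.p) (h𝒴 : FibCat.IsFibSet 𝒴.p) {F G : 𝒳 ⥤ᵇ 𝒴} (α : F ⟶ G) :
    ∃ h : F = G, α = eqToHom h := by
  obtain ⟨hgY, hdY⟩ := h𝒴
  have key : ∀ x : 𝒳.obj, ∃ e : F.toFunctor.obj x = G.toFunctor.obj x, α.toNatTrans.app x = eqToHom e := by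
    intro x
    have hl : 𝒴.p.IsHomLift (𝟙 (𝒳.p.obj x)) (α.toNatTrans.app x) := inferInstance
    let a : 𝒴.p.Fiber (𝒳.p.obj x) := ⟨F.toFunctor.obj x, F.w_obj x⟩
    let b : 𝒴.p.Fiber (𝒳.p.obj x) := ⟨G.toFunctor.obj x, G.w_obj x⟩
    let m : a ⟶ b := ⟨α.toNatTrans.app x, hl⟩
    have := hdY (𝒳.p.obj x)
    have hab : a = b := IsDiscrete.eq_of_hom m
    have e : F.toFunctor.obj x = G.toFunctor.obj x := congrArg Subtype.val hab
    refine ⟨e, ?_⟩
    have h1 : m = eqToHom hab := Subsingleton.elim _ _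
    have h2 : Functor.Fiber.fiberInclusion.map m = Functor.Fiber.fiberInclusion.map (eqToHom hab) :=
      congrArg (fun k => Functor.Fiber.fiberInclusion.map k) h1
    rw [eqToHom_map] at h2
    exact h2
  have hfun : F.toFunctor = G.toFunctor := by
    refine Functor.ext (fun x => (key x).choose) (fun x y f => ?_)
    have hn := α.toNatTrans.naturality f
    rw [(key x).choose_spec, (key y).choose_spec] at hn
    have hn' := congrArg (fun k => k ≫ eqToHom (key y).choose.symm) hn
    simp only [Category.assoc, eqToHom_trans, eqToHom_refl, Category.comp_id] at hn'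
    exact hn'
  have hFG : F = G := by
    cases F; cases G
    cases hfun
    rfl
  refine ⟨hFG, ?_⟩
  subst hFG
  apply BasedNatTrans.ext
  ext x
  rw [(key x).choose_spec]
  simp

end Groth.Agent.S6408
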