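import Groth.Statements.S6417
import Mathlib

set_option autoImplicit false
open CategoryTheory CategoryTheory.Limits
universe v₁ u₁ v₂ u₂
open FibCat

open CategoryTheory CategoryTheory.Limits CategoryTheory.Functor in
theorem helper3_S6417_aux {𝒮 : Type u₁} [Category.{v₁} 𝒮] {C : Type u₂} [Category.{v₂} C] (p : 𝒮 ⥤ C) {x y z w : 𝒮}
    (φ : x ⟶ y) (ψ : z ⟶ y) [p.IsStronglyCartesian (p.map φ) φ] {P : C} (f₁ : P ⟶ p.obj x) (f₂ : P ⟶ p.obj z)
    (hP : IsPullback f₁ f₂ (p.map φ) (p.map ψ)) (a : w ⟶ z) [ha : p.IsStronglyCartesian f₂ a] :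
    ∃ b : w ⟶ x, p.IsHomLift f₁ b ∧ IsPullback b a φ ψ := by
  have hl : p.IsHomLift (f₂ ≫ p.map ψ) (a ≫ ψ) := inferInstance
  have hl' : p.IsHomLift (f₁ ≫ p.map φ) (a ≫ ψ) := by rw [hP.w]; exact hl
  let b : w ⟶ x := IsStronglyCartesian.map p (p.map φ) φ (g := f₁) (f' := f₁ ≫ p.map φ) rfl (a ≫ ψ)
  have hb : b ≫ φ = a ≫ ψ := IsStronglyCartesian.fac p (p.map φ) φ rfl (a ≫ ψ)
  have hbl : p.IsHomLift f₁ b := IsStronglyCartesian.map_isHomLift p (p.map φ) φ rfl (a ≫ ψ)
  refine ⟨b, hbl, ⟨⟨hb⟩, ⟨PullbackCone.IsLimit.mk _ ?_ ?_ ?_ ?_⟩⟩⟩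
  · intro s
    have hs : p.map s.fst ≫ p.map φ = p.map s.snd ≫ p.map ψ := by
      rw [← p.map_comp, ← p.map_comp, s.condition]
    have hl2 : p.IsHomLift (hP.lift _ _ hs ≫ f₂) s.snd := by
      rw [hP.lift_snd]; infer_instance
    exact IsStronglyCartesian.map p f₂ a (g := hP.lift _ _ hs) (f' := hP.lift _ _ hs ≫ f₂) rfl s.snd
  · intro s
    have hs : p.map s.fst ≫ p.map φ = p.map s.snd ≫ p.map ψ := by
      rw [← p.map_comp, ← p.map_comp, s.condition]
    have hl2 : p.IsHomLift (hP.lift _ _ hs ≫ f₂) s.snd := by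
      rw [hP.lift_snd]; infer_instance
    have hu : p.IsHomLift (hP.lift _ _ hs)
        (IsStronglyCartesian.map p f₂ a (g := hP.lift _ _ hs) (f' := hP.lift _ _ hs ≫ f₂) rfl s.snd) :=
      IsStronglyCartesian.map_isHomLift p f₂ a rfl s.snd
    have h3 : p.IsHomLift (p.map s.fst)
        (IsStronglyCartesian.map p f₂ a (g := hP.lift _ _ hs) (f' := hP.lift _ _ hs ≫ f₂) rfl s.snd ≫ b) := by
      have : p.IsHomLift (hP.lift _ _ hs ≫ f₁)
        (IsStronglyCartesian.map p f₂ a (g := hP.lift _ _ hs) (f' := hP.lift _ _ hs ≫ f₂) rfl s.snd ≫ b) :=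
        inferInstance
      rwa [hP.lift_fst] at this
    apply IsStronglyCartesian.ext p (p.map φ) φ (p.map s.fst)
    rw [Category.assoc, hb, ← Category.assoc, IsStronglyCartesian.fac, s.condition]
  · intro s
    have hs : p.map s.fst ≫ p.map φ = p.map s.snd ≫ p.map ψ := by
      rw [← p.map_comp, ← p.map_comp, s.condition]
    have hl2 : p.IsHomLift (hP.lift _ _ hs ≫ f₂) s.snd := by
      rw [hP.lift_snd]; infer_instance
    exact IsStronglyCartesian.fac p f₂ a rfl s.snd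
  · intro s m hm1 hm2
    have hs : p.map s.fst ≫ p.map φ = p.map s.snd ≫ p.map ψ := by
      rw [← p.map_comp, ← p.map_comp, s.condition]
    have hl2 : p.IsHomLift (hP.lift _ _ hs ≫ f₂) s.snd := by
      rw [hP.lift_snd]; infer_instance
    have hw : p.obj w = P := IsHomLift.domain_eq p f₂ a
    have hml : p.IsHomLift (hP.lift _ _ hs) m := by
      have e : hP.lift _ _ hs = p.map m ≫ eqToHom hw := by
        apply hP.hom_ext
        · rw [hP.lift_fst, Category.assoc, ← hm1, p.map_comp]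
          congr 1
          have := IsHomLift.fac' p f₁ b
          rw [this]; simp
        · rw [hP.lift_snd, Category.assoc, ← hm2, p.map_comp]
          congr 1
          have := IsHomLift.fac' p f₂ a
          rw [this]; simp
      rw [e]
      infer_instance
    exact IsStronglyCartesian.map_uniq p f₂ a rfl s.snd m hm2
namespace Groth.Agent.S6417

/-- For `p : 𝒮 ⥤ C`, a strongly cartesian `φ : x ⟶ y`, any `ψ : z ⟶ y`, and a strongly cartesian `a : w
⟶ z` lying over the second projection of `p x ×_{p y} p z`, the object `w` is a fibre product `x ×_y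
z`: there is `b : w ⟶ x` over the first projection with `(b, a)` a pullback square. -/
theorem result {𝒮 : Type u₁} [Category.{v₁} 𝒮] {C : Type u₂} [Category.{v₂} C] (p : 𝒮 ⥤ C) {x y z w : 𝒮} (φ : x ⟶ y) (ψ : z ⟶ y)
    [p.IsStronglyCartesian (p.map φ) φ] [HasPullback (p.map φ) (p.map ψ)] (a : w ⟶ z)
    [p.IsStronglyCartesian (pullback.snd (p.map φ) (p.map ψ)) a] :
    ∃ b : w ⟶ x, p.IsHomLift (pullback.fst (p.map φ) (p.map ψ)) b ∧ IsPullback b a φ ψ := by
  have h : IsPullback (pullback.fst (p.map φ) (p.map ψ)) (pullback.snd (p.map φ) (p.map ψ)) (p.map φ) (p.map ψ) :=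
    IsPullback.of_hasPullback _ _
  exact helper3_S6417_aux p φ ψ _ _ h a

end Groth.Agent.S6417
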