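import Groth.Statements.S6424
import Mathlib

set_option autoImplicit false
open CategoryTheory CategoryTheory.Limits
universe v u
open CatLim

namespace Groth.Agent.S6424

/-- (2) ⇒ (1): a category with products of pairs and equalizers has all finite nonempty limits. -/
theorem result {C : Type u} [Category.{v} C] [HasBinaryProducts C] [HasEqualizers C]
    (J : Type) [SmallCategory J] [FinCategory J] [Nonempty J] : HasLimitsOfShape J C := by
  classical
  have hfin : ∀ (n : ℕ) (f : Fin (n + 1) → C), HasProduct f := by
    intro n
    induction n with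
    | zero =>
      intro f
      have h1 : Subsingleton (Fin (0 + 1)) := (inferInstance : Subsingleton (Fin 1))
      have h2 : Nonempty (Fin (0 + 1)) := ⟨0⟩
      exact hasProduct_unique f
    | succ n ih =>
      intro f
      have := ih (fun i => f i.succ)
      exact HasLimit.mk ⟨_, extendFanIsLimit f (limit.isLimit (Discrete.functor fun i : Fin (n + 1) => f i.succ))
        (limit.isLimit (pair (f 0) (limit.cone (Discrete.functor fun i : Fin (n + 1) => f i.succ)).pt))⟩
  have hshape : ∀ (β : Type) [Finite β] [Nonempty β], HasLimitsOfShape (Discrete β) C := by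
    intro β _ _
    obtain ⟨n, ⟨e⟩⟩ := Finite.exists_equiv_fin β
    cases n with
    | zero => exact (IsEmpty.false (e (Classical.arbitrary β))).elim
    | succ n =>
      have : HasLimitsOfShape (Discrete (Fin (n + 1))) C := ⟨fun K => by
        have := hfin n (K.obj ∘ Discrete.mk)
        exact hasLimit_of_iso (Discrete.natIsoFunctor (F := K)).symm⟩
      exact hasLimitsOfShape_of_equivalence (Discrete.equivalence e.symm)
  have := hshape J
  have : Nonempty (Σ p : J × J, p.1 ⟶ p.2) := ‹Nonempty J›.map (fun j => ⟨(j, j), 𝟙 j⟩)
  have := hshape (Σ p : J × J, p.1 ⟶ p.2)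
  exact ⟨fun F => hasLimit_of_equalizer_and_product F⟩

end Groth.Agent.S6424
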