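import Groth.Statements.S6425
import Mathlib

set_option autoImplicit false
open CategoryTheory CategoryTheory.Limits
universe v
open CatLim

namespace Groth.Agent.S6425

/-- Over an index category in which any two objects map to a common object, the comparison map `colim (M
× N) → colim M × colim N` for diagrams of sets is surjective. -/
theorem result {I : Type v} [SmallCategory I]
    (hI : ∀ x y : I, ∃ (z : I) (_ : x ⟶ z) (_ : y ⟶ z), True) (M N : I ⥤ Type v) :
    Function.Surjective (prodComparison (colim : (I ⥤ Type v) ⥤ Type v) M N) := by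
  have ext2 : ∀ {X Y : Type v} (p q : (X ⨯ Y : Type v)),
      (prod.fst : X ⨯ Y ⟶ X) p = (prod.fst : X ⨯ Y ⟶ X) q →
      (prod.snd : X ⨯ Y ⟶ Y) p = (prod.snd : X ⨯ Y ⟶ Y) q → p = q := by
    intro X Y p q h1 h2
    have : (↾(fun _ : PUnit.{v+1} => p) : PUnit ⟶ (X ⨯ Y : Type v)) = ↾(fun _ => q) := by
      apply Limits.prod.hom_ext
      · ext u; exact h1
      · ext u; exact h2
    exact ConcreteCategory.congr_hom this PUnit.unit
  intro y
  obtain ⟨i, a, ha⟩ := Types.jointly_surjective' ((prod.fst : colimit M ⨯ colimit N ⟶ colimit M) y)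
  obtain ⟨j, b, hb⟩ := Types.jointly_surjective' ((prod.snd : colimit M ⨯ colimit N ⟶ colimit N) y)
  obtain ⟨z, f, g, -⟩ := hI i j
  let e : (M ⨯ N).obj z := FunctorToTypes.prodMk (M.map f a) (N.map g b)
  refine ⟨colimit.ι (M ⨯ N) z e, ?_⟩
  apply ext2
  · have e1 := ConcreteCategory.congr_hom
      (prodComparison_fst (F := (colim : (I ⥤ Type v) ⥤ Type v)) (A := M) (B := N))
      (colimit.ι (M ⨯ N) z e)
    have e2 := ConcreteCategory.congr_hom (colimit.ι_map (prod.fst : M ⨯ N ⟶ M) z) e
    have e3 : (prod.fst : M ⨯ N ⟶ M).app z e = M.map f a := FunctorToTypes.prodMk_fst _ _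
    have e4 : colimit.ι M z (M.map f a) = colimit.ι M i a := (Types.colimit_sound f rfl).symm
    exact e1.trans (e2.trans ((congrArg (colimit.ι M z) e3).trans (e4.trans ha)))
  · have e1 := ConcreteCategory.congr_hom
      (prodComparison_snd (F := (colim : (I ⥤ Type v) ⥤ Type v)) (A := M) (B := N))
      (colimit.ι (M ⨯ N) z e)
    have e2 := ConcreteCategory.congr_hom (colimit.ι_map (prod.snd : M ⨯ N ⟶ N) z) e
    have e3 : (prod.snd : M ⨯ N ⟶ N).app z e = N.map g b := FunctorToTypes.prodMk_snd _ _
    have e4 : colimit.ι N z (N.map g b) = colimit.ι N j b := (Types.colimit_sound g rfl).symm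
    exact e1.trans (e2.trans ((congrArg (colimit.ι N z) e3).trans (e4.trans hb)))

end Groth.Agent.S6425
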