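import Groth.Statements.S6426
import Mathlib

set_option autoImplicit false
open CategoryTheory CategoryTheory.Limits
universe v
open CatLim

namespace Groth.Agent.S6426

/-- Over a nonempty index category in which any two objects map to a common object, the set-theoretic
colimit of a diagram of abelian groups surjects onto its colimit in abelian groups. (The published
statement does not require the index category to be nonempty; this row assumes it, because for the
empty index category the colimit of sets is empty while the colimit of abelian groups is the zero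
group.) -/
theorem result {I : Type v} [SmallCategory I] [Nonempty I]
    (hI : ∀ x y : I, ∃ (z : I) (_ : x ⟶ z) (_ : y ⟶ z), True) (M : I ⥤ AddCommGrpCat.{v}) :
    Function.Surjective (colimit.post M (forget AddCommGrpCat.{v})) := by
  classical
  have hpost : ∀ (i : I) (a : M.obj i), colimit.post M (forget AddCommGrpCat.{v})
      (colimit.ι (M ⋙ forget AddCommGrpCat.{v}) i a) = (colimit.ι M i) a := by
    intro i a
    exact ConcreteCategory.congr_hom (colimit.ι_post M (forget AddCommGrpCat.{v}) i) a
  let S : AddSubgroup (colimit M : AddCommGrpCat.{v}) :=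
    { carrier := Set.range (colimit.post M (forget AddCommGrpCat.{v}))
      zero_mem' := by
        obtain ⟨i⟩ := ‹Nonempty I›
        exact ⟨colimit.ι (M ⋙ forget AddCommGrpCat.{v}) i (0 : M.obj i), by
          rw [hpost]; exact map_zero _⟩
      add_mem' := by
        rintro _ _ ⟨s, rfl⟩ ⟨s', rfl⟩
        obtain ⟨i, a, rfl⟩ := Types.jointly_surjective' s
        obtain ⟨j, b, rfl⟩ := Types.jointly_surjective' s'
        obtain ⟨z, f, g, -⟩ := hI i j
        refine ⟨colimit.ι (M ⋙ forget AddCommGrpCat.{v}) z (M.map f a + M.map g b), ?_⟩
        have h1 : colimit.ι M z (M.map f a) = colimit.ι M i a :=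
          ConcreteCategory.congr_hom (colimit.w M f) a
        have h2 : colimit.ι M z (M.map g b) = colimit.ι M j b :=
          ConcreteCategory.congr_hom (colimit.w M g) b
        rw [hpost, hpost, hpost, map_add, h1, h2]
      neg_mem' := by
        rintro _ ⟨s, rfl⟩
        obtain ⟨i, a, rfl⟩ := Types.jointly_surjective' s
        exact ⟨colimit.ι (M ⋙ forget AddCommGrpCat.{v}) i (-(a : M.obj i)), by
          rw [hpost, hpost]; exact map_neg (ConcreteCategory.hom (colimit.ι M i)) (a : M.obj i)⟩ }
  have hS : ∀ t : (colimit M : AddCommGrpCat.{v}), t ∈ S := by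
    intro t
    let q : colimit M ⟶ AddCommGrpCat.of ((colimit M : AddCommGrpCat.{v}) ⧸ S) :=
      AddCommGrpCat.ofHom (QuotientAddGroup.mk' S)
    have hq : q = 0 := by
      apply colimit.hom_ext
      intro i
      ext a
      have hm : colimit.ι M i a ∈ S := ⟨colimit.ι (M ⋙ forget AddCommGrpCat.{v}) i a, hpost i a⟩
      have h0 : (QuotientAddGroup.mk' S) (colimit.ι M i a) = 0 := (QuotientAddGroup.eq_zero_iff _).2 hm
      simpa [q] using h0
    have h1 := ConcreteCategory.congr_hom hq t
    have h2 : (QuotientAddGroup.mk' S) t = 0 := by simpa [q] using h1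
    exact (QuotientAddGroup.eq_zero_iff t).1 h2
  intro t
  exact hS t

end Groth.Agent.S6426
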