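import Groth.Statements.S6428
import Mathlib

set_option autoImplicit false
open CategoryTheory CategoryTheory.Limits
universe v₁ u₁ v₂ u₂ v₃ u₃
open CatLim

namespace Groth.Agent.S6428

/-- If `F : I ⥤ I'` has connected fibre categories and is surjective on morphisms, then for every
diagram `M : I' ⥤ C` the colimit of `F ⋙ M` exists if and only if that of `M` does, and the
canonical comparison between them is then an isomorphism. -/
theorem result {I : Type u₁} [Category.{v₁} I] {I' : Type u₂} [Category.{v₂} I'] {C : Type u₃} [Category.{v₃} C] (F : I ⥤ I')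
    (h1 : ∀ x' : I', IsConnected (F.Fiber x'))
    (h2 : ∀ ⦃x' y' : I'⦄ (α' : x' ⟶ y'), ∃ (x y : I) (hx : F.obj x = x') (hy : F.obj y = y') (α : x ⟶ y), F.map α = eqToHom hx ≫ α' ≫ eqToHom hy.symm)
    (M : I' ⥤ C) :
    (HasColimit (F ⋙ M) ↔ HasColimit M) ∧ ∀ [HasColimit (F ⋙ M)] [HasColimit M], IsIso (colimit.pre M F) := by
  have key : ∀ x' : I', IsConnected (StructuredArrow x' F) := by
    intro x'
    have zz : ∀ {z : I'} (α' : x' ⟶ z) (a b : F.Fiber z),
        Zigzag (StructuredArrow.mk (α' ≫ eqToHom a.2.symm) : StructuredArrow x' F)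
          (StructuredArrow.mk (α' ≫ eqToHom b.2.symm)) := by
      intro z α' a b
      haveI := h1 z
      have hab : Zigzag a b := isPreconnected_zigzag a b
      refine Relation.ReflTransGen.lift
        (fun a : F.Fiber z =>
          (StructuredArrow.mk (α' ≫ eqToHom a.2.symm) : StructuredArrow x' F)) ?_ a b hab
      rintro a b (⟨⟨φ⟩⟩ | ⟨⟨φ⟩⟩)
      · left
        exact ⟨StructuredArrow.homMk φ.1 (by
          haveI := φ.2
          simp [IsHomLift.fac' F (𝟙 z) φ.1])⟩
      · right
        exact ⟨StructuredArrow.homMk φ.1 (by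
          haveI := φ.2
          simp [IsHomLift.fac' F (𝟙 z) φ.1])⟩
    obtain ⟨a₀⟩ := (h1 x').is_nonempty
    let base : StructuredArrow x' F := StructuredArrow.mk (𝟙 x' ≫ eqToHom a₀.2.symm)
    have hbase : ∀ f : StructuredArrow x' F, Zigzag f base := by
      intro f
      obtain ⟨x, y₀, hx, hy, α, hα⟩ := h2 (f.hom : x' ⟶ F.obj f.right)
      have s1 : Zigzag f (StructuredArrow.mk (f.hom ≫ eqToHom hy.symm)) := by
        have := zz (f.hom : x' ⟶ F.obj f.right) ⟨f.right, rfl⟩ ⟨y₀, hy⟩
        have e1 : Zag f (StructuredArrow.mk ((f.hom : x' ⟶ F.obj f.right) ≫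
            eqToHom (rfl : F.obj f.right = F.obj f.right)) : StructuredArrow x' F) :=
          Or.inl ⟨StructuredArrow.homMk (𝟙 _) (by simp)⟩
        exact Relation.ReflTransGen.head e1 this
      have s2 : Zigzag (StructuredArrow.mk (f.hom ≫ eqToHom hy.symm))
          (StructuredArrow.mk (eqToHom hx.symm) : StructuredArrow x' F) :=
        Relation.ReflTransGen.single (Or.inr ⟨StructuredArrow.homMk α (by simp [hα])⟩)
      have s3 : Zigzag (StructuredArrow.mk (eqToHom hx.symm) : StructuredArrow x' F) base := by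
        have := zz (𝟙 x') ⟨x, hx⟩ a₀
        have e1 : Zag (StructuredArrow.mk (eqToHom hx.symm) : StructuredArrow x' F)
            (StructuredArrow.mk (𝟙 x' ≫ eqToHom hx.symm) : StructuredArrow x' F) :=
          Or.inl ⟨StructuredArrow.homMk (𝟙 _) (by simp)⟩
        exact Relation.ReflTransGen.head e1 this
      exact s1.trans (s2.trans s3)
    haveI : Nonempty (StructuredArrow x' F) := ⟨base⟩
    exact zigzag_isConnected (fun f g => (hbase f).trans (zigzag_symm.symm _ _ (hbase g)))
  haveI : F.Final := ⟨key⟩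
  refine ⟨⟨fun _ => Functor.Final.hasColimit_of_comp F, fun _ => inferInstance⟩, ?_⟩
  intro _ _
  exact Functor.Final.colimit_pre_isIso F

end Groth.Agent.S6428
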