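import Groth.Statements.S6429
import Mathlib

set_option autoImplicit false
open CategoryTheory CategoryTheory.MonoidalCategory
universe v u
open MonCat

namespace Groth.Agent.S6429

/-- An object `X` of a monoidal category is invertible (some `X'` has `X ⊗ X' ≅ 𝟙` and `X' ⊗ X ≅ 𝟙`) if
and only if tensoring on the left by `X` is an equivalence, if and only if tensoring on the right by
`X` is an equivalence. -/
theorem result {C : Type u} [Category.{v} C] [MonoidalCategory C] (X : C) :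
    ((tensorLeft X).IsEquivalence ↔ ∃ X' : C, Nonempty (X ⊗ X' ≅ 𝟙_ C) ∧ Nonempty (X' ⊗ X ≅ 𝟙_ C)) ∧
      ((tensorRight X).IsEquivalence ↔ ∃ X' : C, Nonempty (X ⊗ X' ≅ 𝟙_ C) ∧ Nonempty (X' ⊗ X ≅ 𝟙_ C)) := by
  have mkL : ∀ (X X' : C), (X ⊗ X' ≅ 𝟙_ C) → (X' ⊗ X ≅ 𝟙_ C) →
      (tensorLeft X).IsEquivalence := by
    intro X X' e₁ e₂
    let η : 𝟭 C ≅ tensorLeft X ⋙ tensorLeft X' :=
      (leftUnitorNatIso C).symm ≪≫ ((curriedTensor C).mapIso e₂.symm) ≪≫ tensorLeftTensor X' X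
    let ε : tensorLeft X' ⋙ tensorLeft X ≅ 𝟭 C :=
      (tensorLeftTensor X X').symm ≪≫ ((curriedTensor C).mapIso e₁) ≪≫ leftUnitorNatIso C
    exact (CategoryTheory.Equivalence.mk (tensorLeft X) (tensorLeft X') η ε).isEquivalence_functor
  have mkR : ∀ (X X' : C), (X ⊗ X' ≅ 𝟙_ C) → (X' ⊗ X ≅ 𝟙_ C) →
      (tensorRight X).IsEquivalence := by
    intro X X' e₁ e₂
    let η : 𝟭 C ≅ tensorRight X ⋙ tensorRight X' :=
      (rightUnitorNatIso C).symm ≪≫ ((curriedTensor C).flip.mapIso e₁.symm) ≪≫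
        tensorRightTensor X X'
    let ε : tensorRight X' ⋙ tensorRight X ≅ 𝟭 C :=
      (tensorRightTensor X' X).symm ≪≫ ((curriedTensor C).flip.mapIso e₂) ≪≫ rightUnitorNatIso C
    exact (CategoryTheory.Equivalence.mk (tensorRight X) (tensorRight X') η ε).isEquivalence_functor
  refine ⟨⟨fun h => ?_, fun ⟨X', ⟨e₁⟩, ⟨e₂⟩⟩ => mkL X X' e₁ e₂⟩,
    ⟨fun h => ?_, fun ⟨X', ⟨e₁⟩, ⟨e₂⟩⟩ => mkR X X' e₁ e₂⟩⟩
  · let X' := (tensorLeft X).objPreimage (𝟙_ C)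
    let e₁ : X ⊗ X' ≅ 𝟙_ C := (tensorLeft X).objObjPreimageIso (𝟙_ C)
    let i : (tensorLeft X).obj (X' ⊗ X) ≅ (tensorLeft X).obj (𝟙_ C) :=
      (α_ X X' X).symm ≪≫ whiskerRightIso e₁ X ≪≫ λ_ X ≪≫ (ρ_ X).symm
    exact ⟨X', ⟨e₁⟩, ⟨(tensorLeft X).preimageIso i⟩⟩
  · let X' := (tensorRight X).objPreimage (𝟙_ C)
    let e₂ : X' ⊗ X ≅ 𝟙_ C := (tensorRight X).objObjPreimageIso (𝟙_ C)
    let i : (tensorRight X).obj (X ⊗ X') ≅ (tensorRight X).obj (𝟙_ C) :=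
      α_ X X' X ≪≫ whiskerLeftIso X e₂ ≪≫ ρ_ X ≪≫ (λ_ X).symm
    exact ⟨X', ⟨(tensorRight X).preimageIso i⟩, ⟨e₂⟩⟩

end Groth.Agent.S6429
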