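import Groth.Statements.S6433
import Mathlib

set_option autoImplicit false
open CategoryTheory
universe v u v' u'
open CatLoc

namespace Groth.Agent.S6433

/-- For a left multiplicative system `W` and a localization functor `L`, any finite family of morphisms
`L X_i ⟶ L Y` admits a common denominator: some `s : Y ⟶ Y'` in `W` and morphisms `f_i : X_i ⟶ Y'`
with `g_i = L(s)⁻¹ L(f_i)`. -/
theorem result {C : Type u} [Category.{v} C] {D : Type u'} [Category.{v'} D] (W : MorphismProperty C) (L : C ⥤ D) [L.IsLocalization W] [W.HasLeftCalculusOfFractions]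
    {ι : Type} [Finite ι] (X : ι → C) (Y : C) (g : ∀ i, L.obj (X i) ⟶ L.obj Y) :
    ∃ (Y' : C) (s : Y ⟶ Y') (_ : W s) (f : ∀ i, X i ⟶ Y'), ∀ i, g i ≫ L.map s = L.map (f i) := by
  have hW := Localization.inverts L W
  have key : ∀ (ι : Type) [Finite ι] (X : ι → C) (g : ∀ i, L.obj (X i) ⟶ L.obj Y),
      ∃ (Y' : C) (s : Y ⟶ Y') (_ : W s), ∀ i, ∃ fi : X i ⟶ Y', g i ≫ L.map s = L.map fi := by
    intro ι _
    refine Finite.induction_empty_option (P := fun ι : Type => ∀ (X : ι → C)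
      (g : ∀ i, L.obj (X i) ⟶ L.obj Y), ∃ (Y' : C) (s : Y ⟶ Y') (_ : W s),
        ∀ i, ∃ fi : X i ⟶ Y', g i ≫ L.map s = L.map fi) ?_ ?_ ?_ ι
    · intro α β e h X g
      obtain ⟨Y', s, hs, h'⟩ := h (fun a => X (e a)) (fun a => g (e a))
      refine ⟨Y', s, hs, fun b => ?_⟩
      obtain ⟨a, rfl⟩ := e.surjective b
      exact h' a
    · intro X g
      exact ⟨Y, 𝟙 Y, W.id_mem Y, fun i => i.elim⟩
    · intro α _ ih X g
      obtain ⟨Y₁, s₁, hs₁, h₁⟩ := ih (fun a => X (some a)) (fun a => g (some a))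
      obtain ⟨φ, hφ⟩ := Localization.exists_leftFraction L W (g none)
      obtain ⟨ψ, hψ⟩ := (MorphismProperty.RightFraction.mk φ.s φ.hs s₁).exists_leftFraction
      refine ⟨ψ.Y', s₁ ≫ ψ.s, W.comp_mem _ _ hs₁ ψ.hs, fun i => ?_⟩
      cases i with
      | none =>
        refine ⟨φ.f ≫ ψ.f, ?_⟩
        have e : s₁ ≫ ψ.s = φ.s ≫ ψ.f := hψ
        rw [e, L.map_comp, L.map_comp, ← Category.assoc, hφ, φ.map_comp_map_s L hW]
      | some a =>
        obtain ⟨fa, hfa⟩ := h₁ a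
        refine ⟨fa ≫ ψ.s, ?_⟩
        rw [L.map_comp, L.map_comp, ← Category.assoc, hfa]
  obtain ⟨Y', s, hs, h⟩ := key ι X g
  choose f hf using h
  exact ⟨Y', s, hs, f, hf⟩

end Groth.Agent.S6433
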