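import Groth.Statements.S6438
import Groth.Agent.Lib.helper3.FinFinal

set_option autoImplicit false
open CategoryTheory
universe v u
open CatLim

 open Groth.Agent.Helper3.Bip
namespace Groth.Agent.S6438

/-- A category with finitely many objects whose morphisms are generated under composition by finitely
many of them receives a functor from a finite category which is both final and initial, the finite
category being connected (resp. nonempty) exactly when the given one is. (The published statement
says that limits and colimits of every diagram are computed after restriction along the functor;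
this is expressed here through finality and initiality.) -/
theorem result {I : Type u} [Category.{v} I] [Finite I]
    (gen : Finset (Σ x y : I, x ⟶ y))
    (hgen : ∀ P : MorphismProperty I, P.IsMultiplicative → (∀ a ∈ gen, P a.2.2) → P = ⊤) :
    ∃ (J : Type) (_ : SmallCategory J) (_ : FinCategory J) (F : J ⥤ I),
      F.Final ∧ F.Initial ∧ (IsConnected J ↔ IsConnected I) ∧ (Nonempty J ↔ Nonempty I) := by
  classical
  obtain ⟨n, ⟨eI⟩⟩ := Finite.exists_equiv_fin I
  let eg : {a // a ∈ gen} ≃ Fin gen.card := gen.equivFin
  let obj : Fin n → I := eI.symm
  let g : Fin gen.card → (Σ x y : I, x ⟶ y) := fun k => (eg.symm k).1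
  let src : Fin gen.card → Fin n := fun k => eI (g k).1
  let tgt : Fin gen.card → Fin n := fun k => eI (g k).2.1
  let arr : ∀ k, obj (src k) ⟶ obj (tgt k) := fun k =>
    eqToHom (eI.symm_apply_apply _) ≫ (g k).2.2 ≫ eqToHom (eI.symm_apply_apply _).symm
  have hgen' : ∀ P : MorphismProperty I, P.IsMultiplicative → (∀ k, P (arr k)) → P = ⊤ := by
    intro P hP hk
    have heq : ∀ {X Y : I} (h : X = Y), P (eqToHom h) := by
      intro X Y h
      subst h
      simpa using P.id_mem X
    apply hgen P hP
    intro a ha
    obtain ⟨k, hk'⟩ := eg.symm.surjective ⟨a, ha⟩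
    have ha' : a = g k := (congrArg Subtype.val hk').symm
    subst ha'
    have h1 := P.comp_mem _ _ (heq (eI.symm_apply_apply (g k).1).symm)
      (P.comp_mem _ _ (hk k) (heq (eI.symm_apply_apply (g k).2.1)))
    simpa [arr] using h1
  have hsurj : Function.Surjective obj := eI.symm.surjective
  have hinj : Function.Injective obj := eI.symm.injective
  have hfin : (F src tgt obj arr).Final := F_final src tgt obj arr hsurj hinj hgen'
  have hini : (F src tgt obj arr).Initial := F_initial src tgt obj arr hsurj hinj hgen'
  refine ⟨Bip src tgt, inferInstance, inferInstance, F src tgt obj arr, hfin, hini, ?_, ?_⟩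
  · exact CategoryTheory.Functor.isConnected_iff_of_final (F src tgt obj arr)
  · exact ⟨fun ⟨j⟩ => ⟨(F src tgt obj arr).obj j⟩, fun ⟨i⟩ => ⟨Bip.inl (eI i)⟩⟩

end Groth.Agent.S6438
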