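import Groth.Statements.S6444
import Mathlib

set_option autoImplicit false
open CategoryTheory
universe v u v' u'
open CatLoc

namespace Groth.Agent.S6444

/-- For a left multiplicative system, a commutative square in the localization between the images of two
morphisms `f, f'` of `C` lifts to a commutative diagram `X → X'' ← X'`, `Y → Y'' ← Y'` in `C` over a
third morphism `f''`, the backward arrows lying in `W`. -/
theorem result {C : Type u} [Category.{v} C] {D : Type u'} [Category.{v'} D] (W : MorphismProperty C) (L : C ⥤ D) [L.IsLocalization W] [W.HasLeftCalculusOfFractions]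
    {X Y X' Y' : C} (f : X ⟶ Y) (f' : X' ⟶ Y') (a : L.obj X ⟶ L.obj X') (b : L.obj Y ⟶ L.obj Y') (w : L.map f ≫ b = a ≫ L.map f') :
    ∃ (X'' Y'' : C) (f'' : X'' ⟶ Y'') (g : X ⟶ X'') (h : Y ⟶ Y'') (s : X' ⟶ X'') (t : Y' ⟶ Y''),
      W s ∧ W t ∧ f ≫ h = g ≫ f'' ∧ f' ≫ t = s ≫ f'' ∧ L.map g = a ≫ L.map s ∧ L.map h = b ≫ L.map t := by
  have hW := Localization.inverts L W
  obtain ⟨φ, hφ⟩ := Localization.exists_leftFraction L W a
  obtain ⟨ψ, hψ⟩ := (MorphismProperty.RightFraction.mk φ.s φ.hs f').exists_leftFraction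
  obtain ⟨χ, hχ⟩ := Localization.exists_leftFraction L W (b ≫ L.map ψ.s)
  have e1 : f' ≫ ψ.s = φ.s ≫ ψ.f := hψ
  have ha : a ≫ L.map φ.s = L.map φ.f := by rw [hφ, φ.map_comp_map_s L hW]
  have hb : (b ≫ L.map ψ.s) ≫ L.map χ.s = L.map χ.f := by rw [hχ, χ.map_comp_map_s L hW]
  have h3 : L.map (f ≫ χ.f) = L.map (φ.f ≫ ψ.f ≫ χ.s) := by
    calc L.map (f ≫ χ.f) = L.map f ≫ (b ≫ L.map ψ.s) ≫ L.map χ.s := by rw [L.map_comp, hb]
      _ = (L.map f ≫ b) ≫ L.map ψ.s ≫ L.map χ.s := by simp only [Category.assoc]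
      _ = (a ≫ L.map f') ≫ L.map ψ.s ≫ L.map χ.s := by rw [w]
      _ = a ≫ L.map (f' ≫ ψ.s) ≫ L.map χ.s := by simp only [Category.assoc, L.map_comp]
      _ = a ≫ L.map (φ.s ≫ ψ.f) ≫ L.map χ.s := by rw [e1]
      _ = (a ≫ L.map φ.s) ≫ L.map ψ.f ≫ L.map χ.s := by simp only [Category.assoc, L.map_comp]
      _ = L.map (φ.f ≫ ψ.f ≫ χ.s) := by rw [ha]; simp only [L.map_comp]
  obtain ⟨Y₃, t₃, ht₃, e3⟩ := (MorphismProperty.map_eq_iff_postcomp L W _ _).1 h3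
  refine ⟨φ.Y', Y₃, ψ.f ≫ χ.s ≫ t₃, φ.f, χ.f ≫ t₃, φ.s, ψ.s ≫ χ.s ≫ t₃, φ.hs,
    W.comp_mem _ _ ψ.hs (W.comp_mem _ _ χ.hs ht₃), ?_, ?_, ?_, ?_⟩
  · simpa only [Category.assoc] using e3
  · rw [← Category.assoc, e1, Category.assoc]
  · exact ha.symm
  · rw [L.map_comp, ← hb]; simp only [Category.assoc, L.map_comp]

end Groth.Agent.S6444
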