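import Groth.Statements.S6464
import Mathlib

set_option autoImplicit false
universe u v
open CycAlg

namespace Groth.Agent.S6464

/-- Let (M, N, φ, ψ) be a 2-periodic complex over a ring R with M and N of finite length. Then its
cohomology modules have finite length and e_R(M, N, φ, ψ) = length_R(M) − length_R(N). (The case M =
N, where the conclusion reads e_R(M, φ, ψ) = 0, is the special case and is not restated.) -/
theorem result {R : Type u} [CommRing R] {M N : Type v} [AddCommGroup M] [Module R M] [AddCommGroup N] [Module R N] (φ : M →ₗ[R] N) (ψ : N →ₗ[R] M) (h : CycAlg.IsPeriodic φ ψ) (hM : Module.length R M < ⊤) (hN : Module.length R N < ⊤) : CycAlg.FinCoh R φ ψ ∧ CycAlg.herbrand R φ ψ = ((Module.length R M).toNat : ℤ) - ((Module.length R N).toNat : ℤ) := by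
  have key1 : ∀ (X Y : Type v) [AddCommGroup X] [Module R X] [AddCommGroup Y] [Module R Y]
      (θ : X →ₗ[R] Y), Module.length R X =
        Module.length R (LinearMap.ker θ) + Module.length R (LinearMap.range θ) := by
    intro X Y _ _ _ _ θ
    refine Module.length_eq_add_of_exact (LinearMap.ker θ).subtype θ.rangeRestrict
      (Submodule.subtype_injective _) θ.surjective_rangeRestrict ?_
    intro y
    constructor
    · intro hy
      exact ⟨⟨y, by rw [LinearMap.mem_ker]; exact congrArg Subtype.val hy⟩, rfl⟩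
    · rintro ⟨⟨z, hz⟩, rfl⟩
      exact Subtype.ext (LinearMap.mem_ker.mp hz)
  have key2 : ∀ (X Y : Type v) [AddCommGroup X] [Module R X] [AddCommGroup Y] [Module R Y]
      (θ : X →ₗ[R] Y) (χ : Y →ₗ[R] X), θ ∘ₗ χ = 0 →
      Module.length R (LinearMap.ker θ) =
        Module.length R (LinearMap.range χ) + Module.length R (CycAlg.perH θ χ) := by
    intro X Y _ _ _ _ θ χ hθχ
    have hle : LinearMap.range χ ≤ LinearMap.ker θ := by
      rintro _ ⟨y, rfl⟩
      rw [LinearMap.mem_ker]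
      exact LinearMap.congr_fun hθχ y
    rw [← LinearEquiv.length_eq (Submodule.submoduleOfEquivOfLe hle)]
    exact Module.length_eq_add_of_exact
      ((LinearMap.range χ).submoduleOf (LinearMap.ker θ)).subtype
      ((LinearMap.range χ).submoduleOf (LinearMap.ker θ)).mkQ
      (Submodule.subtype_injective _) (Submodule.mkQ_surjective _)
      (LinearMap.exact_subtype_mkQ _)
  obtain ⟨h1', h2'⟩ := h
  have e1 := key1 M N φ
  have e2 := key1 N M ψ
  have e3 := key2 M N φ ψ h1'
  have e4 := key2 N M ψ φ h2'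
  rw [e3] at e1
  rw [e4] at e2
  obtain ⟨a, ha⟩ : ∃ a, a = Module.length R (LinearMap.range φ) := ⟨_, rfl⟩
  obtain ⟨b, hb⟩ : ∃ b, b = Module.length R (LinearMap.range ψ) := ⟨_, rfl⟩
  obtain ⟨H0, hH0⟩ : ∃ c, c = Module.length R (CycAlg.perH φ ψ) := ⟨_, rfl⟩
  obtain ⟨H1, hH1⟩ : ∃ c, c = Module.length R (CycAlg.perH ψ φ) := ⟨_, rfl⟩
  rw [← ha, ← hb, ← hH0] at e1
  rw [← ha, ← hb, ← hH1] at e2
  have hfin1 : b + H0 + a ≠ ⊤ := by rw [← e1]; exact hM.ne
  have hfin2 : a + H1 + b ≠ ⊤ := by rw [← e2]; exact hN.ne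
  have ha' : a ≠ ⊤ := fun hc => hfin1 (by rw [hc]; simp)
  have hb' : b ≠ ⊤ := fun hc => hfin2 (by rw [hc]; simp)
  have hH0' : H0 ≠ ⊤ := fun hc => hfin1 (by rw [hc]; simp)
  have hH1' : H1 ≠ ⊤ := fun hc => hfin2 (by rw [hc]; simp)
  refine ⟨⟨?_, ?_⟩, ?_⟩
  · rw [← hH0]; exact lt_top_iff_ne_top.mpr hH0'
  · rw [← hH1]; exact lt_top_iff_ne_top.mpr hH1'
  · unfold CycAlg.herbrand
    rw [← hH0, ← hH1, e1, e2]
    lift a to ℕ using ha'
    lift b to ℕ using hb'
    lift H0 to ℕ using hH0'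
    lift H1 to ℕ using hH1'
    have t1 : ((b : ℕ∞) + (H0 : ℕ∞) + (a : ℕ∞)).toNat = b + H0 + a := by
      rw [← Nat.cast_add, ← Nat.cast_add, ENat.toNat_natCast]
    have t2 : ((a : ℕ∞) + (H1 : ℕ∞) + (b : ℕ∞)).toNat = a + H1 + b := by
      rw [← Nat.cast_add, ← Nat.cast_add, ENat.toNat_natCast]
    rw [t1, t2, ENat.toNat_natCast, ENat.toNat_natCast]
    push_cast
    ring

end Groth.Agent.S6464
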