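import Groth.Statements.S6484
-- import your own Groth.Agent.* helpers here

set_option autoImplicit false
universe u
open CategoryTheory AlgebraicGeometry
open CategoryTheory.Limits
open Cyc

namespace Groth.Agent.S6484

/-- If f : Y → X is completely decomposed (this prelude's Cyc.IsCompletelyDecomposed: over every point
of X lies a point of Y with trivial residue field extension) and g : X' → X is any morphism of
schemes, then the base change Y ×_X X' → X' is completely decomposed. Consequently the base change
of an envelope (a proper completely decomposed morphism) is an envelope, properness being preserved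
by base change. (The published envelope statement takes X′ → X between schemes locally of finite
type over a base; this row allows any g.) -/
theorem result (X X' Y : Scheme.{u}) (f : Y ⟶ X) (g : X' ⟶ X) (hcd : Cyc.IsCompletelyDecomposed f) : Cyc.IsCompletelyDecomposed (pullback.snd f g) := by
  have aux : ∀ {W : Scheme.{u}} {L : CommRingCat.{u}} {x₁ x₂ : W} (p : Spec L)
      (φ₁ : W.residueField x₁ ⟶ L) (φ₂ : W.residueField x₂ ⟶ L),
      Spec.map φ₁ ≫ W.fromSpecResidueField x₁ = Spec.map φ₂ ≫ W.fromSpecResidueField x₂ →
      Function.Surjective φ₂.hom → Function.Surjective φ₁.hom := by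
    intro W L x₁ x₂ p φ₁ φ₂ h hsurj
    have hx : x₁ = x₂ := by
      have := congrArg (fun ψ : Spec L ⟶ W => ψ p) h
      simpa using this
    subst hx
    have h2 : Spec.map φ₁ = Spec.map φ₂ := by
      rw [← cancel_mono (W.fromSpecResidueField x₁), h]
    have h3 : φ₁ = φ₂ := Spec.map_injective h2
    rw [h3]
    exact hsurj
  have aux2 : ∀ {K : Type u} [Field K] {P W : Scheme.{u}} (t : Spec (.of K) ⟶ P) (s : P ⟶ W)
      (x' : W) (φ : W.residueField x' ⟶ .of K), Function.Surjective φ.hom →
      t ≫ s = Spec.map φ ≫ W.fromSpecResidueField x' →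
      ∃ z : P, s z = x' ∧ Function.Surjective (s.residueFieldMap z).hom := by
    intro K _ P W t s x' φ hφ h
    have hz : s (t (IsLocalRing.closedPoint K)) = x' := by
      rw [← Scheme.Hom.comp_apply, h]
      simp
    refine ⟨t (IsLocalRing.closedPoint K), hz, ?_⟩
    let δ : P.residueField (t (IsLocalRing.closedPoint K)) ⟶ .of K :=
      Scheme.descResidueField (Scheme.stalkClosedPointTo t)
    have hδ : Spec.map δ ≫ P.fromSpecResidueField (t (IsLocalRing.closedPoint K)) = t :=
      Scheme.descResidueField_stalkClosedPointTo_fromSpecResidueField K P t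
    have key := aux (L := .of K) (IsLocalRing.closedPoint K)
      (s.residueFieldMap (t (IsLocalRing.closedPoint K)) ≫ δ) φ (by
        rw [Spec.map_comp, Category.assoc,
          Scheme.Hom.SpecMap_residueFieldMap_fromSpecResidueField, reassoc_of% hδ, h]) hφ
    intro c
    obtain ⟨a', ha'⟩ := key (δ.hom c)
    exact ⟨a', δ.hom.injective ha'⟩
  intro x'
  obtain ⟨y, hy, hs⟩ := hcd (g x')
  have hbij : Function.Bijective (f.residueFieldMap y).hom :=
    ⟨(f.residueFieldMap y).hom.injective, hs⟩
  let e := RingEquiv.ofBijective (f.residueFieldMap y).hom hbij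
  let ψ : Y.residueField y ⟶ X.residueField (f y) := CommRingCat.ofHom e.symm.toRingHom
  have hψ : f.residueFieldMap y ≫ ψ = 𝟙 _ := by
    ext a
    exact e.symm_apply_apply a
  let a : Spec (X'.residueField x') ⟶ Y :=
    Spec.map (ψ ≫ (X.residueFieldCongr hy).hom ≫ g.residueFieldMap x') ≫
      Y.fromSpecResidueField y
  let b : Spec (X'.residueField x') ⟶ X' := X'.fromSpecResidueField x'
  have cond : a ≫ f = b ≫ g := by
    simp only [a, b, Spec.map_comp, Category.assoc]
    rw [← Scheme.Hom.SpecMap_residueFieldMap_fromSpecResidueField,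
      ← Spec.map_comp_assoc (f.residueFieldMap y) ψ, hψ, Spec.map_id, Category.id_comp,
      Scheme.residueFieldCongr_fromSpecResidueField,
      Scheme.Hom.SpecMap_residueFieldMap_fromSpecResidueField]
  refine aux2 (K := (X'.residueField x' : Type u)) (pullback.lift a b cond) (pullback.snd f g) x'
    (𝟙 _) (fun c => ⟨c, rfl⟩) ?_
  rw [pullback.lift_snd]
  exact ((Category.id_comp _).symm.trans (congrArg (· ≫ X'.fromSpecResidueField x') (Spec.map_id _).symm) : b = _)

end Groth.Agent.S6484
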