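import Groth.Statements.S6580
import Mathlib
-- import your own Groth.Agent.* helpers here

set_option autoImplicit false
universe v u
open CategoryTheory CategoryTheory.Limits
open CohDer

namespace Groth.Agent.S6580

open CategoryTheory.Pretriangulated in
/-- Let (X, Y, Z, f, g, h) be a distinguished triangle of a pretriangulated category, and let a : X ⟶ X
and c : Z ⟶ Z be idempotents with h ≫ a⟦1⟧ = c ≫ h. Then there is an idempotent b : Y ⟶ Y such that
(a, b, c) is an endomorphism of the triangle. -/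
theorem result {D : Type u} [Category.{v} D] [Preadditive D] [HasZeroObject D] [HasShift D ℤ]
    [∀ n : ℤ, (shiftFunctor D n).Additive] [Pretriangulated D]
    (T : Triangle D) (hT : T ∈ distinguishedTriangles) (a : T.obj₁ ⟶ T.obj₁) (c : T.obj₃ ⟶ T.obj₃)
    (ha : a ≫ a = a) (hc : c ≫ c = c) (comm : T.mor₃ ≫ (shiftFunctor D (1 : ℤ)).map a = c ≫ T.mor₃) :
    ∃ b : T.obj₂ ⟶ T.obj₂, b ≫ b = b ∧ T.mor₁ ≫ b = a ≫ T.mor₁ ∧ T.mor₂ ≫ c = b ≫ T.mor₂ := by
  obtain ⟨b', h1, h2⟩ := complete_distinguished_triangle_morphism₂ T T hT hT a c comm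
  have h11 : T.mor₁ ≫ b' ≫ b' = a ≫ T.mor₁ := by
    rw [← Category.assoc, h1, Category.assoc, h1, ← Category.assoc, ha]
  have h111 : T.mor₁ ≫ b' ≫ b' ≫ b' = a ≫ T.mor₁ := by
    rw [← Category.assoc, h1, Category.assoc, h11, ← Category.assoc, ha]
  have g11 : (b' ≫ b') ≫ T.mor₂ = T.mor₂ ≫ c := by
    rw [Category.assoc, ← h2, ← Category.assoc, ← h2, Category.assoc, hc]
  have g111 : (b' ≫ b' ≫ b') ≫ T.mor₂ = T.mor₂ ≫ c := by
    rw [Category.assoc, g11, ← Category.assoc, ← h2, Category.assoc, hc]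
  have hfn : T.mor₁ ≫ (b' ≫ b' - b') = 0 := by
    rw [Preadditive.comp_sub, h11, h1, sub_self]
  have hng : (b' ≫ b' - b') ≫ T.mor₂ = 0 := by
    rw [Preadditive.sub_comp, g11, ← h2, sub_self]
  obtain ⟨s, hs⟩ := Triangle.yoneda_exact₂ T hT _ hfn
  have hnn : (b' ≫ b' - b') ≫ (b' ≫ b' - b') = 0 := by
    have h3 : (b' ≫ b' - b') ≫ (b' ≫ b' - b') = ((b' ≫ b' - b') ≫ T.mor₂) ≫ s := by
      rw [Category.assoc, ← hs]
    rw [h3, hng, Limits.zero_comp]
  let e : End T.obj₂ := b'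
  have hE : (e * e - e) * (e * e - e) = 0 := hnn
  have key : (e*e + e*e + e*e - (e*e*e + e*e*e)) * (e*e + e*e + e*e - (e*e*e + e*e*e))
      - (e*e + e*e + e*e - (e*e*e + e*e*e))
      = (e * e - e) * (e * e - e) * (e*e + e*e + e*e + e*e - (e + e + e + e) - (1 + 1 + 1)) := by
    noncomm_ring
  have hidem : (e*e + e*e + e*e - (e*e*e + e*e*e)) * (e*e + e*e + e*e - (e*e*e + e*e*e))
      = (e*e + e*e + e*e - (e*e*e + e*e*e)) := by
    rw [← sub_eq_zero, key, hE, zero_mul]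
  refine ⟨b' ≫ b' + b' ≫ b' + b' ≫ b' - (b' ≫ b' ≫ b' + b' ≫ b' ≫ b'), hidem, ?_, ?_⟩
  · simp only [Preadditive.comp_sub, Preadditive.comp_add, h11, h111]
    abel
  · simp only [Preadditive.sub_comp, Preadditive.add_comp, g11, g111]
    abel

end Groth.Agent.S6580
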