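import Groth.Statements.S6585
import Mathlib
-- import your own Groth.Agent.* helpers here

set_option autoImplicit false
universe v u
open CategoryTheory CategoryTheory.Limits
open CohDer

namespace Groth.Agent.S6585

open CategoryTheory.Pretriangulated in
/-- Let D be a triangulated category and E, K objects of D. Then Hom(E, K⟦i⟧) = 0 for all integers i if
and only if Hom(E', K) = 0 for every E' in ⟨E⟩, the smallest strictly full saturated triangulated
subcategory of D containing E (the objects obtained from E by shifts, finite direct sums, direct
summands and extensions). -/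
theorem result {D : Type u} [Category.{v} D] [Preadditive D] [HasZeroObject D] [HasShift D ℤ]
    [∀ n : ℤ, (shiftFunctor D n).Additive] [Pretriangulated D] [IsTriangulated D]
    (E K : D) :
    (∀ (i : ℤ) (f : E ⟶ (shiftFunctor D i).obj K), f = 0) ↔
      ∀ (E' : D), (ObjectProperty.singleton E).triangEnvelope E' → ∀ f : E' ⟶ K, f = 0 := by
  constructor
  · intro h E' hE' f
    let P : ObjectProperty D := (ObjectProperty.singleton K).shiftClosure ℤ
    have : P.leftOrthogonal.IsStableUnderRetracts := ⟨fun {X Y} r hY Z g hZ => by
      have h1 : g = r.i ≫ (r.r ≫ g) := by rw [← Category.assoc, r.retract, Category.id_comp]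
      rw [h1, hY (r.r ≫ g) hZ, Limits.comp_zero]⟩
    have hle : (ObjectProperty.singleton E).triangEnvelope ≤ P.leftOrthogonal := by
      rw [ObjectProperty.triangEnvelope_le_iff, ObjectProperty.singleton_le_iff]
      rintro Y g ⟨Y', a, e, hY'⟩
      rw [ObjectProperty.singleton_iff] at hY'
      subst hY'
      rw [← cancel_mono e.hom, Limits.zero_comp]
      exact h a _
    exact hle _ hE' f (ObjectProperty.le_shiftClosure _ _ (by simp))
  · intro h i f
    have hE' : (ObjectProperty.singleton E).triangEnvelope ((shiftFunctor D (-i)).obj E) :=
      ObjectProperty.le_shift (ObjectProperty.singleton E).triangEnvelope (-i) _ (ObjectProperty.le_triangEnvelope _ _ (by simp))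
    have h1 := h _ hE' ((shiftFunctor D (-i)).map f ≫ (shiftShiftNeg K i).hom)
    have h2 : (shiftFunctor D (-i)).map f = 0 :=
      (cancel_mono (shiftShiftNeg K i).hom).mp (h1.trans Limits.zero_comp.symm)
    exact (shiftFunctor D (-i)).map_injective (h2.trans (Functor.map_zero _ _ _).symm)

end Groth.Agent.S6585
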