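import Groth.Statements.S6586
import Mathlib

set_option autoImplicit false
universe v u
open CategoryTheory CategoryTheory.Limits
open CohDer

namespace Groth.Agent.S6586

/-- Fix a triangulated category D together with an object E in it. Suppose E classically generates D,
i.e. ⟨E⟩ = D; then E is a generator of D: an object K with Hom(E, K⟦n⟧) = 0 for all n is zero. -/
theorem result {D : Type u} [Category.{v} D] [Preadditive D] [HasZeroObject D] [HasShift D ℤ]
    [∀ n : ℤ, (shiftFunctor D n).Additive] [Pretriangulated D] [IsTriangulated D]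
    (E : D) (hE : (ObjectProperty.singleton E).IsClassicalTriangulatedGenerator) :
    CohDer.Generates (fun _ : PUnit.{1} => E) := by
  intro K hK
  let P' : ObjectProperty D := fun Y => ∃ n : ℤ, Nonempty (Y ≅ (shiftFunctor D n).obj K)
  haveI : P'.IsStableUnderShift ℤ :=
    { isStableUnderShiftBy := fun a =>
        { le_shift := fun Y ⟨n, ⟨e⟩⟩ =>
            ⟨n + a, ⟨(shiftFunctor D a).mapIso e ≪≫
              ((shiftFunctorAdd' D n a (n + a) rfl).symm.app K)⟩⟩ } }
  haveI : P'.leftOrthogonal.IsStableUnderRetracts :=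
    { of_retract := fun {X Y} r hY Z f hZ => by
        have h1 : r.r ≫ f = 0 := hY (r.r ≫ f) hZ
        have h2 : f = r.i ≫ r.r ≫ f := by rw [← Category.assoc, r.retract, Category.id_comp]
        rw [h2, h1, comp_zero] }
  have hle : ObjectProperty.singleton E ≤ P'.leftOrthogonal := by
    rw [ObjectProperty.singleton_le_iff]
    intro Y f ⟨n, ⟨e⟩⟩
    have h1 := hK PUnit.unit n (f ≫ e.hom)
    rw [← cancel_mono e.hom, h1, zero_comp]
  have h2 : (ObjectProperty.singleton E).triangEnvelope ≤ P'.leftOrthogonal :=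
    (ObjectProperty.triangEnvelope_le_iff _).2 hle
  have h3 : P'.leftOrthogonal K := h2 K (by rw [hE]; trivial)
  have h4 : 𝟙 K = 0 := h3 (𝟙 K) ⟨0, ⟨(shiftFunctorZero D ℤ).symm.app K⟩⟩
  exact (IsZero.iff_id_eq_zero K).2 h4

end Groth.Agent.S6586
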