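import Groth.Statements.S6593
import Mathlib
-- import your own Groth.Agent.* helpers here

set_option autoImplicit false
universe w v u
open CategoryTheory CategoryTheory.Limits
open CohDer

namespace Groth.Agent.S6593
section ShiftSigma
open CategoryTheory CategoryTheory.Limits CategoryTheory.Category

variable {D : Type u} [Category.{v} D] [HasShift D ℤ] {J : Type w} (X : J → D) [HasCoproduct X]

noncomputable def shIsColim :
    IsColimit ((shiftFunctor D (1:ℤ)).mapCocone (Cofan.mk _ (Sigma.ι X))) :=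
  isColimitOfPreserves (shiftFunctor D (1:ℤ)) (coproductIsCoproduct X)

lemma sh_hom_ext {A : D} (u v : (shiftFunctor D (1:ℤ)).obj (∐ X) ⟶ A)
    (h : ∀ j, (shiftFunctor D (1:ℤ)).map (Sigma.ι X j) ≫ u
      = (shiftFunctor D (1:ℤ)).map (Sigma.ι X j) ≫ v) : u = v :=
  (shIsColim X).hom_ext (fun ⟨j⟩ => h j)

lemma sh_desc {A : D} (α : ∀ j, (shiftFunctor D (1:ℤ)).obj (X j) ⟶ A) :
    ∃ u : (shiftFunctor D (1:ℤ)).obj (∐ X) ⟶ A,
      ∀ j, (shiftFunctor D (1:ℤ)).map (Sigma.ι X j) ≫ u = α j :=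
  ⟨(shIsColim X).desc (Cocone.mk A (Discrete.natTrans fun ⟨j⟩ => α j)),
    fun j => (shIsColim X).fac _ ⟨j⟩⟩

end ShiftSigma

set_option backward.defeqAttrib.useBackward true in
set_option backward.isDefEq.respectTransparency false in
open CategoryTheory CategoryTheory.Limits CategoryTheory.Pretriangulated CategoryTheory.Category in
theorem coprod_dist {D : Type u} [Category.{v} D] [Preadditive D] [HasZeroObject D] [HasShift D ℤ]
    [∀ n : ℤ, (shiftFunctor D n).Additive] [Pretriangulated D]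
    {J : Type w} (T : J → Triangle D) (hT : ∀ j, T j ∈ distinguishedTriangles)
    [HasCoproduct (fun j => (T j).obj₁)] [HasCoproduct (fun j => (T j).obj₂)]
    [HasCoproduct (fun j => (T j).obj₃)] :
    Triangle.mk (Limits.Sigma.map (fun j => (T j).mor₁)) (Limits.Sigma.map (fun j => (T j).mor₂))
      (Sigma.desc (fun j => (T j).mor₃ ≫
        (shiftFunctor D (1 : ℤ)).map (Sigma.ι (fun j => (T j).obj₁) j))) ∈
      distinguishedTriangles := by
  obtain ⟨f₁, hf₁⟩ : ∃ f₁ : (∐ fun j => (T j).obj₁) ⟶ (∐ fun j => (T j).obj₂),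
      f₁ = Limits.Sigma.map (fun j => (T j).mor₁) := ⟨_, rfl⟩
  obtain ⟨m₂, hm₂⟩ : ∃ m₂ : (∐ fun j => (T j).obj₂) ⟶ (∐ fun j => (T j).obj₃),
      m₂ = Limits.Sigma.map (fun j => (T j).mor₂) := ⟨_, rfl⟩
  obtain ⟨m₃, hm₃⟩ : ∃ m₃ : (∐ fun j => (T j).obj₃) ⟶
      (shiftFunctor D (1:ℤ)).obj (∐ fun j => (T j).obj₁),
      m₃ = Sigma.desc (fun j => (T j).mor₃ ≫
        (shiftFunctor D (1 : ℤ)).map (Sigma.ι (fun j => (T j).obj₁) j)) := ⟨_, rfl⟩
  rw [← hf₁, ← hm₂, ← hm₃]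
  have hι₁ : ∀ j, Sigma.ι (fun j => (T j).obj₁) j ≫ f₁
      = (T j).mor₁ ≫ Sigma.ι (fun j => (T j).obj₂) j := by
    intro j; rw [hf₁]; exact Sigma.ι_map _ j
  have hι₂ : ∀ j, Sigma.ι (fun j => (T j).obj₂) j ≫ m₂
      = (T j).mor₂ ≫ Sigma.ι (fun j => (T j).obj₃) j := by
    intro j; rw [hm₂]; exact Sigma.ι_map _ j
  have hι₃ : ∀ j, Sigma.ι (fun j => (T j).obj₃) j ≫ m₃
      = (T j).mor₃ ≫ (shiftFunctor D (1 : ℤ)).map (Sigma.ι (fun j => (T j).obj₁) j) := by
    intro j; rw [hm₃]; exact Sigma.ι_desc _ j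
  obtain ⟨Z, f₂, f₃, hT'⟩ := distinguished_cocone_triangle f₁
  have φ : ∀ j, ∃ c : (T j).obj₃ ⟶ Z,
      (T j).mor₂ ≫ c = Sigma.ι (fun j => (T j).obj₂) j ≫ f₂ ∧
      (T j).mor₃ ≫ (shiftFunctor D (1 : ℤ)).map (Sigma.ι (fun j => (T j).obj₁) j) = c ≫ f₃ :=
    fun j => by
      have h := complete_distinguished_triangle_morphism (T j) (Triangle.mk f₁ f₂ f₃) (hT j) hT'
        (Sigma.ι (fun j => (T j).obj₁) j) (Sigma.ι (fun j => (T j).obj₂) j)
        (by dsimp; exact (hι₁ j).symm)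
      dsimp at h
      exact h
  choose c hc₂ hc₃ using φ
  obtain ⟨h₃, hh₃⟩ : ∃ h₃ : (∐ fun j => (T j).obj₃) ⟶ Z, h₃ = Sigma.desc c := ⟨_, rfl⟩
  have hιh : ∀ j, Sigma.ι (fun j => (T j).obj₃) j ≫ h₃ = c j := by
    intro j; rw [hh₃]; exact Sigma.ι_desc _ j
  have e₂ : m₂ ≫ h₃ = f₂ := by
    apply Sigma.hom_ext
    intro j
    rw [← assoc, hι₂, assoc, hιh, hc₂]
  have e₃ : m₃ = h₃ ≫ f₃ := by
    apply Sigma.hom_ext
    intro j
    rw [hι₃, ← assoc, hιh, hc₃]
  have hzero : f₁ ≫ m₂ = 0 := by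
    apply Sigma.hom_ext
    intro j
    rw [← assoc, hι₁, assoc, hι₂, ← assoc, comp_distTriang_mor_zero₁₂ _ (hT j), zero_comp,
      comp_zero]
  have hiso : IsIso h₃ := by
    refine isIso_of_coyoneda_map_bijective _ (fun A => ⟨?_, ?_⟩)
    · suffices Epi h₃ by
        intro a₁ a₂ ha
        simpa only [← cancel_epi h₃] using ha
      rw [Preadditive.epi_iff_cancel_zero]
      intro A x hx
      have h1 : f₂ ≫ x = 0 := by rw [← e₂, assoc, hx, comp_zero]
      obtain ⟨g, hg⟩ := Triangle.yoneda_exact₃ (Triangle.mk f₁ f₂ f₃) hT' x h1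
      have hg' : x = f₃ ≫ g := hg
      have h2 : ∀ j, (T j).mor₃ ≫
          ((shiftFunctor D (1 : ℤ)).map (Sigma.ι (fun j => (T j).obj₁) j) ≫ g) = 0 := by
        intro j
        rw [← assoc, hc₃, assoc, ← hg', ← hιh, assoc, hx, comp_zero]
      have h3 : ∀ j, ∃ α : (shiftFunctor D (1:ℤ)).obj (T j).obj₂ ⟶ A,
          (shiftFunctor D (1 : ℤ)).map (Sigma.ι (fun j => (T j).obj₁) j) ≫ g
            = -((shiftFunctor D (1:ℤ)).map (T j).mor₁ ≫ α) := by
        intro j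
        obtain ⟨α, hα⟩ := Triangle.yoneda_exact₃ (T j).rotate (rot_of_distTriang _ (hT j))
          ((shiftFunctor D (1 : ℤ)).map (Sigma.ι (fun j => (T j).obj₁) j) ≫ g) (h2 j)
        refine ⟨α, ?_⟩
        rw [hα]
        simp [Triangle.rotate]
      choose α hα using h3
      obtain ⟨β, hβ⟩ := sh_desc (fun j => (T j).obj₂) α
      have h4 : g = -((shiftFunctor D (1:ℤ)).map f₁ ≫ β) := by
        apply sh_hom_ext (fun j => (T j).obj₁)
        intro j
        rw [hα j, Preadditive.comp_neg, ← assoc, ← Functor.map_comp, hι₁, Functor.map_comp, assoc,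
          hβ]
      have h5 : f₃ ≫ (shiftFunctor D (1:ℤ)).map f₁ = 0 :=
        comp_distTriang_mor_zero₃₁ _ hT'
      rw [hg', h4, Preadditive.comp_neg, ← assoc, h5, zero_comp, neg_zero]
    · intro a
      have h1 : f₁ ≫ (m₂ ≫ a) = 0 := by rw [← assoc, hzero, zero_comp]
      obtain ⟨a', ha''⟩ : ∃ a' : Z ⟶ A, m₂ ≫ a = f₂ ≫ a' :=
        Triangle.yoneda_exact₂ (Triangle.mk f₁ f₂ f₃) hT' (m₂ ≫ a) h1
      have h2 : ∀ j, (T j).mor₂ ≫ (Sigma.ι (fun j => (T j).obj₃) j ≫ (a - h₃ ≫ a')) = 0 := by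
        intro j
        rw [← assoc, ← hι₂, assoc, Preadditive.comp_sub, ha'', ← assoc m₂, e₂, sub_self, comp_zero]
      have h3 := fun j => Triangle.yoneda_exact₃ (T j) (hT j) _ (h2 j)
      choose b hb using h3
      obtain ⟨β, hβ⟩ := sh_desc (fun j => (T j).obj₁) b
      have h4 : a - h₃ ≫ a' = m₃ ≫ β := by
        apply Sigma.hom_ext
        intro j
        rw [hb j, ← assoc, hι₃, assoc, hβ]
      refine ⟨a' + f₃ ≫ β, ?_⟩
      show h₃ ≫ (a' + f₃ ≫ β) = a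
      rw [Preadditive.comp_add, ← assoc, ← e₃, ← h4, add_sub_cancel]
  let φ' : Triangle.mk f₁ m₂ m₃ ⟶ Triangle.mk f₁ f₂ f₃ :=
    Triangle.homMk _ _ (𝟙 _) (𝟙 _) h₃
      ((comp_id _).trans (id_comp _).symm)
      (e₂.trans (id_comp _).symm)
      (by
        show m₃ ≫ (shiftFunctor D (1:ℤ)).map (𝟙 _) = h₃ ≫ f₃
        rw [CategoryTheory.Functor.map_id, comp_id]
        exact e₃)
  haveI : IsIso φ'.hom₁ := by
    show IsIso (𝟙 _)
    infer_instance
  haveI : IsIso φ'.hom₂ := by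
    show IsIso (𝟙 _)
    infer_instance
  haveI : IsIso φ'.hom₃ := hiso
  haveI : IsIso φ' := Triangle.isIso_of_isIsos φ' inferInstance inferInstance inferInstance
  exact isomorphic_distinguished _ hT' _ (asIso φ')


open CategoryTheory.Pretriangulated in
/-- Let D be a pretriangulated category and (X_i → Y_i → Z_i → X_i⟦1⟧)_{i ∈ I} a family of distinguished
triangles. If the direct sums ⨁ X_i, ⨁ Y_i, ⨁ Z_i exist, then ⨁ X_i → ⨁ Y_i → ⨁ Z_i → (⨁ X_i)⟦1⟧ is
a distinguished triangle (the last map is induced by the composites Z_i → X_i⟦1⟧ → (⨁ X_i)⟦1⟧). -/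
theorem result {D : Type u} [Category.{v} D] [Preadditive D] [HasZeroObject D] [HasShift D ℤ]
    [∀ n : ℤ, (shiftFunctor D n).Additive] [Pretriangulated D]
    {J : Type w} (T : J → Triangle D) (hT : ∀ j, T j ∈ distinguishedTriangles)
    [HasCoproduct (fun j => (T j).obj₁)] [HasCoproduct (fun j => (T j).obj₂)] [HasCoproduct (fun j => (T j).obj₃)] :
    Triangle.mk (Limits.Sigma.map (fun j => (T j).mor₁)) (Limits.Sigma.map (fun j => (T j).mor₂))
      (Sigma.desc (fun j => (T j).mor₃ ≫ (shiftFunctor D (1 : ℤ)).map (Sigma.ι (fun j => (T j).obj₁) j))) ∈ distinguishedTriangles := by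
  exact coprod_dist T hT

end Groth.Agent.S6593
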