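import Groth.Statements.S6594
import Mathlib
-- import your own Groth.Agent.* helpers here

set_option autoImplicit false
universe v u
open CategoryTheory CategoryTheory.Limits
open CohDer

namespace Groth.Agent.S6594

open CategoryTheory.Pretriangulated in
/-- (1) ⇔ (3): let D be a pretriangulated category and f : X ⟶ Y a morphism. Then f has a kernel if and
only if f is isomorphic to a composite K ⊞ Z → Z → Z ⊞ Q of a projection and a coprojection for some
objects K, Z, Q. -/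
theorem result {D : Type u} [Category.{v} D] [Preadditive D] [HasZeroObject D] [HasShift D ℤ]
    [∀ n : ℤ, (shiftFunctor D n).Additive] [Pretriangulated D]
    {X Y : D} (f : X ⟶ Y) :
    HasKernel f ↔ ∃ (K Z Q : D) (e₁ : X ≅ K ⊞ Z) (e₂ : Y ≅ Z ⊞ Q),
      f = e₁.hom ≫ biprod.snd ≫ biprod.inl ≫ e₂.inv := by
  constructor
  · intro hK
    obtain ⟨Z, p, h, hT⟩ := distinguished_cocone_triangle (kernel.ι f)
    have hz : (Triangle.mk (kernel.ι f) p h).mor₃ = 0 :=
      Triangle.mor₃_eq_zero_of_mono₁ _ hT (show Mono (kernel.ι f) from inferInstance)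
    obtain ⟨e₁, he₁, he₁'⟩ : ∃ e₁ : X ≅ kernel f ⊞ Z, kernel.ι f ≫ e₁.hom = biprod.inl ∧
        p = e₁.hom ≫ biprod.snd := exists_iso_binaryBiproduct_of_distTriang _ hT hz
    obtain ⟨f', hf'⟩ : ∃ f' : Z ⟶ Y, f = p ≫ f' :=
      Triangle.yoneda_exact₂ _ hT f (kernel.condition f)
    have hkp : kernel.ι f ≫ p = 0 := comp_distTriang_mor_zero₁₂ _ hT
    have hsp : (biprod.inr ≫ e₁.inv) ≫ p = 𝟙 Z := by
      rw [he₁']
      simp
    have hmono : Mono f' := by
      apply Preadditive.mono_of_cancel_zero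
      intro W t ht
      have h0 : (t ≫ biprod.inr ≫ e₁.inv) ≫ f = 0 := by
        calc (t ≫ biprod.inr ≫ e₁.inv) ≫ f = (t ≫ biprod.inr ≫ e₁.inv) ≫ (p ≫ f') := by
              rw [← hf']
          _ = t ≫ ((biprod.inr ≫ e₁.inv) ≫ p) ≫ f' := by simp only [Category.assoc]
          _ = 0 := by rw [hsp, Category.id_comp, ht]
      have h4 : kernel.lift f (t ≫ biprod.inr ≫ e₁.inv) h0 ≫ kernel.ι f = t ≫ biprod.inr ≫ e₁.inv :=
        kernel.lift_ι _ _ _
      calc t = t ≫ (biprod.inr ≫ e₁.inv) ≫ p := by rw [hsp, Category.comp_id]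
        _ = (t ≫ biprod.inr ≫ e₁.inv) ≫ p := by simp only [Category.assoc]
        _ = (kernel.lift f (t ≫ biprod.inr ≫ e₁.inv) h0 ≫ kernel.ι f) ≫ p := by rw [h4]
        _ = 0 := by rw [Category.assoc, hkp, Limits.comp_zero]
    obtain ⟨Q, g, h', hT'⟩ := distinguished_cocone_triangle f'
    have hz' : (Triangle.mk f' g h').mor₃ = 0 :=
      Triangle.mor₃_eq_zero_of_mono₁ _ hT' (show Mono f' from hmono)
    obtain ⟨e₂, he₂, -⟩ : ∃ e₂ : Y ≅ Z ⊞ Q, f' ≫ e₂.hom = biprod.inl ∧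
        g = e₂.hom ≫ biprod.snd := exists_iso_binaryBiproduct_of_distTriang _ hT' hz'
    refine ⟨kernel f, Z, Q, e₁, e₂, ?_⟩
    have h5 : f' = biprod.inl ≫ e₂.inv := by
      rw [← he₂, Category.assoc, Iso.hom_inv_id, Category.comp_id]
    calc f = p ≫ f' := hf'
      _ = (e₁.hom ≫ biprod.snd) ≫ (biprod.inl ≫ e₂.inv) := by rw [← he₁', ← h5]
      _ = _ := by rw [Category.assoc]
  · rintro ⟨K, Z, Q, e₁, e₂, rfl⟩
    infer_instance

end Groth.Agent.S6594
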