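import Groth.Statements.S6596
import Mathlib
import Groth.Agent.Lib.lead.Van
-- import your own Groth.Agent.* helpers here

set_option autoImplicit false
universe v u
open CategoryTheory CategoryTheory.Limits
open CohDer

namespace Groth.Agent.S6596
open CategoryTheory.Pretriangulated Groth.Agent.Lib.Van

theorem dep_choice {α : ℕ → Type*} (dflt : ∀ k, α k) (A : ∀ k, α k → Prop)
    (R : ∀ k, α k → α (k + 1) → Prop) (n : ℕ) (x₀ : α 0) (h₀ : A 0 x₀)
    (step : ∀ k, k < n → ∀ x : α k, A k x → ∃ x' : α (k + 1), A (k + 1) x' ∧ R k x x') :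
    ∃ f : ∀ k, α k, (∀ k, k ≤ n → A k (f k)) ∧ ∀ k, k < n → R k (f k) (f (k + 1)) := by
  classical
  let g : ∀ k, {x : α k // k ≤ n → A k x} := fun k =>
    Nat.rec (motive := fun k => {x : α k // k ≤ n → A k x})
      ⟨x₀, fun _ => h₀⟩
      (fun k gk => if h : k < n then
          ⟨Classical.choose (step k h gk.1 (gk.2 h.le)),
            fun _ => (Classical.choose_spec (step k h gk.1 (gk.2 h.le))).1⟩
        else ⟨dflt (k + 1), fun h' => absurd h' (by omega)⟩) k
  refine ⟨fun k => (g k).1, fun k hk => (g k).2 hk, fun k hk => ?_⟩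
  have hg : g (k + 1) = ⟨Classical.choose (step k hk (g k).1 ((g k).2 hk.le)),
      fun _ => (Classical.choose_spec (step k hk (g k).1 ((g k).2 hk.le))).1⟩ := by
    show (if h : k < n then _ else _) = _
    rw [dif_pos hk]
  show R k (g k).1 (g (k + 1)).1
  rw [hg]
  exact (Classical.choose_spec (step k hk (g k).1 ((g k).2 hk.le))).2


open CategoryTheory.Pretriangulated in
/-- Let D be a triangulated category and φ : X ⟶ X' a morphism of chain complexes in D considered in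
degrees ≤ n, where a Postnikov system for the complex X_n → … → X_0 consists of objects Y_k, an
isomorphism Y_0 ⟶ X_0, and for 0 ≤ k < n distinguished triangles Y_{k+1} ⟶ X_{k+1} ⟶ Y_k ⟶
Y_{k+1}⟦1⟧ with X_{k+1} ⟶ Y_k ⟶ X_k the differential. Suppose X and X' carry Postnikov systems (Y,
a, b, c) and (Y', a', b', c'). If Hom(X_i⟦i - j - 1⟧, X'_j) = 0 for all j + 1 < i ≤ n, then φ
extends to a morphism of Postnikov systems: morphisms y_k : Y_k ⟶ Y'_k for k ≤ n forming, with the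
φ_k, morphisms of the distinguished triangles and compatible with Y_0 ⟶ X_0 and Y'_0 ⟶ X'_0. -/
theorem result {D : Type u} [Category.{v} D] [Preadditive D] [HasZeroObject D] [HasShift D ℤ]
    [∀ n : ℤ, (shiftFunctor D n).Additive] [Pretriangulated D] [IsTriangulated D]
    (X X' : ChainComplex D ℕ) (φ : X ⟶ X') (n : ℕ)
    (Y : ℕ → D) (a : ∀ k, Y k ⟶ X.X k) (b : ∀ k, X.X (k + 1) ⟶ Y k)
    (c : ∀ k, Y k ⟶ (shiftFunctor D (1 : ℤ)).obj (Y (k + 1)))
    (h0 : IsIso (a 0))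
    (hP : ∀ k, k < n → Triangle.mk (a (k + 1)) (b k) (c k) ∈ distinguishedTriangles ∧ b k ≫ a k = X.d (k + 1) k)
    (qY : ℕ → D) (qa : ∀ k, qY k ⟶ X'.X k) (qb : ∀ k, X'.X (k + 1) ⟶ qY k)
    (qc : ∀ k, qY k ⟶ (shiftFunctor D (1 : ℤ)).obj (qY (k + 1)))
    (qh0 : IsIso (qa 0))
    (qhP : ∀ k, k < n → Triangle.mk (qa (k + 1)) (qb k) (qc k) ∈ distinguishedTriangles ∧ qb k ≫ qa k = X'.d (k + 1) k)
    (hX : ∀ i j : ℕ, j + 1 < i → i ≤ n → ∀ ψ : (shiftFunctor D ((i : ℤ) - j - 1)).obj (X.X i) ⟶ X'.X j, ψ = 0) :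
    ∃ y : ∀ k, Y k ⟶ qY k,
      (∀ k, k ≤ n → y k ≫ qa k = a k ≫ φ.f k) ∧
      (∀ k, k < n → b k ≫ y k = φ.f (k + 1) ≫ qb k ∧ c k ≫ (shiftFunctor D (1 : ℤ)).map (y (k + 1)) = y k ≫ qc k) := by
  classical
  have vanX : ∀ i j : ℕ, j + 1 < i → i ≤ n → Van (X.X i) (X'.X j) ((i : ℤ) - (j : ℤ) - 1) := by
    intro i j h1 h2
    exact van_of_spec ((shiftFunctor D ((i : ℤ) - (j : ℤ) - 1)).obj (X.X i)) (X'.X j)
      ((i : ℤ) - (j : ℤ) - 1) 0 (Iso.refl _) ((shiftFunctorZero D ℤ).symm.app _) (by omega)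
      (hX i j h1 h2)
  have hG : ∀ kk, kk < n → ∀ m, m < kk →
      Van (X.X (kk + 1)) (qY m) ((kk : ℤ) - (m : ℤ)) := by
    intro kk hkk m
    induction m with
    | zero =>
      intro hm
      have h := (vanX (kk + 1) 0 (by omega) (by omega)).cast
        (show (((kk + 1 : ℕ) : ℤ) - ((0 : ℕ) : ℤ) - 1) = ((kk : ℤ) - ((0 : ℕ) : ℤ)) by
          push_cast; ring)
      haveI := qh0
      exact h.of_iso_right (asIso (qa 0)).symm
    | succ m ih =>
      intro hm
      have hT := (qhP m (by omega)).1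
      have h₂ : Van (X.X (kk + 1)) (X'.X (m + 1)) ((kk : ℤ) - ((m + 1 : ℕ) : ℤ)) :=
        (vanX (kk + 1) (m + 1) (by omega) (by omega)).cast (by push_cast; ring)
      have h₃ : Van (X.X (kk + 1)) (qY m) (((kk : ℤ) - ((m + 1 : ℕ) : ℤ)) + 1) :=
        (ih (by omega)).cast (by push_cast; ring)
      exact van_tgt_obj₁ (Triangle.mk (qa (m + 1)) (qb m) (qc m)) hT h₂ h₃
  refine dep_choice (α := fun k => Y k ⟶ qY k) (fun k => 0)
    (fun k y => y ≫ qa k = a k ≫ φ.f k)
    (fun k y y' => b k ≫ y = φ.f (k + 1) ≫ qb k ∧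
      c k ≫ (shiftFunctor D (1 : ℤ)).map y' = y ≫ qc k) n
    (haveI := qh0; a 0 ≫ φ.f 0 ≫ inv (qa 0)) ?_ ?_
  · haveI := qh0
    simp
  · intro k hk yk hA
    -- (B_k)
    have hδ : (b k ≫ yk - φ.f (k + 1) ≫ qb k) ≫ qa k = 0 := by
      rw [Preadditive.sub_comp, Category.assoc, Category.assoc, hA, (qhP k hk).2,
        ← Category.assoc, (hP k hk).2, φ.comm, sub_self]
    have hB : b k ≫ yk = φ.f (k + 1) ≫ qb k := by
      rw [← sub_eq_zero]
      cases k with
      | zero =>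
        haveI := qh0
        exact (cancel_mono (qa 0)).1 (by rw [hδ, zero_comp])
      | succ k' =>
        have hqT := (qhP k' (by omega)).1
        have h3 : (shiftFunctor D (1 : ℤ)).map (b (k' + 1) ≫ yk - φ.f (k' + 1 + 1) ≫ qb (k' + 1)) ≫
            (shiftFunctor D (1 : ℤ)).map (qa (k' + 1)) = 0 := by
          rw [← Functor.map_comp, hδ, Functor.map_zero]
        obtain ⟨g₂, hg₂⟩ : ∃ g₂ : (shiftFunctor D (1 : ℤ)).obj (X.X (k' + 1 + 1)) ⟶ qY k',
            (shiftFunctor D (1 : ℤ)).map (b (k' + 1) ≫ yk - φ.f (k' + 1 + 1) ≫ qb (k' + 1)) =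
              g₂ ≫ qc k' :=
          Pretriangulated.Triangle.coyoneda_exact₁ _ hqT _ h3
        have hg₂0 : g₂ = 0 :=
          (hG (k' + 1) hk k' (by omega)).apply 1 0 (Iso.refl _)
            ((shiftFunctorZero D ℤ).symm.app _) (by push_cast; ring) g₂
        apply (shiftFunctor D (1 : ℤ)).map_injective
        rw [hg₂, hg₂0, Functor.map_zero]
        exact zero_comp
    have hT := (hP k hk).1
    have hqT := (qhP k hk).1
    have hrot := rot_of_distTriang _ hT
    have hqrot := rot_of_distTriang _ hqT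
    obtain ⟨c', hc1, hc2⟩ : ∃ c' : (shiftFunctor D (1 : ℤ)).obj (Y (k + 1)) ⟶
        (shiftFunctor D (1 : ℤ)).obj (qY (k + 1)),
        c k ≫ c' = yk ≫ qc k ∧
        (-(shiftFunctor D (1 : ℤ)).map (a (k + 1))) ≫ (shiftFunctor D (1 : ℤ)).map (φ.f (k + 1)) =
          c' ≫ (-(shiftFunctor D (1 : ℤ)).map (qa (k + 1))) :=
      complete_distinguished_triangle_morphism _ _ hrot hqrot (φ.f (k + 1)) yk hB
    obtain ⟨y', hy'⟩ := (shiftFunctor D (1 : ℤ)).map_surjective c'
    refine ⟨y', ?_, hB, ?_⟩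
    · apply (shiftFunctor D (1 : ℤ)).map_injective
      rw [Functor.map_comp, Functor.map_comp, hy']
      rw [Preadditive.neg_comp, Preadditive.comp_neg, neg_inj] at hc2
      exact hc2.symm
    · rw [hy']
      exact hc1

end Groth.Agent.S6596
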