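import Groth.Statements.S6597
import Mathlib
-- import your own Groth.Agent.* helpers here

set_option autoImplicit false
universe v u
open CategoryTheory CategoryTheory.Limits
open CohDer

namespace Groth.Agent.S6597
open CategoryTheory.Pretriangulated


open CategoryTheory.Pretriangulated in
/-- Let D be a triangulated category, φ : X ⟶ X' a morphism of chain complexes in D considered in
degrees ≤ n, where a Postnikov system for the complex X_n → … → X_0 consists of objects Y_k, an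
isomorphism Y_0 ⟶ X_0, and for 0 ≤ k < n distinguished triangles Y_{k+1} ⟶ X_{k+1} ⟶ Y_k ⟶
Y_{k+1}⟦1⟧ with X_{k+1} ⟶ Y_k ⟶ X_k the differential; let (Y, a, b, c) and (Y', a', b', c') be
Postnikov systems for X and X'. If Hom(X_i⟦i⟧, Y'_n⟦n⟧) = 0 for i = 1, …, n, then two morphisms of
Postnikov systems extending φ agree on Y_n. (The published statement says there is at most one
morphism of Postnikov systems; the argument, by induction along Y_0 → Y_1⟦1⟧ → … → Y_n⟦n⟧,
determines the component in degree n, which is what is asserted here.) -/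
theorem result {D : Type u} [Category.{v} D] [Preadditive D] [HasZeroObject D] [HasShift D ℤ]
    [∀ n : ℤ, (shiftFunctor D n).Additive] [Pretriangulated D] [IsTriangulated D]
    (X X' : ChainComplex D ℕ) (φ : X ⟶ X') (n : ℕ)
    (Y : ℕ → D) (a : ∀ k, Y k ⟶ X.X k) (b : ∀ k, X.X (k + 1) ⟶ Y k)
    (c : ∀ k, Y k ⟶ (shiftFunctor D (1 : ℤ)).obj (Y (k + 1)))
    (h0 : IsIso (a 0))
    (hP : ∀ k, k < n → Triangle.mk (a (k + 1)) (b k) (c k) ∈ distinguishedTriangles ∧ b k ≫ a k = X.d (k + 1) k)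
    (qY : ℕ → D) (qa : ∀ k, qY k ⟶ X'.X k) (qb : ∀ k, X'.X (k + 1) ⟶ qY k)
    (qc : ∀ k, qY k ⟶ (shiftFunctor D (1 : ℤ)).obj (qY (k + 1)))
    (qh0 : IsIso (qa 0))
    (qhP : ∀ k, k < n → Triangle.mk (qa (k + 1)) (qb k) (qc k) ∈ distinguishedTriangles ∧ qb k ≫ qa k = X'.d (k + 1) k)
    (hv : ∀ i : ℕ, 1 ≤ i → i ≤ n → ∀ ψ : (shiftFunctor D (i : ℤ)).obj (X.X i) ⟶ (shiftFunctor D (n : ℤ)).obj (qY n), ψ = 0)
    (y z : ∀ k, Y k ⟶ qY k)
    (hy : (∀ k, k ≤ n → y k ≫ qa k = a k ≫ φ.f k) ∧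
      (∀ k, k < n → b k ≫ y k = φ.f (k + 1) ≫ qb k ∧ c k ≫ (shiftFunctor D (1 : ℤ)).map (y (k + 1)) = y k ≫ qc k))
    (hz : (∀ k, k ≤ n → z k ≫ qa k = a k ≫ φ.f k) ∧
      (∀ k, k < n → b k ≫ z k = φ.f (k + 1) ≫ qb k ∧ c k ≫ (shiftFunctor D (1 : ℤ)).map (z (k + 1)) = z k ≫ qc k)) :
    y n = z n := by
  classical
  -- the difference
  have hw0 : y 0 - z 0 = 0 := by
    haveI := qh0
    have h1 := hy.1 0 (Nat.zero_le n)
    have h2 := hz.1 0 (Nat.zero_le n)
    have h3 : y 0 ≫ qa 0 = z 0 ≫ qa 0 := by rw [h1, h2]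
    rw [sub_eq_zero]
    exact (cancel_mono (qa 0)).1 h3
  have hwc : ∀ k, k < n → c k ≫ (shiftFunctor D (1 : ℤ)).map (y (k + 1) - z (k + 1)) =
      (y k - z k) ≫ qc k := by
    intro k hk
    rw [Functor.map_sub, Preadditive.comp_sub, Preadditive.sub_comp, (hy.2 k hk).2, (hz.2 k hk).2]
  -- the isomorphisms e k
  have he : ∀ k : ℕ, (1 : ℤ) + (k : ℤ) = ((k + 1 : ℕ) : ℤ) := fun k => by push_cast; ring
  -- injectivity step
  have hinj : ∀ k, k < n → ∀ ψ₁ : (shiftFunctor D (k : ℤ)).obj ((shiftFunctor D (1 : ℤ)).obj (Y (k + 1))) ⟶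
      (shiftFunctor D (n : ℤ)).obj (qY n),
      (shiftFunctor D (k : ℤ)).map (c k) ≫ ψ₁ = 0 → ψ₁ = 0 := by
    intro k hk ψ₁ h
    obtain ⟨hdist, -⟩ := hP k hk
    let θ := (shiftFunctor D (k : ℤ)).objObjPreimageIso ((shiftFunctor D (n : ℤ)).obj (qY n))
    obtain ⟨ψ₀, hψ₀⟩ := (shiftFunctor D (k : ℤ)).map_surjective (ψ₁ ≫ θ.inv)
    have h1 : c k ≫ ψ₀ = 0 := by
      apply (shiftFunctor D (k : ℤ)).map_injective
      rw [Functor.map_comp, hψ₀, ← Category.assoc, h, zero_comp, Functor.map_zero]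
    have hrot := rot_of_distTriang _ hdist
    obtain ⟨g, hg⟩ := Pretriangulated.Triangle.yoneda_exact₃ _ hrot ψ₀ h1
    have hg0 : g = 0 := by
      have h2 := hv (k + 1) (by omega) (by omega)
        ((shiftFunctorAdd' D (1 : ℤ) (k : ℤ) ((k + 1 : ℕ) : ℤ) (he k)).hom.app (X.X (k + 1)) ≫
          (shiftFunctor D (k : ℤ)).map g ≫ θ.hom)
      have h3 : (shiftFunctor D (k : ℤ)).map g ≫ θ.hom = 0 := by
        have h3' := congrArg (fun t =>
          (shiftFunctorAdd' D (1 : ℤ) (k : ℤ) ((k + 1 : ℕ) : ℤ) (he k)).inv.app (X.X (k + 1)) ≫ t) h2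
        rw [Iso.inv_hom_id_app_assoc, comp_zero] at h3'
        exact h3'
      have h4 : (shiftFunctor D (k : ℤ)).map g = 0 := by
        have h4' := congrArg (fun t => t ≫ θ.inv) h3
        simpa using h4'
      exact (shiftFunctor D (k : ℤ)).map_injective (by rw [h4, Functor.map_zero])
    have hψ₀0 : ψ₀ = 0 := by
      rw [hg, hg0]
      exact comp_zero
    have h5 : ψ₁ ≫ θ.inv = 0 := by rw [← hψ₀, hψ₀0, Functor.map_zero]
    have h6 := congrArg (fun t => t ≫ θ.hom) h5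
    simpa using h6
  -- main induction
  have hR : ∀ k, k ≤ n → ∀ ψ' : (shiftFunctor D (k : ℤ)).obj (qY k) ⟶ (shiftFunctor D (n : ℤ)).obj (qY n),
      (shiftFunctor D (k : ℤ)).map (y k - z k) ≫ ψ' = 0 := by
    intro k
    induction k with
    | zero =>
      intro _ ψ'
      rw [hw0, Functor.map_zero, zero_comp]
    | succ k ih =>
      intro hk ψ'
      have hk' : k < n := by omega
      have ihk := ih (by omega)
      have hnat := (shiftFunctorAdd' D (1 : ℤ) (k : ℤ) ((k + 1 : ℕ) : ℤ) (he k)).inv.naturality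
        (y (k + 1) - z (k + 1))
      have key : (shiftFunctorAdd' D (1 : ℤ) (k : ℤ) ((k + 1 : ℕ) : ℤ) (he k)).inv.app (Y (k + 1)) ≫
          (shiftFunctor D ((k + 1 : ℕ) : ℤ)).map (y (k + 1) - z (k + 1)) ≫ ψ' = 0 := by
        apply hinj k hk'
        rw [← Category.assoc, ← Category.assoc]
        rw [Category.assoc ((shiftFunctor D (k : ℤ)).map (c k))]
        rw [← hnat]
        rw [Functor.comp_map, ← Category.assoc ((shiftFunctor D (k : ℤ)).map (c k)),
          ← Functor.map_comp, hwc k hk', Functor.map_comp, Category.assoc, Category.assoc]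
        exact ihk _
      have h7 := congrArg (fun t =>
        (shiftFunctorAdd' D (1 : ℤ) (k : ℤ) ((k + 1 : ℕ) : ℤ) (he k)).hom.app (Y (k + 1)) ≫ t) key
      simpa using h7
  have hfin := hR n le_rfl (𝟙 _)
  rw [Category.comp_id] at hfin
  have hfin' : y n - z n = 0 :=
    (shiftFunctor D (n : ℤ)).map_injective (by rw [hfin, Functor.map_zero])
  exact sub_eq_zero.1 hfin'

end Groth.Agent.S6597
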