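import Groth.Statements.S6600
import Mathlib.CategoryTheory.Triangulated.Orthogonal
-- import your own Groth.Agent.* helpers here

set_option autoImplicit false
universe v u
open CategoryTheory CategoryTheory.Limits
open CohDer

namespace Groth.Agent.S6600

open CategoryTheory.Pretriangulated in
/-- Let D be a triangulated category, A ⊂ D a full subcategory invariant under all shifts, and X → Y → Z
→ X⟦1⟧ a distinguished triangle. Then Z lies in the right orthogonal A^⊥ if and only if Hom(A, X) →
Hom(A, Y) is bijective for every object A of A. -/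
theorem result {D : Type u} [Category.{v} D] [Preadditive D] [HasZeroObject D] [HasShift D ℤ]
    [∀ n : ℤ, (shiftFunctor D n).Additive] [Pretriangulated D] [IsTriangulated D]
    (P : ObjectProperty D) [P.IsStableUnderShift ℤ] (T : Triangle D) (hT : T ∈ distinguishedTriangles) :
    P.rightOrthogonal T.obj₃ ↔ ∀ A : D, P A → Function.Bijective (fun u : A ⟶ T.obj₁ => u ≫ T.mor₁) := by
  constructor
  · intro hZ A hA
    constructor
    · intro u₁ u₂ h
      have h0 : (u₁ - u₂) ≫ T.invRotate.mor₂ = 0 := by
        change (u₁ - u₂) ≫ T.mor₁ = 0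
        rw [Preadditive.sub_comp]
        exact sub_eq_zero.mpr h
      obtain ⟨v, hv⟩ := Triangle.coyoneda_exact₂ _ (inv_rot_of_distTriang _ hT) (u₁ - u₂) h0
      have hZ' : P.rightOrthogonal (T.invRotate.obj₁) := P.rightOrthogonal.le_shift (-1 : ℤ) _ hZ
      have hv0 : v = 0 := hZ' v hA
      rw [hv0, zero_comp] at hv
      exact sub_eq_zero.mp hv
    · intro w
      have hw : w ≫ T.mor₂ = 0 := hZ _ hA
      obtain ⟨u, hu⟩ := Triangle.coyoneda_exact₂ _ hT w hw
      exact ⟨u, hu.symm⟩
  · intro h A φ hA
    have hB : P (A⟦(-1 : ℤ)⟧) := P.le_shift (-1 : ℤ) _ hA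
    have step1 : φ ≫ T.mor₃ = 0 := by
      obtain ⟨k, hk⟩ := (shiftFunctor D (1 : ℤ)).map_surjective
        ((shiftNegShift A (1 : ℤ)).hom ≫ φ ≫ T.mor₃)
      have hk1 : k ≫ T.mor₁ = 0 := by
        apply (shiftFunctor D (1 : ℤ)).map_injective
        rw [Functor.map_comp, hk, Functor.map_zero, Category.assoc, Category.assoc,
          comp_distTriang_mor_zero₃₁ _ hT, comp_zero, comp_zero]
      have hk0 : k = 0 := (h _ hB).1 (by simpa using hk1)
      rw [hk0, Functor.map_zero] at hk
      have := hk.symm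
      rwa [← cancel_epi (shiftNegShift A (1 : ℤ)).hom, comp_zero]
    obtain ⟨w, hw⟩ := Triangle.coyoneda_exact₃ _ hT φ step1
    obtain ⟨u, hu⟩ := (h A hA).2 w
    simp only at hu
    rw [hw, ← hu, Category.assoc, comp_distTriang_mor_zero₁₂ _ hT, comp_zero]

end Groth.Agent.S6600
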