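import Groth.Statements.S6601
import Mathlib.CategoryTheory.Triangulated.Orthogonal
-- import your own Groth.Agent.* helpers here

set_option autoImplicit false
universe v u
open CategoryTheory CategoryTheory.Limits
open CohDer

namespace Groth.Agent.S6601

open CategoryTheory.Pretriangulated in
/-- Let D be a triangulated category, B ⊂ D a full subcategory invariant under all shifts, and X → Y → Z
→ X⟦1⟧ a distinguished triangle. Then X lies in the left orthogonal ^⊥B if and only if Hom(Z, B) →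
Hom(Y, B) is bijective for every object B of B. -/
theorem result {D : Type u} [Category.{v} D] [Preadditive D] [HasZeroObject D] [HasShift D ℤ]
    [∀ n : ℤ, (shiftFunctor D n).Additive] [Pretriangulated D] [IsTriangulated D]
    (P : ObjectProperty D) [P.IsStableUnderShift ℤ] (T : Triangle D) (hT : T ∈ distinguishedTriangles) :
    P.leftOrthogonal T.obj₁ ↔ ∀ B : D, P B → Function.Bijective (fun u : T.obj₃ ⟶ B => T.mor₂ ≫ u) := by
  constructor
  · intro hX B hB
    constructor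
    · intro u₁ u₂ h
      have h0 : T.mor₂ ≫ (u₁ - u₂) = 0 := by
        rw [Preadditive.comp_sub]
        exact sub_eq_zero.mpr h
      obtain ⟨v, hv⟩ := Triangle.yoneda_exact₃ _ hT (u₁ - u₂) h0
      have hX' : P.leftOrthogonal (T.obj₁⟦(1 : ℤ)⟧) := P.leftOrthogonal.le_shift (1 : ℤ) _ hX
      have hv0 : v = 0 := hX' v hB
      rw [hv0, comp_zero] at hv
      exact sub_eq_zero.mp hv
    · intro w
      have hw : T.mor₁ ≫ w = 0 := hX _ hB
      obtain ⟨u, hu⟩ := Triangle.yoneda_exact₂ _ hT w hw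
      exact ⟨u, hu.symm⟩
  · intro h B φ hB
    have hB' : P (B⟦(1 : ℤ)⟧) := P.le_shift (1 : ℤ) _ hB
    have step1 : T.mor₃ ≫ φ⟦(1 : ℤ)⟧' = 0 := by
      apply (h _ hB').1
      simp only
      rw [← Category.assoc, comp_distTriang_mor_zero₂₃ _ hT, zero_comp, comp_zero]
    obtain ⟨g', hg''⟩ : ∃ g' : T.obj₂⟦(1 : ℤ)⟧ ⟶ B⟦(1 : ℤ)⟧,
        φ⟦(1 : ℤ)⟧' = (-T.mor₁⟦(1 : ℤ)⟧') ≫ g' :=
      Triangle.yoneda_exact₃ _ (rot_of_distTriang _ hT) (φ⟦(1 : ℤ)⟧') step1
    obtain ⟨w, hw⟩ : ∃ w : T.obj₂ ⟶ B, w⟦(1 : ℤ)⟧' = g' :=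
      (shiftFunctor D (1 : ℤ)).map_surjective g'
    have hφ : φ = T.mor₁ ≫ (-w) := by
      apply (shiftFunctor D (1 : ℤ)).map_injective
      rw [hg'', ← hw, Functor.map_comp, Functor.map_neg, Preadditive.comp_neg, Preadditive.neg_comp]
    obtain ⟨u, hu⟩ := (h B hB).2 (-w)
    simp only at hu
    rw [hφ, ← hu, ← Category.assoc, comp_distTriang_mor_zero₁₂ _ hT, zero_comp]

end Groth.Agent.S6601
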