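import Groth.Statements.S6602
import Mathlib
-- import your own Groth.Agent.* helpers here

set_option autoImplicit false
universe v u
open CategoryTheory CategoryTheory.Limits CategoryTheory.Pretriangulated
open CohDer

namespace Groth.Agent.S6602

open CategoryTheory.Pretriangulated in
/-- (1) ⇔ (2): let D be a triangulated category and B a full triangulated subcategory. The inclusion
functor B → D has a left adjoint if and only if for every X in D there is a distinguished triangle A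
→ X → B → A⟦1⟧ with B in B and A in the left orthogonal ^⊥B. (The published statement further
asserts that B is then saturated and, when strictly full, equals the right orthogonal of its left
orthogonal; this row asserts only the equivalence.) -/
theorem result {D : Type u} [Category.{v} D] [Preadditive D] [HasZeroObject D] [HasShift D ℤ]
    [∀ n : ℤ, (shiftFunctor D n).Additive] [Pretriangulated D] [IsTriangulated D]
    (P : ObjectProperty D) [P.IsTriangulated] :
    P.ι.IsRightAdjoint ↔ ∀ X : D, ∃ (A B : D) (f : A ⟶ X) (g : X ⟶ B) (h : B ⟶ (shiftFunctor D (1 : ℤ)).obj A),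
      Triangle.mk f g h ∈ distinguishedTriangles ∧ P B ∧ P.leftOrthogonal A := by
  constructor
  · intro hR X
    have := hR
    let L := P.ι.leftAdjoint
    let adj : L ⊣ P.ι := Adjunction.ofIsRightAdjoint P.ι
    obtain ⟨g, hg⟩ : ∃ g : X ⟶ (L.obj X).obj, g = adj.unit.app X := ⟨_, rfl⟩
    have hsurj : ∀ (Y : D) (hY : P Y) (ψ : X ⟶ Y), ∃ ψ' : (L.obj X).obj ⟶ Y, g ≫ ψ' = ψ := by
      intro Y hY ψ
      refine ⟨((adj.homEquiv X ⟨Y, hY⟩).symm ψ).hom, ?_⟩
      have := (adj.homEquiv X ⟨Y, hY⟩).apply_symm_apply ψ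
      rw [Adjunction.homEquiv_unit] at this
      rw [hg]
      exact this
    have hinj : ∀ (Y : D) (hY : P Y) (a b : (L.obj X).obj ⟶ Y), g ≫ a = g ≫ b → a = b := by
      intro Y hY a b hab
      have h1 : adj.homEquiv X ⟨Y, hY⟩ (ObjectProperty.homMk a)
          = adj.homEquiv X ⟨Y, hY⟩ (ObjectProperty.homMk b) := by
        rw [Adjunction.homEquiv_unit, Adjunction.homEquiv_unit]
        rw [hg] at hab
        exact hab
      have h2 := (adj.homEquiv X ⟨Y, hY⟩).injective h1
      exact congrArg (fun t => t.hom) h2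
    obtain ⟨A, f, h, hT⟩ := distinguished_cocone_triangle₁ g
    refine ⟨A, (L.obj X).obj, f, g, h, hT, (L.obj X).property, ?_⟩
    rw [← P.leftOrthogonal.prop_shift_iff_of_isStableUnderShift A (1 : ℤ)]
    intro Y φ hY
    have hgh : g ≫ h = 0 := comp_distTriang_mor_zero₂₃ _ hT
    have hfg : f ≫ g = 0 := comp_distTriang_mor_zero₁₂ _ hT
    have h1 : h ≫ φ = 0 := by
      apply hinj Y hY
      rw [← Category.assoc, hgh, zero_comp, comp_zero]
    obtain ⟨ψ, hψ'⟩ : ∃ ψ : (shiftFunctor D (1 : ℤ)).obj X ⟶ Y,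
        φ = (-(shiftFunctor D (1 : ℤ)).map f) ≫ ψ :=
      Triangle.yoneda_exact₃ _ (rot_of_distTriang _ hT) φ h1
    have e : (shiftFunctor D (1 : ℤ)).obj ((shiftFunctor D (-1 : ℤ)).obj Y) ≅ Y :=
      (shiftFunctorCompIsoId D (-1 : ℤ) 1 (neg_add_cancel 1)).app Y
    obtain ⟨ψ₀, hψ₀⟩ := (shiftFunctor D (1 : ℤ)).map_surjective (ψ ≫ e.inv)
    obtain ⟨ψ₀', hψ₀'⟩ := hsurj _ (P.le_shift (-1 : ℤ) Y hY) ψ₀
    have hψe : ψ = (shiftFunctor D (1 : ℤ)).map ψ₀ ≫ e.hom := by
      rw [hψ₀, Category.assoc, Iso.inv_hom_id, Category.comp_id]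
    have hz : (shiftFunctor D (1 : ℤ)).map f ≫ (shiftFunctor D (1 : ℤ)).map g = 0 := by
      rw [← Functor.map_comp, hfg, Functor.map_zero]
    rw [hψ', hψe, ← hψ₀', Functor.map_comp, Category.assoc, Preadditive.neg_comp,
      reassoc_of% hz, zero_comp, neg_zero]
  · intro hX
    choose A B f g h hT hB hA using hX
    have hinj : ∀ (X : D) (Y : P.FullSubcategory), Function.Injective
        (fun φ : ((⟨B X, hB X⟩ : P.FullSubcategory) ⟶ Y) => (g X ≫ φ.hom : X ⟶ P.ι.obj Y)) := by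
      intro X Y φ₁ φ₂ h12
      dsimp only at h12
      have h0 : g X ≫ (φ₁.hom - φ₂.hom) = 0 := by rw [Preadditive.comp_sub, h12, sub_self]
      obtain ⟨γ, hγ⟩ := Triangle.yoneda_exact₃ _ (hT X) (φ₁.hom - φ₂.hom) h0
      have hA1 : P.leftOrthogonal ((shiftFunctor D (1 : ℤ)).obj (A X)) :=
        P.leftOrthogonal.le_shift (1 : ℤ) _ (hA X)
      have hγ0 : γ = 0 := hA1 γ Y.property
      rw [hγ0, comp_zero] at hγ
      exact P.hom_ext (sub_eq_zero.mp hγ)
    have hsurj : ∀ (X : D) (Y : P.FullSubcategory), Function.Surjective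
        (fun φ : ((⟨B X, hB X⟩ : P.FullSubcategory) ⟶ Y) => (g X ≫ φ.hom : X ⟶ P.ι.obj Y)) := by
      intro X Y ψ
      have h0 : f X ≫ ψ = 0 := hA X (f X ≫ ψ) Y.property
      obtain ⟨γ, hγ⟩ := Triangle.yoneda_exact₂ _ (hT X) ψ h0
      exact ⟨ObjectProperty.homMk γ, hγ.symm⟩
    let e : ∀ (X : D) (Y : P.FullSubcategory),
        ((⟨B X, hB X⟩ : P.FullSubcategory) ⟶ Y) ≃ (X ⟶ P.ι.obj Y) :=
      fun X Y => Equiv.ofBijective _ ⟨hinj X Y, hsurj X Y⟩
    have he : ∀ X Y Y' g' h', e X Y' (h' ≫ g') = e X Y h' ≫ P.ι.map g' := by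
      intro X Y Y' g' h'
      show g X ≫ (h' ≫ g').hom = (g X ≫ h'.hom) ≫ g'.hom
      rw [ObjectProperty.FullSubcategory.comp_hom, Category.assoc]
    exact (Adjunction.adjunctionOfEquivLeft e he).isRightAdjoint

end Groth.Agent.S6602
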