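import Groth.Statements.S6603
import Mathlib
-- import your own Groth.Agent.* helpers here

set_option autoImplicit false
universe v u v' u'
open CategoryTheory CategoryTheory.Limits
open CohDer

namespace Groth.Agent.S6603
open ZeroObject

lemma isZero_obj_iff {D : Type*} [Category D] [Preadditive D] (S : MorphismProperty D)
    [S.HasLeftCalculusOfFractions] {E : Type*} [Category E] (Q : D ⥤ E) [Q.IsLocalization S]
    (Z : D) : IsZero (Q.obj Z) ↔ ∃ (Z' : D), S (0 : Z ⟶ Z') := by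
  letI := Localization.preadditive Q S
  haveI := Localization.functor_additive Q S
  constructor
  · intro hZ
    have h1 : Q.map (𝟙 Z) = Q.map (0 : Z ⟶ Z) := hZ.eq_of_src _ _
    rw [MorphismProperty.map_eq_iff_postcomp Q S] at h1
    obtain ⟨W, s, hs, hs'⟩ := h1
    have hs0 : s = 0 := by simpa using hs'
    subst hs0
    exact ⟨W, hs⟩
  · rintro ⟨Z', hs⟩
    haveI : IsIso (Q.map (0 : Z ⟶ Z')) := Localization.inverts Q S _ hs
    rw [IsZero.iff_id_eq_zero]
    obtain ⟨j, hj⟩ : ∃ j, Q.map (0 : Z ⟶ Z') ≫ j = 𝟙 _ := ⟨inv _, IsIso.hom_inv_id _⟩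
    rw [← hj, Q.map_zero, zero_comp]

lemma isZero_obj_iff' {D : Type*} [Category D] [Preadditive D] (S : MorphismProperty D)
    [S.HasLeftCalculusOfFractions] [S.HasRightCalculusOfFractions]
    {E : Type*} [Category E] (Q : D ⥤ E) [Q.IsLocalization S]
    (Z : D) : IsZero (Q.obj Z) ↔ ∃ (Z' : D), S (0 : Z' ⟶ Z) := by
  letI := Localization.preadditive Q S
  haveI := Localization.functor_additive Q S
  constructor
  · intro hZ
    have h1 : Q.map (𝟙 Z) = Q.map (0 : Z ⟶ Z) := hZ.eq_of_src _ _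
    rw [MorphismProperty.map_eq_iff_precomp Q S] at h1
    obtain ⟨W, s, hs, hs'⟩ := h1
    have hs0 : s = 0 := by simpa using hs'
    subst hs0
    exact ⟨W, hs⟩
  · rintro ⟨Z', hs⟩
    haveI : IsIso (Q.map (0 : Z' ⟶ Z)) := Localization.inverts Q S _ hs
    rw [IsZero.iff_id_eq_zero]
    obtain ⟨j, hj⟩ : ∃ j, j ≫ Q.map (0 : Z' ⟶ Z) = 𝟙 _ := ⟨inv _, IsIso.inv_hom_id _⟩
    rw [← hj, Q.map_zero, comp_zero]

lemma isZero_of_retract {D E : Type*} [Category D] [Category E] [HasZeroMorphisms E]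
    (F : D ⥤ E) {Z Y : D} (i : Z ⟶ Y) (p : Y ⟶ Z) (h : i ≫ p = 𝟙 Z) (hY : IsZero (F.obj Y)) :
    IsZero (F.obj Z) := by
  rw [IsZero.iff_id_eq_zero, ← F.map_id, ← h, F.map_comp, hY.eq_of_tgt (F.map i) 0, zero_comp]

lemma isIso_map_iff_Q {D : Type*} [Category D] (S : MorphismProperty D)
    {E : Type*} [Category E] (Q : D ⥤ E) [Q.IsLocalization S] {X Y : D} (f : X ⟶ Y) :
    IsIso (Q.map f) ↔ IsIso (S.Q.map f) := by
  rw [← NatIso.isIso_map_iff (Localization.compUniqFunctor S.Q Q S) f]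
  show IsIso ((Localization.uniq S.Q Q S).functor.map (S.Q.map f)) ↔ _
  exact isIso_iff_of_reflects_iso _ _


open CategoryTheory.Pretriangulated in
/-- (1) ⇔ (2) ⇔ (3) ⇔ (4): let D be a pretriangulated category, S a multiplicative system compatible
with the triangulated structure, and Q : D → S⁻¹D the localization functor. For an object Z of D the
following are equivalent: (1) Q(Z) = 0; (2) 0 : Z ⟶ Z' is in S for some Z'; (3) 0 : Z' ⟶ Z is in S
for some Z'; (4) there are an object Z' and a distinguished triangle (X, Y, Z ⊞ Z', f, g, h) with f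
∈ S. (The further equivalences (5)–(7) for saturated S are not asserted.) -/
theorem result {D : Type u} [Category.{v} D] [Preadditive D] [HasZeroObject D] [HasShift D ℤ]
    [∀ n : ℤ, (shiftFunctor D n).Additive] [Pretriangulated D]
    (S : MorphismProperty D) [S.HasLeftCalculusOfFractions] [S.HasRightCalculusOfFractions]
    [S.IsCompatibleWithTriangulation]
    {E : Type u'} [Category.{v'} E] (Q : D ⥤ E) [Q.IsLocalization S] (Z : D) :
    (IsZero (Q.obj Z) ↔ ∃ Z' : D, S (0 : Z ⟶ Z')) ∧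
    (IsZero (Q.obj Z) ↔ ∃ Z' : D, S (0 : Z' ⟶ Z)) ∧
    (IsZero (Q.obj Z) ↔ ∃ (Z' X Y : D) (f : X ⟶ Y) (g : Y ⟶ Z ⊞ Z') (h : Z ⊞ Z' ⟶ (shiftFunctor D (1 : ℤ)).obj X),
      Triangle.mk f g h ∈ distinguishedTriangles ∧ S f) := by
  refine ⟨isZero_obj_iff S Q Z, isZero_obj_iff' S Q Z, ?_⟩
  constructor
  · intro hZ
    obtain ⟨W, hs⟩ := (isZero_obj_iff' S Q Z).1 hZ
    obtain ⟨C, g, h, hT⟩ := Pretriangulated.distinguished_cocone_triangle (0 : W ⟶ Z)
    have hrot := Pretriangulated.rot_of_distTriang _ hT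
    obtain ⟨e, -, -⟩ := Pretriangulated.exists_iso_binaryBiproduct_of_distTriang _ hrot
      (by show -(shiftFunctor D (1 : ℤ)).map (0 : W ⟶ Z) = 0; rw [Functor.map_zero, neg_zero])
    have e' : C ≅ Z ⊞ (shiftFunctor D (1 : ℤ)).obj W := e
    refine ⟨(shiftFunctor D (1 : ℤ)).obj W, W, Z, 0, g ≫ e'.hom, e'.inv ≫ h, ?_, hs⟩
    refine Pretriangulated.isomorphic_distinguished _ hT _
      (Pretriangulated.Triangle.isoMk _ _ (Iso.refl _) (Iso.refl _) e'.symm ?_ ?_ ?_)
    · show (0 : W ⟶ Z) ≫ 𝟙 Z = 𝟙 W ≫ 0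
      rw [zero_comp, comp_zero]
    · show (g ≫ e'.hom) ≫ e'.inv = 𝟙 Z ≫ g
      rw [Category.assoc, e'.hom_inv_id, Category.comp_id, Category.id_comp]
    · show (e'.inv ≫ h) ≫ (shiftFunctor D (1:ℤ)).map (𝟙 W) = e'.inv ≫ h
      rw [CategoryTheory.Functor.map_id, Category.comp_id]
  · rintro ⟨Z', X, Y, f, g, h, hT, hf⟩
    have hzero : ∀ Z, IsZero (Q.obj Z) ↔ IsZero (S.Q.obj Z) := fun Z =>
      (isZero_obj_iff S Q Z).trans (isZero_obj_iff S S.Q Z).symm
    rw [hzero]
    have hT' := S.Q.map_distinguished _ hT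
    haveI : IsIso (S.Q.map f) := Localization.inverts S.Q S f hf
    have h3 : IsZero (S.Q.obj (Z ⊞ Z')) :=
      (Pretriangulated.Triangle.isZero₃_iff_isIso₁ _ hT').2 (by
        show IsIso (S.Q.map f)
        infer_instance)
    exact isZero_of_retract S.Q biprod.inl biprod.fst biprod.inl_fst h3

end Groth.Agent.S6603
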