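import Groth.Statements.S6606
import Mathlib

set_option autoImplicit false
universe v u
open CategoryTheory CategoryTheory.Limits
open CohDer

namespace Groth.Agent.S6606

open CategoryTheory CategoryTheory.Limits in
theorem hom_zero_S6606 {A : Type u} [Category.{v} A] [Abelian A]
    (P K : CochainComplex A ℤ) (n b : ℤ) [P.IsStrictlyGE n] [P.IsStrictlyLE b] (hP : ∀ i : ℤ, Projective (P.X i))
    (hK : ∀ i : ℤ, n ≤ i → IsZero (K.homology i)) :
    (∀ φ : (HomotopyCategory.quotient A (ComplexShape.up ℤ)).obj P ⟶ (HomotopyCategory.quotient A (ComplexShape.up ℤ)).obj K, φ = 0) := by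
  letI := HasDerivedCategory.standard A
  suffices hh : (∀ φ : (HomotopyCategory.quotient A (ComplexShape.up ℤ)).obj P ⟶ (HomotopyCategory.quotient A (ComplexShape.up ℤ)).obj K, φ = 0) ∧
    (∀ φ : DerivedCategory.Q.obj P ⟶ DerivedCategory.Q.obj K, φ = 0) from hh.1
  haveI : ∀ i, Projective (P.X i) := hP
  haveI : P.IsKProjective := CochainComplex.isKProjective_of_projective P b
  haveI : K.IsLE (n - 1) := by
    rw [CochainComplex.isLE_iff]
    intro i hi
    rw [HomologicalComplex.exactAt_iff_isZero_homology]
    exact hK i (by omega)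
  haveI : QuasiIso (K.ιTruncLE (n - 1)) := (K.quasiIso_ιTruncLE_iff (n - 1)).2 inferInstance
  have hz : ∀ f : P ⟶ K.truncLE (n - 1), f = 0 := by
    intro f
    ext i
    by_cases hi : i < n
    · exact (P.isZero_of_isStrictlyGE n i hi).eq_of_src _ _
    · exact ((K.truncLE (n - 1)).isZero_of_isStrictlyLE (n - 1) i (by omega)).eq_of_tgt _ _
  let e := DerivedCategory.quotientCompQhIso A
  have hD : ∀ φ : DerivedCategory.Q.obj P ⟶ DerivedCategory.Q.obj K, φ = 0 := by
    intro φ
    obtain ⟨g, hg⟩ := (CochainComplex.IsKProjective.Qh_map_bijective P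
      ((HomotopyCategory.quotient _ _).obj (K.truncLE (n - 1)))).2
        (e.hom.app P ≫ φ ≫ inv (DerivedCategory.Q.map (K.ιTruncLE (n - 1))) ≫
          e.inv.app (K.truncLE (n - 1)))
    obtain ⟨f, rfl⟩ := (HomotopyCategory.quotient _ _).map_surjective g
    rw [hz f, Functor.map_zero, Functor.map_zero] at hg
    have h2 := congrArg (fun x => e.inv.app P ≫ x ≫ e.hom.app (K.truncLE (n - 1)) ≫
      DerivedCategory.Q.map (K.ιTruncLE (n - 1))) hg
    simp only [zero_comp, comp_zero, Category.assoc, Iso.inv_hom_id_app_assoc,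
      Iso.inv_hom_id_app, IsIso.inv_hom_id, Category.comp_id] at h2
    simpa using h2.symm
  refine ⟨fun φ => ?_, hD⟩
  apply (CochainComplex.IsKProjective.Qh_map_bijective P
      ((HomotopyCategory.quotient _ _).obj K)).1
  rw [Functor.map_zero]
  have h3 := hD (e.inv.app P ≫ DerivedCategory.Qh.map φ ≫ e.hom.app K)
  have h4 := congrArg (fun x => e.hom.app P ≫ x ≫ e.inv.app K) h3
  simp only [zero_comp, comp_zero, Category.assoc, Iso.hom_inv_id_app_assoc,
      Iso.hom_inv_id_app, Category.comp_id] at h4
  simpa using h4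

/-- Let A be an abelian category, β : P ⟶ L and α : E ⟶ L morphisms of cochain complexes and n an
integer. Assume P is a bounded complex of projective objects with Pⁱ = 0 for i < n, and that Hⁱ(α)
is an isomorphism for i > n and an epimorphism for i = n. Then there is γ : P ⟶ E such that γ ≫ α is
homotopic to β. -/
theorem result {A : Type u} [Category.{v} A] [Abelian A]
    (P E L : CochainComplex A ℤ) (β : P ⟶ L) (α : E ⟶ L) (n b : ℤ) [P.IsStrictlyGE n] [P.IsStrictlyLE b]
    (hP : ∀ i : ℤ, Projective (P.X i))
    (hiso : ∀ i : ℤ, n < i → IsIso (HomologicalComplex.homologyMap α i)) (hepi : Epi (HomologicalComplex.homologyMap α n)) :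
    ∃ γ : P ⟶ E, Nonempty (Homotopy (γ ≫ α) β) := by
  let F := HomotopyCategory.homologyFunctor A (ComplexShape.up ℤ) 0
  let T := CochainComplex.mappingCone.triangleh α
  have hT : T ∈ distTriang _ := HomotopyCategory.mappingCone_triangleh_distinguished α
  let e := fun i : ℤ => HomotopyCategory.homologyFunctorFactors A (ComplexShape.up ℤ) i
  have hnat : ∀ i : ℤ, (F.shift i).map T.mor₁ =
      (e i).hom.app E ≫ HomologicalComplex.homologyMap α i ≫ (e i).inv.app L := by
    intro i
    have h1 := (e i).hom.naturality α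
    have h2 : (F.shift i).map T.mor₁ ≫ (e i).hom.app L =
        (e i).hom.app E ≫ HomologicalComplex.homologyMap α i := h1
    exact ((Iso.eq_comp_inv ((e i).app L)).2 h2).trans (Category.assoc _ _ _)
  have hepi' : ∀ i : ℤ, n ≤ i → Epi (HomologicalComplex.homologyMap α i) := by
    intro i hi
    rcases eq_or_lt_of_le hi with h | h
    · subst h; exact hepi
    · haveI := hiso i h; infer_instance
  have hC : ∀ i : ℤ, n ≤ i → IsZero ((CochainComplex.mappingCone α).homology i) := by
    intro i hi
    haveI := hepi' i hi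
    haveI := hiso (i + 1) (by omega)
    have hE : Epi ((F.shift i).map T.mor₁) := by
      rw [hnat]
      have i1 : Epi ((e i).hom.app E) := inferInstance
      have i2 : Epi ((e i).inv.app L) := inferInstance
      have i3 : Epi (HomologicalComplex.homologyMap α i) := inferInstance
      exact epi_comp' i1 (epi_comp' i3 i2)
    have hM : Mono ((F.shift (i + 1)).map T.mor₁) := by
      rw [hnat]
      have i1 : Mono ((e (i + 1)).hom.app E) := inferInstance
      have i2 : Mono ((e (i + 1)).inv.app L) := inferInstance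
      have i3 : Mono (HomologicalComplex.homologyMap α (i + 1)) := inferInstance
      exact mono_comp' i1 (mono_comp' i3 i2)
    have b0 : (F.shift i).map T.mor₂ = 0 :=
      (F.homologySequence_epi_shift_map_mor₁_iff T hT i).1 hE
    have d0 : F.homologySequenceδ T i (i + 1) rfl = 0 :=
      (F.homologySequence_mono_shift_map_mor₁_iff T hT i (i + 1) rfl).1 hM
    have hz := (F.homologySequence_exact₃ T hT i (i + 1) rfl).isZero_of_both_zeros b0 d0
    exact IsZero.of_iso hz ((e i).app (CochainComplex.mappingCone α)).symm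
  have h0 := hom_zero_S6606 P (CochainComplex.mappingCone α) n b hP hC
    ((HomotopyCategory.quotient _ _).map β ≫ T.mor₂)
  obtain ⟨g, hg⟩ := Pretriangulated.Triangle.coyoneda_exact₂ T hT _ h0
  obtain ⟨γ, rfl⟩ := (HomotopyCategory.quotient _ _).map_surjective g
  refine ⟨γ, ⟨HomotopyCategory.homotopyOfEq _ _ ?_⟩⟩
  rw [Functor.map_comp]
  exact hg.symm

end Groth.Agent.S6606
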