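import Groth.Statements.S6607
import Mathlib
-- import your own Groth.Agent.* helpers here

set_option autoImplicit false
universe v u
open CategoryTheory CategoryTheory.Limits
open CohDer

namespace Groth.Agent.S6607
open CategoryTheory.Pretriangulated ObjectProperty in
lemma swap_le {D : Type u} [Category.{v} D] [Preadditive D] [HasZeroObject D] [HasShift D ℤ]
    [∀ n : ℤ, (shiftFunctor D n).Additive] [Pretriangulated D]
    (B : ObjectProperty D) [B.IsTriangulated] :
    extensionProduct B B.leftOrthogonal ≤ extensionProduct B.leftOrthogonal B := by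
  rintro X ⟨Y, A, f, g, h, hT, hY, hA⟩
  have h0 : h = 0 := hA h (B.le_shift (1 : ℤ) _ hY)
  obtain ⟨e, -, -⟩ := exists_iso_binaryBiproduct_of_distTriang _ hT h0
  have e' : X ≅ Y ⊞ A := e
  have h1 : extensionProduct B.leftOrthogonal B (A ⊞ Y) :=
    ⟨A, Y, biprod.inl, biprod.snd, 0, binaryBiproductTriangle_distinguished A Y, hA, hY⟩
  exact (extensionProduct B.leftOrthogonal B).prop_of_iso ((e' ≪≫ biprod.braiding _ _).symm) h1

open CategoryTheory.Pretriangulated ObjectProperty in
lemma sq_le {D : Type u} [Category.{v} D] [Preadditive D] [HasZeroObject D] [HasShift D ℤ]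
    [∀ n : ℤ, (shiftFunctor D n).Additive] [Pretriangulated D] [IsTriangulated D]
    (B : ObjectProperty D) [B.IsTriangulated] :
    extensionProduct (extensionProduct B.leftOrthogonal B) (extensionProduct B.leftOrthogonal B) ≤
      extensionProduct B.leftOrthogonal B := by
  have hLL : extensionProduct B.leftOrthogonal B.leftOrthogonal ≤ B.leftOrthogonal :=
    extensionProduct_le_of_isTriangulatedClosed₂ le_rfl le_rfl
  have hBB : extensionProduct B B ≤ B.isoClosure :=
    extensionProduct_le_of_isTriangulatedClosed₂' le_rfl le_rfl
  calc extensionProduct (extensionProduct B.leftOrthogonal B) (extensionProduct B.leftOrthogonal B)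
      = extensionProduct B.leftOrthogonal
          (extensionProduct B (extensionProduct B.leftOrthogonal B)) :=
        extensionProduct_assoc _ _ _
    _ = extensionProduct B.leftOrthogonal
          (extensionProduct (extensionProduct B B.leftOrthogonal) B) := by
        rw [extensionProduct_assoc B B.leftOrthogonal B]
    _ ≤ extensionProduct B.leftOrthogonal
          (extensionProduct (extensionProduct B.leftOrthogonal B) B) :=
        monotone_extensionProduct_right _ (monotone_extensionProduct_left _ (swap_le B))
    _ = extensionProduct B.leftOrthogonal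
          (extensionProduct B.leftOrthogonal (extensionProduct B B)) := by
        rw [extensionProduct_assoc B.leftOrthogonal B B]
    _ = extensionProduct (extensionProduct B.leftOrthogonal B.leftOrthogonal)
          (extensionProduct B B) := (extensionProduct_assoc _ _ _).symm
    _ ≤ extensionProduct B.leftOrthogonal B.isoClosure :=
        (monotone_extensionProduct_left _ hLL).trans (monotone_extensionProduct_right _ hBB)
    _ = extensionProduct B.leftOrthogonal B := extensionProduct_isoClosure_right _ _

open CategoryTheory.Pretriangulated ObjectProperty ZeroObject in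
lemma main {D : Type u} [Category.{v} D] [Preadditive D] [HasZeroObject D] [HasShift D ℤ]
    [∀ n : ℤ, (shiftFunctor D n).Additive] [Pretriangulated D] [IsTriangulated D]
    (B : ObjectProperty D) [B.IsTriangulated] :
    (extensionProduct B.leftOrthogonal B).IsTriangulated := by
  haveI : (extensionProduct B.leftOrthogonal B).ContainsZero :=
    ⟨⟨0, isZero_zero D, le_extensionProduct_left B _ (B.leftOrthogonal.prop_zero)⟩⟩
  haveI : (extensionProduct B.leftOrthogonal B).IsTriangulatedClosed₂ :=
    IsTriangulatedClosed₂.mk' (fun T hT h₁ h₃ => by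
      apply sq_le B
      exact ⟨T.obj₁, T.obj₃, T.mor₁, T.mor₂, T.mor₃, hT, h₁, h₃⟩)
  exact {}


open CategoryTheory.Pretriangulated in
/-- Let D be a triangulated category and B a full triangulated subcategory. Let P(X) be the property:
there is a distinguished triangle A → X → B → A⟦1⟧ with B in B and A in ^⊥B. Then P satisfies
two-out-of-three in distinguished triangles, i.e. it is stable under all shifts and closed under
extensions (a triangulated object property). -/
theorem result {D : Type u} [Category.{v} D] [Preadditive D] [HasZeroObject D] [HasShift D ℤ]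
    [∀ n : ℤ, (shiftFunctor D n).Additive] [Pretriangulated D] [IsTriangulated D]
    (B : ObjectProperty D) [B.IsTriangulated] :
    ObjectProperty.IsTriangulated (fun X : D => ∃ (A Y : D) (f : A ⟶ X) (g : X ⟶ Y) (h : Y ⟶ (shiftFunctor D (1 : ℤ)).obj A),
      Triangle.mk f g h ∈ distinguishedTriangles ∧ B Y ∧ B.leftOrthogonal A) := by
  have key : (fun X : D => ∃ (A Y : D) (f : A ⟶ X) (g : X ⟶ Y) (h : Y ⟶ (shiftFunctor D (1 : ℤ)).obj A),
      Triangle.mk f g h ∈ distinguishedTriangles ∧ B Y ∧ B.leftOrthogonal A) =
      ObjectProperty.extensionProduct B.leftOrthogonal B := by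
    funext X
    apply propext
    constructor
    · rintro ⟨A, Y, f, g, h, hT, hY, hA⟩
      exact ⟨A, Y, f, g, h, hT, hA, hY⟩
    · rintro ⟨A, Y, f, g, h, hT, hA, hY⟩
      exact ⟨A, Y, f, g, h, hT, hY, hA⟩
  rw [key]
  exact main B

end Groth.Agent.S6607
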