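import Groth.Statements.S6608
-- import your own Groth.Agent.* helpers here

set_option autoImplicit false
universe v u
open CategoryTheory CategoryTheory.Limits
open CohDer

namespace Groth.Agent.S6608

open CategoryTheory.Pretriangulated in
/-- Let D be a pretriangulated category and S a set of arrows of D containing the identities and
satisfying MS6 (compatibility with the triangulated structure; here together with stability under
shifts, MS5). Then every isomorphism of D lies in S. -/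
theorem result {D : Type u} [Category.{v} D] [Preadditive D] [HasZeroObject D] [HasShift D ℤ]
    [∀ n : ℤ, (shiftFunctor D n).Additive] [Pretriangulated D]
    (S : MorphismProperty D) [S.ContainsIdentities] [S.IsCompatibleWithTriangulation]
    {X Y : D} (f : X ⟶ Y) [IsIso f] : S f := by
  open ZeroObject in
  have h₁ := contractible_distinguished₁ X
  open ZeroObject in
  have h₂ : Triangle.mk (0 : (0 : D) ⟶ X) f (0 : Y ⟶ (0 : D)⟦(1 : ℤ)⟧) ∈ distTriang D :=
    isomorphic_distinguished _ h₁ _ (Triangle.isoMk _ _ (Iso.refl (0 : D)) (Iso.refl X)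
      (asIso f).symm
      (show (0 : (0 : D) ⟶ X) ≫ 𝟙 X = 𝟙 (0 : D) ≫ 0 by simp)
      (show f ≫ inv f = 𝟙 X ≫ 𝟙 X by simp)
      (show (0 : Y ⟶ (0 : D)⟦(1 : ℤ)⟧) ≫ (𝟙 (0 : D))⟦(1 : ℤ)⟧' = inv f ≫ 0 by simp))
  open ZeroObject in
  obtain ⟨c, hc, hc₂, _⟩ : ∃ (c : X ⟶ Y) (_ : S c), (𝟙 X ≫ c = 𝟙 X ≫ f) ∧
      ((0 : X ⟶ (0 : D)⟦(1 : ℤ)⟧) ≫ (𝟙 (0 : D))⟦(1 : ℤ)⟧' = c ≫ (0 : Y ⟶ (0 : D)⟦(1 : ℤ)⟧)) :=
    MorphismProperty.compatible_with_triangulation _ _ h₁ h₂
      (𝟙 (0 : D)) (𝟙 X) (S.id_mem _) (S.id_mem _)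
      (show (0 : (0 : D) ⟶ X) ≫ 𝟙 X = 𝟙 (0 : D) ≫ 0 by simp)
  have : c = f := by simpa using hc₂
  rw [← this]; exact hc

end Groth.Agent.S6608
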