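import Groth.Statements.S6611
import Mathlib
-- import your own Groth.Agent.* helpers here

set_option autoImplicit false
universe v u
open CategoryTheory CategoryTheory.Limits
open CohDer

namespace Groth.Agent.S6611
open CochainComplex HomComplex


/-- Let A be an abelian category, α : K ⟶ L a quasi-isomorphism of cochain complexes which is injective
in every degree, I a bounded below complex of injective objects and γ : K ⟶ I a morphism. Then there
is a morphism β : L ⟶ I with α ≫ β = γ. -/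
theorem result {A : Type u} [Category.{v} A] [Abelian A]
    (K L I : CochainComplex A ℤ) (α : K ⟶ L) [QuasiIso α] (hα : ∀ n : ℤ, Mono (α.f n))
    (a : ℤ) [I.IsStrictlyGE a] (hI : ∀ n : ℤ, Injective (I.X n)) (γ : K ⟶ I) :
    ∃ β : L ⟶ I, α ≫ β = γ := by
  classical
  haveI : I.IsKInjective := CochainComplex.isKInjective_of_injective I a
  haveI hmono : Mono α := HomologicalComplex.mono_of_mono_f α hα
  let S : ShortComplex (CochainComplex A ℤ) :=
    ShortComplex.mk α (cokernel.π α) (cokernel.condition α)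
  have hSex : S.Exact := ShortComplex.exact_of_g_is_cokernel _ (cokernelIsCokernel α)
  have hS : S.ShortExact :=
    { exact := hSex, mono_f := hmono, epi_g := (inferInstance : Epi (cokernel.π α)) }
  have hC : (cokernel α).Acyclic := hS.acyclic_X₃ (inferInstance : QuasiIso α)
  have hSn : ∀ n : ℤ, (S.map (HomologicalComplex.eval A (ComplexShape.up ℤ) n)).ShortExact :=
    fun n => hS.map_of_exact _
  haveI hepi : ∀ n, Epi ((cokernel.π α).f n) := fun n => (hSn n).epi_g
  have hαπ : ∀ n, α.f n ≫ (cokernel.π α).f n = 0 := fun n => by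
    have h0 := HomologicalComplex.congr_hom (cokernel.condition α) n
    rw [HomologicalComplex.comp_f, HomologicalComplex.zero_f] at h0
    exact h0
  have hg : ∀ n, ∃ g : L.X n ⟶ I.X n, α.f n ≫ g = γ.f n := fun n =>
    ⟨Injective.factorThru (γ.f n) (α.f n), Injective.comp_factorThru _ _⟩
  choose g hg using hg
  obtain ⟨G, hGdef⟩ : ∃ G : Cochain L I 0, ∀ p, G.v p p (add_zero p) = g p :=
    ⟨Cochain.ofHoms g, fun p => Cochain.ofHoms_v g p⟩
  have hαG : (Cochain.ofHom α).comp G (zero_add 0) = Cochain.ofHom γ := by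
    refine Cochain.ext _ _ (fun p q hpq => ?_)
    obtain rfl : p = q := by omega
    rw [Cochain.zero_cochain_comp_v, Cochain.ofHom_v, Cochain.ofHom_v, hGdef]
    exact hg p
  have hαδG : (Cochain.ofHom α).comp (δ 0 1 G) (zero_add 1) = 0 := by
    rw [← δ_ofHom_comp, hαG, δ_ofHom]
  have hαδGv : ∀ p q (hpq : p + 1 = q), α.f p ≫ (δ 0 1 G).v p q hpq = 0 := by
    intro p q hpq
    have := Cochain.congr_v hαδG p q hpq
    rw [Cochain.zero_cochain_comp_v, Cochain.ofHom_v, Cochain.zero_v] at this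
    exact this
  obtain ⟨ε, hε⟩ : ∃ ε : Cochain (cokernel α) I 1, ∀ p q (hpq : p + 1 = q),
      (cokernel.π α).f p ≫ ε.v p q hpq = (δ 0 1 G).v p q hpq := by
    refine ⟨Cochain.mk (fun p q hpq =>
      haveI := (hSn p).epi_g
      (hSn p).exact.desc ((δ 0 1 G).v p q hpq) (hαδGv p q hpq)), fun p q hpq => ?_⟩
    rw [Cochain.mk_v]
    haveI := (hSn p).epi_g
    exact (hSn p).exact.g_desc _ _
  have hπε : (Cochain.ofHom (cokernel.π α)).comp ε (zero_add 1) = δ 0 1 G := by
    refine Cochain.ext _ _ (fun p q hpq => ?_)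
    rw [Cochain.zero_cochain_comp_v, Cochain.ofHom_v]
    exact hε p q hpq
  have hδε : δ 1 2 ε = 0 := by
    have h1 : (Cochain.ofHom (cokernel.π α)).comp (δ 1 2 ε) (zero_add 2) = 0 := by
      rw [← δ_ofHom_comp, hπε, δ_δ]
    refine Cochain.ext _ _ (fun p q hpq => ?_)
    have h2 := Cochain.congr_v h1 p q hpq
    rw [Cochain.zero_cochain_comp_v, Cochain.ofHom_v, Cochain.zero_v] at h2
    rw [Cochain.zero_v, ← cancel_epi ((cokernel.π α).f p), h2, comp_zero]
  obtain ⟨k, hk⟩ := CochainComplex.IsKInjective.eq_δ_of_cocycle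
    (Cocycle.mk ε 2 (by norm_num) hδε) hC 0 (zero_add 1)
  have hk' : δ 0 1 k = ε := hk
  have hB : δ 0 1 (G - (Cochain.ofHom (cokernel.π α)).comp k (zero_add 0)) = 0 := by
    rw [δ_sub, δ_ofHom_comp, hk', hπε, sub_self]
  refine ⟨Cocycle.homOf (Cocycle.mk _ 1 (zero_add 1) hB), ?_⟩
  ext n
  have h3 : (Cocycle.homOf (Cocycle.mk _ 1 (zero_add 1) hB)).f n =
      (G - (Cochain.ofHom (cokernel.π α)).comp k (zero_add 0)).v n n (add_zero n) := rfl
  rw [HomologicalComplex.comp_f, h3, Cochain.sub_v, Cochain.zero_cochain_comp_v, Cochain.ofHom_v,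
    hGdef, Preadditive.comp_sub, hg, ← Category.assoc, hαπ, zero_comp, sub_zero]

end Groth.Agent.S6611
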