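import Groth.Statements.S6612
import Mathlib

set_option autoImplicit false
universe v u
open CategoryTheory CategoryTheory.Limits
open CohDer

namespace Groth.Agent.S6612


open CochainComplex.HomComplex

section
universe v' u'
variable {D : Type u'} [Category.{v'} D] [Preadditive D]

lemma alg {A₁ A₂ B₀ B₁ B₂ C₀ C₁ X₁ X₂ Y₀ Y₁ : D}
    (f₁ : A₁ ⟶ B₁) (f₂ : A₂ ⟶ B₂) (g₀ : B₀ ⟶ C₀) (g₁ : B₁ ⟶ C₁)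
    (dA : A₁ ⟶ A₂) (dB₀₁ : B₀ ⟶ B₁) (dB₁₂ : B₁ ⟶ B₂) (dC₀₁ : C₀ ⟶ C₁)
    (dX : X₁ ⟶ X₂) (dY : Y₀ ⟶ Y₁)
    (b₁ : X₁ ⟶ B₁) (b₂ : X₂ ⟶ B₂) (b'₀ : B₀ ⟶ Y₀) (b'₁ : B₁ ⟶ Y₁)
    (r₁ : B₁ ⟶ A₁) (r₂ : B₂ ⟶ A₂) (s₀ : C₀ ⟶ B₀) (s₁ : C₁ ⟶ B₁)
    (η₁ : X₁ ⟶ C₀) (η₂ : X₂ ⟶ C₁) (η'₁ : A₁ ⟶ Y₀) (η'₂ : A₂ ⟶ Y₁)
    (hf : f₁ ≫ dB₁₂ = dA ≫ f₂) (hg : g₀ ≫ dC₀₁ = dB₀₁ ≫ g₁)
    (hb : b₁ ≫ dB₁₂ = dX ≫ b₂) (hb' : b'₀ ≫ dY = dB₀₁ ≫ b'₁)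
    (hdd : dB₀₁ ≫ dB₁₂ = 0)
    (fr₂ : f₂ ≫ r₂ = 𝟙 _) (sg₀ : s₀ ≫ g₀ = 𝟙 _)
    (id₁ : r₁ ≫ f₁ + g₁ ≫ s₁ = 𝟙 _)
    (hη : b₁ ≫ g₁ = dX ≫ η₂ + η₁ ≫ dC₀₁) (hη' : f₁ ≫ b'₁ = dA ≫ η'₂ + η'₁ ≫ dY) :
    b₁ ≫ b'₁ = (b₁ ≫ r₁ ≫ η'₁ + η₁ ≫ s₀ ≫ b'₀ - η₁ ≫ s₀ ≫ dB₀₁ ≫ r₁ ≫ η'₁) ≫ dY +
      dX ≫ (b₂ ≫ r₂ ≫ η'₂ + η₂ ≫ s₁ ≫ b'₁ - η₂ ≫ s₁ ≫ dB₁₂ ≫ r₂ ≫ η'₂) := by
  have e₁ : r₁ ≫ f₁ = 𝟙 _ - g₁ ≫ s₁ := eq_sub_of_add_eq id₁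
  have R1 : ∀ {Z : D} (h : B₂ ⟶ Z), dX ≫ b₂ ≫ h = b₁ ≫ dB₁₂ ≫ h := by
    intro Z h; rw [← Category.assoc, ← hb, Category.assoc]
  have R2' : dX ≫ η₂ = b₁ ≫ g₁ - η₁ ≫ dC₀₁ := by rw [hη]; abel
  have R2 : ∀ {Z : D} (h : C₁ ⟶ Z), dX ≫ η₂ ≫ h = b₁ ≫ g₁ ≫ h - η₁ ≫ dC₀₁ ≫ h := by
    intro Z h
    rw [← Category.assoc, R2', Preadditive.sub_comp, Category.assoc, Category.assoc]
  have R3 : η'₁ ≫ dY = f₁ ≫ b'₁ - dA ≫ η'₂ := by rw [hη']; abel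
  have R5 : ∀ {Z : D} (h : B₁ ⟶ Z), r₁ ≫ f₁ ≫ h = h - g₁ ≫ s₁ ≫ h := by
    intro Z h
    rw [← Category.assoc, e₁, Preadditive.sub_comp, Category.id_comp, Category.assoc]
  have R6' : r₁ ≫ dA = dB₁₂ ≫ r₂ - g₁ ≫ s₁ ≫ dB₁₂ ≫ r₂ := by
    have h1 : r₁ ≫ dA = r₁ ≫ f₁ ≫ dB₁₂ ≫ r₂ := by
      rw [← Category.assoc f₁, hf, Category.assoc, fr₂, Category.comp_id]
    rw [h1, R5]
  have R6 : ∀ {Z : D} (h : A₂ ⟶ Z),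
      r₁ ≫ dA ≫ h = dB₁₂ ≫ r₂ ≫ h - g₁ ≫ s₁ ≫ dB₁₂ ≫ r₂ ≫ h := by
    intro Z h
    rw [← Category.assoc, R6', Preadditive.sub_comp]
    simp only [Category.assoc]
  have R7 : ∀ {Z : D} (h : C₁ ⟶ Z), dB₀₁ ≫ g₁ ≫ h = g₀ ≫ dC₀₁ ≫ h := by
    intro Z h; rw [← Category.assoc, ← hg, Category.assoc]
  have R8 : ∀ {Z : D} (h : C₀ ⟶ Z), s₀ ≫ g₀ ≫ h = h := by
    intro Z h; rw [← Category.assoc, sg₀, Category.id_comp]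
  have R9 : ∀ {Z : D} (h : B₂ ⟶ Z), dB₀₁ ≫ dB₁₂ ≫ h = 0 := by
    intro Z h; rw [← Category.assoc, hdd, Limits.zero_comp]
  simp only [Preadditive.add_comp, Preadditive.sub_comp, Preadditive.comp_sub,
    Preadditive.comp_add, Category.assoc, R3, hb', R1, R2, R5, R6, R7, R8, R9,
    Limits.comp_zero, sub_zero, zero_sub, Preadditive.comp_neg, Preadditive.neg_comp]
  abel

end


/-- Let A be an additive category and 0 → A₂ → B₂ → C₂ → 0 a termwise split exact sequence of complexes.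
Given a chain map b from a complex B₁ into B₂ and a chain map b' from B₂ into a complex B₃, suppose
that both composites b ≫ (B₂ → C₂) and (A₂ → B₂) ≫ b' are null-homotopic. Then b ≫ b' is homotopic
to zero. (The published statement has three termwise split sequences Aᵢ → Bᵢ → Cᵢ and asks both
squares of each diagram to commute up to homotopy; this row keeps only the middle sequence and the
two conditions at B₂ that the argument uses, so it is more general.) -/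
theorem result {V : Type u} [Category.{v} V] [Preadditive V] [HasBinaryBiproducts V]
    (S : ShortComplex (CochainComplex V ℤ))
    (σ : ∀ n : ℤ, (S.map (HomologicalComplex.eval V (ComplexShape.up ℤ) n)).Splitting)
    {B₁ B₃ : CochainComplex V ℤ} (b : B₁ ⟶ S.X₂) (b' : S.X₂ ⟶ B₃)
    (hb : Nonempty (Homotopy (b ≫ S.g) 0)) (hb' : Nonempty (Homotopy (S.f ≫ b') 0)) :
    Nonempty (Homotopy (b ≫ b') 0) := by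
  obtain ⟨η⟩ := hb
  obtain ⟨η'⟩ := hb'
  obtain ⟨H, hH⟩ : ∃ H : Cochain B₁ B₃ (-1), ∀ (p q : ℤ) (hpq : p + (-1) = q), H.v p q hpq =
      (b.f p ≫ (σ p).r ≫ η'.hom p q + η.hom p q ≫ (σ q).s ≫ b'.f q -
        η.hom p q ≫ (σ q).s ≫ S.X₂.d q p ≫ (σ p).r ≫ η'.hom p q : B₁.X p ⟶ B₃.X q) :=
    ⟨Cochain.mk (fun p q _ => b.f p ≫ (σ p).r ≫ η'.hom p q + η.hom p q ≫ (σ q).s ≫ b'.f q -
        η.hom p q ≫ (σ q).s ≫ S.X₂.d q p ≫ (σ p).r ≫ η'.hom p q), fun p q hpq => rfl⟩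
  refine ⟨(Cochain.equivHomotopy _ _).symm ⟨H, ?_⟩⟩
  ext p
  rw [Cochain.add_v, δ_v (-1) 0 (neg_add_cancel 1) H p p (add_zero p) (p - 1) (p + 1) rfl rfl,
    hH, hH, Cochain.ofHom_v, Cochain.ofHom_v, HomologicalComplex.zero_f, add_zero,
    Int.negOnePow_zero, one_smul, HomologicalComplex.comp_f]
  have hη := η.comm p
  rw [dNext_eq η.hom (show (ComplexShape.up ℤ).Rel p (p + 1) from rfl),
    prevD_eq η.hom (show (ComplexShape.up ℤ).Rel (p - 1) p from sub_add_cancel p 1),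
    HomologicalComplex.zero_f, add_zero, HomologicalComplex.comp_f] at hη
  have hη' := η'.comm p
  rw [dNext_eq η'.hom (show (ComplexShape.up ℤ).Rel p (p + 1) from rfl),
    prevD_eq η'.hom (show (ComplexShape.up ℤ).Rel (p - 1) p from sub_add_cancel p 1),
    HomologicalComplex.zero_f, add_zero, HomologicalComplex.comp_f] at hη'
  exact alg (S.f.f p) (S.f.f (p + 1)) (S.g.f (p - 1)) (S.g.f p)
    (S.X₁.d p (p + 1)) (S.X₂.d (p - 1) p) (S.X₂.d p (p + 1)) (S.X₃.d (p - 1) p)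
    (B₁.d p (p + 1)) (B₃.d (p - 1) p)
    (b.f p) (b.f (p + 1)) (b'.f (p - 1)) (b'.f p)
    (σ p).r (σ (p + 1)).r (σ (p - 1)).s (σ p).s
    (η.hom p (p - 1)) (η.hom (p + 1) p) (η'.hom p (p - 1)) (η'.hom (p + 1) p)
    (S.f.comm p (p + 1)) (S.g.comm (p - 1) p) (b.comm p (p + 1)) (b'.comm (p - 1) p)
    (S.X₂.d_comp_d _ _ _) (σ (p + 1)).f_r (σ (p - 1)).s_g (σ p).id hη hη'

end Groth.Agent.S6612
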