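import Groth.Statements.S6613
import Mathlib
-- import your own Groth.Agent.* helpers here

set_option autoImplicit false
universe v u v' u'
open CategoryTheory CategoryTheory.Limits
open CohDer

namespace Groth.Agent.S6613
lemma map_fraction {C D₁ D₂ : Type*} [Category C] [Category D₁] [Category D₂]
    {W : MorphismProperty C} (L₁ : C ⥤ D₁) (G : D₁ ⥤ D₂) (F : C ⥤ D₂) (e : F ≅ L₁ ⋙ G)
    (h₁ : W.IsInvertedBy L₁) (hF : W.IsInvertedBy F) {X Y : C} (φ : W.RightFraction X Y) :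
    G.map (φ.map L₁ h₁) = e.inv.app X ≫ φ.map F hF ≫ e.hom.app Y := by
  haveI : IsIso (L₁.map φ.s) := h₁ _ φ.hs
  haveI : IsIso (F.map φ.s) := hF _ φ.hs
  rw [← cancel_epi (G.map (L₁.map φ.s)), ← G.map_comp,
    MorphismProperty.RightFraction.map_s_comp_map]
  have n1 : G.map (L₁.map φ.s) ≫ e.inv.app X = e.inv.app φ.X' ≫ F.map φ.s :=
    e.inv.naturality φ.s
  have n2 : F.map φ.f ≫ e.hom.app Y = e.hom.app φ.X' ≫ G.map (L₁.map φ.f) :=
    e.hom.naturality φ.f
  rw [reassoc_of% n1, MorphismProperty.RightFraction.map_s_comp_map_assoc, n2,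
    Iso.inv_hom_id_app_assoc]

def Phi {D : Type*} [Category D] (P : ObjectProperty D) (S : MorphismProperty D) :
    LocalizerMorphism (S.inverseImage P.ι) S := { functor := P.ι, map := le_rfl }

lemma full_faithful {D : Type*} [Category D] (P : ObjectProperty D) (S : MorphismProperty D)
    [S.HasRightCalculusOfFractions] [(S.inverseImage P.ι).HasRightCalculusOfFractions]
    (hP : ∀ X : D, ∃ (X' : D) (s : X' ⟶ X), P X' ∧ S s)
    {D₁ : Type*} {D₂ : Type*} [Category D₁] [Category D₂]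
    (L₁ : P.FullSubcategory ⥤ D₁) [L₁.IsLocalization (S.inverseImage P.ι)]
    (L₂ : D ⥤ D₂) [L₂.IsLocalization S] (G : D₁ ⥤ D₂) (e : P.ι ⋙ L₂ ≅ L₁ ⋙ G) :
    G.Full ∧ G.Faithful := by
  have hF : (S.inverseImage P.ι).IsInvertedBy (P.ι ⋙ L₂) :=
    fun _ _ f hf => Localization.inverts L₂ S _ hf
  haveI : L₁.EssSurj := Localization.essSurj L₁ (S.inverseImage P.ι)
  constructor
  · refine Functor.full_of_comp_essSurj G L₁ (fun X₁ X₂ φ => ?_)
    obtain ⟨ψ, hψ⟩ := Localization.exists_rightFraction L₂ S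
      (e.hom.app X₁ ≫ φ ≫ e.inv.app X₂)
    obtain ⟨Z, r, hZ, hr⟩ := hP ψ.X'
    let g : (S.inverseImage P.ι).RightFraction X₁ X₂ :=
      { X' := ⟨Z, hZ⟩, s := P.homMk (r ≫ ψ.s), hs := S.comp_mem _ _ hr ψ.hs,
        f := P.homMk (r ≫ ψ.f) }
    refine ⟨g.map L₁ (Localization.inverts L₁ _), ?_⟩
    rw [map_fraction L₁ G (P.ι ⋙ L₂) e (Localization.inverts L₁ _) hF g]
    have hg : g.map (P.ι ⋙ L₂) hF = ψ.map L₂ (Localization.inverts L₂ S) := by
      haveI : IsIso (L₂.map (r ≫ ψ.s)) :=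
        Localization.inverts L₂ S _ (S.comp_mem _ _ hr ψ.hs)
      rw [← cancel_epi (L₂.map (r ≫ ψ.s))]
      have h1 : L₂.map (r ≫ ψ.s) ≫ g.map (P.ι ⋙ L₂) hF = L₂.map (r ≫ ψ.f) :=
        g.map_s_comp_map (P.ι ⋙ L₂) hF
      rw [h1, L₂.map_comp r ψ.s, Category.assoc, MorphismProperty.RightFraction.map_s_comp_map,
        ← L₂.map_comp]
    rw [hg, ← hψ]
    simp
  · refine Functor.faithful_of_comp_essSurj G L₁ (fun X₁ X₂ f g hfg => ?_)
    obtain ⟨φ₁, rfl⟩ := Localization.exists_rightFraction L₁ (S.inverseImage P.ι) f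
    obtain ⟨φ₂, rfl⟩ := Localization.exists_rightFraction L₁ (S.inverseImage P.ι) g
    rw [map_fraction L₁ G (P.ι ⋙ L₂) e (Localization.inverts L₁ _) hF φ₁,
      map_fraction L₁ G (P.ι ⋙ L₂) e (Localization.inverts L₁ _) hF φ₂] at hfg
    have h2 : φ₁.map (P.ι ⋙ L₂) hF = φ₂.map (P.ι ⋙ L₂) hF := by
      have := congrArg (fun x => e.hom.app X₁ ≫ x ≫ e.inv.app X₂) hfg
      simpa using this
    let ψ₁ : S.RightFraction X₁.obj X₂.obj :=
      { X' := φ₁.X'.obj, s := φ₁.s.hom, hs := φ₁.hs, f := φ₁.f.hom }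
    let ψ₂ : S.RightFraction X₁.obj X₂.obj :=
      { X' := φ₂.X'.obj, s := φ₂.s.hom, hs := φ₂.hs, f := φ₂.f.hom }
    have h3 : ψ₁.map L₂ (Localization.inverts L₂ S) = ψ₂.map L₂ (Localization.inverts L₂ S) :=
      h2
    rw [MorphismProperty.RightFraction.map_eq_iff] at h3
    obtain ⟨Z, t₁, t₂, hst, hft, ht⟩ := h3
    obtain ⟨Z', r, hZ', hr⟩ := hP Z
    rw [MorphismProperty.RightFraction.map_eq_iff]
    refine ⟨⟨Z', hZ'⟩, P.homMk (r ≫ t₁), P.homMk (r ≫ t₂), ?_, ?_, ?_⟩
    · apply ObjectProperty.hom_ext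
      show (r ≫ t₁) ≫ φ₁.s.hom = (r ≫ t₂) ≫ φ₂.s.hom
      rw [Category.assoc, Category.assoc]
      exact congrArg (fun x => r ≫ x) hst
    · apply ObjectProperty.hom_ext
      show (r ≫ t₁) ≫ φ₁.f.hom = (r ≫ t₂) ≫ φ₂.f.hom
      rw [Category.assoc, Category.assoc]
      exact congrArg (fun x => r ≫ x) hft
    · show S ((r ≫ t₁) ≫ φ₁.s.hom)
      rw [Category.assoc]
      exact S.comp_mem _ _ hr ht


/-- Let D be a pretriangulated category, D' ⊂ D a full pretriangulated subcategory, S a saturated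
multiplicative system of D compatible with the triangulated structure and Q : D → S⁻¹D the
localization. Assume every X in D admits some s : X' ⟶ X in S with X' in D'. Then, with S' = S ∩
Arrows(D'), the functor (S')⁻¹D' → S⁻¹D is an equivalence; equivalently the composite D' → D → S⁻¹D
is a localization of D' at S'. (The published result additionally claims that the intersection S' =
S ∩ Arrows(D') forms a multiplicative system on D' which is saturated and respects the triangulated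
structure of D'; this row asserts only the localization property.) -/
theorem result {D : Type u} [Category.{v} D] [Preadditive D] [HasZeroObject D] [HasShift D ℤ]
    [∀ n : ℤ, (shiftFunctor D n).Additive] [Pretriangulated D]
    (P : ObjectProperty D) [P.IsTriangulated]
    (S : MorphismProperty D) [S.HasLeftCalculusOfFractions] [S.HasRightCalculusOfFractions] [S.IsCompatibleWithTriangulation]
    {E : Type u'} [Category.{v'} E] (Q : D ⥤ E) [Q.IsLocalization S]
    (hsat : ∀ {X Y : D} (f : X ⟶ Y), IsIso (Q.map f) → S f)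
    (hP : ∀ X : D, ∃ (X' : D) (s : X' ⟶ X), P X' ∧ S s) :
    (P.ι ⋙ Q).IsLocalization (S.inverseImage P.ι) := by
  classical
  haveI hW' : (S.inverseImage P.ι).HasRightCalculusOfFractions :=
    { exists_rightFraction := by
        intro X Y φ
        obtain ⟨ψ, hψ⟩ : ∃ ψ : S.RightFraction X.obj Y.obj, ψ.s ≫ φ.f.hom = ψ.f ≫ φ.s.hom :=
          MorphismProperty.HasRightCalculusOfFractions.exists_rightFraction (W := S)
            { f := φ.f.hom, s := φ.s.hom, hs := φ.hs }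
        obtain ⟨Z, r, hZ, hr⟩ := hP ψ.X'
        refine ⟨{ X' := ⟨Z, hZ⟩, s := P.homMk (r ≫ ψ.s), hs := S.comp_mem _ _ hr ψ.hs,
                  f := P.homMk (r ≫ ψ.f) }, ?_⟩
        apply ObjectProperty.hom_ext
        show (r ≫ ψ.s) ≫ φ.f.hom = (r ≫ ψ.f) ≫ φ.s.hom
        rw [Category.assoc, Category.assoc, hψ]
      ext := by
        intro X Y Y' f₁ f₂ s hs h
        have hD : f₁.hom ≫ s.hom = f₂.hom ≫ s.hom := congrArg InducedCategory.Hom.hom h
        obtain ⟨Z, t, ht, hft⟩ :=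
          MorphismProperty.HasRightCalculusOfFractions.ext (W := S) f₁.hom f₂.hom s.hom hs hD
        obtain ⟨Z', r, hZ', hr⟩ := hP Z
        refine ⟨⟨Z', hZ'⟩, P.homMk (r ≫ t), S.comp_mem _ _ hr ht, ?_⟩
        apply ObjectProperty.hom_ext
        show (r ≫ t) ≫ f₁.hom = (r ≫ t) ≫ f₂.hom
        rw [Category.assoc, Category.assoc, hft] }
  haveI : (Phi P S).IsLocalizedFullyFaithful := by
    obtain ⟨h1, h2⟩ := full_faithful P S hP (S.inverseImage P.ι).Q S.Q
      ((Phi P S).localizedFunctor (S.inverseImage P.ι).Q S.Q)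
      (CatCommSq.iso (Phi P S).functor (S.inverseImage P.ι).Q S.Q
        ((Phi P S).localizedFunctor (S.inverseImage P.ι).Q S.Q))
    exact ⟨⟨Functor.FullyFaithful.ofFullyFaithful _⟩⟩
  haveI : (P.ι ⋙ Q).EssSurj := ⟨fun Y => by
    haveI : Q.EssSurj := Localization.essSurj Q S
    obtain ⟨Z, r, hZ, hr⟩ := hP (Q.objPreimage Y)
    haveI : IsIso (Q.map r) := Localization.inverts Q S r hr
    exact ⟨⟨Z, hZ⟩, ⟨asIso (Q.map r) ≪≫ Q.objObjPreimageIso Y⟩⟩⟩
  exact (Phi P S).isLocalization_of_isLocalizedFullyFaithful (L₂ := Q) (L₁ := P.ι ⋙ Q) (F := 𝟭 E)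
    (Functor.rightUnitor _).symm

end Groth.Agent.S6613
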