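import Groth.Statements.S6621
import Mathlib
-- import your own Groth.Agent.* helpers here

set_option autoImplicit false
universe v u v' u'
open CategoryTheory CategoryTheory.Limits
open CohDer

namespace Groth.Agent.S6621
open ZeroObject

lemma isZero_obj_iff {D : Type*} [Category D] [Preadditive D] (S : MorphismProperty D)
    [S.HasLeftCalculusOfFractions] {E : Type*} [Category E] (Q : D ⥤ E) [Q.IsLocalization S]
    (Z : D) : IsZero (Q.obj Z) ↔ ∃ (Z' : D), S (0 : Z ⟶ Z') := by
  letI := Localization.preadditive Q S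
  haveI := Localization.functor_additive Q S
  constructor
  · intro hZ
    have h1 : Q.map (𝟙 Z) = Q.map (0 : Z ⟶ Z) := hZ.eq_of_src _ _
    rw [MorphismProperty.map_eq_iff_postcomp Q S] at h1
    obtain ⟨W, s, hs, hs'⟩ := h1
    have hs0 : s = 0 := by simpa using hs'
    subst hs0
    exact ⟨W, hs⟩
  · rintro ⟨Z', hs⟩
    haveI : IsIso (Q.map (0 : Z ⟶ Z')) := Localization.inverts Q S _ hs
    rw [IsZero.iff_id_eq_zero]
    obtain ⟨j, hj⟩ : ∃ j, Q.map (0 : Z ⟶ Z') ≫ j = 𝟙 _ := ⟨inv _, IsIso.hom_inv_id _⟩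
    rw [← hj, Q.map_zero, zero_comp]

lemma isZero_obj_iff' {D : Type*} [Category D] [Preadditive D] (S : MorphismProperty D)
    [S.HasLeftCalculusOfFractions] [S.HasRightCalculusOfFractions]
    {E : Type*} [Category E] (Q : D ⥤ E) [Q.IsLocalization S]
    (Z : D) : IsZero (Q.obj Z) ↔ ∃ (Z' : D), S (0 : Z' ⟶ Z) := by
  letI := Localization.preadditive Q S
  haveI := Localization.functor_additive Q S
  constructor
  · intro hZ
    have h1 : Q.map (𝟙 Z) = Q.map (0 : Z ⟶ Z) := hZ.eq_of_src _ _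
    rw [MorphismProperty.map_eq_iff_precomp Q S] at h1
    obtain ⟨W, s, hs, hs'⟩ := h1
    have hs0 : s = 0 := by simpa using hs'
    subst hs0
    exact ⟨W, hs⟩
  · rintro ⟨Z', hs⟩
    haveI : IsIso (Q.map (0 : Z' ⟶ Z)) := Localization.inverts Q S _ hs
    rw [IsZero.iff_id_eq_zero]
    obtain ⟨j, hj⟩ : ∃ j, j ≫ Q.map (0 : Z' ⟶ Z) = 𝟙 _ := ⟨inv _, IsIso.inv_hom_id _⟩
    rw [← hj, Q.map_zero, comp_zero]

lemma isZero_of_retract {D E : Type*} [Category D] [Category E] [HasZeroMorphisms E]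
    (F : D ⥤ E) {Z Y : D} (i : Z ⟶ Y) (p : Y ⟶ Z) (h : i ≫ p = 𝟙 Z) (hY : IsZero (F.obj Y)) :
    IsZero (F.obj Z) := by
  rw [IsZero.iff_id_eq_zero, ← F.map_id, ← h, F.map_comp, hY.eq_of_tgt (F.map i) 0, zero_comp]

lemma isIso_map_iff_Q {D : Type*} [Category D] (S : MorphismProperty D)
    {E : Type*} [Category E] (Q : D ⥤ E) [Q.IsLocalization S] {X Y : D} (f : X ⟶ Y) :
    IsIso (Q.map f) ↔ IsIso (S.Q.map f) := by
  rw [← NatIso.isIso_map_iff (Localization.compUniqFunctor S.Q Q S) f]
  show IsIso ((Localization.uniq S.Q Q S).functor.map (S.Q.map f)) ↔ _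
  exact isIso_iff_of_reflects_iso _ _


/-- Let D be a triangulated category, S a multiplicative system compatible with the triangulated
structure, Q : D → S⁻¹D the localization and B(S) = Ker(Q) the full subcategory of objects Z with
Q(Z) = 0. Then the multiplicative system S(B(S)) attached to B(S) (morphisms whose cone lies in B(S)
up to isomorphism) consists exactly of the morphisms f such that Q(f) is an isomorphism, i.e. it is
the saturation of S. -/
theorem result {D : Type u} [Category.{v} D] [Preadditive D] [HasZeroObject D] [HasShift D ℤ]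
    [∀ n : ℤ, (shiftFunctor D n).Additive] [Pretriangulated D] [IsTriangulated D]
    (S : MorphismProperty D) [S.HasLeftCalculusOfFractions] [S.HasRightCalculusOfFractions] [S.IsCompatibleWithTriangulation]
    {E : Type u'} [Category.{v'} E] (Q : D ⥤ E) [Q.IsLocalization S] {X Y : D} (f : X ⟶ Y) :
    ObjectProperty.trW (fun Z : D => IsZero (Q.obj Z)) f ↔ IsIso (Q.map f) := by
  have hiso : IsIso (Q.map f) ↔ IsIso (S.Q.map f) := isIso_map_iff_Q S Q f
  have hzero : ∀ Z, IsZero (Q.obj Z) ↔ IsZero (S.Q.obj Z) := fun Z =>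
    (isZero_obj_iff S Q Z).trans (isZero_obj_iff S S.Q Z).symm
  rw [hiso, ObjectProperty.trW_iff]
  constructor
  · rintro ⟨C, g, h, hT, hC⟩
    have hT' := S.Q.map_distinguished _ hT
    exact (Pretriangulated.Triangle.isZero₃_iff_isIso₁ _ hT').1 ((hzero C).1 hC)
  · intro hf
    obtain ⟨C, g, h, hT⟩ := Pretriangulated.distinguished_cocone_triangle f
    have hT' := S.Q.map_distinguished _ hT
    exact ⟨C, g, h, hT, (hzero C).2 ((Pretriangulated.Triangle.isZero₃_iff_isIso₁ _ hT').2 hf)⟩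

end Groth.Agent.S6621
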