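import Groth.Statements.S6622
import Mathlib
-- import your own Groth.Agent.* helpers here

set_option autoImplicit false
universe v u
open CategoryTheory CategoryTheory.Limits
open CohDer

namespace Groth.Agent.S6622
set_option backward.defeqAttrib.useBackward true in
set_option backward.isDefEq.respectTransparency false in
open CategoryTheory CategoryTheory.Limits CategoryTheory.Pretriangulated ZeroObject in
theorem triang_of {V : Type u} [Category.{v} V] [Preadditive V] [HasZeroObject V]
    [HasBinaryBiproducts V]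
    (P : ObjectProperty (HomotopyCategory V (ComplexShape.up ℤ)))
    (h0 : P ((HomotopyCategory.quotient _ _).obj 0))
    (hshift : ∀ (K : CochainComplex V ℤ) (n : ℤ), P ((HomotopyCategory.quotient _ _).obj K) →
      P ((HomotopyCategory.quotient _ _).obj (K⟦n⟧)))
    (hcone : ∀ {K L : CochainComplex V ℤ} (f : K ⟶ L), P ((HomotopyCategory.quotient _ _).obj K) →
      P ((HomotopyCategory.quotient _ _).obj L) →
      P ((HomotopyCategory.quotient _ _).obj (CochainComplex.mappingCone f))) :
    P.IsTriangulated := by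
  haveI : P.ContainsZero :=
    ⟨⟨(HomotopyCategory.quotient _ _).obj 0, Functor.map_isZero _ (isZero_zero _), h0⟩⟩
  haveI : P.IsStableUnderShift ℤ :=
    { isStableUnderShiftBy := fun n =>
        { le_shift := fun K hK => by
            obtain ⟨K, rfl⟩ := K.quotient_obj_surjective
            rw [ObjectProperty.prop_shift_iff, HomotopyCategory.shift_quotient_obj]
            exact hshift K n hK } }
  haveI : P.IsTriangulatedClosed₃ :=
    { ext₃' := fun T hT h₁ h₂ => by
        obtain ⟨f : T.obj₁.as ⟶ T.obj₂.as, hf⟩ :=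
          (HomotopyCategory.quotient _ _).map_surjective T.mor₁
        refine ⟨_, ?_, ⟨Triangle.π₃.mapIso (isoTriangleOfIso₁₂ T _ hT
          (HomotopyCategory.mappingCone_triangleh_distinguished f) (Iso.refl _) (Iso.refl _) ?_)⟩⟩
        · exact hcone f h₁ h₂
        · simp [hf] }
  exact { toIsTriangulatedClosed₂ := .of_isTriangulatedClosed₃ }

open CategoryTheory CategoryTheory.Limits ZeroObject in
lemma zeroLE {V : Type u} [Category.{v} V] [Preadditive V] [HasZeroObject V] :
    CochainComplex.IsStrictlyLE ((HomotopyCategory.quotient V (ComplexShape.up ℤ)).obj 0).as 0 :=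
  (inferInstance : CochainComplex.IsStrictlyLE (0 : CochainComplex V ℤ) 0)

open CategoryTheory CategoryTheory.Limits ZeroObject in
lemma zeroGE {V : Type u} [Category.{v} V] [Preadditive V] [HasZeroObject V] :
    CochainComplex.IsStrictlyGE ((HomotopyCategory.quotient V (ComplexShape.up ℤ)).obj 0).as 0 :=
  (inferInstance : CochainComplex.IsStrictlyGE (0 : CochainComplex V ℤ) 0)

open CategoryTheory CategoryTheory.Limits in
lemma isStrictlyLE_mappingCone' {V : Type u} [Category.{v} V] [Preadditive V]
    [HasBinaryBiproducts V] {K L : CochainComplex V ℤ} (f : K ⟶ L)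
    (n₁ n₂ n : ℤ) [K.IsStrictlyLE n₁] [L.IsStrictlyLE n₂] (hn₁ : n₁ - 1 ≤ n) (hn₂ : n₂ ≤ n) :
    (CochainComplex.mappingCone f).IsStrictlyLE n := by
  rw [CochainComplex.isStrictlyLE_iff]
  intro i hi
  rw [CochainComplex.mappingCone.isZero_X_iff]
  exact ⟨K.isZero_of_isStrictlyLE n₁ _ (by omega), L.isZero_of_isStrictlyLE n₂ _ (by omega)⟩


/-- Let A be an additive category. The full subcategories K⁻(A) (complexes K with Kⁿ = 0 for n ≫ 0) and
Kᵇ(A) (Kⁿ = 0 for |n| ≫ 0) of the homotopy category K(A) are full triangulated subcategories. -/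
theorem result {V : Type u} [Category.{v} V] [Preadditive V] [HasZeroObject V] [HasBinaryBiproducts V] :
    (ObjectProperty.IsTriangulated (fun K : HomotopyCategory V (ComplexShape.up ℤ) => ∃ n : ℤ, CochainComplex.IsStrictlyLE K.as n)) ∧
    (ObjectProperty.IsTriangulated (fun K : HomotopyCategory V (ComplexShape.up ℤ) =>
      ∃ a b : ℤ, CochainComplex.IsStrictlyGE K.as a ∧ CochainComplex.IsStrictlyLE K.as b)) := by
  constructor
  · apply triang_of
    · exact ⟨0, zeroLE⟩
    · rintro K n ⟨q, hq⟩
      haveI : CochainComplex.IsStrictlyLE K q := hq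
      exact ⟨q - n, K.isStrictlyLE_shift q n (q - n) (by omega)⟩
    · rintro K L f ⟨n₁, h₁⟩ ⟨n₂, h₂⟩
      haveI : CochainComplex.IsStrictlyLE K n₁ := h₁
      haveI : CochainComplex.IsStrictlyLE L n₂ := h₂
      exact ⟨max (n₁ - 1) n₂, isStrictlyLE_mappingCone' f n₁ n₂ _ (le_max_left _ _)
        (le_max_right _ _)⟩
  · apply triang_of
    · exact ⟨0, 0, zeroGE, zeroLE⟩
    · rintro K n ⟨a, b, ha, hb⟩
      haveI : CochainComplex.IsStrictlyGE K a := ha
      haveI : CochainComplex.IsStrictlyLE K b := hb
      exact ⟨a - n, b - n, K.isStrictlyGE_shift a n (a - n) (by omega),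
        K.isStrictlyLE_shift b n (b - n) (by omega)⟩
    · rintro K L f ⟨a₁, b₁, ha₁, hb₁⟩ ⟨a₂, b₂, ha₂, hb₂⟩
      haveI : CochainComplex.IsStrictlyGE K a₁ := ha₁
      haveI : CochainComplex.IsStrictlyLE K b₁ := hb₁
      haveI : CochainComplex.IsStrictlyGE L a₂ := ha₂
      haveI : CochainComplex.IsStrictlyLE L b₂ := hb₂
      exact ⟨min (a₁ - 1) a₂, max (b₁ - 1) b₂,
        CochainComplex.isStrictlyGE_mappingCone f a₁ a₂ _
          (lt_of_le_of_lt (min_le_left _ _) (by omega)) (min_le_right _ _),
        isStrictlyLE_mappingCone' f b₁ b₂ _ (le_max_left _ _) (le_max_right _ _)⟩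

end Groth.Agent.S6622
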