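import Groth.Statements.S6623
import Mathlib
import Groth.Agent.Lib.lead.Van
-- import your own Groth.Agent.* helpers here

set_option autoImplicit false
universe v u
open CategoryTheory CategoryTheory.Limits
open CohDer

namespace Groth.Agent.S6623
open CategoryTheory.Pretriangulated Groth.Agent.Lib.Van


open CategoryTheory.Pretriangulated in
/-- Let D be a triangulated category, φ : X ⟶ X' a morphism of chain complexes in D considered in
degrees ≤ n, where a Postnikov system for the complex X_n → … → X_0 consists of objects Y_k, an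
isomorphism Y_0 ⟶ X_0, and for 0 ≤ k < n distinguished triangles Y_{k+1} ⟶ X_{k+1} ⟶ Y_k ⟶
Y_{k+1}⟦1⟧ with X_{k+1} ⟶ Y_k ⟶ X_k the differential; let (Y, a, b, c) and (Y', a', b', c') be
Postnikov systems for X and X'. If Hom(X_{j-i}⟦1-i⟧, X'_j) = 0 and Hom(X_j, X'_{j-i}⟦-i⟧) = 0 for
all 0 < i ≤ j ≤ n, then there is at most one morphism of Postnikov systems extending φ: two such
morphisms agree on Y_k for every k ≤ n. -/
theorem result {D : Type u} [Category.{v} D] [Preadditive D] [HasZeroObject D] [HasShift D ℤ]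
    [∀ n : ℤ, (shiftFunctor D n).Additive] [Pretriangulated D] [IsTriangulated D]
    (X X' : ChainComplex D ℕ) (φ : X ⟶ X') (n : ℕ)
    (Y : ℕ → D) (a : ∀ k, Y k ⟶ X.X k) (b : ∀ k, X.X (k + 1) ⟶ Y k)
    (c : ∀ k, Y k ⟶ (shiftFunctor D (1 : ℤ)).obj (Y (k + 1)))
    (h0 : IsIso (a 0))
    (hP : ∀ k, k < n → Triangle.mk (a (k + 1)) (b k) (c k) ∈ distinguishedTriangles ∧ b k ≫ a k = X.d (k + 1) k)
    (qY : ℕ → D) (qa : ∀ k, qY k ⟶ X'.X k) (qb : ∀ k, X'.X (k + 1) ⟶ qY k)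
    (qc : ∀ k, qY k ⟶ (shiftFunctor D (1 : ℤ)).obj (qY (k + 1)))
    (qh0 : IsIso (qa 0))
    (qhP : ∀ k, k < n → Triangle.mk (qa (k + 1)) (qb k) (qc k) ∈ distinguishedTriangles ∧ qb k ≫ qa k = X'.d (k + 1) k)
    (hv : ∀ i j : ℕ, 0 < i → i ≤ j → j ≤ n →
      (∀ ψ : (shiftFunctor D (1 - (i : ℤ))).obj (X.X (j - i)) ⟶ X'.X j, ψ = 0) ∧
      (∀ ψ : X.X j ⟶ (shiftFunctor D (-(i : ℤ))).obj (X'.X (j - i)), ψ = 0))
    (y z : ∀ k, Y k ⟶ qY k)
    (hy : (∀ k, k ≤ n → y k ≫ qa k = a k ≫ φ.f k) ∧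
      (∀ k, k < n → b k ≫ y k = φ.f (k + 1) ≫ qb k ∧ c k ≫ (shiftFunctor D (1 : ℤ)).map (y (k + 1)) = y k ≫ qc k))
    (hz : (∀ k, k ≤ n → z k ≫ qa k = a k ≫ φ.f k) ∧
      (∀ k, k < n → b k ≫ z k = φ.f (k + 1) ≫ qb k ∧ c k ≫ (shiftFunctor D (1 : ℤ)).map (z (k + 1)) = z k ≫ qc k))
    (k : ℕ) (hk : k ≤ n) :
    y k = z k := by
  classical
  have hv1 : ∀ (i j m' : ℕ), 0 < i → i ≤ j → j ≤ n → j - i = m' →
      ∀ ψ : (shiftFunctor D (1 - (i : ℤ))).obj (X.X m') ⟶ X'.X j, ψ = 0 := by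
    intro i j m' h1 h2 h3 h4 ψ
    subst h4
    exact (hv i j h1 h2 h3).1 ψ
  have hv2 : ∀ (i j m' : ℕ), 0 < i → i ≤ j → j ≤ n → j - i = m' →
      ∀ ψ : X.X j ⟶ (shiftFunctor D (-(i : ℤ))).obj (X'.X m'), ψ = 0 := by
    intro i j m' h1 h2 h3 h4 ψ
    subst h4
    exact (hv i j h1 h2 h3).2 ψ
  have vanXX1 : ∀ (m' j : ℕ), m' < j → j ≤ n →
      Van (X.X m') (X'.X j) (1 - ((j : ℤ) - (m' : ℤ))) := by
    intro m' j h1 h2
    exact van_of_spec ((shiftFunctor D (1 - ((j - m' : ℕ) : ℤ))).obj (X.X m')) (X'.X j)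
      (1 - ((j - m' : ℕ) : ℤ)) 0 (Iso.refl _) ((shiftFunctorZero D ℤ).symm.app _) (by omega)
      (hv1 (j - m') j m' (by omega) (by omega) h2 (by omega))
  have vanXX2 : ∀ (m' j : ℕ), m' < j → j ≤ n →
      Van (X.X j) (X'.X m') ((j : ℤ) - (m' : ℤ)) := by
    intro m' j h1 h2
    exact van_of_spec (X.X j) ((shiftFunctor D (-((j - m' : ℕ) : ℤ))).obj (X'.X m'))
      0 (-((j - m' : ℕ) : ℤ)) ((shiftFunctorZero D ℤ).symm.app _) (Iso.refl _) (by omega)
      (hv2 (j - m') j m' (by omega) (by omega) h2 (by omega))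
  -- dévissage E
  have hE : ∀ kk, kk < n → ∀ m, m ≤ kk → Van (Y m) (X'.X (kk + 1)) ((m : ℤ) - (kk : ℤ)) := by
    intro kk hkk m
    induction m with
    | zero =>
      intro _
      have h := (vanXX1 0 (kk + 1) (by omega) (by omega)).cast
        (show (1 - (((kk + 1 : ℕ) : ℤ) - ((0 : ℕ) : ℤ))) = (((0 : ℕ) : ℤ) - (kk : ℤ)) by
          push_cast; ring)
      haveI := h0
      exact h.of_iso_left (asIso (a 0)).symm
    | succ m ih =>
      intro hm
      have hT := (hP m (by omega)).1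
      have h₂ : Van (X.X (m + 1)) (X'.X (kk + 1)) (((m + 1 : ℕ) : ℤ) - (kk : ℤ)) :=
        (vanXX1 (m + 1) (kk + 1) (by omega) (by omega)).cast (by push_cast; ring)
      have h₃ : Van (Y m) (X'.X (kk + 1)) ((((m + 1 : ℕ) : ℤ) - (kk : ℤ)) - 1) :=
        (ih (by omega)).cast (by push_cast; ring)
      exact van_obj₁ (Triangle.mk (a (m + 1)) (b m) (c m)) hT h₂ h₃
  -- dévissage G
  have hG : ∀ kk, kk < n → ∀ m, m ≤ kk →
      Van (X.X (kk + 1)) (qY m) (1 + (kk : ℤ) - (m : ℤ)) := by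
    intro kk hkk m
    induction m with
    | zero =>
      intro _
      have h := (vanXX2 0 (kk + 1) (by omega) (by omega)).cast
        (show (((kk + 1 : ℕ) : ℤ) - ((0 : ℕ) : ℤ)) = (1 + (kk : ℤ) - ((0 : ℕ) : ℤ)) by
          push_cast; ring)
      haveI := qh0
      exact h.of_iso_right (asIso (qa 0)).symm
    | succ m ih =>
      intro hm
      have hT := (qhP m (by omega)).1
      have h₂ : Van (X.X (kk + 1)) (X'.X (m + 1)) (1 + (kk : ℤ) - ((m + 1 : ℕ) : ℤ)) :=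
        (vanXX2 (m + 1) (kk + 1) (by omega) (by omega)).cast (by push_cast; ring)
      have h₃ : Van (X.X (kk + 1)) (qY m) ((1 + (kk : ℤ) - ((m + 1 : ℕ) : ℤ)) + 1) :=
        (ih (by omega)).cast (by push_cast; ring)
      exact van_tgt_obj₁ (Triangle.mk (qa (m + 1)) (qb m) (qc m)) hT h₂ h₃
  -- the difference
  have hw0 : y 0 - z 0 = 0 := by
    haveI := qh0
    have h1 := hy.1 0 (Nat.zero_le n)
    have h2 := hz.1 0 (Nat.zero_le n)
    have h3 : y 0 ≫ qa 0 = z 0 ≫ qa 0 := by rw [h1, h2]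
    rw [sub_eq_zero]
    exact (cancel_mono (qa 0)).1 h3
  have hwc : ∀ k, k < n → c k ≫ (shiftFunctor D (1 : ℤ)).map (y (k + 1) - z (k + 1)) =
      (y k - z k) ≫ qc k := by
    intro k hk
    rw [Functor.map_sub, Preadditive.comp_sub, Preadditive.sub_comp, (hy.2 k hk).2, (hz.2 k hk).2]
  have main : ∀ k, k ≤ n → y k - z k = 0 := by
    intro k
    induction k with
    | zero => intro _; exact hw0
    | succ k ih =>
      intro hk1
      have hk' : k < n := by omega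
      have hwk : y k - z k = 0 := ih (by omega)
      have hc0 : c k ≫ (shiftFunctor D (1 : ℤ)).map (y (k + 1) - z (k + 1)) = 0 := by
        rw [hwc k hk', hwk, zero_comp]
      have hT := (hP k hk').1
      have hrot := rot_of_distTriang _ hT
      obtain ⟨g', hg'⟩ : ∃ g' : (shiftFunctor D (1 : ℤ)).obj (X.X (k + 1)) ⟶
          (shiftFunctor D (1 : ℤ)).obj (qY (k + 1)),
          (shiftFunctor D (1 : ℤ)).map (y (k + 1) - z (k + 1)) =
            (-(shiftFunctor D (1 : ℤ)).map (a (k + 1))) ≫ g' :=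
        Pretriangulated.Triangle.yoneda_exact₃ _ hrot
          ((shiftFunctor D (1 : ℤ)).map (y (k + 1) - z (k + 1))) hc0
      obtain ⟨g₀, hg₀⟩ := (shiftFunctor D (1 : ℤ)).map_surjective g'
      have hw : y (k + 1) - z (k + 1) = -(a (k + 1) ≫ g₀) := by
        apply (shiftFunctor D (1 : ℤ)).map_injective
        rw [hg', ← hg₀, Functor.map_neg, Functor.map_comp, Preadditive.neg_comp]
      have hW1 : (y (k + 1) - z (k + 1)) ≫ qa (k + 1) = 0 := by
        rw [Preadditive.sub_comp, hy.1 (k + 1) hk1, hz.1 (k + 1) hk1, sub_self]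
      have h1 : a (k + 1) ≫ (g₀ ≫ qa (k + 1)) = 0 := by
        have h1' := hW1
        rw [hw, Preadditive.neg_comp, neg_eq_zero, Category.assoc] at h1'
        exact h1'
      obtain ⟨g₁, hg₁⟩ : ∃ g₁ : Y k ⟶ X'.X (k + 1), g₀ ≫ qa (k + 1) = b k ≫ g₁ :=
        Pretriangulated.Triangle.yoneda_exact₂ _ hT (g₀ ≫ qa (k + 1)) h1
      have hg₁0 : g₁ = 0 :=
        (hE k hk' k le_rfl).apply 0 0 ((shiftFunctorZero D ℤ).symm.app _)
          ((shiftFunctorZero D ℤ).symm.app _) (by omega) g₁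
      have h2 : g₀ ≫ qa (k + 1) = 0 := by
        rw [hg₁, hg₁0]
        exact comp_zero
      have h3 : (shiftFunctor D (1 : ℤ)).map g₀ ≫ (shiftFunctor D (1 : ℤ)).map (qa (k + 1)) = 0 := by
        rw [← Functor.map_comp, h2, Functor.map_zero]
      obtain ⟨g₂, hg₂⟩ : ∃ g₂ : (shiftFunctor D (1 : ℤ)).obj (X.X (k + 1)) ⟶ qY k,
          (shiftFunctor D (1 : ℤ)).map g₀ = g₂ ≫ qc k :=
        Pretriangulated.Triangle.coyoneda_exact₁ _ (qhP k hk').1
          ((shiftFunctor D (1 : ℤ)).map g₀) h3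
      have hg₂0 : g₂ = 0 :=
        (hG k hk' k le_rfl).apply 1 0 (Iso.refl _) ((shiftFunctorZero D ℤ).symm.app _) (by omega) g₂
      have hg₀0 : g₀ = 0 := by
        apply (shiftFunctor D (1 : ℤ)).map_injective
        rw [hg₂, hg₂0, Functor.map_zero]
        exact zero_comp
      rw [hw, hg₀0, comp_zero, neg_zero]
  exact sub_eq_zero.1 (main k hk)

end Groth.Agent.S6623
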