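import Groth.Statements.S6708
import Mathlib

set_option autoImplicit false
universe v u
open CategoryTheory
open DEquiv

namespace Groth.Agent.S6708

open CategoryTheory.Limits CategoryTheory.Pretriangulated in
/-- Let D be a pretriangulated category, D' ⊆ D a full triangulated subcategory (given as a property of
objects that is triangulated in Mathlib's sense) and X an object of D. Then the category of arrows E
⟶ X with E in D' is filtered. -/
theorem result
    {D : Type u} [Category.{v} D] [Preadditive D] [HasZeroObject D] [HasShift D ℤ]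
    [∀ n : ℤ, (shiftFunctor D n).Additive] [Pretriangulated D]
    (P : ObjectProperty D) [P.IsTriangulated] (X : D) :
    IsFiltered (CostructuredArrow P.ι X) := by
  have h1 : IsFilteredOrEmpty (CostructuredArrow P.ι X) := by
    refine ⟨?_, ?_⟩
    · intro A B
      obtain ⟨Y, hY, a, b, hT⟩ := P.distinguished_cocone_triangle₂
        (0 : B.left.obj ⟶ (A.left.obj)⟦(1 : ℤ)⟧) A.left.property B.left.property
      obtain ⟨e, he₁, he₂⟩ : ∃ (e : Y ≅ A.left.obj ⊞ B.left.obj), a ≫ e.hom = biprod.inl ∧
          b = e.hom ≫ biprod.snd := exists_iso_binaryBiproduct_of_distTriang _ hT rfl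
      refine ⟨CostructuredArrow.mk (S := P.ι) (Y := (⟨Y, hY⟩ : P.FullSubcategory))
          (e.hom ≫ biprod.desc (A.hom : A.left.obj ⟶ X) (B.hom : B.left.obj ⟶ X)),
        CostructuredArrow.homMk (ObjectProperty.homMk a) ?_,
        CostructuredArrow.homMk (ObjectProperty.homMk (biprod.inr ≫ e.inv)) ?_, trivial⟩
      · show a ≫ e.hom ≫ biprod.desc (A.hom : A.left.obj ⟶ X) (B.hom : B.left.obj ⟶ X) = A.hom
        rw [← Category.assoc, he₁, biprod.inl_desc]
      · show (biprod.inr ≫ e.inv) ≫ e.hom ≫
          biprod.desc (A.hom : A.left.obj ⟶ X) (B.hom : B.left.obj ⟶ X) = B.hom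
        rw [Category.assoc, e.inv_hom_id_assoc, biprod.inr_desc]
    · intro A B u v
      have hφ : (P.ι.map u.left - P.ι.map v.left) ≫ B.hom = 0 := by
        rw [Preadditive.sub_comp, CostructuredArrow.w u, CostructuredArrow.w v, sub_self]
      obtain ⟨Z, hZ, b, c, hT⟩ := P.distinguished_cocone_triangle
        (P.ι.map u.left - P.ι.map v.left) A.left.property B.left.property
      obtain ⟨w, hw⟩ := Triangle.yoneda_exact₂ _ hT (B.hom : B.left.obj ⟶ X) hφ
      dsimp at hw
      refine ⟨CostructuredArrow.mk (S := P.ι) (Y := (⟨Z, hZ⟩ : P.FullSubcategory)) w,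
        CostructuredArrow.homMk (ObjectProperty.homMk b) hw.symm, ?_⟩
      apply CostructuredArrow.hom_ext
      apply P.ι.map_injective
      have h0 : (P.ι.map u.left - P.ι.map v.left) ≫ b = 0 := comp_distTriang_mor_zero₁₂ _ hT
      rw [Preadditive.sub_comp, sub_eq_zero] at h0
      simpa using h0
  have h2 : Nonempty (CostructuredArrow P.ι X) := by
    obtain ⟨Z, hZ, hPZ⟩ := P.exists_prop_of_containsZero
    exact ⟨CostructuredArrow.mk (S := P.ι) (Y := (⟨Z, hPZ⟩ : P.FullSubcategory)) (hZ.to_ X)⟩
  exact { toIsFilteredOrEmpty := h1, nonempty := h2 }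

end Groth.Agent.S6708
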