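import Groth.Statements.S6710
-- import your own Groth.Agent.* helpers here
import Mathlib

set_option autoImplicit false
universe u v
open CategoryTheory
open FunMor

namespace Groth.Agent.S6710


lemma exists_cyclic_quotient {R : Type*} [CommRing R] {M' : Type*} [AddCommGroup M'] [Module R M']
    [Module.FinitePresentation R M'] [Nontrivial M'] :
    ∃ (J : Ideal R), J.FG ∧ J ≠ ⊤ ∧ ∃ q : M' →ₗ[R] R ⧸ J, Function.Surjective q := by
  classical
  have hfin : ∃ n : ℕ, ∃ v : Fin n → M', Submodule.span R (Set.range v) = ⊤ :=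
    Module.Finite.exists_fin (R := R) (M := M')
  obtain ⟨n, hmin, v, hv⟩ : ∃ n, (∀ m < n, ¬ ∃ v : Fin m → M', Submodule.span R (Set.range v) = ⊤) ∧
      ∃ v : Fin n → M', Submodule.span R (Set.range v) = ⊤ :=
    ⟨Nat.find hfin, fun m hm => Nat.find_min hfin hm, Nat.find_spec hfin⟩
  cases n with
  | zero =>
    exfalso
    have h1 : Set.range v = ∅ := Set.range_eq_empty v
    rw [h1, Submodule.span_empty] at hv
    haveI : Subsingleton (Submodule R M') := subsingleton_of_bot_eq_top hv
    haveI : Subsingleton M' := (Submodule.subsingleton_iff R).mp inferInstance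
    exact false_of_nontrivial_of_subsingleton M'
  | succ k =>
    set M₁ : Submodule R M' := Submodule.span R (Set.range fun i : Fin k => v i.succ) with hM₁
    have hM₁top : M₁ ≠ ⊤ := fun h => hmin k (Nat.lt_succ_self k) ⟨_, h⟩
    haveI : Nontrivial (M' ⧸ M₁) := Submodule.Quotient.nontrivial_iff.mpr hM₁top
    haveI : Module.FinitePresentation R (M' ⧸ M₁) :=
      Module.finitePresentation_of_surjective M₁.mkQ M₁.mkQ_surjective (by
        rw [Submodule.ker_mkQ]
        exact Submodule.fg_span (Set.finite_range _))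
    let l : R →ₗ[R] (M' ⧸ M₁) := LinearMap.toSpanSingleton R (M' ⧸ M₁) (M₁.mkQ (v 0))
    have hl : Function.Surjective l := by
      intro z
      obtain ⟨x, rfl⟩ := M₁.mkQ_surjective z
      have hx : x ∈ Submodule.span R (Set.range v) := by rw [hv]; trivial
      have hle : Submodule.span R (Set.range v) ≤ (LinearMap.range l).comap M₁.mkQ := by
        rw [Submodule.span_le]
        rintro _ ⟨i, rfl⟩
        refine Fin.cases ?_ (fun j => ?_) i
        · exact ⟨1, by simp [l]⟩
        · refine ⟨0, ?_⟩
          have hmem : v j.succ ∈ M₁ := Submodule.subset_span ⟨j, rfl⟩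
          have h0 : M₁.mkQ (v j.succ) = 0 := by
            rw [Submodule.mkQ_apply, Submodule.Quotient.mk_eq_zero]
            exact hmem
          rw [map_zero, h0]
      exact hle hx
    refine ⟨LinearMap.ker l, Module.FinitePresentation.fg_ker l hl, ?_,
      (l.quotKerEquivOfSurjective hl).symm.toLinearMap ∘ₗ M₁.mkQ, ?_⟩
    · intro htop
      have hl0 : l = 0 := LinearMap.ker_eq_top.mp htop
      haveI : Subsingleton (M' ⧸ M₁) := by
        refine ⟨fun a b => ?_⟩
        obtain ⟨r, rfl⟩ := hl a
        obtain ⟨s, rfl⟩ := hl b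
        rw [hl0]; simp
      exact false_of_nontrivial_of_subsingleton (M' ⧸ M₁)
    · rw [LinearMap.coe_comp]
      exact (LinearEquiv.surjective _).comp M₁.mkQ_surjective

lemma exists_ne_zero_map {R : Type*} [CommRing R] {M' N' : Type*} [AddCommGroup M'] [Module R M']
    [AddCommGroup N'] [Module R N'] [Module.FinitePresentation R M'] [Nontrivial M']
    (y : N') (hy : y ≠ 0)
    (hrad : ∀ J : Ideal R, J ≠ ⊤ →
      J ≤ Ideal.radical (LinearMap.ker (LinearMap.toSpanSingleton R N' y))) :
    ∃ g : M' →ₗ[R] N', g ≠ 0 := by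
  classical
  obtain ⟨J, hJfg, hJtop, q, hq⟩ := exists_cyclic_quotient (R := R) (M' := M')
  have hmemI : ∀ a : R, a ∈ LinearMap.ker (LinearMap.toSpanSingleton R N' y) ↔ a • y = 0 := by
    intro a
    rw [LinearMap.mem_ker, LinearMap.toSpanSingleton_apply]
  obtain ⟨k0, hk0⟩ := Ideal.exists_pow_le_of_le_radical_of_fg (hrad J hJtop) hJfg
  have hex : ∃ k, J ^ k ≤ LinearMap.ker (LinearMap.toSpanSingleton R N' y) := ⟨k0, hk0⟩
  obtain ⟨k, hk, hmin⟩ : ∃ k, J ^ k ≤ LinearMap.ker (LinearMap.toSpanSingleton R N' y) ∧
      ∀ j < k, ¬ J ^ j ≤ LinearMap.ker (LinearMap.toSpanSingleton R N' y) :=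
    ⟨Nat.find hex, Nat.find_spec hex, fun j hj => Nat.find_min hex hj⟩
  cases k with
  | zero =>
    exfalso
    rw [pow_zero, Ideal.one_eq_top, top_le_iff] at hk
    have h1 : (1 : R) ∈ LinearMap.ker (LinearMap.toSpanSingleton R N' y) := by
      rw [hk]; trivial
    rw [hmemI, one_smul] at h1
    exact hy h1
  | succ j =>
    have hj := hmin j (Nat.lt_succ_self j)
    obtain ⟨r, hrJ, hrI⟩ := SetLike.not_le_iff_exists.mp hj
    have hkill : ∀ a ∈ J, a • (r • y) = 0 := by
      intro a ha
      rw [smul_smul, ← hmemI]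
      apply hk
      rw [pow_succ, mul_comm a r]
      exact Ideal.mul_mem_mul hrJ ha
    let t : R ⧸ J →ₗ[R] N' := Submodule.liftQ J (LinearMap.toSpanSingleton R N' (r • y)) (by
      intro a ha
      rw [LinearMap.mem_ker, LinearMap.toSpanSingleton_apply]
      exact hkill a ha)
    refine ⟨t ∘ₗ q, ?_⟩
    intro h0
    obtain ⟨x, hx⟩ := hq (Submodule.Quotient.mk 1)
    have h1 := LinearMap.congr_fun h0 x
    rw [LinearMap.comp_apply, hx, LinearMap.zero_apply] at h1
    have h2 : t (Submodule.Quotient.mk 1) = r • y := by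
      show Submodule.liftQ J _ _ (Submodule.Quotient.mk 1) = _
      rw [Submodule.liftQ_apply, LinearMap.toSpanSingleton_apply, one_smul]
    rw [h2] at h1
    exact hrI ((hmemI r).mpr h1)

/-- The statement for an affine scheme written in terms of modules: let A be a commutative ring, M a
finitely presented A-module and N a nonzero A-module with Supp(N) ⊆ Supp(M). Then Hom_A(M, N) is
nonzero. -/
theorem result
    (A : Type u) [CommRing A] (M : Type v) [AddCommGroup M] [Module A M]
    [Module.FinitePresentation A M] (N : Type v) [AddCommGroup N] [Module A N] [Nontrivial N]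
    (h : Module.support A N ⊆ Module.support A M) : Nontrivial (M →ₗ[A] N) := by
  classical
  obtain ⟨x, hx⟩ := exists_ne (0 : N)
  have hmemI : ∀ a : A, a ∈ LinearMap.ker (LinearMap.toSpanSingleton A N x) ↔ a • x = 0 := by
    intro a
    rw [LinearMap.mem_ker, LinearMap.toSpanSingleton_apply]
  have hItop : (LinearMap.ker (LinearMap.toSpanSingleton A N x) : Ideal A) ≠ ⊤ := by
    intro htop
    have h1 : (1 : A) ∈ LinearMap.ker (LinearMap.toSpanSingleton A N x) := by
      rw [htop]; trivial
    rw [hmemI, one_smul] at h1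
    exact hx h1
  obtain ⟨P, hPmax, hIP⟩ := Ideal.exists_le_maximal _ hItop
  haveI := hPmax.isPrime
  obtain ⟨p, hpmin, hpP⟩ := Ideal.exists_minimalPrimes_le hIP
  haveI hpprime : p.IsPrime := hpmin.1.1
  have hIp : (LinearMap.ker (LinearMap.toSpanSingleton A N x) : Ideal A) ≤ p := hpmin.1.2
  have hpN : (⟨p, hpprime⟩ : PrimeSpectrum A) ∈ Module.support A N := by
    rw [Module.mem_support_iff_exists_annihilator]
    refine ⟨x, ?_⟩
    intro a ha
    apply hIp
    rw [hmemI]
    exact (Submodule.mem_annihilator_span_singleton x a).mp ha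
  have hpM := h hpN
  rw [Module.mem_support_iff] at hpM
  haveI : Nontrivial (LocalizedModule p.primeCompl M) := hpM
  -- the element y
  have hy : LocalizedModule.mkLinearMap p.primeCompl N x ≠ 0 := by
    intro hy0
    rw [IsLocalizedModule.eq_zero_iff p.primeCompl] at hy0
    obtain ⟨c, hc⟩ := hy0
    have hcI : (c : A) ∈ LinearMap.ker (LinearMap.toSpanSingleton A N x) := by
      rw [hmemI]; exact hc
    exact c.2 (hIp hcI)
  have hrad : ∀ J : Ideal (Localization p.primeCompl), J ≠ ⊤ →
      J ≤ Ideal.radical (LinearMap.ker (LinearMap.toSpanSingleton (Localization p.primeCompl)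
        (LocalizedModule p.primeCompl N) (LocalizedModule.mkLinearMap p.primeCompl N x))) := by
    intro J hJ
    rw [Ideal.radical_eq_sInf]
    apply le_sInf
    rintro Q ⟨hIQ, hQprime⟩
    have hJm : J ≤ IsLocalRing.maximalIdeal (Localization.AtPrime p) := IsLocalRing.le_maximalIdeal hJ
    refine hJm.trans ?_
    rw [← Localization.AtPrime.map_eq_maximalIdeal, Ideal.map_le_iff_le_comap]
    have hq1 : (LinearMap.ker (LinearMap.toSpanSingleton A N x) : Ideal A) ≤
        Q.comap (algebraMap A (Localization.AtPrime p)) := by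
      intro a ha
      rw [Ideal.mem_comap]
      apply hIQ
      rw [LinearMap.mem_ker, LinearMap.toSpanSingleton_apply, algebraMap_smul, ← map_smul,
        (hmemI a).mp ha, map_zero]
    have hq2 : Q.comap (algebraMap A (Localization.AtPrime p)) ≤ p := by
      have hQm : Q ≤ IsLocalRing.maximalIdeal (Localization.AtPrime p) :=
        IsLocalRing.le_maximalIdeal hQprime.ne_top
      have := Ideal.comap_mono (f := algebraMap A (Localization.AtPrime p)) hQm
      rwa [← Ideal.under_def, ← Ideal.under_def,
        IsLocalization.AtPrime.under_maximalIdeal (Localization.AtPrime p) p] at this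
    exact hpmin.2 ⟨Ideal.IsPrime.comap _, hq1⟩ hq2
  obtain ⟨g, hg⟩ := exists_ne_zero_map (R := Localization p.primeCompl)
    (M' := LocalizedModule p.primeCompl M) (N' := LocalizedModule p.primeCompl N)
    (LocalizedModule.mkLinearMap p.primeCompl N x) hy hrad
  rw [← not_subsingleton_iff_nontrivial]
  intro hsub
  apply hg
  exact (Module.FinitePresentation.linearEquivMapExtendScalars p.primeCompl).symm.map_eq_zero_iff.mp
    (Subsingleton.elim _ _)

end Groth.Agent.S6710
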