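import Groth.Statements.S6775
import Mathlib


set_option autoImplicit false
open CategoryTheory CategoryTheory.Limits
universe v u
open CategoryTheory CategoryTheory.Abelian

namespace Groth.Agent.S6775

/-- In an abelian category a cartesian square whose bottom arrow `k` is an epimorphism is also
cocartesian, and the arrow `f` opposite to `k` is an epimorphism. -/
theorem result {A : Type u} [Category.{v} A] [Abelian A] {w x y z : A} (f : w ⟶ y) (g : w ⟶ x) (h : y ⟶ z) (k : x ⟶ z) (sq : IsPullback f g h k) [Epi k] : IsPushout f g h k ∧ Epi f := by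
  have hf : Epi f := Abelian.epi_fst_of_isLimit h k sq.isLimit
  refine ⟨⟨sq.toCommSq, ⟨?_⟩⟩, hf⟩
  -- lift of the kernel of `k` to `w`
  have hl : (0 : kernel k ⟶ y) ≫ h = kernel.ι k ≫ k := by rw [zero_comp, kernel.condition]
  have key : ∀ s : PushoutCocone f g, kernel.ι k ≫ s.inr = 0 := by
    intro s
    have h1 : sq.lift 0 (kernel.ι k) hl ≫ g = kernel.ι k := sq.lift_snd _ _ _
    have h2 : sq.lift 0 (kernel.ι k) hl ≫ f = 0 := sq.lift_fst _ _ _
    rw [← h1, Category.assoc, ← s.condition, ← Category.assoc, h2, zero_comp]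
  refine PushoutCocone.IsColimit.mk _ (fun s => Abelian.epiDesc k s.inr (key s)) ?_ ?_ ?_
  · intro s
    rw [← cancel_epi f, ← Category.assoc, sq.w, Category.assoc, Abelian.comp_epiDesc, s.condition]
  · intro s
    exact Abelian.comp_epiDesc _ _ _
  · intro s m _ hm
    rw [← cancel_epi k, Abelian.comp_epiDesc, hm]

end Groth.Agent.S6775
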