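import Groth.Statements.S6784
import Mathlib

set_option autoImplicit false
open CategoryTheory
universe u
open SSet

namespace Groth.Agent.S6784


open CategoryTheory CategoryTheory.Limits CategoryTheory.Functor Opposite Simplicial

noncomputable def stdIsPointwise (n : ℕ) :
    (RightExtension.mk (SSet.stdSimplex.{u}.obj (SimplexCategory.mk n))
      (𝟙 ((SimplexCategory.Truncated.inclusion 1).op ⋙
        SSet.stdSimplex.{u}.obj (SimplexCategory.mk n)))).IsPointwiseRightKanExtension := by
  intro Y
  refine Classical.choice ((Types.isLimit_iff _).mpr ?_)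
  intro s hs
  let gi : Fin (Y.unop.len + 1) → StructuredArrow Y (SimplexCategory.Truncated.inclusion 1).op :=
    fun i => StructuredArrow.mk
      (Y := op (⟨SimplexCategory.mk 0, Nat.zero_le 1⟩ : SimplexCategory.Truncated 1))
      ((SimplexCategory.const (SimplexCategory.mk 0) Y.unop i).op)
  let v : Fin (Y.unop.len + 1) → Fin (n + 1) := fun i =>
    (SSet.stdSimplex.objEquiv (n := SimplexCategory.mk n) (m := op (SimplexCategory.mk 0))
      (s (gi i))).toOrderHom 0
  have K : ∀ (g : StructuredArrow Y (SimplexCategory.Truncated.inclusion 1).op)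
      (j : Fin (g.right.unop.obj.len + 1)),
      (SSet.stdSimplex.objEquiv (n := SimplexCategory.mk n)
        (m := (SimplexCategory.Truncated.inclusion 1).op.obj g.right) (s g)).toOrderHom j =
        v (g.hom.unop.toOrderHom j) := by
    intro g j
    obtain ⟨κ, hκ⟩ : ∃ κ : g.right ⟶
        op (⟨SimplexCategory.mk 0, Nat.zero_le 1⟩ : SimplexCategory.Truncated 1),
        (SimplexCategory.Truncated.inclusion 1).op.map κ =
          (SimplexCategory.const (SimplexCategory.mk 0) g.right.unop.obj j).op :=
      ⟨(SimplexCategory.Truncated.inclusion 1).op.preimage _,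
        (SimplexCategory.Truncated.inclusion 1).op.map_preimage _⟩
    have hw : g.hom ≫ (SimplexCategory.Truncated.inclusion 1).op.map κ =
        (gi (g.hom.unop.toOrderHom j)).hom :=
      (congrArg (fun t => g.hom ≫ t) hκ).trans
        (congrArg Quiver.Hom.op
          (SimplexCategory.const_comp (SimplexCategory.mk 0) g.hom.unop j))
    have hμ := hs (StructuredArrow.homMk κ hw : g ⟶ gi (g.hom.unop.toOrderHom j))
    have h2 : s (gi (g.hom.unop.toOrderHom j)) =
        (SSet.stdSimplex.{u}.obj (SimplexCategory.mk n)).map
          (SimplexCategory.const (SimplexCategory.mk 0) g.right.unop.obj j).op (s g) :=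
      hμ.symm.trans (congrArg
        (fun t => (SSet.stdSimplex.{u}.obj (SimplexCategory.mk n)).map t (s g)) hκ)
    exact (congrArg (fun z => (SSet.stdSimplex.objEquiv (n := SimplexCategory.mk n)
      (m := op (SimplexCategory.mk 0)) z).toOrderHom 0) h2).symm
  have hmono : Monotone v := by
    intro i i' hii'
    let ge : StructuredArrow Y (SimplexCategory.Truncated.inclusion 1).op :=
      StructuredArrow.mk
        (Y := op (⟨SimplexCategory.mk 1, le_refl 1⟩ : SimplexCategory.Truncated 1))
        ((SimplexCategory.mkOfLe (n := Y.unop.len) i i' hii').op)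
    have h0 := K ge 0
    have h1 := K ge 1
    have hm : (SSet.stdSimplex.objEquiv (n := SimplexCategory.mk n)
        (m := (SimplexCategory.Truncated.inclusion 1).op.obj ge.right) (s ge)).toOrderHom 0 ≤
        (SSet.stdSimplex.objEquiv (n := SimplexCategory.mk n)
        (m := (SimplexCategory.Truncated.inclusion 1).op.obj ge.right) (s ge)).toOrderHom 1 :=
      (SSet.stdSimplex.objEquiv (n := SimplexCategory.mk n)
        (m := (SimplexCategory.Truncated.inclusion 1).op.obj ge.right)
        (s ge)).toOrderHom.monotone (Fin.zero_le _)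
    have e0 : ge.hom.unop.toOrderHom 0 = i := rfl
    have e1 : ge.hom.unop.toOrderHom 1 = i' := rfl
    rw [h0, h1, e0, e1] at hm
    exact hm
  let x : (SSet.stdSimplex.{u}.obj (SimplexCategory.mk n)).obj Y :=
    SSet.stdSimplex.objEquiv.symm (SimplexCategory.Hom.mk ⟨v, hmono⟩)
  refine ⟨x, ?_, ?_⟩
  · intro g
    apply (SSet.stdSimplex.objEquiv (n := SimplexCategory.mk n)
      (m := (SimplexCategory.Truncated.inclusion 1).op.obj g.right)).injective
    ext j : 3
    exact (K g j).symm
  · intro y hy
    apply (SSet.stdSimplex.objEquiv (n := SimplexCategory.mk n) (m := Y)).injective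
    ext i : 3
    have h := hy (gi i)
    exact congrArg (fun z => (SSet.stdSimplex.objEquiv (n := SimplexCategory.mk n)
      (m := op (SimplexCategory.mk 0)) z).toOrderHom 0) h


/-- The standard simplex `Δ[n]` is `1`-coskeletal, i.e. it is the right Kan extension of its
`1`-truncation. -/
theorem result (n : ℕ) : SimplicialObject.IsCoskeletal (SSet.stdSimplex.{u}.obj (SimplexCategory.mk n)) 1 := by
  exact ⟨(stdIsPointwise n).isRightKanExtension⟩

end Groth.Agent.S6784
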