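import Groth.Statements.S6786
import Mathlib
import Groth.Agent.Lib.helper4.ML2g


set_option autoImplicit false
open CategoryTheory CategoryTheory.Limits
universe u
open HomAlg3

namespace Groth.Agent.S6786

/-- For a sequence `(A_i) ⟶ (B_i) ⟶ (C_i) ⟶ (D_i)` of inverse systems of abelian groups over `ℕ` that is
exact levelwise at the two middle places, if `(A_i)` is Mittag-Leffler then `lim B_i ⟶ lim C_i ⟶ lim
D_i` is exact. -/
theorem result {A B C D : ℕᵒᵖ ⥤ AddCommGrpCat.{u}} (a : A ⟶ B) (b : B ⟶ C) (c : C ⟶ D) (hB : ∀ i, (b.app i).hom.ker = (a.app i).hom.range) (hC : ∀ i, (c.app i).hom.ker = (b.app i).hom.range) (hA : (A ⋙ forget AddCommGrpCat).IsMittagLeffler) : (limMap c).hom.ker = (limMap b).hom.range := by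
  apply le_antisymm
  · intro x hx
    have hx0 : (limMap c).hom x = 0 := hx
    obtain ⟨y, hy⟩ := H4ML.mem_range_limMap a b hB hA x (fun j => by
      have h1 : (c.app j).hom ((limit.π C j).hom x) = (limit.π D j).hom ((limMap c).hom x) :=
        (congrArg (fun m => m.hom x) (limMap_π c j)).symm
      have h2 : (limit.π C j).hom x ∈ (c.app j).hom.ker := by
        show (c.app j).hom _ = 0
        rw [h1, hx0, map_zero]
      rw [hC j] at h2
      exact h2)
    exact ⟨y, hy⟩
  · rintro x ⟨y, rfl⟩
    show (limMap c).hom ((limMap b).hom y) = 0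
    apply Concrete.limit_ext
    intro j
    have h1 : (limit.π D j).hom ((limMap c).hom ((limMap b).hom y)) =
        (c.app j).hom ((limit.π C j).hom ((limMap b).hom y)) :=
      congrArg (fun m => m.hom ((limMap b).hom y)) (limMap_π c j)
    have h2 : (limit.π C j).hom ((limMap b).hom y) = (b.app j).hom ((limit.π B j).hom y) :=
      congrArg (fun m => m.hom y) (limMap_π b j)
    refine h1.trans ?_
    rw [h2]
    have h3 : (b.app j).hom ((limit.π B j).hom y) ∈ (c.app j).hom.ker := by
      rw [hC j]; exact ⟨_, rfl⟩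
    refine (h3 : (c.app j).hom _ = 0).trans ?_
    exact (map_zero _).symm

end Groth.Agent.S6786
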