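import Groth.Statements.S6787
import Mathlib
import Groth.Agent.Lib.helper2.ML


set_option autoImplicit false
open CategoryTheory CategoryTheory.Limits
universe u
open HomAlg3

namespace Groth.Agent.S6787

open H2ML Opposite

section aux

variable {A B C : ℕᵒᵖ ⥤ AddCommGrpCat.{u}}

lemma nat_r (a : A ⟶ B) {p k : ℕ} (h : p ≤ k) (x : A.obj (op k)) :
    (a.app (op p)).hom (r A h x) = r B h ((a.app (op k)).hom x) :=
  congrArg (fun m => m.hom x) (a.naturality (homOfLE h).op)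

lemma stab_B (a : A ⟶ B) (b : B ⟶ C) (hb : ∀ i, Function.Surjective (b.app i).hom)
    (hex : ∀ i, (b.app i).hom.ker = (a.app i).hom.range)
    (hA : ∀ p, Stab A p) (hC : ∀ p, Stab C p) (p : ℕ) : Stab B p := by
  obtain ⟨q, hpq, hq⟩ := hA p
  obtain ⟨r₀, hqr, hr⟩ := hC q
  have hpr : p ≤ r₀ := hpq.trans hqr
  refine ⟨r₀, hpr, fun k hk => le_antisymm (Im_anti B hpr hk) ?_⟩
  rintro _ ⟨x, rfl⟩
  have hqk : q ≤ k := hqr.trans hk
  have h1 : r C hqr ((b.app (op r₀)).hom x) ∈ Im C (hqr.trans hk) := by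
    rw [hr k hk]; exact ⟨_, rfl⟩
  obtain ⟨z, hz⟩ := h1
  obtain ⟨y, rfl⟩ := hb (op k) z
  have h2 : r B hqr x - r B hqk y ∈ (b.app (op q)).hom.ker := by
    show (b.app (op q)).hom _ = 0
    rw [map_sub, nat_r b hqr x, nat_r b hqk y, hz, sub_self]
  rw [hex] at h2
  obtain ⟨α, hα⟩ := h2
  have h3 : r A hpq α ∈ Im A (hpq.trans hqk) := by
    rw [hq k hqk]; exact ⟨_, rfl⟩
  obtain ⟨α', hα'⟩ := h3
  refine ⟨y + (a.app (op k)).hom α', ?_⟩
  rw [map_add, ← nat_r a _ α', hα', nat_r a hpq α, hα, map_sub, r_r, r_r]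
  abel

lemma stab_C (C₀ : AddCommGrpCat.{u}) (c : (Functor.const ℕᵒᵖ).obj C₀ ⟶ C)
    (hC : DerCA.IsEssConstant C C₀ c) (j : ℕ) : Stab C j := by
  obtain ⟨i, s, hs, hk⟩ := hC
  obtain ⟨k, hi, hj, hkj⟩ := hk j
  refine ⟨k, hj, fun k' hk' => le_antisymm (Im_anti C hj hk') ?_⟩
  rintro _ ⟨z, rfl⟩
  have e1 : r C hj z = (c.app (op j)).hom (s.hom (r C hi z)) :=
    congrArg (fun m => m.hom z) hkj
  have e2 : (c.app (op j)).hom (s.hom (r C hi z)) =
      r C (hj.trans hk') ((c.app (op k')).hom (s.hom (r C hi z))) :=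
    congrArg (fun m => m.hom (s.hom (r C hi z))) (c.naturality (homOfLE (hj.trans hk')).op)
  exact ⟨_, (e1.trans e2).symm⟩

lemma stab_A (a : A ⟶ B) (b : B ⟶ C) (ha : ∀ i, Function.Injective (a.app i).hom)
    (hex : ∀ i, (b.app i).hom.ker = (a.app i).hom.range)
    (C₀ : AddCommGrpCat.{u}) (c : (Functor.const ℕᵒᵖ).obj C₀ ⟶ C)
    (hC : DerCA.IsEssConstant C C₀ c) (hB : ∀ p, Stab B p) (p : ℕ) : Stab A p := by
  obtain ⟨i, s, hs, hk⟩ := hC
  have hpp' : p ≤ max p i := le_max_left _ _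
  have hip' : i ≤ max p i := le_max_right _ _
  obtain ⟨q, hp'q, hq⟩ := hB (max p i)
  have hpq : p ≤ q := hpp'.trans hp'q
  refine ⟨q, hpq, fun k hk' => le_antisymm (Im_anti A hpq hk') ?_⟩
  rintro _ ⟨α, rfl⟩
  obtain ⟨k', hik', hkk', hess⟩ := hk k
  have hqk' : q ≤ k' := hk'.trans hkk'
  have h1 : r B hp'q ((a.app (op q)).hom α) ∈ Im B (hp'q.trans hqk') := by
    rw [hq k' hqk']; exact ⟨_, rfl⟩
  obtain ⟨y, hy⟩ := h1
  have h2 : r C (hp'q.trans hqk') ((b.app (op k')).hom y) = 0 := by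
    rw [← nat_r b, hy, ← nat_r a]
    have : (a.app (op (max p i))).hom (r A hp'q α) ∈ (b.app (op (max p i))).hom.ker := by
      rw [hex]; exact ⟨_, rfl⟩
    exact this
  have h3 : r C hik' ((b.app (op k')).hom y) = 0 := by
    rw [← r_r C hip' (hp'q.trans hqk'), h2, map_zero]
  have h4 : r C hkk' ((b.app (op k')).hom y) = 0 := by
    have e := congrArg (fun m => m.hom ((b.app (op k')).hom y)) hess
    refine e.trans ?_
    show (c.app (op k)).hom (s.hom (r C hik' ((b.app (op k')).hom y))) = 0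
    rw [h3, map_zero, map_zero]
  have h5 : r B hkk' y ∈ (b.app (op k)).hom.ker := by
    show (b.app (op k)).hom _ = 0
    rw [nat_r b, h4]
  rw [hex] at h5
  obtain ⟨α', hα'⟩ := h5
  refine ⟨α', ?_⟩
  apply ha (op p)
  rw [nat_r a, hα', r_r, nat_r a, ← r_r B hpp' hp'q, ← hy, r_r]

end aux

/-- Take inverse systems `(A_i)`, `(B_i)`, `(C_i)` of abelian groups over `ℕ`, with morphisms of systems
`(A_i) ⟶ (B_i) ⟶ (C_i)` that give a short exact sequence at every index, and suppose `(C_i)` is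
essentially constant. Then `(A_i)` is Mittag-Leffler if and only if `(B_i)` is. -/
theorem result {A B C : ℕᵒᵖ ⥤ AddCommGrpCat.{u}} (a : A ⟶ B) (b : B ⟶ C) (ha : ∀ i, Function.Injective (a.app i).hom) (hb : ∀ i, Function.Surjective (b.app i).hom) (hex : ∀ i, (b.app i).hom.ker = (a.app i).hom.range) (hC : ∃ (C₀ : AddCommGrpCat.{u}) (c : (Functor.const ℕᵒᵖ).obj C₀ ⟶ C), DerCA.IsEssConstant C C₀ c) : (A ⋙ forget AddCommGrpCat).IsMittagLeffler ↔ (B ⋙ forget AddCommGrpCat).IsMittagLeffler := by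
  obtain ⟨C₀, c, hCc⟩ := hC
  rw [ml_iff, ml_iff]
  constructor
  · intro hA p
    exact stab_B a b hb hex hA (fun j => stab_C C₀ c hCc j) p
  · intro hB p
    exact stab_A a b ha hex C₀ c hCc hB p

end Groth.Agent.S6787
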