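import Groth.Statements.S6790
import Mathlib


set_option autoImplicit false
open CategoryTheory CategoryTheory.Limits MonoidalCategory
universe v u
open CategoryTheory CategoryTheory.Monoidal

namespace Groth.Agent.S6790

/-- In an idempotent-complete additive monoidal category, a direct summand of an object admitting a dual
(with coevaluation `𝟙_ A ⟶ X ⊗ Y` and evaluation `Y ⊗ X ⟶ 𝟙_ A`) again admits such a dual. -/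
theorem result {A : Type u} [Category.{v} A] [Preadditive A] [HasFiniteBiproducts A] [MonoidalCategory A] [MonoidalPreadditive A] [IsIdempotentComplete A] {X X₁ : A} (i : X₁ ⟶ X) (p : X ⟶ X₁) (hip : i ≫ p = 𝟙 X₁) [HasRightDual X] : Nonempty (HasRightDual X₁) := by
  let e : X ⟶ X := p ≫ i
  have he : e ≫ e = e := by
    change (p ≫ i) ≫ (p ≫ i) = p ≫ i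
    rw [Category.assoc, ← Category.assoc i p i, hip, Category.id_comp]
  have hie : i ≫ e = i := by
    change i ≫ (p ≫ i) = i
    rw [← Category.assoc, hip, Category.id_comp]
  have hed : (eᘁ) ≫ (eᘁ) = (eᘁ) := by rw [← comp_rightAdjointMate, he]
  obtain ⟨Y₁, i', p', hi'p', hp'i'⟩ := IsIdempotentComplete.idempotents_split (Xᘁ) (eᘁ) hed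
  have hep' : (eᘁ) ≫ p' = p' := by
    rw [← hp'i', Category.assoc, hi'p', Category.comp_id]
  refine ⟨@HasRightDual.mk _ _ _ X₁ Y₁ ?_⟩
  exact
    { coevaluation' := η_ X (Xᘁ) ≫ p ▷ (Xᘁ) ≫ X₁ ◁ p'
      evaluation' := i' ▷ X₁ ≫ (Xᘁ) ◁ i ≫ ε_ X (Xᘁ)
      evaluation_coevaluation' := by
        calc (η_ X (Xᘁ) ≫ p ▷ (Xᘁ) ≫ X₁ ◁ p') ▷ X₁ ≫ (α_ _ _ _).hom ≫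
              X₁ ◁ (i' ▷ X₁ ≫ (Xᘁ) ◁ i ≫ ε_ X (Xᘁ))
            = η_ X (Xᘁ) ▷ X₁ ⊗≫ p ▷ ((Xᘁ) ⊗ X₁) ⊗≫ X₁ ◁ ((p' ≫ i') ▷ X₁ ≫ (Xᘁ) ◁ i) ⊗≫
                X₁ ◁ ε_ X (Xᘁ) := by monoidal
          _ = η_ X (Xᘁ) ▷ X₁ ⊗≫ p ▷ ((Xᘁ) ⊗ X₁) ⊗≫ X₁ ◁ ((Xᘁ) ◁ i ≫ (eᘁ) ▷ X) ⊗≫
                X₁ ◁ ε_ X (Xᘁ) := by rw [hp'i', whisker_exchange]
          _ = η_ X (Xᘁ) ▷ X₁ ⊗≫ p ▷ ((Xᘁ) ⊗ X₁) ⊗≫ X₁ ◁ ((Xᘁ) ◁ i) ⊗≫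
                X₁ ◁ ((eᘁ) ▷ X ≫ ε_ X (Xᘁ)) := by monoidal
          _ = η_ X (Xᘁ) ▷ X₁ ⊗≫ p ▷ ((Xᘁ) ⊗ X₁) ⊗≫ X₁ ◁ ((Xᘁ) ◁ i) ⊗≫
                X₁ ◁ ((Xᘁ) ◁ e ≫ ε_ X (Xᘁ)) := by rw [rightAdjointMate_comp_evaluation]
          _ = η_ X (Xᘁ) ▷ X₁ ⊗≫ (p ▷ ((Xᘁ) ⊗ X₁) ≫ X₁ ◁ ((Xᘁ) ◁ (i ≫ e))) ⊗≫
                X₁ ◁ ε_ X (Xᘁ) := by monoidal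
          _ = η_ X (Xᘁ) ▷ X₁ ⊗≫ (p ▷ ((Xᘁ) ⊗ X₁) ≫ X₁ ◁ ((Xᘁ) ◁ i)) ⊗≫
                X₁ ◁ ε_ X (Xᘁ) := by rw [hie]
          _ = 𝟙 _ ⊗≫ (η_ X (Xᘁ) ▷ X₁ ≫ (X ⊗ (Xᘁ)) ◁ i) ⊗≫
                (p ▷ ((Xᘁ) ⊗ X) ≫ X₁ ◁ ε_ X (Xᘁ)) ⊗≫ 𝟙 _ := by
            rw [← whisker_exchange]; monoidal
          _ = 𝟙 _ ⊗≫ i ⊗≫ (η_ X (Xᘁ) ▷ X ⊗≫ X ◁ ε_ X (Xᘁ)) ⊗≫ p ⊗≫ 𝟙 _ := by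
            rw [← whisker_exchange, ← whisker_exchange]; monoidal
          _ = 𝟙 _ ⊗≫ (i ≫ p) ⊗≫ 𝟙 _ := by
            rw [ExactPairing.evaluation_coevaluation'']; monoidal
          _ = (λ_ X₁).hom ≫ (ρ_ X₁).inv := by
            rw [hip]; monoidal
      coevaluation_evaluation' := by
        calc Y₁ ◁ (η_ X (Xᘁ) ≫ p ▷ (Xᘁ) ≫ X₁ ◁ p') ≫ (α_ _ _ _).inv ≫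
              (i' ▷ X₁ ≫ (Xᘁ) ◁ i ≫ ε_ X (Xᘁ)) ▷ Y₁
            = Y₁ ◁ η_ X (Xᘁ) ⊗≫ Y₁ ◁ (p ▷ (Xᘁ)) ⊗≫
                (Y₁ ◁ (X₁ ◁ p') ≫ i' ▷ (X₁ ⊗ Y₁)) ⊗≫ ((Xᘁ) ◁ i) ▷ Y₁ ⊗≫
                ε_ X (Xᘁ) ▷ Y₁ := by monoidal
          _ = Y₁ ◁ η_ X (Xᘁ) ⊗≫ Y₁ ◁ (p ▷ (Xᘁ)) ⊗≫
                (i' ▷ (X₁ ⊗ (Xᘁ)) ≫ (Xᘁ) ◁ (X₁ ◁ p')) ⊗≫ ((Xᘁ) ◁ i) ▷ Y₁ ⊗≫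
                ε_ X (Xᘁ) ▷ Y₁ := by rw [whisker_exchange]
          _ = Y₁ ◁ η_ X (Xᘁ) ⊗≫ Y₁ ◁ (p ▷ (Xᘁ)) ⊗≫ i' ▷ (X₁ ⊗ (Xᘁ)) ⊗≫
                (((Xᘁ) ⊗ X₁) ◁ p' ≫ ((Xᘁ) ◁ i) ▷ Y₁) ⊗≫ ε_ X (Xᘁ) ▷ Y₁ := by monoidal
          _ = Y₁ ◁ η_ X (Xᘁ) ⊗≫ Y₁ ◁ (p ▷ (Xᘁ)) ⊗≫ i' ▷ (X₁ ⊗ (Xᘁ)) ⊗≫
                (((Xᘁ) ◁ i) ▷ (Xᘁ) ≫ ((Xᘁ) ⊗ X) ◁ p') ⊗≫ ε_ X (Xᘁ) ▷ Y₁ := by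
            rw [whisker_exchange]
          _ = Y₁ ◁ η_ X (Xᘁ) ⊗≫ Y₁ ◁ (p ▷ (Xᘁ)) ⊗≫
                (i' ▷ (X₁ ⊗ (Xᘁ)) ≫ (Xᘁ) ◁ (i ▷ (Xᘁ))) ⊗≫ ((Xᘁ) ⊗ X) ◁ p' ⊗≫
                ε_ X (Xᘁ) ▷ Y₁ := by monoidal
          _ = Y₁ ◁ η_ X (Xᘁ) ⊗≫ Y₁ ◁ (p ▷ (Xᘁ)) ⊗≫
                (Y₁ ◁ (i ▷ (Xᘁ)) ≫ i' ▷ (X ⊗ (Xᘁ))) ⊗≫ ((Xᘁ) ⊗ X) ◁ p' ⊗≫
                ε_ X (Xᘁ) ▷ Y₁ := by rw [← whisker_exchange]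
          _ = Y₁ ◁ (η_ X (Xᘁ) ≫ e ▷ (Xᘁ)) ⊗≫ i' ▷ (X ⊗ (Xᘁ)) ⊗≫ ((Xᘁ) ⊗ X) ◁ p' ⊗≫
                ε_ X (Xᘁ) ▷ Y₁ := by
            change _ = Y₁ ◁ (η_ X (Xᘁ) ≫ (p ≫ i) ▷ (Xᘁ)) ⊗≫ i' ▷ (X ⊗ (Xᘁ)) ⊗≫
              ((Xᘁ) ⊗ X) ◁ p' ⊗≫ ε_ X (Xᘁ) ▷ Y₁
            monoidal
          _ = Y₁ ◁ (η_ X (Xᘁ) ≫ X ◁ (eᘁ)) ⊗≫ i' ▷ (X ⊗ (Xᘁ)) ⊗≫ ((Xᘁ) ⊗ X) ◁ p' ⊗≫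
                ε_ X (Xᘁ) ▷ Y₁ := by rw [coevaluation_comp_rightAdjointMate]
          _ = Y₁ ◁ η_ X (Xᘁ) ⊗≫ (Y₁ ◁ (X ◁ (eᘁ)) ≫ i' ▷ (X ⊗ (Xᘁ))) ⊗≫ ((Xᘁ) ⊗ X) ◁ p' ⊗≫
                ε_ X (Xᘁ) ▷ Y₁ := by monoidal
          _ = Y₁ ◁ η_ X (Xᘁ) ⊗≫ (i' ▷ (X ⊗ (Xᘁ)) ≫ (Xᘁ) ◁ (X ◁ (eᘁ))) ⊗≫ ((Xᘁ) ⊗ X) ◁ p' ⊗≫
                ε_ X (Xᘁ) ▷ Y₁ := by rw [whisker_exchange]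
          _ = Y₁ ◁ η_ X (Xᘁ) ⊗≫ i' ▷ (X ⊗ (Xᘁ)) ⊗≫ ((Xᘁ) ⊗ X) ◁ ((eᘁ) ≫ p') ⊗≫
                ε_ X (Xᘁ) ▷ Y₁ := by monoidal
          _ = 𝟙 _ ⊗≫ (Y₁ ◁ η_ X (Xᘁ) ≫ i' ▷ (X ⊗ (Xᘁ))) ⊗≫
                (((Xᘁ) ⊗ X) ◁ p' ≫ ε_ X (Xᘁ) ▷ Y₁) ⊗≫ 𝟙 _ := by
            rw [hep']; monoidal
          _ = 𝟙 _ ⊗≫ i' ⊗≫ ((Xᘁ) ◁ η_ X (Xᘁ) ⊗≫ ε_ X (Xᘁ) ▷ (Xᘁ)) ⊗≫ p' ⊗≫ 𝟙 _ := by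
            rw [whisker_exchange, whisker_exchange]; monoidal
          _ = 𝟙 _ ⊗≫ (i' ≫ p') ⊗≫ 𝟙 _ := by
            rw [ExactPairing.coevaluation_evaluation'']; monoidal
          _ = (ρ_ Y₁).hom ≫ (λ_ Y₁).inv := by
            rw [hi'p']; monoidal }

end Groth.Agent.S6790
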