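import Groth.Statements.S6791
import Mathlib


set_option autoImplicit false
open CategoryTheory CategoryTheory.Limits
universe v u v' u' v'' u''
open CategoryTheory CategoryTheory.SerreClass

namespace Groth.Agent.S6791

/-- For an exact functor `F : A ⥤ B` of abelian categories and a Serre class `P` of `A` killed by `F`,
with `L : A ⥤ Q` a model of the quotient `A/P` and `Fbar : Q ⥤ B` the induced functor, `P` is
exactly the kernel of `F` if and only if `Fbar` is faithful. -/
theorem result {A : Type u} [Category.{v} A] [Abelian A] {B : Type u'} [Category.{v'} B] [Abelian B] (F : A ⥤ B) [F.Additive] [PreservesFiniteLimits F] [PreservesFiniteColimits F] (P : ObjectProperty A) [P.IsSerreClass] (hP : ∀ X : A, P X → IsZero (F.obj X)) {Q : Type u''} [Category.{v''} Q] [Abelian Q] (L : A ⥤ Q) [L.IsLocalization P.isoModSerre] [L.Additive] [PreservesFiniteLimits L] [PreservesFiniteColimits L] (Fbar : Q ⥤ B) (e : L ⋙ Fbar ≅ F) : (∀ X : A, IsZero (F.obj X) → P X) ↔ Fbar.Faithful := by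
  constructor
  · intro hker
    haveI : PreservesFiniteLimits (L ⋙ Fbar) := preservesFiniteLimits_of_natIso e.symm
    haveI : PreservesFiniteColimits (L ⋙ Fbar) := preservesFiniteColimits_of_natIso e.symm
    haveI : PreservesFiniteLimits Fbar :=
      (ObjectProperty.SerreClassLocalization.preservesFiniteLimits_comp_iff L P Fbar).mp inferInstance
    haveI : PreservesFiniteColimits Fbar :=
      (ObjectProperty.SerreClassLocalization.preservesFiniteColimits_comp_iff L P Fbar).mp
        inferInstance
    haveI : (L ⋙ Fbar).Additive := Functor.additive_of_iso e.symm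
    haveI : Fbar.Additive := (Localization.functor_additive_iff L P.isoModSerre Fbar).mpr inferInstance
    refine ⟨fun {Y₁ Y₂} φ φ' h => ?_⟩
    rw [← sub_eq_zero]
    obtain ⟨ψ, hψdef⟩ : ∃ ψ, ψ = φ - φ' := ⟨_, rfl⟩
    have hψ : Fbar.map ψ = 0 := by rw [hψdef, Fbar.map_sub, h, sub_self]
    rw [← hψdef]
    have hfac : Abelian.factorThruImage ψ ≫ Abelian.image.ι ψ = ψ := Abelian.image.fac ψ
    have h1 : Fbar.map (Abelian.image.ι ψ) = 0 := by
      rw [← cancel_epi (Fbar.map (Abelian.factorThruImage ψ)), ← Fbar.map_comp, hfac, hψ,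
        comp_zero]
    have h2 : IsZero (Fbar.obj (Abelian.image ψ)) := by
      rw [IsZero.iff_id_eq_zero, ← cancel_mono (Fbar.map (Abelian.image.ι ψ)), h1, comp_zero,
        comp_zero]
    haveI : L.EssSurj := Localization.essSurj L P.isoModSerre
    have h3 : IsZero (F.obj (L.objPreimage (Abelian.image ψ))) :=
      (h2.of_iso (Fbar.mapIso (L.objObjPreimageIso (Abelian.image ψ)))).of_iso (e.app _).symm
    have h4 : IsZero (L.obj (L.objPreimage (Abelian.image ψ))) :=
      (ObjectProperty.SerreClassLocalization.isZero_obj_iff L P _).mpr (hker _ h3)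
    have h5 : IsZero (Abelian.image ψ) := h4.of_iso (L.objObjPreimageIso (Abelian.image ψ)).symm
    rw [← hfac, h5.eq_of_src (Abelian.image.ι ψ) 0, comp_zero]
  · intro hfaith X hX
    rw [← ObjectProperty.SerreClassLocalization.isZero_obj_iff L P X]
    have h0 : IsZero (Fbar.obj (L.obj X)) := hX.of_iso (e.app X)
    rw [IsZero.iff_id_eq_zero]
    apply Fbar.map_injective
    exact h0.eq_of_src _ _

end Groth.Agent.S6791
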