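import Groth.Statements.S6795
import Mathlib


set_option autoImplicit false
open CategoryTheory CategoryTheory.Limits
universe v u
open CategoryTheory CategoryTheory.Preadditive

namespace Groth.Agent.S6795

/-- A preadditive category with countable products in which split epimorphisms have kernels is
idempotent complete (Karoubian). -/
theorem result {D : Type u} [Category.{v} D] [Preadditive D] [HasCountableProducts D] (hk : ∀ ⦃X Y : D⦄ (f : X ⟶ Y), IsSplitEpi f → HasKernel f) : IsIdempotentComplete D := by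
  refine ⟨fun X p hp => ?_⟩
  let Z : D := ∏ᶜ (fun _ : ℕ => X)
  let π : ∀ n : ℕ, Z ⟶ X := fun n => Pi.π (fun _ : ℕ => X) n
  let φ : Z ⟶ Z := Pi.lift (fun n => π n ≫ (𝟙 X - p) + π (n + 1) ≫ p)
  let s : Z ⟶ Z := Pi.lift (fun n =>
    Nat.casesOn n (π 0 ≫ (𝟙 X - p)) (fun m => π m ≫ p + π (m + 1) ≫ (𝟙 X - p)))
  have hφ : ∀ n, φ ≫ π n = π n ≫ (𝟙 X - p) + π (n + 1) ≫ p := fun n => Pi.lift_π _ _
  have hs0 : s ≫ π 0 = π 0 ≫ (𝟙 X - p) := Pi.lift_π _ _
  have hsS : ∀ m, s ≫ π (m + 1) = π m ≫ p + π (m + 1) ≫ (𝟙 X - p) := fun m => Pi.lift_π _ _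
  have hp1 : (𝟙 X - p) ≫ (𝟙 X - p) = 𝟙 X - p := by
    simp [Preadditive.sub_comp, Preadditive.comp_sub, hp]
  have hp2 : (𝟙 X - p) ≫ p = 0 := by
    simp [Preadditive.sub_comp, hp]
  have hp3 : p ≫ (𝟙 X - p) = 0 := by
    simp [Preadditive.comp_sub, hp]
  have hsφ : s ≫ φ = 𝟙 Z := by
    apply Pi.hom_ext
    intro n
    change (s ≫ φ) ≫ π n = 𝟙 Z ≫ π n
    rw [Category.assoc, hφ, Preadditive.comp_add, ← Category.assoc, ← Category.assoc, hsS,
      Category.id_comp]
    cases n with
    | zero =>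
      rw [hs0]
      simp only [Category.assoc, Preadditive.add_comp, hp1, hp2, hp, comp_zero, add_zero]
      rw [← Preadditive.comp_add, sub_add_cancel, Category.comp_id]
    | succ m =>
      rw [hsS]
      simp only [Category.assoc, Preadditive.add_comp, hp1, hp2, hp3, hp, comp_zero, add_zero,
        zero_add]
      rw [← Preadditive.comp_add, sub_add_cancel, Category.comp_id]
  have hsplit : IsSplitEpi φ := IsSplitEpi.mk' ⟨s, hsφ⟩
  have : HasKernel φ := hk φ hsplit
  -- the inclusion of the kernel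
  let k : kernel φ ⟶ Z := kernel.ι φ
  have hkφ : ∀ n, k ≫ π n ≫ (𝟙 X - p) + k ≫ π (n + 1) ≫ p = 0 := by
    intro n
    have := kernel.condition φ =≫ π n
    rw [Category.assoc, hφ, zero_comp, Preadditive.comp_add] at this
    exact this
  have hk1 : ∀ n, k ≫ π n ≫ (𝟙 X - p) = 0 := by
    intro n
    have := congrArg (fun f => f ≫ (𝟙 X - p)) (hkφ n)
    simpa only [Preadditive.add_comp, Category.assoc, hp1, hp3, comp_zero, add_zero, zero_comp]
      using this
  have hk2 : ∀ n, k ≫ π (n + 1) ≫ p = 0 := by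
    intro n
    have := congrArg (fun f => f ≫ p) (hkφ n)
    simpa only [Preadditive.add_comp, Category.assoc, hp2, hp, comp_zero, zero_add, zero_comp]
      using this
  have hk3 : ∀ n, k ≫ π n ≫ p = k ≫ π n := by
    intro n
    have := hk1 n
    rw [Preadditive.comp_sub, Preadditive.comp_sub, Category.comp_id, sub_eq_zero] at this
    exact this.symm
  have hk4 : ∀ n, k ≫ π (n + 1) = 0 := fun n => by rw [← hk3, hk2]
  -- the map `X ⟶ Z` given by `(p, 0, 0, ...)`
  let j : X ⟶ Z := Pi.lift (fun n => Nat.casesOn n p (fun _ => 0))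
  have hj0 : j ≫ π 0 = p := Pi.lift_π _ _
  have hjS : ∀ m, j ≫ π (m + 1) = 0 := fun m => Pi.lift_π _ _
  have hjφ : j ≫ φ = 0 := by
    apply Pi.hom_ext
    intro n
    change (j ≫ φ) ≫ π n = 0 ≫ π n
    rw [Category.assoc, hφ, Preadditive.comp_add, ← Category.assoc, ← Category.assoc, hjS,
      zero_comp, zero_comp, add_zero]
    cases n with
    | zero => rw [hj0, hp3]
    | succ m => rw [hjS, zero_comp]
  refine ⟨kernel φ, k ≫ π 0, kernel.lift φ j hjφ, ?_, ?_⟩
  · rw [← cancel_mono (kernel.ι φ), Category.assoc, kernel.lift_ι, Category.id_comp]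
    apply Pi.hom_ext
    intro n
    change ((k ≫ π 0) ≫ j) ≫ π n = k ≫ π n
    cases n with
    | zero => rw [Category.assoc, hj0, Category.assoc, hk3]
    | succ m => rw [Category.assoc, hjS, comp_zero, hk4]
  · rw [← Category.assoc, kernel.lift_ι, hj0]

end Groth.Agent.S6795
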