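import Groth.Statements.S6796
import Mathlib


set_option autoImplicit false
open CategoryTheory CategoryTheory.Limits
universe v u
open CategoryTheory CategoryTheory.Preadditive

namespace Groth.Agent.S6796

/-- A preadditive category with countable coproducts in which split monomorphisms have cokernels is
idempotent complete (Karoubian). -/
theorem result {D : Type u} [Category.{v} D] [Preadditive D] [HasCountableCoproducts D] (hk : ∀ ⦃X Y : D⦄ (f : X ⟶ Y), IsSplitMono f → HasCokernel f) : IsIdempotentComplete D := by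
  refine ⟨fun X p hp => ?_⟩
  let Z : D := ∐ (fun _ : ℕ => X)
  let ι : ∀ n : ℕ, X ⟶ Z := fun n => Sigma.ι (fun _ : ℕ => X) n
  let φ : Z ⟶ Z := Sigma.desc (fun n => (𝟙 X - p) ≫ ι n + p ≫ ι (n + 1))
  let s : Z ⟶ Z := Sigma.desc (fun n =>
    Nat.casesOn n ((𝟙 X - p) ≫ ι 0) (fun m => p ≫ ι m + (𝟙 X - p) ≫ ι (m + 1)))
  have hφ : ∀ n, ι n ≫ φ = (𝟙 X - p) ≫ ι n + p ≫ ι (n + 1) := fun n => Sigma.ι_desc _ _
  have hs0 : ι 0 ≫ s = (𝟙 X - p) ≫ ι 0 := Sigma.ι_desc _ _
  have hsS : ∀ m, ι (m + 1) ≫ s = p ≫ ι m + (𝟙 X - p) ≫ ι (m + 1) := fun m => Sigma.ι_desc _ _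
  have hp1 : (𝟙 X - p) ≫ (𝟙 X - p) = 𝟙 X - p := by
    simp [Preadditive.sub_comp, Preadditive.comp_sub, hp]
  have hp2 : (𝟙 X - p) ≫ p = 0 := by
    simp [Preadditive.sub_comp, hp]
  have hp3 : p ≫ (𝟙 X - p) = 0 := by
    simp [Preadditive.comp_sub, hp]
  have hp1' : ∀ {W : D} (f : X ⟶ W), (𝟙 X - p) ≫ (𝟙 X - p) ≫ f = (𝟙 X - p) ≫ f := by
    intro W f; rw [← Category.assoc, hp1]
  have hp2' : ∀ {W : D} (f : X ⟶ W), (𝟙 X - p) ≫ p ≫ f = 0 := by
    intro W f; rw [← Category.assoc, hp2, zero_comp]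
  have hp3' : ∀ {W : D} (f : X ⟶ W), p ≫ (𝟙 X - p) ≫ f = 0 := by
    intro W f; rw [← Category.assoc, hp3, zero_comp]
  have hp' : ∀ {W : D} (f : X ⟶ W), p ≫ p ≫ f = p ≫ f := by
    intro W f; rw [← Category.assoc, hp]
  have hφs : φ ≫ s = 𝟙 Z := by
    apply Sigma.hom_ext
    intro n
    change ι n ≫ φ ≫ s = ι n ≫ 𝟙 Z
    rw [← Category.assoc, hφ, Preadditive.add_comp, Category.assoc, Category.assoc, hsS,
      Category.comp_id]
    cases n with
    | zero =>
      rw [hs0]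
      simp only [Preadditive.comp_add, hp1', hp2', hp3', hp', add_zero, zero_add]
      rw [← Preadditive.add_comp, sub_add_cancel, Category.id_comp]
    | succ m =>
      rw [hsS]
      simp only [Preadditive.comp_add, hp1', hp2', hp3', hp', add_zero, zero_add]
      rw [← Preadditive.add_comp, sub_add_cancel, Category.id_comp]
  have hsplit : IsSplitMono φ := IsSplitMono.mk' ⟨s, hφs⟩
  have : HasCokernel φ := hk φ hsplit
  let c : Z ⟶ cokernel φ := cokernel.π φ
  have hcφ : ∀ n, (𝟙 X - p) ≫ ι n ≫ c + p ≫ ι (n + 1) ≫ c = 0 := by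
    intro n
    have := ι n ≫= cokernel.condition φ
    rw [← Category.assoc, hφ, comp_zero, Preadditive.add_comp, Category.assoc,
      Category.assoc] at this
    exact this
  have hk1 : ∀ n, (𝟙 X - p) ≫ ι n ≫ c = 0 := by
    intro n
    have := congrArg (fun f => (𝟙 X - p) ≫ f) (hcφ n)
    simpa only [Preadditive.comp_add, hp1', hp2', comp_zero, add_zero] using this
  have hk2 : ∀ n, p ≫ ι (n + 1) ≫ c = 0 := by
    intro n
    have := congrArg (fun f => p ≫ f) (hcφ n)
    simpa only [Preadditive.comp_add, hp3', hp', comp_zero, zero_add] using this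
  have hk3 : ∀ n, p ≫ ι n ≫ c = ι n ≫ c := by
    intro n
    have := hk1 n
    rw [Preadditive.sub_comp, Category.id_comp, sub_eq_zero] at this
    exact this.symm
  have hk4 : ∀ n, ι (n + 1) ≫ c = 0 := fun n => by rw [← hk3, hk2]
  let j : Z ⟶ X := Sigma.desc (fun n => Nat.casesOn n p (fun _ => 0))
  have hj0 : ι 0 ≫ j = p := Sigma.ι_desc _ _
  have hjS : ∀ m, ι (m + 1) ≫ j = 0 := fun m => Sigma.ι_desc _ _
  have hφj : φ ≫ j = 0 := by
    apply Sigma.hom_ext
    intro n
    change ι n ≫ φ ≫ j = ι n ≫ 0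
    rw [← Category.assoc, hφ, Preadditive.add_comp, Category.assoc, Category.assoc, hjS,
      comp_zero, comp_zero, add_zero]
    cases n with
    | zero => rw [hj0, hp2]
    | succ m => rw [hjS, comp_zero]
  refine ⟨cokernel φ, cokernel.desc φ j hφj, ι 0 ≫ c, ?_, ?_⟩
  · rw [← cancel_epi (cokernel.π φ), ← Category.assoc, cokernel.π_desc, Category.comp_id]
    apply Sigma.hom_ext
    intro n
    change ι n ≫ j ≫ ι 0 ≫ c = ι n ≫ c
    cases n with
    | zero => rw [← Category.assoc, hj0, hk3]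
    | succ m => rw [← Category.assoc, hjS, zero_comp, hk4]
  · rw [Category.assoc, cokernel.π_desc, hj0]

end Groth.Agent.S6796
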