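import Groth.Statements.S6801
import Mathlib


set_option autoImplicit false
open CategoryTheory
universe v u
open SpSeq SpSeq.FilObj

namespace Groth.Agent.S6801

open CategoryTheory.Limits in
theorem image_comp_mono {C : Type u} [Category.{v} C] [Abelian C] {X Y Z : C} (h : X ⟶ Y)
    (g : Y ⟶ Z) [Mono g] :
    imageSubobject (h ≫ g) = (Subobject.map g).obj (imageSubobject h) := by
  show Subobject.mk (image.ι (h ≫ g)) = (Subobject.map g).obj (Subobject.mk (image.ι h))
  rw [Subobject.map_mk]
  exact (Subobject.mk_eq_mk_of_comm _ _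
    (image.isoStrongEpiMono (factorThruImage h) (image.ι h ≫ g) (by simp)) (by simp)).symm

theorem map_pullback_of_le {C : Type u} [Category.{v} C] [Abelian C] {X Y : C} (g : X ⟶ Y)
    [Mono g] (T : Subobject Y) (h : T ≤ Subobject.mk g) :
    (Subobject.map g).obj ((Subobject.pullback g).obj T) = T := by
  have ht : (Subobject.ofLE T (Subobject.mk g) h ≫ (Subobject.underlyingIso g).hom) ≫ g =
      T.arrow := by
    rw [Category.assoc, Subobject.underlyingIso_hom_comp_eq_mk, Subobject.ofLE_arrow]
  haveI : Mono (Subobject.ofLE T (Subobject.mk g) h ≫ (Subobject.underlyingIso g).hom) :=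
    mono_of_mono_fac ht
  obtain ⟨U, hU⟩ : ∃ U : Subobject X, T = (Subobject.map g).obj U := by
    refine ⟨Subobject.mk (Subobject.ofLE T (Subobject.mk g) h ≫ (Subobject.underlyingIso g).hom), ?_⟩
    rw [Subobject.map_mk]
    exact Subobject.eq_mk_of_comm _ (Iso.refl _) (by simp [ht])
  subst hU
  rw [Subobject.pullback_map_self]


/-- The composite of two strict morphisms of filtered objects is strict when the second one is a
monomorphism. (In general a composite of strict morphisms is not strict.) -/
theorem result {A : Type u} [Category.{v} A] [Abelian A] {K L M : SpSeq.FilObj A} (f : K ⟶ L) (g : L ⟶ M) (hf : SpSeq.FilObj.IsStrict f) (hg : SpSeq.FilObj.IsStrict g) [Mono g.hom] : SpSeq.FilObj.IsStrict (f ≫ g) := by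
  intro p
  have hfg : (f ≫ g).hom = f.hom ≫ g.hom := rfl
  show Limits.imageSubobject ((K.fil p).arrow ≫ f.hom ≫ g.hom) =
    Limits.imageSubobject (f.hom ≫ g.hom) ⊓ M.fil p
  apply le_antisymm
  · refine le_inf ?_ ?_
    · exact Limits.imageSubobject_comp_le (K.fil p).arrow (f.hom ≫ g.hom)
    · have hc : K.fil p ≤ (Subobject.pullback (f.hom ≫ g.hom)).obj (M.fil p) := (f ≫ g).compat p
      refine Limits.imageSubobject_le _
        (Subobject.ofLE _ _ hc ≫ Subobject.pullbackπ (f.hom ≫ g.hom) (M.fil p)) ?_
      rw [Category.assoc, (Subobject.isPullback (f.hom ≫ g.hom) (M.fil p)).w, ← Category.assoc,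
        Subobject.ofLE_arrow]
  · obtain ⟨T, hT⟩ : ∃ T, T = Limits.imageSubobject (f.hom ≫ g.hom) ⊓ M.fil p := ⟨_, rfl⟩
    rw [← hT]
    have hTg : T ≤ Subobject.mk g.hom := by
      rw [hT, ← Limits.imageSubobject_mono]
      exact inf_le_left.trans (Limits.imageSubobject_comp_le _ _)
    have hC := map_pullback_of_le g.hom T hTg
    have hA : (Subobject.pullback g.hom).obj T ≤ Limits.imageSubobject f.hom := by
      have h1 : T ≤ (Subobject.map g.hom).obj (Limits.imageSubobject f.hom) := by
        rw [← image_comp_mono, hT]; exact inf_le_left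
      have h2 := (Subobject.pullback g.hom).monotone h1
      rwa [Subobject.pullback_map_self] at h2
    have hB : (Subobject.pullback g.hom).obj T ≤ L.fil p := by
      have h1 : T ≤ (Subobject.map g.hom).obj (L.fil p) := by
        have h3 : T ≤ Limits.imageSubobject g.hom ⊓ M.fil p := by
          rw [hT]; exact inf_le_inf_right _ (Limits.imageSubobject_comp_le _ _)
        rw [← hg p, image_comp_mono, Limits.imageSubobject_mono, Subobject.mk_arrow] at h3
        exact h3
      have h2 := (Subobject.pullback g.hom).monotone h1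
      rwa [Subobject.pullback_map_self] at h2
    have hAB : (Subobject.pullback g.hom).obj T ≤
        Limits.imageSubobject ((K.fil p).arrow ≫ f.hom) := by
      rw [hf p]; exact le_inf hA hB
    have h5 := (Subobject.map g.hom).monotone hAB
    rw [hC, ← image_comp_mono, Category.assoc] at h5
    exact h5

end Groth.Agent.S6801
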