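import Groth.Statements.S6802
import Mathlib


set_option autoImplicit false
open CategoryTheory
universe v u
open SpSeq SpSeq.FilObj

namespace Groth.Agent.S6802

open CategoryTheory.Limits in
theorem epi_comp_image {C : Type u} [Category.{v} C] [Abelian C] {X' X Y : C} (h : X' ⟶ X) [Epi h]
    (f : X ⟶ Y) : imageSubobject (h ≫ f) = imageSubobject f := by
  haveI : IsIso (Subobject.ofLE _ _ (imageSubobject_comp_le h f)) := isIso_of_mono_of_epi _
  exact Subobject.eq_of_comm (asIso (Subobject.ofLE _ _ (imageSubobject_comp_le h f))) (by simp)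

open CategoryTheory.Limits in
theorem image_epi_top {C : Type u} [Category.{v} C] [Abelian C] {X Y : C} (f : X ⟶ Y) [Epi f] :
    imageSubobject f = ⊤ := by
  have h := epi_comp_image f (𝟙 Y)
  rw [imageSubobject_mono (𝟙 Y), ← Subobject.top_eq_id] at h
  rw [← h]
  congr 1
  exact (Category.comp_id f).symm

open CategoryTheory.Limits in
theorem img_comp {C : Type u} [Category.{v} C] [Abelian C] {X Y Z : C} (h : X ⟶ Y) (g : Y ⟶ Z) :
    imageSubobject (h ≫ g) = imageSubobject ((imageSubobject h).arrow ≫ g) := by
  rw [← epi_comp_image (factorThruImageSubobject h) ((imageSubobject h).arrow ≫ g)]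
  congr 1
  rw [← Category.assoc, imageSubobject_arrow_comp]


/-- The composite of two strict morphisms of filtered objects is strict when the first one is an
epimorphism. -/
theorem result {A : Type u} [Category.{v} A] [Abelian A] {K L M : SpSeq.FilObj A} (f : K ⟶ L) (g : L ⟶ M) (hf : SpSeq.FilObj.IsStrict f) (hg : SpSeq.FilObj.IsStrict g) [Epi f.hom] : SpSeq.FilObj.IsStrict (f ≫ g) := by
  intro p
  show Limits.imageSubobject ((K.fil p).arrow ≫ f.hom ≫ g.hom) =
    Limits.imageSubobject (f.hom ≫ g.hom) ⊓ M.fil p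
  have h1 : Limits.imageSubobject ((K.fil p).arrow ≫ f.hom ≫ g.hom) =
      Limits.imageSubobject (((K.fil p).arrow ≫ f.hom) ≫ g.hom) := by
    congr 1
    exact (Category.assoc _ _ _).symm
  rw [h1, img_comp ((K.fil p).arrow ≫ f.hom) g.hom, hf p, image_epi_top f.hom, top_inf_eq,
    epi_comp_image f.hom g.hom, hg p]

end Groth.Agent.S6802
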