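import Groth.Statements.S6803
import Mathlib


set_option autoImplicit false
open CategoryTheory CategoryTheory.Limits
universe v u
open SpSeq SpSeq.FilObj

namespace Groth.Agent.S6803

section helpers
variable {A : Type u} [Category.{v} A] [Abelian A]

theorem epi_comp_image {X' X Y : A} (h : X' ⟶ X) [Epi h]
    (f : X ⟶ Y) : imageSubobject (h ≫ f) = imageSubobject f := by
  haveI : IsIso (Subobject.ofLE _ _ (imageSubobject_comp_le h f)) := isIso_of_mono_of_epi _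
  exact Subobject.eq_of_comm (asIso (Subobject.ofLE _ _ (imageSubobject_comp_le h f))) (by simp)

theorem le_of_ref {P Q Y : A} (f : P ⟶ Y) (g : Q ⟶ Y)
    (h : ∃ (A' : A) (π : A' ⟶ P) (_ : Epi π) (x : A' ⟶ Q), π ≫ f = x ≫ g) :
    imageSubobject f ≤ imageSubobject g := by
  obtain ⟨A', π, hπ, x, hx⟩ := h
  rw [← epi_comp_image π f, hx]
  exact imageSubobject_comp_le _ _

theorem ref_of_factors {Q Y : A} (g : Q ⟶ Y) {T : A} (a : T ⟶ Y)
    (h : (imageSubobject g).Factors a) :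
    ∃ (A' : A) (π : A' ⟶ T) (_ : Epi π) (x : A' ⟶ Q), π ≫ a = x ≫ g := by
  obtain ⟨A', π, hπ, x, hx⟩ := surjective_up_to_refinements_of_epi (factorThruImageSubobject g)
    (Subobject.factorThru _ a h)
  refine ⟨A', π, hπ, x, ?_⟩
  have h2 := congrArg (· ≫ (imageSubobject g).arrow) hx
  simp only [Category.assoc, Subobject.factorThru_arrow, imageSubobject_arrow_comp] at h2
  exact h2

theorem image_le_of_factors {X Y : A} (h : X ⟶ Y) (S : Subobject Y) (hF : S.Factors h) :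
    imageSubobject h ≤ S :=
  imageSubobject_le h (Subobject.factorThru S h hF) (Subobject.factorThru_arrow S h hF)

theorem image_factors_self {X Y : A} (h : X ⟶ Y) : (imageSubobject h).Factors h := by
  have := imageSubobject_factors_comp_self h (𝟙 X)
  rwa [Category.id_comp] at this

theorem sup_ref {X₁ X₂ Y : A} (h₁ : X₁ ⟶ Y) (h₂ : X₂ ⟶ Y) {T : A} (a : T ⟶ Y)
    (hF : (imageSubobject h₁ ⊔ imageSubobject h₂).Factors a) :
    ∃ (A' : A) (π : A' ⟶ T) (_ : Epi π) (x₁ : A' ⟶ X₁) (x₂ : A' ⟶ X₂),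
      π ≫ a = x₁ ≫ h₁ + x₂ ≫ h₂ := by
  have hle : imageSubobject h₁ ⊔ imageSubobject h₂ ≤ imageSubobject (biprod.desc h₁ h₂) := by
    refine sup_le ?_ ?_
    · have e : imageSubobject (biprod.inl ≫ biprod.desc h₁ h₂) = imageSubobject h₁ := by
        rw [biprod.inl_desc]
      exact e.ge.trans (imageSubobject_comp_le _ _)
    · have e : imageSubobject (biprod.inr ≫ biprod.desc h₁ h₂) = imageSubobject h₂ := by
        rw [biprod.inr_desc]
      exact e.ge.trans (imageSubobject_comp_le _ _)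
  obtain ⟨A', π, hπ, x, hx⟩ :=
    ref_of_factors (biprod.desc h₁ h₂) a (Subobject.factors_of_le _ hle hF)
  refine ⟨A', π, hπ, x ≫ biprod.fst, x ≫ biprod.snd, ?_⟩
  rw [hx]
  have hd : biprod.desc h₁ h₂ = biprod.fst ≫ h₁ + biprod.snd ≫ h₂ := by
    ext <;> simp
  rw [hd, Preadditive.comp_add]
  simp only [Category.assoc]

theorem po_ker {X₁ X₂ X₃ X₄ : A} {t : X₁ ⟶ X₂} {l : X₁ ⟶ X₃} {r : X₂ ⟶ X₄} {b : X₃ ⟶ X₄}
    (h : IsPushout t l r b) {T : A} (x₂ : T ⟶ X₂) (x₃ : T ⟶ X₃) (hx : x₂ ≫ r = x₃ ≫ b) :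
    ∃ (T' : A) (π : T' ⟶ T) (_ : Epi π) (k : T' ⟶ X₁), π ≫ x₂ = k ≫ t ∧ π ≫ x₃ = k ≫ l := by
  obtain ⟨T', π, hπ, (k : T' ⟶ X₁),
    (hk' : π ≫ biprod.lift x₂ (-x₃) = k ≫ biprod.lift t (-l))⟩ :=
    h.exact_shortComplex.exact_up_to_refinements (biprod.lift x₂ (-x₃)) (by
      show biprod.lift x₂ (-x₃) ≫ biprod.desc r b = 0
      simp [hx])
  refine ⟨T', π, hπ, k, ?_, ?_⟩
  · have h1 : (π ≫ biprod.lift x₂ (-x₃)) ≫ biprod.fst = (k ≫ biprod.lift t (-l)) ≫ biprod.fst := by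
      rw [hk']
    rw [Category.assoc, Category.assoc, biprod.lift_fst, biprod.lift_fst] at h1
    exact h1
  · have h1 : (π ≫ biprod.lift x₂ (-x₃)) ≫ biprod.snd = (k ≫ biprod.lift t (-l)) ≫ biprod.snd := by
      rw [hk']
    rw [Category.assoc, Category.assoc, biprod.lift_snd, biprod.lift_snd, Preadditive.comp_neg,
      Preadditive.comp_neg, neg_inj] at h1
    exact h1

noncomputable def topObj (W : A) : SpSeq.FilObj A := ⟨W, fun _ => ⊤, fun _ _ _ => le_rfl⟩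

noncomputable def topHom (L : SpSeq.FilObj A) {W : A} (b : L.obj ⟶ W) : L ⟶ topObj W :=
  ⟨b, fun _ => Subobject.le_of_factors
    ((Limits.pullback_factors_iff _ _ _).mpr (Subobject.top_factors _))⟩

theorem img_mono (L : SpSeq.FilObj A) {p q : ℤ} (h : p ≤ q) {W : A} (ι : L.obj ⟶ W) :
    imageSubobject ((L.fil q).arrow ≫ ι) ≤ imageSubobject ((L.fil p).arrow ≫ ι) := by
  have e : (L.fil q).arrow ≫ ι = Subobject.ofLE _ _ (L.anti h) ≫ (L.fil p).arrow ≫ ι := by
    rw [← Category.assoc, Subobject.ofLE_arrow]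
  rw [e]; exact imageSubobject_comp_le _ _

theorem hom_factors {L Z : SpSeq.FilObj A} (a : L ⟶ Z) (p : ℤ) :
    (Z.fil p).Factors ((L.fil p).arrow ≫ a.hom) :=
  (Limits.pullback_factors_iff _ _ _).mp
    (Subobject.factors_of_le _ (a.compat p) (Subobject.factors_self _))

noncomputable def sumObj (L M : SpSeq.FilObj A) {W : A} (ι₁ : L.obj ⟶ W) (ι₂ : M.obj ⟶ W) :
    SpSeq.FilObj A :=
  ⟨W, fun p => imageSubobject ((L.fil p).arrow ≫ ι₁) ⊔ imageSubobject ((M.fil p).arrow ≫ ι₂),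
   fun _ _ h => sup_le_sup (img_mono L h ι₁) (img_mono M h ι₂)⟩

noncomputable def sumInl (L M : SpSeq.FilObj A) {W : A} (ι₁ : L.obj ⟶ W) (ι₂ : M.obj ⟶ W) :
    L ⟶ sumObj L M ι₁ ι₂ :=
  ⟨ι₁, fun _ => Subobject.le_of_factors ((Limits.pullback_factors_iff _ _ _).mpr
    (Subobject.sup_factors_of_factors_left (image_factors_self _)))⟩

noncomputable def sumInr (L M : SpSeq.FilObj A) {W : A} (ι₁ : L.obj ⟶ W) (ι₂ : M.obj ⟶ W) :
    M ⟶ sumObj L M ι₁ ι₂ :=
  ⟨ι₂, fun _ => Subobject.le_of_factors ((Limits.pullback_factors_iff _ _ _).mpr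
    (Subobject.sup_factors_of_factors_right (image_factors_self _)))⟩

noncomputable def sumDesc (L M : SpSeq.FilObj A) {W : A} (ι₁ : L.obj ⟶ W) (ι₂ : M.obj ⟶ W)
    (Z : SpSeq.FilObj A) (u : W ⟶ Z.obj)
    (h₁ : ∀ p, (Z.fil p).Factors ((L.fil p).arrow ≫ ι₁ ≫ u))
    (h₂ : ∀ p, (Z.fil p).Factors ((M.fil p).arrow ≫ ι₂ ≫ u)) :
    sumObj L M ι₁ ι₂ ⟶ Z :=
  ⟨u, fun p => sup_le
    (image_le_of_factors _ _ ((Limits.pullback_factors_iff _ _ _).mpr
      (by rw [Category.assoc]; exact h₁ p)))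
    (image_le_of_factors _ _ ((Limits.pullback_factors_iff _ _ _).mpr
      (by rw [Category.assoc]; exact h₂ p)))⟩

variable {K L M : SpSeq.FilObj A} (f : K ⟶ L) (g : K ⟶ M)

theorem hasPo : HasPushout f g :=
  HasColimit.mk ⟨PushoutCocone.mk
      (sumInl L M (pushout.inl f.hom g.hom) (pushout.inr f.hom g.hom))
      (sumInr L M (pushout.inl f.hom g.hom) (pushout.inr f.hom g.hom))
      (SpSeq.FilObj.Hom.ext pushout.condition),
    PushoutCocone.IsColimit.mk _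
      (fun s => sumDesc L M _ _ s.pt
        (pushout.desc s.inl.hom s.inr.hom (congrArg SpSeq.FilObj.Hom.hom s.condition))
        (fun p => by rw [pushout.inl_desc]; exact hom_factors s.inl p)
        (fun p => by rw [pushout.inr_desc]; exact hom_factors s.inr p))
      (fun s => SpSeq.FilObj.Hom.ext (pushout.inl_desc _ _ _))
      (fun s => SpSeq.FilObj.Hom.ext (pushout.inr_desc _ _ _))
      (fun s m h1 h2 => SpSeq.FilObj.Hom.ext (pushout.hom_ext
        ((congrArg SpSeq.FilObj.Hom.hom h1).trans (pushout.inl_desc _ _ _).symm)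
        ((congrArg SpSeq.FilObj.Hom.hom h2).trans (pushout.inr_desc _ _ _).symm)))⟩

theorem underlying_po {P : SpSeq.FilObj A} {f : K ⟶ L} {g : K ⟶ M} {g' : L ⟶ P} {f' : M ⟶ P}
    (hPO : IsPushout f g g' f') : IsPushout f.hom g.hom g'.hom f'.hom :=
  ⟨⟨congrArg SpSeq.FilObj.Hom.hom hPO.w⟩, ⟨PushoutCocone.IsColimit.mk _
    (fun s => (hPO.desc (topHom L s.inl) (topHom M s.inr)
      (SpSeq.FilObj.Hom.ext s.condition)).hom)
    (fun s => congrArg SpSeq.FilObj.Hom.hom (hPO.inl_desc _ _ _))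
    (fun s => congrArg SpSeq.FilObj.Hom.hom (hPO.inr_desc _ _ _))
    (fun s m h1 h2 => by
      have h : topHom P m = hPO.desc (topHom L s.inl) (topHom M s.inr)
          (SpSeq.FilObj.Hom.ext s.condition) := by
        apply hPO.hom_ext
        · rw [hPO.inl_desc]; exact SpSeq.FilObj.Hom.ext h1
        · rw [hPO.inr_desc]; exact SpSeq.FilObj.Hom.ext h2
      exact congrArg SpSeq.FilObj.Hom.hom h)⟩⟩

theorem fil_le_sum {P : SpSeq.FilObj A} {f : K ⟶ L} {g : K ⟶ M} {g' : L ⟶ P} {f' : M ⟶ P}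
    (hPO : IsPushout f g g' f') (p : ℤ) :
    P.fil p ≤ imageSubobject ((L.fil p).arrow ≫ g'.hom) ⊔
      imageSubobject ((M.fil p).arrow ≫ f'.hom) := by
  have hw : f.hom ≫ g'.hom = g.hom ≫ f'.hom := congrArg SpSeq.FilObj.Hom.hom hPO.w
  obtain ⟨d, hd⟩ : ∃ d : P ⟶ sumObj L M g'.hom f'.hom,
      d = hPO.desc (sumInl L M g'.hom f'.hom) (sumInr L M g'.hom f'.hom)
        (SpSeq.FilObj.Hom.ext hw) := ⟨_, rfl⟩
  have h1 : g'.hom ≫ d.hom = g'.hom := by
    rw [hd]; exact congrArg SpSeq.FilObj.Hom.hom (hPO.inl_desc _ _ _)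
  have h2 : f'.hom ≫ d.hom = f'.hom := by
    rw [hd]; exact congrArg SpSeq.FilObj.Hom.hom (hPO.inr_desc _ _ _)
  have hid : d.hom = 𝟙 P.obj :=
    (underlying_po hPO).hom_ext (h1.trans (Category.comp_id _).symm)
      (h2.trans (Category.comp_id _).symm)
  have hc := d.compat p
  rw [hid] at hc
  exact hc.trans (Subobject.pullback_id _).le

end helpers


/-- Pushouts exist in the category of filtered objects of an abelian category, and the pushout of a
strict morphism is strict. -/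
theorem result {A : Type u} [Category.{v} A] [Abelian A] {K L M : SpSeq.FilObj A} (f : K ⟶ L) (g : K ⟶ M) : HasPushout f g ∧ ∀ (P : SpSeq.FilObj A) (g' : L ⟶ P) (f' : M ⟶ P), IsPushout f g g' f' → SpSeq.FilObj.IsStrict f → SpSeq.FilObj.IsStrict f' := by
  refine ⟨hasPo f g, ?_⟩
  intro P g' f' hPO hf p
  have hw : f.hom ≫ g'.hom = g.hom ≫ f'.hom := congrArg SpSeq.FilObj.Hom.hom hPO.w
  apply le_antisymm
  · refine le_inf (imageSubobject_comp_le (M.fil p).arrow f'.hom) ?_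
    exact image_le_of_factors _ _ (hom_factors f' p)
  · obtain ⟨T, hT⟩ : ∃ T, T = imageSubobject f'.hom ⊓ P.fil p := ⟨_, rfl⟩
    rw [← hT]
    have hT1 : T ≤ imageSubobject f'.hom := hT ▸ inf_le_left
    have hT2 : T ≤ P.fil p := hT ▸ inf_le_right
    have hTim : imageSubobject T.arrow = T := by rw [imageSubobject_mono, Subobject.mk_arrow]
    obtain ⟨A₁, π₁, hπ₁, m, hm⟩ := ref_of_factors f'.hom T.arrow
      (Subobject.factors_of_le _ hT1 (Subobject.factors_self T))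
    have hS : (imageSubobject ((L.fil p).arrow ≫ g'.hom) ⊔
        imageSubobject ((M.fil p).arrow ≫ f'.hom)).Factors (π₁ ≫ T.arrow) :=
      Subobject.factors_of_factors_right _
        (Subobject.factors_of_le _ (hT2.trans (fil_le_sum hPO p)) (Subobject.factors_self T))
    obtain ⟨A₂, π₂, hπ₂, lp, mp, hsum⟩ := sup_ref _ _ _ hS
    have hx : (lp ≫ (L.fil p).arrow) ≫ g'.hom =
        (π₂ ≫ m - mp ≫ (M.fil p).arrow) ≫ f'.hom := by
      rw [Preadditive.sub_comp, Category.assoc π₂, ← hm, hsum]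
      simp only [Category.assoc]
      abel
    obtain ⟨A₃, π₃, hπ₃, k, hk1, hk2⟩ := po_ker (underlying_po hPO) _ _ hx
    have hKf : (imageSubobject ((K.fil p).arrow ≫ f.hom)).Factors (k ≫ f.hom) := by
      rw [hf p]
      refine (Subobject.inf_factors _).mpr ⟨imageSubobject_factors_comp_self f.hom k, ?_⟩
      rw [← hk1, ← Category.assoc]
      exact Subobject.factors_comp_arrow _
    obtain ⟨A₄, π₄, hπ₄, kp, hkp⟩ := ref_of_factors _ _ hKf
    have hγ : Subobject.factorThru _ _ (hom_factors g p) ≫ (M.fil p).arrow =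
        (K.fil p).arrow ≫ g.hom := Subobject.factorThru_arrow _ _ _
    have key : π₄ ≫ π₃ ≫ lp ≫ (L.fil p).arrow ≫ g'.hom =
        (kp ≫ Subobject.factorThru _ _ (hom_factors g p)) ≫ (M.fil p).arrow ≫ f'.hom := by
      calc π₄ ≫ π₃ ≫ lp ≫ (L.fil p).arrow ≫ g'.hom
          = π₄ ≫ (π₃ ≫ lp ≫ (L.fil p).arrow) ≫ g'.hom := by simp only [Category.assoc]
        _ = π₄ ≫ (k ≫ f.hom) ≫ g'.hom := by rw [hk1]
        _ = (π₄ ≫ k ≫ f.hom) ≫ g'.hom := by simp only [Category.assoc]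
        _ = (kp ≫ (K.fil p).arrow ≫ f.hom) ≫ g'.hom := by rw [hkp]
        _ = kp ≫ ((K.fil p).arrow ≫ g.hom) ≫ f'.hom := by simp only [Category.assoc, hw]
        _ = kp ≫ (Subobject.factorThru _ _ (hom_factors g p) ≫ (M.fil p).arrow) ≫ f'.hom := by
            rw [hγ]
        _ = (kp ≫ Subobject.factorThru _ _ (hom_factors g p)) ≫ (M.fil p).arrow ≫ f'.hom := by
            simp only [Category.assoc]
    rw [← hTim]
    refine le_of_ref _ _ ⟨A₄, π₄ ≫ π₃ ≫ π₂ ≫ π₁, inferInstance,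
      kp ≫ Subobject.factorThru _ _ (hom_factors g p) + π₄ ≫ π₃ ≫ mp, ?_⟩
    rw [Preadditive.add_comp, ← key]
    have h5 : (π₄ ≫ π₃ ≫ π₂ ≫ π₁) ≫ T.arrow = π₄ ≫ π₃ ≫ (π₂ ≫ π₁ ≫ T.arrow) := by
      simp only [Category.assoc]
    rw [h5, hsum]
    simp only [Preadditive.comp_add, Category.assoc]

end Groth.Agent.S6803
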