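import Groth.Statements.S6804
import Mathlib


set_option autoImplicit false
open CategoryTheory CategoryTheory.Limits
universe v u
open SpSeq SpSeq.FilObj

namespace Groth.Agent.S6804

section helpers
variable {A : Type u} [Category.{v} A] [Abelian A]

theorem epi_comp_image {X' X Y : A} (h : X' ⟶ X) [Epi h]
    (f : X ⟶ Y) : imageSubobject (h ≫ f) = imageSubobject f := by
  haveI : IsIso (Subobject.ofLE _ _ (imageSubobject_comp_le h f)) := isIso_of_mono_of_epi _
  exact Subobject.eq_of_comm (asIso (Subobject.ofLE _ _ (imageSubobject_comp_le h f))) (by simp)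

theorem le_of_ref {P Q Y : A} (f : P ⟶ Y) (g : Q ⟶ Y)
    (h : ∃ (A' : A) (π : A' ⟶ P) (_ : Epi π) (x : A' ⟶ Q), π ≫ f = x ≫ g) :
    imageSubobject f ≤ imageSubobject g := by
  obtain ⟨A', π, hπ, x, hx⟩ := h
  rw [← epi_comp_image π f, hx]
  exact imageSubobject_comp_le _ _

theorem ref_of_factors {Q Y : A} (g : Q ⟶ Y) {T : A} (a : T ⟶ Y)
    (h : (imageSubobject g).Factors a) :
    ∃ (A' : A) (π : A' ⟶ T) (_ : Epi π) (x : A' ⟶ Q), π ≫ a = x ≫ g := by
  obtain ⟨A', π, hπ, x, hx⟩ := surjective_up_to_refinements_of_epi (factorThruImageSubobject g)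
    (Subobject.factorThru _ a h)
  refine ⟨A', π, hπ, x, ?_⟩
  have h2 := congrArg (· ≫ (imageSubobject g).arrow) hx
  simp only [Category.assoc, Subobject.factorThru_arrow, imageSubobject_arrow_comp] at h2
  exact h2

/-- test object: `T₀` with filtration `⊤` up to `p`, `⊥` after. -/
noncomputable def testObj (T₀ : A) (p : ℤ) : SpSeq.FilObj A :=
  ⟨T₀, fun q => if q ≤ p then ⊤ else ⊥, by
    intro q q' h
    dsimp only
    by_cases h' : q' ≤ p
    · rw [if_pos h', if_pos (h.trans h')]
    · rw [if_neg h']; exact bot_le⟩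

noncomputable def testHom {T₀ : A} (p : ℤ) (L : SpSeq.FilObj A) (b : T₀ ⟶ L.obj)
    (hb : (L.fil p).Factors b) : testObj T₀ p ⟶ L :=
  ⟨b, fun q => by
    show (if q ≤ p then ⊤ else ⊥) ≤ _
    by_cases hq : q ≤ p
    · rw [if_pos hq]
      refine Subobject.le_of_factors ?_
      rw [Limits.pullback_factors_iff]
      exact Subobject.factors_of_factors_right _ (Subobject.factors_of_le _ (L.anti hq) hb)
    · rw [if_neg hq]; exact bot_le⟩

variable {K L M : SpSeq.FilObj A} (f : L ⟶ K) (g : M ⟶ K)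

noncomputable def pbObj : SpSeq.FilObj A :=
  ⟨pullback f.hom g.hom,
   fun p => (Subobject.pullback (pullback.fst f.hom g.hom)).obj (L.fil p) ⊓
     (Subobject.pullback (pullback.snd f.hom g.hom)).obj (M.fil p),
   fun p q h => inf_le_inf ((Subobject.pullback _).monotone (L.anti h))
     ((Subobject.pullback _).monotone (M.anti h))⟩

noncomputable def pbFst : pbObj f g ⟶ L := ⟨pullback.fst f.hom g.hom, fun p => inf_le_left⟩

noncomputable def pbSnd : pbObj f g ⟶ M := ⟨pullback.snd f.hom g.hom, fun p => inf_le_right⟩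

theorem pb_cond : pbFst f g ≫ f = pbSnd f g ≫ g := SpSeq.FilObj.Hom.ext pullback.condition

noncomputable def pbLift (s : PullbackCone f g) : s.pt ⟶ pbObj f g :=
  ⟨pullback.lift s.fst.hom s.snd.hom (congrArg SpSeq.FilObj.Hom.hom s.condition), fun p => by
    have h1 : s.pt.fil p ≤ (Subobject.pullback (pullback.lift s.fst.hom s.snd.hom
        (congrArg SpSeq.FilObj.Hom.hom s.condition) ≫ pullback.fst f.hom g.hom)).obj (L.fil p) := by
      rw [pullback.lift_fst]; exact s.fst.compat p
    have h2 : s.pt.fil p ≤ (Subobject.pullback (pullback.lift s.fst.hom s.snd.hom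
        (congrArg SpSeq.FilObj.Hom.hom s.condition) ≫ pullback.snd f.hom g.hom)).obj (M.fil p) := by
      rw [pullback.lift_snd]; exact s.snd.compat p
    rw [Subobject.pullback_comp] at h1 h2
    exact (le_inf h1 h2).trans (Subobject.inf_pullback _ _ _).ge⟩

theorem hasPb : HasPullback f g :=
  HasLimit.mk ⟨PullbackCone.mk (pbFst f g) (pbSnd f g) (pb_cond f g),
    PullbackCone.IsLimit.mk (pb_cond f g) (fun s => pbLift f g s)
      (fun s => SpSeq.FilObj.Hom.ext (pullback.lift_fst _ _ _))
      (fun s => SpSeq.FilObj.Hom.ext (pullback.lift_snd _ _ _))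
      (fun s m h1 h2 => SpSeq.FilObj.Hom.ext (pullback.hom_ext
        ((congrArg SpSeq.FilObj.Hom.hom h1).trans (pullback.lift_fst _ _ _).symm)
        ((congrArg SpSeq.FilObj.Hom.hom h2).trans (pullback.lift_snd _ _ _).symm)))⟩

end helpers


/-- Fibre products exist in the category of filtered objects of an abelian category, and the base change
of a strict morphism is strict. -/
theorem result {A : Type u} [Category.{v} A] [Abelian A] {K L M : SpSeq.FilObj A} (f : L ⟶ K) (g : M ⟶ K) : HasPullback f g ∧ ∀ (P : SpSeq.FilObj A) (g' : P ⟶ L) (f' : P ⟶ M), IsPullback g' f' f g → SpSeq.FilObj.IsStrict f → SpSeq.FilObj.IsStrict f' := by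
  refine ⟨hasPb f g, ?_⟩
  intro P g' f' hPB hf p
  have hw : g'.hom ≫ f.hom = f'.hom ≫ g.hom := congrArg SpSeq.FilObj.Hom.hom hPB.w
  apply le_antisymm
  · refine le_inf (imageSubobject_comp_le (P.fil p).arrow f'.hom) ?_
    have hc := f'.compat p
    refine imageSubobject_le _
      (Subobject.ofLE _ _ hc ≫ Subobject.pullbackπ f'.hom (M.fil p)) ?_
    rw [Category.assoc, (Subobject.isPullback f'.hom (M.fil p)).w, ← Category.assoc,
      Subobject.ofLE_arrow]
  · obtain ⟨T, hT⟩ : ∃ T, T = imageSubobject f'.hom ⊓ M.fil p := ⟨_, rfl⟩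
    rw [← hT]
    have hT1 : T ≤ imageSubobject f'.hom := hT ▸ inf_le_left
    have hT2 : T ≤ M.fil p := hT ▸ inf_le_right
    have hTim : imageSubobject T.arrow = T := by rw [imageSubobject_mono, Subobject.mk_arrow]
    have hTf : (imageSubobject f'.hom).Factors T.arrow :=
      Subobject.factors_of_le _ hT1 (Subobject.factors_self T)
    obtain ⟨A₁, π₁, hπ₁, c₁, hc₁⟩ := ref_of_factors f'.hom T.arrow hTf
    have hMt : (M.fil p).Factors T.arrow :=
      Subobject.factors_of_le _ hT2 (Subobject.factors_self T)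
    have e1 : (c₁ ≫ g'.hom) ≫ f.hom = π₁ ≫ T.arrow ≫ g.hom := by
      rw [Category.assoc, hw, ← Category.assoc, ← hc₁, Category.assoc]
    have hK1 : (K.fil p).Factors ((c₁ ≫ g'.hom) ≫ f.hom) := by
      rw [e1]
      apply Subobject.factors_of_factors_right
      rw [← Limits.pullback_factors_iff]
      exact Subobject.factors_of_le _ (g.compat p) hMt
    have hK2 : (imageSubobject f.hom).Factors ((c₁ ≫ g'.hom) ≫ f.hom) :=
      imageSubobject_factors_comp_self f.hom (c₁ ≫ g'.hom)
    have hK : (imageSubobject ((L.fil p).arrow ≫ f.hom)).Factors ((c₁ ≫ g'.hom) ≫ f.hom) := by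
      rw [hf p]; exact (Subobject.inf_factors _).mpr ⟨hK2, hK1⟩
    obtain ⟨A₂, π₂, hπ₂, l, hl⟩ := ref_of_factors _ _ hK
    have hcomm : testHom p L (l ≫ (L.fil p).arrow) (Subobject.factors_comp_arrow l) ≫ f =
        testHom p M (π₂ ≫ π₁ ≫ T.arrow)
          (Subobject.factors_of_factors_right _ (Subobject.factors_of_factors_right _ hMt)) ≫ g := by
      apply SpSeq.FilObj.Hom.ext
      show (l ≫ (L.fil p).arrow) ≫ f.hom = (π₂ ≫ π₁ ≫ T.arrow) ≫ g.hom
      rw [Category.assoc, ← hl, e1]
      simp only [Category.assoc]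
    obtain ⟨c, hc_def⟩ : ∃ c : A₂ ⟶ P.obj, c = (hPB.lift _ _ hcomm).hom := ⟨_, rfl⟩
    have hc2 : c ≫ f'.hom = π₂ ≫ π₁ ≫ T.arrow := by
      rw [hc_def]; exact congrArg SpSeq.FilObj.Hom.hom (hPB.lift_snd _ _ hcomm)
    have hPc : (P.fil p).Factors c := by
      have h1 : (testObj A₂ p).fil p ≤ (Subobject.pullback c).obj (P.fil p) := by
        rw [hc_def]; exact (hPB.lift _ _ hcomm).compat p
      have h2 : (testObj A₂ p).fil p = ⊤ := if_pos le_rfl
      rw [h2] at h1
      have h3 := Subobject.factors_of_le (⊤ : Subobject A₂).arrow h1 (Subobject.factors_self _)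
      have h3' := (Limits.pullback_factors_iff _ _ _).mp h3
      have h4 := Subobject.factors_of_factors_right (inv (⊤ : Subobject A₂).arrow) h3'
      simpa using h4
    rw [← hTim]
    refine le_of_ref _ _ ⟨A₂, π₂ ≫ π₁, inferInstance, Subobject.factorThru _ _ hPc, ?_⟩
    rw [← Category.assoc, Subobject.factorThru_arrow, hc2, Category.assoc]

end Groth.Agent.S6804
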