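import Groth.Statements.S6810
import Mathlib

set_option autoImplicit false
open CategoryTheory CategoryTheory.Limits
universe v u
open CategoryTheory CategoryTheory.SimplicialObject CategoryTheory.SimplicialObject.Truncated

namespace Groth.Agent.S6810

open Opposite in
noncomputable def finCat (m : ℕ) (Y : SimplexCategoryᵒᵖ) :
    FinCategory (CostructuredArrow (SimplexCategory.Truncated.inclusion m).op Y) := by
  classical
  haveI h1 : Finite (CostructuredArrow (SimplexCategory.Truncated.inclusion m).op Y) := by
    let G : (Σ k : Fin (m + 1), (Y.unop ⟶ SimplexCategory.mk k)) →
        CostructuredArrow (SimplexCategory.Truncated.inclusion m).op Y :=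
      fun p => CostructuredArrow.mk (T := Y) (S := (SimplexCategory.Truncated.inclusion m).op)
        (Y := Opposite.op (⟨SimplexCategory.mk p.1, by
          simpa using Nat.lt_succ_iff.mp p.1.2⟩ : SimplexCategory.Truncated m)) (p.2.op)
    refine Finite.of_surjective G ?_
    intro f
    refine ⟨⟨⟨f.left.unop.obj.len, Nat.lt_succ_of_le f.left.unop.property⟩, f.hom.unop⟩, ?_⟩
    rfl
  haveI h2 : ∀ f g : CostructuredArrow (SimplexCategory.Truncated.inclusion m).op Y,
      Finite (f ⟶ g) := by
    intro f g
    refine Finite.of_injective
      (fun φ => (SimplexCategory.Truncated.inclusion m).map φ.left.unop) ?_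
    intro φ ψ h
    apply CostructuredArrow.hom_ext
    apply Quiver.Hom.unop_inj
    exact (SimplexCategory.Truncated.inclusion m).map_injective h
  exact { fintypeObj := Fintype.ofFinite _, fintypeHom := fun f g => Fintype.ofFinite _ }


/-- In a category with finite colimits every truncated simplicial object has a pointwise left Kan
extension along the inclusion of the truncated simplex category, i.e. the left adjoints `i_{m!}` of
truncation exist and are given by the colimit formula. -/
theorem result {C : Type u} [Category.{v} C] [HasFiniteColimits C] (m : ℕ) (U : (SimplexCategory.Truncated m)ᵒᵖ ⥤ C) : (SimplexCategory.Truncated.inclusion m).op.HasPointwiseLeftKanExtension U := by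
  intro Y
  haveI := finCat m Y
  show HasColimit _
  infer_instance

end Groth.Agent.S6810
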