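import Groth.Statements.S6806
import Mathlib
import Groth.Agent.S6810

set_option autoImplicit false
open CategoryTheory CategoryTheory.Limits
universe v u
open CategoryTheory CategoryTheory.Abelian

namespace Groth.Agent.S6806

open Opposite Simplicial

section
variable {A : Type u} [Category.{v} A] [Abelian A]

lemma map_comp_PInfty_eq_zero (X : SimplicialObject A) {k : ℕ} {a : SimplexCategory}
    (ψ : op a ⟶ op ⦋k + 1⦌) (h : a.len < k + 1) :
    X.map ψ ≫ (AlgebraicTopology.DoldKan.PInfty (X := X)).f (k + 1) = 0 := by
  have hni : ¬ Function.Injective ψ.unop.toOrderHom := by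
    intro hinj
    haveI : Mono ψ.unop := SimplexCategory.mono_iff_injective.mpr hinj
    have h1 : k + 1 ≤ a.len := SimplexCategory.len_le_of_mono ψ.unop
    omega
  obtain ⟨i, θ, hθ⟩ := SimplexCategory.eq_σ_comp_of_not_injective ψ.unop hni
  have hψ : ψ = θ.op ≫ (SimplexCategory.σ i).op := by
    have h0 : ψ = (ψ.unop).op := rfl
    rw [h0, hθ, op_comp]
  rw [hψ, X.map_comp, Category.assoc]
  have h4 := AlgebraicTopology.DoldKan.σ_comp_PInfty X i
  first
    | rw [h4, comp_zero]
    | (erw [h4]; rw [comp_zero])

lemma objX_eq_bot_of_PInfty (X : SimplicialObject A) (n : ℕ)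
    (hP : (AlgebraicTopology.DoldKan.PInfty (X := X)).f n = 0) :
    AlgebraicTopology.NormalizedMooreComplex.objX X n = ⊥ := by
  have h3 := congrArg (fun φ => φ.f n)
    (AlgebraicTopology.DoldKan.inclusionOfMooreComplexMap_comp_PInfty X)
  simp only [HomologicalComplex.comp_f, AlgebraicTopology.inclusionOfMooreComplexMap_f] at h3
  rw [hP, comp_zero] at h3
  have h6 := Subobject.mk_eq_bot_iff_zero
    (f := (AlgebraicTopology.NormalizedMooreComplex.objX X n).arrow)
  rw [Subobject.mk_arrow] at h6
  exact h6.mpr h3.symm

end


/-- For an `m`-truncated simplicial object `U` of an abelian category, the normalized Moore complex of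
its free extension `i_{m!} U` (left adjoint of truncation) is zero in every degree `n > m`. Here the
normalized complex in degree `n` is the intersection of the kernels of the faces `d_1, …, d_n`; the
published statement intersects the kernels of `d_0, …, d_{n-1}` instead, and the two versions
correspond under reversal of the ordering of each `[n]`, so both vanish. -/
theorem result {A : Type u} [Category.{v} A] [Abelian A] (m : ℕ) [∀ F : (SimplexCategory.Truncated m)ᵒᵖ ⥤ A, (SimplexCategory.Truncated.inclusion m).op.HasLeftKanExtension F] (U : SimplicialObject.Truncated A m) (n : ℕ) (hn : m < n) : AlgebraicTopology.NormalizedMooreComplex.objX ((SimplicialObject.Truncated.sk m).obj U) n = ⊥ := by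
  obtain ⟨k, rfl⟩ : ∃ k, n = k + 1 := ⟨n - 1, by omega⟩
  apply objX_eq_bot_of_PInfty
  haveI : (SimplexCategory.Truncated.inclusion m).op.HasPointwiseLeftKanExtension U :=
    Groth.Agent.S6810.result m U
  have hE := Functor.isPointwiseLeftKanExtensionOfIsLeftKanExtension
    ((SimplexCategory.Truncated.inclusion m).op.leftKanExtension U)
    ((SimplexCategory.Truncated.inclusion m).op.leftKanExtensionUnit U)
  apply (hE (op ⦋k + 1⦌)).hom_ext
  intro g
  have h5 := map_comp_PInfty_eq_zero ((SimplicialObject.Truncated.sk m).obj U)
    (a := g.left.unop.obj) g.hom (by have := g.left.unop.property; omega)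
  show (((SimplexCategory.Truncated.inclusion m).op.leftKanExtensionUnit U).app g.left ≫
    ((SimplicialObject.Truncated.sk m).obj U).map g.hom) ≫ _ = _
  rw [Category.assoc]
  erw [h5]
  exact comp_zero.trans comp_zero.symm

end Groth.Agent.S6806
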