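import Groth.Statements.S6808
import Mathlib

set_option autoImplicit false
open CategoryTheory Opposite
universe u
open SSet

namespace Groth.Agent.S6808

/-- A map of simplicial sets preserving non-degeneracy of simplices and injective on non-degenerate
simplices is injective in every dimension. -/
theorem result {U V : SSet.{u}} (f : U ⟶ V) (ha : ∀ (n : ℕ) (x : U.obj (op (SimplexCategory.mk n))), x ∈ U.nonDegenerate n → f.app (op (SimplexCategory.mk n)) x ∈ V.nonDegenerate n) (hb : ∀ n : ℕ, Set.InjOn (f.app (op (SimplexCategory.mk n))) (U.nonDegenerate n)) (n : ℕ) : Function.Injective (f.app (op (SimplexCategory.mk n))) := by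
  intro x₁ x₂ h
  obtain ⟨m₁, g₁, hg₁, y₁, hx₁⟩ := U.exists_nonDegenerate x₁
  obtain ⟨m₂, g₂, hg₂, y₂, hx₂⟩ := U.exists_nonDegenerate x₂
  haveI := hg₁
  haveI := hg₂
  have e₁ : f.app _ x₁ = V.map g₁.op (f.app _ y₁.1) := by
    rw [hx₁]; exact NatTrans.naturality_apply f g₁.op y₁.1
  have e₂ : f.app _ x₂ = V.map g₂.op (f.app _ y₂.1) := by
    rw [hx₂]; exact NatTrans.naturality_apply f g₂.op y₂.1
  rw [h] at e₁
  have hm : m₁ = m₂ := V.unique_nonDegenerate_dim (f.app _ x₂) g₁ ⟨_, ha _ _ y₁.2⟩ e₁ g₂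
    ⟨_, ha _ _ y₂.2⟩ e₂
  subst hm
  have hy := V.unique_nonDegenerate_simplex (f.app _ x₂) g₁ ⟨_, ha _ _ y₁.2⟩ e₁ g₂
    ⟨_, ha _ _ y₂.2⟩ e₂
  have hg := V.unique_nonDegenerate_map (f.app _ x₂) g₁ ⟨_, ha _ _ y₁.2⟩ e₁ g₂
    ⟨_, ha _ _ y₂.2⟩ e₂
  have hy' : y₁.1 = y₂.1 := hb _ y₁.2 y₂.2 (congrArg Subtype.val hy)
  rw [hx₁, hx₂, hg, hy']

end Groth.Agent.S6808
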