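import Groth.Statements.S6811
import Mathlib
import Groth.Agent.S6800

set_option autoImplicit false
open CategoryTheory CategoryTheory.Limits
universe v u
open CategoryTheory CategoryTheory.SimplicialObject

namespace Groth.Agent.S6811


open Opposite Simplicial Functor Limits

section
universe v₁ v₂ v₃ v₄ u₁ u₂ u₃ u₄
variable {A : Type u₁} [Category.{v₁} A] {B : Type u₂} [Category.{v₂} B]
  {D : Type u₃} [Category.{v₃} D] {C : Type u₄} [Category.{v₄} C]

noncomputable def isPointwiseRKE_of_comp (L₁ : A ⥤ B) (L₂ : B ⥤ D) [L₂.Full] [L₂.Faithful]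
    (F : D ⥤ C)
    (hE : (RightExtension.mk F (𝟙 ((L₁ ⋙ L₂) ⋙ F))).IsPointwiseRightKanExtension) :
    (RightExtension.mk F (𝟙 (L₂ ⋙ F))).IsPointwiseRightKanExtension := by
  intro Y
  have hext : ∀ (Z : D) {T : C} (a b : T ⟶ F.obj Z),
      (∀ k : StructuredArrow Z (L₁ ⋙ L₂), a ≫ F.map k.hom = b ≫ F.map k.hom) → a = b := by
    intro Z T a b h
    apply (hE Z).hom_ext
    intro k
    show a ≫ (F.map k.hom ≫ _) = b ≫ (F.map k.hom ≫ _)
    rw [← Category.assoc, ← Category.assoc, h k]
  let res : Cone (StructuredArrow.proj Y L₂ ⋙ L₂ ⋙ F) →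
      Cone (StructuredArrow.proj Y (L₁ ⋙ L₂) ⋙ (L₁ ⋙ L₂) ⋙ F) := fun s =>
    { pt := s.pt
      π :=
        { app := fun g => s.π.app ((StructuredArrow.pre Y L₁ L₂).obj g)
          naturality := fun g g' φ =>
            (Category.id_comp _).trans (s.w ((StructuredArrow.pre Y L₁ L₂).map φ)).symm } }
  have hfac : ∀ (s : Cone (StructuredArrow.proj Y L₂ ⋙ L₂ ⋙ F))
      (g : StructuredArrow Y (L₁ ⋙ L₂)),
      (hE Y).lift (res s) ≫ F.map g.hom = s.π.app ((StructuredArrow.pre Y L₁ L₂).obj g) := by
    intro s g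
    have h := (hE Y).fac (res s) g
    calc (hE Y).lift (res s) ≫ F.map g.hom
        = (hE Y).lift (res s) ≫ (F.map g.hom ≫ 𝟙 _) := by rw [Category.comp_id]
      _ = _ := h
  exact
    { lift := fun s => (hE Y).lift (res s)
      fac := fun s g => by
        refine hext (L₂.obj g.right) _ _ (fun k => ?_)
        obtain ⟨κ, hκ⟩ : ∃ κ : g.right ⟶ L₁.obj k.right, L₂.map κ = k.hom :=
          ⟨L₂.preimage k.hom, L₂.map_preimage k.hom⟩
        let g' : StructuredArrow Y (L₁ ⋙ L₂) := StructuredArrow.mk (Y := k.right) (g.hom ≫ k.hom)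
        let μ : g ⟶ (StructuredArrow.pre Y L₁ L₂).obj g' :=
          StructuredArrow.homMk κ (congrArg (fun t => g.hom ≫ t) hκ)
        have h1 : s.π.app g ≫ F.map k.hom = s.π.app ((StructuredArrow.pre Y L₁ L₂).obj g') := by
          have e := s.w μ
          have e2 : F.map (L₂.map κ) = F.map k.hom := congrArg (fun t => F.map t) hκ
          exact (congrArg (fun t => s.π.app g ≫ t) e2).symm.trans e
        have h2 : (hE Y).lift (res s) ≫ F.map (g.hom ≫ k.hom) =
            s.π.app ((StructuredArrow.pre Y L₁ L₂).obj g') := hfac s g'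
        have h0 : ((hE Y).lift (res s) ≫ (F.map g.hom ≫ 𝟙 _)) ≫ F.map k.hom =
            (hE Y).lift (res s) ≫ F.map (g.hom ≫ k.hom) := by
          simp only [Category.comp_id, Category.assoc, Functor.map_comp]
          rfl
        exact h0.trans (h2.trans h1.symm)
      uniq := fun s t ht => by
        refine hext Y _ _ (fun k => ?_)
        have e0 : t ≫ F.map k.hom = t ≫ (F.map k.hom ≫ 𝟙 _) := by rw [Category.comp_id]
        exact e0.trans ((ht ((StructuredArrow.pre Y L₁ L₂).obj k)).trans (hfac s k).symm) }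

end


/-- In a category with finite limits, an `n`-coskeletal simplicial object is `m`-coskeletal for every `m
≥ n`. -/
theorem result {C : Type u} [Category.{v} C] [HasFiniteLimits C] (U : SimplicialObject C) {n m : ℕ} (h : n ≤ m) [U.IsCoskeletal n] : U.IsCoskeletal m := by
  haveI : (SimplexCategory.Truncated.inclusion n).op.HasPointwiseRightKanExtension
      ((SimplexCategory.Truncated.inclusion n).op ⋙ U) := Groth.Agent.S6800.result n _
  have hE := Functor.isPointwiseRightKanExtensionOfIsRightKanExtension U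
    (𝟙 ((SimplexCategory.Truncated.inclusion n).op ⋙ U))
  have hE' := isPointwiseRKE_of_comp (SimplexCategory.Truncated.incl n m h).op
    (SimplexCategory.Truncated.inclusion m).op U hE
  exact ⟨hE'.isRightKanExtension⟩

end Groth.Agent.S6811
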