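import Groth.Statements.S6812
import Mathlib
import Groth.Agent.S6805
import Groth.Agent.S6808

set_option autoImplicit false
open CategoryTheory
universe u
open SSet

namespace Groth.Agent.S6812

open Opposite Simplicial CategoryTheory.Limits

/-- For a simplicial set `U`, the counit `i_{n!} sk_n U ⟶ U` of the skeleton adjunction is a
monomorphism whose image is the subcomplex of `U` generated by its simplices of dimension `≤ n`. -/
theorem result (U : SSet.{u}) (n : ℕ) : Mono ((SSet.skAdj n).counit.app U) ∧ SSet.Subcomplex.range ((SSet.skAdj n).counit.app U) = U.skeleton (n + 1) := by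
  have hbij : ∀ k : ℕ, k ≤ n → Function.Bijective
      (((SSet.skAdj n).counit.app U).app (op (SimplexCategory.mk k))) := by
    intro k hk
    haveI : IsIso (SSet.skAdj.{u} n).unit := by
      show IsIso (SimplicialObject.skAdj (C := Type u) n).unit
      infer_instance
    have htri := (SSet.skAdj n).right_triangle_components U
    have hiso : IsIso ((SSet.truncation n).map ((SSet.skAdj n).counit.app U)) :=
      IsIso.of_isIso_fac_left htri
    have h1 : IsIso (((SSet.truncation n).map ((SSet.skAdj n).counit.app U)).app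
        (op (⟨SimplexCategory.mk k, hk⟩ : SimplexCategory.Truncated n))) :=
      @NatIso.isIso_app_of_isIso _ _ _ _ _ _
        ((SSet.truncation n).map ((SSet.skAdj n).counit.app U)) hiso _
    exact (isIso_iff_bijective _).mp h1
  haveI hdim : ((SSet.Truncated.sk n).obj ((SSet.truncation n).obj U)).HasDimensionLT (n + 1) :=
    Groth.Agent.S6805.result n _
  haveI hdim' : ((SSet.truncation n ⋙ SSet.Truncated.sk n).obj U).HasDimensionLT (n + 1) := hdim
  have hnat : ∀ {a b : SimplexCategoryᵒᵖ} (f : a ⟶ b)
      (y : ((SSet.Truncated.sk n).obj ((SSet.truncation n).obj U)).obj a),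
      ((SSet.skAdj n).counit.app U).app b
        (((SSet.Truncated.sk n).obj ((SSet.truncation n).obj U)).map f y) =
      U.map f (((SSet.skAdj n).counit.app U).app a y) :=
    fun f y => NatTrans.naturality_apply ((SSet.skAdj n).counit.app U) f y
  have hnd : ∀ (k : ℕ)
      (x : ((SSet.Truncated.sk n).obj ((SSet.truncation n).obj U)).obj
        (op (SimplexCategory.mk k))),
      x ∈ ((SSet.Truncated.sk n).obj ((SSet.truncation n).obj U)).nonDegenerate k →
      ((SSet.skAdj n).counit.app U).app (op (SimplexCategory.mk k)) x ∈ U.nonDegenerate k := by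
    intro k x hx
    have hk : k < n + 1 := SSet.dim_lt_of_nonDegenerate _ ⟨x, hx⟩ (n + 1)
    intro hdeg
    obtain ⟨m, hm, f, y, hy⟩ := hdeg
    obtain ⟨y', rfl⟩ := (hbij m (by omega)).2 y
    apply hx
    refine ⟨m, hm, f, y', ?_⟩
    apply (hbij k (by omega)).1
    exact (hnat f.op y').trans hy
  have hb : ∀ k : ℕ, Set.InjOn (((SSet.skAdj n).counit.app U).app (op (SimplexCategory.mk k)))
      (((SSet.Truncated.sk n).obj ((SSet.truncation n).obj U)).nonDegenerate k) := by
    intro k x hx x' _ h
    have hk : k < n + 1 := SSet.dim_lt_of_nonDegenerate _ ⟨x, hx⟩ (n + 1)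
    exact (hbij k (by omega)).1 h
  have hinj := Groth.Agent.S6808.result ((SSet.skAdj n).counit.app U) hnd hb
  refine ⟨?_, ?_⟩
  · refine (NatTrans.mono_iff_mono_app ((SSet.skAdj n).counit.app U)).mpr (fun X => ?_)
    exact (mono_iff_injective _).mpr (hinj X.unop.len)
  · apply le_antisymm
    · intro X x hx
      obtain ⟨v, rfl⟩ := hx
      obtain ⟨k, rfl⟩ : ∃ k : ℕ, X = op (SimplexCategory.mk k) := ⟨X.unop.len, rfl⟩
      obtain ⟨m, f, _, y, hy⟩ :=
        ((SSet.Truncated.sk n).obj ((SSet.truncation n).obj U)).exists_nonDegenerate v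
      have hm : m < n + 1 := SSet.dim_lt_of_nonDegenerate _ y (n + 1)
      rw [hy, hnat]
      exact (U.skeleton (n + 1)).map f.op (U.mem_skeleton _ hm)
    · show (⨆ (i : Fin (n + 1)) (x : U.nonDegenerate i), SSet.Subcomplex.ofSimplex x.1) ≤ _
      refine iSup_le (fun i => iSup_le (fun x => ?_))
      rw [SSet.Subcomplex.ofSimplex_le_iff]
      exact (hbij i (Nat.lt_succ_iff.mp i.isLt)).2 x.1

end Groth.Agent.S6812
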