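import Groth.Statements.S6815
import Mathlib

set_option autoImplicit false
open CategoryTheory CategoryTheory.Limits
universe w v u
open CategoryTheory CategoryTheory.SimplicialObject

namespace Groth.Agent.S6815

open Opposite Simplicial

section
variable {C : Type u} [Category.{v} C] {T : Type w} [HasLimitsOfShape (Discrete T) C]
  {X Y : T → SimplicialObject C}

lemma ext_k (k : SimplexCategoryᵒᵖ) {A : C} (p q : A ⟶ (∏ᶜ Y).obj k)
    (h : ∀ t, p ≫ (Pi.π Y t).app k = q ≫ (Pi.π Y t).app k) : p = q := by
  rw [← cancel_mono (piObjIso (D := SimplexCategoryᵒᵖ) Y k).hom]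
  refine Pi.hom_ext _ _ (fun t => ?_)
  rw [Category.assoc, Category.assoc, piObjIso_hom_comp_π]
  exact h t

@[reassoc]
lemma map_π_app (a : ∀ t, X t ⟶ Y t) (k : SimplexCategoryᵒᵖ) (t : T) :
    (Limits.Pi.map a).app k ≫ (Pi.π Y t).app k = (Pi.π X t).app k ≫ (a t).app k := by
  have h1 : Limits.Pi.map a ≫ Pi.π Y t = Pi.π X t ≫ a t := by simp
  have h2 := congrArg (fun f => f.app k) h1
  first
    | exact h2
    | simpa using h2

noncomputable def hh {a b : ∀ t, X t ⟶ Y t} (H : ∀ t, SimplicialObject.Homotopy (a t) (b t))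
    {n : ℕ} (i : Fin (n + 1)) : (∏ᶜ X) _⦋n⦌ ⟶ (∏ᶜ Y) _⦋n + 1⦌ :=
  Pi.lift (fun t => (Pi.π X t).app (op ⦋n⦌) ≫ (H t).h i) ≫
    (piObjIso (D := SimplexCategoryᵒᵖ) Y (op ⦋n + 1⦌)).inv

@[reassoc]
lemma hh_π {a b : ∀ t, X t ⟶ Y t} (H : ∀ t, SimplicialObject.Homotopy (a t) (b t))
    {n : ℕ} (i : Fin (n + 1)) (t : T) :
    hh H i ≫ (Pi.π Y t).app (op ⦋n + 1⦌) = (Pi.π X t).app (op ⦋n⦌) ≫ (H t).h i := by
  unfold hh
  rw [Category.assoc, piObjIso_inv_comp_π, Pi.lift_π]

end


/-- Homotopies between the factors of two product morphisms of simplicial objects assemble to a homotopy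
between the products. -/
theorem result {C : Type u} [Category.{v} C] {T : Type w} [HasLimitsOfShape (Discrete T) C] {X Y : T → SimplicialObject C} (a b : ∀ t, X t ⟶ Y t) (h : ∀ t, Nonempty (SimplicialObject.Homotopy (a t) (b t))) : Nonempty (SimplicialObject.Homotopy (Limits.Pi.map a) (Limits.Pi.map b)) := by
  have H : ∀ t, SimplicialObject.Homotopy (a t) (b t) := fun t => (h t).some
  refine ⟨{
    h := fun i => hh H i
    h_zero_comp_δ_zero := fun n => ?_
    h_last_comp_δ_last := fun n => ?_
    h_succ_comp_δ_castSucc_of_lt := fun i j hij => ?_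
    h_succ_comp_δ_castSucc_succ := fun j => ?_
    h_castSucc_comp_δ_succ_of_lt := fun i j hji => ?_
    h_comp_σ_castSucc_of_le := fun i j hij => ?_
    h_comp_σ_succ_of_lt := fun i j hji => ?_ }⟩
  · refine ext_k _ _ _ (fun t => ?_)
    simp only [Category.assoc, SimplicialObject.δ_naturality, SimplicialObject.σ_naturality,
      SimplicialObject.δ_naturality_assoc, SimplicialObject.σ_naturality_assoc, hh_π, hh_π_assoc,
      map_π_app, (H t).h_zero_comp_δ_zero n]
  · refine ext_k _ _ _ (fun t => ?_)
    simp only [Category.assoc, SimplicialObject.δ_naturality, SimplicialObject.σ_naturality,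
      SimplicialObject.δ_naturality_assoc, SimplicialObject.σ_naturality_assoc, hh_π, hh_π_assoc,
      map_π_app, (H t).h_last_comp_δ_last n]
  · refine ext_k _ _ _ (fun t => ?_)
    simp only [Category.assoc, SimplicialObject.δ_naturality, SimplicialObject.σ_naturality,
      SimplicialObject.δ_naturality_assoc, SimplicialObject.σ_naturality_assoc, hh_π, hh_π_assoc,
      map_π_app, (H t).h_succ_comp_δ_castSucc_of_lt i j hij]
  · refine ext_k _ _ _ (fun t => ?_)
    simp only [Category.assoc, SimplicialObject.δ_naturality, SimplicialObject.σ_naturality,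
      SimplicialObject.δ_naturality_assoc, SimplicialObject.σ_naturality_assoc, hh_π, hh_π_assoc,
      map_π_app, (H t).h_succ_comp_δ_castSucc_succ j]
  · refine ext_k _ _ _ (fun t => ?_)
    simp only [Category.assoc, SimplicialObject.δ_naturality, SimplicialObject.σ_naturality,
      SimplicialObject.δ_naturality_assoc, SimplicialObject.σ_naturality_assoc, hh_π, hh_π_assoc,
      map_π_app, (H t).h_castSucc_comp_δ_succ_of_lt i j hji]
  · refine ext_k _ _ _ (fun t => ?_)
    simp only [Category.assoc, SimplicialObject.δ_naturality, SimplicialObject.σ_naturality,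
      SimplicialObject.δ_naturality_assoc, SimplicialObject.σ_naturality_assoc, hh_π, hh_π_assoc,
      map_π_app, (H t).h_comp_σ_castSucc_of_le i j hij]
  · refine ext_k _ _ _ (fun t => ?_)
    simp only [Category.assoc, SimplicialObject.δ_naturality, SimplicialObject.σ_naturality,
      SimplicialObject.δ_naturality_assoc, SimplicialObject.σ_naturality_assoc, hh_π, hh_π_assoc,
      map_π_app, (H t).h_comp_σ_succ_of_lt i j hji]

end Groth.Agent.S6815
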