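import Groth.Statements.S6816
import Mathlib

set_option autoImplicit false
open CategoryTheory CategoryTheory.Limits
universe v u
open CochainComplex

namespace Groth.Agent.S6816


open CochainComplex.HomComplex

section
universe v' u'
variable {D : Type u'} [Category.{v'} D] [Preadditive D]

lemma alg {A₀ A₁ B₀ B₁ C₀ C₁ : D}
    (f₀ : A₀ ⟶ B₀) (f₁ : A₁ ⟶ B₁) (g₀ : B₀ ⟶ C₀) (g₁ : B₁ ⟶ C₁)
    (dA : A₀ ⟶ A₁) (dB : B₀ ⟶ B₁) (dC : C₀ ⟶ C₁)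
    (hf : f₀ ≫ dB = dA ≫ f₁) (hg : g₀ ≫ dC = dB ≫ g₁)
    (r₀ : B₀ ⟶ A₀) (s₀ : C₀ ⟶ B₀) (r₁ : B₁ ⟶ A₁) (s₁ : C₁ ⟶ B₁)
    (s₀' : C₀ ⟶ B₀) (r₁' : B₁ ⟶ A₁) (s₁' : C₁ ⟶ B₁)
    (fr₁ : f₁ ≫ r₁ = 𝟙 _)
    (sg₀ : s₀ ≫ g₀ = 𝟙 _) (sg₀' : s₀' ≫ g₀ = 𝟙 _)
    (sg₁ : s₁ ≫ g₁ = 𝟙 _) (sg₁' : s₁' ≫ g₁ = 𝟙 _)
    (id₀ : r₀ ≫ f₀ + g₀ ≫ s₀ = 𝟙 _) (id₁ : r₁ ≫ f₁ + g₁ ≫ s₁ = 𝟙 _)
    (id₁' : r₁' ≫ f₁ + g₁ ≫ s₁' = 𝟙 _) :
    s₀ ≫ dB ≫ r₁ = (((s₀ - s₀') ≫ r₀) ≫ dA + -(dC ≫ ((s₁ - s₁') ≫ r₁))) + s₀' ≫ dB ≫ r₁' := by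
  haveI : Mono f₁ := mono_of_mono_fac fr₁
  rw [← cancel_mono f₁]
  have e₁ : r₁ ≫ f₁ = 𝟙 _ - g₁ ≫ s₁ := eq_sub_of_add_eq id₁
  have e₁' : r₁' ≫ f₁ = 𝟙 _ - g₁ ≫ s₁' := eq_sub_of_add_eq id₁'
  have e₀ : ∀ {Z : D} (h : B₀ ⟶ Z), r₀ ≫ f₀ ≫ h = h - g₀ ≫ s₀ ≫ h := by
    intro Z h
    rw [← Category.assoc, eq_sub_of_add_eq id₀, Preadditive.sub_comp, Category.id_comp,
      Category.assoc]
  have hf' : dA ≫ f₁ = f₀ ≫ dB := hf.symm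
  have hg' : ∀ {Z : D} (h : C₁ ⟶ Z), dB ≫ g₁ ≫ h = g₀ ≫ dC ≫ h := by
    intro Z h
    rw [← Category.assoc, ← hg, Category.assoc]
  have a₀ : ∀ {Z : D} (h : C₀ ⟶ Z), s₀ ≫ g₀ ≫ h = h := by
    intro Z h; rw [← Category.assoc, sg₀, Category.id_comp]
  have a₀' : ∀ {Z : D} (h : C₀ ⟶ Z), s₀' ≫ g₀ ≫ h = h := by
    intro Z h; rw [← Category.assoc, sg₀', Category.id_comp]
  have a₁ : ∀ {Z : D} (h : C₁ ⟶ Z), s₁ ≫ g₁ ≫ h = h := by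
    intro Z h; rw [← Category.assoc, sg₁, Category.id_comp]
  have a₁' : ∀ {Z : D} (h : C₁ ⟶ Z), s₁' ≫ g₁ ≫ h = h := by
    intro Z h; rw [← Category.assoc, sg₁', Category.id_comp]
  simp only [Preadditive.add_comp, Preadditive.sub_comp, Preadditive.comp_sub,
    Preadditive.neg_comp, Preadditive.comp_neg, Category.assoc, e₁, e₁', hf', e₀, hg', a₀, a₀',
    a₁, a₁', Category.comp_id, Category.id_comp]
  abel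

end


/-- The boundary morphisms `C ⟶ A⟦1⟧` attached to two degreewise splittings of a degreewise split
sequence `A ⟶ B ⟶ C` of cochain complexes are homotopic. -/
theorem result {C : Type u} [Category.{v} C] [Preadditive C] [HasBinaryBiproducts C] (S : ShortComplex (CochainComplex C ℤ)) (σ σ' : ∀ n : ℤ, (S.map (HomologicalComplex.eval C (ComplexShape.up ℤ) n)).Splitting) : Nonempty (Homotopy (CochainComplex.homOfDegreewiseSplit S σ) (CochainComplex.homOfDegreewiseSplit S σ')) := by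
  obtain ⟨T, hT⟩ : ∃ T : Cochain S.X₃ S.X₁ 0, ∀ p : ℤ, T.v p p (add_zero p) =
      ((σ p).s - (σ' p).s) ≫ (σ p).r :=
    ⟨Cochain.ofHoms (fun p => ((σ p).s - (σ' p).s) ≫ (σ p).r), fun p => Cochain.ofHoms_v _ p⟩
  have hc : (cocycleOfDegreewiseSplit S σ).1 =
      δ 0 1 T + (cocycleOfDegreewiseSplit S σ').1 := by
    ext p q hpq
    obtain rfl : q = p + 1 := by lia
    rw [Cochain.add_v, δ_v 0 1 (zero_add 1) T p (p + 1) rfl p (p + 1) (by lia) rfl]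
    show ((σ p).s ≫ S.X₂.d p (p + 1) ≫ (σ (p + 1)).r : S.X₃.X p ⟶ S.X₁.X (p + 1)) =
      (T.v p p (add_zero p) ≫ S.X₁.d p (p + 1) +
        (1 : ℤ).negOnePow • S.X₃.d p (p + 1) ≫ T.v (p + 1) (p + 1) (add_zero _)) +
      ((σ' p).s ≫ S.X₂.d p (p + 1) ≫ (σ' (p + 1)).r : S.X₃.X p ⟶ S.X₁.X (p + 1))
    rw [hT, hT, Int.negOnePow_one, Units.neg_smul, one_smul]
    exact alg (S.f.f p) (S.f.f (p + 1)) (S.g.f p) (S.g.f (p + 1))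
      (S.X₁.d p (p + 1)) (S.X₂.d p (p + 1)) (S.X₃.d p (p + 1))
      (S.f.comm p (p + 1)) (S.g.comm p (p + 1))
      (σ p).r (σ p).s (σ (p + 1)).r (σ (p + 1)).s (σ' p).s (σ' (p + 1)).r (σ' (p + 1)).s
      (σ (p + 1)).f_r (σ p).s_g (σ' p).s_g (σ (p + 1)).s_g (σ' (p + 1)).s_g
      (σ p).id (σ (p + 1)).id (σ' (p + 1)).id
  have hσ : Cochain.ofHom (homOfDegreewiseSplit S σ) =
      (cocycleOfDegreewiseSplit S σ).1.rightShift 1 0 (zero_add 1) :=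
    Cocycle.cochain_ofHom_homOf_eq_coe _
  have hσ' : Cochain.ofHom (homOfDegreewiseSplit S σ') =
      (cocycleOfDegreewiseSplit S σ').1.rightShift 1 0 (zero_add 1) :=
    Cocycle.cochain_ofHom_homOf_eq_coe _
  refine ⟨(Cochain.equivHomotopy _ _).symm ⟨-(T.rightShift 1 (-1) (by lia)), ?_⟩⟩
  rw [hσ, hσ', hc, Cochain.rightShift_add, δ_neg,
    Cochain.δ_rightShift T 1 (-1) 0 (by lia) 1 (zero_add 1), Int.negOnePow_one, Units.neg_smul,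
    one_smul, neg_neg]

end Groth.Agent.S6816
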