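import Groth.Statements.S6818
import Mathlib
import Groth.Agent.S6806

set_option autoImplicit false
open CategoryTheory CategoryTheory.Limits Opposite
universe v u
open CategoryTheory CategoryTheory.Abelian

namespace Groth.Agent.S6818


open Opposite Simplicial

section
variable {A : Type u} [Category.{v} A] [Abelian A]

lemma lub_arrow_comp_eq_zero {X Z : A} {ι : Type*} (F : ι → Subobject X) (S : Subobject X)
    (hS : IsLUB (Set.range F) S) (h : X ⟶ Z) (hF : ∀ α, (F α).arrow ≫ h = 0) :
    S.arrow ≫ h = 0 := by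
  have hle : S ≤ kernelSubobject h := by
    apply hS.2
    rintro _ ⟨α, rfl⟩
    exact le_kernelSubobject _ _ (hF α)
  rw [← Subobject.ofLE_arrow hle, Category.assoc, kernelSubobject_arrow_comp, comp_zero]

lemma imageSubobject_id_eq_top (X : A) : imageSubobject (𝟙 X) = ⊤ := by
  haveI : Epi (imageSubobject (𝟙 X)).arrow := epi_of_epi_fac (imageSubobject_arrow_comp (𝟙 X))
  haveI : IsIso (imageSubobject (𝟙 X)).arrow := isIso_of_mono_of_epi _
  exact Subobject.eq_top_of_isIso_arrow _

end


/-- For a simplicial object `U` of an abelian category and `n ≥ 0`, the subobjects `U'_m ⊆ U_m`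
generated by the images of all `U_i ⟶ U_m` induced by maps `[m] ⟶ [i]` with `i ≤ n` form a
simplicial subobject equal to `U` in dimensions `≤ n` whose normalized part vanishes in dimensions
`> n`. Here the normalized subobject of `U_m` is the joint kernel of the faces `d_1, …, d_m`; the
published statement uses the faces `d_0, …, d_{m-1}`, the mirror-image convention, and both versions
hold. -/
theorem result {A : Type u} [Category.{v} A] [Abelian A] (U : SimplicialObject A) (n : ℕ) (U' : ∀ m : ℕ, Subobject (U.obj (op (SimplexCategory.mk m)))) (hU' : ∀ m : ℕ, IsLUB (Set.range (fun φ : Σ i : Fin (n + 1), (SimplexCategory.mk m ⟶ SimplexCategory.mk i) => imageSubobject (U.map φ.2.op))) (U' m)) : (∀ (m m' : ℕ) (ψ : SimplexCategory.mk m' ⟶ SimplexCategory.mk m), imageSubobject ((U' m).arrow ≫ U.map ψ.op) ≤ U' m') ∧ (∀ i : ℕ, i ≤ n → U' i = ⊤) ∧ (∀ m : ℕ, n < m → U' m ⊓ AlgebraicTopology.NormalizedMooreComplex.objX U m = ⊥) := by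
  refine ⟨?_, ?_, ?_⟩
  · intro m m' ψ
    have hzero : (U' m).arrow ≫ (U.map ψ.op ≫ cokernel.π (U' m').arrow) = 0 := by
      apply lub_arrow_comp_eq_zero _ _ (hU' m)
      rintro ⟨i, φ⟩
      apply imageSubobject_arrow_comp_eq_zero
      have hle : imageSubobject (U.map (ψ ≫ φ).op) ≤ U' m' := (hU' m').1 ⟨⟨i, ψ ≫ φ⟩, rfl⟩
      have h1 : U.map φ.op ≫ U.map ψ.op = factorThruImageSubobject (U.map (ψ ≫ φ).op) ≫
          Subobject.ofLE _ _ hle ≫ (U' m').arrow := by
        rw [Subobject.ofLE_arrow, imageSubobject_arrow_comp, op_comp, U.map_comp]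
      rw [← Category.assoc, h1, Category.assoc, Category.assoc, cokernel.condition, comp_zero,
        comp_zero]
    have hg : ((U' m).arrow ≫ U.map ψ.op) ≫ cokernel.π (U' m').arrow = 0 := by
      rw [Category.assoc]; exact hzero
    exact imageSubobject_le _ (Abelian.monoLift (U' m').arrow _ hg) (Abelian.monoLift_comp _ _ hg)
  · intro i hi
    have h1 : imageSubobject (U.map (𝟙 (SimplexCategory.mk i)).op) ≤ U' i :=
      (hU' i).1 ⟨⟨⟨i, by omega⟩, 𝟙 _⟩, rfl⟩
    rw [op_id, U.map_id, imageSubobject_id_eq_top] at h1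
    exact top_le_iff.mp h1
  · intro m hm
    obtain ⟨k, rfl⟩ : ∃ k, m = k + 1 := ⟨m - 1, by omega⟩
    have hP : (U' (k + 1)).arrow ≫ (AlgebraicTopology.DoldKan.PInfty (X := U)).f (k + 1) = 0 := by
      apply lub_arrow_comp_eq_zero _ _ (hU' (k + 1))
      rintro ⟨i, φ⟩
      apply imageSubobject_arrow_comp_eq_zero
      exact Groth.Agent.S6806.map_comp_PInfty_eq_zero U φ.op
        (by have := i.isLt; change (i : ℕ) < k + 1; omega)
    have hNP : (AlgebraicTopology.NormalizedMooreComplex.objX U (k + 1)).arrow ≫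
        (AlgebraicTopology.DoldKan.PInfty (X := U)).f (k + 1) =
        (AlgebraicTopology.NormalizedMooreComplex.objX U (k + 1)).arrow := by
      have h3 := congrArg (fun φ => φ.f (k + 1))
        (AlgebraicTopology.DoldKan.inclusionOfMooreComplexMap_comp_PInfty U)
      simp only [HomologicalComplex.comp_f, AlgebraicTopology.inclusionOfMooreComplexMap_f] at h3
      exact h3
    generalize AlgebraicTopology.NormalizedMooreComplex.objX U (k + 1) = N at hNP ⊢
    have e3 : (U' (k + 1) ⊓ N).arrow ≫ (AlgebraicTopology.DoldKan.PInfty (X := U)).f (k + 1) =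
        (U' (k + 1) ⊓ N).arrow := by
      rw [← Subobject.ofLE_arrow (inf_le_right : U' (k + 1) ⊓ N ≤ N), Category.assoc, hNP]
    have e4 : (U' (k + 1) ⊓ N).arrow ≫ (AlgebraicTopology.DoldKan.PInfty (X := U)).f (k + 1) =
        0 := by
      rw [← Subobject.ofLE_arrow (inf_le_left : U' (k + 1) ⊓ N ≤ U' (k + 1)), Category.assoc, hP,
        comp_zero]
    have hS : (U' (k + 1) ⊓ N).arrow = 0 := by rw [← e3, e4]
    have h6 := Subobject.mk_eq_bot_iff_zero (f := (U' (k + 1) ⊓ N).arrow)
    rw [Subobject.mk_arrow] at h6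
    exact h6.mpr hS

end Groth.Agent.S6818
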