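import Groth.Statements.S6819
import Mathlib
import Groth.Agent.S6806
import Groth.Agent.S6810

set_option autoImplicit false
open CategoryTheory CategoryTheory.Limits Opposite
universe v u
open CategoryTheory CategoryTheory.Abelian

namespace Groth.Agent.S6819


open Opposite Simplicial

section
variable {A : Type u} [Category.{v} A] [Abelian A] (U : SimplicialObject A) (n : ℕ)
  [∀ F : (SimplexCategory.Truncated n)ᵒᵖ ⥤ A,
    (SimplexCategory.Truncated.inclusion n).op.HasLeftKanExtension F]

noncomputable abbrev eps :
    (SimplicialObject.Truncated.sk n).obj ((SimplicialObject.truncation n).obj U) ⟶ U :=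
  (SimplicialObject.skAdj n).counit.app U

noncomputable abbrev eta : (SimplicialObject.truncation n).obj U ⟶
    (SimplicialObject.truncation n).obj
      ((SimplicialObject.Truncated.sk n).obj ((SimplicialObject.truncation n).obj U)) :=
  (SimplicialObject.skAdj n).unit.app ((SimplicialObject.truncation n).obj U)

lemma tri (x : (SimplexCategory.Truncated n)ᵒᵖ) :
    (eta U n).app x ≫ (eps U n).app ((SimplexCategory.Truncated.inclusion n).op.obj x) =
      𝟙 (((SimplicialObject.truncation n).obj U).obj x) :=
  congrArg (fun t => NatTrans.app t x) ((SimplicialObject.skAdj n).right_triangle_components U)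

lemma leg_comp (x : (SimplexCategory.Truncated n)ᵒᵖ) (y : SimplexCategoryᵒᵖ)
    (ψ : (SimplexCategory.Truncated.inclusion n).op.obj x ⟶ y) :
    (eta U n).app x ≫
      ((SimplicialObject.Truncated.sk n).obj ((SimplicialObject.truncation n).obj U)).map ψ ≫
        (eps U n).app y = U.map ψ := by
  have hnat : ((SimplicialObject.Truncated.sk n).obj ((SimplicialObject.truncation n).obj U)).map ψ ≫
      (eps U n).app y =
      (eps U n).app ((SimplexCategory.Truncated.inclusion n).op.obj x) ≫ U.map ψ :=
    (eps U n).naturality ψ
  calc (eta U n).app x ≫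
      ((SimplicialObject.Truncated.sk n).obj ((SimplicialObject.truncation n).obj U)).map ψ ≫
        (eps U n).app y
      = (eta U n).app x ≫
          ((eps U n).app ((SimplexCategory.Truncated.inclusion n).op.obj x) ≫ U.map ψ) :=
        congrArg (fun t => (eta U n).app x ≫ t) hnat
    _ = ((eta U n).app x ≫ (eps U n).app ((SimplexCategory.Truncated.inclusion n).op.obj x)) ≫
          U.map ψ := (Category.assoc _ _ _).symm
    _ = 𝟙 _ ≫ U.map ψ := congrArg (fun t => t ≫ U.map ψ) (tri U n x)
    _ = U.map ψ := Category.id_comp _

lemma image_le (x : (SimplexCategory.Truncated n)ᵒᵖ) (y : SimplexCategoryᵒᵖ)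
    (ψ : (SimplexCategory.Truncated.inclusion n).op.obj x ⟶ y) :
    imageSubobject (U.map ψ) ≤ imageSubobject ((eps U n).app y) := by
  refine imageSubobject_le _ (((eta U n).app x ≫
      ((SimplicialObject.Truncated.sk n).obj ((SimplicialObject.truncation n).obj U)).map ψ) ≫
        factorThruImageSubobject ((eps U n).app y)) ?_
  simp only [Category.assoc, imageSubobject_arrow_comp]
  exact leg_comp U n x y ψ

lemma isLUB_image_eps (m : ℕ) :
    IsLUB (Set.range (fun φ : Σ i : Fin (n + 1), (SimplexCategory.mk m ⟶ SimplexCategory.mk i) =>
      imageSubobject (U.map φ.2.op)))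
      (imageSubobject ((eps U n).app (op (SimplexCategory.mk m)))) := by
  constructor
  · rintro _ ⟨⟨i, φ⟩, rfl⟩
    exact image_le U n
      (op (⟨SimplexCategory.mk (i : ℕ), by have := i.isLt; show (i : ℕ) ≤ n; omega⟩ :
        SimplexCategory.Truncated n)) (op (SimplexCategory.mk m)) φ.op
  · intro S hS
    have hzero : (eps U n).app (op (SimplexCategory.mk m)) ≫ cokernel.π S.arrow = 0 := by
      haveI hpw : (SimplexCategory.Truncated.inclusion n).op.HasPointwiseLeftKanExtension
          ((SimplicialObject.truncation n).obj U) :=
        Groth.Agent.S6810.result n _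
      haveI : Functor.IsLeftKanExtension
          ((SimplicialObject.Truncated.sk n).obj ((SimplicialObject.truncation n).obj U))
          (eta U n) := by
        show Functor.IsLeftKanExtension ((SimplicialObject.sk n).obj U)
          ((SimplicialObject.skAdj n).unit.app ((SimplicialObject.truncation n).obj U))
        infer_instance
      have hE := Functor.isPointwiseLeftKanExtensionOfIsLeftKanExtension
        ((SimplicialObject.Truncated.sk n).obj ((SimplicialObject.truncation n).obj U)) (eta U n)
      apply (hE (op (SimplexCategory.mk m))).hom_ext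
      intro g
      have hle : imageSubobject (U.map g.hom) ≤ S :=
        hS ⟨⟨⟨g.left.unop.obj.len, by have := g.left.unop.property; omega⟩, g.hom.unop⟩, rfl⟩
      have h1 : U.map g.hom ≫ cokernel.π S.arrow = 0 := by
        rw [← imageSubobject_arrow_comp (U.map g.hom), Category.assoc,
          ← Subobject.ofLE_arrow hle, Category.assoc, cokernel.condition, comp_zero, comp_zero]
      have h2 := leg_comp U n g.left (op (SimplexCategory.mk m)) g.hom
      calc ((eta U n).app g.left ≫
            ((SimplicialObject.Truncated.sk n).obj ((SimplicialObject.truncation n).obj U)).map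
              g.hom) ≫ ((eps U n).app (op (SimplexCategory.mk m)) ≫ cokernel.π S.arrow)
          = ((eta U n).app g.left ≫
            ((SimplicialObject.Truncated.sk n).obj ((SimplicialObject.truncation n).obj U)).map
              g.hom ≫ (eps U n).app (op (SimplexCategory.mk m))) ≫ cokernel.π S.arrow := by
            simp only [Category.assoc]
        _ = U.map g.hom ≫ cokernel.π S.arrow := congrArg (fun t => t ≫ cokernel.π S.arrow) h2
        _ = 0 := h1
        _ = _ := comp_zero.symm
    have hg : (eps U n).app (op (SimplexCategory.mk m)) ≫ cokernel.π S.arrow = 0 := hzero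
    exact imageSubobject_le _ (Abelian.monoLift S.arrow _ hg) (Abelian.monoLift_comp _ _ hg)

lemma mono_eps_app (m : ℕ) : Mono ((eps U n).app (op (SimplexCategory.mk m))) := by
  haveI hpw : ∀ F : (SimplexCategory.Truncated n)ᵒᵖ ⥤ A,
      (SimplexCategory.Truncated.inclusion n).op.HasPointwiseLeftKanExtension F :=
    fun F => Groth.Agent.S6810.result n F
  have hiso : ∀ x : (SimplexCategory.Truncated n)ᵒᵖ,
      IsIso ((eps U n).app ((SimplexCategory.Truncated.inclusion n).op.obj x)) := by
    intro x
    haveI : IsIso (SimplicialObject.skAdj (C := A) n).unit := inferInstance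
    have hη : IsIso (eta U n) := inferInstance
    have hηx : IsIso ((eta U n).app x) := @NatIso.isIso_app_of_isIso _ _ _ _ _ _ (eta U n) hη x
    exact @IsIso.of_isIso_fac_left _ _ _ _ _ _ _ _ hηx (IsIso.id _) (tri U n x)
  haveI : (AlgebraicTopology.normalizedMooreComplex A).IsEquivalence :=
    (CategoryTheory.Abelian.DoldKan.equivalence (A := A)).isEquivalence_functor
  have hmonoN : Mono ((AlgebraicTopology.normalizedMooreComplex A).map (eps U n)) := by
    apply HomologicalComplex.mono_of_mono_f
    intro j
    have key : ((AlgebraicTopology.normalizedMooreComplex A).map (eps U n)).f j ≫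
        (AlgebraicTopology.NormalizedMooreComplex.objX U j).arrow =
        (AlgebraicTopology.NormalizedMooreComplex.objX
          ((SimplicialObject.Truncated.sk n).obj ((SimplicialObject.truncation n).obj U)) j).arrow ≫
          (eps U n).app (op (SimplexCategory.mk j)) := by
      simp
      exact Subobject.factorThru_arrow _ _ _
    by_cases hj : j ≤ n
    · haveI : IsIso ((eps U n).app (op (SimplexCategory.mk j))) :=
        hiso (op (⟨SimplexCategory.mk j, hj⟩ : SimplexCategory.Truncated n))
      have hm : Mono ((AlgebraicTopology.NormalizedMooreComplex.objX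
          ((SimplicialObject.Truncated.sk n).obj ((SimplicialObject.truncation n).obj U)) j).arrow ≫
          (eps U n).app (op (SimplexCategory.mk j))) := mono_comp _ _
      exact @mono_of_mono_fac _ _ _ _ _ _ _ _ hm key
    · have hbot := Groth.Agent.S6806.result n ((SimplicialObject.truncation n).obj U) j (by omega)
      have h6 := Subobject.mk_eq_bot_iff_zero
        (f := (AlgebraicTopology.NormalizedMooreComplex.objX
          ((SimplicialObject.Truncated.sk n).obj ((SimplicialObject.truncation n).obj U)) j).arrow)
      rw [Subobject.mk_arrow] at h6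
      have h0 := h6.mp hbot
      exact (IsZero.of_mono_eq_zero _ h0).mono _
  haveI : Mono (eps U n) :=
    Functor.mono_of_mono_map (AlgebraicTopology.normalizedMooreComplex A) hmonoN
  exact (NatTrans.mono_iff_mono_app (eps U n)).mp inferInstance (op (SimplexCategory.mk m))

end


/-- For a simplicial object `U` of an abelian category, the counit `i_{n!} sk_n U ⟶ U` of the skeleton
adjunction is a monomorphism in each degree, with image the subobject generated by the images of the
maps `U_i ⟶ U_m` induced by `[m] ⟶ [i]`, `i ≤ n`. -/
theorem result {A : Type u} [Category.{v} A] [Abelian A] (U : SimplicialObject A) (n : ℕ) (U' : ∀ m : ℕ, Subobject (U.obj (op (SimplexCategory.mk m)))) (hU' : ∀ m : ℕ, IsLUB (Set.range (fun φ : Σ i : Fin (n + 1), (SimplexCategory.mk m ⟶ SimplexCategory.mk i) => imageSubobject (U.map φ.2.op))) (U' m)) [∀ F : (SimplexCategory.Truncated n)ᵒᵖ ⥤ A, (SimplexCategory.Truncated.inclusion n).op.HasLeftKanExtension F] (m : ℕ) : Mono (((SimplicialObject.skAdj n).counit.app U).app (op (SimplexCategory.mk m))) ∧ imageSubobject (((SimplicialObject.skAdj n).counit.app U).app (op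 (SimplexCategory.mk m))) = U' m := by
  refine ⟨mono_eps_app U n m, ?_⟩
  exact (isLUB_image_eps U n m).unique (hU' m)

end Groth.Agent.S6819
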