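import Groth.Statements.S6820
import Mathlib


set_option autoImplicit false
universe u
open Smoothing

namespace Groth.Agent.S6820

/-- Let A be a Noetherian ring, M a finite A-module, S a multiplicative subset of A and π an element of
A such that on the localised module S⁻¹M the kernels of multiplication by π and by π² agree. Then
there is an element s of S such that for every n > 0 the kernels of multiplication by sⁿπ and by
(sⁿπ)² on M agree. (Kernel equalities are written as implications, the reverse inclusions being
automatic.) -/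
theorem result {A : Type u} [CommRing A] [IsNoetherianRing A]
    (M : Type u) [AddCommGroup M] [Module A M] [Module.Finite A M] (S : Submonoid A) (π : A)
    (h : ∀ m : LocalizedModule S M, π ^ 2 • m = 0 → π • m = 0) :
    ∃ s ∈ S, ∀ n : ℕ, 0 < n → ∀ m : M, (s ^ n * π) ^ 2 • m = 0 → (s ^ n * π) • m = 0 := by
  classical
  have hN : IsNoetherian A M := isNoetherian_of_isNoetherianRing_of_finite A M
  -- the S-torsion submodule
  set K : Submodule A M := LinearMap.ker (LocalizedModule.mkLinearMap S M) with hK
  have hKfg : K.FG := IsNoetherian.noetherian K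
  obtain ⟨gens, hgens⟩ := hKfg
  have hkill : ∀ g ∈ gens, ∃ s : S, (s : A) • g = 0 := by
    intro g hg
    have hgK : g ∈ K := by rw [← hgens]; exact Submodule.subset_span hg
    have h0 : LocalizedModule.mkLinearMap S M g = 0 := hgK
    rw [LocalizedModule.mkLinearMap_apply, ← LocalizedModule.zero_mk 1, LocalizedModule.mk_eq] at h0
    obtain ⟨u, hu⟩ := h0
    refine ⟨u, ?_⟩
    have hu' : u • ((1 : S) • g) = u • ((1 : S) • (0 : M)) := hu
    rw [one_smul, one_smul, smul_zero] at hu'
    exact hu'
  choose! σ hσ using hkill
  refine ⟨((∏ g ∈ gens, σ g : S) : A), (∏ g ∈ gens, σ g : S).2, ?_⟩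
  have hsK : ∀ k ∈ K, ((∏ g ∈ gens, σ g : S) : A) • k = 0 := by
    intro k hk
    rw [← hgens] at hk
    induction hk using Submodule.span_induction with
    | mem x hx =>
      have hx' : x ∈ gens := hx
      rw [← Finset.mul_prod_erase gens σ hx', Submonoid.coe_mul, mul_comm, mul_smul, hσ x hx',
        smul_zero]
    | zero => simp
    | add x y _ _ hx hy => rw [smul_add, hx, hy, add_zero]
    | smul a x _ hx => rw [smul_comm, hx, smul_zero]
  intro n hn m hm
  set s : A := ((∏ g ∈ gens, σ g : S) : A) with hs
  -- in the localisation, π² kills m/1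
  have h1 : π ^ 2 • (LocalizedModule.mkLinearMap S M m) = 0 := by
    have hsn : s ^ (2 * n) ∈ S := S.pow_mem (∏ g ∈ gens, σ g : S).2 _
    have e : (s ^ n * π) ^ 2 • m = s ^ (2 * n) • (π ^ 2 • m) := by
      rw [← mul_smul]; congr 1; ring
    rw [e] at hm
    have h2 : LocalizedModule.mkLinearMap S M (s ^ (2 * n) • (π ^ 2 • m)) = 0 := by rw [hm, map_zero]
    rw [map_smul] at h2
    have hu : IsUnit (algebraMap A (Module.End A (LocalizedModule S M)) (s ^ (2 * n))) :=
      IsLocalizedModule.map_units (LocalizedModule.mkLinearMap S M) ⟨_, hsn⟩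
    have hinj := ((Module.End.isUnit_iff _).mp hu).1
    have h3 : algebraMap A (Module.End A (LocalizedModule S M)) (s ^ (2 * n))
        (LocalizedModule.mkLinearMap S M (π ^ 2 • m)) = 0 := h2
    have h4 := hinj (h3.trans (map_zero _).symm)
    rw [map_smul] at h4
    exact h4
  have h5 := h _ h1
  have h6 : π • m ∈ K := by
    change LocalizedModule.mkLinearMap S M (π • m) = 0
    rw [map_smul]; exact h5
  have h7 := hsK _ h6
  obtain ⟨k, rfl⟩ : ∃ k, n = k + 1 := ⟨n - 1, by omega⟩
  rw [pow_succ, mul_assoc, mul_smul, mul_smul, h7, smul_zero]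

end Groth.Agent.S6820
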