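import Groth.Statements.S6862
import Mathlib


set_option autoImplicit false
universe u
open CAlg

namespace Groth.Agent.S6862

/-- Let `R` be a commutative ring and `P'`, `P`, `P''` finitely generated projective `R`-modules in an
exact sequence `0 → P' → P → P'' → 0`. Whenever two of the three are stably free, the remaining one
is stably free too (all three cases are stated). -/
theorem result {R : Type u} [CommRing R] {P' P P'' : Type u}
    [AddCommGroup P'] [Module R P'] [Module.Finite R P'] [Module.Projective R P']
    [AddCommGroup P] [Module R P] [Module.Finite R P] [Module.Projective R P]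
    [AddCommGroup P''] [Module R P''] [Module.Finite R P''] [Module.Projective R P'']
    (f : P' →ₗ[R] P) (g : P →ₗ[R] P'') (hf : Function.Injective f) (hg : Function.Surjective g)
    (hfg : Function.Exact f g) :
    (Module.IsStablyFree R P' → Module.IsStablyFree R P → Module.IsStablyFree R P'') ∧
    (Module.IsStablyFree R P' → Module.IsStablyFree R P'' → Module.IsStablyFree R P) ∧
    (Module.IsStablyFree R P → Module.IsStablyFree R P'' → Module.IsStablyFree R P') := by
  obtain ⟨l, hl⟩ := Module.projective_lifting_property g (LinearMap.id : P'' →ₗ[R] P'') hg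
  set e0 : P ≃ₗ[R] P' × P'' := (hfg.splitSurjectiveEquiv hf ⟨l, hl⟩).1
  refine ⟨?_, ?_, ?_⟩
  · intro h1 h2
    obtain ⟨F1, _, _, _, _, hG1⟩ := Module.IsStablyFree.exist_free_prod R P'
    obtain ⟨F2, _, _, _, _, hG2⟩ := Module.IsStablyFree.exist_free_prod R P
    -- P'' × ((P' × F1) × F2) ≃ (P × F2) × F1
    have sh : (P'' × ((P' × F1) × F2)) ≃ₗ[R] (((P' × P'') × F2) × F1) :=
        { toFun := fun x => (((x.2.1.1, x.1), x.2.2), x.2.1.2)
          invFun := fun y => (y.1.1.2, ((y.1.1.1, y.2), y.1.2))
          map_add' := fun _ _ => rfl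
          map_smul' := fun _ _ => rfl
          left_inv := fun _ => rfl
          right_inv := fun _ => rfl }
    have ee : (P'' × ((P' × F1) × F2)) ≃ₗ[R] ((P × F2) × F1) :=
      sh.trans (LinearEquiv.prodCongr (LinearEquiv.prodCongr e0.symm
        (LinearEquiv.refl R F2)) (LinearEquiv.refl R F1))
    have : Module.Free R (P'' × ((P' × F1) × F2)) := Module.Free.of_equiv ee.symm
    exact Module.IsStablyFree.of_free_prod R P'' ((P' × F1) × F2)
  · intro h1 h2
    obtain ⟨F1, _, _, _, _, hG1⟩ := Module.IsStablyFree.exist_free_prod R P'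
    obtain ⟨F2, _, _, _, _, hG2⟩ := Module.IsStablyFree.exist_free_prod R P''
    have sh : ((P' × P'') × (F1 × F2)) ≃ₗ[R] ((P' × F1) × (P'' × F2)) :=
        { toFun := fun x => ((x.1.1, x.2.1), (x.1.2, x.2.2))
          invFun := fun y => ((y.1.1, y.2.1), (y.1.2, y.2.2))
          map_add' := fun _ _ => rfl
          map_smul' := fun _ _ => rfl
          left_inv := fun _ => rfl
          right_inv := fun _ => rfl }
    have ee : (P × (F1 × F2)) ≃ₗ[R] ((P' × F1) × (P'' × F2)) :=
      (LinearEquiv.prodCongr e0 (LinearEquiv.refl R (F1 × F2))).trans sh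
    have : Module.Free R (P × (F1 × F2)) := Module.Free.of_equiv ee.symm
    exact Module.IsStablyFree.of_free_prod R P (F1 × F2)
  · intro h1 h2
    obtain ⟨F1, _, _, _, _, hG1⟩ := Module.IsStablyFree.exist_free_prod R P
    obtain ⟨F2, _, _, _, _, hG2⟩ := Module.IsStablyFree.exist_free_prod R P''
    have sh : (P' × ((P'' × F2) × F1)) ≃ₗ[R] (((P' × P'') × F1) × F2) :=
        { toFun := fun x => (((x.1, x.2.1.1), x.2.2), x.2.1.2)
          invFun := fun y => (y.1.1.1, ((y.1.1.2, y.2), y.1.2))
          map_add' := fun _ _ => rfl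
          map_smul' := fun _ _ => rfl
          left_inv := fun _ => rfl
          right_inv := fun _ => rfl }
    have ee : (P' × ((P'' × F2) × F1)) ≃ₗ[R] ((P × F1) × F2) :=
      sh.trans (LinearEquiv.prodCongr (LinearEquiv.prodCongr e0.symm
        (LinearEquiv.refl R F1)) (LinearEquiv.refl R F2))
    have : Module.Free R (P' × ((P'' × F2) × F1)) := Module.Free.of_equiv ee.symm
    exact Module.IsStablyFree.of_free_prod R P' ((P'' × F2) × F1)

end Groth.Agent.S6862
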