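import Groth.Statements.S6863
import Mathlib


set_option autoImplicit false
universe u
open TensorProduct
open CAlg

namespace Groth.Agent.S6863

section helpers
variable {R : Type u} [CommRing R] (I : Ideal R)

/-- reduction mod `I`, coordinatewise -/
noncomputable def red (ι : Type u) : (ι → R) →ₗ[R] (ι → R ⧸ I) :=
  (Algebra.linearMap R (R ⧸ I)).compLeft ι

theorem red_apply (ι : Type u) (x : ι → R) (j : ι) : red I ι x j = Ideal.Quotient.mk I (x j) := rfl

theorem red_surj (ι : Type u) (w : ι → R ⧸ I) : ∃ x : ι → R, red I ι x = w :=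
  ⟨fun j => (Ideal.Quotient.mk_surjective (w j)).choose,
    funext fun j => (Ideal.Quotient.mk_surjective (w j)).choose_spec⟩

theorem red_eq_zero {ι : Type u} {x : ι → R} (h : red I ι x = 0) (j : ι) : x j ∈ I :=
  Ideal.Quotient.eq_zero_iff_mem.mp (congrFun h j)

theorem sum_single {ι : Type u} [Fintype ι] [DecidableEq ι] (z : ι → R) :
    ∑ i, z i • (Pi.single i (1 : R) : ι → R) = z := by
  ext k; simp [Finset.sum_apply, Pi.single_apply]

theorem kill {ι : Type u} [Finite ι] {V : Type*} [AddCommGroup V] [Module R V]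
    (hV : ∀ a ∈ I, ∀ v : V, a • v = 0) (g : (ι → R) →ₗ[R] V) (z : ι → R) (hz : ∀ i, z i ∈ I) :
    g z = 0 := by
  classical
  cases nonempty_fintype ι
  rw [← sum_single z, map_sum]
  refine Finset.sum_eq_zero fun i _ => ?_
  rw [map_smul]
  exact hV _ (hz i) _

theorem mem_smul_top {ι : Type u} [Finite ι] (z : ι → R) (hz : ∀ i, z i ∈ I) :
    z ∈ I • (⊤ : Submodule R (ι → R)) := by
  classical
  cases nonempty_fintype ι
  rw [← sum_single z]
  exact Submodule.sum_mem _ fun i _ => Submodule.smul_mem_smul (hz i) Submodule.mem_top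

theorem kill_of_tower (V : Type*) [AddCommGroup V] [Module R V] [Module (R ⧸ I) V]
    [IsScalarTower R (R ⧸ I) V] : ∀ a ∈ I, ∀ v : V, a • v = 0 := by
  intro a ha v
  rw [← algebraMap_smul (R ⧸ I) a v]
  have : algebraMap R (R ⧸ I) a = 0 := Ideal.Quotient.eq_zero_iff_mem.mpr ha
  rw [this, zero_smul]

end helpers

theorem core {R : Type u} [CommRing R] (I : Ideal R) (hI : I ≤ Ideal.jacobson (⊥ : Ideal R))
    (E : Type u) [AddCommGroup E] [Module (R ⧸ I) E]
    {ιN ιF : Type u} [Finite ιN] [Finite ιF]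
    (Φ : (E × (ιN → R ⧸ I)) ≃ₗ[R ⧸ I] (ιF → R ⧸ I)) :
    ∃ (M : Type u) (_ : AddCommGroup M) (_ : Module R M), Module.Finite R M ∧
      Module.IsStablyFree R M ∧ Nonempty ((R ⧸ I) ⊗[R] M ≃ₗ[R ⧸ I] E) := by
  classical
  cases nonempty_fintype ιN
  cases nonempty_fintype ιF
  let pbar : (ιF → R ⧸ I) →ₗ[R ⧸ I] (ιN → R ⧸ I) :=
    (LinearMap.snd (R ⧸ I) E (ιN → R ⧸ I)) ∘ₗ Φ.symm.toLinearMap
  have pbar_apply : ∀ x, pbar x = (Φ.symm x).2 := fun x => rfl
  have pbar_surj : Function.Surjective pbar := fun y => ⟨Φ (0, y), by simp [pbar_apply]⟩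
  choose liftv hliftv using red_surj I ιN
  let p : (ιF → R) →ₗ[R] (ιN → R) :=
    (Pi.basisFun R ιF).constr R (fun j => liftv (pbar (Pi.single j 1)))
  have hp_basis : ∀ j, p (Pi.single j 1) = liftv (pbar (Pi.single j 1)) := fun j => by
    have := (Pi.basisFun R ιF).constr_basis R (fun j => liftv (pbar (Pi.single j 1))) j
    rw [Pi.basisFun_apply] at this
    exact this
  have H : ∀ x, red I ιN (p x) = pbar (red I ιF x) := by
    have hH : (red I ιN) ∘ₗ p = (pbar.restrictScalars R) ∘ₗ (red I ιF) := by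
      refine (Pi.basisFun R ιF).ext fun j => ?_
      rw [Pi.basisFun_apply, LinearMap.comp_apply, LinearMap.comp_apply, hp_basis, hliftv,
        LinearMap.restrictScalars_apply]
      congr 1
      ext k
      rw [red_apply, Pi.single_apply, Pi.single_apply]
      split_ifs <;> simp
    intro x; exact LinearMap.congr_fun hH x
  have hp_surj : Function.Surjective p := by
    rw [← LinearMap.range_eq_top]
    refine top_le_iff.mp (Submodule.le_of_le_smul_of_le_jacobson_bot Module.Finite.fg_top hI ?_)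
    intro y _
    obtain ⟨xb, hxb⟩ := pbar_surj (red I ιN y)
    obtain ⟨x, hx⟩ := red_surj I ιF xb
    have h0 : red I ιN (y - p x) = 0 := by rw [map_sub, H, hx, hxb, sub_self]
    have hmem : y - p x ∈ I • (⊤ : Submodule R (ιN → R)) := mem_smul_top I _ (red_eq_zero I h0)
    have hy : y = p x + (y - p x) := by abel
    rw [hy]
    exact Submodule.add_mem_sup (LinearMap.mem_range_self p x) hmem
  obtain ⟨s, hs⟩ := Module.projective_lifting_property p LinearMap.id hp_surj
  have hps : ∀ y, p (s y) = y := fun y => LinearMap.congr_fun hs y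
  let ret : (ιF → R) →ₗ[R] LinearMap.ker p :=
    (LinearMap.id - s ∘ₗ p).codRestrict (LinearMap.ker p) (fun x => by
      simp [LinearMap.mem_ker, hps])
  have hret_val : ∀ z, ((ret z : LinearMap.ker p) : ιF → R) = z - s (p z) := fun z => rfl
  have hret : ∀ x : LinearMap.ker p, ret x.1 = x := fun x => by
    apply Subtype.ext
    have hx : p x.1 = 0 := x.2
    rw [hret_val, hx, map_zero, sub_zero]
  let e : (LinearMap.ker p × (ιN → R)) ≃ₗ[R] (ιF → R) :=
    LinearEquiv.ofLinearMap ((LinearMap.ker p).subtype.coprod s) (ret.prod p)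
      (LinearMap.ext fun z => by simp [hret_val])
      (LinearMap.ext fun ⟨x, y⟩ => by
        have hx : p x.1 = 0 := x.2
        refine Prod.ext (Subtype.ext ?_) ?_
        · simp [LinearMap.coprod_apply, hret_val, hx, hps]
        · simp [LinearMap.coprod_apply, hx, hps])
  haveI : Module.Free R (LinearMap.ker p × (ιN → R)) := Module.Free.of_equiv e.symm
  have hfin : Module.Finite R (LinearMap.ker p) :=
    Module.Finite.of_surjective ret (fun x => ⟨x.1, hret x⟩)
  have hsf : Module.IsStablyFree R (LinearMap.ker p) :=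
    Module.IsStablyFree.of_free_prod R (LinearMap.ker p) (ιN → R)
  refine ⟨LinearMap.ker p, inferInstance, inferInstance, hfin, hsf, ⟨?_⟩⟩
  let ψ : LinearMap.ker p →ₗ[R] (ιF → R ⧸ I) := (red I ιF) ∘ₗ (LinearMap.ker p).subtype
  let Θ : (R ⧸ I) ⊗[R] LinearMap.ker p →ₗ[R ⧸ I] E :=
    (LinearMap.fst (R ⧸ I) E (ιN → R ⧸ I)) ∘ₗ Φ.symm.toLinearMap ∘ₗ
      (LinearMap.liftBaseChange (R ⧸ I) ψ)
  have hΘ : ∀ x : LinearMap.ker p, Θ (1 ⊗ₜ x) = (Φ.symm (red I ιF x.1)).1 := fun x => by
    simp [Θ, ψ, LinearMap.liftBaseChange_tmul]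
  have K1 : ∀ x : LinearMap.ker p, (Φ.symm (red I ιF x.1)).2 = 0 := fun x => by
    have h := H x.1
    rw [show p x.1 = 0 from x.2, map_zero, pbar_apply] at h
    exact h.symm
  have K2 : ∀ t : (R ⧸ I) ⊗[R] LinearMap.ker p, ∃ x : LinearMap.ker p, t = 1 ⊗ₜ x := by
    intro t
    induction t using TensorProduct.induction_on with
    | zero => exact ⟨0, (TensorProduct.tmul_zero _ _).symm⟩
    | tmul a m =>
      obtain ⟨r, rfl⟩ := Ideal.Quotient.mk_surjective a
      refine ⟨r • m, ?_⟩
      rw [TensorProduct.tmul_smul, TensorProduct.smul_tmul']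
      congr 1
      rw [Algebra.smul_def, mul_one]
      rfl
    | add t₁ t₂ h₁ h₂ =>
      obtain ⟨x, rfl⟩ := h₁
      obtain ⟨y, rfl⟩ := h₂
      exact ⟨x + y, (TensorProduct.tmul_add _ _ _).symm⟩
  refine LinearEquiv.ofBijective Θ ⟨?_, ?_⟩
  · rw [injective_iff_map_eq_zero]
    intro t ht
    obtain ⟨x, rfl⟩ := K2 t
    rw [hΘ] at ht
    have h0 : Φ.symm (red I ιF x.1) = 0 := Prod.ext ht (K1 x)
    have h1 : red I ιF x.1 = 0 := by simpa using h0
    have h2 := red_eq_zero I h1
    have h3 := kill I (V := (R ⧸ I) ⊗[R] LinearMap.ker p) (kill_of_tower I _)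
      ((TensorProduct.mk R (R ⧸ I) (LinearMap.ker p) 1) ∘ₗ ret) x.1 h2
    rw [LinearMap.comp_apply, hret] at h3
    exact h3
  · intro e0
    obtain ⟨x, hx⟩ := red_surj I ιF (Φ (e0, 0))
    have hpx : ∀ i, p x i ∈ I := red_eq_zero I (by rw [H, hx, pbar_apply]; simp)
    have hred : red I ιF (s (p x)) = 0 :=
      kill I (kill_of_tower I _) ((red I ιF) ∘ₗ s) (p x) hpx
    refine ⟨1 ⊗ₜ ret x, ?_⟩
    rw [hΘ, hret_val, map_sub, hred, sub_zero, hx]
    simp


/-- Let `I` be an ideal of a commutative ring `R` contained in the Jacobson radical (equivalently, `1 +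
i` is a unit for each `i ∈ I`). Then each finitely generated stably free module `E` over `R/I`
lifts: there is a finite stably free `R`-module `M` with `M/IM ≅ E` (existence of an isomorphism
only; the published statement names no map). -/
theorem result {R : Type u} [CommRing R] (I : Ideal R)
    (hI : I ≤ Ideal.jacobson (⊥ : Ideal R)) (E : Type u) [AddCommGroup E] [Module (R ⧸ I) E]
    [Module.Finite (R ⧸ I) E] [Module.IsStablyFree (R ⧸ I) E] :
    ∃ (M : Type u) (_ : AddCommGroup M) (_ : Module R M), Module.Finite R M ∧ Module.IsStablyFree R M ∧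
      Nonempty ((R ⧸ I) ⊗[R] M ≃ₗ[R ⧸ I] E) := by
  classical
  rcases subsingleton_or_nontrivial (R ⧸ I) with hsub | hnt
  · haveI : Subsingleton E := Module.subsingleton (R ⧸ I) E
    haveI : Subsingleton ((R ⧸ I) ⊗[R] PUnit.{u+1}) := Module.subsingleton (R ⧸ I) _
    refine ⟨PUnit.{u+1}, inferInstance, inferInstance, inferInstance, inferInstance, ⟨?_⟩⟩
    exact
      { toFun := fun _ => 0
        invFun := fun _ => 0
        map_add' := fun _ _ => Subsingleton.elim _ _
        map_smul' := fun _ _ => Subsingleton.elim _ _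
        left_inv := fun _ => Subsingleton.elim _ _
        right_inv := fun _ => Subsingleton.elim _ _ }
  · obtain ⟨N, _, _, _, _, hfree⟩ := Module.IsStablyFree.exist_free_prod (R ⧸ I) E
    let bN := Module.Free.chooseBasis (R ⧸ I) N
    let bF := Module.Free.chooseBasis (R ⧸ I) (E × N)
    haveI : Finite (Module.Free.ChooseBasisIndex (R ⧸ I) N) := Module.Finite.finite_basis bN
    haveI : Finite (Module.Free.ChooseBasisIndex (R ⧸ I) (E × N)) := Module.Finite.finite_basis bF
    exact core I hI E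
      (((LinearEquiv.refl (R ⧸ I) E).prodCongr bN.equivFun).symm ≪≫ₗ bF.equivFun)

end Groth.Agent.S6863
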