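import Groth.Statements.S6864
import Mathlib


set_option autoImplicit false
universe u
open TensorProduct
open CAlg

namespace Groth.Agent.S6864

/-- Let `I` be an ideal of a commutative ring `R` contained in the Jacobson radical and let `φ : P → P'`
be an `R`-linear map between finite projective `R`-modules. If the induced map `P/IP → P'/IP'` is
bijective, then `φ` is bijective. -/
theorem result {R : Type u} [CommRing R] (I : Ideal R)
    (hI : I ≤ Ideal.jacobson (⊥ : Ideal R)) {P P' : Type u}
    [AddCommGroup P] [Module R P] [Module.Finite R P] [Module.Projective R P]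
    [AddCommGroup P'] [Module R P'] [Module.Finite R P'] [Module.Projective R P'] (φ : P →ₗ[R] P')
    (h : Function.Bijective (φ.baseChange (R ⧸ I))) : Function.Bijective φ := by
  -- key: `1 ⊗ x = 0` iff `x ∈ I • ⊤`
  have key : ∀ (M : Type u) [AddCommGroup M] [Module R M] (x : M),
      ((1 : R ⧸ I) ⊗ₜ[R] x = 0) → x ∈ I • (⊤ : Submodule R M) := by
    intro M _ _ x hx
    have := congrArg (TensorProduct.quotTensorEquivQuotSMul M I) hx
    rw [TensorProduct.quotTensorEquivQuotSMul_mk_one_tmul, map_zero,
      Submodule.Quotient.mk_eq_zero] at this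
    exact this
  -- surjectivity
  have hsurj : Function.Surjective φ := by
    let ψ : (R ⧸ I) ⊗[R] P' →ₗ[R] P' ⧸ (LinearMap.range φ ⊔ I • (⊤ : Submodule R P')) :=
      (Submodule.mapQ (I • (⊤ : Submodule R P')) (LinearMap.range φ ⊔ I • (⊤ : Submodule R P'))
        LinearMap.id (by rw [Submodule.comap_id]; exact le_sup_right)) ∘ₗ
        (TensorProduct.quotTensorEquivQuotSMul P' I).toLinearMap
    have hψ : ψ ∘ₗ ((φ.baseChange (R ⧸ I)).restrictScalars R) = 0 := by
      apply TensorProduct.ext'
      intro x p
      obtain ⟨r, rfl⟩ := Ideal.Quotient.mk_surjective x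
      simp only [LinearMap.coe_comp, Function.comp_apply, LinearMap.coe_restrictScalars,
        LinearMap.baseChange_tmul, LinearMap.zero_apply, ψ, LinearEquiv.coe_coe,
        TensorProduct.quotTensorEquivQuotSMul_mk_tmul, Submodule.mapQ_apply, LinearMap.id_apply]
      rw [Submodule.Quotient.mk_eq_zero]
      exact Submodule.mem_sup_left ⟨r • p, by rw [map_smul]⟩
    have hle : (⊤ : Submodule R P') ≤ LinearMap.range φ ⊔ I • (⊤ : Submodule R P') := by
      intro p' _
      obtain ⟨t, ht⟩ := h.2 ((1 : R ⧸ I) ⊗ₜ[R] p')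
      have h1 : ψ ((φ.baseChange (R ⧸ I)) t) = 0 := LinearMap.congr_fun hψ t
      rw [ht] at h1
      simp only [ψ, LinearMap.coe_comp, Function.comp_apply, LinearEquiv.coe_coe,
        TensorProduct.quotTensorEquivQuotSMul_mk_one_tmul, Submodule.mapQ_apply,
        LinearMap.id_apply, Submodule.Quotient.mk_eq_zero] at h1
      exact h1
    have htop : (⊤ : Submodule R P') ≤ LinearMap.range φ :=
      Submodule.le_of_le_smul_of_le_jacobson_bot Module.Finite.fg_top hI hle
    rw [← LinearMap.range_eq_top]; exact top_le_iff.mp htop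
  refine ⟨?_, hsurj⟩
  -- injectivity
  obtain ⟨s, hs⟩ := Module.projective_lifting_property φ (LinearMap.id : P' →ₗ[R] P') hsurj
  have hs' : ∀ x, φ (s x) = x := fun x => LinearMap.congr_fun hs x
  let π : P →ₗ[R] P := LinearMap.id - s ∘ₗ φ
  have hπker : ∀ x, π x ∈ LinearMap.ker φ := by
    intro x
    simp only [π, LinearMap.mem_ker, LinearMap.sub_apply, LinearMap.id_apply, LinearMap.comp_apply,
      map_sub, hs', sub_self]
  have hπid : ∀ k ∈ LinearMap.ker φ, π k = k := by
    intro k hk
    simp only [π, LinearMap.sub_apply, LinearMap.id_apply, LinearMap.comp_apply,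
      LinearMap.mem_ker.mp hk, map_zero, sub_zero]
  have hKfg : (LinearMap.ker φ).FG := by
    have : LinearMap.ker φ = LinearMap.range π := by
      apply le_antisymm
      · intro k hk; exact ⟨k, hπid k hk⟩
      · rintro _ ⟨x, rfl⟩; exact hπker x
    rw [this]
    exact Module.Finite.iff_fg.mp (inferInstance : Module.Finite R (LinearMap.range π))
  have hKle : LinearMap.ker φ ≤ I • LinearMap.ker φ := by
    intro k hk
    have h0 : (φ.baseChange (R ⧸ I)) ((1 : R ⧸ I) ⊗ₜ[R] k) = 0 := by
      rw [LinearMap.baseChange_tmul, LinearMap.mem_ker.mp hk, TensorProduct.tmul_zero]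
    have h1 : (1 : R ⧸ I) ⊗ₜ[R] k = 0 := h.1 (h0.trans (map_zero _).symm)
    have h2 := key P k h1
    have h3 : π k ∈ I • LinearMap.ker φ := by
      refine Submodule.smul_induction_on (p := fun y => π y ∈ I • LinearMap.ker φ) h2 ?_ ?_
      · intro a ha y _
        rw [map_smul]
        exact Submodule.smul_mem_smul ha (hπker y)
      · intro x y hx hy
        rw [map_add]
        exact Submodule.add_mem _ hx hy
    rwa [hπid k hk] at h3
  have hK : LinearMap.ker φ = ⊥ :=
    Submodule.eq_bot_of_le_smul_of_le_jacobson_bot I _ hKfg hKle hI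
  exact LinearMap.ker_eq_bot.mp hK

end Groth.Agent.S6864
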