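import Groth.Statements.S6865
import Mathlib
import Groth.Agent.S6864


set_option autoImplicit false
universe u
open TensorProduct
open CAlg

namespace Groth.Agent.S6865

/-- Let `I` be an ideal of a commutative ring `R` contained in the Jacobson radical and let `P, P'` be
finite projective `R`-modules. If `P/IP` and `P'/IP'` are isomorphic `R/I`-modules, then `P` and
`P'` are isomorphic. -/
theorem result {R : Type u} [CommRing R] (I : Ideal R)
    (hI : I ≤ Ideal.jacobson (⊥ : Ideal R)) (P P' : Type u)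
    [AddCommGroup P] [Module R P] [Module.Finite R P] [Module.Projective R P]
    [AddCommGroup P'] [Module R P'] [Module.Finite R P'] [Module.Projective R P']
    (e : (R ⧸ I) ⊗[R] P ≃ₗ[R ⧸ I] (R ⧸ I) ⊗[R] P') : Nonempty (P ≃ₗ[R] P') := by
  -- the reduction maps
  let q : P →ₗ[R] (R ⧸ I) ⊗[R] P := TensorProduct.mk R (R ⧸ I) P 1
  let q' : P' →ₗ[R] (R ⧸ I) ⊗[R] P' := TensorProduct.mk R (R ⧸ I) P' 1
  have hq' : Function.Surjective q' := by
    intro t
    induction t using TensorProduct.induction_on with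
    | zero => exact ⟨0, map_zero _⟩
    | tmul x p =>
      obtain ⟨r, rfl⟩ := Ideal.Quotient.mk_surjective x
      refine ⟨r • p, ?_⟩
      simp only [q', TensorProduct.mk_apply]
      rw [TensorProduct.tmul_smul, TensorProduct.smul_tmul']
      congr 1
      rw [← Ideal.Quotient.mk_eq_mk, Algebra.smul_def]; simp
    | add a b ha hb =>
      obtain ⟨x, rfl⟩ := ha
      obtain ⟨y, rfl⟩ := hb
      exact ⟨x + y, map_add _ _ _⟩
  obtain ⟨φ, hφ⟩ := Module.projective_lifting_property q'
    ((e.toLinearMap.restrictScalars R) ∘ₗ q) hq'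
  have hφ' : ∀ p, (1 : R ⧸ I) ⊗ₜ[R] φ p = e ((1 : R ⧸ I) ⊗ₜ[R] p) := fun p =>
    LinearMap.congr_fun hφ p
  have hbc : φ.baseChange (R ⧸ I) = e.toLinearMap := by
    apply TensorProduct.AlgebraTensorModule.ext
    intro x p
    rw [LinearMap.baseChange_tmul]
    have : x ⊗ₜ[R] φ p = x • ((1 : R ⧸ I) ⊗ₜ[R] φ p) := by
      rw [TensorProduct.smul_tmul', smul_eq_mul, mul_one]
    rw [this, hφ' p, ← map_smul, TensorProduct.smul_tmul', smul_eq_mul, mul_one]
    rfl
  have hbij : Function.Bijective (φ.baseChange (R ⧸ I)) := by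
    rw [hbc]; exact e.bijective
  exact ⟨LinearEquiv.ofBijective φ (Groth.Agent.S6864.result I hI φ hbij)⟩

end Groth.Agent.S6865
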