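import Groth.Statements.S6867
import Mathlib


set_option autoImplicit false
universe u
open CAlg

namespace Groth.Agent.S6867

/-- For a domain `R`, a finite `R`-module `M` is torsion free exactly when it admits an injective
`R`-linear map into `Rⁿ` for some `n`. -/
theorem result (R : Type u) [CommRing R] [IsDomain R] (M : Type u)
    [AddCommGroup M] [Module R M] [Module.Finite R M] :
    Module.IsTorsionFree R M ↔ ∃ (n : ℕ) (f : M →ₗ[R] (Fin n → R)), Function.Injective f := by
  classical
  constructor
  · intro hM
    let K := FractionRing R
    let V := LocalizedModule (nonZeroDivisors R) M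
    have hfin : Module.Finite K V := inferInstance
    let n := Module.finrank K V
    let b : Module.Basis (Fin n) K V := Module.finBasis K V
    let c : V →ₗ[R] (Fin n → K) := (b.equivFun.toLinearMap).restrictScalars R
    have hc : Function.Injective c := b.equivFun.injective
    let mk : M →ₗ[R] V := LocalizedModule.mkLinearMap (nonZeroDivisors R) M
    have hmk : Function.Injective mk := by
      rw [← LinearMap.ker_eq_bot, LinearMap.ker_eq_bot']
      intro m hm
      have hm' : LocalizedModule.mk m (1 : nonZeroDivisors R) = 0 := hm
      rw [← LocalizedModule.zero_mk 1, LocalizedModule.mk_eq] at hm'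
      obtain ⟨u, hu⟩ := hm'
      have hu' : (u : R) • m = 0 := by
        have : u • ((1 : nonZeroDivisors R) • m) = u • ((1 : nonZeroDivisors R) • (0 : M)) := hu
        rwa [one_smul, one_smul, smul_zero] at this
      have hreg : IsRegular (u : R) := isRegular_iff_ne_zero.mpr (nonZeroDivisors.ne_zero u.2)
      exact (hM.isSMulRegular hreg) (hu'.trans (smul_zero _).symm)
    obtain ⟨S, hS⟩ := (Module.Finite.fg_top : (⊤ : Submodule R M).FG)
    obtain ⟨d, hd⟩ := IsLocalization.exist_integer_multiples_of_finset (nonZeroDivisors R)
      ((S ×ˢ (Finset.univ : Finset (Fin n))).image (fun p => c (mk p.1) p.2))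
    let g : M →ₗ[R] (Fin n → K) := (d : R) • (c ∘ₗ mk)
    have hg : Function.Injective g := by
      intro x y hxy
      have h1 : (d : R) • c (mk x) = (d : R) • c (mk y) := hxy
      have hreg : IsRegular (d : R) := isRegular_iff_ne_zero.mpr (nonZeroDivisors.ne_zero d.2)
      have hdK : (algebraMap R K (d : R)) ≠ 0 := by
        rw [Ne, map_eq_zero_iff _ (IsFractionRing.injective R K)]
        exact nonZeroDivisors.ne_zero d.2
      have h2 : c (mk x) = c (mk y) := by
        funext j
        have := congrFun h1 j
        simp only [Pi.smul_apply, Algebra.smul_def] at this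
        exact mul_left_cancel₀ hdK this
      exact hmk (hc h2)
    let ι : (Fin n → R) →ₗ[R] (Fin n → K) := (Algebra.linearMap R K).compLeft (Fin n)
    have hι : Function.Injective ι := by
      intro x y hxy
      funext j
      exact IsFractionRing.injective R K (congrFun hxy j)
    have hrange : ∀ m : M, g m ∈ LinearMap.range ι := by
      intro m
      have hm : m ∈ Submodule.span R (S : Set M) := by rw [hS]; trivial
      induction hm using Submodule.span_induction with
      | mem x hx =>
        have hint : ∀ j : Fin n, ∃ r : R, algebraMap R K r = (d : R) • c (mk x) j := by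
          intro j
          exact hd (c (mk x) j) (Finset.mem_image.mpr ⟨(x, j), Finset.mem_product.mpr
            ⟨hx, Finset.mem_univ j⟩, rfl⟩)
        choose r hr using hint
        refine ⟨r, ?_⟩
        funext j
        exact hr j
      | zero => rw [map_zero]; exact Submodule.zero_mem _
      | add x y _ _ hx hy => rw [map_add]; exact Submodule.add_mem _ hx hy
      | smul a x _ hx => rw [map_smul]; exact Submodule.smul_mem _ a hx
    refine ⟨n, (LinearEquiv.ofInjective ι hι).symm.toLinearMap ∘ₗ
      (g.codRestrict (LinearMap.range ι) hrange), ?_⟩
    intro x y hxy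
    have h1 := (LinearEquiv.ofInjective ι hι).symm.injective hxy
    exact hg (congrArg Subtype.val h1)
  · rintro ⟨n, f, hf⟩
    exact Function.Injective.moduleIsTorsionFree f hf (map_smul f)

end Groth.Agent.S6867
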