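import Groth.Statements.S6866
import Mathlib
import Groth.Agent.S6867


set_option autoImplicit false
universe u
open TensorProduct
open CAlg

namespace Groth.Agent.S6866

/-- If `M` is a torsion free module over a domain `R` and `R → R'` is a flat ring map to another domain,
then `R' ⊗_R M` is torsion free over `R'`. -/
theorem result (R R' : Type u) [CommRing R] [IsDomain R] [CommRing R']
    [IsDomain R'] [Algebra R R'] [Module.Flat R R'] (M : Type u) [AddCommGroup M] [Module R M]
    [Module.IsTorsionFree R M] : Module.IsTorsionFree R' (R' ⊗[R] M) := by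
  classical
  have key : ∀ (r' : R') (_ : IsRegular r') (t : R' ⊗[R] M), r' • t = 0 → t = 0 := by
    intro r' hr' t ht
    obtain ⟨N, hNfin, hN⟩ := TensorProduct.exists_finite_submodule_right_of_setFinite
      ({t} : Set (R' ⊗[R] M)) (Set.finite_singleton t)
    obtain ⟨tN, htN⟩ := hN (Set.mem_singleton t)
    have hNtf : Module.IsTorsionFree R N :=
      Function.Injective.moduleIsTorsionFree N.subtype Subtype.val_injective (fun _ _ => rfl)
    obtain ⟨n, f, hf⟩ := (Groth.Agent.S6867.result R N).mp hNtf
    have hinj1 : Function.Injective (f.baseChange R') := by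
      rw [LinearMap.baseChange_eq_ltensor]
      exact Module.Flat.lTensor_preserves_injective_linearMap f hf
    have hinj2 : Function.Injective (N.subtype.baseChange R') := by
      rw [LinearMap.baseChange_eq_ltensor]
      exact Module.Flat.lTensor_preserves_injective_linearMap _ Subtype.val_injective
    have htN' : (N.subtype.baseChange R') tN = t := htN
    have h1 : r' • tN = 0 := by
      apply hinj2
      rw [map_smul, htN', ht, map_zero]
    let e : R' ⊗[R] (Fin n → R) ≃ₗ[R'] (Fin n → R') := TensorProduct.piScalarRight R R' R' (Fin n)
    have h2 : r' • e ((f.baseChange R') tN) = 0 := by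
      rw [← map_smul, ← map_smul, h1, map_zero, map_zero]
    have h3 : e ((f.baseChange R') tN) = 0 := by
      funext j
      have := congrFun h2 j
      simp only [Pi.smul_apply, smul_eq_mul, Pi.zero_apply] at this
      rcases mul_eq_zero.mp this with h | h
      · exact absurd h hr'.ne_zero
      · exact h
    have h4 : tN = 0 := hinj1 (e.injective (h3.trans (map_zero e).symm) |>.trans (map_zero _).symm)
    rw [← htN', h4, map_zero]
  refine ⟨fun r' hr' t1 t2 h => ?_⟩
  have h' : r' • (t1 - t2) = 0 := by
    have h'' : r' • t1 = r' • t2 := h
    rw [smul_sub, h'', sub_self]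
  exact sub_eq_zero.mp (key r' hr' _ h')

end Groth.Agent.S6866
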