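import Groth.Statements.S6876
import Mathlib


set_option autoImplicit false
universe u
open CAlg

namespace Groth.Agent.S6876

open RingTheory.Sequence in
theorem reg_hom {R : Type u} [CommRing R] {M N : Type u} [AddCommGroup M] [Module R M]
    [AddCommGroup N] [Module R N] (x : R) (hx : IsSMulRegular N x) :
    IsSMulRegular (M →ₗ[R] N) x := by
  rw [isSMulRegular_iff_right_eq_zero_of_smul] at hx ⊢
  intro φ hφ
  refine LinearMap.ext fun m => ?_
  exact hx _ (LinearMap.congr_fun hφ m)

open Pointwise in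
theorem reg_hom_quot {R : Type u} [CommRing R] {M N : Type u} [AddCommGroup M] [Module R M]
    [AddCommGroup N] [Module R N] (x y : R) (hx : IsSMulRegular N x)
    (hy : IsSMulRegular (QuotSMulTop x N) y) :
    IsSMulRegular (QuotSMulTop x (M →ₗ[R] N)) y := by
  rw [isSMulRegular_iff_right_eq_zero_of_smul] at hy ⊢
  intro q hq
  obtain ⟨φ, rfl⟩ := Submodule.Quotient.mk_surjective _ q
  rw [← Submodule.Quotient.mk_smul, Submodule.Quotient.mk_eq_zero,
    Submodule.mem_smul_pointwise_iff_exists] at hq
  obtain ⟨ψ, -, hψ⟩ := hq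
  rw [Submodule.Quotient.mk_eq_zero, Submodule.mem_smul_pointwise_iff_exists]
  have h1 : ∀ m, φ m ∈ x • (⊤ : Submodule R N) := by
    intro m
    have h2 : y • (Submodule.Quotient.mk (φ m) : QuotSMulTop x N) = 0 := by
      rw [← Submodule.Quotient.mk_smul, Submodule.Quotient.mk_eq_zero,
        Submodule.mem_smul_pointwise_iff_exists]
      exact ⟨ψ m, Submodule.mem_top, LinearMap.congr_fun hψ m⟩
    have h3 := hy _ h2
    rwa [Submodule.Quotient.mk_eq_zero] at h3
  have hmx : Function.Injective (LinearMap.lsmul R N x) := hx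
  have hr : ∀ m, φ m ∈ LinearMap.range (LinearMap.lsmul R N x) := by
    intro m
    obtain ⟨n, -, hn⟩ := (Submodule.mem_smul_pointwise_iff_exists _ _ _).mp (h1 m)
    exact ⟨n, hn⟩
  refine ⟨(LinearEquiv.ofInjective (LinearMap.lsmul R N x) hmx).symm.toLinearMap ∘ₗ
    (LinearMap.codRestrict _ φ hr), Submodule.mem_top, ?_⟩
  refine LinearMap.ext fun m => ?_
  have h4 : ((LinearEquiv.ofInjective (LinearMap.lsmul R N x) hmx)
      ((LinearEquiv.ofInjective (LinearMap.lsmul R N x) hmx).symm
        (LinearMap.codRestrict _ φ hr m)) : N) = φ m := by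
    rw [LinearEquiv.apply_symm_apply]; rfl
  exact h4

open RingTheory.Sequence in
theorem exists_list_of_le {R : Type u} [CommRing R] {X : Type u} [AddCommGroup X] [Module R X]
    (I : Ideal R) (k : ℕ) (hk : 0 < k) (hne : ¬ (I • (⊤ : Submodule R X) = ⊤))
    (h : (k : ℕ∞) ≤ LocCoh.idealDepth I X) :
    ∃ rs : List R, IsWeaklyRegular X rs ∧ (∀ r ∈ rs, r ∈ I) ∧ k ≤ rs.length := by
  by_contra hcon
  unfold LocCoh.idealDepth at h
  rw [if_neg hne] at h
  have h2 : (⨆ (rs : List R) (_ : IsWeaklyRegular X rs ∧ ∀ r ∈ rs, r ∈ I),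
      (rs.length : ℕ∞)) ≤ ((k - 1 : ℕ) : ℕ∞) := by
    refine iSup₂_le fun rs hrs => ?_
    have hlt : rs.length < k := by
      by_contra hge
      exact hcon ⟨rs, hrs.1, hrs.2, by omega⟩
    exact_mod_cast (by omega : rs.length ≤ k - 1)
  have h3 := h.trans h2
  have h4 : k ≤ k - 1 := by exact_mod_cast h3
  omega

open RingTheory.Sequence in
theorem le_of_list {R : Type u} [CommRing R] {X : Type u} [AddCommGroup X] [Module R X]
    (I : Ideal R) (rs : List R) (h1 : IsWeaklyRegular X rs) (h2 : ∀ r ∈ rs, r ∈ I) :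
    (rs.length : ℕ∞) ≤ LocCoh.idealDepth I X := by
  unfold LocCoh.idealDepth
  split_ifs with h
  · exact le_top
  · exact le_iSup₂_of_le rs ⟨h1, h2⟩ le_rfl

/-- Let `R` be a Noetherian local ring and `M, N` finite `R`-modules. If `N` has depth `≥ 1` then so
does `Hom_R(M, N)`; if `N` has depth `≥ 2` then so does `Hom_R(M, N)`. -/
theorem result (R : Type u) [CommRing R] [IsNoetherianRing R] [IsLocalRing R]
    (M N : Type u) [AddCommGroup M] [Module R M] [Module.Finite R M] [AddCommGroup N] [Module R N] [Module.Finite R N] :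
    (1 ≤ LocCoh.depth R N → 1 ≤ LocCoh.depth R (M →ₗ[R] N)) ∧
    (2 ≤ LocCoh.depth R N → 2 ≤ LocCoh.depth R (M →ₗ[R] N)) := by
  by_cases hN : IsLocalRing.maximalIdeal R • (⊤ : Submodule R N) = ⊤
  · have hbot : (⊤ : Submodule R N) = ⊥ :=
      Submodule.eq_bot_of_le_smul_of_le_jacobson_bot (IsLocalRing.maximalIdeal R) ⊤
        Module.Finite.fg_top (le_of_eq hN.symm) (IsLocalRing.maximalIdeal_le_jacobson ⊥)
    have hsub : ∀ a : N, a = 0 := by
      intro a
      have ha : a ∈ (⊤ : Submodule R N) := Submodule.mem_top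
      rw [hbot, Submodule.mem_bot] at ha
      exact ha
    have hH : LocCoh.depth R (M →ₗ[R] N) = ⊤ := by
      unfold LocCoh.depth LocCoh.idealDepth
      rw [if_pos]
      rw [Submodule.eq_top_iff']
      intro φ
      have h0 : φ = 0 := LinearMap.ext fun m => hsub _
      rw [h0]
      exact Submodule.zero_mem _
    rw [hH]
    exact ⟨fun _ => le_top, fun _ => le_top⟩
  · constructor
    · intro h
      obtain ⟨rs, hrs, hmem, hlen⟩ := exists_list_of_le (IsLocalRing.maximalIdeal R) 1 one_pos hN
        (by unfold LocCoh.depth at h; exact_mod_cast h)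
      rcases rs with _ | ⟨x, rest⟩
      · simp at hlen
      · rw [RingTheory.Sequence.isWeaklyRegular_cons_iff] at hrs
        have h1 : RingTheory.Sequence.IsWeaklyRegular (M →ₗ[R] N) [x] := by
          rw [RingTheory.Sequence.isWeaklyRegular_cons_iff]
          exact ⟨reg_hom x hrs.1, RingTheory.Sequence.IsWeaklyRegular.nil R _⟩
        have h2 := le_of_list (X := M →ₗ[R] N) (IsLocalRing.maximalIdeal R) [x] h1 (by
          intro r hr
          exact hmem r (by
            simp only [List.mem_cons, List.not_mem_nil, or_false] at hr ⊢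
            tauto))
        show (1 : ℕ∞) ≤ LocCoh.idealDepth _ _
        simpa using h2
    · intro h
      obtain ⟨rs, hrs, hmem, hlen⟩ := exists_list_of_le (IsLocalRing.maximalIdeal R) 2 two_pos hN
        (by unfold LocCoh.depth at h; exact_mod_cast h)
      rcases rs with _ | ⟨x, _ | ⟨y, rest⟩⟩
      · simp at hlen
      · simp at hlen
      · rw [RingTheory.Sequence.isWeaklyRegular_cons_iff,
          RingTheory.Sequence.isWeaklyRegular_cons_iff] at hrs
        have h1 : RingTheory.Sequence.IsWeaklyRegular (M →ₗ[R] N) [x, y] := by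
          rw [RingTheory.Sequence.isWeaklyRegular_cons_iff,
            RingTheory.Sequence.isWeaklyRegular_cons_iff]
          exact ⟨reg_hom x hrs.1, reg_hom_quot x y hrs.1 hrs.2.1,
            RingTheory.Sequence.IsWeaklyRegular.nil R _⟩
        have h2 := le_of_list (X := M →ₗ[R] N) (IsLocalRing.maximalIdeal R) [x, y] h1 (by
          intro r hr
          exact hmem r (by
            simp only [List.mem_cons, List.not_mem_nil, or_false] at hr ⊢
            tauto))
        show (2 : ℕ∞) ≤ LocCoh.idealDepth _ _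
        simpa using h2

end Groth.Agent.S6876
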