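import Groth.Statements.S6880
import Mathlib
import Groth.Agent.Lib.helper4.ReflLoc
import Groth.Agent.S6876


set_option autoImplicit false
universe u
open CAlg

namespace Groth.Agent.S6880

theorem idealDepth_congr {R : Type u} [CommRing R] {X Y : Type u} [AddCommGroup X] [Module R X]
    [AddCommGroup Y] [Module R Y] (I : Ideal R) (e : X ≃ₗ[R] Y) :
    LocCoh.idealDepth I X = LocCoh.idealDepth I Y := by
  unfold LocCoh.idealDepth
  have h1 : (I • (⊤ : Submodule R X) = ⊤) ↔ (I • (⊤ : Submodule R Y) = ⊤) := by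
    constructor
    · intro h
      have h2 := congrArg (Submodule.map e.toLinearMap) h
      rwa [Submodule.map_smul'', Submodule.map_top, LinearEquiv.range] at h2
    · intro h
      have h2 := congrArg (Submodule.map e.symm.toLinearMap) h
      rwa [Submodule.map_smul'', Submodule.map_top, LinearEquiv.range] at h2
  have h2 : ∀ rs : List R, RingTheory.Sequence.IsWeaklyRegular X rs ↔
      RingTheory.Sequence.IsWeaklyRegular Y rs := fun rs => e.isWeaklyRegular_congr rs
  by_cases hX : I • (⊤ : Submodule R X) = ⊤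
  · rw [if_pos hX, if_pos (h1.mp hX)]
  · rw [if_neg hX, if_neg (mt h1.mpr hX)]
    simp only [h2]

theorem depth_refl (R : Type u) [CommRing R] [IsNoetherianRing R] [IsLocalRing R] (X : Type u)
    [AddCommGroup X] [Module R X] [Module.Finite R X] [Module.IsReflexive R X]
    (h : 2 ≤ LocCoh.depth R R) : 2 ≤ LocCoh.depth R X := by
  have h1 := (Groth.Agent.S6876.result R (Module.Dual R X) R).2 h
  unfold LocCoh.depth at h1 ⊢
  rw [idealDepth_congr _ (Module.evalEquiv R X)]
  exact h1

theorem one_le_depth_of_torsionFree (R : Type u) [CommRing R] [IsDomain R] [IsLocalRing R]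
    (X : Type u) [AddCommGroup X] [Module R X] [Module.IsTorsionFree R X]
    (h : 1 ≤ LocCoh.depth R R) : 1 ≤ LocCoh.depth R X := by
  have hne : ¬ (IsLocalRing.maximalIdeal R • (⊤ : Submodule R R) = ⊤) := by
    rw [Ideal.smul_eq_mul, Ideal.mul_top]
    exact (IsLocalRing.maximalIdeal.isMaximal R).ne_top
  obtain ⟨rs, hrs, hmem, hlen⟩ := Groth.Agent.S6876.exists_list_of_le
    (IsLocalRing.maximalIdeal R) 1 one_pos hne (by unfold LocCoh.depth at h; exact_mod_cast h)
  rcases rs with _ | ⟨x, rest⟩
  · simp at hlen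
  · rw [RingTheory.Sequence.isWeaklyRegular_cons_iff] at hrs
    have hx0 : x ≠ 0 := by
      intro hx0
      have h1 := hrs.1
      rw [hx0] at h1
      have h2 : (1 : R) = 0 := h1 (by simp)
      exact one_ne_zero h2
    have h1 : RingTheory.Sequence.IsWeaklyRegular X [x] := by
      rw [RingTheory.Sequence.isWeaklyRegular_cons_iff]
      exact ⟨smul_right_injective X hx0, RingTheory.Sequence.IsWeaklyRegular.nil R _⟩
    have h2 := Groth.Agent.S6876.le_of_list (X := X) (IsLocalRing.maximalIdeal R) [x] h1 (by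
      intro r hr
      exact hmem r (by
        simp only [List.mem_cons, List.not_mem_nil, or_false] at hr ⊢
        tauto))
    show (1 : ℕ∞) ≤ LocCoh.idealDepth _ _
    simpa using h2

theorem arith (σ D : WithBot ℕ∞) (δ μ : ℕ∞) (hσD : σ ≤ D)
    (hR : min ((2:ℕ) : WithBot ℕ∞) D ≤ ((δ : ℕ∞) : WithBot ℕ∞))
    (h2 : 2 ≤ δ → 2 ≤ μ) (h1 : 1 ≤ δ → 1 ≤ μ) :
    min ((2:ℕ) : WithBot ℕ∞) σ ≤ ((μ : ℕ∞) : WithBot ℕ∞) := by
  by_cases hδ2 : 2 ≤ δ
  · refine (min_le_left _ _).trans ?_
    have h3 : (((2:ℕ∞)) : WithBot ℕ∞) ≤ ((μ:ℕ∞) : WithBot ℕ∞) := WithBot.coe_le_coe.mpr (h2 hδ2)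
    exact h3
  · have hD : D ≤ ((δ : ℕ∞) : WithBot ℕ∞) := by
      rcases min_le_iff.mp hR with h | h
      · exfalso
        apply hδ2
        have h3 : (((2:ℕ∞)) : WithBot ℕ∞) ≤ ((δ:ℕ∞) : WithBot ℕ∞) := h
        exact WithBot.coe_le_coe.mp h3
      · exact h
    refine (min_le_right _ _).trans ((hσD.trans hD).trans ?_)
    rw [WithBot.coe_le_coe]
    by_cases hδ1 : 1 ≤ δ
    · have h3 : δ ≤ 1 := by
        have hlt : δ < 2 := lt_of_not_ge hδ2
        rcases ENat.ne_top_iff_exists.mp (ne_top_of_lt hlt) with ⟨n, hn⟩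
        rw [← hn] at hlt ⊢
        have h3 : n < 2 := by exact_mod_cast hlt
        exact_mod_cast (by omega : n ≤ 1)
      exact h3.trans (h1 hδ1)
    · have h3 : δ = 0 := Order.lt_one_iff.mp (lt_of_not_ge hδ1)
      rw [h3]
      exact zero_le

/-- Let `R` be a Noetherian domain and `M` a finite reflexive `R`-module. For a prime `𝔭` with
`depth(R_𝔭) ≥ 2` one has `depth(M_𝔭) ≥ 2`; and if `R` has `(S_2)` then `M` has `(S_2)`. -/
theorem result (R : Type u) [CommRing R] [IsDomain R] [IsNoetherianRing R] (M : Type u)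
    [AddCommGroup M] [Module R M] [Module.Finite R M] [Module.IsReflexive R M] :
    (∀ (p : Ideal R) [p.IsPrime], 2 ≤ LocCoh.depth (Localization.AtPrime p) (Localization.AtPrime p) →
      2 ≤ LocCoh.depth (Localization.AtPrime p) (LocalizedModule p.primeCompl M)) ∧
    (LocCoh.HasSk 2 R R → LocCoh.HasSk 2 R M) := by
  have hrefl : ∀ (p : Ideal R) [p.IsPrime], Module.IsReflexive (Localization.AtPrime p)
      (LocalizedModule p.primeCompl M) :=
    fun p _ => Groth.Agent.Lib.helper4.ReflLoc.loc_reflexive R p.primeCompl M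
  have ha : ∀ (p : Ideal R) [p.IsPrime],
      2 ≤ LocCoh.depth (Localization.AtPrime p) (Localization.AtPrime p) →
      2 ≤ LocCoh.depth (Localization.AtPrime p) (LocalizedModule p.primeCompl M) := by
    intro p _ h
    haveI := hrefl p
    exact depth_refl (Localization.AtPrime p) (LocalizedModule p.primeCompl M) h
  refine ⟨ha, ?_⟩
  intro hS p _
  haveI := hrefl p
  have hR := hS p
  let e : LocalizedModule p.primeCompl R ≃ₗ[Localization.AtPrime p] Localization.AtPrime p :=
    (IsLocalizedModule.linearEquiv p.primeCompl (LocalizedModule.mkLinearMap p.primeCompl R)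
      (Algebra.linearMap R (Localization.AtPrime p))).extendScalarsOfIsLocalization p.primeCompl
        (Localization.AtPrime p)
  have hd : LocCoh.depth (Localization.AtPrime p) (LocalizedModule p.primeCompl R) =
      LocCoh.depth (Localization.AtPrime p) (Localization.AtPrime p) := by
    unfold LocCoh.depth
    exact idealDepth_congr _ e
  have hs : Module.supportDim (Localization.AtPrime p) (LocalizedModule p.primeCompl R) =
      ringKrullDim (Localization.AtPrime p) := by
    rw [Module.supportDim_eq_of_equiv e, Module.supportDim_self_eq_ringKrullDim]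
  rw [hd, hs] at hR
  exact arith _ _ _ _ (Module.supportDim_le_ringKrullDim _ _) hR (ha p)
    (one_le_depth_of_torsionFree (Localization.AtPrime p) (LocalizedModule p.primeCompl M))

end Groth.Agent.S6880
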