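import Groth.Statements.S6868
import Mathlib
import Groth.Agent.S6876
import Groth.Agent.S6880


set_option autoImplicit false
universe u
open CAlg

namespace Groth.Agent.S6868

theorem partA (R : Type u) [CommRing R] [IsDomain R] [IsNoetherianRing R] (M : Type u)
    [AddCommGroup M] [Module R M] [Nontrivial M] :
    Module.IsTorsionFree R M ↔ associatedPrimes R M = {⊥} := by
  constructor
  · intro htf
    rw [Set.eq_singleton_iff_nonempty_unique_mem]
    refine ⟨associatedPrimes.nonempty R M, ?_⟩
    intro p hp
    obtain ⟨hpp, x, rfl⟩ := isAssociatedPrime_iff.mp hp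
    have hx : x ≠ 0 := by
      rintro rfl
      apply hpp.ne_top
      rw [Ideal.eq_top_iff_one, Submodule.mem_colon_singleton]
      simp
    rw [eq_bot_iff]
    intro r hr
    rw [Submodule.mem_colon_singleton, Submodule.mem_bot] at hr
    rcases smul_eq_zero.mp hr with h | h
    · rw [h]; exact Submodule.zero_mem _
    · exact absurd h hx
  · intro hAss
    rw [Module.isTorsionFree_iff_smul_eq_zero]
    intro r m h
    by_contra hcon
    push Not at hcon
    have h1 : r ∈ {r : R | ∃ x : M, x ≠ 0 ∧ r • x = 0} := ⟨m, hcon.2, h⟩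
    rw [← biUnion_associatedPrimes_eq_zero_divisors R M, hAss] at h1
    simp at h1
    exact hcon.1 h1

theorem partB1 (R : Type u) [CommRing R] [IsDomain R] [IsNoetherianRing R] (M : Type u)
    [AddCommGroup M] [Module R M] [Module.Finite R M] [Nontrivial M]
    (htf : Module.IsTorsionFree R M) :
    (⟨⊥, Ideal.isPrime_bot⟩ : PrimeSpectrum R) ∈ Module.support R M ∧ LocCoh.HasSk 1 R M := by
  constructor
  · rw [Module.support_of_noZeroSMulDivisors]; trivial
  · intro p _
    by_cases hd : 1 ≤ LocCoh.depth (Localization.AtPrime p) (Localization.AtPrime p)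
    · have h1 := Groth.Agent.S6880.one_le_depth_of_torsionFree (Localization.AtPrime p)
        (LocalizedModule p.primeCompl M) hd
      refine (min_le_left _ _).trans ?_
      exact_mod_cast h1
    · have hm : IsLocalRing.maximalIdeal (Localization.AtPrime p) = ⊥ := by
        rw [eq_bot_iff]
        intro x hx
        by_contra hx0
        apply hd
        have hx0' : x ≠ 0 := by simpa using hx0
        have hreg : RingTheory.Sequence.IsWeaklyRegular (Localization.AtPrime p) [x] := by
          rw [RingTheory.Sequence.isWeaklyRegular_cons_iff]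
          exact ⟨smul_right_injective _ hx0', RingTheory.Sequence.IsWeaklyRegular.nil _ _⟩
        have h2 := Groth.Agent.S6876.le_of_list (X := Localization.AtPrime p)
          (IsLocalRing.maximalIdeal (Localization.AtPrime p)) [x] hreg (by
            intro r hr
            rw [List.mem_singleton] at hr
            rw [hr]; exact hx)
        show (1 : ℕ∞) ≤ LocCoh.idealDepth _ _
        simpa using h2
      have hfield : IsField (Localization.AtPrime p) :=
        IsLocalRing.isField_iff_maximalIdeal_eq.mpr hm
      have hdim : ringKrullDim (Localization.AtPrime p) = 0 :=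
        ringKrullDim_eq_zero_of_isField hfield
      refine (min_le_right _ _).trans ?_
      refine (Module.supportDim_le_ringKrullDim _ _).trans ?_
      rw [hdim]
      have h3 : ((0:ℕ∞) : WithBot ℕ∞) ≤
          ((LocCoh.depth (Localization.AtPrime p) (LocalizedModule p.primeCompl M) : ℕ∞) :
            WithBot ℕ∞) := WithBot.coe_le_coe.mpr zero_le
      exact h3

theorem partB2 (R : Type u) [CommRing R] [IsDomain R] [IsNoetherianRing R] (M : Type u)
    [AddCommGroup M] [Module R M] [Module.Finite R M] [Nontrivial M]
    (h0 : (⟨⊥, Ideal.isPrime_bot⟩ : PrimeSpectrum R) ∈ Module.support R M)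
    (hS : LocCoh.HasSk 1 R M) :
    associatedPrimes R M = {⊥} := by
  rw [Set.eq_singleton_iff_nonempty_unique_mem]
  refine ⟨associatedPrimes.nonempty R M, ?_⟩
  intro p hp
  obtain ⟨hpp, x, hpx⟩ := isAssociatedPrime_iff.mp hp
  have hmem : ∀ r : R, r ∈ p ↔ r • x = 0 := fun r => by
    rw [hpx, Submodule.mem_colon_singleton, Submodule.mem_bot]
  haveI := hpp
  by_contra hpne
  have hS1 := hS p
  obtain ⟨ξ, hξdef⟩ : ∃ ξ : LocalizedModule p.primeCompl M,
      ξ = LocalizedModule.mkLinearMap p.primeCompl M x := ⟨_, rfl⟩
  have hξ : ξ ≠ 0 := by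
    rw [hξdef]
    intro h
    obtain ⟨s, hs⟩ := (IsLocalizedModule.eq_zero_iff p.primeCompl
      (LocalizedModule.mkLinearMap p.primeCompl M)).mp h
    have h1 : (s : R) ∈ p := (hmem _).mpr hs
    exact s.2 h1
  have hkill : ∀ ρ ∈ IsLocalRing.maximalIdeal (Localization.AtPrime p), ρ • ξ = 0 := by
    intro ρ hρ
    have hle : IsLocalRing.maximalIdeal (Localization.AtPrime p) ≤
        LinearMap.ker (LinearMap.toSpanSingleton (Localization.AtPrime p)
          (LocalizedModule p.primeCompl M) ξ) := by
      rw [← Localization.AtPrime.map_eq_maximalIdeal, Ideal.map_le_iff_le_comap]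
      intro a ha
      rw [Ideal.mem_comap, LinearMap.mem_ker, LinearMap.toSpanSingleton_apply, algebraMap_smul,
        hξdef, ← map_smul]
      have h1 : a • x = 0 := (hmem a).mp ha
      rw [h1, map_zero]
    have h2 := hle hρ
    rwa [LinearMap.mem_ker, LinearMap.toSpanSingleton_apply] at h2
  have hne : ¬ (IsLocalRing.maximalIdeal (Localization.AtPrime p) •
      (⊤ : Submodule (Localization.AtPrime p) (LocalizedModule p.primeCompl M)) = ⊤) := by
    intro h
    have hbot : (⊤ : Submodule (Localization.AtPrime p) (LocalizedModule p.primeCompl M)) = ⊥ :=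
      Submodule.eq_bot_of_le_smul_of_le_jacobson_bot _ ⊤ Module.Finite.fg_top (le_of_eq h.symm)
        (IsLocalRing.maximalIdeal_le_jacobson ⊥)
    have h1 : ξ ∈ (⊤ : Submodule (Localization.AtPrime p) (LocalizedModule p.primeCompl M)) :=
      Submodule.mem_top
    rw [hbot, Submodule.mem_bot] at h1
    exact hξ h1
  have hdepth : ¬ (1 ≤ LocCoh.depth (Localization.AtPrime p)
      (LocalizedModule p.primeCompl M)) := by
    intro h1
    obtain ⟨rs, hrs, hmem, hlen⟩ := Groth.Agent.S6876.exists_list_of_le _ 1 one_pos hne
      (by unfold LocCoh.depth at h1; exact_mod_cast h1)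
    rcases rs with _ | ⟨r, rest⟩
    · simp at hlen
    · rw [RingTheory.Sequence.isWeaklyRegular_cons_iff] at hrs
      have h2 : r • ξ = r • (0 : LocalizedModule p.primeCompl M) := by
        rw [hkill r (hmem r List.mem_cons_self), smul_zero]
      exact hξ (hrs.1 h2)
  have hdepth0 : LocCoh.depth (Localization.AtPrime p) (LocalizedModule p.primeCompl M) = 0 :=
    Order.lt_one_iff.mp (lt_of_not_ge hdepth)
  rw [hdepth0] at hS1
  have hsd : Module.supportDim (Localization.AtPrime p) (LocalizedModule p.primeCompl M) ≤ 0 := by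
    rcases min_le_iff.mp hS1 with h | h
    · exfalso
      have h3 : (1 : WithBot ℕ∞) ≤ 0 := by simpa using h
      exact absurd h3 (not_le.mpr zero_lt_one)
    · exact h
  have hsupp1 : (⟨⊥, Ideal.isPrime_bot⟩ : PrimeSpectrum (Localization.AtPrime p)) ∈
      Module.support (Localization.AtPrime p) (LocalizedModule p.primeCompl M) := by
    rw [Module.mem_support_iff'] at h0 ⊢
    obtain ⟨m, hm⟩ := h0
    refine ⟨LocalizedModule.mkLinearMap p.primeCompl M m, ?_⟩
    intro ρ hρ h
    obtain ⟨a, s, rfl⟩ := IsLocalization.exists_mk'_eq p.primeCompl ρ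
    have ha : a ≠ 0 := by
      rintro rfl
      apply hρ
      rw [IsLocalization.mk'_zero]
      exact Submodule.zero_mem _
    have h1 : algebraMap R (Localization.AtPrime p) a •
        LocalizedModule.mkLinearMap p.primeCompl M m = 0 := by
      rw [← IsLocalization.mk'_spec' (Localization.AtPrime p) a s, mul_smul, h, smul_zero]
    rw [algebraMap_smul, ← map_smul] at h1
    obtain ⟨t, ht⟩ := (IsLocalizedModule.eq_zero_iff p.primeCompl
      (LocalizedModule.mkLinearMap p.primeCompl M)).mp h1
    have hta : (t : R) * a ∉ (⟨⊥, Ideal.isPrime_bot⟩ : PrimeSpectrum R).asIdeal := by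
      intro h2
      have h3 : (t : R) * a = 0 := h2
      rcases mul_eq_zero.mp h3 with h4 | h4
      · exact t.2 (h4 ▸ p.zero_mem)
      · exact ha h4
    apply hm _ hta
    rw [mul_smul]
    exact ht
  have hsupp2 : IsLocalRing.closedPoint (Localization.AtPrime p) ∈
      Module.support (Localization.AtPrime p) (LocalizedModule p.primeCompl M) := by
    rw [Module.mem_support_iff']
    refine ⟨ξ, fun ρ hρ h => ?_⟩
    have hu : IsUnit ρ := by
      by_contra hnu
      exact hρ ((IsLocalRing.mem_maximalIdeal ρ).mpr hnu)
    exact hξ ((hu.smul_eq_zero).mp h)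
  have hpos : 0 < Module.supportDim (Localization.AtPrime p)
      (LocalizedModule p.primeCompl M) := by
    unfold Module.supportDim
    rw [Order.krullDim_pos_iff]
    refine ⟨⟨_, hsupp1⟩, ⟨_, hsupp2⟩, Subtype.mk_lt_mk.mpr ?_⟩
    rw [← PrimeSpectrum.asIdeal_lt_asIdeal]
    show (⊥ : Ideal (Localization.AtPrime p)) < IsLocalRing.maximalIdeal _
    rw [bot_lt_iff_ne_bot]
    intro hmbot
    apply hpne
    rw [eq_bot_iff]
    intro a ha
    have h1 : algebraMap R (Localization.AtPrime p) a ∈
        IsLocalRing.maximalIdeal (Localization.AtPrime p) := by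
      rw [← Localization.AtPrime.map_eq_maximalIdeal]; exact Ideal.mem_map_of_mem _ ha
    rw [hmbot, Ideal.mem_bot] at h1
    have h2 : a = 0 := (IsLocalization.injective (Localization.AtPrime p)
      p.primeCompl_le_nonZeroDivisors) (h1.trans (map_zero _).symm)
    rw [h2]; exact Submodule.zero_mem _
  exact absurd hpos (not_lt.mpr hsd)

/-- (1) ⇔ (3) ⇔ (4): for a Noetherian domain `R` and a nonzero finite `R`-module `M`, torsion-freeness
of `M` is equivalent to `(0)` being the unique associated prime of `M`, and also to the conjunction: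
`(0)` belongs to the support of `M` and `M` satisfies Serre's condition `(S_1)`. (The published
statement also lists embedding into a finite free module and the absence of embedded associated
primes; this row states the other three conditions.) -/
theorem result (R : Type u) [CommRing R]
    [IsDomain R] [IsNoetherianRing R] (M : Type u) [AddCommGroup M] [Module R M] [Module.Finite R M] [Nontrivial M] :
    (Module.IsTorsionFree R M ↔ associatedPrimes R M = {⊥}) ∧
    (Module.IsTorsionFree R M ↔
      (⟨⊥, Ideal.isPrime_bot⟩ : PrimeSpectrum R) ∈ Module.support R M ∧ LocCoh.HasSk 1 R M) := by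
  exact ⟨partA R M, ⟨fun h => partB1 R M h, fun h => (partA R M).mpr (partB2 R M h.1 h.2)⟩⟩

end Groth.Agent.S6868
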