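import Groth.Statements.S6870
import Mathlib
import Groth.Agent.Lib.helper4.RankFree


set_option autoImplicit false
universe u
open CAlg

namespace Groth.Agent.S6870

open Groth.Agent.Lib.helper4

/-- Let `R` be a domain, `M` a finite `R`-module and `j : M → M**` the evaluation map into the double
dual. Then one nonzero `c ∈ R` kills the kernel of `j` and multiplies `M**` into the image of `j`.
(The published statement says only that the kernel and cokernel of `j` are torsion; this row gives
one such `c` for both.) -/
theorem result (R : Type u) [CommRing R] [IsDomain R] (M : Type u)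
    [AddCommGroup M] [Module R M] [Module.Finite R M] :
    ∃ c : R, c ≠ 0 ∧ (∀ x : M, Module.Dual.eval R M x = 0 → c • x = 0) ∧
      ∀ y : Module.Dual R (Module.Dual R M), c • y ∈ LinearMap.range (Module.Dual.eval R M) := by
  obtain ⟨v, hv, c, hc, hcF⟩ := h4_exists_linearIndependent_smul_mem_span R M
  have hfree : Module.Free R (Submodule.span R (Set.range v)) :=
    Module.Free.of_basis (Module.Basis.span hv)
  have hfinF : Module.Finite R (Submodule.span R (Set.range v)) :=
    Module.Finite.of_basis (Module.Basis.span hv)
  let cM : M →ₗ[R] (Submodule.span R (Set.range v)) :=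
    LinearMap.codRestrict _ (c • LinearMap.id) (fun x => hcF x)
  have hcM : ∀ x, ((cM x : Submodule.span R (Set.range v)) : M) = c • x := fun x => rfl
  refine ⟨c, hc, ?_, ?_⟩
  · intro x hx
    have h0 : cM x = 0 := by
      rw [← Module.forall_dual_apply_eq_zero_iff R (cM x)]
      intro ψ
      have := LinearMap.congr_fun hx (ψ ∘ₗ cM)
      simpa using this
    have := congrArg (Subtype.val) h0
    simpa [hcM] using this
  · intro y
    let y' : Module.Dual R (Module.Dual R (Submodule.span R (Set.range v))) := y ∘ₗ cM.dualMap
    let f : Submodule.span R (Set.range v) := (Module.evalEquiv R _).symm y'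
    have hf : ∀ ψ : Module.Dual R (Submodule.span R (Set.range v)), ψ f = y (ψ ∘ₗ cM) := by
      intro ψ
      have h1 : Module.evalEquiv R _ f = y' := LinearEquiv.apply_symm_apply _ _
      have h2 := LinearMap.congr_fun h1 ψ
      have h3 : cM.dualMap ψ = ψ ∘ₗ cM := rfl
      rw [← h3]
      simpa [y'] using h2
    refine ⟨(f : M), ?_⟩
    ext φ
    have h1 := hf (φ ∘ₗ (Submodule.span R (Set.range v)).subtype)
    have h2 : (φ ∘ₗ (Submodule.span R (Set.range v)).subtype) ∘ₗ cM = c • φ := by
      ext m
      simp [hcM]
    rw [h2, map_smul] at h1
    simpa using h1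

end Groth.Agent.S6870
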