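import Groth.Statements.S6873
import Mathlib
import Groth.Agent.Lib.helper4.ReflLib


set_option autoImplicit false
universe u
open CAlg

namespace Groth.Agent.S6873

/-- For a Noetherian domain `R`, a finite `R`-module `M` is reflexive if and only if `M` admits an
injective `R`-linear map into `Rⁿ`, for some `n`, whose cokernel is torsion free. -/
theorem result (R : Type u) [CommRing R] [IsDomain R]
    [IsNoetherianRing R] (M : Type u) [AddCommGroup M] [Module R M] [Module.Finite R M] :
    Module.IsReflexive R M ↔ ∃ (n : ℕ) (f : M →ₗ[R] (Fin n → R)), Function.Injective f ∧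
      Module.IsTorsionFree R ((Fin n → R) ⧸ LinearMap.range f) := by
  constructor
  · intro hM
    obtain ⟨n, q, hq⟩ := Module.Finite.exists_fin' R (Module.Dual R M)
    obtain ⟨f, hfi⟩ : ∃ f : M →ₗ[R] (Fin n → R), ∀ m i, f m i = q (Pi.single i 1) m :=
      ⟨LinearMap.pi (fun i => q (Pi.single i 1)), fun m i => rfl⟩
    have hq' : ∀ (w : Fin n → R) (m : M), q w m = ∑ i, w i * f m i := by
      intro w m
      have hw : w = ∑ i, w i • (Pi.single i (1:R) : Fin n → R) := by
        ext j
        simp [Finset.sum_apply, Pi.single_apply]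
      conv_lhs => rw [hw]
      rw [map_sum, LinearMap.sum_apply]
      refine Finset.sum_congr rfl fun i _ => ?_
      rw [map_smul, LinearMap.smul_apply, smul_eq_mul, hfi]
    refine ⟨n, f, ?_, ?_⟩
    · rw [injective_iff_map_eq_zero]
      intro m hm
      apply (Module.bijective_dual_eval R M).1
      rw [map_zero]
      ext φ
      obtain ⟨w, rfl⟩ := hq φ
      show q w m = 0
      rw [hq' w m, hm]
      simp
    · rw [Module.isTorsionFree_iff_smul_eq_zero]
      intro r x hx
      by_cases hr : r = 0
      · exact Or.inl hr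
      right
      obtain ⟨v, rfl⟩ := Submodule.Quotient.mk_surjective _ x
      rw [← Submodule.Quotient.mk_smul, Submodule.Quotient.mk_eq_zero] at hx
      obtain ⟨m, hm⟩ := hx
      obtain ⟨dv, hdv⟩ : ∃ dv : (Fin n → R) →ₗ[R] R, ∀ w, dv w = ∑ i, w i * v i :=
        ⟨∑ i, v i • (LinearMap.proj i : (Fin n → R) →ₗ[R] R), fun w => by
          simp only [LinearMap.sum_apply, LinearMap.smul_apply, LinearMap.proj_apply, smul_eq_mul]
          exact Finset.sum_congr rfl fun i _ => mul_comm _ _⟩
      have hker : LinearMap.ker q ≤ LinearMap.ker dv := by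
        intro w hw
        rw [LinearMap.mem_ker] at hw ⊢
        have h1 : r * dv w = 0 := by
          have h2 := hq' w m
          rw [hw, LinearMap.zero_apply, hm] at h2
          rw [hdv, Finset.mul_sum]
          refine Eq.trans (Finset.sum_congr rfl fun i _ => ?_) h2.symm
          rw [Pi.smul_apply, smul_eq_mul]; ring
        exact (mul_eq_zero.mp h1).resolve_left hr
      obtain ⟨ξ, hξ⟩ : ∃ ξ : Module.Dual R (Module.Dual R M), ∀ w, ξ (q w) = dv w := by
        refine ⟨((LinearMap.ker q).liftQ dv hker) ∘ₗ
          (q.quotKerEquivOfSurjective hq).symm.toLinearMap, fun w => ?_⟩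
        show (LinearMap.ker q).liftQ dv hker ((q.quotKerEquivOfSurjective hq).symm (q w)) = dv w
        have h1 : (q.quotKerEquivOfSurjective hq).symm (q w) = Submodule.Quotient.mk w := by
          rw [LinearEquiv.symm_apply_eq]; rfl
        rw [h1, Submodule.liftQ_apply]
      obtain ⟨m', hm'⟩ := (Module.bijective_dual_eval R M).2 ξ
      rw [Submodule.Quotient.mk_eq_zero]
      refine ⟨m', ?_⟩
      ext i
      rw [hfi]
      have h3 : ξ (q (Pi.single i 1)) = q (Pi.single i 1) m' := by rw [← hm']; rfl
      rw [← h3, hξ, hdv]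
      simp [Pi.single_apply]
  · rintro ⟨n, f, hf, htf⟩
    exact Groth.Agent.Lib.helper4.ReflLib.reflexive_of_exact R f (LinearMap.range f).mkQ hf
      (LinearMap.exact_map_mkQ_range f)

end Groth.Agent.S6873
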