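import Groth.Statements.S6874
import Mathlib
import Groth.Agent.Lib.helper4.ReflLib
import Groth.Agent.S6873


set_option autoImplicit false
universe u
open TensorProduct
open CAlg

namespace Groth.Agent.S6874

theorem exists_embed (R : Type u) [CommRing R] [IsDomain R] [IsNoetherianRing R] (Q : Type u)
    [AddCommGroup Q] [Module R Q] [Module.Finite R Q] [Module.IsTorsionFree R Q] :
    ∃ (k : ℕ) (h : Q →ₗ[R] (Fin k → R)), Function.Injective h := by
  obtain ⟨k, q, hq⟩ := Module.Finite.exists_fin' R (Module.Dual R Q)
  refine ⟨k, LinearMap.pi (fun i => q (Pi.single i 1)), ?_⟩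
  rw [injective_iff_map_eq_zero]
  intro x hx
  by_contra hne
  obtain ⟨χ, hχ⟩ := Groth.Agent.Lib.helper4.ReflLib.exists_dual_ne_zero R Q x hne
  apply hχ
  obtain ⟨w, rfl⟩ := hq χ
  have hw : w = ∑ i, w i • (Pi.single i (1:R) : Fin k → R) := by
    ext j
    simp [Finset.sum_apply, Pi.single_apply]
  conv_lhs => rw [hw]
  rw [map_sum, LinearMap.sum_apply]
  refine Finset.sum_eq_zero fun i _ => ?_
  rw [map_smul, LinearMap.smul_apply]
  have h0 : q (Pi.single i 1) x = 0 := congrFun hx i
  rw [h0, smul_zero]

/-- For a flat ring map `R → R'` between Noetherian domains and a finite reflexive `R`-module `M`, the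
base change `R' ⊗_R M` is a (finite) reflexive `R'`-module. -/
theorem result (R R' : Type u) [CommRing R] [IsDomain R]
    [IsNoetherianRing R] [CommRing R'] [IsDomain R'] [IsNoetherianRing R'] [Algebra R R'] [Module.Flat R R']
    (M : Type u) [AddCommGroup M] [Module R M] [Module.Finite R M] [Module.IsReflexive R M] :
    Module.IsReflexive R' (R' ⊗[R] M) := by
  obtain ⟨n, f, hf, htf⟩ := (Groth.Agent.S6873.result R M).mp inferInstance
  haveI := htf
  obtain ⟨k, h, hh⟩ := exists_embed R ((Fin n → R) ⧸ LinearMap.range f)
  have hf' : Function.Injective (f.baseChange R') := by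
    have h1 := Module.Flat.lTensor_preserves_injective_linearMap (M := R') f hf
    exact h1
  have hfg' : Function.Exact (f.baseChange R') ((LinearMap.range f).mkQ.baseChange R') := by
    have h1 := lTensor_exact R' (LinearMap.exact_map_mkQ_range f) (Submodule.mkQ_surjective _)
    exact h1
  have hh' : Function.Injective (h.baseChange R') := by
    have h1 := Module.Flat.lTensor_preserves_injective_linearMap (M := R') h hh
    exact h1
  haveI : Module.IsTorsionFree R' (R' ⊗[R] ((Fin n → R) ⧸ LinearMap.range f)) :=
    Function.Injective.moduleIsTorsionFree (h.baseChange R') hh' (fun r m => map_smul _ r m)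
  exact Groth.Agent.Lib.helper4.ReflLib.reflexive_of_exact R' (f.baseChange R')
    ((LinearMap.range f).mkQ.baseChange R') hf' hfg'

end Groth.Agent.S6874
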