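import Groth.Statements.S6875
import Mathlib
import Groth.Agent.Lib.helper4.ReflLib


set_option autoImplicit false
universe u
open CAlg

namespace Groth.Agent.S6875

theorem isReflexive_pi (R : Type u) [CommRing R] (N : Type u) [AddCommGroup N] [Module R N]
    [Module.IsReflexive R N] : ∀ n : ℕ, Module.IsReflexive R (Fin n → N) := by
  intro n
  induction n with
  | zero =>
    refine ⟨⟨fun a b _ => Subsingleton.elim _ _, fun ξ => ⟨0, ?_⟩⟩⟩
    ext φ
    have h0 : φ = 0 := LinearMap.ext fun x => by rw [Subsingleton.elim x 0, map_zero, map_zero]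
    subst h0
    simp
  | succ n ih =>
    haveI := ih
    exact Module.equiv (Fin.consLinearEquiv R (fun _ : Fin (n+1) => N))

/-- Let `R` be a Noetherian domain, `M` a finite `R`-module and `N` a finite reflexive `R`-module. Then
`Hom_R(M, N)` is reflexive. -/
theorem result (R : Type u) [CommRing R] [IsDomain R] [IsNoetherianRing R]
    (M N : Type u) [AddCommGroup M] [Module R M] [Module.Finite R M] [AddCommGroup N] [Module R N] [Module.Finite R N]
    [Module.IsReflexive R N] : Module.IsReflexive R (M →ₗ[R] N) := by
  obtain ⟨n, p, hp⟩ := Module.Finite.exists_fin' R M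
  haveI : Module.IsReflexive R (Fin n → N) := isReflexive_pi R N n
  haveI : Module.IsReflexive R ((Fin n → R) →ₗ[R] N) :=
    Module.equiv (Module.piEquiv (Fin n) R N)
  have hf : Function.Injective (LinearMap.lcomp R N p) := hp.injective_linearMapComp_right
  have hfg : Function.Exact (LinearMap.lcomp R N p)
      (LinearMap.lcomp R N (LinearMap.ker p).subtype) := by
    intro φ
    constructor
    · intro h
      have hker : LinearMap.ker p ≤ LinearMap.ker φ := by
        intro x hx
        exact LinearMap.congr_fun h ⟨x, hx⟩
      refine ⟨((LinearMap.ker p).liftQ φ hker) ∘ₗ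
        (p.quotKerEquivOfSurjective hp).symm.toLinearMap, ?_⟩
      refine LinearMap.ext fun x => ?_
      show (LinearMap.ker p).liftQ φ hker ((p.quotKerEquivOfSurjective hp).symm (p x)) = φ x
      have h1 : (p.quotKerEquivOfSurjective hp).symm (p x) = Submodule.Quotient.mk x := by
        rw [LinearEquiv.symm_apply_eq]; rfl
      rw [h1, Submodule.liftQ_apply]
    · rintro ⟨ψ, rfl⟩
      refine LinearMap.ext fun x => ?_
      show ψ (p x.1) = 0
      rw [LinearMap.mem_ker.mp x.2, map_zero]
  exact Groth.Agent.Lib.helper4.ReflLib.reflexive_of_exact R _ _ hf hfg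

end Groth.Agent.S6875
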