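import Groth.Statements.S6877
import Mathlib
import Groth.Agent.S6880
import Groth.Agent.S6876


set_option autoImplicit false
universe u
open CAlg

namespace Groth.Agent.S6877

theorem supportDim_hom_le (A : Type u) [CommRing A] [IsNoetherianRing A] (X Y : Type u)
    [AddCommGroup X] [Module A X] [AddCommGroup Y] [Module A Y] [Module.Finite A X]
    [Module.Finite A Y] :
    Module.supportDim A (X →ₗ[A] Y) ≤ Module.supportDim A Y := by
  have hsub : Module.support A (X →ₗ[A] Y) ⊆ Module.support A Y := by
    rw [Module.support_eq_zeroLocus, Module.support_eq_zeroLocus]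
    apply PrimeSpectrum.zeroLocus_anti_mono
    intro r hr
    rw [SetLike.mem_coe, Module.mem_annihilator] at hr ⊢
    intro ψ
    refine LinearMap.ext fun x => ?_
    exact hr (ψ x)
  exact Order.krullDim_le_of_strictMono (fun a => ⟨a.1, hsub a.2⟩) (fun {_ _} lt => lt)

theorem arith2 (k : ℕ) (hk : k ≤ 2) (t s : WithBot ℕ∞) (δ μ : ℕ∞) (hts : t ≤ s)
    (hN : min (k : WithBot ℕ∞) s ≤ ((δ : ℕ∞) : WithBot ℕ∞))
    (h1 : 1 ≤ δ → 1 ≤ μ) (h2 : 2 ≤ δ → 2 ≤ μ) :
    min (k : WithBot ℕ∞) t ≤ ((μ : ℕ∞) : WithBot ℕ∞) := by
  have h : min (k : WithBot ℕ∞) t ≤ ((δ : ℕ∞) : WithBot ℕ∞) := (min_le_min_left _ hts).trans hN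
  have key : ∀ j : WithBot ℕ∞, j ≤ (k : WithBot ℕ∞) → j ≤ ((δ : ℕ∞) : WithBot ℕ∞) →
      j ≤ ((μ : ℕ∞) : WithBot ℕ∞) := by
    intro j hjk hjδ
    induction j using WithBot.recBotCoe with
    | bot => exact bot_le
    | coe j' =>
      have hjk' : j' ≤ (k : ℕ∞) := by
        have h3 : ((j' : ℕ∞) : WithBot ℕ∞) ≤ (((k : ℕ∞)) : WithBot ℕ∞) := hjk
        exact WithBot.coe_le_coe.mp h3
      have hjδ' : j' ≤ δ := WithBot.coe_le_coe.mp hjδ
      rw [WithBot.coe_le_coe]
      obtain ⟨n, rfl⟩ := ENat.ne_top_iff_exists.mp (ne_top_of_le_ne_top (ENat.natCast_ne_top k) hjk')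
      have hn : n ≤ k := by exact_mod_cast hjk'
      have hn2 : n ≤ 2 := hn.trans hk
      interval_cases n
      · exact zero_le
      · have h3 := h1 (by exact_mod_cast hjδ')
        exact_mod_cast h3
      · have h3 := h2 (by exact_mod_cast hjδ')
        exact_mod_cast h3
  exact key _ (min_le_left _ _) h

/-- Let `R` be a Noetherian ring and `M, N` finite `R`-modules. If `N` has `(S_1)`, resp. `(S_2)`, then
so does `Hom_R(M, N)`. (The published statement has a third part, over a domain: `N` torsion free
with `(S_2)` implies the same for `Hom_R(M, N)`; this row states parts one and two.) -/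
theorem result (R : Type u) [CommRing R] [IsNoetherianRing R]
    (M N : Type u) [AddCommGroup M] [Module R M] [Module.Finite R M] [AddCommGroup N] [Module R N] [Module.Finite R N] :
    (LocCoh.HasSk 1 R N → LocCoh.HasSk 1 R (M →ₗ[R] N)) ∧
    (LocCoh.HasSk 2 R N → LocCoh.HasSk 2 R (M →ₗ[R] N)) := by
  have main : ∀ k : ℕ, k ≤ 2 → LocCoh.HasSk k R N → LocCoh.HasSk k R (M →ₗ[R] N) := by
    intro k hk hS
    unfold LocCoh.HasSk at hS ⊢
    intro p _
    haveI : IsNoetherianRing (Localization.AtPrime p) :=
      IsLocalization.isNoetherianRing p.primeCompl _ inferInstance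
    haveI : Module.FinitePresentation R M := Module.finitePresentation_of_finite R M
    have hN := hS p
    let e : LocalizedModule p.primeCompl (M →ₗ[R] N) ≃ₗ[Localization.AtPrime p]
        (LocalizedModule p.primeCompl M →ₗ[Localization.AtPrime p]
          LocalizedModule p.primeCompl N) :=
      (IsLocalizedModule.linearEquiv p.primeCompl
        (LocalizedModule.mkLinearMap p.primeCompl (M →ₗ[R] N))
        (IsLocalizedModule.mapExtendScalars p.primeCompl
          (LocalizedModule.mkLinearMap p.primeCompl M)
          (LocalizedModule.mkLinearMap p.primeCompl N)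
          (Localization.AtPrime p))).extendScalarsOfIsLocalization p.primeCompl
            (Localization.AtPrime p)
    have hd : LocCoh.depth (Localization.AtPrime p) (LocalizedModule p.primeCompl (M →ₗ[R] N)) =
        LocCoh.depth (Localization.AtPrime p) (LocalizedModule p.primeCompl M →ₗ[Localization.AtPrime p]
          LocalizedModule p.primeCompl N) := by
      unfold LocCoh.depth
      exact Groth.Agent.S6880.idealDepth_congr _ e
    have hs : Module.supportDim (Localization.AtPrime p)
        (LocalizedModule p.primeCompl (M →ₗ[R] N)) =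
        Module.supportDim (Localization.AtPrime p)
          (LocalizedModule p.primeCompl M →ₗ[Localization.AtPrime p]
            LocalizedModule p.primeCompl N) := Module.supportDim_eq_of_equiv e
    rw [hd, hs]
    have h12 := Groth.Agent.S6876.result (Localization.AtPrime p)
      (LocalizedModule p.primeCompl M) (LocalizedModule p.primeCompl N)
    exact arith2 k hk _ _ _ _ (supportDim_hom_le _ _ _) hN h12.1 h12.2
  exact ⟨main 1 (by norm_num), main 2 le_rfl⟩

end Groth.Agent.S6877
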