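import Groth.Statements.S6878
import Mathlib


set_option autoImplicit false
universe u
open CAlg

namespace Groth.Agent.S6878

/-- Let `R` be a Noetherian ring and `φ : M → N` a map of `R`-modules. Suppose that for every prime `𝔭`
of `R` either `M_𝔭 → N_𝔭` is injective or `𝔭` is not an associated prime of `M`. Then `φ` is
injective. -/
theorem result (R : Type u) [CommRing R]
    [IsNoetherianRing R] {M N : Type u} [AddCommGroup M] [Module R M] [AddCommGroup N] [Module R N] (φ : M →ₗ[R] N)
    (h : ∀ (p : Ideal R) [p.IsPrime],
      Function.Injective (LocalizedModule.map p.primeCompl φ) ∨ p ∉ associatedPrimes R M) :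
    Function.Injective φ := by
  by_contra hinj
  rw [← LinearMap.ker_eq_bot] at hinj
  haveI : Nontrivial (LinearMap.ker φ) := Submodule.nontrivial_iff_ne_bot.mpr hinj
  obtain ⟨p, hp⟩ := associatedPrimes.nonempty R (LinearMap.ker φ)
  have hpM : p ∈ associatedPrimes R M :=
    IsAssociatedPrime.map_of_injective (LinearMap.ker φ).subtype hp
      (LinearMap.ker φ).subtype_injective
  obtain ⟨hprime, x, hx⟩ := (isAssociatedPrime_iff).mp hp
  haveI := hprime
  rcases h p with hi | hn
  · have h0 : LocalizedModule.map p.primeCompl φ (LocalizedModule.mk x.1 1) = 0 := by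
      rw [LocalizedModule.map_mk, LinearMap.mem_ker.mp x.2, LocalizedModule.zero_mk]
    have h1 : LocalizedModule.mk x.1 (1 : p.primeCompl) = 0 := hi (h0.trans (map_zero _).symm)
    have h2 : LocalizedModule.mkLinearMap p.primeCompl M x.1 = 0 := h1
    obtain ⟨s, hs⟩ := (IsLocalizedModule.eq_zero_iff p.primeCompl
      (LocalizedModule.mkLinearMap p.primeCompl M)).mp h2
    have hsp : (s : R) ∈ (⊥ : Submodule R (LinearMap.ker φ)).colon {x} := by
      rw [Submodule.mem_colon_singleton, Submodule.mem_bot]
      apply Subtype.ext
      exact hs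
    rw [← hx] at hsp
    exact s.2 hsp
  · exact hn hpM

end Groth.Agent.S6878
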