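import Groth.Statements.S6882
import Mathlib


set_option autoImplicit false
universe u
open CAlg

namespace Groth.Agent.S6882

/-- For a finite module `M` over a discrete valuation ring `R`, the evaluation map from `M` to its
double dual `M**` is surjective. -/
theorem result (R : Type u) [CommRing R] [IsDomain R]
    [IsDiscreteValuationRing R] (M : Type u) [AddCommGroup M] [Module R M] [Module.Finite R M] :
    Function.Surjective (Module.Dual.eval R M) := by
  classical
  set T : Submodule R M := Submodule.torsion R M with hT
  have hfree : Module.Free R (M ⧸ T) := inferInstance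
  have hrefl : Module.IsReflexive R (M ⧸ T) := inferInstance
  -- every functional kills the torsion
  have hkill : ∀ f : Module.Dual R M, T ≤ LinearMap.ker f := by
    intro f x hx
    obtain ⟨a, ha⟩ := (Submodule.mem_torsion_iff x).mp hx
    have h1 : (a : R) • f x = 0 := by
      have := congrArg f ha
      rwa [map_zero, Submonoid.smul_def, map_smul] at this
    rw [smul_eq_mul] at h1
    rcases mul_eq_zero.mp h1 with h2 | h2
    · exact absurd h2 (nonZeroDivisors.ne_zero a.2)
    · exact h2
  intro y
  -- the induced element of the double dual of `M ⧸ T`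
  let y' : Module.Dual R (Module.Dual R (M ⧸ T)) := y ∘ₗ (Module.Dual.transpose (R := R) T.mkQ)
  obtain ⟨xbar, hxbar⟩ := (Module.bijective_dual_eval R (M ⧸ T)).2 y'
  obtain ⟨x, rfl⟩ := T.mkQ_surjective xbar
  refine ⟨x, ?_⟩
  ext f
  have hf : f = (T.liftQ f (hkill f)) ∘ₗ T.mkQ := by
    ext z; simp
  have h1 := LinearMap.congr_fun hxbar (T.liftQ f (hkill f))
  simp only [Module.Dual.eval_apply, y', LinearMap.comp_apply] at h1
  rw [Module.Dual.eval_apply]
  conv_rhs => rw [hf]
  have h2 : (Module.Dual.transpose (R := R) T.mkQ) (T.liftQ f (hkill f)) =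
      T.liftQ f (hkill f) ∘ₗ T.mkQ := rfl
  rw [← h2, ← h1]
  simp

end Groth.Agent.S6882
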