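import Groth.Statements.S6887
import Mathlib


set_option autoImplicit false
universe u
open Polynomial
open CAlg

namespace Groth.Agent.S6887

/-- Let `(A, I)` be a Zariski pair (`I` inside the Jacobson radical) and `A → B` a finite ring map.
Suppose `B/IB ≅ B₁ × B₂` as `A`-algebras with `A → B₁` surjective, and `b ∈ B` maps to `(1, 0)`.
Then there is a monic `f ∈ A[x]` with `f(b) = 0` whose reduction modulo `I` is `(x - 1) x^d` for
some `d ≥ 1`. -/
theorem result (A B : Type u) [CommRing A] [CommRing B]
    [Algebra A B] [Module.Finite A B] (I : Ideal A) (hI : I ≤ Ideal.jacobson (⊥ : Ideal A))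
    (B₁ B₂ : Type u) [CommRing B₁] [CommRing B₂] [Algebra A B₁] [Algebra A B₂]
    (e : (B ⧸ I.map (algebraMap A B)) ≃ₐ[A] B₁ × B₂) (h₁ : Function.Surjective (algebraMap A B₁)) (b : B)
    (hb : e (Ideal.Quotient.mk (I.map (algebraMap A B)) b) = (1, 0)) :
    ∃ (f : A[X]) (d : ℕ), f.Monic ∧ Polynomial.aeval b f = 0 ∧ 1 ≤ d ∧
      f.map (Ideal.Quotient.mk I) = (X - 1) * X ^ d := by
  classical
  generalize hJ : I.map (algebraMap A B) = J at e hb
  have hmk0 : ∀ y : B, e (Ideal.Quotient.mk J y) = 0 → y ∈ J := by
    intro y hy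
    have : Ideal.Quotient.mk J y = 0 := by
      apply e.injective
      rw [hy, map_zero]
    exact Ideal.Quotient.eq_zero_iff_mem.mp this
  -- `b ^ 2 - b ∈ J`
  have hbb : b * b - b ∈ J := by
    apply hmk0
    rw [map_sub, map_mul, map_sub, map_mul, hb]
    ext <;> simp
  -- generators
  obtain ⟨n, s, hs⟩ := Module.Finite.exists_fin (R := A) (M := B)
  let gens : Fin (n + 1 + 1) → B := Fin.cons b (fun i => (1 - b) * (Fin.cons 0 s : Fin (n + 1) → B) i)
  have hgens0 : gens 0 = b := rfl
  have hgensS : ∀ i : Fin n, gens (Fin.succ (Fin.succ i)) = (1 - b) * s i := fun i => rfl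
  have hmem0 : b ∈ Submodule.span A (Set.range gens) := Submodule.subset_span ⟨0, rfl⟩
  have hmemN : ∀ y : B, (1 - b) * y ∈ Submodule.span A (Set.range gens) := by
    intro y
    have hy : y ∈ Submodule.span A (Set.range s) := by rw [hs]; exact Submodule.mem_top
    induction hy using Submodule.span_induction with
    | mem x hx =>
      obtain ⟨i, rfl⟩ := hx
      exact Submodule.subset_span ⟨Fin.succ (Fin.succ i), hgensS i⟩
    | zero => rw [mul_zero]; exact Submodule.zero_mem _
    | add x y _ _ hx hy => rw [mul_add]; exact Submodule.add_mem _ hx hy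
    | smul a x _ hx => rw [mul_smul_comm]; exact Submodule.smul_mem _ a hx
  have hJtop : ∀ y : B, y ∈ J → y ∈ I • (⊤ : Submodule A B) := by
    intro y hy
    rw [Ideal.smul_top_eq_map, hJ]
    exact hy
  have hspan : Submodule.span A (Set.range gens) = ⊤ := by
    rw [eq_top_iff]
    apply Submodule.le_of_le_smul_of_le_jacobson_bot Module.Finite.fg_top hI
    intro y _
    obtain ⟨a, ha⟩ := h₁ (e (Ideal.Quotient.mk J y)).1
    have hy' : y - a • b - (1 - b) * y ∈ J := by
      apply hmk0
      have h1 : e (Ideal.Quotient.mk J (a • b)) = a • ((1, 0) : B₁ × B₂) := by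
        have : Ideal.Quotient.mk J (a • b) = a • Ideal.Quotient.mk J b := rfl
        rw [this, map_smul, hb]
      have h2 : e (Ideal.Quotient.mk J (1 - b)) = ((0, 1) : B₁ × B₂) := by
        rw [map_sub, map_sub, map_one, map_one, hb]
        ext <;> simp
      rw [map_sub, map_sub, map_mul, map_sub, map_sub, map_mul, h1, h2]
      ext
      · simp [Algebra.smul_def, ha]
      · simp
    have : y = (a • b + (1 - b) * y) + (y - a • b - (1 - b) * y) := by ring
    rw [this]
    exact Submodule.add_mem_sup
      (Submodule.add_mem _ (Submodule.smul_mem _ a hmem0) (hmemN y)) (hJtop _ hy')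
  -- matrix entries
  have hcol : ∀ j : Fin (n + 1 + 1), ∃ c : Fin (n + 1 + 1) → A, (∀ i, c i ∈ I) ∧
      ∑ i, c i • gens i = b * gens j - (if j = 0 then b else 0) := by
    intro j
    have hmemJ : b * gens j - (if j = 0 then b else 0) ∈ J := by
      refine Fin.cases ?_ (fun i => ?_) j
      · simpa [hgens0] using hbb
      · have h1 : gens (Fin.succ i) = (1 - b) * (Fin.cons 0 s : Fin (n + 1) → B) i := rfl
        rw [h1, if_neg (Fin.succ_ne_zero i), sub_zero]
        have : b * ((1 - b) * (Fin.cons 0 s : Fin (n + 1) → B) i) =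
            -((b * b - b) * (Fin.cons 0 s : Fin (n + 1) → B) i) := by ring
        rw [this]
        exact J.neg_mem (J.mul_mem_right _ hbb)
    have h2 := hJtop _ hmemJ
    rw [← hspan, Submodule.mem_ideal_smul_span_iff_exists_sum] at h2
    obtain ⟨a, ha, hsum⟩ := h2
    refine ⟨fun i => a i, ha, ?_⟩
    rw [← hsum, Finsupp.sum_fintype]
    intro i; exact zero_smul _ _
  choose c hcI hcsum using hcol
  let M : Matrix (Fin (n + 1 + 1)) (Fin (n + 1 + 1)) A :=
    fun i j => (if i = 0 ∧ j = 0 then 1 else 0) + c j i
  have hrep : M.Represents gens (Algebra.lmul A B b) := by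
    rw [Matrix.represents_iff']
    intro j
    have : ∑ i, M i j • gens i = (if j = 0 then b else 0) + ∑ i, c j i • gens i := by
      simp only [M, add_smul, Finset.sum_add_distrib]
      congr 1
      by_cases hj : j = 0
      · subst hj
        simp only [and_true, if_true]
        rw [Finset.sum_eq_single 0]
        · simp [hgens0]
        · intro i _ hi; simp [hi]
        · intro h; exact absurd (Finset.mem_univ _) h
      · simp [hj]
    rw [this, hcsum j]
    simp
  refine ⟨M.charpoly, n + 1, M.charpoly_monic, ?_, Nat.le_add_left 1 n, ?_⟩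
  · have hzero : Polynomial.aeval (Algebra.lmul A B b) M.charpoly = 0 := by
      let A' : Matrix.isRepresentation A gens := ⟨M, _, hrep⟩
      have h1 : Matrix.isRepresentation.toEnd A gens hspan A' = Algebra.lmul A B b :=
        Matrix.isRepresentation.eq_toEnd_of_represents A gens hspan A' hrep
      rw [← h1, Polynomial.aeval_algHom_apply,
        ← map_zero (Matrix.isRepresentation.toEnd A gens hspan)]
      congr 1
      ext1
      rw [Polynomial.aeval_subalgebra_coe, Subalgebra.coe_zero]
      exact Matrix.aeval_self_charpoly M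
    rw [Polynomial.aeval_algHom_apply] at hzero
    have := LinearMap.congr_fun hzero 1
    simpa using this
  · rw [← Matrix.charpoly_map]
    have hM : M.map (Ideal.Quotient.mk I) =
        Matrix.diagonal (Fin.cons 1 0 : Fin (n + 1 + 1) → A ⧸ I) := by
      have hMij : ∀ i j, Ideal.Quotient.mk I (M i j) = if i = 0 ∧ j = 0 then 1 else 0 := by
        intro i j
        have hc0 : Ideal.Quotient.mk I (c j i) = 0 := Ideal.Quotient.eq_zero_iff_mem.mpr (hcI j i)
        simp only [M, map_add, hc0, add_zero]
        split_ifs <;> simp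
      have hcons : ∀ i : Fin (n + 1 + 1),
          (Fin.cons 1 0 : Fin (n + 1 + 1) → A ⧸ I) i = if i = 0 then 1 else 0 := by
        intro i
        refine Fin.cases ?_ (fun k => ?_) i
        · simp
        · simp [Fin.succ_ne_zero]
      ext i j
      rw [Matrix.map_apply, hMij]
      by_cases hij : i = j
      · subst hij
        rw [Matrix.diagonal_apply_eq, hcons]
        simp
      · rw [Matrix.diagonal_apply_ne _ hij]
        have : ¬ (i = 0 ∧ j = 0) := fun h => hij (h.1.trans h.2.symm)
        simp [this]
    rw [hM, Matrix.charpoly_diagonal, Fin.prod_univ_succ]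
    simp

end Groth.Agent.S6887
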