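import Groth.Statements.S6888
import Mathlib
import Groth.Agent.Lib.helper4.HensAIC


set_option autoImplicit false
universe u
open Polynomial
open CAlg

namespace Groth.Agent.S6888

open Groth.Agent.Lib.helper4

/-- Let `A` be absolutely integrally closed (every monic polynomial over `A` is a product of linear
factors) and `I ⊆ A` an ideal contained in the Jacobson radical such that `A → A/I` is surjective
(hence bijective) on idempotents. Then `(A, I)` is a henselian pair. (The published statement also
records the converse, which holds for every henselian pair; this row states the sufficiency only.) -/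
theorem result (A : Type u) [CommRing A]
    (hA : ∀ f : A[X], f.Monic → ∃ s : Multiset A, f = (s.map fun a => X - C a).prod) (I : Ideal A)
    (hI : I ≤ Ideal.jacobson (⊥ : Ideal A))
    (hidem : ∀ e : A ⧸ I, IsIdempotentElem e → ∃ e' : A, IsIdempotentElem e' ∧ Ideal.Quotient.mk I e' = e) :
    HenselianRing A I := by
  classical
  refine ⟨hI, ?_⟩
  intro f hf a₀ h0 h1
  obtain ⟨s, hs⟩ := hA f hf
  obtain ⟨l, rfl⟩ : ∃ l : List A, s = ↑l := ⟨s.toList, (Multiset.coe_toList s).symm⟩
  have hf' : f = ∏ i : Fin l.length, (X - C (l.get i)) := by
    rw [hs, Multiset.map_coe, Multiset.prod_coe, ← List.prod_ofFn,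
      List.ofFn_comp' (fun i : Fin l.length => l.get i) (fun a => X - C a), List.ofFn_get]
  have heval : ∀ r, f.eval r = ∏ i : Fin l.length, (r - l.get i) := by
    intro r
    rw [hf', eval_prod]
    simp
  have hder : f.derivative.eval a₀ =
      ∑ i : Fin l.length, ∏ j ∈ Finset.univ.erase i, (a₀ - l.get j) := by
    rw [hf', derivative_prod_finset, eval_finsetSum]
    refine Finset.sum_congr rfl fun i _ => ?_
    rw [eval_mul, eval_prod]
    simp
  obtain ⟨r, hr, hr'⟩ := h4_hensel_core I hI hidem (fun i : Fin l.length => l.get i) a₀
    (by rw [← heval]; exact h0) (by rw [← hder]; exact h1)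
  exact ⟨r, by rw [IsRoot, heval]; exact hr, hr'⟩

end Groth.Agent.S6888
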