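import Groth.Statements.S6891
import Mathlib

set_option autoImplicit false
universe u
open Fitt

namespace Groth.Agent.S6891

/-- Let `M` be a finite `R`-module. Then `Fit_0(M) ⊆ Ann_R(M)`, the closed set `V(Fit_0(M))` equals
`Supp(M)`, and for an ideal `I` one has `Fit_0(R/I) = I`. -/
theorem result {R : Type u} [CommRing R] (M : Type u) [AddCommGroup M]
    [Module R M] [Module.Finite R M] (I : Ideal R) :
    Fitt.ideal R M 0 ≤ Module.annihilator R M ∧
    PrimeSpectrum.zeroLocus (Fitt.ideal R M 0 : Set R) = Module.support R M ∧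
    Fitt.ideal R (R ⧸ I) 0 = I := by
  have key1 : ∀ (N : Type u) [AddCommGroup N] [Module R N],
      Fitt.ideal R N 0 ≤ Module.annihilator R N := by
    intro N _ _
    unfold Fitt.ideal
    rw [Ideal.span_le]
    rintro d ⟨n, x, a, hspan, hrel, rfl⟩
    have hrel' : ∀ i : Fin n, ∑ j, a i j • x j = 0 := fun i => hrel i (by
      rw [Nat.sub_zero]; exact i.2)
    have hk : ∀ k, a.det • x k = 0 := by
      intro k
      have h1 : ∑ j, (a.adjugate * a) k j • x j = 0 := by
        simp only [Matrix.mul_apply, Finset.sum_smul, mul_smul]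
        rw [Finset.sum_comm]
        refine Finset.sum_eq_zero (fun i _ => ?_)
        rw [← Finset.smul_sum, hrel' i, smul_zero]
      rw [Matrix.adjugate_mul] at h1
      simpa [Matrix.smul_apply, Matrix.one_apply, ite_smul] using h1
    rw [SetLike.mem_coe, Module.mem_annihilator]
    intro m
    have hm : m ∈ Submodule.span R (Set.range x) := by rw [hspan]; exact Submodule.mem_top
    have hle : Submodule.span R (Set.range x) ≤ LinearMap.ker (LinearMap.lsmul R N a.det) := by
      rw [Submodule.span_le]
      rintro _ ⟨k, rfl⟩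
      exact hk k
    exact hle hm
  refine ⟨key1 M, ?_, ?_⟩
  · rw [Module.support_eq_zeroLocus]
    refine Set.Subset.antisymm ?_ (PrimeSpectrum.zeroLocus_anti_mono (key1 M))
    intro p hp
    by_contra hnot
    rw [PrimeSpectrum.mem_zeroLocus, Set.not_subset] at hnot
    obtain ⟨s, hs, hsp⟩ := hnot
    obtain ⟨n, x, hx⟩ := Module.Finite.exists_fin (R := R) (M := M)
    have hmem : s ^ n ∈ Fitt.ideal R M 0 := by
      unfold Fitt.ideal
      refine Ideal.subset_span ⟨n, x, Matrix.diagonal (fun _ => s), hx, ?_, ?_⟩
      · intro i _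
        have h2 : ∀ j ∈ Finset.univ, j ≠ i → (Matrix.diagonal (fun _ => s) : Matrix (Fin n) (Fin n) R) i j • x j = 0 := by
          intro j _ hji
          rw [Matrix.diagonal_apply_ne _ (Ne.symm hji), zero_smul]
        rw [Finset.sum_eq_single_of_mem i (Finset.mem_univ i) h2, Matrix.diagonal_apply_eq]
        exact Module.mem_annihilator.mp hs (x i)
      · rw [Matrix.det_diagonal, Finset.prod_const, Finset.card_univ, Fintype.card_fin]
    have h3 : s ^ n ∈ p.asIdeal := hp hmem
    exact hsp (p.2.mem_of_pow_mem n h3)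
  · refine le_antisymm ?_ ?_
    · have h4 := key1 (R ⧸ I)
      rwa [Ideal.annihilator_quotient] at h4
    · intro i hi
      unfold Fitt.ideal
      refine Ideal.subset_span ⟨1, fun _ => Ideal.Quotient.mk I 1, Matrix.of (fun _ _ => i), ?_, ?_, ?_⟩
      · rw [eq_top_iff]
        rintro y -
        obtain ⟨r, rfl⟩ := Ideal.Quotient.mk_surjective y
        have h5 : Ideal.Quotient.mk I r = r • (Ideal.Quotient.mk I 1) := by
          rw [Algebra.smul_def, map_one, mul_one]; rfl
        rw [h5]
        exact Submodule.smul_mem _ r (Submodule.subset_span ⟨0, rfl⟩)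
      · intro k _
        rw [Fin.sum_univ_one, Matrix.of_apply, Algebra.smul_def]
        show algebraMap R (R ⧸ I) i * Ideal.Quotient.mk I 1 = 0
        rw [map_one, mul_one]
        exact Ideal.Quotient.eq_zero_iff_mem.mpr hi
      · rw [Matrix.det_fin_one, Matrix.of_apply]

end Groth.Agent.S6891
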