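import Groth.Statements.S6899
import Mathlib

set_option autoImplicit false
universe u
open TensorProduct
open EtAlg

namespace Groth.Agent.S6899

/-- Let `B' = B ×_A A'` be a fibre square of rings with `A' → A` surjective, and let `(N₁, M₁', φ₁) →
(N₂, M₂', φ₂)` be a morphism of glueing data (a `B`-linear `u : N₁ → N₂` and an `A'`-linear `v : M₁'
→ M₂'` compatible with the `φ_i`) with `u` and `v` surjective. Then the induced map of glued modules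
`N₁ ×_{φ₁} M₁' → N₂ ×_{φ₂} M₂'` is surjective. -/
theorem result (B' B A' A : Type u) [CommRing B'] [CommRing B] [CommRing A'] [CommRing A]
    [Algebra B' B] [Algebra B' A'] [Algebra B A] [Algebra A' A] [Algebra B' A] [IsScalarTower B' B A] [IsScalarTower B' A' A]
    (hsq : EtMil.IsFibreSquare B' B A' A)
    {N₁ N₂ M₁' M₂' : Type u} [AddCommGroup N₁] [Module B N₁] [Module B' N₁] [IsScalarTower B' B N₁]
    [AddCommGroup N₂] [Module B N₂] [Module B' N₂] [IsScalarTower B' B N₂]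
    [AddCommGroup M₁'] [Module A' M₁'] [Module B' M₁'] [IsScalarTower B' A' M₁']
    [AddCommGroup M₂'] [Module A' M₂'] [Module B' M₂'] [IsScalarTower B' A' M₂']
    (φ₁ : A ⊗[B] N₁ ≃ₗ[A] A ⊗[A'] M₁') (φ₂ : A ⊗[B] N₂ ≃ₗ[A] A ⊗[A'] M₂') (u : N₁ →ₗ[B] N₂) (v : M₁' →ₗ[A'] M₂')
    (hc : (v.baseChange A).comp φ₁.toLinearMap = φ₂.toLinearMap.comp (u.baseChange A))
    (hu : Function.Surjective u) (hv : Function.Surjective v) :
    ∀ y : N₂ × M₂', y ∈ EtMil.glue B' φ₂ → ∃ x : N₁ × M₁', x ∈ EtMil.glue B' φ₁ ∧ u x.1 = y.1 ∧ v x.2 = y.2 := by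
  intro y hy
  obtain ⟨n₁, hn₁⟩ := hu y.1
  obtain ⟨m₀, hm₀⟩ := hv y.2
  have hsurj := hsq.1
  have hy' : φ₂ ((1 : A) ⊗ₜ[B] y.1) = (1 : A) ⊗ₜ[A'] y.2 := hy
  set δ : A ⊗[A'] M₁' := φ₁ ((1 : A) ⊗ₜ[B] n₁) - (1 : A) ⊗ₜ[A'] m₀ with hδ
  have hδker : (v.baseChange A) δ = 0 := by
    rw [hδ, map_sub]
    have h1 : (v.baseChange A) (φ₁ ((1 : A) ⊗ₜ[B] n₁))
        = φ₂ ((u.baseChange A) ((1 : A) ⊗ₜ[B] n₁)) := by
      have := LinearMap.congr_fun hc ((1 : A) ⊗ₜ[B] n₁)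
      simpa using this
    rw [h1, LinearMap.baseChange_tmul, LinearMap.baseChange_tmul, hn₁, hm₀, hy', sub_self]
  have hex : Function.Exact (LinearMap.lTensor A (LinearMap.ker v).subtype)
      (LinearMap.lTensor A v) :=
    lTensor_exact A (LinearMap.exact_subtype_ker_map v) hv
  have hδ' : (LinearMap.lTensor A v) δ = 0 := by
    rw [← LinearMap.baseChange_eq_ltensor]; exact hδker
  obtain ⟨z, hz⟩ := (hex δ).mp hδ'
  have hone : ∀ z : A ⊗[A'] (LinearMap.ker v), ∃ κ : LinearMap.ker v,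
      z = (1 : A) ⊗ₜ[A'] κ := by
    intro z
    induction z using TensorProduct.induction_on with
    | zero => exact ⟨0, (TensorProduct.tmul_zero _ _).symm⟩
    | tmul a κ =>
      obtain ⟨a', rfl⟩ := hsurj a
      refine ⟨a' • κ, ?_⟩
      rw [Algebra.algebraMap_eq_smul_one, TensorProduct.smul_tmul]
    | add z w hz hw =>
      obtain ⟨κ₁, rfl⟩ := hz
      obtain ⟨κ₂, rfl⟩ := hw
      exact ⟨κ₁ + κ₂, (TensorProduct.tmul_add _ _ _).symm⟩
  obtain ⟨κ, rfl⟩ := hone z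
  rw [LinearMap.lTensor_tmul] at hz
  refine ⟨(n₁, m₀ + (κ : M₁')), ?_, hn₁, ?_⟩
  · show φ₁ ((1 : A) ⊗ₜ[B] n₁) = (1 : A) ⊗ₜ[A'] (m₀ + (κ : M₁'))
    rw [TensorProduct.tmul_add]
    have hz' : (1 : A) ⊗ₜ[A'] (κ : M₁') = δ := hz
    rw [hz', hδ]
    abel
  · show v (m₀ + (κ : M₁')) = y.2
    rw [map_add, hm₀, LinearMap.mem_ker.mp κ.2, add_zero]

end Groth.Agent.S6899
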