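import Groth.Statements.S6909
import Mathlib


set_option autoImplicit false
universe u
open CAlg

namespace Groth.Agent.S6909

/-- Let `A` be a Noetherian ring, `I ⊆ A` an ideal inside the Jacobson radical, and `L → M → N` two
complexes `(f, g)` and `(f', g')` of finite `A`-modules with `f' ≡ f` modulo `I^{c+1}M` and `g' ≡ g`
modulo `I^{c+1}N`. If `c` works in the Artin–Rees lemma for `f` and for `g` (that is `f(L) ∩ IⁿM ⊆
f(I^{n-c}L)` for `n ≥ c`, and likewise for `g`) and `(f, g)` is exact, then `c` works for `g'` and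
`(f', g')` is exact. -/
theorem result {A : Type u} [CommRing A] [IsNoetherianRing A] (I : Ideal A)
    (hI : I ≤ Ideal.jacobson (⊥ : Ideal A)) {L M N : Type u} [AddCommGroup L] [Module A L] [Module.Finite A L]
    [AddCommGroup M] [Module A M] [Module.Finite A M] [AddCommGroup N] [Module A N] [Module.Finite A N]
    (f f' : L →ₗ[A] M) (g g' : M →ₗ[A] N) (c : ℕ) (hgf : g.comp f = 0) (hgf' : g'.comp f' = 0)
    (hf : (∀ n : ℕ, c ≤ n → LinearMap.range f ⊓ (I ^ n • (⊤ : Submodule A M)) ≤ Submodule.map f (I ^ (n - c) • (⊤ : Submodule A L))))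
    (hg : (∀ n : ℕ, c ≤ n → LinearMap.range g ⊓ (I ^ n • (⊤ : Submodule A N)) ≤ Submodule.map g (I ^ (n - c) • (⊤ : Submodule A M))))
    (hex : Function.Exact f g)
    (hff' : ∀ x : L, f x - f' x ∈ I ^ (c + 1) • (⊤ : Submodule A M))
    (hgg' : ∀ y : M, g y - g' y ∈ I ^ (c + 1) • (⊤ : Submodule A N)) :
    (∀ n : ℕ, c ≤ n → LinearMap.range g' ⊓ (I ^ n • (⊤ : Submodule A N)) ≤ Submodule.map g' (I ^ (n - c) • (⊤ : Submodule A M))) ∧
    Function.Exact f' g' := by
  classical
  -- helper: a map with image in `I^k • ⊤` raises the filtration degree by `k`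
  have hraise : ∀ {P Q : Type u} [AddCommGroup P] [Module A P] [AddCommGroup Q] [Module A Q]
      (h : P →ₗ[A] Q) (k : ℕ), (∀ y, h y ∈ I ^ k • (⊤ : Submodule A Q)) →
      ∀ (r : ℕ) (a : P), a ∈ I ^ r • (⊤ : Submodule A P) →
        h a ∈ I ^ (r + k) • (⊤ : Submodule A Q) := by
    intro P Q _ _ _ _ h k hk r a ha
    have h1 : h a ∈ Submodule.map h (I ^ r • (⊤ : Submodule A P)) := Submodule.mem_map_of_mem ha
    rw [Submodule.map_smul''] at h1
    have h2 : Submodule.map h ⊤ ≤ I ^ k • (⊤ : Submodule A Q) := by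
      rintro _ ⟨y, -, rfl⟩
      exact hk y
    have h3 := Submodule.smul_mono (le_refl (I ^ r)) h2 h1
    rwa [← Submodule.mul_smul, ← pow_add] at h3
  have hmono : ∀ {P : Type u} [AddCommGroup P] [Module A P] {r s : ℕ}, r ≤ s →
      I ^ s • (⊤ : Submodule A P) ≤ I ^ r • (⊤ : Submodule A P) := by
    intro P _ _ r s hrs
    exact Submodule.smul_mono_left (Ideal.pow_le_pow_right hrs)
  -- one step of the approximation
  have hstep : ∀ (n : ℕ), c ≤ n → ∀ r, r + c + 1 ≤ n → ∀ a : M,
      a ∈ I ^ r • (⊤ : Submodule A M) → g' a ∈ I ^ n • (⊤ : Submodule A N) →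
      ∃ b : L, a - f' b ∈ I ^ (r + 1) • (⊤ : Submodule A M) := by
    intro n hn r hr a ha hga
    -- g a ∈ I^(r+c+1) N
    have h1 : g a - g' a ∈ I ^ (r + (c + 1)) • (⊤ : Submodule A N) :=
      hraise (g - g') (c + 1) (fun y => by simpa using hgg' y) r a ha
    have h2 : g' a ∈ I ^ (r + (c + 1)) • (⊤ : Submodule A N) := hmono (by omega) hga
    have h3 : g a ∈ I ^ (r + (c + 1)) • (⊤ : Submodule A N) := by
      have := Submodule.add_mem _ h1 h2
      simpa using this
    have h4 : g a ∈ Submodule.map g (I ^ (r + (c + 1) - c) • (⊤ : Submodule A M)) :=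
      hg (r + (c + 1)) (by omega) ⟨⟨a, rfl⟩, h3⟩
    have hrc : r + (c + 1) - c = r + 1 := by omega
    rw [hrc] at h4
    obtain ⟨a₁, ha₁, hga₁⟩ := h4
    have h5 : g (a - a₁) = 0 := by rw [map_sub, hga₁, sub_self]
    obtain ⟨b₀, hb₀⟩ := (hex (a - a₁)).mp h5
    have h6 : f b₀ ∈ I ^ r • (⊤ : Submodule A M) := by
      rw [hb₀]
      exact Submodule.sub_mem _ ha (hmono (Nat.le_succ r) ha₁)
    -- choose b with f b = f b₀ and (f - f') b ∈ I^(r+1) M
    have h7 : ∃ b : L, f b = f b₀ ∧ f b - f' b ∈ I ^ (r + 1) • (⊤ : Submodule A M) := by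
      by_cases hrc' : c ≤ r
      · obtain ⟨b, hb, hfb⟩ := hf r hrc' ⟨⟨b₀, rfl⟩, h6⟩
        refine ⟨b, hfb, ?_⟩
        have := hraise (f - f') (c + 1) (fun y => by simpa using hff' y) (r - c) b hb
        have e : r - c + (c + 1) = r + 1 := by omega
        rw [e] at this
        simpa using this
      · refine ⟨b₀, rfl, ?_⟩
        exact hmono (by omega) (hff' b₀)
    obtain ⟨b, hfb, hb⟩ := h7
    refine ⟨b, ?_⟩
    have e : a - f' b = (f b - f' b) + a₁ := by
      rw [hfb, hb₀]; abel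
    rw [e]
    exact Submodule.add_mem _ hb ha₁
  -- the key claim
  have hkey : ∀ (n : ℕ), c ≤ n → ∀ d r, r + d = n - c → ∀ a : M,
      a ∈ I ^ r • (⊤ : Submodule A M) → g' a ∈ I ^ n • (⊤ : Submodule A N) →
      ∃ b : L, a - f' b ∈ I ^ (n - c) • (⊤ : Submodule A M) := by
    intro n hn d
    induction d with
    | zero =>
      intro r hr a ha _
      refine ⟨0, ?_⟩
      have : r = n - c := by omega
      rw [map_zero, sub_zero, ← this]
      exact ha
    | succ d ih =>
      intro r hr a ha hga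
      obtain ⟨b₁, hb₁⟩ := hstep n hn r (by omega) a ha hga
      have hga₂ : g' (a - f' b₁) ∈ I ^ n • (⊤ : Submodule A N) := by
        have : g' (f' b₁) = 0 := LinearMap.congr_fun hgf' b₁
        rw [map_sub, this, sub_zero]
        exact hga
      obtain ⟨b₂, hb₂⟩ := ih (r + 1) (by omega) (a - f' b₁) hb₁ hga₂
      refine ⟨b₁ + b₂, ?_⟩
      have e : a - f' (b₁ + b₂) = a - f' b₁ - f' b₂ := by rw [map_add]; abel
      rw [e]
      exact hb₂
  have hkey' : ∀ (n : ℕ), c ≤ n → ∀ a : M, g' a ∈ I ^ n • (⊤ : Submodule A N) →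
      ∃ b : L, a - f' b ∈ I ^ (n - c) • (⊤ : Submodule A M) := by
    intro n hn a hga
    refine hkey n hn (n - c) 0 (by omega) a ?_ hga
    rw [pow_zero, Ideal.one_eq_top, Submodule.top_smul]
    trivial
  refine ⟨?_, ?_⟩
  · rintro n hn x ⟨⟨a, rfl⟩, hx⟩
    obtain ⟨b, hb⟩ := hkey' n hn a hx
    refine ⟨a - f' b, hb, ?_⟩
    have : g' (f' b) = 0 := LinearMap.congr_fun hgf' b
    rw [map_sub, this, sub_zero]
  · intro y
    constructor
    · intro hy
      -- Krull intersection in the quotient M ⧸ range f'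
      let Q := M ⧸ LinearMap.range f'
      have hQ : (⨅ i : ℕ, I ^ i • (⊤ : Submodule A Q)) = ⊥ :=
        Ideal.iInf_pow_smul_eq_bot_of_le_jacobson I hI
      have hmem : (LinearMap.range f').mkQ y ∈ (⨅ i : ℕ, I ^ i • (⊤ : Submodule A Q)) := by
        rw [Submodule.mem_iInf]
        intro k
        have hgy : g' y ∈ I ^ (k + c) • (⊤ : Submodule A N) := by rw [hy]; exact Submodule.zero_mem _
        obtain ⟨b, hb⟩ := hkey' (k + c) (by omega) y hgy
        have e : k + c - c = k := by omega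
        rw [e] at hb
        have h1 : (LinearMap.range f').mkQ y = (LinearMap.range f').mkQ (y - f' b) := by
          rw [map_sub]
          have : (LinearMap.range f').mkQ (f' b) = 0 :=
            (Submodule.Quotient.mk_eq_zero _).mpr ⟨b, rfl⟩
          rw [this, sub_zero]
        rw [h1]
        have h2 : (LinearMap.range f').mkQ (y - f' b) ∈
            Submodule.map (LinearMap.range f').mkQ (I ^ k • (⊤ : Submodule A M)) :=
          Submodule.mem_map_of_mem hb
        rw [Submodule.map_smul''] at h2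
        exact Submodule.smul_mono (le_refl _) le_top h2
      rw [hQ, Submodule.mem_bot] at hmem
      exact (Submodule.Quotient.mk_eq_zero _).mp hmem
    · rintro ⟨b, rfl⟩
      exact LinearMap.congr_fun hgf' b

end Groth.Agent.S6909
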