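import Groth.Statements.S6910
import Mathlib


set_option autoImplicit false
universe u
open CAlg

namespace Groth.Agent.S6910

theorem delta_mem {A : Type u} [CommRing A] (I : Ideal A) {M N : Type u} [AddCommGroup M]
    [Module A M] [AddCommGroup N] [Module A N]
    (δ : M →ₗ[A] N) (k : ℕ) (hδ : ∀ y, δ y ∈ I ^ k • (⊤ : Submodule A N)) (r : ℕ) (x : M)
    (hx : x ∈ I ^ r • (⊤ : Submodule A M)) :
    δ x ∈ I ^ (r + k) • (⊤ : Submodule A N) := by
  refine Submodule.smul_induction_on hx (fun i hi m _ => ?_) (fun x y hx hy => ?_)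
  · rw [map_smul, pow_add, Submodule.mul_smul]
    exact Submodule.smul_mem_smul hi (hδ m)
  · rw [map_add]; exact Submodule.add_mem _ hx hy

theorem ar_prime {A : Type u} [CommRing A] (I : Ideal A) {L M N : Type u} [AddCommGroup L]
    [Module A L] [AddCommGroup M] [Module A M] [AddCommGroup N] [Module A N]
    (f f' : L →ₗ[A] M) (g g' : M →ₗ[A] N) (c : ℕ)
    (hgf' : g'.comp f' = 0)
    (hf : ∀ n, c ≤ n → ∀ b : L, f b ∈ I ^ n • (⊤ : Submodule A M) →
      ∃ b' ∈ I ^ (n - c) • (⊤ : Submodule A L), f b' = f b)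
    (hg : ∀ n, c ≤ n → ∀ a : M, g a ∈ I ^ n • (⊤ : Submodule A N) →
      ∃ a' ∈ I ^ (n - c) • (⊤ : Submodule A M), g a' = g a)
    (hex : Function.Exact f g)
    (hff' : ∀ x : L, f x - f' x ∈ I ^ (c + 1) • (⊤ : Submodule A M))
    (hgg' : ∀ y : M, g y - g' y ∈ I ^ (c + 1) • (⊤ : Submodule A N)) :
    ∀ n, c ≤ n → ∀ a : M, g' a ∈ I ^ n • (⊤ : Submodule A N) →
      ∃ a' ∈ I ^ (n - c) • (⊤ : Submodule A M), g' a' = g' a := by
  intro n hn a ha
  have key : ∀ r, r ≤ n - c → ∃ a' ∈ I ^ r • (⊤ : Submodule A M), g' a' = g' a := by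
    intro r
    induction r with
    | zero =>
      intro _
      exact ⟨a, by rw [pow_zero, Ideal.one_eq_top, Submodule.top_smul]; exact Submodule.mem_top,
        rfl⟩
    | succ r ih =>
      intro hr
      obtain ⟨a0, ha0, hga0⟩ := ih (by omega)
      have ha0n : g' a0 ∈ I ^ n • (⊤ : Submodule A N) := by rw [hga0]; exact ha
      have h1 : (g - g') a0 ∈ I ^ (r + (c + 1)) • (⊤ : Submodule A N) :=
        delta_mem I (g - g') (c+1) (fun y => by rw [LinearMap.sub_apply]; exact hgg' y) r a0 ha0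
      have h2 : g a0 ∈ I ^ (r + (c + 1)) • (⊤ : Submodule A N) := by
        have h3 : g a0 = g' a0 + (g - g') a0 := by rw [LinearMap.sub_apply]; abel
        rw [h3]
        refine Submodule.add_mem _ ?_ h1
        exact Submodule.smul_mono_left (Ideal.pow_le_pow_right (by omega)) ha0n
      obtain ⟨a1, ha1, hga1⟩ := hg (r + (c+1)) (by omega) a0 h2
      have ha1' : a1 ∈ I ^ (r + 1) • (⊤ : Submodule A M) := by
        have e : r + (c + 1) - c = r + 1 := by omega
        rwa [e] at ha1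
      obtain ⟨b, hb⟩ := (hex (a0 - a1)).mp (by rw [map_sub, hga1, sub_self])
      have hfb : f b ∈ I ^ r • (⊤ : Submodule A M) := by
        rw [hb]
        exact Submodule.sub_mem _ ha0
          (Submodule.smul_mono_left (Ideal.pow_le_pow_right (Nat.le_succ r)) ha1')
      obtain ⟨b', hfb', hδb'⟩ : ∃ b' : L, f b' = f b ∧
          (f - f') b' ∈ I ^ (r + 1) • (⊤ : Submodule A M) := by
        by_cases hrc : c ≤ r
        · obtain ⟨b', hb', hfb'⟩ := hf r hrc b hfb
          refine ⟨b', hfb', ?_⟩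
          have h4 := delta_mem I (f - f') (c+1)
            (fun y => by rw [LinearMap.sub_apply]; exact hff' y) (r - c) b' hb'
          have e : r - c + (c + 1) = r + 1 := by omega
          rwa [e] at h4
        · refine ⟨b, rfl, ?_⟩
          rw [LinearMap.sub_apply]
          exact Submodule.smul_mono_left (Ideal.pow_le_pow_right (by omega)) (hff' b)
      refine ⟨a0 - f' b', ?_, ?_⟩
      · have h5 : a0 - f' b' = (f - f') b' + a1 := by
          rw [LinearMap.sub_apply, hfb', hb]; abel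
        rw [h5]
        exact Submodule.add_mem _ hδb' ha1'
      · rw [map_sub, ← LinearMap.comp_apply, hgf', LinearMap.zero_apply, sub_zero, hga0]
  exact key (n - c) le_rfl

theorem le_side {A : Type u} [CommRing A] (I : Ideal A) {M N : Type u} [AddCommGroup M]
    [Module A M] [AddCommGroup N] [Module A N] (g1 g2 : M →ₗ[A] N) (c : ℕ)
    (har : ∀ n, c ≤ n → ∀ a : M, g1 a ∈ I ^ n • (⊤ : Submodule A N) →
      ∃ a' ∈ I ^ (n - c) • (⊤ : Submodule A M), g1 a' = g1 a)
    (h12 : ∀ y : M, g1 y - g2 y ∈ I ^ (c + 1) • (⊤ : Submodule A N)) (n : ℕ) :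
    I ^ (n + 1) • (⊤ : Submodule A N) ⊔ (LinearMap.range g1 ⊓ I ^ n • (⊤ : Submodule A N)) ≤
      I ^ (n + 1) • (⊤ : Submodule A N) ⊔
        (LinearMap.range g2 ⊓ I ^ n • (⊤ : Submodule A N)) := by
  refine sup_le le_sup_left ?_
  rintro y ⟨⟨a, rfl⟩, hy⟩
  obtain ⟨x, hx1, hx2⟩ : ∃ x : M, g1 x = g1 a ∧
      (g1 - g2) x ∈ I ^ (n + 1) • (⊤ : Submodule A N) := by
    by_cases hcn : c ≤ n
    · obtain ⟨x, hx, hgx⟩ := har n hcn a hy
      refine ⟨x, hgx, ?_⟩
      have h4 := delta_mem I (g1 - g2) (c+1)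
        (fun y => by rw [LinearMap.sub_apply]; exact h12 y) (n - c) x hx
      have e : n - c + (c + 1) = n + 1 := by omega
      rwa [e] at h4
    · refine ⟨a, rfl, ?_⟩
      rw [LinearMap.sub_apply]
      exact Submodule.smul_mono_left (Ideal.pow_le_pow_right (by omega)) (h12 a)
  have hg2x : g2 x ∈ I ^ n • (⊤ : Submodule A N) := by
    have h3 : g2 x = g1 a - (g1 - g2) x := by rw [LinearMap.sub_apply, hx1]; abel
    rw [h3]
    exact Submodule.sub_mem _ hy
      (Submodule.smul_mono_left (Ideal.pow_le_pow_right (Nat.le_succ n)) hx2)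
  have h5 : g1 a = (g1 - g2) x + g2 x := by rw [LinearMap.sub_apply, hx1]; abel
  rw [h5]
  exact Submodule.add_mem_sup hx2 ⟨⟨x, rfl⟩, hg2x⟩

/-- Let `A` be a Noetherian ring, `I ⊆ A` an ideal inside the Jacobson radical, and `L → M → N` two
complexes `(f, g)` and `(f', g')` of finite `A`-modules with `f' ≡ f` modulo `I^{c+1}M` and `g' ≡ g`
modulo `I^{c+1}N`, such that the Artin–Rees bound holds with constant `c` for both `f` and `g`, and
`(f, g)` is exact. Then for every `n` the submodules `I^{n+1}N + g(M) ∩ IⁿN` and `I^{n+1}N + g'(M) ∩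
IⁿN` of `N` are equal; consequently the associated graded modules of `Coker g` and `Coker g'` with
respect to `I` coincide degreewise as subquotients of `N`. -/
theorem result {A : Type u} [CommRing A] [IsNoetherianRing A] (I : Ideal A)
    (hI : I ≤ Ideal.jacobson (⊥ : Ideal A)) {L M N : Type u} [AddCommGroup L] [Module A L] [Module.Finite A L]
    [AddCommGroup M] [Module A M] [Module.Finite A M] [AddCommGroup N] [Module A N] [Module.Finite A N]
    (f f' : L →ₗ[A] M) (g g' : M →ₗ[A] N) (c : ℕ) (hgf : g.comp f = 0) (hgf' : g'.comp f' = 0)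
    (hf : (∀ n : ℕ, c ≤ n → LinearMap.range f ⊓ (I ^ n • (⊤ : Submodule A M)) ≤ Submodule.map f (I ^ (n - c) • (⊤ : Submodule A L))))
    (hg : (∀ n : ℕ, c ≤ n → LinearMap.range g ⊓ (I ^ n • (⊤ : Submodule A N)) ≤ Submodule.map g (I ^ (n - c) • (⊤ : Submodule A M))))
    (hex : Function.Exact f g)
    (hff' : ∀ x : L, f x - f' x ∈ I ^ (c + 1) • (⊤ : Submodule A M))
    (hgg' : ∀ y : M, g y - g' y ∈ I ^ (c + 1) • (⊤ : Submodule A N)) (n : ℕ) :
    I ^ (n + 1) • (⊤ : Submodule A N) ⊔ (LinearMap.range g ⊓ I ^ n • (⊤ : Submodule A N)) =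
      I ^ (n + 1) • (⊤ : Submodule A N) ⊔ (LinearMap.range g' ⊓ I ^ n • (⊤ : Submodule A N)) := by
  have hf' : ∀ n, c ≤ n → ∀ b : L, f b ∈ I ^ n • (⊤ : Submodule A M) →
      ∃ b' ∈ I ^ (n - c) • (⊤ : Submodule A L), f b' = f b := by
    intro n hn b hb
    obtain ⟨b', hb', h⟩ := hf n hn ⟨⟨b, rfl⟩, hb⟩
    exact ⟨b', hb', h⟩
  have hg' : ∀ n, c ≤ n → ∀ a : M, g a ∈ I ^ n • (⊤ : Submodule A N) →
      ∃ a' ∈ I ^ (n - c) • (⊤ : Submodule A M), g a' = g a := by
    intro n hn a ha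
    obtain ⟨a', ha', h⟩ := hg n hn ⟨⟨a, rfl⟩, ha⟩
    exact ⟨a', ha', h⟩
  have hX := ar_prime I f f' g g' c hgf' hf' hg' hex hff' hgg'
  refine le_antisymm (le_side I g g' c hg' hgg' n) (le_side I g' g c hX (fun y => ?_) n)
  have h1 := Submodule.neg_mem _ (hgg' y)
  rwa [neg_sub] at h1

end Groth.Agent.S6910
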