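import Groth.Statements.S6911
import Mathlib


set_option autoImplicit false
universe u
open TensorProduct
open CAlg

namespace Groth.Agent.S6911

/-- Let `A → B` be a flat map of Noetherian rings, `I ⊆ A` an ideal and `f : M → N` a map of finite
`A`-modules such that `c` works for `f` in the Artin–Rees lemma (`f(M) ∩ IⁿN ⊆ f(I^{n-c}M)` for `n ≥
c`). Then `c` works for `f ⊗ 1 : M ⊗_A B → N ⊗_A B` and the ideal `IB`. -/
theorem result {A B : Type u} [CommRing A] [IsNoetherianRing A] [CommRing B]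
    [IsNoetherianRing B] [Algebra A B] [Module.Flat A B] (I : Ideal A) {M N : Type u} [AddCommGroup M] [Module A M]
    [Module.Finite A M] [AddCommGroup N] [Module A N] [Module.Finite A N] (f : M →ₗ[A] N) (c : ℕ)
    (hf : (∀ n : ℕ, c ≤ n → LinearMap.range f ⊓ (I ^ n • (⊤ : Submodule A N)) ≤ Submodule.map f (I ^ (n - c) • (⊤ : Submodule A M)))) :
    ∀ n : ℕ, c ≤ n →
      LinearMap.range (f.baseChange B) ⊓ ((I.map (algebraMap A B)) ^ n • (⊤ : Submodule B (B ⊗[A] N))) ≤
        Submodule.map (f.baseChange B) ((I.map (algebraMap A B)) ^ (n - c) • (⊤ : Submodule B (B ⊗[A] M))) := by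
  intro n hn
  obtain ⟨J, hJ⟩ : ∃ J : Ideal B, J = I.map (algebraMap A B) := ⟨_, rfl⟩
  rw [← hJ]
  have hJpow : ∀ k, J ^ k = (I ^ k).map (algebraMap A B) := fun k => by rw [hJ, Ideal.map_pow]
  have hmem : ∀ k (a : A), a ∈ I ^ k → algebraMap A B a ∈ J ^ k := fun k a ha => by
    rw [hJpow]; exact Ideal.mem_map_of_mem _ ha
  obtain ⟨π, hπdef⟩ : ∃ π : N →ₗ[A] N ⧸ (I ^ n • (⊤ : Submodule A N)),
      π = (I ^ n • (⊤ : Submodule A N)).mkQ := ⟨_, rfl⟩
  have hA : ∀ a ∈ I ^ n, ∀ z : B ⊗[A] (N ⧸ (I ^ n • (⊤ : Submodule A N))), a • z = 0 := by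
    intro a ha z
    induction z using TensorProduct.induction_on with
    | zero => rw [smul_zero]
    | tmul b q =>
      obtain ⟨x, rfl⟩ := Submodule.Quotient.mk_surjective _ q
      rw [← TensorProduct.tmul_smul, ← Submodule.Quotient.mk_smul,
        (Submodule.Quotient.mk_eq_zero _).mpr (Submodule.smul_mem_smul ha Submodule.mem_top),
        TensorProduct.tmul_zero]
    | add z1 z2 h1 h2 => rw [smul_add, h1, h2, add_zero]
  have hann : J ^ n ≤ Module.annihilator B (B ⊗[A] (N ⧸ (I ^ n • (⊤ : Submodule A N)))) := by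
    rw [hJpow, Ideal.map_le_iff_le_comap]
    intro a ha
    rw [Ideal.mem_comap, Module.mem_annihilator]
    intro z
    rw [algebraMap_smul]
    exact hA a ha z
  have hπ : ∀ y ∈ J ^ n • (⊤ : Submodule B (B ⊗[A] N)), (π.baseChange B) y = 0 := by
    intro y hy
    refine Submodule.smul_induction_on hy (fun r hr y' _ => ?_) (fun y1 y2 h1 h2 => ?_)
    · rw [map_smul]
      exact Module.mem_annihilator.mp (hann hr) _
    · rw [map_add, h1, h2, add_zero]
  have hker : LinearMap.ker (π ∘ₗ f) ≤ I ^ (n - c) • (⊤ : Submodule A M) ⊔ LinearMap.ker f := by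
    intro m hm
    rw [LinearMap.mem_ker, LinearMap.comp_apply, hπdef] at hm
    have h1 : f m ∈ I ^ n • (⊤ : Submodule A N) := (Submodule.Quotient.mk_eq_zero _).mp hm
    obtain ⟨m', hm', hfm'⟩ := hf n hn ⟨⟨m, rfl⟩, h1⟩
    have h2 : m = m' + (m - m') := by abel
    rw [h2]
    exact Submodule.add_mem_sup hm' (by rw [LinearMap.mem_ker, map_sub, hfm', sub_self])
  have hrange : ∀ t : B ⊗[A] (LinearMap.ker (π ∘ₗ f)),
      (LinearMap.lTensor B (LinearMap.ker (π ∘ₗ f)).subtype) t ∈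
        (J ^ (n - c) • (⊤ : Submodule B (B ⊗[A] M)) ⊔ LinearMap.ker (f.baseChange B)) := by
    intro t
    induction t using TensorProduct.induction_on with
    | zero => rw [map_zero]; exact Submodule.zero_mem _
    | tmul b κ =>
      rw [LinearMap.lTensor_tmul]
      obtain ⟨u, hu, v, hv, huv⟩ := Submodule.mem_sup.mp (hker κ.2)
      show b ⊗ₜ[A] (κ : M) ∈ _
      rw [← huv, TensorProduct.tmul_add]
      refine Submodule.add_mem_sup ?_ ?_
      · refine Submodule.smul_induction_on hu (fun a ha m _ => ?_) (fun u1 u2 h1 h2 => ?_)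
        · rw [TensorProduct.tmul_smul, ← algebraMap_smul B a (b ⊗ₜ[A] m)]
          exact Submodule.smul_mem_smul (hmem _ a ha) Submodule.mem_top
        · rw [TensorProduct.tmul_add]; exact Submodule.add_mem _ h1 h2
      · rw [LinearMap.mem_ker, LinearMap.baseChange_tmul, LinearMap.mem_ker.mp hv,
          TensorProduct.tmul_zero]
    | add t1 t2 h1 h2 => rw [map_add]; exact Submodule.add_mem _ h1 h2
  rintro y ⟨⟨x, rfl⟩, hy⟩
  have hx0 : (LinearMap.lTensor B (π ∘ₗ f)) x = 0 := by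
    have h1 : (LinearMap.lTensor B (π ∘ₗ f)) x = (π.baseChange B) ((f.baseChange B) x) := by
      rw [LinearMap.lTensor_comp]; rfl
    rw [h1]; exact hπ _ hy
  have hex := Module.Flat.lTensor_exact B (LinearMap.exact_subtype_ker_map (π ∘ₗ f))
  obtain ⟨t, ht⟩ := (hex x).mp hx0
  have hx := hrange t
  rw [ht] at hx
  obtain ⟨x1, hx1, x2, hx2, hx12⟩ := Submodule.mem_sup.mp hx
  refine ⟨x1, hx1, ?_⟩
  rw [← hx12, map_add, LinearMap.mem_ker.mp hx2, add_zero]

end Groth.Agent.S6911
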