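import Groth.Statements.S6913
import Mathlib


set_option autoImplicit false
universe u
open CAlg

namespace Groth.Agent.S6913

theorem star (R : Type u) [CommRing R] [IsDomain R] (M : Type u) [AddCommGroup M]
    [Module R M] [Module.Finite R M] :
    ∃ (v : Fin (Module.finrank R M) → M) (f : R), LinearIndependent R v ∧ f ≠ 0 ∧
      ∀ m, f • m ∈ Submodule.span R (Set.range v) := by
  classical
  obtain ⟨v, hv⟩ := exists_linearIndependent_of_le_finrank (R := R) (M := M)
    (n := Module.finrank R M) le_rfl
  have h1 : ∀ m : M, ∃ c : R, c ≠ 0 ∧ c • m ∈ Submodule.span R (Set.range v) := by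
    intro m
    have hnot : ¬ LinearIndependent R (Fin.cons m v : Fin (Module.finrank R M + 1) → M) := by
      intro hli
      have h2 := hli.fintype_card_le_finrank
      rw [Fintype.card_fin] at h2
      omega
    rw [Fintype.not_linearIndependent_iff] at hnot
    obtain ⟨g, hg, i, hi⟩ := hnot
    rw [Fin.sum_univ_succ] at hg
    simp only [Fin.cons_zero, Fin.cons_succ] at hg
    refine ⟨g 0, ?_, ?_⟩
    · intro h0
      rw [h0, zero_smul, zero_add] at hg
      have h3 := (Fintype.linearIndependent_iff.mp hv) (fun i => g i.succ) hg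
      apply hi
      exact Fin.cases h0 (fun j => h3 j) i
    · have h3 : g 0 • m = - ∑ i, g i.succ • v i := eq_neg_of_add_eq_zero_left hg
      rw [h3]
      exact Submodule.neg_mem _ (Submodule.sum_mem _ fun i _ =>
        Submodule.smul_mem _ _ (Submodule.subset_span ⟨i, rfl⟩))
  choose c hc0 hc using h1
  obtain ⟨s, hs⟩ := (Module.Finite.fg_top : (⊤ : Submodule R M).FG)
  refine ⟨v, ∏ x ∈ s, c x, hv, Finset.prod_ne_zero_iff.mpr (fun x _ => hc0 x), ?_⟩
  intro m
  have hm : m ∈ Submodule.span R (s : Set M) := by rw [hs]; trivial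
  induction hm using Submodule.span_induction with
  | mem x hx =>
    rw [← Finset.mul_prod_erase s c hx, mul_comm, mul_smul]
    exact Submodule.smul_mem _ _ (hc x)
  | zero => rw [smul_zero]; exact Submodule.zero_mem _
  | add x y _ _ hx hy => rw [smul_add]; exact Submodule.add_mem _ hx hy
  | smul a x _ hx => rw [smul_comm]; exact Submodule.smul_mem _ a hx

/-- Let `R` be a domain and `M` a finite `R`-module, of (finite) rank `r`. Then: some linear map `M →
R^r` has torsion kernel and torsion cokernel; some nonzero `f ∈ R` makes `M_f` free of rank `r` over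
`R_f`; and some injective linear map `R^r → M` has torsion cokernel. -/
theorem result (R : Type u) [CommRing R] [IsDomain R] (M : Type u) [AddCommGroup M]
    [Module R M] [Module.Finite R M] :
    (∃ h : M →ₗ[R] (Fin (Module.finrank R M) → R),
      (∀ x : M, h x = 0 → ∃ c : R, c ≠ 0 ∧ c • x = 0) ∧
      (∀ y : Fin (Module.finrank R M) → R, ∃ c : R, c ≠ 0 ∧ c • y ∈ LinearMap.range h)) ∧
    (∃ f : R, f ≠ 0 ∧ Module.Free (Localization.Away f) (LocalizedModule (Submonoid.powers f) M) ∧
      Module.finrank (Localization.Away f) (LocalizedModule (Submonoid.powers f) M) = Module.finrank R M) ∧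
    (∃ g : (Fin (Module.finrank R M) → R) →ₗ[R] M, Function.Injective g ∧
      ∀ x : M, ∃ c : R, c ≠ 0 ∧ c • x ∈ LinearMap.range g) := by
  obtain ⟨v, f, hv, hf0, hfm⟩ := star R M
  obtain ⟨g, hgdef⟩ : ∃ g : (Fin (Module.finrank R M) → R) →ₗ[R] M,
      g = Fintype.linearCombination R v := ⟨_, rfl⟩
  have hginj : Function.Injective g := by
    rw [hgdef]; exact linearIndependent_iff_injective_fintypeLinearCombination.mp hv
  have hrange : LinearMap.range g = Submodule.span R (Set.range v) := by
    rw [hgdef, Fintype.range_linearCombination]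
  have hr : ∀ m, (f • (LinearMap.id : M →ₗ[R] M)) m ∈ LinearMap.range g := fun m => by
    rw [hrange]; exact hfm m
  obtain ⟨h, hgh⟩ : ∃ h : M →ₗ[R] (Fin (Module.finrank R M) → R), ∀ m, g (h m) = f • m := by
    refine ⟨(LinearEquiv.ofInjective g hginj).symm.toLinearMap ∘ₗ
      LinearMap.codRestrict (LinearMap.range g) (f • LinearMap.id) hr, fun m => ?_⟩
    have h1 : ((LinearEquiv.ofInjective g hginj) ((LinearEquiv.ofInjective g hginj).symm
        (LinearMap.codRestrict (LinearMap.range g) (f • LinearMap.id) hr m)) : M) = f • m := by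
      rw [LinearEquiv.apply_symm_apply]; rfl
    exact h1
  refine ⟨⟨h, ?_, ?_⟩, ⟨f, hf0, ?_⟩, ⟨g, hginj, ?_⟩⟩
  · intro x hx
    refine ⟨f, hf0, ?_⟩
    rw [← hgh x, hx, map_zero]
  · intro y
    refine ⟨f, hf0, g y, ?_⟩
    apply hginj
    rw [hgh, map_smul]
  · haveI : IsDomain (Localization.Away f) :=
      IsLocalization.isDomain_localization (powers_le_nonZeroDivisors_of_noZeroDivisors hf0)
    have hli : LinearIndependent (Localization.Away f)
        ((LocalizedModule.mkLinearMap (Submonoid.powers f) M) ∘ v) :=
      hv.of_isLocalizedModule (Localization.Away f) (Submonoid.powers f)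
        (LocalizedModule.mkLinearMap (Submonoid.powers f) M)
    have hsp : ⊤ ≤ Submodule.span (Localization.Away f)
        (Set.range ((LocalizedModule.mkLinearMap (Submonoid.powers f) M) ∘ v)) := by
      intro y _
      induction y using LocalizedModule.induction_on with
      | h m s =>
        have h1 : LocalizedModule.mk m s =
            (Localization.mk 1 (⟨f, Submonoid.mem_powers f⟩ * s) : Localization.Away f) •
              LocalizedModule.mkLinearMap (Submonoid.powers f) M (f • m) := by
          rw [LocalizedModule.mkLinearMap_apply, LocalizedModule.mk_smul_mk, one_smul, mul_one]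
          exact (LocalizedModule.mk_cancel_common_left ⟨f, Submonoid.mem_powers f⟩ s m).symm
        rw [h1]
        refine Submodule.smul_mem _ _ ?_
        have h3 : LocalizedModule.mkLinearMap (Submonoid.powers f) M (f • m) ∈
            Submodule.span R (Set.range
              ((LocalizedModule.mkLinearMap (Submonoid.powers f) M) ∘ v)) := by
          rw [Set.range_comp, ← Submodule.map_span]
          exact Submodule.mem_map_of_mem (hfm m)
        exact Submodule.span_le_restrictScalars R (Localization.Away f) _ h3
    exact ⟨Module.Free.of_basis (Module.Basis.mk hli hsp), by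
      rw [Module.finrank_eq_card_basis (Module.Basis.mk hli hsp), Fintype.card_fin]⟩
  · intro x
    exact ⟨f, hf0, by rw [hrange]; exact hfm x⟩

end Groth.Agent.S6913
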