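import Groth.Statements.S6916
import Mathlib

set_option autoImplicit false
universe u
open TensorProduct
open EtAlg

namespace Groth.Agent.S6916

/-- Let `B' = B ×_A A'` be a fibre square of rings with `A' → A` surjective and `L'` any `B'`-module.
Then the canonical map from `L'` to the glueing of `(L' ⊗_{B'} B, L' ⊗_{B'} A')` is surjective:
every pair `(x, y) ∈ (B ⊗_{B'} L') × (A' ⊗_{B'} L')` with equal images in `A ⊗_{B'} L'` is of the
form `(1 ⊗ l, 1 ⊗ l)`. (It is in general not injective.) -/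
theorem result (B' B A' A : Type u) [CommRing B'] [CommRing B] [CommRing A'] [CommRing A]
    [Algebra B' B] [Algebra B' A'] [Algebra B A] [Algebra A' A] [Algebra B' A] [IsScalarTower B' B A] [IsScalarTower B' A' A]
    (hsq : EtMil.IsFibreSquare B' B A' A)
    (L' : Type u) [AddCommGroup L'] [Module B' L'] (x : B ⊗[B'] L') (y : A' ⊗[B'] L')
    (hxy : (IsScalarTower.toAlgHom B' B A).toLinearMap.rTensor L' x = (IsScalarTower.toAlgHom B' A' A).toLinearMap.rTensor L' y) :
    ∃ l : L', (1 : B) ⊗ₜ[B'] l = x ∧ (1 : A') ⊗ₜ[B'] l = y := by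
  obtain ⟨hsurj, hfib⟩ := hsq
  have hBsurj : Function.Surjective (algebraMap B' B) := by
    intro b
    obtain ⟨a', ha'⟩ := hsurj (algebraMap B A b)
    obtain ⟨b', ⟨hb'1, _⟩, _⟩ := hfib b a' ha'.symm
    exact ⟨b', hb'1⟩
  have honeB : ∀ z : B ⊗[B'] L', ∃ l : L', z = (1 : B) ⊗ₜ[B'] l := by
    intro z
    induction z using TensorProduct.induction_on with
    | zero => exact ⟨0, (TensorProduct.tmul_zero _ _).symm⟩
    | tmul b l =>
      obtain ⟨b', rfl⟩ := hBsurj b
      refine ⟨b' • l, ?_⟩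
      rw [Algebra.algebraMap_eq_smul_one, TensorProduct.smul_tmul]
    | add z w hz hw =>
      obtain ⟨l₁, rfl⟩ := hz
      obtain ⟨l₂, rfl⟩ := hw
      exact ⟨l₁ + l₂, (TensorProduct.tmul_add _ _ _).symm⟩
  obtain ⟨l₀, rfl⟩ := honeB x
  set gA' : A' →ₗ[B'] A := (IsScalarTower.toAlgHom B' A' A).toLinearMap with hgA'
  set gB : B →ₗ[B'] A := (IsScalarTower.toAlgHom B' B A).toLinearMap with hgB
  have hgA'surj : Function.Surjective gA' := fun a => hsurj a
  have hy' : (gA'.rTensor L') (y - (1 : A') ⊗ₜ[B'] l₀) = 0 := by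
    rw [map_sub, ← hxy, LinearMap.rTensor_tmul, LinearMap.rTensor_tmul]
    have h1 : gB 1 = 1 := map_one (IsScalarTower.toAlgHom B' B A)
    have h2 : gA' 1 = 1 := map_one (IsScalarTower.toAlgHom B' A' A)
    rw [h1, h2, sub_self]
  have hex : Function.Exact ((LinearMap.ker gA').subtype.rTensor L') (gA'.rTensor L') :=
    rTensor_exact L' (LinearMap.exact_subtype_ker_map gA') hgA'surj
  obtain ⟨z, hz⟩ := (hex _).mp hy'
  have hK : ∀ z : (LinearMap.ker gA') ⊗[B'] L', ∃ lam : L',
      ((LinearMap.ker gA').subtype.rTensor L') z = (1 : A') ⊗ₜ[B'] lam ∧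
        (1 : B) ⊗ₜ[B'] lam = 0 := by
    intro z
    induction z using TensorProduct.induction_on with
    | zero => exact ⟨0, by rw [map_zero, TensorProduct.tmul_zero], TensorProduct.tmul_zero _ _⟩
    | tmul κ l =>
      have hκ : algebraMap A' A (κ : A') = 0 := LinearMap.mem_ker.mp κ.2
      obtain ⟨j, ⟨hj1, hj2⟩, _⟩ := hfib 0 (κ : A') (by rw [map_zero, hκ])
      refine ⟨j • l, ?_, ?_⟩
      · rw [LinearMap.rTensor_tmul, Submodule.subtype_apply, ← hj2,
          Algebra.algebraMap_eq_smul_one, TensorProduct.smul_tmul]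
      · rw [← TensorProduct.smul_tmul, ← Algebra.algebraMap_eq_smul_one, hj1,
          TensorProduct.zero_tmul]
    | add z w hz hw =>
      obtain ⟨lam₁, h1, h1'⟩ := hz
      obtain ⟨lam₂, h2, h2'⟩ := hw
      exact ⟨lam₁ + lam₂, by rw [map_add, h1, h2, TensorProduct.tmul_add],
        by rw [TensorProduct.tmul_add, h1', h2', add_zero]⟩
  obtain ⟨lam, hlam1, hlam2⟩ := hK z
  refine ⟨l₀ + lam, ?_, ?_⟩
  · rw [TensorProduct.tmul_add, hlam2, add_zero]
  · rw [TensorProduct.tmul_add, ← hlam1, hz]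
    abel

end Groth.Agent.S6916
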