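import Groth.Statements.S6929
import Mathlib
import Groth.Agent.S2017


set_option autoImplicit false
universe u
open EtAlg

namespace Groth.Agent.S6929

theorem pi_finiteType (R : Type u) [CommRing R] {ι : Type u} [Fintype ι] [DecidableEq ι]
    (A : ι → Type u) [∀ i, CommRing (A i)] [∀ i, Algebra R (A i)]
    (hA : ∀ i, Algebra.FiniteType R (A i)) : Algebra.FiniteType R (∀ i, A i) := by
  classical
  choose s hs using fun i => (hA i).out
  refine ⟨⟨Finset.univ.biUnion (fun i => insert (Pi.single i 1)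
    ((s i).image (Pi.single i))), ?_⟩⟩
  obtain ⟨T, hT⟩ : ∃ T : Subalgebra R (∀ i, A i), T = Algebra.adjoin R
    (↑(Finset.univ.biUnion (fun i => insert (Pi.single i 1)
      ((s i).image (Pi.single i)))) : Set (∀ i, A i)) := ⟨_, rfl⟩
  rw [← hT, eq_top_iff]
  have hsub : ∀ i (z : ∀ i, A i), z ∈ insert (Pi.single i 1) ((s i).image (Pi.single i)) →
      z ∈ T := by
    intro i z hz
    rw [hT]
    apply Algebra.subset_adjoin
    rw [Finset.mem_coe, Finset.mem_biUnion]
    exact ⟨i, Finset.mem_univ i, hz⟩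
  have he : ∀ i, (Pi.single i 1 : ∀ i, A i) ∈ T := fun i =>
    hsub i _ (Finset.mem_insert_self _ _)
  have hsing : ∀ i (y : A i), (Pi.single i y : ∀ i, A i) ∈ T := by
    intro i y
    have hy : y ∈ Algebra.adjoin R (↑(s i) : Set (A i)) := by rw [hs i]; trivial
    induction hy using Algebra.adjoin_induction with
    | mem y hy =>
      exact hsub i _ (Finset.mem_insert_of_mem (Finset.mem_image_of_mem _ hy))
    | algebraMap r =>
      have : (Pi.single i (algebraMap R (A i) r) : ∀ i, A i) = r • Pi.single i 1 := by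
        rw [← Pi.single_smul, Algebra.smul_def, mul_one]
      rw [this]; exact T.smul_mem (he i) r
    | add y z _ _ hy hz => rw [Pi.single_add]; exact T.add_mem hy hz
    | mul y z _ _ hy hz => rw [Pi.single_mul]; exact T.mul_mem hy hz
  intro x _
  have : x = ∑ i, Pi.single i (x i) := (Finset.univ_sum_single x).symm
  rw [this]
  exact T.sum_mem fun i _ => hsing i (x i)

/-- Let `R` be a Noetherian ring, `ι` a finite index type, and `φ_i : A_i → B_i`, `ψ_i : Q → B_i`
surjective `R`-algebra maps, where `Q` and all `A_i`, `B_i` are `R`-algebras of finite type. Then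
the fibre product ring `P = Q ×_{∏ B_i} ∏ A_i` (pairs `(q, a)` with `ψ_i(q) = φ_i(a_i)` for all `i`)
is an `R`-algebra of finite type. -/
theorem result (R : Type u) [CommRing R] [IsNoetherianRing R] {ι : Type u} [Fintype ι]
    (Q : Type u) [CommRing Q] [Algebra R Q] [Algebra.FiniteType R Q] (A B : ι → Type u) [∀ i, CommRing (A i)]
    [∀ i, CommRing (B i)] [∀ i, Algebra R (A i)] [∀ i, Algebra R (B i)] (hA : ∀ i, Algebra.FiniteType R (A i))
    (hB : ∀ i, Algebra.FiniteType R (B i)) (φ : ∀ i, A i →ₐ[R] B i) (ψ : ∀ i, Q →ₐ[R] B i)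
    (hφ : ∀ i, Function.Surjective (φ i)) (hψ : ∀ i, Function.Surjective (ψ i)) :
    Algebra.FiniteType R ↥(AlgHom.equalizer ((AlgHom.pi ψ).comp (AlgHom.fst R Q (∀ i, A i)))
      ((AlgHom.pi fun i => (φ i).comp (Pi.evalAlgHom R A i)).comp (AlgHom.snd R Q (∀ i, A i)))) := by
  classical
  haveI : Algebra.FiniteType R (∀ i, A i) := pi_finiteType R A hA
  haveI : Algebra.FiniteType R (∀ i, B i) := pi_finiteType R B hB
  obtain ⟨f, hfdef⟩ : ∃ f : (∀ i, A i) →ₐ[R] (∀ i, B i),
    f = AlgHom.pi fun i => (φ i).comp (Pi.evalAlgHom R A i) := ⟨_, rfl⟩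
  obtain ⟨g, hgdef⟩ : ∃ g : Q →ₐ[R] (∀ i, B i), g = AlgHom.pi ψ := ⟨_, rfl⟩
  rw [← hfdef, ← hgdef]
  have hf : Function.Surjective f := by
    intro b
    choose a ha using fun i => hφ i (b i)
    refine ⟨a, ?_⟩
    rw [hfdef]
    exact funext fun i => ha i
  have hg : g.toRingHom.Finite := by
    letI := g.toRingHom.toAlgebra
    show Module.Finite Q (∀ i, B i)
    have key : ∀ (q : Q) (x : ∀ i, B i) (j : ι), (q • x) j = ψ j q * x j := by
      intro q x j
      show (g q * x) j = ψ j q * x j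
      rw [hgdef]
      rfl
    refine Module.Finite.of_surjective
      (Fintype.linearCombination Q (fun i => (Pi.single i 1 : ∀ i, B i))) ?_
    intro b
    choose c hc using fun i => hψ i (b i)
    refine ⟨c, ?_⟩
    rw [Fintype.linearCombination_apply]
    ext j
    rw [Finset.sum_apply, Finset.sum_eq_single j]
    · rw [key, Pi.single_eq_same, mul_one, hc]
    · intro i _ hij
      rw [key, Pi.single_eq_of_ne' hij, mul_zero]
    · intro h; exact absurd (Finset.mem_univ j) h
  have h2017 := Groth.Agent.S2017.result R (∀ i, A i) (∀ i, B i) Q f hf g hg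
  let sw : ↥(AlgHom.equalizer (f.comp (AlgHom.fst R (∀ i, A i) Q))
      (g.comp (AlgHom.snd R (∀ i, A i) Q))) →ₐ[R]
      ↥(AlgHom.equalizer (g.comp (AlgHom.fst R Q (∀ i, A i)))
      (f.comp (AlgHom.snd R Q (∀ i, A i)))) :=
    AlgHom.codRestrict ((AlgHom.prod (AlgHom.snd R (∀ i, A i) Q)
      (AlgHom.fst R (∀ i, A i) Q)).comp (AlgHom.equalizer (f.comp (AlgHom.fst R (∀ i, A i) Q))
      (g.comp (AlgHom.snd R (∀ i, A i) Q))).val) _ (by
        rintro ⟨⟨a, q⟩, hx⟩
        have hx' : f a = g q := hx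
        rw [AlgHom.mem_equalizer]
        exact hx'.symm)
  refine Algebra.FiniteType.of_surjective sw ?_
  rintro ⟨⟨q, a⟩, hy⟩
  have hy' : g q = f a := hy
  exact ⟨⟨(a, q), hy'.symm⟩, Subtype.ext rfl⟩

end Groth.Agent.S6929
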