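import Groth.Statements.S6934
import Mathlib

set_option autoImplicit false
universe u
open EtAlg

namespace Groth.Agent.S6934

/-- Let `s : B → R`, `t : R' → R` be ring maps and `B' = B ×_R R'` the fibre product ring, i.e. a ring
`B'` with maps `p : B' → B`, `q : B' → R'`, `s ∘ p = t ∘ q`, such that `(p, q)` is injective with
image the pairs `(b, r')` with `s(b) = t(r')`. Let `h ∈ B'` with images `g = p(h)`, `f = q(h)`. Then
the square of localizations `B'_h → B_g`, `B'_h → R'_f`, `B_g → R_{s(g)}`, `R'_f → R_{t(f)} =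
R_{s(g)}` (the induced maps) is cartesian as well: `B'_h = B_g ×_{R_{s(g)}} R'_f`. -/
theorem result {B R R' B' : Type u} [CommRing B] [CommRing R] [CommRing R'] [CommRing B']
    (s : B →+* R) (t : R' →+* R) (p : B' →+* B) (q : B' →+* R') (hc : s.comp p = t.comp q)
    (hinj : ∀ x y : B', p x = p y → q x = q y → x = y) (hsurj : ∀ (b : B) (r' : R'), s b = t r' → ∃ x : B', p x = b ∧ q x = r')
    (h : B') (Bh Bg Rf Rsg : Type u) [CommRing Bh] [CommRing Bg] [CommRing Rf] [CommRing Rsg]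
    [Algebra B' Bh] [IsLocalization.Away h Bh] [Algebra B Bg] [IsLocalization.Away (p h) Bg]
    [Algebra R' Rf] [IsLocalization.Away (q h) Rf] [Algebra R Rsg] [IsLocalization.Away (s (p h)) Rsg]
    (pL : Bh →+* Bg) (qL : Bh →+* Rf) (sL : Bg →+* Rsg) (tL : Rf →+* Rsg)
    (hp : pL.comp (algebraMap B' Bh) = (algebraMap B Bg).comp p) (hq : qL.comp (algebraMap B' Bh) = (algebraMap R' Rf).comp q)
    (hs : sL.comp (algebraMap B Bg) = (algebraMap R Rsg).comp s) (ht : tL.comp (algebraMap R' Rf) = (algebraMap R Rsg).comp t) :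
    (∀ x y : Bh, pL x = pL y → qL x = qL y → x = y) ∧
    (∀ (b : Bg) (r : Rf), sL b = tL r → ∃ x : Bh, pL x = b ∧ qL x = r) := by
  classical
  have hp' : ∀ β, pL (algebraMap B' Bh β) = algebraMap B Bg (p β) := fun β => RingHom.congr_fun hp β
  have hq' : ∀ β, qL (algebraMap B' Bh β) = algebraMap R' Rf (q β) := fun β => RingHom.congr_fun hq β
  have hs' : ∀ b, sL (algebraMap B Bg b) = algebraMap R Rsg (s b) := fun b => RingHom.congr_fun hs b
  have ht' : ∀ r, tL (algebraMap R' Rf r) = algebraMap R Rsg (t r) := fun r => RingHom.congr_fun ht r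
  have hc' : ∀ β, s (p β) = t (q β) := fun β => RingHom.congr_fun hc β
  have uh : IsUnit (algebraMap B' Bh h) := IsLocalization.Away.algebraMap_isUnit h
  have ug : IsUnit (algebraMap B Bg (p h)) := IsLocalization.Away.algebraMap_isUnit (p h)
  have uf : IsUnit (algebraMap R' Rf (q h)) := IsLocalization.Away.algebraMap_isUnit (q h)
  have hzero : ∀ z : Bh, pL z = 0 → qL z = 0 → z = 0 := by
    intro z hz1 hz2
    obtain ⟨n, β, hβ⟩ := IsLocalization.Away.surj h z
    have h1 : algebraMap B Bg (p β) = algebraMap B Bg 0 := by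
      rw [← hp', ← hβ, map_mul, hz1, zero_mul, map_zero]
    have h2 : algebraMap R' Rf (q β) = algebraMap R' Rf 0 := by
      rw [← hq', ← hβ, map_mul, hz2, zero_mul, map_zero]
    obtain ⟨m, hm⟩ := IsLocalization.Away.exists_of_eq (p h) h1
    obtain ⟨m', hm'⟩ := IsLocalization.Away.exists_of_eq (q h) h2
    rw [mul_zero] at hm hm'
    have h3 : h ^ (m + m') * β = 0 := by
      apply hinj
      · rw [map_mul, map_pow, pow_add, mul_comm ((p h) ^ m) ((p h) ^ m'), mul_assoc, hm, mul_zero,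
          map_zero]
      · rw [map_mul, map_pow, pow_add, mul_assoc, hm', mul_zero, map_zero]
    have h4 : algebraMap B' Bh β = 0 := by
      have h5 := congrArg (algebraMap B' Bh) h3
      rw [map_mul, map_pow, map_zero] at h5
      exact ((uh.pow _).mul_right_eq_zero).mp h5
    rw [h4] at hβ
    exact ((uh.pow n).mul_left_eq_zero).mp hβ
  refine ⟨fun x y h1 h2 => ?_, ?_⟩
  · have h0 := hzero (x - y) (by rw [map_sub, h1, sub_self]) (by rw [map_sub, h2, sub_self])
    exact sub_eq_zero.mp h0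
  · intro b r hbr
    obtain ⟨n, b₀, hb₀⟩ := IsLocalization.Away.surj (p h) b
    obtain ⟨n', r₀, hr₀⟩ := IsLocalization.Away.surj (q h) r
    have hb₁ : b * algebraMap B Bg (p h) ^ (n + n') = algebraMap B Bg ((p h) ^ n' * b₀) := by
      rw [pow_add, ← mul_assoc, hb₀, map_mul, map_pow, mul_comm]
    have hr₁ : r * algebraMap R' Rf (q h) ^ (n + n') = algebraMap R' Rf ((q h) ^ n * r₀) := by
      rw [pow_add, mul_comm (algebraMap R' Rf (q h) ^ n) (algebraMap R' Rf (q h) ^ n'), ← mul_assoc,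
        hr₀, map_mul, map_pow, mul_comm]
    have hfg : t (q h) = s (p h) := (hc' h).symm
    have e1 : algebraMap R Rsg (s ((p h) ^ n' * b₀)) = algebraMap R Rsg (t ((q h) ^ n * r₀)) := by
      rw [← hs', ← hb₁, ← ht', ← hr₁, map_mul, map_mul, map_pow, map_pow, hs', ht', hfg, hbr]
    obtain ⟨m, hm⟩ := IsLocalization.Away.exists_of_eq (s (p h)) e1
    have e2 : s ((p h) ^ m * ((p h) ^ n' * b₀)) = t ((q h) ^ m * ((q h) ^ n * r₀)) := by
      rw [map_mul, map_pow, map_mul t, map_pow t, hfg]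
      exact hm
    obtain ⟨x₀, hx₀p, hx₀q⟩ := hsurj _ _ e2
    have hwp : pL (((uh.unit⁻¹ : Bhˣ) : Bh)) * algebraMap B Bg (p h) = 1 := by
      rw [← hp', ← map_mul, IsUnit.val_inv_mul, map_one]
    have hwq : qL (((uh.unit⁻¹ : Bhˣ) : Bh)) * algebraMap R' Rf (q h) = 1 := by
      rw [← hq', ← map_mul, IsUnit.val_inv_mul, map_one]
    refine ⟨algebraMap B' Bh x₀ * ((uh.unit⁻¹ : Bhˣ) : Bh) ^ (n + n' + m), ?_, ?_⟩
    · apply ((ug.pow (n + n' + m)).mul_left_inj).mp
      rw [map_mul, map_pow, mul_assoc, ← mul_pow, hwp, one_pow, mul_one, hp', hx₀p,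
        pow_add (algebraMap B Bg (p h)) (n + n') m, ← mul_assoc b, hb₁, map_mul, map_pow, mul_comm]
    · apply ((uf.pow (n + n' + m)).mul_left_inj).mp
      rw [map_mul, map_pow, mul_assoc, ← mul_pow, hwq, one_pow, mul_one, hq', hx₀q,
        pow_add (algebraMap R' Rf (q h)) (n + n') m, ← mul_assoc r, hr₁, map_mul, map_pow, mul_comm]

end Groth.Agent.S6934
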