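import Groth.Statements.S6967
import Mathlib


set_option autoImplicit false
universe u
open CAlg

namespace Groth.Agent.S6967

/-- Let R be a commutative ring, I an ideal of R and 0 → K → P → M → 0 a short exact sequence of
R-modules with P projective. If multiplication by a on M factors through a projective R-module for
every a ∈ I, then multiplication by a on K factors through a projective R-module for every a ∈ I. -/
theorem result (R : Type u) [CommRing R] (I : Ideal R)
    {K P M : Type u} [AddCommGroup K] [Module R K] [AddCommGroup P] [Module R P] [Module.Projective R P]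
    [AddCommGroup M] [Module R M] (f : K →ₗ[R] P) (g : P →ₗ[R] M) (hf : Function.Injective f)
    (hg : Function.Surjective g) (hfg : LinearMap.range f = LinearMap.ker g)
    (hM : ∀ a ∈ I, ∃ (P : Type u) (_ : AddCommGroup P) (_ : Module R P) (_ : Module.Projective R P)
        (f : M →ₗ[R] P) (g : P →ₗ[R] M), g ∘ₗ f = a • LinearMap.id) :
    ∀ a ∈ I, ∃ (P : Type u) (_ : AddCommGroup P) (_ : Module R P) (_ : Module.Projective R P)
        (f : K →ₗ[R] P) (g : P →ₗ[R] K), g ∘ₗ f = a • LinearMap.id := by
  intro a ha
  obtain ⟨Q, _, _, hQ, f', g', hfg'⟩ := hM a ha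
  obtain ⟨h, hh⟩ := Module.projective_lifting_property g g' hg
  have hgf : ∀ k : K, g (f k) = 0 := by
    intro k
    have : f k ∈ LinearMap.ker g := by rw [← hfg]; exact ⟨k, rfl⟩
    exact this
  let θ : P →ₗ[R] P := a • LinearMap.id - h ∘ₗ f' ∘ₗ g
  have hθ : ∀ x, θ x ∈ LinearMap.range f := by
    intro x
    rw [hfg, LinearMap.mem_ker]
    have h1 : g (h (f' (g x))) = g' (f' (g x)) := LinearMap.congr_fun hh (f' (g x))
    have h2 : g' (f' (g x)) = a • g x := LinearMap.congr_fun hfg' (g x)
    simp only [θ, LinearMap.sub_apply, LinearMap.smul_apply, LinearMap.id_apply,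
      LinearMap.comp_apply, map_sub, map_smul]
    rw [h1, h2, sub_self]
  let e := LinearEquiv.ofInjective f hf
  refine ⟨P, inferInstance, inferInstance, inferInstance, f,
    e.symm.toLinearMap ∘ₗ LinearMap.codRestrict (LinearMap.range f) θ hθ, ?_⟩
  ext k
  apply hf
  have h3 : ∀ y : LinearMap.range f, f (e.symm y) = y := by
    intro y
    have h4 : ((e (e.symm y) : LinearMap.range f) : P) = f (e.symm y) := rfl
    rw [← h4, e.apply_symm_apply]
  simp only [LinearMap.comp_apply, LinearEquiv.coe_coe, LinearMap.smul_apply, LinearMap.id_apply]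
  rw [h3]
  simp only [LinearMap.codRestrict_apply, θ, LinearMap.sub_apply, LinearMap.smul_apply,
    LinearMap.id_apply, LinearMap.comp_apply, hgf, map_zero, sub_zero, map_smul]

end Groth.Agent.S6967
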