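import Groth.Statements.S6969
import Mathlib


set_option autoImplicit false
universe u
open CAlg

namespace Groth.Agent.S6969

/-- Let R be a commutative ring and φ : M → N an R-linear map which factors through a projective
R-module. If M is finitely generated, then φ factors through a finitely generated projective
R-module. -/
theorem result (R : Type u) [CommRing R] {M N : Type u} [AddCommGroup M]
    [Module R M] [Module.Finite R M] [AddCommGroup N] [Module R N] (φ : M →ₗ[R] N)
    (h : ∃ (P : Type u) (_ : AddCommGroup P) (_ : Module R P) (_ : Module.Projective R P) (f : M →ₗ[R] P)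
      (g : P →ₗ[R] N), g ∘ₗ f = φ) :
    ∃ (P : Type u) (_ : AddCommGroup P) (_ : Module R P) (_ : Module.Projective R P) (_ : Module.Finite R P)
      (f : M →ₗ[R] P) (g : P →ₗ[R] N), g ∘ₗ f = φ := by
  obtain ⟨P, _, _, hP, f, g, rfl⟩ := h
  obtain ⟨s, hs⟩ := Module.projective_def'.mp hP
  obtain ⟨t0, ht0⟩ := (Module.Finite.fg_top : (⊤ : Submodule R M).FG)
  classical
  let t : Finset P := t0.biUnion (fun m => (s (f m)).support)
  have hmem : ∀ m : M, (s ∘ₗ f) m ∈ Finsupp.supported R R (t : Set P) := by
    intro m
    have hm : m ∈ Submodule.span R (t0 : Set M) := by rw [ht0]; trivial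
    induction hm using Submodule.span_induction with
    | mem x hx =>
      rw [Finsupp.mem_supported]
      intro p hp
      exact Finset.mem_coe.mpr (Finset.mem_biUnion.mpr ⟨x, hx, hp⟩)
    | zero => rw [map_zero]; exact Submodule.zero_mem _
    | add x y _ _ hx hy => rw [map_add]; exact Submodule.add_mem _ hx hy
    | smul a x _ hx => rw [map_smul]; exact Submodule.smul_mem _ a hx
  have e := Finsupp.supportedEquivFinsupp (M := R) (R := R) (t : Set P)
  have hproj : Module.Projective R (Finsupp.supported R R (t : Set P)) :=
    Module.Projective.of_equiv' e.symm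
  have hfin : Module.Finite R (Finsupp.supported R R (t : Set P)) :=
    Module.Finite.equiv e.symm
  refine ⟨Finsupp.supported R R (t : Set P), inferInstance, inferInstance, hproj, hfin,
    LinearMap.codRestrict _ (s ∘ₗ f) hmem,
    g ∘ₗ Finsupp.linearCombination R id ∘ₗ (Finsupp.supported R R (t : Set P)).subtype, ?_⟩
  ext m
  have h1 := LinearMap.congr_fun hs (f m)
  simp only [LinearMap.comp_apply, LinearMap.id_apply] at h1
  simp only [LinearMap.comp_apply, Submodule.subtype_apply, LinearMap.codRestrict_apply]
  rw [h1]

end Groth.Agent.S6969
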