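import Groth.Statements.S7015
import Mathlib

set_option autoImplicit false
universe u
open CategoryTheory MonoidalCategory
open DRing

namespace Groth.Agent.S7015

open TensorProduct in
theorem key1 (R : Type u) [CommRing R] (M N : Type u) [AddCommGroup M] [Module R M]
    [AddCommGroup N] [Module R N]
    (c : R →ₗ[R] TensorProduct R M N) (e : TensorProduct R N M →ₗ[R] R)
    (h : (e.lTensor M) ∘ₗ (TensorProduct.assoc R M N M).toLinearMap ∘ₗ (c.rTensor M) =
      (TensorProduct.rid R M).symm.toLinearMap ∘ₗ (TensorProduct.lid R M).toLinearMap) :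
    Module.Finite R M ∧ Module.Projective R M := by
  classical
  obtain ⟨S, hS⟩ := TensorProduct.exists_finset (c 1)
  have hm : ∀ m : M, ∑ i ∈ S, e (i.2 ⊗ₜ m) • i.1 = m := by
    intro m
    have h1 := LinearMap.congr_fun h (1 ⊗ₜ m)
    simp only [LinearMap.comp_apply, LinearMap.rTensor_tmul, LinearEquiv.coe_coe,
      TensorProduct.lid_tmul, one_smul, TensorProduct.rid_symm_apply] at h1
    rw [hS, TensorProduct.sum_tmul, map_sum, map_sum] at h1
    simp only [TensorProduct.assoc_tmul, LinearMap.lTensor_tmul] at h1
    have h2 := congrArg (TensorProduct.rid R M) h1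
    simp only [map_sum, TensorProduct.rid_tmul, one_smul] at h2
    exact h2
  let f : M →ₗ[R] (S → R) := LinearMap.pi (fun i => e ∘ₗ (TensorProduct.mk R N M i.1.2))
  let g : (S → R) →ₗ[R] M := Fintype.linearCombination R (fun i : S => i.1.1)
  have hgf : g ∘ₗ f = LinearMap.id := by
    ext m
    simp only [LinearMap.comp_apply, LinearMap.id_apply, g, f, Fintype.linearCombination_apply,
      LinearMap.pi_apply, TensorProduct.mk_apply]
    rw [Finset.sum_coe_sort S (fun i => e (i.2 ⊗ₜ m) • i.1)]
    exact hm m
  refine ⟨Module.Finite.of_surjective g ?_, Module.Projective.of_split f g hgf⟩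
  intro m
  exact ⟨f m, LinearMap.congr_fun hgf m⟩

open TensorProduct in
theorem key2 (R : Type u) [CommRing R] (M N : Type u) [AddCommGroup M] [Module R M]
    [AddCommGroup N] [Module R N]
    (c : R →ₗ[R] TensorProduct R M N) (e : TensorProduct R N M →ₗ[R] R)
    (h : (e.rTensor N) ∘ₗ (TensorProduct.assoc R N M N).symm.toLinearMap ∘ₗ (c.lTensor N) =
      (TensorProduct.lid R N).symm.toLinearMap ∘ₗ (TensorProduct.rid R N).toLinearMap) :
    Module.Finite R N ∧ Module.Projective R N := by
  classical
  obtain ⟨S, hS⟩ := TensorProduct.exists_finset (c 1)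
  have hm : ∀ n : N, ∑ i ∈ S, e (n ⊗ₜ i.1) • i.2 = n := by
    intro n
    have h1 := LinearMap.congr_fun h (n ⊗ₜ 1)
    simp only [LinearMap.comp_apply, LinearMap.lTensor_tmul, LinearEquiv.coe_coe,
      TensorProduct.rid_tmul, one_smul, TensorProduct.lid_symm_apply] at h1
    rw [hS, TensorProduct.tmul_sum, map_sum, map_sum] at h1
    simp only [TensorProduct.assoc_symm_tmul, LinearMap.rTensor_tmul] at h1
    have h2 := congrArg (TensorProduct.lid R N) h1
    simp only [map_sum, TensorProduct.lid_tmul, one_smul] at h2
    exact h2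
  let f : N →ₗ[R] (S → R) := LinearMap.pi (fun i => e ∘ₗ (TensorProduct.mk R N M).flip i.1.1)
  let g : (S → R) →ₗ[R] N := Fintype.linearCombination R (fun i : S => i.1.2)
  have hgf : g ∘ₗ f = LinearMap.id := by
    ext n
    simp only [LinearMap.comp_apply, LinearMap.id_apply, g, f, Fintype.linearCombination_apply,
      LinearMap.pi_apply, LinearMap.flip_apply, TensorProduct.mk_apply]
    rw [Finset.sum_coe_sort S (fun i => e (n ⊗ₜ i.1) • i.2)]
    exact hm n
  refine ⟨Module.Finite.of_surjective g ?_, Module.Projective.of_split f g hgf⟩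
  intro n
  exact ⟨f n, LinearMap.congr_fun hgf n⟩


/-- Let R be a commutative ring and M, N R-modules such that N is a left dual of M for the tensor
product of R-modules, i.e. there are a coevaluation R → M ⊗ N and an evaluation N ⊗ M → R satisfying
the triangle identities (an exact pairing). Then M and N are finitely generated projective
R-modules. -/
theorem result (R : Type u) [CommRing R] (M N : Type u) [AddCommGroup M]
    [Module R M] [AddCommGroup N] [Module R N] [ExactPairing (ModuleCat.of R M) (ModuleCat.of R N)] :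
    Module.Finite R M ∧ Module.Projective R M ∧ Module.Finite R N ∧ Module.Projective R N := by
  have hA := congrArg ModuleCat.Hom.hom
    (ExactPairing.evaluation_coevaluation (ModuleCat.of R M) (ModuleCat.of R N))
  have hB := congrArg ModuleCat.Hom.hom
    (ExactPairing.coevaluation_evaluation (ModuleCat.of R M) (ModuleCat.of R N))
  obtain ⟨h1, h2⟩ := key1 R M N (η_ (ModuleCat.of R M) (ModuleCat.of R N)).hom
    (ε_ (ModuleCat.of R M) (ModuleCat.of R N)).hom hA
  obtain ⟨h3, h4⟩ := key2 R M N (η_ (ModuleCat.of R M) (ModuleCat.of R N)).hom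
    (ε_ (ModuleCat.of R M) (ModuleCat.of R N)).hom hB
  exact ⟨h1, h2, h3, h4⟩

end Groth.Agent.S7015
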