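import Groth.Statements.S7040
import Mathlib


set_option autoImplicit false
universe u
open CategoryTheory
open LocCoh

namespace Groth.Agent.S7040

theorem ext_aux {R : Type u} [CommRing R] (I : Ideal R) (hI : I.FG)
    {M : Type u} [AddCommGroup M] [Module R M] (x : M) (n : ℕ)
    (h : ∀ b ∈ I ^ n, ∃ k : ℕ, ∀ c ∈ I ^ k, c • b • x = 0) :
    ∃ N : ℕ, ∀ a ∈ I ^ N, a • x = 0 := by
  classical
  obtain ⟨s, hs⟩ : (I ^ n).FG := Ideal.FG.pow hI
  have h2 : ∀ b ∈ s, ∃ k : ℕ, ∀ c ∈ I ^ k, c • b • x = 0 := fun b hb =>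
    h b (hs ▸ Ideal.subset_span hb)
  choose! kf hkf using h2
  have h3 : ∀ b ∈ s, ∀ c ∈ I ^ (s.sup kf), c • b • x = 0 := fun b hb c hc =>
    hkf b hb c (Ideal.pow_le_pow_right (Finset.le_sup hb) hc)
  have h4 : ∀ b ∈ Ideal.span (s : Set R), ∀ c ∈ I ^ (s.sup kf), c • b • x = 0 := by
    intro b hb c hc
    induction hb using Submodule.span_induction with
    | mem b hb => exact h3 b hb c hc
    | zero => simp
    | add b b' _ _ h h' => rw [add_smul, smul_add, h, h', add_zero]
    | smul r b _ h => rw [smul_assoc, smul_comm c r, h, smul_zero]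
  refine ⟨s.sup kf + n, fun a ha => ?_⟩
  rw [pow_add] at ha
  refine Submodule.mul_induction_on ha ?_ ?_
  · intro c hc b hb
    rw [mul_smul]
    exact h4 b (by rw [hs]; exact hb) c hc
  · intro c c' h h'
    rw [add_smul, h, h', add_zero]

/-- For a finitely generated ideal I of a commutative ring R, the property of being an I-power torsion
module (every element killed by a power of I) is a Serre class in the category of R-modules: it
holds for 0 and is closed under subobjects, quotients and extensions. -/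
theorem result {R : Type u} [CommRing R] (I : Ideal R) (hI : I.FG) :
    ObjectProperty.IsSerreClass (C := ModuleCat.{u} R) (fun M => LocCoh.IsPowerTorsion I M) := by
  refine { exists_zero := ?_, prop_of_mono := ?_, prop_of_epi := ?_, prop_X₂_of_shortExact := ?_ }
  · refine ⟨ModuleCat.of R PUnit, ModuleCat.isZero_of_subsingleton _, ?_⟩
    intro m
    exact ⟨0, fun a _ => Subsingleton.elim _ _⟩
  · intro X Y f hf hY x
    have hinj : Function.Injective f.hom := (ModuleCat.mono_iff_injective f).mp hf
    obtain ⟨n, hn⟩ := hY (f.hom x)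
    refine ⟨n, fun a ha => hinj ?_⟩
    rw [map_smul, hn a ha, map_zero]
  · intro X Y f hf hX y
    have hsurj : Function.Surjective f.hom := (ModuleCat.epi_iff_surjective f).mp hf
    obtain ⟨x, rfl⟩ := hsurj y
    obtain ⟨n, hn⟩ := hX x
    refine ⟨n, fun a ha => ?_⟩
    rw [← map_smul, hn a ha, map_zero]
  · intro S hS h1 h3 x
    have hex := (CategoryTheory.ShortComplex.moduleCat_exact_iff S).mp hS.exact
    obtain ⟨n, hn⟩ := h3 (S.g.hom x)
    refine ext_aux I hI x n (fun b hb => ?_)
    have hg : S.g.hom (b • x) = 0 := by rw [map_smul, hn b hb]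
    obtain ⟨y, hy⟩ := hex (b • x) hg
    obtain ⟨k, hk⟩ := h1 y
    refine ⟨k, fun c hc => ?_⟩
    have hy' : S.f.hom y = b • x := hy
    rw [← hy', ← map_smul, hk c hc, map_zero]

end Groth.Agent.S7040
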