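import Groth.Statements.S7041
import Mathlib


set_option autoImplicit false
universe u
open TensorProduct
open LocCoh

namespace Groth.Agent.S7041

/-- Let R → R' be a homomorphism of commutative rings and I an ideal of R such that the induced map
R/I^n → R'/I^n R' is bijective for every n > 0. Then for every R-module M in which every element is
killed by a power of I, the map M → R' ⊗_R M sending m to 1 ⊗ m is bijective. -/
theorem result {R R' : Type u} [CommRing R] [CommRing R'] [Algebra R R']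
    (I : Ideal R)
    (hq : ∀ n : ℕ, 0 < n → Function.Bijective
      (Ideal.quotientMap (Ideal.map (algebraMap R R') (I ^ n)) (algebraMap R R') Ideal.le_comap_map))
    (M : Type u) [AddCommGroup M] [Module R M] (hM : LocCoh.IsPowerTorsion I M) :
    Function.Bijective (fun m : M => (1 : R') ⊗ₜ[R] m) := by
  classical
  -- injectivity and surjectivity of the quotient maps, unfolded
  have inj_aux : ∀ n : ℕ, 0 < n → ∀ r : R,
      algebraMap R R' r ∈ Ideal.map (algebraMap R R') (I ^ n) → r ∈ I ^ n := by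
    intro n hn r hr
    have h1 : Ideal.quotientMap (Ideal.map (algebraMap R R') (I ^ n)) (algebraMap R R')
        Ideal.le_comap_map (Ideal.Quotient.mk (I ^ n) r) = 0 := by
      rw [Ideal.quotientMap_mk, Ideal.Quotient.eq_zero_iff_mem]
      exact hr
    have h2 := (hq n hn).1 (h1.trans (map_zero _).symm)
    exact Ideal.Quotient.eq_zero_iff_mem.mp h2
  have hlift : ∀ (n : ℕ) (r' : R'), ∃ r : R, 0 < n →
      algebraMap R R' r - r' ∈ Ideal.map (algebraMap R R') (I ^ n) := by
    intro n r'
    by_cases hn : 0 < n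
    · obtain ⟨x, hx⟩ := (hq n hn).2 (Ideal.Quotient.mk _ r')
      obtain ⟨r, rfl⟩ := Ideal.Quotient.mk_surjective x
      rw [Ideal.quotientMap_mk, Ideal.Quotient.eq] at hx
      exact ⟨r, fun _ => hx⟩
    · exact ⟨0, fun h => absurd h hn⟩
  choose ρ hρ using hlift
  have hn : ∀ m : M, ∃ n : ℕ, 0 < n ∧ ∀ a ∈ I ^ n, a • m = 0 := fun m => by
    obtain ⟨n, h⟩ := hM m
    exact ⟨n + 1, Nat.succ_pos n, fun a ha => h a (Ideal.pow_le_pow_right (Nat.le_succ n) ha)⟩
  choose nM hnM0 hnM using hn
  obtain ⟨act, hact⟩ : ∃ act : R' → M → M, ∀ r' m, act r' m = ρ (nM m) r' • m := ⟨_, fun _ _ => rfl⟩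
  have CH : ∀ (r' : R') (m : M) (n : ℕ), 0 < n → (∀ a ∈ I ^ n, a • m = 0) → ∀ r : R,
      algebraMap R R' r - r' ∈ Ideal.map (algebraMap R R') (I ^ n) → act r' m = r • m := by
    intro r' m n hn0 hkill r hr
    rw [hact]
    have hk0 : 0 < min n (nM m) := lt_min hn0 (hnM0 m)
    have hk_kill : ∀ a ∈ I ^ (min n (nM m)), a • m = 0 := by
      rcases le_total n (nM m) with h | h
      · rw [min_eq_left h]; exact hkill
      · rw [min_eq_right h]; exact hnM m
    have h1 : algebraMap R R' (ρ (nM m) r' - r) ∈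
        Ideal.map (algebraMap R R') (I ^ (min n (nM m))) := by
      have e : algebraMap R R' (ρ (nM m) r' - r) =
          (algebraMap R R' (ρ (nM m) r') - r') - (algebraMap R R' r - r') := by
        rw [map_sub]; ring
      rw [e]
      exact sub_mem
        (Ideal.map_mono (Ideal.pow_le_pow_right (min_le_right _ _)) (hρ (nM m) r' (hnM0 m)))
        (Ideal.map_mono (Ideal.pow_le_pow_right (min_le_left _ _)) hr)
    have h2 := hk_kill _ (inj_aux _ hk0 _ h1)
    rw [sub_smul, sub_eq_zero] at h2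
    exact h2
  have hact_self : ∀ r' m, act r' m = ρ (nM m) r' • m := hact
  let β : R' →ₗ[R] M →ₗ[R] M := LinearMap.mk₂ R act
    (by
      intro r1 r2 m
      rw [CH (r1 + r2) m (nM m) (hnM0 m) (hnM m) (ρ (nM m) r1 + ρ (nM m) r2) (by
        have e : algebraMap R R' (ρ (nM m) r1 + ρ (nM m) r2) - (r1 + r2) =
            (algebraMap R R' (ρ (nM m) r1) - r1) + (algebraMap R R' (ρ (nM m) r2) - r2) := by
          rw [map_add]; ring
        rw [e]
        exact add_mem (hρ _ _ (hnM0 m)) (hρ _ _ (hnM0 m))), hact, hact, add_smul])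
    (by
      intro c r1 m
      rw [CH (c • r1) m (nM m) (hnM0 m) (hnM m) (c * ρ (nM m) r1) (by
        have e : algebraMap R R' (c * ρ (nM m) r1) - c • r1 =
            algebraMap R R' c * (algebraMap R R' (ρ (nM m) r1) - r1) := by
          rw [map_mul, Algebra.smul_def]; ring
        rw [e]
        exact Ideal.mul_mem_left _ _ (hρ _ _ (hnM0 m))), hact, mul_smul])
    (by
      intro r1 m1 m2
      have hmax0 : 0 < max (nM m1) (nM m2) := lt_max_of_lt_left (hnM0 m1)
      have hk1 : ∀ a ∈ I ^ (max (nM m1) (nM m2)), a • m1 = 0 := fun a ha =>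
        hnM m1 a (Ideal.pow_le_pow_right (le_max_left _ _) ha)
      have hk2 : ∀ a ∈ I ^ (max (nM m1) (nM m2)), a • m2 = 0 := fun a ha =>
        hnM m2 a (Ideal.pow_le_pow_right (le_max_right _ _) ha)
      have hk12 : ∀ a ∈ I ^ (max (nM m1) (nM m2)), a • (m1 + m2) = 0 := fun a ha => by
        rw [smul_add, hk1 a ha, hk2 a ha, add_zero]
      have hr := hρ (max (nM m1) (nM m2)) r1 hmax0
      rw [CH r1 (m1 + m2) _ hmax0 hk12 _ hr, CH r1 m1 _ hmax0 hk1 _ hr,
        CH r1 m2 _ hmax0 hk2 _ hr, smul_add])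
    (by
      intro c r1 m
      have hk : ∀ a ∈ I ^ (nM m), a • (c • m) = 0 := fun a ha => by
        rw [smul_comm, hnM m a ha, smul_zero]
      have hr := hρ (nM m) r1 (hnM0 m)
      rw [CH r1 (c • m) _ (hnM0 m) hk _ hr, CH r1 m _ (hnM0 m) (hnM m) _ hr, smul_comm])
  have hβ : ∀ r' m, β r' m = act r' m := fun _ _ => rfl
  have hψ : ∀ m : M, TensorProduct.lift β ((1 : R') ⊗ₜ[R] m) = m := by
    intro m
    rw [TensorProduct.lift.tmul, hβ, CH 1 m (nM m) (hnM0 m) (hnM m) 1 (by
      rw [map_one, sub_self]; exact zero_mem _), one_smul]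
  refine ⟨Function.LeftInverse.injective (g := TensorProduct.lift β) hψ, ?_⟩
  -- surjectivity
  have hzero : ∀ (m : M) (n : ℕ), (∀ a ∈ I ^ n, a • m = 0) →
      ∀ e ∈ Ideal.map (algebraMap R R') (I ^ n), ∀ s : R', (s * e) ⊗ₜ[R] m = 0 := by
    intro m n hkill e he
    unfold Ideal.map at he
    induction he using Submodule.span_induction with
    | mem e he =>
      obtain ⟨a, ha, rfl⟩ := he
      intro s
      have e1 : s * algebraMap R R' a = a • s := by rw [Algebra.smul_def, mul_comm]
      rw [e1, TensorProduct.smul_tmul, hkill a ha, TensorProduct.tmul_zero]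
    | zero => intro s; rw [mul_zero, TensorProduct.zero_tmul]
    | add x y _ _ hx hy => intro s; rw [mul_add, TensorProduct.add_tmul, hx s, hy s, add_zero]
    | smul c x _ hx =>
      intro s
      rw [smul_eq_mul, ← mul_assoc]
      exact hx (s * c)
  intro z
  induction z using TensorProduct.induction_on with
  | zero => exact ⟨0, by simp⟩
  | tmul r' m =>
    refine ⟨ρ (nM m) r' • m, ?_⟩
    show (1 : R') ⊗ₜ[R] (ρ (nM m) r' • m) = r' ⊗ₜ[R] m
    have h1 := hzero m (nM m) (hnM m) _ (hρ (nM m) r' (hnM0 m)) 1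
    rw [one_mul, TensorProduct.sub_tmul, sub_eq_zero] at h1
    rw [← h1, ← TensorProduct.smul_tmul, Algebra.smul_def, mul_one]
  | add x y hx hy =>
    obtain ⟨a, rfl⟩ := hx
    obtain ⟨b, rfl⟩ := hy
    exact ⟨a + b, by simp [TensorProduct.tmul_add]⟩

end Groth.Agent.S7041
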