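import Groth.Statements.S7085
import Mathlib


set_option autoImplicit false
universe u
open LocCoh

namespace Groth.Agent.S7085

theorem key {R : Type u} [CommRing R] {t : ℕ} (f : Fin t → R)
    (I : Ideal R) (hI : Ideal.span (Set.range f) = I) (M : Type u) [AddCommGroup M] [Module R M]
    (h : LocCoh.torsionBy I M = ⊥) :
    ∀ (N : ℕ) (m : M) (k : Fin t → ℕ), ∑ i, k i = N → (∀ i, f i ^ k i • m = 0) → m = 0 := by
  intro N
  induction N using Nat.strong_induction_on with
  | _ N ih =>
    intro m k hk hm
    have h1 : ∀ j, f j • m = 0 := by
      intro j
      by_cases hj : k j = 0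
      · have : m = 0 := by
          have := hm j
          rwa [hj, pow_zero, one_smul] at this
        rw [this, smul_zero]
      · refine ih (∑ i, Function.update k j (k j - 1) i) ?_ (f j • m)
          (Function.update k j (k j - 1)) rfl ?_
        · rw [← hk]
          refine Finset.sum_lt_sum ?_ ⟨j, Finset.mem_univ _, ?_⟩
          · intro i _
            by_cases hij : i = j
            · subst hij
              rw [Function.update_self]
              omega
            · rw [Function.update_of_ne hij]
          · rw [Function.update_self]
            omega
        · intro i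
          by_cases hij : i = j
          · subst hij
            rw [Function.update_self, smul_smul, ← pow_succ,
              Nat.sub_add_cancel (Nat.pos_of_ne_zero hj)]
            exact hm i
          · rw [Function.update_of_ne hij, smul_comm, hm i, smul_zero]
    have h2 : ∀ a ∈ Ideal.span (Set.range f), a • m = 0 := by
      intro a ha'
      induction ha' using Submodule.span_induction with
      | mem a ha => obtain ⟨j, rfl⟩ := ha; exact h1 j
      | zero => simp
      | add a b _ _ h h' => rw [add_smul, h, h', add_zero]
      | smul r a _ h => rw [smul_assoc, h, smul_zero]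
    have hmem : m ∈ LocCoh.torsionBy I M := by
      rw [Submodule.mem_torsionBySet_iff]
      rintro ⟨a, ha⟩
      exact h2 a (by rw [hI]; exact ha)
    rw [h] at hmem
    exact (Submodule.mem_bot R).mp hmem

/-- Let R be a commutative ring, I an ideal generated by finitely many elements f_1, …, f_t, and M an
R-module. Then: M has no nonzero element killed by I if and only if it has no nonzero element killed
by I^n for every n ≥ 1; and M has no nonzero element killed by I if and only if an element of M
vanishing in every localization M_{f_i} is zero. -/
theorem result {R : Type u} [CommRing R] {t : ℕ} (f : Fin t → R)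
    (I : Ideal R) (hI : Ideal.span (Set.range f) = I) (M : Type u) [AddCommGroup M] [Module R M] :
    (LocCoh.torsionBy I M = ⊥ ↔ ∀ n : ℕ, 1 ≤ n → LocCoh.torsionBy (I ^ n) M = ⊥) ∧
    (LocCoh.torsionBy I M = ⊥ ↔
      ∀ m : M, (∀ i : Fin t, LocalizedModule.mkLinearMap (Submonoid.powers (f i)) M m = 0) → m = 0) := by
  constructor
  · constructor
    · intro h n hn
      induction n, hn using Nat.le_induction with
      | base => rwa [pow_one]
      | succ n hn ih =>
        rw [eq_bot_iff]
        intro x hx
        rw [Submodule.mem_torsionBySet_iff] at hx
        have h1 : ∀ b ∈ I ^ n, b • x = 0 := by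
          intro b hb
          have : b • x ∈ LocCoh.torsionBy I M := by
            rw [Submodule.mem_torsionBySet_iff]
            rintro ⟨a, ha⟩
            rw [smul_smul]
            exact hx ⟨a * b, by rw [pow_succ']; exact Ideal.mul_mem_mul ha hb⟩
          rw [h] at this
          exact (Submodule.mem_bot R).mp this
        have h2 : x ∈ LocCoh.torsionBy (I ^ n) M := by
          rw [Submodule.mem_torsionBySet_iff]
          rintro ⟨b, hb⟩
          exact h1 b hb
        rw [ih] at h2
        exact h2
    · intro h
      have := h 1 le_rfl
      rwa [pow_one] at this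
  · constructor
    · intro h m hm
      have h1 : ∀ i, ∃ k : ℕ, f i ^ k • m = 0 := by
        intro i
        obtain ⟨⟨_, k, rfl⟩, hk⟩ := (IsLocalizedModule.eq_zero_iff (Submonoid.powers (f i))
          (LocalizedModule.mkLinearMap (Submonoid.powers (f i)) M)).mp (hm i)
        exact ⟨k, hk⟩
      choose k hk using h1
      exact key f I hI M h (∑ i, k i) m k rfl hk
    · intro h
      rw [eq_bot_iff]
      intro x hx
      rw [Submodule.mem_torsionBySet_iff] at hx
      refine (Submodule.mem_bot R).mpr (h x (fun i => ?_))
      rw [IsLocalizedModule.eq_zero_iff (Submonoid.powers (f i))]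
      exact ⟨⟨f i, Submonoid.mem_powers _⟩,
        hx ⟨f i, hI ▸ Ideal.subset_span (Set.mem_range_self i)⟩⟩

end Groth.Agent.S7085
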