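import Groth.Statements.S7107
import Mathlib


set_option autoImplicit false
universe u
open CAlg

namespace Groth.Agent.S7107

/-- Let R be a ring and P, Q modules such that P ⊕ Q is isomorphic to a free module F on an infinite
basis. Then P ⊕ F is isomorphic to F. -/
theorem result (R : Type u) [CommRing R] (P Q : Type u) [AddCommGroup P] [Module R P]
    [AddCommGroup Q] [Module R Q] (ι : Type u) [Infinite ι] (e : (P × Q) ≃ₗ[R] (ι →₀ R)) :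
    Nonempty ((P × (ι →₀ R)) ≃ₗ[R] (ι →₀ R)) := by
  classical
  have hcard : Nonempty (ℕ × ι ≃ ι) := by
    rw [← Cardinal.eq, Cardinal.mk_prod]
    simp [Cardinal.aleph0_mul_eq (Cardinal.aleph0_le_mk ι)]
  obtain ⟨σ⟩ := hcard
  have e1 : (ι →₀ R) ≃ₗ[R] (ℕ →₀ (ι →₀ R)) :=
    (Finsupp.domLCongr σ.symm).trans (Finsupp.curryLinearEquiv R)
  have e2 : (ℕ →₀ (ι →₀ R)) ≃ₗ[R] (ℕ →₀ (P × Q)) := Finsupp.mapRange.linearEquiv e.symm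
  have e3 : (ℕ →₀ (P × Q)) ≃ₗ[R] ((ℕ →₀ P) × (ℕ →₀ Q)) :=
    (TensorProduct.finsuppScalarLeft R (P × Q) ℕ).symm.trans
      ((TensorProduct.prodRight R R (ℕ →₀ R) P Q).trans
        (LinearEquiv.prodCongr (TensorProduct.finsuppScalarLeft R P ℕ)
          (TensorProduct.finsuppScalarLeft R Q ℕ)))
  have e4 : (P × (ℕ →₀ P)) ≃ₗ[R] (ℕ →₀ P) :=
    ((LinearEquiv.prodComm R P (ℕ →₀ P)).trans
      (LinearEquiv.prodCongr (LinearEquiv.refl R (ℕ →₀ P))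
        (Finsupp.LinearEquiv.finsuppUnique R P PUnit.{1}).symm)).trans
      ((Finsupp.sumFinsuppLEquivProdFinsupp R).symm.trans
        (Finsupp.domLCongr Equiv.natSumPUnitEquivNat))
  have E : (ι →₀ R) ≃ₗ[R] ((ℕ →₀ P) × (ℕ →₀ Q)) := e1.trans (e2.trans e3)
  have s1 : (P × (ι →₀ R)) ≃ₗ[R] (P × ((ℕ →₀ P) × (ℕ →₀ Q))) :=
    LinearEquiv.prodCongr (LinearEquiv.refl R P) E
  have s2 : (P × ((ℕ →₀ P) × (ℕ →₀ Q))) ≃ₗ[R] ((P × (ℕ →₀ P)) × (ℕ →₀ Q)) :=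
    (LinearEquiv.prodAssoc R P (ℕ →₀ P) (ℕ →₀ Q)).symm
  have s3 : ((P × (ℕ →₀ P)) × (ℕ →₀ Q)) ≃ₗ[R] ((ℕ →₀ P) × (ℕ →₀ Q)) :=
    LinearEquiv.prodCongr e4 (LinearEquiv.refl R (ℕ →₀ Q))
  exact ⟨s1.trans (s2.trans (s3.trans E.symm))⟩

end Groth.Agent.S7107
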