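import Groth.Statements.S7108
import Mathlib
import Groth.Agent.S7107


set_option autoImplicit false
universe u
open CAlg

namespace Groth.Agent.S7108

/-- Every projective module P over a ring R becomes free after adding a suitable free module: P ⊕ F is
free for some free module F (here F is the free module on some index type). -/
theorem result (R : Type u) [CommRing R] (P : Type u) [AddCommGroup P]
    [Module R P] [Module.Projective R P] : ∃ ι : Type u, Module.Free R (P × (ι →₀ R)) := by
  classical
  obtain ⟨i, hi⟩ := Module.projective_def'.mp ‹Module.Projective R P›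
  have hi' : ∀ p, Finsupp.linearCombination R (id : P → P) (i p) = p :=
    fun p => LinearMap.congr_fun hi p
  let Q := LinearMap.ker (Finsupp.linearCombination R (id : P → P))
  let e0 : (P × Q) ≃ₗ[R] (P →₀ R) :=
    { toFun := fun x => i x.1 + (x.2 : P →₀ R)
      map_add' := fun x y => by
        simp only [Prod.fst_add, Prod.snd_add, map_add, Submodule.coe_add]; abel
      map_smul' := fun c x => by
        simp only [Prod.smul_fst, Prod.smul_snd, map_smul, Submodule.coe_smul, RingHom.id_apply,
          smul_add]
      invFun := fun y => (Finsupp.linearCombination R (id : P → P) y,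
        ⟨y - i (Finsupp.linearCombination R (id : P → P) y), by
          change Finsupp.linearCombination R (id : P → P) (y - i _) = 0
          rw [map_sub, hi', sub_self]⟩)
      left_inv := fun x => by
        have hx : Finsupp.linearCombination R (id : P → P) (x.2 : P →₀ R) = 0 := x.2.2
        refine Prod.ext ?_ (Subtype.ext ?_)
        · change Finsupp.linearCombination R (id : P → P) (i x.1 + (x.2 : P →₀ R)) = x.1
          rw [map_add, hi', hx, add_zero]
        · change (i x.1 + (x.2 : P →₀ R)) -
            i (Finsupp.linearCombination R (id : P → P) (i x.1 + (x.2 : P →₀ R))) = x.2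
          rw [map_add, hi', hx, add_zero, add_sub_cancel_left]
      right_inv := fun y => by
        change i (Finsupp.linearCombination R (id : P → P) y) +
          (y - i (Finsupp.linearCombination R (id : P → P) y)) = y
        abel }
  have e5 : (P × (Q × (ℕ →₀ R))) ≃ₗ[R] ((P ⊕ ℕ) →₀ R) :=
    ((LinearEquiv.prodAssoc R P Q (ℕ →₀ R)).symm.trans
      (LinearEquiv.prodCongr e0 (LinearEquiv.refl R (ℕ →₀ R)))).trans
      (Finsupp.sumFinsuppLEquivProdFinsupp R).symm
  obtain ⟨E⟩ := Groth.Agent.S7107.result R P (Q × (ℕ →₀ R)) (P ⊕ ℕ) e5
  exact ⟨P ⊕ ℕ, Module.Free.of_equiv E.symm⟩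

end Groth.Agent.S7108
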