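import Groth.Statements.S7109
import Mathlib


set_option autoImplicit false
universe u
open CAlg

namespace Groth.Agent.S7109

/-- Let P be a projective module over a ring R and s an element of P. Then there are a finite free
module R^n and a direct summand K of R^n ⊕ P which is finite free and contains (0, s). -/
theorem result (R : Type u) [CommRing R] (P : Type u) [AddCommGroup P]
    [Module R P] [Module.Projective R P] (s : P) :
    ∃ (n : ℕ) (K K' : Submodule R ((Fin n → R) × P)), IsCompl K K' ∧ Module.Free R K ∧ Module.Finite R K ∧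
      ((0, s) : (Fin n → R) × P) ∈ K := by
  classical
  obtain ⟨i, hi⟩ := Module.projective_def'.mp ‹Module.Projective R P›
  have hi' : ∀ p, Finsupp.linearCombination R id (i p) = p := fun p => LinearMap.congr_fun hi p
  let T : Set P := ((i s).support : Set P)
  have : Finite T := (i s).support.finite_toSet.to_subtype
  let n := Nat.card T
  let e : T ≃ Fin n := Finite.equivFin T
  let E : Finsupp.supported R R T ≃ₗ[R] (Fin n → R) :=
    (Finsupp.supportedEquivFinsupp T).trans
      ((Finsupp.linearEquivFunOnFinite R R T).trans (LinearEquiv.funCongrLeft R R e.symm))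
  let inc : (Fin n → R) →ₗ[R] (P →₀ R) := (Finsupp.supported R R T).subtype ∘ₗ E.symm.toLinearMap
  let p0 : (P →₀ R) →ₗ[R] (Fin n → R) := E.toLinearMap ∘ₗ Finsupp.restrictDom R R T
  have hp0inc : ∀ x, p0 (inc x) = x := by
    intro x
    have h1 := LinearMap.congr_fun (Finsupp.restrictDom_comp_subtype (M := R) (R := R) T) (E.symm x)
    simp only [LinearMap.comp_apply, LinearMap.id_apply] at h1
    simp only [inc, p0, LinearMap.comp_apply, LinearEquiv.coe_coe]
    rw [h1, E.apply_symm_apply]
  have hmem : i s ∈ Finsupp.supported R R T := by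
    rw [Finsupp.mem_supported]
  have hincp0 : inc (p0 (i s)) = i s := by
    have h1 := LinearMap.congr_fun (Finsupp.restrictDom_comp_subtype (M := R) (R := R) T) ⟨i s, hmem⟩
    simp only [LinearMap.comp_apply, LinearMap.id_apply, Submodule.subtype_apply] at h1
    simp only [inc, p0, LinearMap.comp_apply, LinearEquiv.coe_coe, E.symm_apply_apply,
      Submodule.subtype_apply]
    rw [h1]
  let π := Finsupp.linearCombination R (id : P → P)
  let θ : (Fin n → R) →ₗ[R] (Fin n → R) × P :=
    LinearMap.prod (LinearMap.id - p0 ∘ₗ i ∘ₗ π ∘ₗ inc) (π ∘ₗ inc)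
  let ρ : (Fin n → R) × P →ₗ[R] (Fin n → R) := LinearMap.coprod LinearMap.id (p0 ∘ₗ i)
  have hρθ : ∀ x, ρ (θ x) = x := by
    intro x
    simp [ρ, θ]
  have hinj : Function.Injective θ := Function.LeftInverse.injective hρθ
  refine ⟨n, LinearMap.range θ, LinearMap.ker ρ, ?_, ?_, ?_, ?_⟩
  · constructor
    · rw [Submodule.disjoint_def]
      rintro y ⟨x, rfl⟩ hy
      rw [LinearMap.mem_ker, hρθ] at hy
      rw [hy, map_zero]
    · rw [Submodule.codisjoint_iff_exists_add_eq]
      intro y
      refine ⟨θ (ρ y), y - θ (ρ y), ⟨_, rfl⟩, ?_, by abel⟩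
      rw [LinearMap.mem_ker, map_sub, hρθ, sub_self]
  · exact Module.Free.of_equiv (LinearEquiv.ofInjective θ hinj)
  · exact Module.Finite.equiv (LinearEquiv.ofInjective θ hinj)
  · refine ⟨p0 (i s), ?_⟩
    change (p0 (i s) - p0 (i (Finsupp.linearCombination R id (inc (p0 (i s))))),
      Finsupp.linearCombination R id (inc (p0 (i s)))) = _
    rw [hincp0, hi', sub_self]

end Groth.Agent.S7109
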