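import Groth.Statements.S7114
import Mathlib


set_option autoImplicit false
universe u
open CAlg

namespace Groth.Agent.S7114

/-- multiplication by `x` as a map `R/(x^n) → R/(x^(n+1))` -/
noncomputable def mulMap {R : Type u} [CommRing R] (x : R) (n : ℕ) :
    (R ⧸ Ideal.span {x ^ n}) →ₗ[R] (R ⧸ Ideal.span {x ^ (n + 1)}) :=
  Submodule.mapQ (Ideal.span {x ^ n}) (Ideal.span {x ^ (n + 1)}) (LinearMap.lsmul R R x) (by
    intro r hr
    rw [Submodule.mem_comap]
    obtain ⟨s, rfl⟩ := Ideal.mem_span_singleton'.mp hr
    simp only [LinearMap.lsmul_apply, smul_eq_mul]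
    exact Ideal.mem_span_singleton'.mpr ⟨s, by ring⟩)

/-- the projection `R/(x^(n+1)) → R/(x)` -/
noncomputable def factorMap {R : Type u} [CommRing R] (x : R) (n : ℕ) :
    (R ⧸ Ideal.span {x ^ (n + 1)}) →ₗ[R] (R ⧸ Ideal.span {x}) :=
  Submodule.mapQ (Ideal.span {x ^ (n + 1)}) (Ideal.span {x}) LinearMap.id (by
    intro r hr
    rw [Submodule.mem_comap]
    obtain ⟨s, rfl⟩ := Ideal.mem_span_singleton'.mp hr
    simp only [LinearMap.id_coe, id_eq]
    exact Ideal.mem_span_singleton'.mpr ⟨s * x ^ n, by ring⟩)

theorem mulMap_mk {R : Type u} [CommRing R] (x : R) (n : ℕ) (r : R) :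
    mulMap x n (Submodule.Quotient.mk r) = Submodule.Quotient.mk (x * r) := by
  unfold mulMap
  rw [Submodule.mapQ_apply]
  rfl

theorem factorMap_mk {R : Type u} [CommRing R] (x : R) (n : ℕ) (r : R) :
    factorMap x n (Submodule.Quotient.mk r) = Submodule.Quotient.mk r := by
  unfold factorMap
  rw [Submodule.mapQ_apply]
  rfl

theorem factorMap_surjective {R : Type u} [CommRing R] (x : R) (n : ℕ) :
    Function.Surjective (factorMap x n) := by
  intro y
  obtain ⟨r, rfl⟩ := Submodule.Quotient.mk_surjective _ y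
  exact ⟨Submodule.Quotient.mk r, factorMap_mk x n r⟩

theorem exact_mul_factor {R : Type u} [CommRing R] (x : R) (n : ℕ) :
    Function.Exact (LinearMap.range (mulMap x n)).subtype (factorMap x n) := by
  rw [LinearMap.exact_iff, Submodule.range_subtype]
  apply le_antisymm
  · intro y hy
    obtain ⟨r, rfl⟩ := Submodule.Quotient.mk_surjective _ y
    rw [LinearMap.mem_ker, factorMap_mk, Submodule.Quotient.mk_eq_zero] at hy
    obtain ⟨s, rfl⟩ := Ideal.mem_span_singleton'.mp hy
    refine ⟨Submodule.Quotient.mk s, ?_⟩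
    rw [mulMap_mk, mul_comm]
  · rintro _ ⟨y, rfl⟩
    obtain ⟨r, rfl⟩ := Submodule.Quotient.mk_surjective _ y
    rw [LinearMap.mem_ker, mulMap_mk, factorMap_mk, Submodule.Quotient.mk_eq_zero]
    exact Ideal.mem_span_singleton'.mpr ⟨r, by ring⟩

theorem mulMap_injective {R : Type u} [CommRing R] (x : R) (hx : x ∈ nonZeroDivisors R) (n : ℕ) :
    Function.Injective (mulMap x n) := by
  rw [← LinearMap.ker_eq_bot, eq_bot_iff]
  intro y hy
  obtain ⟨r, rfl⟩ := Submodule.Quotient.mk_surjective _ y
  rw [LinearMap.mem_ker, mulMap_mk, Submodule.Quotient.mk_eq_zero] at hy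
  obtain ⟨s, hs⟩ := Ideal.mem_span_singleton'.mp hy
  have h0 : (r - s * x ^ n) * x = 0 := by
    rw [pow_succ] at hs
    linear_combination -hs
  have h1 := (mul_right_mem_nonZeroDivisors_eq_zero_iff hx).mp h0
  rw [Submodule.mem_bot, Submodule.Quotient.mk_eq_zero]
  exact Ideal.mem_span_singleton'.mpr ⟨s, by linear_combination -h1⟩

theorem length_step {R : Type u} [CommRing R] (x : R) (n : ℕ) :
    Module.length R (R ⧸ Ideal.span {x ^ (n + 1)}) =
      Module.length R (LinearMap.range (mulMap x n)) + Module.length R (R ⧸ Ideal.span {x}) :=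
  Module.length_eq_add_of_exact (LinearMap.range (mulMap x n)).subtype (factorMap x n)
    (Submodule.subtype_injective _) (factorMap_surjective x n) (exact_mul_factor x n)

theorem length_range_le {R : Type u} [CommRing R] (x : R) (n : ℕ) :
    Module.length R (LinearMap.range (mulMap x n)) ≤ Module.length R (R ⧸ Ideal.span {x ^ n}) :=
  Module.length_le_of_surjective (mulMap x n).rangeRestrict (LinearMap.surjective_rangeRestrict _)

theorem length_range_eq {R : Type u} [CommRing R] (x : R) (hx : x ∈ nonZeroDivisors R) (n : ℕ) :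
    Module.length R (LinearMap.range (mulMap x n)) = Module.length R (R ⧸ Ideal.span {x ^ n}) :=
  (LinearEquiv.ofInjective (mulMap x n) (mulMap_injective x hx n)).length_eq.symm

theorem length_pow {R : Type u} [CommRing R] (x : R) (n : ℕ) :
    Module.length R (R ⧸ Ideal.span {x ^ n}) ≤ (n : ℕ∞) * Module.length R (R ⧸ Ideal.span {x}) ∧
      (x ∈ nonZeroDivisors R →
        Module.length R (R ⧸ Ideal.span {x ^ n}) =
          (n : ℕ∞) * Module.length R (R ⧸ Ideal.span {x})) := by
  induction n with
  | zero =>
    have : Subsingleton (R ⧸ Ideal.span {x ^ 0}) := by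
      rw [pow_zero, Ideal.span_singleton_one]
      exact Ideal.Quotient.subsingleton_iff.mpr rfl
    rw [Module.length_eq_zero]
    simp
  | succ n ih =>
    constructor
    · rw [length_step]
      push_cast
      rw [add_mul, one_mul]
      exact add_le_add (le_trans (length_range_le x n) ih.1) le_rfl
    · intro hx
      rw [length_step, length_range_eq x hx, ih.2 hx]
      push_cast
      rw [add_mul, one_mul]

/-- Let R be a Noetherian local ring of Krull dimension one and x an element of the maximal ideal lying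
in no minimal prime of R. Then for every n the length of R/xⁿR is at most n times the length of
R/xR, and equality holds when x is a nonzerodivisor. -/
theorem result (R : Type u) [CommRing R] [IsNoetherianRing R] [IsLocalRing R]
    (hdim : ringKrullDim R = 1) (x : R) (hx : x ∈ IsLocalRing.maximalIdeal R)
    (hmin : ∀ p ∈ minimalPrimes R, x ∉ p) (n : ℕ) :
    Module.length R (R ⧸ Ideal.span {x ^ n}) ≤ (n : ℕ∞) * Module.length R (R ⧸ Ideal.span {x}) ∧
      (x ∈ nonZeroDivisors R →
        Module.length R (R ⧸ Ideal.span {x ^ n}) = (n : ℕ∞) * Module.length R (R ⧸ Ideal.span {x})) := by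
  exact length_pow x n

end Groth.Agent.S7114
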