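import Groth.Statements.S7116
import Mathlib
import Groth.Agent.Lib.helper4.Sop


set_option autoImplicit false
universe u
open CAlg

namespace Groth.Agent.S7116

open Groth.Agent.Lib.helper4

/-- Let R be a Noetherian local ring of Krull dimension d with maximal ideal m and let f be an element
of m contained in no minimal prime. Then there are g_1, ..., g_{d-1} in m and a natural number N
such that f, g_1, ..., g_{d-1} is a system of parameters (these d elements of m generate an ideal
with radical m) and, for every h in m^N, the elements f + h, g_1, ..., g_{d-1} again form a system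
of parameters and the lengths of R/(f, g_1, ..., g_{d-1}) and R/(f + h, g_1, ..., g_{d-1}) agree. -/
theorem result (R : Type u) [CommRing R] [IsNoetherianRing R] [IsLocalRing R]
    (d : ℕ) (hd : ringKrullDim R = d) (f : R) (hf : f ∈ IsLocalRing.maximalIdeal R)
    (hmin : ∀ p ∈ minimalPrimes R, f ∉ p) :
    ∃ (g : Fin (d - 1) → R) (N : ℕ), (∀ i, g i ∈ IsLocalRing.maximalIdeal R) ∧
      IsLocalRing.maximalIdeal R ≤ (Ideal.span (insert f (Set.range g))).radical ∧
      ∀ h ∈ IsLocalRing.maximalIdeal R ^ N,
        IsLocalRing.maximalIdeal R ≤ (Ideal.span (insert (f + h) (Set.range g))).radical ∧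
        Module.length R (R ⧸ Ideal.span (insert f (Set.range g))) =
          Module.length R (R ⧸ Ideal.span (insert (f + h) (Set.range g))) := by
  classical
  obtain ⟨g, -, hgm, hrad⟩ := exists_sop d hd f hf hmin 0
  obtain ⟨I, hI⟩ : ∃ I : Ideal R, I = Ideal.span (insert f (Set.range g)) := ⟨_, rfl⟩
  rw [← hI] at hrad
  obtain ⟨N, hN⟩ := Ideal.exists_pow_le_of_le_radical_of_fg hrad (IsNoetherian.noetherian _)
  refine ⟨g, N + 1, hgm, hI ▸ hrad, ?_⟩
  intro h hh
  have hhI : h ∈ IsLocalRing.maximalIdeal R • I := by
    rw [pow_succ'] at hh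
    exact Ideal.mul_mono_right hN hh
  have hhI' : h ∈ I := Ideal.mul_le_left (I := I) (J := IsLocalRing.maximalIdeal R) (by rwa [mul_comm])
  have heq : Ideal.span (insert (f + h) (Set.range g)) = I := by
    apply le_antisymm
    · rw [Ideal.span_le]
      rintro x (rfl | ⟨i, rfl⟩)
      · refine add_mem ?_ hhI'
        rw [hI]; exact Ideal.subset_span (Set.mem_insert _ _)
      · rw [hI]; exact Ideal.subset_span (Set.mem_insert_of_mem _ (Set.mem_range_self i))
    · refine Submodule.le_of_le_smul_of_le_jacobson_bot (IsNoetherian.noetherian I)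
        (I := IsLocalRing.maximalIdeal R) ?_ ?_
      · rw [IsLocalRing.jacobson_eq_maximalIdeal ⊥ bot_ne_top]
      · conv_lhs => rw [hI]
        rw [Ideal.span_le]
        rintro x (rfl | ⟨i, rfl⟩)
        · have h1 : x + h ∈ Ideal.span (insert (x + h) (Set.range g)) :=
            Ideal.subset_span (Set.mem_insert _ _)
          have h2 := add_mem (Submodule.mem_sup_left
            (T := IsLocalRing.maximalIdeal R • I) h1) (Submodule.mem_sup_right
            (S := Ideal.span (insert (x + h) (Set.range g))) (neg_mem hhI))
          rwa [add_neg_cancel_right] at h2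
        · exact Submodule.mem_sup_left
            (Ideal.subset_span (Set.mem_insert_of_mem _ (Set.mem_range_self i)))
  rw [heq, ← hI]
  exact ⟨hrad, rfl⟩

end Groth.Agent.S7116
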