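import Groth.Statements.S7122
import Mathlib
import Groth.Agent.Lib.helper4.BezFree


set_option autoImplicit false
universe u
open CAlg

namespace Groth.Agent.S7122

open Groth.Agent.Lib.helper4.BezFree

/-- Let R be a Bézout domain, n ≥ 1, and f_1, ..., f_n elements generating the unit ideal. Then some
invertible n × n matrix over R has (f_1, ..., f_n) as its first row. -/
theorem result (R : Type u) [CommRing R] [IsDomain R] [IsBezout R]
    (n : ℕ) (f : Fin (n + 1) → R) (hf : Ideal.span (Set.range f) = ⊤) :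
    ∃ A : Matrix (Fin (n + 1)) (Fin (n + 1)) R, IsUnit A.det ∧ A 0 = f := by
  classical
  have h1 : (1 : R) ∈ Ideal.span (Set.range f) := by rw [hf]; trivial
  obtain ⟨c, hc⟩ := (Ideal.mem_span_range_iff_exists_fun).mp h1
  obtain ⟨φ, hφ⟩ : ∃ φ : (Fin (n + 1) → R) →ₗ[R] R, ∀ y, φ y = ∑ i, c i * y i :=
    ⟨∑ i, c i • LinearMap.proj i, fun y => by simp [LinearMap.sum_apply]⟩
  have hφf : φ f = 1 := by rw [hφ]; exact hc
  let s : R →ₗ[R] (Fin (n + 1) → R) := LinearMap.toSpanSingleton R _ f
  have hs : ∀ r, s r = r • f := fun r => rfl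
  have hqs : ∀ r, φ (s r) = r := fun r => by
    rw [hs, map_smul, hφf, smul_eq_mul, mul_one]
  haveI hfin : Module.Finite R (LinearMap.ker φ) := finite_ker_of_split φ s hqs
  haveI hfree : Module.Free R (LinearMap.ker φ) :=
    free_of_fg (LinearMap.ker φ) (Module.Finite.iff_fg.mp hfin)
  have hrank : Module.finrank R (LinearMap.ker φ) = n := by
    have h2 := (splitEquiv φ s hqs).finrank_eq
    rw [Module.finrank_fin_fun, Module.finrank_prod, Module.finrank_self] at h2
    omega
  let bK := Module.finBasisOfFinrankEq R (LinearMap.ker φ) hrank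
  refine ⟨Matrix.of (Fin.cons f (fun i => ((bK i : LinearMap.ker φ) : Fin (n + 1) → R))), ?_, ?_⟩
  · rw [← Matrix.isUnit_iff_isUnit_det, ← Matrix.vecMul_surjective_iff_isUnit]
    intro y
    have hz : y - φ y • f ∈ LinearMap.ker φ := by
      rw [LinearMap.mem_ker, map_sub, map_smul, hφf, smul_eq_mul, mul_one, sub_self]
    refine ⟨Fin.cons (φ y) (fun i => bK.repr ⟨y - φ y • f, hz⟩ i), ?_⟩
    show Matrix.vecMul _ _ = y
    rw [Matrix.vecMul_eq_sum]
    show ∑ i, (Fin.cons (φ y) (fun i => bK.repr ⟨y - φ y • f, hz⟩ i) : Fin (n + 1) → R) i •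
      (Fin.cons f (fun i => ((bK i : LinearMap.ker φ) : Fin (n + 1) → R)) :
        Fin (n + 1) → Fin (n + 1) → R) i = y
    rw [Fin.sum_univ_succ]
    simp only [Fin.cons_zero, Fin.cons_succ]
    have h4 := bK.sum_repr ⟨y - φ y • f, hz⟩
    have h5 := congrArg (Submodule.subtype (LinearMap.ker φ)) h4
    rw [map_sum] at h5
    simp only [map_smul, Submodule.subtype_apply] at h5
    rw [h5]
    abel
  · rfl

end Groth.Agent.S7122
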