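import Groth.Statements.S7123
import Mathlib


set_option autoImplicit false
universe u
open CAlg

namespace Groth.Agent.S7123

open DirectSum in
/-- For a module P over a ring R these two conditions are equivalent: (1) P is a retract (direct
summand) of a direct sum of cyclic modules R/fR, f ranging over R; (2) for every surjection of
R-modules π : B → C whose kernel A satisfies fA = A ∩ fB for every f in R, each linear map P → C
lifts through π. -/
theorem result (R : Type u) [CommRing R] (P : Type u)
    [AddCommGroup P] [Module R P] :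
    (∃ (ι : Type u) (f : ι → R) (i : P →ₗ[R] (⨁ j, R ⧸ Ideal.span {f j}))
        (p : (⨁ j, R ⧸ Ideal.span {f j}) →ₗ[R] P), p ∘ₗ i = LinearMap.id) ↔
      ∀ (B C : Type u) [AddCommGroup B] [Module R B] [AddCommGroup C] [Module R C] (π : B →ₗ[R] C),
        Function.Surjective π →
        (∀ (f : R) (b : B), π (f • b) = 0 → ∃ a : B, π a = 0 ∧ f • a = f • b) →
        ∀ ψ : P →ₗ[R] C, ∃ φ : P →ₗ[R] B, π ∘ₗ φ = ψ := by
  classical
  constructor
  · rintro ⟨ι, f, i, p, hpi⟩ B C _ _ _ _ π hπ hpure ψ
    -- elements of B lifting the images of the generators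
    have hex : ∀ j : ι, ∃ b : B, π b = ψ (p (DirectSum.lof R ι (fun j => R ⧸ Ideal.span {f j}) j
        (Submodule.Quotient.mk 1))) ∧ f j • b = 0 := by
      intro j
      obtain ⟨b', hb'⟩ := hπ (ψ (p (DirectSum.lof R ι (fun j => R ⧸ Ideal.span {f j}) j
        (Submodule.Quotient.mk 1))))
      have h0 : π (f j • b') = 0 := by
        rw [map_smul, hb', ← map_smul, ← map_smul, ← map_smul, ← Submodule.Quotient.mk_smul,
          smul_eq_mul, mul_one]
        have : (Submodule.Quotient.mk (f j) : R ⧸ Ideal.span {f j}) = 0 := by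
          rw [Submodule.Quotient.mk_eq_zero]
          exact Ideal.subset_span rfl
        rw [this, map_zero, map_zero, map_zero]
      obtain ⟨a, ha0, ha⟩ := hpure (f j) b' h0
      exact ⟨b' - a, by rw [map_sub, ha0, sub_zero, hb'], by rw [smul_sub, ha, sub_self]⟩
    choose b hb1 hb2 using hex
    let g : ∀ j : ι, (R ⧸ Ideal.span {f j}) →ₗ[R] B := fun j =>
      Submodule.liftQ (Ideal.span {f j}) (LinearMap.toSpanSingleton R B (b j)) (by
        rw [Ideal.span, Submodule.span_le]
        intro r hr
        rw [Set.mem_singleton_iff] at hr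
        rw [SetLike.mem_coe, LinearMap.mem_ker, LinearMap.toSpanSingleton_apply, hr]
        exact hb2 j)
    let φ' : (⨁ j, R ⧸ Ideal.span {f j}) →ₗ[R] B := DirectSum.toModule R ι B g
    have hφ' : π ∘ₗ φ' = ψ ∘ₗ p := by
      apply DirectSum.linearMap_ext
      intro j
      apply Submodule.linearMap_qext
      apply LinearMap.ext_ring
      simp only [LinearMap.comp_apply, Submodule.mkQ_apply]
      show π (φ' (DirectSum.lof R ι _ j (Submodule.Quotient.mk 1))) = _
      rw [DirectSum.toModule_lof]
      show π (Submodule.liftQ _ _ _ (Submodule.Quotient.mk 1)) = _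
      rw [Submodule.liftQ_apply, LinearMap.toSpanSingleton_apply, one_smul, hb1 j]
    refine ⟨φ' ∘ₗ i, ?_⟩
    rw [← LinearMap.comp_assoc, hφ', LinearMap.comp_assoc, hpi, LinearMap.comp_id]
  · intro H
    let ι : Type u := {x : R × P // x.1 • x.2 = 0}
    let f : ι → R := fun x => x.1.1
    let g : ∀ j : ι, (R ⧸ Ideal.span {f j}) →ₗ[R] P := fun j =>
      Submodule.liftQ (Ideal.span {f j}) (LinearMap.toSpanSingleton R P j.1.2) (by
        rw [Ideal.span, Submodule.span_le]
        intro r hr
        rw [Set.mem_singleton_iff] at hr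
        rw [SetLike.mem_coe, LinearMap.mem_ker, LinearMap.toSpanSingleton_apply, hr]
        exact j.2)
    let π : (⨁ j, R ⧸ Ideal.span {f j}) →ₗ[R] P := DirectSum.toModule R ι P g
    have hπ1 : ∀ j : ι, π (DirectSum.lof R ι (fun j => R ⧸ Ideal.span {f j}) j
        (Submodule.Quotient.mk 1)) = j.1.2 := by
      intro j
      show π (DirectSum.lof R ι _ j (Submodule.Quotient.mk 1)) = _
      rw [DirectSum.toModule_lof]
      show Submodule.liftQ _ _ _ (Submodule.Quotient.mk 1) = _
      rw [Submodule.liftQ_apply, LinearMap.toSpanSingleton_apply, one_smul]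
    have hsurj : Function.Surjective π := by
      intro x
      exact ⟨_, hπ1 ⟨(0, x), zero_smul R x⟩⟩
    have hpure : ∀ (r : R) (b : ⨁ j, R ⧸ Ideal.span {f j}), π (r • b) = 0 →
        ∃ a, π a = 0 ∧ r • a = r • b := by
      intro r b hb
      rw [map_smul] at hb
      let j : ι := ⟨(r, π b), hb⟩
      refine ⟨b - DirectSum.lof R ι (fun j => R ⧸ Ideal.span {f j}) j (Submodule.Quotient.mk 1),
        by rw [map_sub, hπ1 j, sub_self], ?_⟩
      rw [smul_sub, ← map_smul, ← Submodule.Quotient.mk_smul, smul_eq_mul, mul_one]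
      have : (Submodule.Quotient.mk r : R ⧸ Ideal.span {f j}) = 0 := by
        rw [Submodule.Quotient.mk_eq_zero]
        exact Ideal.subset_span rfl
      rw [this, map_zero, sub_zero]
    obtain ⟨φ, hφ⟩ := H _ P π hsurj hpure LinearMap.id
    exact ⟨ι, f, φ, π, hφ⟩

end Groth.Agent.S7123
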