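import Groth.Statements.S7124
import Mathlib
import Groth.Agent.Lib.helper4.ValExt


set_option autoImplicit false
universe u
open CAlg

namespace Groth.Agent.S7124

open Groth.Agent.Lib.helper4

/-- Let A ⊆ B be an extension of valuation rings (both valuation domains, the inclusion injective and
local) with fraction fields K ⊆ L such that L/K is finite. Then the residue field of B is finite
over that of A, the value group of A has finite index in the value group of B, and (index of value
groups) · (residue degree) ≤ [L : K]. Here the value group of B is written as Lˣ modulo the units of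
B, and that of A as the image of Kˣ in it. -/
theorem result (A B K L : Type u) [CommRing A] [IsDomain A]
    [ValuationRing A] [CommRing B] [IsDomain B] [ValuationRing B] [Field K] [Field L]
    [Algebra A K] [IsFractionRing A K] [Algebra B L] [IsFractionRing B L] [Algebra A B] [Algebra K L]
    [Algebra A L] [IsScalarTower A K L] [IsScalarTower A B L] (hinj : Function.Injective (algebraMap A B))
    [IsLocalHom (algebraMap A B)] [FiniteDimensional K L] :
    let UB : Subgroup Lˣ := (Units.map (algebraMap B L).toMonoidHom).range
    let ΓA : Subgroup (Lˣ ⧸ UB) := ((QuotientGroup.mk' UB).comp (Units.map (algebraMap K L).toMonoidHom)).range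
    Module.Finite (IsLocalRing.ResidueField A) (IsLocalRing.ResidueField B) ∧ ΓA.index ≠ 0 ∧
      ΓA.index * Module.finrank (IsLocalRing.ResidueField A) (IsLocalRing.ResidueField B) ≤
        Module.finrank K L := by
  intro UB ΓA
  haveI : IsLocalHom (algebraMap A B) := inferInstance
  have key : ∀ {ι κ : Type u} [Fintype ι] [Fintype κ] (q : ι → (Lˣ ⧸ UB) ⧸ ΓA)
      (_ : Function.Injective q) (ybar : κ → IsLocalRing.ResidueField B)
      (_ : LinearIndependent (IsLocalRing.ResidueField A) ybar),
      Fintype.card ι * Fintype.card κ ≤ Module.finrank K L :=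
    fun q hq ybar hy => ValExt.card_mul_card_le A B K L q hq ybar hy
  have hfin : Module.Finite (IsLocalRing.ResidueField A) (IsLocalRing.ResidueField B) := by
    have H : ∀ s : Finset (IsLocalRing.ResidueField B),
        (LinearIndependent (IsLocalRing.ResidueField A) fun i : s => (i : IsLocalRing.ResidueField B)) →
          s.card ≤ Module.finrank K L := by
      intro s hs
      have h1 := key (ι := PUnit.{u+1}) (fun _ => QuotientGroup.mk (QuotientGroup.mk (1 : Lˣ))) (fun _ _ _ => Subsingleton.elim _ _) _ hs
      rwa [Fintype.card_punit, one_mul, Fintype.card_coe] at h1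
    exact Module.rank_lt_aleph0_iff.mp (lt_of_le_of_lt (rank_le H) Cardinal.natCast_lt_aleph0)
  have hidx : ΓA.index ≠ 0 := by
    intro h0
    haveI : Infinite ((Lˣ ⧸ UB) ⧸ ΓA) := Subgroup.index_eq_zero_iff_infinite.mp h0
    let emb := Infinite.natEmbedding ((Lˣ ⧸ UB) ⧸ ΓA)
    have h1 := key (ι := ULift.{u} (Fin (Module.finrank K L + 1))) (κ := PUnit.{u+1})
      (fun i => emb i.down.val)
      (fun a b hab => ULift.ext _ _ (Fin.val_injective (emb.injective hab)))
      (fun _ => 1) (linearIndependent_unique_iff.mpr one_ne_zero)
    rw [Fintype.card_punit, mul_one, Fintype.card_ulift, Fintype.card_fin] at h1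
    omega
  refine ⟨hfin, hidx, ?_⟩
  haveI : Finite ((Lˣ ⧸ UB) ⧸ ΓA) := Nat.finite_of_card_ne_zero hidx
  letI : Fintype ((Lˣ ⧸ UB) ⧸ ΓA) := Fintype.ofFinite _
  have h1 := key (ι := (Lˣ ⧸ UB) ⧸ ΓA)
    (κ := ULift.{u} (Fin (Module.finrank (IsLocalRing.ResidueField A) (IsLocalRing.ResidueField B))))
    id Function.injective_id
    (fun j => Module.finBasis (IsLocalRing.ResidueField A) (IsLocalRing.ResidueField B) j.down)
    ((Module.finBasis (IsLocalRing.ResidueField A) (IsLocalRing.ResidueField B)).linearIndependent.comp
      _ ULift.down_injective)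
  rw [Fintype.card_ulift, Fintype.card_fin, ← Nat.card_eq_fintype_card] at h1
  exact h1

end Groth.Agent.S7124
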