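import Groth.Statements.S7129
import Mathlib
import Groth.Agent.Lib.helper5.SmoothReduced


set_option autoImplicit false
universe u
open EtAlg

namespace Groth.Agent.S7129

/-- Every module over a product of fields ∏ K_i is flat over it (the product is an absolutely flat
ring). -/
theorem result (ι : Type u) (K : ι → Type u) [∀ i, Field (K i)] (M : Type u)
    [AddCommGroup M] [Module (∀ i, K i) M] : Module.Flat (∀ i, K i) M := by
  apply Module.flat_of_localized_maximal
  intro P hP
  have hfield := Groth.Agent.Lib.helper5.h5_isField_localization_pi K P
  rw [← Module.flat_iff_of_isLocalization (Localization.AtPrime P) P.primeCompl]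
  letI := hfield.toField
  infer_instance

end Groth.Agent.S7129
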