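import Groth.Statements.S7130
import Mathlib


set_option autoImplicit false
universe u
open EtAlg

namespace Groth.Agent.S7130

/-- (2) ⇔ (3) ⇔ (4): for a ring A the following are equivalent: every A-module is flat; A is reduced of
Krull dimension zero, in the sense that every prime ideal of A is maximal; the local ring A_p is a
field for every prime p. (The further equivalent condition 'A has weak dimension at most zero'
coincides with the first condition by definition and is not listed separately.) -/
theorem result (A : Type u) [CommRing A] :
    List.TFAE [∀ (M : Type u) [AddCommGroup M] [Module A M], Module.Flat A M,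
      IsReduced A ∧ ∀ p : Ideal A, p.IsPrime → p.IsMaximal,
      ∀ (p : Ideal A) [p.IsPrime], IsField (Localization.AtPrime p)] := by
  tfae_have 1 → 2 := by
    intro h
    have hvnr : ∀ a : A, ∃ r : A, a = a * a * r := by
      intro a
      have : (Ideal.span {a}).Pure := h _
      obtain ⟨y, hy, hxy⟩ := Ideal.exists_eq_mul_of_pure (I := Ideal.span {a})
        (Ideal.subset_span rfl : a ∈ Ideal.span {a})
      obtain ⟨r, rfl⟩ := Ideal.mem_span_singleton'.mp hy
      exact ⟨r, by
        calc a = a * (r * a) := hxy
          _ = a * a * r := by ring⟩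
    refine ⟨?_, ?_⟩
    · rw [isReduced_iff_pow_one_lt 2 (by norm_num)]
      intro a ha
      obtain ⟨r, hr⟩ := hvnr a
      rw [hr, ← pow_two, ha, zero_mul]
    · intro p hp
      rw [Ideal.isMaximal_iff]
      refine ⟨fun h1 => hp.ne_top ((Ideal.eq_top_iff_one p).mpr h1), ?_⟩
      intro J x hpJ hxp hxJ
      obtain ⟨r, hr⟩ := hvnr x
      have h0 : x * (1 - x * r) = 0 := by
        calc x * (1 - x * r) = x - x * x * r := by ring
          _ = 0 := by rw [← hr, sub_self]
      have h1 : 1 - x * r ∈ p := by
        rcases hp.mem_or_mem (h0 ▸ p.zero_mem : x * (1 - x * r) ∈ p) with h | h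
        · exact absurd h hxp
        · exact h
      have h2 : (1 : A) = (1 - x * r) + x * r := by ring
      rw [h2]
      exact J.add_mem (hpJ h1) (J.mul_mem_right r hxJ)
  tfae_have 2 → 3 := by
    rintro ⟨hred, hmax⟩ p hp
    have hdim : Ring.KrullDimLE 0 A := Ring.krullDimLE_zero_iff.mpr hmax
    have hpmin : p ∈ minimalPrimes A := Ideal.mem_minimalPrimes_of_krullDimLE_zero p
    have : Ring.KrullDimLE 0 (Localization.AtPrime p) :=
      Ring.KrullDimLE.of_isLocalization p hpmin _
    exact Ring.KrullDimLE.isField_of_isReduced
  tfae_have 3 → 1 := by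
    intro h M _ _
    apply Module.flat_of_localized_maximal
    intro P hP
    have hfield := h P
    rw [← Module.flat_iff_of_isLocalization (Localization.AtPrime P) P.primeCompl]
    letI := hfield.toField
    infer_instance
  tfae_finish

end Groth.Agent.S7130
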