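import Groth.Statements.S7132
import Mathlib
import Groth.Agent.Lib.helper4.ValExt2
import Groth.Agent.S7124


set_option autoImplicit false
universe u
open EtAlg

namespace Groth.Agent.S7132

open Groth.Agent.Lib.helper4

/-- For an injective local homomorphism A → B of discrete valuation rings whose fraction fields K ⊆ L
form a finite extension, the residue field of B is finite over that of A, and the ramification index
e times the residue degree f is at most [L : K]. -/
theorem result (A B K L : Type u) [CommRing A] [IsDomain A]
    [IsDiscreteValuationRing A] [CommRing B] [IsDomain B] [IsDiscreteValuationRing B] [Algebra A B]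
    (hinj : Function.Injective (algebraMap A B)) [IsLocalHom (algebraMap A B)]
    [Field K] [Field L] [Algebra A K] [IsFractionRing A K] [Algebra B L] [IsFractionRing B L]
    [Algebra K L] [Algebra A L] [IsScalarTower A K L] [IsScalarTower A B L] [FiniteDimensional K L] :
    Module.Finite (IsLocalRing.ResidueField A) (IsLocalRing.ResidueField B) ∧
      Ideal.ramificationIdx' (IsLocalRing.maximalIdeal A) (IsLocalRing.maximalIdeal B) *
          Module.finrank (IsLocalRing.ResidueField A) (IsLocalRing.ResidueField B) ≤
        Module.finrank K L := by
  have h := Groth.Agent.S7124.result A B K L hinj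
  have hfin : Module.Finite (IsLocalRing.ResidueField A) (IsLocalRing.ResidueField B) := h.1
  obtain ⟨ϖA, hA⟩ := IsDiscreteValuationRing.exists_irreducible A
  obtain ⟨ϖB, hB⟩ := IsDiscreteValuationRing.exists_irreducible B
  have hne : algebraMap A B ϖA ≠ 0 := fun h0 => hA.ne_zero (hinj (h0.trans (map_zero _).symm))
  obtain ⟨e, u, he⟩ := IsDiscreteValuationRing.eq_unit_mul_pow_irreducible hne hB
  refine ⟨hfin, ?_⟩
  rw [ValExt.ramIdx_eq A B ϖA hA ϖB hB e u he]
  exact ValExt.dvr_e_mul_f_le A B K L ϖA hA ϖB hB e u he

end Groth.Agent.S7132
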