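import Groth.Statements.S7133
import Mathlib
import Groth.Agent.Lib.helper4.ValExt2


set_option autoImplicit false
universe u
open EtAlg

namespace Groth.Agent.S7133

open Groth.Agent.Lib.helper4

/-- For an injective local homomorphism A → B of discrete valuation rings whose fields of fractions are
K ⊆ L: if K has characteristic p > 0 and L/K is purely inseparable, then the ramification index of B
over A is a power of p. -/
theorem result (A B K L : Type u) [CommRing A] [IsDomain A]
    [IsDiscreteValuationRing A] [CommRing B] [IsDomain B] [IsDiscreteValuationRing B] [Algebra A B]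
    (hinj : Function.Injective (algebraMap A B)) [IsLocalHom (algebraMap A B)]
    [Field K] [Field L] [Algebra A K] [IsFractionRing A K] [Algebra B L] [IsFractionRing B L]
    [Algebra K L] [Algebra A L] [IsScalarTower A K L] [IsScalarTower A B L]
    (p : ℕ) (hp : p.Prime) [CharP K p] [IsPurelyInseparable K L] :
    ∃ k : ℕ, Ideal.ramificationIdx' (IsLocalRing.maximalIdeal A) (IsLocalRing.maximalIdeal B) =
      p ^ k := by
  obtain ⟨ϖA, hA⟩ := IsDiscreteValuationRing.exists_irreducible A
  obtain ⟨ϖB, hB⟩ := IsDiscreteValuationRing.exists_irreducible B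
  have hne : algebraMap A B ϖA ≠ 0 := fun h0 => hA.ne_zero (hinj (h0.trans (map_zero _).symm))
  obtain ⟨e, u, he⟩ := IsDiscreteValuationRing.eq_unit_mul_pow_irreducible hne hB
  rw [ValExt.ramIdx_eq A B ϖA hA ϖB hB e u he]
  haveI : ExpChar K p := ExpChar.prime hp
  obtain ⟨n, k, hk⟩ := IsPurelyInseparable.pow_mem K p (algebraMap B L ϖB)
  have hv : ValuationRing.valuation B L (algebraMap K L k) ≤ 1 := by
    rw [hk, map_pow]
    exact pow_le_one₀ zero_le ((ValExt.vB_integers B L).map_le_one _)
  obtain ⟨α, hα⟩ := ValExt.mem_A_of_le_one A B K L k hv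
  have hα0 : α ≠ 0 := by
    rintro rfl
    rw [map_zero] at hα
    rw [← hα, map_zero] at hk
    exact hB.ne_zero ((IsFractionRing.injective B L)
      ((pow_eq_zero_iff (pow_ne_zero n hp.ne_zero)).mp hk.symm |>.trans (map_zero _).symm))
  obtain ⟨m, uA, rfl⟩ := IsDiscreteValuationRing.eq_unit_mul_pow_irreducible hα0 hA
  have hBeq : ϖB ^ p ^ n = algebraMap A B (uA * ϖA ^ m) := by
    apply IsFractionRing.injective B L
    rw [map_pow, ← hk, ← hα, ← IsScalarTower.algebraMap_apply A K L,
      IsScalarTower.algebraMap_apply A B L]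
  rw [map_mul, map_pow, he, mul_pow, ← pow_mul] at hBeq
  have hu : IsUnit (algebraMap A B uA * (u : B) ^ m) := (uA.isUnit.map _).mul (u.isUnit.pow m)
  obtain ⟨w, hw⟩ := hu
  have h2 : ((1 : Bˣ) : B) * ϖB ^ (p ^ n) = (w : B) * ϖB ^ (e * m) := by
    rw [Units.val_one, one_mul, hBeq, hw]; ring
  have h3 := IsDiscreteValuationRing.unit_mul_pow_congr_pow hB hB 1 w _ _ h2
  have h4 : e ∣ p ^ n := ⟨m, h3⟩
  obtain ⟨k', -, hk'⟩ := (Nat.dvd_prime_pow hp).mp h4
  exact ⟨k', hk'⟩

end Groth.Agent.S7133
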