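import Groth.Statements.S7318
import Mathlib
import Groth.Agent.Lib.helper4.NumType


set_option autoImplicit false
open Finset
open Models Models.NumericalType

namespace Groth.Agent.S7318

open Groth.Agent.Lib.helper4

/-- For a numerical type T on n indices with e pairs i < j such that a_ij > 0, the topological genus 1 -
n + e is ≥ 0. -/
theorem result {n : ℕ} (T : Models.NumericalType n) : 0 ≤ T.topGenus := by
  classical
  let Ed : Finset (Fin n) → Finset (Fin n × Fin n) := fun I =>
    Finset.univ.filter fun p : Fin n × Fin n => p.1 < p.2 ∧ 0 < T.a p.1 p.2 ∧ p.1 ∈ I ∧ p.2 ∈ I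
  have hEd : ∀ I (p : Fin n × Fin n), p ∈ Ed I ↔ p.1 < p.2 ∧ 0 < T.a p.1 p.2 ∧ p.1 ∈ I ∧ p.2 ∈ I := by
    intro I p
    simp only [Ed, Finset.mem_filter, Finset.mem_univ, true_and]
  have key : ∀ k, 1 ≤ k → k ≤ n → ∃ I : Finset (Fin n), I.card = k ∧ k ≤ (Ed I).card + 1 := by
    intro k hk
    induction k, hk using Nat.le_induction with
    | base =>
      intro _
      exact ⟨{⟨0, T.pos⟩}, Finset.card_singleton _, by omega⟩
    | succ k hk ih =>
      intro hkn
      obtain ⟨I, hI, hE⟩ := ih (by omega)
      have hne : I.Nonempty := Finset.card_pos.mp (by omega)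
      have hne' : I ≠ Finset.univ := by
        intro h
        rw [h, Finset.card_univ, Fintype.card_fin] at hI
        omega
      obtain ⟨i, hi, j, hj, hij⟩ := T.connected I hne hne'
      have hijne : i ≠ j := fun h => hj (h ▸ hi)
      have hpos : 0 < T.a i j := lt_of_le_of_ne (T.offDiag_nonneg i j hijne) (Ne.symm hij)
      have hpos' : 0 < T.a j i := by rw [nt_symm T j i]; exact hpos
      refine ⟨insert j I, by rw [Finset.card_insert_of_notMem hj, hI], ?_⟩
      -- the new edge
      obtain ⟨e, he1, he2⟩ : ∃ e : Fin n × Fin n, e ∈ Ed (insert j I) ∧ e ∉ Ed I := by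
        rcases lt_or_gt_of_ne hijne with h | h
        · refine ⟨(i, j), ?_, ?_⟩
          · rw [hEd]
            exact ⟨h, hpos, Finset.mem_insert_of_mem hi, Finset.mem_insert_self _ _⟩
          · rw [hEd]
            exact fun h' => hj h'.2.2.2
        · refine ⟨(j, i), ?_, ?_⟩
          · rw [hEd]
            exact ⟨h, hpos', Finset.mem_insert_self _ _, Finset.mem_insert_of_mem hi⟩
          · rw [hEd]
            exact fun h' => hj h'.2.2.1
      have hsub : insert e (Ed I) ⊆ Ed (insert j I) := by
        intro p hp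
        rw [Finset.mem_insert] at hp
        rcases hp with rfl | hp
        · exact he1
        · rw [hEd] at hp ⊢
          exact ⟨hp.1, hp.2.1, Finset.mem_insert_of_mem hp.2.2.1, Finset.mem_insert_of_mem hp.2.2.2⟩
      have hcard := Finset.card_le_card hsub
      rw [Finset.card_insert_of_notMem he2] at hcard
      omega
  have hn := T.pos
  obtain ⟨I, hI, hE⟩ := key n hn (le_refl _)
  have hIuniv : I = Finset.univ := by
    apply Finset.eq_univ_of_card
    rw [hI, Fintype.card_fin]
  have hEq : Ed I = Finset.univ.filter fun p : Fin n × Fin n => p.1 < p.2 ∧ 0 < T.a p.1 p.2 := by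
    ext p
    rw [hEd, hIuniv]
    simp
  unfold Models.NumericalType.topGenus Models.NumericalType.edgeCount
  rw [hEq] at hE
  have : (n : ℤ) ≤ ((Finset.univ.filter fun p : Fin n × Fin n => p.1 < p.2 ∧ 0 < T.a p.1 p.2).card : ℤ) + 1 := by
    exact_mod_cast hE
  linarith

end Groth.Agent.S7318
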