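import Groth.Statements.S7341
import Mathlib
import Groth.Agent.Lib.helper4.NumType2


set_option autoImplicit false
set_option maxHeartbeats 0
open Finset
open Models Models.NumericalType

namespace Groth.Agent.S7341

open Groth.Agent.Lib.helper4

theorem chain3 {n : ℕ} (T : Models.NumericalType n) (hn : 3 < n) (v : Fin 3 ↪ Fin n)
    (hv : ∀ j, T.IsMinusTwo (v j)) (h01 : T.a (v 0) (v 1) ≠ 0) (h12 : T.a (v 1) (v 2) ≠ 0) :
    T.a (v 0) (v 2) = 0 ∧ ∃ (i' k' : Fin n) (w : ℤ), ((i' = v 0 ∧ k' = v 2) ∨ (i' = v 2 ∧ k' = v 0)) ∧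
      ((T.w i' = w ∧ T.w (v 1) = w ∧ T.w k' = w ∧ T.a i' (v 1) = w ∧ T.a (v 1) k' = w ∧
          T.m (v 1) ≤ 2 * T.m i' ∧ T.m i' + T.m k' ≤ 2 * T.m (v 1) ∧ T.m (v 1) ≤ 2 * T.m k') ∨
        (T.w i' = w ∧ T.w (v 1) = w ∧ T.w k' = 2 * w ∧ T.a i' (v 1) = w ∧ T.a (v 1) k' = 2 * w ∧
          T.m (v 1) ≤ 2 * T.m i' ∧ T.m i' + 2 * T.m k' ≤ 2 * T.m (v 1) ∧ T.m (v 1) ≤ 2 * T.m k') ∨
        (T.w i' = 2 * w ∧ T.w (v 1) = 2 * w ∧ T.w k' = w ∧ T.a i' (v 1) = 2 * w ∧ T.a (v 1) k' = 2 * w ∧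
          T.m (v 1) ≤ 2 * T.m i' ∧ T.m i' + T.m k' ≤ 2 * T.m (v 1) ∧ T.m (v 1) ≤ T.m k')) := by
  have hne : ∀ {p q : Fin 3}, p ≠ q → v p ≠ v q := fun h => v.injective.ne h
  have e0_1 := nt_edge_ge T (hne (by decide : (0 : Fin 3) ≠ 1)) h01
  have e1_0 := nt_edge_ge' T (hne (by decide : (0 : Fin 3) ≠ 1)) h01
  rw [nt_symm T (v 0) (v 1)] at e1_0
  have e1_2 := nt_edge_ge T (hne (by decide : (1 : Fin 3) ≠ 2)) h12
  have e2_1 := nt_edge_ge' T (hne (by decide : (1 : Fin 3) ≠ 2)) h12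
  rw [nt_symm T (v 1) (v 2)] at e2_1
  have Z0_2 : T.a (v 0) (v 2) = 0 := by
    by_contra hx
    have e0_2 := nt_edge_ge T (hne (by decide : (0 : Fin 3) ≠ 2)) hx
    have e2_0 := nt_edge_ge' T (hne (by decide : (0 : Fin 3) ≠ 2)) hx
    rw [nt_symm T (v 0) (v 2)] at e2_0
    refine nt_no_affine T v hn hv
      !![0,1,1; 1,0,1; 1,1,0] ?_ ![1,1,1] (by decide)
      (by decide) (by decide)
    intro p q hpq hk
    fin_cases p <;> fin_cases q <;> first | (exfalso; exact hk rfl) | (simp at hk hpq ⊢ <;> assumption)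
  have Z2_0 : T.a (v 2) (v 0) = 0 := by rw [nt_symm T (v 2) (v 0)]; exact Z0_2
  have T0_1 : T.a (v 0) (v 1) < 3 * T.w (v 0) := by
    by_contra hx
    push Not at hx
    refine nt_no_affine T v hn hv
      !![0,3,0; 1,0,1; 0,1,0] ?_ ![3,2,1] (by decide)
      (by decide) (by decide)
    intro p q hpq hk
    fin_cases p <;> fin_cases q <;> first | (exfalso; exact hk rfl) | (simp at hk hpq ⊢ <;> assumption)
  have T1_0 : T.a (v 1) (v 0) < 3 * T.w (v 1) := by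
    by_contra hx
    push Not at hx
    refine nt_no_affine T v hn hv
      !![0,1,0; 3,0,1; 0,1,0] ?_ ![1,2,1] (by decide)
      (by decide) (by decide)
    intro p q hpq hk
    fin_cases p <;> fin_cases q <;> first | (exfalso; exact hk rfl) | (simp at hk hpq ⊢ <;> assumption)
  have T1_2 : T.a (v 1) (v 2) < 3 * T.w (v 1) := by
    by_contra hx
    push Not at hx
    refine nt_no_affine T v hn hv
      !![0,1,0; 1,0,3; 0,1,0] ?_ ![1,2,1] (by decide)
      (by decide) (by decide)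
    intro p q hpq hk
    fin_cases p <;> fin_cases q <;> first | (exfalso; exact hk rfl) | (simp at hk hpq ⊢ <;> assumption)
  have T2_1 : T.a (v 2) (v 1) < 3 * T.w (v 2) := by
    by_contra hx
    push Not at hx
    refine nt_no_affine T v hn hv
      !![0,1,0; 1,0,1; 0,3,0] ?_ ![1,2,3] (by decide)
      (by decide) (by decide)
    intro p q hpq hk
    fin_cases p <;> fin_cases q <;> first | (exfalso; exact hk rfl) | (simp at hk hpq ⊢ <;> assumption)
  have F0_1_1_0 : 2 * T.w (v 0) ≤ T.a (v 0) (v 1) → 2 * T.w (v 1) ≤ T.a (v 1) (v 0) → False := by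
    intro hx hy
    refine nt_no_affine T v hn hv
      !![0,2,0; 2,0,1; 0,1,0] ?_ ![1,1,0] (by decide)
      (by decide) (by decide)
    intro p q hpq hk
    fin_cases p <;> fin_cases q <;> first | (exfalso; exact hk rfl) | (simp at hk hpq ⊢ <;> assumption)
  have F0_1_1_2 : 2 * T.w (v 0) ≤ T.a (v 0) (v 1) → 2 * T.w (v 1) ≤ T.a (v 1) (v 2) → False := by
    intro hx hy
    refine nt_no_affine T v hn hv
      !![0,2,0; 1,0,2; 0,1,0] ?_ ![2,2,1] (by decide)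
      (by decide) (by decide)
    intro p q hpq hk
    fin_cases p <;> fin_cases q <;> first | (exfalso; exact hk rfl) | (simp at hk hpq ⊢ <;> assumption)
  have F0_1_2_1 : 2 * T.w (v 0) ≤ T.a (v 0) (v 1) → 2 * T.w (v 2) ≤ T.a (v 2) (v 1) → False := by
    intro hx hy
    refine nt_no_affine T v hn hv
      !![0,2,0; 1,0,1; 0,2,0] ?_ ![1,1,1] (by decide)
      (by decide) (by decide)
    intro p q hpq hk
    fin_cases p <;> fin_cases q <;> first | (exfalso; exact hk rfl) | (simp at hk hpq ⊢ <;> assumption)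
  have F1_0_1_2 : 2 * T.w (v 1) ≤ T.a (v 1) (v 0) → 2 * T.w (v 1) ≤ T.a (v 1) (v 2) → False := by
    intro hx hy
    refine nt_no_affine T v hn hv
      !![0,1,0; 2,0,2; 0,1,0] ?_ ![1,2,1] (by decide)
      (by decide) (by decide)
    intro p q hpq hk
    fin_cases p <;> fin_cases q <;> first | (exfalso; exact hk rfl) | (simp at hk hpq ⊢ <;> assumption)
  have F1_0_2_1 : 2 * T.w (v 1) ≤ T.a (v 1) (v 0) → 2 * T.w (v 2) ≤ T.a (v 2) (v 1) → False := by
    intro hx hy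
    refine nt_no_affine T v hn hv
      !![0,1,0; 2,0,1; 0,2,0] ?_ ![1,2,2] (by decide)
      (by decide) (by decide)
    intro p q hpq hk
    fin_cases p <;> fin_cases q <;> first | (exfalso; exact hk rfl) | (simp at hk hpq ⊢ <;> assumption)
  have F1_2_2_1 : 2 * T.w (v 1) ≤ T.a (v 1) (v 2) → 2 * T.w (v 2) ≤ T.a (v 2) (v 1) → False := by
    intro hx hy
    refine nt_no_affine T v hn hv
      !![0,1,0; 1,0,2; 0,2,0] ?_ ![0,1,1] (by decide)
      (by decide) (by decide)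
    intro p q hpq hk
    fin_cases p <;> fin_cases q <;> first | (exfalso; exact hk rfl) | (simp at hk hpq ⊢ <;> assumption)
  have S0_1 := nt_symm T (v 0) (v 1)
  have S1_2 := nt_symm T (v 1) (v 2)
  by_cases c0_1 : 2 * T.w (v 0) ≤ T.a (v 0) (v 1)
  · skip
    have n1_0 : ¬ (2 * T.w (v 1) ≤ T.a (v 1) (v 0)) := fun h => F0_1_1_0 c0_1 h
    have n1_2 : ¬ (2 * T.w (v 1) ≤ T.a (v 1) (v 2)) := fun h => F0_1_1_2 c0_1 h
    have n2_1 : ¬ (2 * T.w (v 2) ≤ T.a (v 2) (v 1)) := fun h => F0_1_2_1 c0_1 h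
    have E0_1 : T.a (v 0) (v 1) = 2 * T.w (v 0) := nt_eq_two_of_dvd (T.w_pos _) (T.w_dvd _ _) c0_1 T0_1
    have E1_0 : T.a (v 1) (v 0) = T.w (v 1) := nt_eq_of_dvd_lt (T.w_pos _) (T.w_dvd _ _) e1_0 (not_le.mp n1_0)
    have E1_2 : T.a (v 1) (v 2) = T.w (v 1) := nt_eq_of_dvd_lt (T.w_pos _) (T.w_dvd _ _) e1_2 (not_le.mp n1_2)
    have E2_1 : T.a (v 2) (v 1) = T.w (v 2) := nt_eq_of_dvd_lt (T.w_pos _) (T.w_dvd _ _) e2_1 (not_le.mp n2_1)
    have W0 : T.w (v 0) = 1 * T.w (v 0) := by ring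
    have W1 : T.w (v 1) = 2 * T.w (v 0) := by linarith [S0_1, E0_1, E1_0, W0]
    have W2 : T.w (v 2) = 2 * T.w (v 0) := by linarith [S1_2, E1_2, E2_1, W1]
    have A0_0 : T.a (v 0) (v 0) = -2 * T.w (v 0) := by linarith [(hv 0).2, W0]
    have A0_1 : T.a (v 0) (v 1) = 2 * T.w (v 0) := by linarith [E0_1, W0]
    have A0_2 : T.a (v 0) (v 2) = 0 * T.w (v 0) := by linarith [Z0_2]
    have A1_0 : T.a (v 1) (v 0) = 2 * T.w (v 0) := by linarith [E1_0, W1]
    have A1_1 : T.a (v 1) (v 1) = -4 * T.w (v 0) := by linarith [(hv 1).2, W1]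
    have A1_2 : T.a (v 1) (v 2) = 2 * T.w (v 0) := by linarith [E1_2, W1]
    have A2_0 : T.a (v 2) (v 0) = 0 * T.w (v 0) := by linarith [Z2_0]
    have A2_1 : T.a (v 2) (v 1) = 2 * T.w (v 0) := by linarith [E2_1, W2]
    have A2_2 : T.a (v 2) (v 2) = -4 * T.w (v 0) := by linarith [(hv 2).2, W2]
    have hW := T.w_pos (v 0)
    have R0 : 2 * T.m (v 1) ≤ 2 * T.m (v 0) := by
      have r := nt_row_le T v 0
      simp only [Fin.sum_univ_three, A0_0, A0_1, A0_2] at r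
      exact le_of_mul_le_mul_left (a := T.w (v 0)) (by linarith) hW
    have R1 : 2 * T.m (v 0) + 2 * T.m (v 2) ≤ 4 * T.m (v 1) := by
      have r := nt_row_le T v 1
      simp only [Fin.sum_univ_three, A1_0, A1_1, A1_2] at r
      exact le_of_mul_le_mul_left (a := T.w (v 0)) (by linarith) hW
    have R2 : 2 * T.m (v 1) ≤ 4 * T.m (v 2) := by
      have r := nt_row_le T v 2
      simp only [Fin.sum_univ_three, A2_0, A2_1, A2_2] at r
      exact le_of_mul_le_mul_left (a := T.w (v 0)) (by linarith) hW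
    refine ⟨Z0_2, v 2, v 0, T.w (v 0), Or.inr ⟨rfl, rfl⟩, Or.inr (Or.inr (?_))⟩
    refine ⟨?_, ?_, ?_, ?_, ?_, ?_, ?_, ?_⟩ <;> linarith [W0, W1, W2, A0_0, A0_1, A0_2, A1_0, A1_1, A1_2, A2_0, A2_1, A2_2, R0, R1, R2]
  · skip
    by_cases c1_0 : 2 * T.w (v 1) ≤ T.a (v 1) (v 0)
    · skip
      have n1_2 : ¬ (2 * T.w (v 1) ≤ T.a (v 1) (v 2)) := fun h => F1_0_1_2 c1_0 h
      have n2_1 : ¬ (2 * T.w (v 2) ≤ T.a (v 2) (v 1)) := fun h => F1_0_2_1 c1_0 h
      have E0_1 : T.a (v 0) (v 1) = T.w (v 0) := nt_eq_of_dvd_lt (T.w_pos _) (T.w_dvd _ _) e0_1 (not_le.mp c0_1)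
      have E1_0 : T.a (v 1) (v 0) = 2 * T.w (v 1) := nt_eq_two_of_dvd (T.w_pos _) (T.w_dvd _ _) c1_0 T1_0
      have E1_2 : T.a (v 1) (v 2) = T.w (v 1) := nt_eq_of_dvd_lt (T.w_pos _) (T.w_dvd _ _) e1_2 (not_le.mp n1_2)
      have E2_1 : T.a (v 2) (v 1) = T.w (v 2) := nt_eq_of_dvd_lt (T.w_pos _) (T.w_dvd _ _) e2_1 (not_le.mp n2_1)
      have W1 : T.w (v 1) = 1 * T.w (v 1) := by ring
      have W2 : T.w (v 2) = 1 * T.w (v 1) := by linarith [S1_2, E1_2, E2_1, W1]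
      have W0 : T.w (v 0) = 2 * T.w (v 1) := by linarith [S0_1, E1_0, E0_1, W1]
      have A0_0 : T.a (v 0) (v 0) = -4 * T.w (v 1) := by linarith [(hv 0).2, W0]
      have A0_1 : T.a (v 0) (v 1) = 2 * T.w (v 1) := by linarith [E0_1, W0]
      have A0_2 : T.a (v 0) (v 2) = 0 * T.w (v 1) := by linarith [Z0_2]
      have A1_0 : T.a (v 1) (v 0) = 2 * T.w (v 1) := by linarith [E1_0, W1]
      have A1_1 : T.a (v 1) (v 1) = -2 * T.w (v 1) := by linarith [(hv 1).2, W1]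
      have A1_2 : T.a (v 1) (v 2) = 1 * T.w (v 1) := by linarith [E1_2, W1]
      have A2_0 : T.a (v 2) (v 0) = 0 * T.w (v 1) := by linarith [Z2_0]
      have A2_1 : T.a (v 2) (v 1) = 1 * T.w (v 1) := by linarith [E2_1, W2]
      have A2_2 : T.a (v 2) (v 2) = -2 * T.w (v 1) := by linarith [(hv 2).2, W2]
      have hW := T.w_pos (v 1)
      have R0 : 2 * T.m (v 1) ≤ 4 * T.m (v 0) := by
        have r := nt_row_le T v 0
        simp only [Fin.sum_univ_three, A0_0, A0_1, A0_2] at r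
        exact le_of_mul_le_mul_left (a := T.w (v 1)) (by linarith) hW
      have R1 : 2 * T.m (v 0) + 1 * T.m (v 2) ≤ 2 * T.m (v 1) := by
        have r := nt_row_le T v 1
        simp only [Fin.sum_univ_three, A1_0, A1_1, A1_2] at r
        exact le_of_mul_le_mul_left (a := T.w (v 1)) (by linarith) hW
      have R2 : 1 * T.m (v 1) ≤ 2 * T.m (v 2) := by
        have r := nt_row_le T v 2
        simp only [Fin.sum_univ_three, A2_0, A2_1, A2_2] at r
        exact le_of_mul_le_mul_left (a := T.w (v 1)) (by linarith) hW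
      refine ⟨Z0_2, v 2, v 0, T.w (v 1), Or.inr ⟨rfl, rfl⟩, Or.inr (Or.inl ?_)⟩
      refine ⟨?_, ?_, ?_, ?_, ?_, ?_, ?_, ?_⟩ <;> linarith [W0, W1, W2, A0_0, A0_1, A0_2, A1_0, A1_1, A1_2, A2_0, A2_1, A2_2, R0, R1, R2]
    · skip
      by_cases c1_2 : 2 * T.w (v 1) ≤ T.a (v 1) (v 2)
      · skip
        have n2_1 : ¬ (2 * T.w (v 2) ≤ T.a (v 2) (v 1)) := fun h => F1_2_2_1 c1_2 h
        have E0_1 : T.a (v 0) (v 1) = T.w (v 0) := nt_eq_of_dvd_lt (T.w_pos _) (T.w_dvd _ _) e0_1 (not_le.mp c0_1)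
        have E1_0 : T.a (v 1) (v 0) = T.w (v 1) := nt_eq_of_dvd_lt (T.w_pos _) (T.w_dvd _ _) e1_0 (not_le.mp c1_0)
        have E1_2 : T.a (v 1) (v 2) = 2 * T.w (v 1) := nt_eq_two_of_dvd (T.w_pos _) (T.w_dvd _ _) c1_2 T1_2
        have E2_1 : T.a (v 2) (v 1) = T.w (v 2) := nt_eq_of_dvd_lt (T.w_pos _) (T.w_dvd _ _) e2_1 (not_le.mp n2_1)
        have W0 : T.w (v 0) = 1 * T.w (v 0) := by ring
        have W1 : T.w (v 1) = 1 * T.w (v 0) := by linarith [S0_1, E0_1, E1_0, W0]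
        have W2 : T.w (v 2) = 2 * T.w (v 0) := by linarith [S1_2, E1_2, E2_1, W1]
        have A0_0 : T.a (v 0) (v 0) = -2 * T.w (v 0) := by linarith [(hv 0).2, W0]
        have A0_1 : T.a (v 0) (v 1) = 1 * T.w (v 0) := by linarith [E0_1, W0]
        have A0_2 : T.a (v 0) (v 2) = 0 * T.w (v 0) := by linarith [Z0_2]
        have A1_0 : T.a (v 1) (v 0) = 1 * T.w (v 0) := by linarith [E1_0, W1]
        have A1_1 : T.a (v 1) (v 1) = -2 * T.w (v 0) := by linarith [(hv 1).2, W1]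
        have A1_2 : T.a (v 1) (v 2) = 2 * T.w (v 0) := by linarith [E1_2, W1]
        have A2_0 : T.a (v 2) (v 0) = 0 * T.w (v 0) := by linarith [Z2_0]
        have A2_1 : T.a (v 2) (v 1) = 2 * T.w (v 0) := by linarith [E2_1, W2]
        have A2_2 : T.a (v 2) (v 2) = -4 * T.w (v 0) := by linarith [(hv 2).2, W2]
        have hW := T.w_pos (v 0)
        have R0 : 1 * T.m (v 1) ≤ 2 * T.m (v 0) := by
          have r := nt_row_le T v 0
          simp only [Fin.sum_univ_three, A0_0, A0_1, A0_2] at r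
          exact le_of_mul_le_mul_left (a := T.w (v 0)) (by linarith) hW
        have R1 : 1 * T.m (v 0) + 2 * T.m (v 2) ≤ 2 * T.m (v 1) := by
          have r := nt_row_le T v 1
          simp only [Fin.sum_univ_three, A1_0, A1_1, A1_2] at r
          exact le_of_mul_le_mul_left (a := T.w (v 0)) (by linarith) hW
        have R2 : 2 * T.m (v 1) ≤ 4 * T.m (v 2) := by
          have r := nt_row_le T v 2
          simp only [Fin.sum_univ_three, A2_0, A2_1, A2_2] at r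
          exact le_of_mul_le_mul_left (a := T.w (v 0)) (by linarith) hW
        refine ⟨Z0_2, v 0, v 2, T.w (v 0), Or.inl ⟨rfl, rfl⟩, Or.inr (Or.inl ?_)⟩
        refine ⟨?_, ?_, ?_, ?_, ?_, ?_, ?_, ?_⟩ <;> linarith [W0, W1, W2, A0_0, A0_1, A0_2, A1_0, A1_1, A1_2, A2_0, A2_1, A2_2, R0, R1, R2]
      · skip
        by_cases c2_1 : 2 * T.w (v 2) ≤ T.a (v 2) (v 1)
        · skip
          have E0_1 : T.a (v 0) (v 1) = T.w (v 0) := nt_eq_of_dvd_lt (T.w_pos _) (T.w_dvd _ _) e0_1 (not_le.mp c0_1)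
          have E1_0 : T.a (v 1) (v 0) = T.w (v 1) := nt_eq_of_dvd_lt (T.w_pos _) (T.w_dvd _ _) e1_0 (not_le.mp c1_0)
          have E1_2 : T.a (v 1) (v 2) = T.w (v 1) := nt_eq_of_dvd_lt (T.w_pos _) (T.w_dvd _ _) e1_2 (not_le.mp c1_2)
          have E2_1 : T.a (v 2) (v 1) = 2 * T.w (v 2) := nt_eq_two_of_dvd (T.w_pos _) (T.w_dvd _ _) c2_1 T2_1
          have W2 : T.w (v 2) = 1 * T.w (v 2) := by ring
          have W1 : T.w (v 1) = 2 * T.w (v 2) := by linarith [S1_2, E2_1, E1_2, W2]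
          have W0 : T.w (v 0) = 2 * T.w (v 2) := by linarith [S0_1, E1_0, E0_1, W1]
          have A0_0 : T.a (v 0) (v 0) = -4 * T.w (v 2) := by linarith [(hv 0).2, W0]
          have A0_1 : T.a (v 0) (v 1) = 2 * T.w (v 2) := by linarith [E0_1, W0]
          have A0_2 : T.a (v 0) (v 2) = 0 * T.w (v 2) := by linarith [Z0_2]
          have A1_0 : T.a (v 1) (v 0) = 2 * T.w (v 2) := by linarith [E1_0, W1]
          have A1_1 : T.a (v 1) (v 1) = -4 * T.w (v 2) := by linarith [(hv 1).2, W1]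
          have A1_2 : T.a (v 1) (v 2) = 2 * T.w (v 2) := by linarith [E1_2, W1]
          have A2_0 : T.a (v 2) (v 0) = 0 * T.w (v 2) := by linarith [Z2_0]
          have A2_1 : T.a (v 2) (v 1) = 2 * T.w (v 2) := by linarith [E2_1, W2]
          have A2_2 : T.a (v 2) (v 2) = -2 * T.w (v 2) := by linarith [(hv 2).2, W2]
          have hW := T.w_pos (v 2)
          have R0 : 2 * T.m (v 1) ≤ 4 * T.m (v 0) := by
            have r := nt_row_le T v 0
            simp only [Fin.sum_univ_three, A0_0, A0_1, A0_2] at r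
            exact le_of_mul_le_mul_left (a := T.w (v 2)) (by linarith) hW
          have R1 : 2 * T.m (v 0) + 2 * T.m (v 2) ≤ 4 * T.m (v 1) := by
            have r := nt_row_le T v 1
            simp only [Fin.sum_univ_three, A1_0, A1_1, A1_2] at r
            exact le_of_mul_le_mul_left (a := T.w (v 2)) (by linarith) hW
          have R2 : 2 * T.m (v 1) ≤ 2 * T.m (v 2) := by
            have r := nt_row_le T v 2
            simp only [Fin.sum_univ_three, A2_0, A2_1, A2_2] at r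
            exact le_of_mul_le_mul_left (a := T.w (v 2)) (by linarith) hW
          refine ⟨Z0_2, v 0, v 2, T.w (v 2), Or.inl ⟨rfl, rfl⟩, Or.inr (Or.inr (?_))⟩
          refine ⟨?_, ?_, ?_, ?_, ?_, ?_, ?_, ?_⟩ <;> linarith [W0, W1, W2, A0_0, A0_1, A0_2, A1_0, A1_1, A1_2, A2_0, A2_1, A2_2, R0, R1, R2]
        · skip
          have E0_1 : T.a (v 0) (v 1) = T.w (v 0) := nt_eq_of_dvd_lt (T.w_pos _) (T.w_dvd _ _) e0_1 (not_le.mp c0_1)
          have E1_0 : T.a (v 1) (v 0) = T.w (v 1) := nt_eq_of_dvd_lt (T.w_pos _) (T.w_dvd _ _) e1_0 (not_le.mp c1_0)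
          have E1_2 : T.a (v 1) (v 2) = T.w (v 1) := nt_eq_of_dvd_lt (T.w_pos _) (T.w_dvd _ _) e1_2 (not_le.mp c1_2)
          have E2_1 : T.a (v 2) (v 1) = T.w (v 2) := nt_eq_of_dvd_lt (T.w_pos _) (T.w_dvd _ _) e2_1 (not_le.mp c2_1)
          have W0 : T.w (v 0) = 1 * T.w (v 0) := by ring
          have W1 : T.w (v 1) = 1 * T.w (v 0) := by linarith [S0_1, E0_1, E1_0, W0]
          have W2 : T.w (v 2) = 1 * T.w (v 0) := by linarith [S1_2, E1_2, E2_1, W1]
          have A0_0 : T.a (v 0) (v 0) = -2 * T.w (v 0) := by linarith [(hv 0).2, W0]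
          have A0_1 : T.a (v 0) (v 1) = 1 * T.w (v 0) := by linarith [E0_1, W0]
          have A0_2 : T.a (v 0) (v 2) = 0 * T.w (v 0) := by linarith [Z0_2]
          have A1_0 : T.a (v 1) (v 0) = 1 * T.w (v 0) := by linarith [E1_0, W1]
          have A1_1 : T.a (v 1) (v 1) = -2 * T.w (v 0) := by linarith [(hv 1).2, W1]
          have A1_2 : T.a (v 1) (v 2) = 1 * T.w (v 0) := by linarith [E1_2, W1]
          have A2_0 : T.a (v 2) (v 0) = 0 * T.w (v 0) := by linarith [Z2_0]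
          have A2_1 : T.a (v 2) (v 1) = 1 * T.w (v 0) := by linarith [E2_1, W2]
          have A2_2 : T.a (v 2) (v 2) = -2 * T.w (v 0) := by linarith [(hv 2).2, W2]
          have hW := T.w_pos (v 0)
          have R0 : 1 * T.m (v 1) ≤ 2 * T.m (v 0) := by
            have r := nt_row_le T v 0
            simp only [Fin.sum_univ_three, A0_0, A0_1, A0_2] at r
            exact le_of_mul_le_mul_left (a := T.w (v 0)) (by linarith) hW
          have R1 : 1 * T.m (v 0) + 1 * T.m (v 2) ≤ 2 * T.m (v 1) := by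
            have r := nt_row_le T v 1
            simp only [Fin.sum_univ_three, A1_0, A1_1, A1_2] at r
            exact le_of_mul_le_mul_left (a := T.w (v 0)) (by linarith) hW
          have R2 : 1 * T.m (v 1) ≤ 2 * T.m (v 2) := by
            have r := nt_row_le T v 2
            simp only [Fin.sum_univ_three, A2_0, A2_1, A2_2] at r
            exact le_of_mul_le_mul_left (a := T.w (v 0)) (by linarith) hW
          refine ⟨Z0_2, v 0, v 2, T.w (v 0), Or.inl ⟨rfl, rfl⟩, Or.inl ?_⟩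
          refine ⟨?_, ?_, ?_, ?_, ?_, ?_, ?_, ?_⟩ <;> linarith [W0, W1, W2, A0_0, A0_1, A0_2, A1_0, A1_1, A1_2, A2_0, A2_1, A2_2, R0, R1, R2]

/-- Classification of proper subgraphs which are chains of three vertices: let T be a numerical type on
n > 3 indices and i, j, k distinct (-2)-indices with a_ij > 0 and a_jk > 0. Then a_ik = 0 and, up to
reversing the order of i, j, k, one of the following holds for some integer w: (A3) w_i = w_j = w_k
= w, a_ij = a_jk = w, with 2 m_i ≥ m_j, 2 m_j ≥ m_i + m_k, 2 m_k ≥ m_j; (C3) w_i = w_j = w, w_k =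
2w, a_ij = w, a_jk = 2w, with 2 m_i ≥ m_j, 2 m_j ≥ m_i + 2 m_k, 2 m_k ≥ m_j; (B3) w_i = w_j = 2w,
w_k = w, a_ij = a_jk = 2w, with 2 m_i ≥ m_j, 2 m_j ≥ m_i + m_k, m_k ≥ m_j. -/
theorem result {n : ℕ} (T : Models.NumericalType n) (hn : 3 < n) (i j k : Fin n)
    (hij : i ≠ j) (hjk : j ≠ k) (hik : i ≠ k) (hi : T.IsMinusTwo i) (hj : T.IsMinusTwo j) (hk : T.IsMinusTwo k)
    (h1 : 0 < T.a i j) (h2 : 0 < T.a j k) :
    T.a i k = 0 ∧ ∃ (i' k' : Fin n) (w : ℤ), ((i' = i ∧ k' = k) ∨ (i' = k ∧ k' = i)) ∧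
      ((T.w i' = w ∧ T.w j = w ∧ T.w k' = w ∧ T.a i' j = w ∧ T.a j k' = w ∧
          T.m j ≤ 2 * T.m i' ∧ T.m i' + T.m k' ≤ 2 * T.m j ∧ T.m j ≤ 2 * T.m k') ∨
        (T.w i' = w ∧ T.w j = w ∧ T.w k' = 2 * w ∧ T.a i' j = w ∧ T.a j k' = 2 * w ∧
          T.m j ≤ 2 * T.m i' ∧ T.m i' + 2 * T.m k' ≤ 2 * T.m j ∧ T.m j ≤ 2 * T.m k') ∨
        (T.w i' = 2 * w ∧ T.w j = 2 * w ∧ T.w k' = w ∧ T.a i' j = 2 * w ∧ T.a j k' = 2 * w ∧
          T.m j ≤ 2 * T.m i' ∧ T.m i' + T.m k' ≤ 2 * T.m j ∧ T.m j ≤ T.m k')) := by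
  classical
  have hinj : Function.Injective ![i, j, k] := by
    intro a b hab
    fin_cases a <;> fin_cases b <;> simp_all
  let v : Fin 3 ↪ Fin n := ⟨![i, j, k], hinj⟩
  have hv : ∀ p, T.IsMinusTwo (v p) := by
    intro p
    fin_cases p
    · exact hi
    · exact hj
    · exact hk
  exact chain3 T hn v hv (ne_of_gt h1) (ne_of_gt h2)

end Groth.Agent.S7341
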