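import Groth.Statements.S7342
import Mathlib
import Groth.Agent.Lib.helper4.NumType3


set_option autoImplicit false
open Finset
open Models Models.NumericalType

namespace Groth.Agent.S7342

open Groth.Agent.Lib.helper4

/-- Let T be a numerical type on n indices, t ≥ 4 and n > t + 2. Then no t + 2 (-2)-indices of T,
pairwise distinct and numbered i_0, …, i_{t+1}, satisfy: a_{i_j i_{j+1}} > 0 for 1 ≤ j ≤ t - 1,
a_{i_0 i_2} > 0 and a_{i_{t-1} i_{t+1}} > 0. -/
theorem result {n : ℕ} (T : Models.NumericalType n) (t : ℕ) (ht : 4 ≤ t) (hn : t + 2 < n)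
    (v : Fin (t + 2) ↪ Fin n) (hv : ∀ j, T.IsMinusTwo (v j))
    (hchain : ∀ j j' : Fin (t + 2), 1 ≤ j.val → j.val + 1 ≤ t → j'.val = j.val + 1 → 0 < T.a (v j) (v j'))
    (h02 : ∀ j j' : Fin (t + 2), j.val = 0 → j'.val = 2 → 0 < T.a (v j) (v j'))
    (hlast : ∀ j j' : Fin (t + 2), j.val = t - 1 → j'.val = t + 1 → 0 < T.a (v j) (v j')) : False := by
  classical
  let E : ℕ → ℕ → Prop := fun a b =>
    (1 ≤ a ∧ a + 1 ≤ t ∧ b = a + 1) ∨ (a = 0 ∧ b = 2) ∨ (a = t - 1 ∧ b = t + 1)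
  have hE : ∀ p q : Fin (t + 2), E p.val q.val → 0 < T.a (v p) (v q) := by
    rintro p q (⟨h1, h2, h3⟩ | ⟨h1, h2⟩ | ⟨h1, h2⟩)
    · exact hchain p q h1 h2 h3
    · exact h02 p q h1 h2
    · exact hlast p q h1 h2
  let κ : Fin (t + 2) → Fin (t + 2) → ℤ :=
    fun p q => if E p.val q.val ∨ E q.val p.val then 1 else 0
  let c : Fin (t + 2) → ℤ := fun j => if 2 ≤ j.val ∧ j.val + 1 ≤ t then 2 else 1
  have hcpos : ∀ p, 0 < c p := by
    intro p
    simp only [c]
    split_ifs <;> norm_num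
  have hc0 : ∀ p, 0 ≤ c p := fun p => (hcpos p).le
  have hcne : c ≠ 0 := by
    intro h
    have h1 := hcpos ⟨0, by omega⟩
    rw [h] at h1
    exact lt_irrefl _ h1
  have hκ0 : ∀ p q, 0 ≤ κ p q := by
    intro p q
    simp only [κ]
    split_ifs <;> norm_num
  refine nt_no_affine T v hn hv κ ?_ c hc0 hcne ?_
  · intro p q hpq hk
    have hadj : E p.val q.val ∨ E q.val p.val := by
      by_contra hcon
      apply hk
      simp only [κ]
      rw [if_neg hcon]
    have hκ1 : κ p q = 1 := by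
      simp only [κ]
      rw [if_pos hadj]
    rw [hκ1, one_mul]
    rcases hadj with h | h
    · exact nt_edge_ge T (fun e => hpq (v.injective e)) (ne_of_gt (hE p q h))
    · have h2 := nt_edge_ge' T (fun e => hpq (v.injective e).symm) (ne_of_gt (hE q p h))
      rwa [nt_symm T (v q) (v p)] at h2
  · intro p _
    have hterm : ∀ q : Fin (t + 2), (E p.val q.val ∨ E q.val p.val) → κ p q = 1 := by
      intro q h
      simp only [κ]
      rw [if_pos h]
    have hnonneg : ∀ q ∈ Finset.univ.erase p, 0 ≤ κ p q * c q :=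
      fun q _ => mul_nonneg (hκ0 p q) (hc0 q)
    have hc2 : ∀ q : Fin (t + 2), 2 ≤ q.val → q.val + 1 ≤ t → c q = 2 := by
      intro q h1 h2
      simp only [c]
      rw [if_pos ⟨h1, h2⟩]
    have hc1 : ∀ q : Fin (t + 2), ¬ (2 ≤ q.val ∧ q.val + 1 ≤ t) → c q = 1 := by
      intro q h
      simp only [c]
      rw [if_neg h]
    have hmem : ∀ q : Fin (t + 2), q.val ≠ p.val → q ∈ Finset.univ.erase p :=
      fun q h => Finset.mem_erase.mpr ⟨fun e => h (by rw [e]), Finset.mem_univ q⟩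
    have hlt := p.isLt
    by_cases h0 : p.val = 0
    · have hq2 : (2 : ℕ) < t + 2 := by omega
      have h1 : κ p ⟨2, hq2⟩ * c ⟨2, hq2⟩ ≤ ∑ x ∈ Finset.univ.erase p, κ p x * c x :=
        Finset.single_le_sum (f := fun x => κ p x * c x) hnonneg
          (hmem ⟨2, hq2⟩ (by show 2 ≠ p.val; omega))
      rw [hterm ⟨2, hq2⟩ (Or.inl (Or.inr (Or.inl ⟨h0, rfl⟩))),
        hc2 ⟨2, hq2⟩ (le_refl 2) (by show 2 + 1 ≤ t; omega)] at h1
      rw [hc1 p (by omega)]
      linarith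
    by_cases h1 : p.val = 1
    · have hq2 : (2 : ℕ) < t + 2 := by omega
      have h1' : κ p ⟨2, hq2⟩ * c ⟨2, hq2⟩ ≤ ∑ x ∈ Finset.univ.erase p, κ p x * c x :=
        Finset.single_le_sum (f := fun x => κ p x * c x) hnonneg
          (hmem ⟨2, hq2⟩ (by show 2 ≠ p.val; omega))
      rw [hterm ⟨2, hq2⟩ (Or.inl (Or.inl ⟨by omega, by omega, by show 2 = p.val + 1; omega⟩)),
        hc2 ⟨2, hq2⟩ (le_refl 2) (by show 2 + 1 ≤ t; omega)] at h1'
      rw [hc1 p (by omega)]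
      linarith
    by_cases ht0 : p.val = t
    · have hq : t - 1 < t + 2 := by omega
      have h1' : κ p ⟨t - 1, hq⟩ * c ⟨t - 1, hq⟩ ≤ ∑ x ∈ Finset.univ.erase p, κ p x * c x :=
        Finset.single_le_sum (f := fun x => κ p x * c x) hnonneg
          (hmem ⟨t - 1, hq⟩ (by show t - 1 ≠ p.val; omega))
      rw [hterm ⟨t - 1, hq⟩ (Or.inr (Or.inl ⟨by show 1 ≤ t - 1; omega,
          by show t - 1 + 1 ≤ t; omega, by show p.val = t - 1 + 1; omega⟩)),
        hc2 ⟨t - 1, hq⟩ (by show 2 ≤ t - 1; omega) (by show t - 1 + 1 ≤ t; omega)] at h1'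
      rw [hc1 p (by omega)]
      linarith
    by_cases ht1 : p.val = t + 1
    · have hq : t - 1 < t + 2 := by omega
      have h1' : κ p ⟨t - 1, hq⟩ * c ⟨t - 1, hq⟩ ≤ ∑ x ∈ Finset.univ.erase p, κ p x * c x :=
        Finset.single_le_sum (f := fun x => κ p x * c x) hnonneg
          (hmem ⟨t - 1, hq⟩ (by show t - 1 ≠ p.val; omega))
      rw [hterm ⟨t - 1, hq⟩ (Or.inr (Or.inr (Or.inr ⟨rfl, ht1⟩))),
        hc2 ⟨t - 1, hq⟩ (by show 2 ≤ t - 1; omega) (by show t - 1 + 1 ≤ t; omega)] at h1'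
      rw [hc1 p (by omega)]
      linarith
    have hcp : c p = 2 := hc2 p (by omega) (by omega)
    rw [hcp]
    by_cases h2 : p.val = 2
    · have hq1 : (1 : ℕ) < t + 2 := by omega
      have hq3 : (3 : ℕ) < t + 2 := by omega
      have hq0 : (0 : ℕ) < t + 2 := by omega
      have h3 := h4_sum_ge_three (Finset.univ.erase p) (fun x => κ p x * c x) hnonneg
        (hmem ⟨1, hq1⟩ (by show 1 ≠ p.val; omega)) (hmem ⟨3, hq3⟩ (by show 3 ≠ p.val; omega))
        (hmem ⟨0, hq0⟩ (by show 0 ≠ p.val; omega))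
        (by intro e; have := congrArg Fin.val e; simp at this)
        (by intro e; have := congrArg Fin.val e; simp at this)
        (by intro e; have := congrArg Fin.val e; simp at this)
      rw [hterm ⟨1, hq1⟩ (Or.inr (Or.inl ⟨le_refl 1, by show 1 + 1 ≤ t; omega,
          by show p.val = 1 + 1; omega⟩)),
        hterm ⟨3, hq3⟩ (Or.inl (Or.inl ⟨by omega, by omega, by show 3 = p.val + 1; omega⟩)),
        hterm ⟨0, hq0⟩ (Or.inr (Or.inr (Or.inl ⟨rfl, h2⟩))),
        hc1 ⟨1, hq1⟩ (by show ¬ (2 ≤ 1 ∧ 1 + 1 ≤ t); omega),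
        hc2 ⟨3, hq3⟩ (by show 2 ≤ 3; omega) (by show 3 + 1 ≤ t; omega),
        hc1 ⟨0, hq0⟩ (by show ¬ (2 ≤ 0 ∧ 0 + 1 ≤ t); omega)] at h3
      linarith
    by_cases h3 : p.val = t - 1
    · have hq1 : t - 2 < t + 2 := by omega
      have hq2 : t < t + 2 := by omega
      have hq3 : t + 1 < t + 2 := by omega
      have h3' := h4_sum_ge_three (Finset.univ.erase p) (fun x => κ p x * c x) hnonneg
        (hmem ⟨t - 2, hq1⟩ (by show t - 2 ≠ p.val; omega)) (hmem ⟨t, hq2⟩ (by show t ≠ p.val; omega))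
        (hmem ⟨t + 1, hq3⟩ (by show t + 1 ≠ p.val; omega))
        (by intro e; have := congrArg Fin.val e; simp at this <;> omega)
        (by intro e; have := congrArg Fin.val e; simp at this <;> omega)
        (by intro e; have := congrArg Fin.val e; simp at this)
      rw [hterm ⟨t - 2, hq1⟩ (Or.inr (Or.inl ⟨by show 1 ≤ t - 2; omega,
          by show t - 2 + 1 ≤ t; omega, by show p.val = t - 2 + 1; omega⟩)),
        hterm ⟨t, hq2⟩ (Or.inl (Or.inl ⟨by omega, by omega, by show t = p.val + 1; omega⟩)),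
        hterm ⟨t + 1, hq3⟩ (Or.inl (Or.inr (Or.inr ⟨h3, rfl⟩))),
        hc2 ⟨t - 2, hq1⟩ (by show 2 ≤ t - 2; omega) (by show t - 2 + 1 ≤ t; omega),
        hc1 ⟨t, hq2⟩ (by show ¬ (2 ≤ t ∧ t + 1 ≤ t); omega),
        hc1 ⟨t + 1, hq3⟩ (by show ¬ (2 ≤ t + 1 ∧ t + 1 + 1 ≤ t); omega)] at h3'
      linarith
    · have hq1 : p.val - 1 < t + 2 := by omega
      have hq2 : p.val + 1 < t + 2 := by omega
      have h3' := h4_sum_ge_two (Finset.univ.erase p) (fun x => κ p x * c x) hnonneg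
        (hmem ⟨p.val - 1, hq1⟩ (by show p.val - 1 ≠ p.val; omega))
        (hmem ⟨p.val + 1, hq2⟩ (by show p.val + 1 ≠ p.val; omega))
        (by intro e; have := congrArg Fin.val e; simp at this <;> omega)
      rw [hterm ⟨p.val - 1, hq1⟩ (Or.inr (Or.inl ⟨by show 1 ≤ p.val - 1; omega,
          by show p.val - 1 + 1 ≤ t; omega, by show p.val = p.val - 1 + 1; omega⟩)),
        hterm ⟨p.val + 1, hq2⟩ (Or.inl (Or.inl ⟨by omega, by omega, rfl⟩)),
        hc2 ⟨p.val - 1, hq1⟩ (by show 2 ≤ p.val - 1; omega) (by show p.val - 1 + 1 ≤ t; omega),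
        hc2 ⟨p.val + 1, hq2⟩ (by show 2 ≤ p.val + 1; omega) (by show p.val + 1 + 1 ≤ t; omega)] at h3'
      linarith

end Groth.Agent.S7342
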