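import Groth.Statements.S7343
import Mathlib
import Groth.Agent.Lib.helper4.NumType


set_option autoImplicit false
open Finset
open Models Models.NumericalType

namespace Groth.Agent.S7343

open Groth.Agent.Lib.helper4

/-- Let T be a numerical type on n > 7 indices. Then no seven (-2)-indices of T, pairwise distinct and
named f, g, h, i, j, k, l, have a_fg, a_gh, a_ij, a_jh, a_kl and a_lh all nonzero (three chains of
length two attached to h). -/
theorem result {n : ℕ} (T : Models.NumericalType n) (hn : 7 < n)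
    (v : Fin 7 ↪ Fin n) (hv : ∀ j, T.IsMinusTwo (v j))
    (h01 : T.a (v 0) (v 1) ≠ 0) (h12 : T.a (v 1) (v 2) ≠ 0) (h34 : T.a (v 3) (v 4) ≠ 0)
    (h42 : T.a (v 4) (v 2) ≠ 0) (h56 : T.a (v 5) (v 6) ≠ 0) (h62 : T.a (v 6) (v 2) ≠ 0) : False := by
  have hne : ∀ {p q : Fin 7}, p ≠ q → v p ≠ v q := fun h => v.injective.ne h
  have e0_1 := nt_edge_ge T (hne (by decide : (0 : Fin 7) ≠ 1)) h01
  have e1_0 := nt_edge_ge' T (hne (by decide : (0 : Fin 7) ≠ 1)) h01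
  rw [nt_symm T (v 0) (v 1)] at e1_0
  have e1_2 := nt_edge_ge T (hne (by decide : (1 : Fin 7) ≠ 2)) h12
  have e2_1 := nt_edge_ge' T (hne (by decide : (1 : Fin 7) ≠ 2)) h12
  rw [nt_symm T (v 1) (v 2)] at e2_1
  have e3_4 := nt_edge_ge T (hne (by decide : (3 : Fin 7) ≠ 4)) h34
  have e4_3 := nt_edge_ge' T (hne (by decide : (3 : Fin 7) ≠ 4)) h34
  rw [nt_symm T (v 3) (v 4)] at e4_3
  have e4_2 := nt_edge_ge T (hne (by decide : (4 : Fin 7) ≠ 2)) h42
  have e2_4 := nt_edge_ge' T (hne (by decide : (4 : Fin 7) ≠ 2)) h42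
  rw [nt_symm T (v 4) (v 2)] at e2_4
  have e5_6 := nt_edge_ge T (hne (by decide : (5 : Fin 7) ≠ 6)) h56
  have e6_5 := nt_edge_ge' T (hne (by decide : (5 : Fin 7) ≠ 6)) h56
  rw [nt_symm T (v 5) (v 6)] at e6_5
  have e6_2 := nt_edge_ge T (hne (by decide : (6 : Fin 7) ≠ 2)) h62
  have e2_6 := nt_edge_ge' T (hne (by decide : (6 : Fin 7) ≠ 2)) h62
  rw [nt_symm T (v 6) (v 2)] at e2_6
  refine nt_no_affine T v hn hv
    !![0,1,0,0,0,0,0; 1,0,1,0,0,0,0; 0,1,0,0,1,0,1; 0,0,0,0,1,0,0; 0,0,1,1,0,0,0; 0,0,0,0,0,0,1; 0,0,1,0,0,1,0] ?_ ![1,2,3,1,2,1,2] (by decide)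
    (by decide) (by decide)
  intro p q hpq hk
  fin_cases p <;> fin_cases q <;> simp at hk hpq ⊢ <;> assumption

end Groth.Agent.S7343
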