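import Groth.Statements.S7344
import Mathlib
import Groth.Agent.Lib.helper4.NumType


set_option autoImplicit false
open Finset
open Models Models.NumericalType

namespace Groth.Agent.S7344

open Groth.Agent.Lib.helper4

/-- Let T be a numerical type on n > 8 indices. Then no eight (-2)-indices of T, pairwise distinct and
named e, f, g, h, i, j, k, l, have a_ef, a_fg, a_gh, a_hi, a_ij, a_jk and a_lh all nonzero (a chain
of seven, e to k, with l joined to its fourth vertex h). -/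
theorem result {n : ℕ} (T : Models.NumericalType n) (hn : 8 < n)
    (v : Fin 8 ↪ Fin n) (hv : ∀ j, T.IsMinusTwo (v j))
    (h01 : T.a (v 0) (v 1) ≠ 0) (h12 : T.a (v 1) (v 2) ≠ 0) (h23 : T.a (v 2) (v 3) ≠ 0)
    (h34 : T.a (v 3) (v 4) ≠ 0) (h45 : T.a (v 4) (v 5) ≠ 0) (h56 : T.a (v 5) (v 6) ≠ 0)
    (h73 : T.a (v 7) (v 3) ≠ 0) : False := by
  have hne : ∀ {p q : Fin 8}, p ≠ q → v p ≠ v q := fun h => v.injective.ne h
  have e0_1 := nt_edge_ge T (hne (by decide : (0 : Fin 8) ≠ 1)) h01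
  have e1_0 := nt_edge_ge' T (hne (by decide : (0 : Fin 8) ≠ 1)) h01
  rw [nt_symm T (v 0) (v 1)] at e1_0
  have e1_2 := nt_edge_ge T (hne (by decide : (1 : Fin 8) ≠ 2)) h12
  have e2_1 := nt_edge_ge' T (hne (by decide : (1 : Fin 8) ≠ 2)) h12
  rw [nt_symm T (v 1) (v 2)] at e2_1
  have e2_3 := nt_edge_ge T (hne (by decide : (2 : Fin 8) ≠ 3)) h23
  have e3_2 := nt_edge_ge' T (hne (by decide : (2 : Fin 8) ≠ 3)) h23
  rw [nt_symm T (v 2) (v 3)] at e3_2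
  have e3_4 := nt_edge_ge T (hne (by decide : (3 : Fin 8) ≠ 4)) h34
  have e4_3 := nt_edge_ge' T (hne (by decide : (3 : Fin 8) ≠ 4)) h34
  rw [nt_symm T (v 3) (v 4)] at e4_3
  have e4_5 := nt_edge_ge T (hne (by decide : (4 : Fin 8) ≠ 5)) h45
  have e5_4 := nt_edge_ge' T (hne (by decide : (4 : Fin 8) ≠ 5)) h45
  rw [nt_symm T (v 4) (v 5)] at e5_4
  have e5_6 := nt_edge_ge T (hne (by decide : (5 : Fin 8) ≠ 6)) h56
  have e6_5 := nt_edge_ge' T (hne (by decide : (5 : Fin 8) ≠ 6)) h56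
  rw [nt_symm T (v 5) (v 6)] at e6_5
  have e7_3 := nt_edge_ge T (hne (by decide : (7 : Fin 8) ≠ 3)) h73
  have e3_7 := nt_edge_ge' T (hne (by decide : (7 : Fin 8) ≠ 3)) h73
  rw [nt_symm T (v 7) (v 3)] at e3_7
  refine nt_no_affine T v hn hv
    !![0,1,0,0,0,0,0,0; 1,0,1,0,0,0,0,0; 0,1,0,1,0,0,0,0; 0,0,1,0,1,0,0,1; 0,0,0,1,0,1,0,0; 0,0,0,0,1,0,1,0; 0,0,0,0,0,1,0,0; 0,0,0,1,0,0,0,0] ?_ ![1,2,3,4,3,2,1,2] (by decide)
    (by decide) (by decide)
  intro p q hpq hk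
  fin_cases p <;> fin_cases q <;> simp at hk hpq ⊢ <;> assumption

end Groth.Agent.S7344
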