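import Groth.Statements.S7345
import Mathlib
import Groth.Agent.Lib.helper4.NumType


set_option autoImplicit false
open Finset
open Models Models.NumericalType

namespace Groth.Agent.S7345

open Groth.Agent.Lib.helper4

/-- Let T be a numerical type on n > 9 indices. Then no nine (-2)-indices of T, pairwise distinct and
named d, e, f, g, h, i, j, k, l, have a_de, a_ef, a_fg, a_gh, a_hi, a_ij, a_jk and a_li all nonzero
(a chain of eight, d to k, with l joined to its sixth vertex i). (The published list of nonzero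
entries ends with a_lh, joining l to the fifth vertex h; that configuration already contains the
completed E7 configuration on eight of the indices and is impossible for that reason alone. The
pictured graph and the argument for it join l to the sixth vertex i, and this row states that case.) -/
theorem result {n : ℕ} (T : Models.NumericalType n) (hn : 9 < n)
    (v : Fin 9 ↪ Fin n) (hv : ∀ j, T.IsMinusTwo (v j))
    (h01 : T.a (v 0) (v 1) ≠ 0) (h12 : T.a (v 1) (v 2) ≠ 0) (h23 : T.a (v 2) (v 3) ≠ 0)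
    (h34 : T.a (v 3) (v 4) ≠ 0) (h45 : T.a (v 4) (v 5) ≠ 0) (h56 : T.a (v 5) (v 6) ≠ 0)
    (h67 : T.a (v 6) (v 7) ≠ 0) (h85 : T.a (v 8) (v 5) ≠ 0) : False := by
  have hne : ∀ {p q : Fin 9}, p ≠ q → v p ≠ v q := fun h => v.injective.ne h
  have e0_1 := nt_edge_ge T (hne (by decide : (0 : Fin 9) ≠ 1)) h01
  have e1_0 := nt_edge_ge' T (hne (by decide : (0 : Fin 9) ≠ 1)) h01
  rw [nt_symm T (v 0) (v 1)] at e1_0
  have e1_2 := nt_edge_ge T (hne (by decide : (1 : Fin 9) ≠ 2)) h12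
  have e2_1 := nt_edge_ge' T (hne (by decide : (1 : Fin 9) ≠ 2)) h12
  rw [nt_symm T (v 1) (v 2)] at e2_1
  have e2_3 := nt_edge_ge T (hne (by decide : (2 : Fin 9) ≠ 3)) h23
  have e3_2 := nt_edge_ge' T (hne (by decide : (2 : Fin 9) ≠ 3)) h23
  rw [nt_symm T (v 2) (v 3)] at e3_2
  have e3_4 := nt_edge_ge T (hne (by decide : (3 : Fin 9) ≠ 4)) h34
  have e4_3 := nt_edge_ge' T (hne (by decide : (3 : Fin 9) ≠ 4)) h34
  rw [nt_symm T (v 3) (v 4)] at e4_3
  have e4_5 := nt_edge_ge T (hne (by decide : (4 : Fin 9) ≠ 5)) h45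
  have e5_4 := nt_edge_ge' T (hne (by decide : (4 : Fin 9) ≠ 5)) h45
  rw [nt_symm T (v 4) (v 5)] at e5_4
  have e5_6 := nt_edge_ge T (hne (by decide : (5 : Fin 9) ≠ 6)) h56
  have e6_5 := nt_edge_ge' T (hne (by decide : (5 : Fin 9) ≠ 6)) h56
  rw [nt_symm T (v 5) (v 6)] at e6_5
  have e6_7 := nt_edge_ge T (hne (by decide : (6 : Fin 9) ≠ 7)) h67
  have e7_6 := nt_edge_ge' T (hne (by decide : (6 : Fin 9) ≠ 7)) h67
  rw [nt_symm T (v 6) (v 7)] at e7_6
  have e8_5 := nt_edge_ge T (hne (by decide : (8 : Fin 9) ≠ 5)) h85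
  have e5_8 := nt_edge_ge' T (hne (by decide : (8 : Fin 9) ≠ 5)) h85
  rw [nt_symm T (v 8) (v 5)] at e5_8
  refine nt_no_affine T v hn hv
    !![0,1,0,0,0,0,0,0,0; 1,0,1,0,0,0,0,0,0; 0,1,0,1,0,0,0,0,0; 0,0,1,0,1,0,0,0,0; 0,0,0,1,0,1,0,0,0; 0,0,0,0,1,0,1,0,1; 0,0,0,0,0,1,0,1,0; 0,0,0,0,0,0,1,0,0; 0,0,0,0,0,1,0,0,0] ?_ ![1,2,3,4,5,6,4,2,3] (by decide)
    (by decide) (by decide)
  intro p q hpq hk
  fin_cases p <;> fin_cases q <;> simp at hk hpq ⊢ <;> assumption

end Groth.Agent.S7345
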