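import Groth.Statements.S7346
import Mathlib
import Groth.Agent.Lib.helper4.NumType


set_option autoImplicit false
open Finset
open Models Models.NumericalType

namespace Groth.Agent.S7346

open Groth.Agent.Lib.helper4

/-- Classification of proper subgraphs of type D4 (one vertex joined to three others): let T be a
numerical type on n > 4 indices and i_1, …, i_4 distinct (-2)-indices with a_{12}, a_{13}, a_{14}
nonzero. Then for some integer w all w_{i_j} equal w, these intersection numbers equal w, all other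
a_{i_j i_k} (j ≠ k) vanish, and 2 m_1 ≥ m_2 + m_3 + m_4, 2 m_2 ≥ m_1, 2 m_3 ≥ m_1, 2 m_4 ≥ m_1. -/
theorem result {n : ℕ} (T : Models.NumericalType n) (hn : 4 < n)
    (v : Fin 4 ↪ Fin n) (hv : ∀ j, T.IsMinusTwo (v j)) (h01 : T.a (v 0) (v 1) ≠ 0) (h02 : T.a (v 0) (v 2) ≠ 0) (h03 : T.a (v 0) (v 3) ≠ 0) :
    ∃ w : ℤ, (∀ j : Fin 4, T.w (v j) = w) ∧
      T.a (v 0) (v 1) = w ∧
      T.a (v 0) (v 2) = w ∧
      T.a (v 0) (v 3) = w ∧
      T.a (v 1) (v 2) = 0 ∧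
      T.a (v 1) (v 3) = 0 ∧
      T.a (v 2) (v 3) = 0 ∧
      T.m (v 1) + T.m (v 2) + T.m (v 3) ≤ 2 * T.m (v 0) ∧
      T.m (v 0) ≤ 2 * T.m (v 1) ∧
      T.m (v 0) ≤ 2 * T.m (v 2) ∧
      T.m (v 0) ≤ 2 * T.m (v 3) := by
  have hne : ∀ {p q : Fin 4}, p ≠ q → v p ≠ v q := fun h => v.injective.ne h
  have e0_1 := nt_edge_ge T (hne (by decide : (0 : Fin 4) ≠ 1)) h01
  have e1_0 := nt_edge_ge' T (hne (by decide : (0 : Fin 4) ≠ 1)) h01
  rw [nt_symm T (v 0) (v 1)] at e1_0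
  have e0_2 := nt_edge_ge T (hne (by decide : (0 : Fin 4) ≠ 2)) h02
  have e2_0 := nt_edge_ge' T (hne (by decide : (0 : Fin 4) ≠ 2)) h02
  rw [nt_symm T (v 0) (v 2)] at e2_0
  have e0_3 := nt_edge_ge T (hne (by decide : (0 : Fin 4) ≠ 3)) h03
  have e3_0 := nt_edge_ge' T (hne (by decide : (0 : Fin 4) ≠ 3)) h03
  rw [nt_symm T (v 0) (v 3)] at e3_0
  have A1_2 : T.a (v 1) (v 2) = 0 := by
    by_contra hx
    have e1_2 := nt_edge_ge T (hne (by decide : (1 : Fin 4) ≠ 2)) hx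
    have e2_1 := nt_edge_ge' T (hne (by decide : (1 : Fin 4) ≠ 2)) hx
    rw [nt_symm T (v 1) (v 2)] at e2_1
    refine nt_no_affine T v hn hv
      !![0,1,1,1; 1,0,1,0; 1,1,0,0; 1,0,0,0] ?_ ![1,1,1,0] (by decide)
      (by decide) (by decide)
    intro p q hpq hk
    fin_cases p <;> fin_cases q <;> simp at hk hpq ⊢ <;> assumption
  have A2_1 : T.a (v 2) (v 1) = 0 := by rw [nt_symm T (v 2) (v 1)]; exact A1_2
  have A1_3 : T.a (v 1) (v 3) = 0 := by
    by_contra hx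
    have e1_3 := nt_edge_ge T (hne (by decide : (1 : Fin 4) ≠ 3)) hx
    have e3_1 := nt_edge_ge' T (hne (by decide : (1 : Fin 4) ≠ 3)) hx
    rw [nt_symm T (v 1) (v 3)] at e3_1
    refine nt_no_affine T v hn hv
      !![0,1,1,1; 1,0,0,1; 1,0,0,0; 1,1,0,0] ?_ ![1,1,0,1] (by decide)
      (by decide) (by decide)
    intro p q hpq hk
    fin_cases p <;> fin_cases q <;> simp at hk hpq ⊢ <;> assumption
  have A3_1 : T.a (v 3) (v 1) = 0 := by rw [nt_symm T (v 3) (v 1)]; exact A1_3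
  have A2_3 : T.a (v 2) (v 3) = 0 := by
    by_contra hx
    have e2_3 := nt_edge_ge T (hne (by decide : (2 : Fin 4) ≠ 3)) hx
    have e3_2 := nt_edge_ge' T (hne (by decide : (2 : Fin 4) ≠ 3)) hx
    rw [nt_symm T (v 2) (v 3)] at e3_2
    refine nt_no_affine T v hn hv
      !![0,1,1,1; 1,0,0,0; 1,0,0,1; 1,0,1,0] ?_ ![1,0,1,1] (by decide)
      (by decide) (by decide)
    intro p q hpq hk
    fin_cases p <;> fin_cases q <;> simp at hk hpq ⊢ <;> assumption
  have A3_2 : T.a (v 3) (v 2) = 0 := by rw [nt_symm T (v 3) (v 2)]; exact A2_3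
  have L0_1 : T.a (v 0) (v 1) < 2 * T.w (v 0) := by
    by_contra hx
    push Not at hx
    refine nt_no_affine T v hn hv
      !![0,2,1,1; 1,0,0,0; 1,0,0,0; 1,0,0,0] ?_ ![2,1,1,1] (by decide)
      (by decide) (by decide)
    intro p q hpq hk
    fin_cases p <;> fin_cases q <;> simp at hk hpq ⊢ <;> assumption
  have E0_1 : T.a (v 0) (v 1) = T.w (v 0) := nt_eq_of_dvd_lt (T.w_pos _) (T.w_dvd _ _) e0_1 L0_1
  have L1_0 : T.a (v 1) (v 0) < 2 * T.w (v 1) := by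
    by_contra hx
    push Not at hx
    refine nt_no_affine T v hn hv
      !![0,1,1,1; 2,0,0,0; 1,0,0,0; 1,0,0,0] ?_ ![2,2,1,1] (by decide)
      (by decide) (by decide)
    intro p q hpq hk
    fin_cases p <;> fin_cases q <;> simp at hk hpq ⊢ <;> assumption
  have E1_0 : T.a (v 1) (v 0) = T.w (v 1) := nt_eq_of_dvd_lt (T.w_pos _) (T.w_dvd _ _) e1_0 L1_0
  have L0_2 : T.a (v 0) (v 2) < 2 * T.w (v 0) := by
    by_contra hx
    push Not at hx
    refine nt_no_affine T v hn hv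
      !![0,1,2,1; 1,0,0,0; 1,0,0,0; 1,0,0,0] ?_ ![2,1,1,1] (by decide)
      (by decide) (by decide)
    intro p q hpq hk
    fin_cases p <;> fin_cases q <;> simp at hk hpq ⊢ <;> assumption
  have E0_2 : T.a (v 0) (v 2) = T.w (v 0) := nt_eq_of_dvd_lt (T.w_pos _) (T.w_dvd _ _) e0_2 L0_2
  have L2_0 : T.a (v 2) (v 0) < 2 * T.w (v 2) := by
    by_contra hx
    push Not at hx
    refine nt_no_affine T v hn hv
      !![0,1,1,1; 1,0,0,0; 2,0,0,0; 1,0,0,0] ?_ ![2,1,2,1] (by decide)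
      (by decide) (by decide)
    intro p q hpq hk
    fin_cases p <;> fin_cases q <;> simp at hk hpq ⊢ <;> assumption
  have E2_0 : T.a (v 2) (v 0) = T.w (v 2) := nt_eq_of_dvd_lt (T.w_pos _) (T.w_dvd _ _) e2_0 L2_0
  have L0_3 : T.a (v 0) (v 3) < 2 * T.w (v 0) := by
    by_contra hx
    push Not at hx
    refine nt_no_affine T v hn hv
      !![0,1,1,2; 1,0,0,0; 1,0,0,0; 1,0,0,0] ?_ ![2,1,1,1] (by decide)
      (by decide) (by decide)
    intro p q hpq hk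
    fin_cases p <;> fin_cases q <;> simp at hk hpq ⊢ <;> assumption
  have E0_3 : T.a (v 0) (v 3) = T.w (v 0) := nt_eq_of_dvd_lt (T.w_pos _) (T.w_dvd _ _) e0_3 L0_3
  have L3_0 : T.a (v 3) (v 0) < 2 * T.w (v 3) := by
    by_contra hx
    push Not at hx
    refine nt_no_affine T v hn hv
      !![0,1,1,1; 1,0,0,0; 1,0,0,0; 2,0,0,0] ?_ ![2,1,1,2] (by decide)
      (by decide) (by decide)
    intro p q hpq hk
    fin_cases p <;> fin_cases q <;> simp at hk hpq ⊢ <;> assumption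
  have E3_0 : T.a (v 3) (v 0) = T.w (v 3) := nt_eq_of_dvd_lt (T.w_pos _) (T.w_dvd _ _) e3_0 L3_0
  have W0 : T.w (v 0) = T.w (v 0) := rfl
  have W1 : T.w (v 1) = T.w (v 0) := E1_0.symm.trans ((nt_symm T (v 1) (v 0)).trans (E0_1.trans W0))
  have W2 : T.w (v 2) = T.w (v 0) := E2_0.symm.trans ((nt_symm T (v 2) (v 0)).trans (E0_2.trans W0))
  have W3 : T.w (v 3) = T.w (v 0) := E3_0.symm.trans ((nt_symm T (v 3) (v 0)).trans (E0_3.trans W0))
  have A0_1 : T.a (v 0) (v 1) = T.w (v 0) := E0_1.trans W0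
  have A1_0 : T.a (v 1) (v 0) = T.w (v 0) := E1_0.trans W1
  have A0_2 : T.a (v 0) (v 2) = T.w (v 0) := E0_2.trans W0
  have A2_0 : T.a (v 2) (v 0) = T.w (v 0) := E2_0.trans W2
  have A0_3 : T.a (v 0) (v 3) = T.w (v 0) := E0_3.trans W0
  have A3_0 : T.a (v 3) (v 0) = T.w (v 0) := E3_0.trans W3
  have A0_0 : T.a (v 0) (v 0) = -2 * T.w (v 0) := by rw [(hv 0).2, W0]
  have A1_1 : T.a (v 1) (v 1) = -2 * T.w (v 0) := by rw [(hv 1).2, W1]
  have A2_2 : T.a (v 2) (v 2) = -2 * T.w (v 0) := by rw [(hv 2).2, W2]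
  have A3_3 : T.a (v 3) (v 3) = -2 * T.w (v 0) := by rw [(hv 3).2, W3]
  have hW := T.w_pos (v 0)
  have R0 : T.m (v 1) + T.m (v 2) + T.m (v 3) ≤ 2 * T.m (v 0) := by
    have r := nt_row_le T v 0
    simp only [Fin.sum_univ_four, A0_0, A0_1, A0_2, A0_3] at r
    exact le_of_mul_le_mul_left (a := T.w (v 0)) (by linarith) hW
  have R1 : T.m (v 0) ≤ 2 * T.m (v 1) := by
    have r := nt_row_le T v 1
    simp only [Fin.sum_univ_four, A1_0, A1_1, A1_2, A1_3] at r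
    exact le_of_mul_le_mul_left (a := T.w (v 0)) (by linarith) hW
  have R2 : T.m (v 0) ≤ 2 * T.m (v 2) := by
    have r := nt_row_le T v 2
    simp only [Fin.sum_univ_four, A2_0, A2_1, A2_2, A2_3] at r
    exact le_of_mul_le_mul_left (a := T.w (v 0)) (by linarith) hW
  have R3 : T.m (v 0) ≤ 2 * T.m (v 3) := by
    have r := nt_row_le T v 3
    simp only [Fin.sum_univ_four, A3_0, A3_1, A3_2, A3_3] at r
    exact le_of_mul_le_mul_left (a := T.w (v 0)) (by linarith) hW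
  refine ⟨T.w (v 0), ?_, ?_, ?_, ?_, ?_, ?_, ?_, ?_, ?_, ?_, ?_⟩
  all_goals first | assumption | linarith | skip
  intro j
  fin_cases j <;> assumption

end Groth.Agent.S7346
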