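import Groth.Statements.S7347
import Mathlib
import Groth.Agent.Lib.helper4.NumType


set_option autoImplicit false
set_option maxHeartbeats 0
open Finset
open Models Models.NumericalType

namespace Groth.Agent.S7347

open Groth.Agent.Lib.helper4

/-- Classification of proper subgraphs of type D5 (a chain i_1 i_2 i_3 with i_4 and i_5 both joined to
i_3): let T be a numerical type on n > 5 indices and i_1, …, i_5 distinct (-2)-indices with a_{12},
a_{23}, a_{34}, a_{35} nonzero. Then for some integer w all w_{i_j} equal w, these intersection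
numbers equal w, all other a_{i_j i_k} (j ≠ k) vanish, and 2 m_1 ≥ m_2, 2 m_2 ≥ m_1 + m_3, 2 m_3 ≥
m_2 + m_4 + m_5, 2 m_4 ≥ m_3, 2 m_5 ≥ m_3. -/
theorem result {n : ℕ} (T : Models.NumericalType n) (hn : 5 < n)
    (v : Fin 5 ↪ Fin n) (hv : ∀ j, T.IsMinusTwo (v j)) (h01 : T.a (v 0) (v 1) ≠ 0) (h12 : T.a (v 1) (v 2) ≠ 0) (h23 : T.a (v 2) (v 3) ≠ 0) (h24 : T.a (v 2) (v 4) ≠ 0) :
    ∃ w : ℤ, (∀ j : Fin 5, T.w (v j) = w) ∧
      T.a (v 0) (v 1) = w ∧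
      T.a (v 1) (v 2) = w ∧
      T.a (v 2) (v 3) = w ∧
      T.a (v 2) (v 4) = w ∧
      T.a (v 0) (v 2) = 0 ∧
      T.a (v 0) (v 3) = 0 ∧
      T.a (v 0) (v 4) = 0 ∧
      T.a (v 1) (v 3) = 0 ∧
      T.a (v 1) (v 4) = 0 ∧
      T.a (v 3) (v 4) = 0 ∧
      T.m (v 1) ≤ 2 * T.m (v 0) ∧
      T.m (v 0) + T.m (v 2) ≤ 2 * T.m (v 1) ∧
      T.m (v 1) + T.m (v 3) + T.m (v 4) ≤ 2 * T.m (v 2) ∧
      T.m (v 2) ≤ 2 * T.m (v 3) ∧
      T.m (v 2) ≤ 2 * T.m (v 4) := by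
  have hne : ∀ {p q : Fin 5}, p ≠ q → v p ≠ v q := fun h => v.injective.ne h
  have e0_1 := nt_edge_ge T (hne (by decide : (0 : Fin 5) ≠ 1)) h01
  have e1_0 := nt_edge_ge' T (hne (by decide : (0 : Fin 5) ≠ 1)) h01
  rw [nt_symm T (v 0) (v 1)] at e1_0
  have e1_2 := nt_edge_ge T (hne (by decide : (1 : Fin 5) ≠ 2)) h12
  have e2_1 := nt_edge_ge' T (hne (by decide : (1 : Fin 5) ≠ 2)) h12
  rw [nt_symm T (v 1) (v 2)] at e2_1
  have e2_3 := nt_edge_ge T (hne (by decide : (2 : Fin 5) ≠ 3)) h23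
  have e3_2 := nt_edge_ge' T (hne (by decide : (2 : Fin 5) ≠ 3)) h23
  rw [nt_symm T (v 2) (v 3)] at e3_2
  have e2_4 := nt_edge_ge T (hne (by decide : (2 : Fin 5) ≠ 4)) h24
  have e4_2 := nt_edge_ge' T (hne (by decide : (2 : Fin 5) ≠ 4)) h24
  rw [nt_symm T (v 2) (v 4)] at e4_2
  have A0_2 : T.a (v 0) (v 2) = 0 := by
    by_contra hx
    have e0_2 := nt_edge_ge T (hne (by decide : (0 : Fin 5) ≠ 2)) hx
    have e2_0 := nt_edge_ge' T (hne (by decide : (0 : Fin 5) ≠ 2)) hx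
    rw [nt_symm T (v 0) (v 2)] at e2_0
    refine nt_no_affine T v hn hv
      !![0,1,1,0,0; 1,0,1,0,0; 1,1,0,1,1; 0,0,1,0,0; 0,0,1,0,0] ?_ ![1,1,1,0,0] (by decide)
      (by decide) (by decide)
    intro p q hpq hk
    fin_cases p <;> fin_cases q <;> simp at hk hpq ⊢ <;> assumption
  have A2_0 : T.a (v 2) (v 0) = 0 := by rw [nt_symm T (v 2) (v 0)]; exact A0_2
  have A0_3 : T.a (v 0) (v 3) = 0 := by
    by_contra hx
    have e0_3 := nt_edge_ge T (hne (by decide : (0 : Fin 5) ≠ 3)) hx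
    have e3_0 := nt_edge_ge' T (hne (by decide : (0 : Fin 5) ≠ 3)) hx
    rw [nt_symm T (v 0) (v 3)] at e3_0
    refine nt_no_affine T v hn hv
      !![0,1,0,1,0; 1,0,1,0,0; 0,1,0,1,1; 1,0,1,0,0; 0,0,1,0,0] ?_ ![1,1,1,1,0] (by decide)
      (by decide) (by decide)
    intro p q hpq hk
    fin_cases p <;> fin_cases q <;> simp at hk hpq ⊢ <;> assumption
  have A3_0 : T.a (v 3) (v 0) = 0 := by rw [nt_symm T (v 3) (v 0)]; exact A0_3
  have A0_4 : T.a (v 0) (v 4) = 0 := by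
    by_contra hx
    have e0_4 := nt_edge_ge T (hne (by decide : (0 : Fin 5) ≠ 4)) hx
    have e4_0 := nt_edge_ge' T (hne (by decide : (0 : Fin 5) ≠ 4)) hx
    rw [nt_symm T (v 0) (v 4)] at e4_0
    refine nt_no_affine T v hn hv
      !![0,1,0,0,1; 1,0,1,0,0; 0,1,0,1,1; 0,0,1,0,0; 1,0,1,0,0] ?_ ![1,1,1,0,1] (by decide)
      (by decide) (by decide)
    intro p q hpq hk
    fin_cases p <;> fin_cases q <;> simp at hk hpq ⊢ <;> assumption
  have A4_0 : T.a (v 4) (v 0) = 0 := by rw [nt_symm T (v 4) (v 0)]; exact A0_4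
  have A1_3 : T.a (v 1) (v 3) = 0 := by
    by_contra hx
    have e1_3 := nt_edge_ge T (hne (by decide : (1 : Fin 5) ≠ 3)) hx
    have e3_1 := nt_edge_ge' T (hne (by decide : (1 : Fin 5) ≠ 3)) hx
    rw [nt_symm T (v 1) (v 3)] at e3_1
    refine nt_no_affine T v hn hv
      !![0,1,0,0,0; 1,0,1,1,0; 0,1,0,1,1; 0,1,1,0,0; 0,0,1,0,0] ?_ ![0,1,1,1,0] (by decide)
      (by decide) (by decide)
    intro p q hpq hk
    fin_cases p <;> fin_cases q <;> simp at hk hpq ⊢ <;> assumption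
  have A3_1 : T.a (v 3) (v 1) = 0 := by rw [nt_symm T (v 3) (v 1)]; exact A1_3
  have A1_4 : T.a (v 1) (v 4) = 0 := by
    by_contra hx
    have e1_4 := nt_edge_ge T (hne (by decide : (1 : Fin 5) ≠ 4)) hx
    have e4_1 := nt_edge_ge' T (hne (by decide : (1 : Fin 5) ≠ 4)) hx
    rw [nt_symm T (v 1) (v 4)] at e4_1
    refine nt_no_affine T v hn hv
      !![0,1,0,0,0; 1,0,1,0,1; 0,1,0,1,1; 0,0,1,0,0; 0,1,1,0,0] ?_ ![0,1,1,0,1] (by decide)
      (by decide) (by decide)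
    intro p q hpq hk
    fin_cases p <;> fin_cases q <;> simp at hk hpq ⊢ <;> assumption
  have A4_1 : T.a (v 4) (v 1) = 0 := by rw [nt_symm T (v 4) (v 1)]; exact A1_4
  have A3_4 : T.a (v 3) (v 4) = 0 := by
    by_contra hx
    have e3_4 := nt_edge_ge T (hne (by decide : (3 : Fin 5) ≠ 4)) hx
    have e4_3 := nt_edge_ge' T (hne (by decide : (3 : Fin 5) ≠ 4)) hx
    rw [nt_symm T (v 3) (v 4)] at e4_3
    refine nt_no_affine T v hn hv
      !![0,1,0,0,0; 1,0,1,0,0; 0,1,0,1,1; 0,0,1,0,1; 0,0,1,1,0] ?_ ![0,0,1,1,1] (by decide)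
      (by decide) (by decide)
    intro p q hpq hk
    fin_cases p <;> fin_cases q <;> simp at hk hpq ⊢ <;> assumption
  have A4_3 : T.a (v 4) (v 3) = 0 := by rw [nt_symm T (v 4) (v 3)]; exact A3_4
  have L0_1 : T.a (v 0) (v 1) < 2 * T.w (v 0) := by
    by_contra hx
    push Not at hx
    refine nt_no_affine T v hn hv
      !![0,2,0,0,0; 1,0,1,0,0; 0,1,0,1,1; 0,0,1,0,0; 0,0,1,0,0] ?_ ![2,2,2,1,1] (by decide)
      (by decide) (by decide)
    intro p q hpq hk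
    fin_cases p <;> fin_cases q <;> simp at hk hpq ⊢ <;> assumption
  have E0_1 : T.a (v 0) (v 1) = T.w (v 0) := nt_eq_of_dvd_lt (T.w_pos _) (T.w_dvd _ _) e0_1 L0_1
  have L1_0 : T.a (v 1) (v 0) < 2 * T.w (v 1) := by
    by_contra hx
    push Not at hx
    refine nt_no_affine T v hn hv
      !![0,1,0,0,0; 2,0,1,0,0; 0,1,0,1,1; 0,0,1,0,0; 0,0,1,0,0] ?_ ![1,2,2,1,1] (by decide)
      (by decide) (by decide)
    intro p q hpq hk
    fin_cases p <;> fin_cases q <;> simp at hk hpq ⊢ <;> assumption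
  have E1_0 : T.a (v 1) (v 0) = T.w (v 1) := nt_eq_of_dvd_lt (T.w_pos _) (T.w_dvd _ _) e1_0 L1_0
  have L1_2 : T.a (v 1) (v 2) < 2 * T.w (v 1) := by
    by_contra hx
    push Not at hx
    refine nt_no_affine T v hn hv
      !![0,1,0,0,0; 1,0,2,0,0; 0,1,0,1,1; 0,0,1,0,0; 0,0,1,0,0] ?_ ![0,2,2,1,1] (by decide)
      (by decide) (by decide)
    intro p q hpq hk
    fin_cases p <;> fin_cases q <;> simp at hk hpq ⊢ <;> assumption
  have E1_2 : T.a (v 1) (v 2) = T.w (v 1) := nt_eq_of_dvd_lt (T.w_pos _) (T.w_dvd _ _) e1_2 L1_2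
  have L2_1 : T.a (v 2) (v 1) < 2 * T.w (v 2) := by
    by_contra hx
    push Not at hx
    refine nt_no_affine T v hn hv
      !![0,1,0,0,0; 1,0,1,0,0; 0,2,0,1,1; 0,0,1,0,0; 0,0,1,0,0] ?_ ![0,1,2,1,1] (by decide)
      (by decide) (by decide)
    intro p q hpq hk
    fin_cases p <;> fin_cases q <;> simp at hk hpq ⊢ <;> assumption
  have E2_1 : T.a (v 2) (v 1) = T.w (v 2) := nt_eq_of_dvd_lt (T.w_pos _) (T.w_dvd _ _) e2_1 L2_1
  have L2_3 : T.a (v 2) (v 3) < 2 * T.w (v 2) := by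
    by_contra hx
    push Not at hx
    refine nt_no_affine T v hn hv
      !![0,1,0,0,0; 1,0,1,0,0; 0,1,0,2,1; 0,0,1,0,0; 0,0,1,0,0] ?_ ![0,1,2,1,1] (by decide)
      (by decide) (by decide)
    intro p q hpq hk
    fin_cases p <;> fin_cases q <;> simp at hk hpq ⊢ <;> assumption
  have E2_3 : T.a (v 2) (v 3) = T.w (v 2) := nt_eq_of_dvd_lt (T.w_pos _) (T.w_dvd _ _) e2_3 L2_3
  have L3_2 : T.a (v 3) (v 2) < 2 * T.w (v 3) := by
    by_contra hx
    push Not at hx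
    refine nt_no_affine T v hn hv
      !![0,1,0,0,0; 1,0,1,0,0; 0,1,0,1,1; 0,0,2,0,0; 0,0,1,0,0] ?_ ![0,1,2,2,1] (by decide)
      (by decide) (by decide)
    intro p q hpq hk
    fin_cases p <;> fin_cases q <;> simp at hk hpq ⊢ <;> assumption
  have E3_2 : T.a (v 3) (v 2) = T.w (v 3) := nt_eq_of_dvd_lt (T.w_pos _) (T.w_dvd _ _) e3_2 L3_2
  have L2_4 : T.a (v 2) (v 4) < 2 * T.w (v 2) := by
    by_contra hx
    push Not at hx
    refine nt_no_affine T v hn hv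
      !![0,1,0,0,0; 1,0,1,0,0; 0,1,0,1,2; 0,0,1,0,0; 0,0,1,0,0] ?_ ![0,1,2,1,1] (by decide)
      (by decide) (by decide)
    intro p q hpq hk
    fin_cases p <;> fin_cases q <;> simp at hk hpq ⊢ <;> assumption
  have E2_4 : T.a (v 2) (v 4) = T.w (v 2) := nt_eq_of_dvd_lt (T.w_pos _) (T.w_dvd _ _) e2_4 L2_4
  have L4_2 : T.a (v 4) (v 2) < 2 * T.w (v 4) := by
    by_contra hx
    push Not at hx
    refine nt_no_affine T v hn hv
      !![0,1,0,0,0; 1,0,1,0,0; 0,1,0,1,1; 0,0,1,0,0; 0,0,2,0,0] ?_ ![0,1,2,1,2] (by decide)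
      (by decide) (by decide)
    intro p q hpq hk
    fin_cases p <;> fin_cases q <;> simp at hk hpq ⊢ <;> assumption
  have E4_2 : T.a (v 4) (v 2) = T.w (v 4) := nt_eq_of_dvd_lt (T.w_pos _) (T.w_dvd _ _) e4_2 L4_2
  have W0 : T.w (v 0) = T.w (v 0) := rfl
  have W1 : T.w (v 1) = T.w (v 0) := E1_0.symm.trans ((nt_symm T (v 1) (v 0)).trans (E0_1.trans W0))
  have W2 : T.w (v 2) = T.w (v 0) := E2_1.symm.trans ((nt_symm T (v 2) (v 1)).trans (E1_2.trans W1))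
  have W3 : T.w (v 3) = T.w (v 0) := E3_2.symm.trans ((nt_symm T (v 3) (v 2)).trans (E2_3.trans W2))
  have W4 : T.w (v 4) = T.w (v 0) := E4_2.symm.trans ((nt_symm T (v 4) (v 2)).trans (E2_4.trans W2))
  have A0_1 : T.a (v 0) (v 1) = T.w (v 0) := E0_1.trans W0
  have A1_0 : T.a (v 1) (v 0) = T.w (v 0) := E1_0.trans W1
  have A1_2 : T.a (v 1) (v 2) = T.w (v 0) := E1_2.trans W1
  have A2_1 : T.a (v 2) (v 1) = T.w (v 0) := E2_1.trans W2
  have A2_3 : T.a (v 2) (v 3) = T.w (v 0) := E2_3.trans W2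
  have A3_2 : T.a (v 3) (v 2) = T.w (v 0) := E3_2.trans W3
  have A2_4 : T.a (v 2) (v 4) = T.w (v 0) := E2_4.trans W2
  have A4_2 : T.a (v 4) (v 2) = T.w (v 0) := E4_2.trans W4
  have A0_0 : T.a (v 0) (v 0) = -2 * T.w (v 0) := by rw [(hv 0).2, W0]
  have A1_1 : T.a (v 1) (v 1) = -2 * T.w (v 0) := by rw [(hv 1).2, W1]
  have A2_2 : T.a (v 2) (v 2) = -2 * T.w (v 0) := by rw [(hv 2).2, W2]
  have A3_3 : T.a (v 3) (v 3) = -2 * T.w (v 0) := by rw [(hv 3).2, W3]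
  have A4_4 : T.a (v 4) (v 4) = -2 * T.w (v 0) := by rw [(hv 4).2, W4]
  have hW := T.w_pos (v 0)
  have R0 : T.m (v 1) ≤ 2 * T.m (v 0) := by
    have r := nt_row_le T v 0
    simp only [Fin.sum_univ_five, A0_0, A0_1, A0_2, A0_3, A0_4] at r
    exact le_of_mul_le_mul_left (a := T.w (v 0)) (by linarith) hW
  have R1 : T.m (v 0) + T.m (v 2) ≤ 2 * T.m (v 1) := by
    have r := nt_row_le T v 1
    simp only [Fin.sum_univ_five, A1_0, A1_1, A1_2, A1_3, A1_4] at r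
    exact le_of_mul_le_mul_left (a := T.w (v 0)) (by linarith) hW
  have R2 : T.m (v 1) + T.m (v 3) + T.m (v 4) ≤ 2 * T.m (v 2) := by
    have r := nt_row_le T v 2
    simp only [Fin.sum_univ_five, A2_0, A2_1, A2_2, A2_3, A2_4] at r
    exact le_of_mul_le_mul_left (a := T.w (v 0)) (by linarith) hW
  have R3 : T.m (v 2) ≤ 2 * T.m (v 3) := by
    have r := nt_row_le T v 3
    simp only [Fin.sum_univ_five, A3_0, A3_1, A3_2, A3_3, A3_4] at r
    exact le_of_mul_le_mul_left (a := T.w (v 0)) (by linarith) hW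
  have R4 : T.m (v 2) ≤ 2 * T.m (v 4) := by
    have r := nt_row_le T v 4
    simp only [Fin.sum_univ_five, A4_0, A4_1, A4_2, A4_3, A4_4] at r
    exact le_of_mul_le_mul_left (a := T.w (v 0)) (by linarith) hW
  refine ⟨T.w (v 0), ?_, ?_, ?_, ?_, ?_, ?_, ?_, ?_, ?_, ?_, ?_, ?_, ?_, ?_, ?_, ?_⟩
  all_goals first | assumption | linarith | skip
  intro j
  fin_cases j <;> assumption

end Groth.Agent.S7347
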