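import Groth.Statements.S7350
import Mathlib
import Groth.Agent.Lib.helper4.NumType


set_option autoImplicit false
set_option maxHeartbeats 0
open Finset
open Models Models.NumericalType

namespace Groth.Agent.S7350

open Groth.Agent.Lib.helper4

/-- Classification of proper subgraphs of type E8 (a chain i_1 … i_7 with i_8 joined to i_5): let T be a
numerical type on n > 8 indices and i_1, …, i_8 distinct (-2)-indices with a_{12}, a_{23}, a_{34},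
a_{45}, a_{56}, a_{67}, a_{58} nonzero. Then for some integer w all w_{i_j} equal w, these
intersection numbers equal w, all other a_{i_j i_k} (j ≠ k) vanish, and 2 m_1 ≥ m_2, 2 m_2 ≥ m_1 +
m_3, 2 m_3 ≥ m_2 + m_4, 2 m_4 ≥ m_3 + m_5, 2 m_5 ≥ m_4 + m_6 + m_8, 2 m_6 ≥ m_5 + m_7, 2 m_7 ≥ m_6,
2 m_8 ≥ m_5. (The published statement lists a_{65} and a_{57} among the nonzero entries, which
contradicts its own conclusion a_{57} = 0; this row uses the edges of the E8 graph, a_{67} and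
a_{58}, as the pictured graph and the matrix give them.) -/
theorem result {n : ℕ} (T : Models.NumericalType n) (hn : 8 < n)
    (v : Fin 8 ↪ Fin n) (hv : ∀ j, T.IsMinusTwo (v j)) (h01 : T.a (v 0) (v 1) ≠ 0) (h12 : T.a (v 1) (v 2) ≠ 0) (h23 : T.a (v 2) (v 3) ≠ 0) (h34 : T.a (v 3) (v 4) ≠ 0) (h45 : T.a (v 4) (v 5) ≠ 0) (h56 : T.a (v 5) (v 6) ≠ 0) (h47 : T.a (v 4) (v 7) ≠ 0) :
    ∃ w : ℤ, (∀ j : Fin 8, T.w (v j) = w) ∧
      T.a (v 0) (v 1) = w ∧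
      T.a (v 1) (v 2) = w ∧
      T.a (v 2) (v 3) = w ∧
      T.a (v 3) (v 4) = w ∧
      T.a (v 4) (v 5) = w ∧
      T.a (v 5) (v 6) = w ∧
      T.a (v 4) (v 7) = w ∧
      T.a (v 0) (v 2) = 0 ∧
      T.a (v 0) (v 3) = 0 ∧
      T.a (v 0) (v 4) = 0 ∧
      T.a (v 0) (v 5) = 0 ∧
      T.a (v 0) (v 6) = 0 ∧
      T.a (v 0) (v 7) = 0 ∧
      T.a (v 1) (v 3) = 0 ∧
      T.a (v 1) (v 4) = 0 ∧
      T.a (v 1) (v 5) = 0 ∧
      T.a (v 1) (v 6) = 0 ∧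
      T.a (v 1) (v 7) = 0 ∧
      T.a (v 2) (v 4) = 0 ∧
      T.a (v 2) (v 5) = 0 ∧
      T.a (v 2) (v 6) = 0 ∧
      T.a (v 2) (v 7) = 0 ∧
      T.a (v 3) (v 5) = 0 ∧
      T.a (v 3) (v 6) = 0 ∧
      T.a (v 3) (v 7) = 0 ∧
      T.a (v 4) (v 6) = 0 ∧
      T.a (v 5) (v 7) = 0 ∧
      T.a (v 6) (v 7) = 0 ∧
      T.m (v 1) ≤ 2 * T.m (v 0) ∧
      T.m (v 0) + T.m (v 2) ≤ 2 * T.m (v 1) ∧
      T.m (v 1) + T.m (v 3) ≤ 2 * T.m (v 2) ∧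
      T.m (v 2) + T.m (v 4) ≤ 2 * T.m (v 3) ∧
      T.m (v 3) + T.m (v 5) + T.m (v 7) ≤ 2 * T.m (v 4) ∧
      T.m (v 4) + T.m (v 6) ≤ 2 * T.m (v 5) ∧
      T.m (v 5) ≤ 2 * T.m (v 6) ∧
      T.m (v 4) ≤ 2 * T.m (v 7) := by
  have hne : ∀ {p q : Fin 8}, p ≠ q → v p ≠ v q := fun h => v.injective.ne h
  have e0_1 := nt_edge_ge T (hne (by decide : (0 : Fin 8) ≠ 1)) h01
  have e1_0 := nt_edge_ge' T (hne (by decide : (0 : Fin 8) ≠ 1)) h01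
  rw [nt_symm T (v 0) (v 1)] at e1_0
  have e1_2 := nt_edge_ge T (hne (by decide : (1 : Fin 8) ≠ 2)) h12
  have e2_1 := nt_edge_ge' T (hne (by decide : (1 : Fin 8) ≠ 2)) h12
  rw [nt_symm T (v 1) (v 2)] at e2_1
  have e2_3 := nt_edge_ge T (hne (by decide : (2 : Fin 8) ≠ 3)) h23
  have e3_2 := nt_edge_ge' T (hne (by decide : (2 : Fin 8) ≠ 3)) h23
  rw [nt_symm T (v 2) (v 3)] at e3_2
  have e3_4 := nt_edge_ge T (hne (by decide : (3 : Fin 8) ≠ 4)) h34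
  have e4_3 := nt_edge_ge' T (hne (by decide : (3 : Fin 8) ≠ 4)) h34
  rw [nt_symm T (v 3) (v 4)] at e4_3
  have e4_5 := nt_edge_ge T (hne (by decide : (4 : Fin 8) ≠ 5)) h45
  have e5_4 := nt_edge_ge' T (hne (by decide : (4 : Fin 8) ≠ 5)) h45
  rw [nt_symm T (v 4) (v 5)] at e5_4
  have e5_6 := nt_edge_ge T (hne (by decide : (5 : Fin 8) ≠ 6)) h56
  have e6_5 := nt_edge_ge' T (hne (by decide : (5 : Fin 8) ≠ 6)) h56
  rw [nt_symm T (v 5) (v 6)] at e6_5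
  have e4_7 := nt_edge_ge T (hne (by decide : (4 : Fin 8) ≠ 7)) h47
  have e7_4 := nt_edge_ge' T (hne (by decide : (4 : Fin 8) ≠ 7)) h47
  rw [nt_symm T (v 4) (v 7)] at e7_4
  have A0_2 : T.a (v 0) (v 2) = 0 := by
    by_contra hx
    have e0_2 := nt_edge_ge T (hne (by decide : (0 : Fin 8) ≠ 2)) hx
    have e2_0 := nt_edge_ge' T (hne (by decide : (0 : Fin 8) ≠ 2)) hx
    rw [nt_symm T (v 0) (v 2)] at e2_0
    refine nt_no_affine T v hn hv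
      !![0,1,1,0,0,0,0,0; 1,0,1,0,0,0,0,0; 1,1,0,1,0,0,0,0; 0,0,1,0,1,0,0,0; 0,0,0,1,0,1,0,1; 0,0,0,0,1,0,1,0; 0,0,0,0,0,1,0,0; 0,0,0,0,1,0,0,0] ?_ ![1,1,1,0,0,0,0,0] (by decide)
      (by decide) (by decide)
    intro p q hpq hk
    fin_cases p <;> fin_cases q <;> first | (exfalso; exact hk rfl) | (simp at hk hpq ⊢ <;> assumption)
  have A2_0 : T.a (v 2) (v 0) = 0 := by rw [nt_symm T (v 2) (v 0)]; exact A0_2
  have A0_3 : T.a (v 0) (v 3) = 0 := by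
    by_contra hx
    have e0_3 := nt_edge_ge T (hne (by decide : (0 : Fin 8) ≠ 3)) hx
    have e3_0 := nt_edge_ge' T (hne (by decide : (0 : Fin 8) ≠ 3)) hx
    rw [nt_symm T (v 0) (v 3)] at e3_0
    refine nt_no_affine T v hn hv
      !![0,1,0,1,0,0,0,0; 1,0,1,0,0,0,0,0; 0,1,0,1,0,0,0,0; 1,0,1,0,1,0,0,0; 0,0,0,1,0,1,0,1; 0,0,0,0,1,0,1,0; 0,0,0,0,0,1,0,0; 0,0,0,0,1,0,0,0] ?_ ![1,1,1,1,0,0,0,0] (by decide)
      (by decide) (by decide)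
    intro p q hpq hk
    fin_cases p <;> fin_cases q <;> first | (exfalso; exact hk rfl) | (simp at hk hpq ⊢ <;> assumption)
  have A3_0 : T.a (v 3) (v 0) = 0 := by rw [nt_symm T (v 3) (v 0)]; exact A0_3
  have A0_4 : T.a (v 0) (v 4) = 0 := by
    by_contra hx
    have e0_4 := nt_edge_ge T (hne (by decide : (0 : Fin 8) ≠ 4)) hx
    have e4_0 := nt_edge_ge' T (hne (by decide : (0 : Fin 8) ≠ 4)) hx
    rw [nt_symm T (v 0) (v 4)] at e4_0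
    refine nt_no_affine T v hn hv
      !![0,1,0,0,1,0,0,0; 1,0,1,0,0,0,0,0; 0,1,0,1,0,0,0,0; 0,0,1,0,1,0,0,0; 1,0,0,1,0,1,0,1; 0,0,0,0,1,0,1,0; 0,0,0,0,0,1,0,0; 0,0,0,0,1,0,0,0] ?_ ![1,1,1,1,1,0,0,0] (by decide)
      (by decide) (by decide)
    intro p q hpq hk
    fin_cases p <;> fin_cases q <;> first | (exfalso; exact hk rfl) | (simp at hk hpq ⊢ <;> assumption)
  have A4_0 : T.a (v 4) (v 0) = 0 := by rw [nt_symm T (v 4) (v 0)]; exact A0_4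
  have A0_5 : T.a (v 0) (v 5) = 0 := by
    by_contra hx
    have e0_5 := nt_edge_ge T (hne (by decide : (0 : Fin 8) ≠ 5)) hx
    have e5_0 := nt_edge_ge' T (hne (by decide : (0 : Fin 8) ≠ 5)) hx
    rw [nt_symm T (v 0) (v 5)] at e5_0
    refine nt_no_affine T v hn hv
      !![0,1,0,0,0,1,0,0; 1,0,1,0,0,0,0,0; 0,1,0,1,0,0,0,0; 0,0,1,0,1,0,0,0; 0,0,0,1,0,1,0,1; 1,0,0,0,1,0,1,0; 0,0,0,0,0,1,0,0; 0,0,0,0,1,0,0,0] ?_ ![1,1,1,1,1,1,0,0] (by decide)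
      (by decide) (by decide)
    intro p q hpq hk
    fin_cases p <;> fin_cases q <;> first | (exfalso; exact hk rfl) | (simp at hk hpq ⊢ <;> assumption)
  have A5_0 : T.a (v 5) (v 0) = 0 := by rw [nt_symm T (v 5) (v 0)]; exact A0_5
  have A0_6 : T.a (v 0) (v 6) = 0 := by
    by_contra hx
    have e0_6 := nt_edge_ge T (hne (by decide : (0 : Fin 8) ≠ 6)) hx
    have e6_0 := nt_edge_ge' T (hne (by decide : (0 : Fin 8) ≠ 6)) hx
    rw [nt_symm T (v 0) (v 6)] at e6_0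
    refine nt_no_affine T v hn hv
      !![0,1,0,0,0,0,1,0; 1,0,1,0,0,0,0,0; 0,1,0,1,0,0,0,0; 0,0,1,0,1,0,0,0; 0,0,0,1,0,1,0,1; 0,0,0,0,1,0,1,0; 1,0,0,0,0,1,0,0; 0,0,0,0,1,0,0,0] ?_ ![1,1,1,1,1,1,1,0] (by decide)
      (by decide) (by decide)
    intro p q hpq hk
    fin_cases p <;> fin_cases q <;> first | (exfalso; exact hk rfl) | (simp at hk hpq ⊢ <;> assumption)
  have A6_0 : T.a (v 6) (v 0) = 0 := by rw [nt_symm T (v 6) (v 0)]; exact A0_6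
  have A0_7 : T.a (v 0) (v 7) = 0 := by
    by_contra hx
    have e0_7 := nt_edge_ge T (hne (by decide : (0 : Fin 8) ≠ 7)) hx
    have e7_0 := nt_edge_ge' T (hne (by decide : (0 : Fin 8) ≠ 7)) hx
    rw [nt_symm T (v 0) (v 7)] at e7_0
    refine nt_no_affine T v hn hv
      !![0,1,0,0,0,0,0,1; 1,0,1,0,0,0,0,0; 0,1,0,1,0,0,0,0; 0,0,1,0,1,0,0,0; 0,0,0,1,0,1,0,1; 0,0,0,0,1,0,1,0; 0,0,0,0,0,1,0,0; 1,0,0,0,1,0,0,0] ?_ ![1,1,1,1,1,0,0,1] (by decide)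
      (by decide) (by decide)
    intro p q hpq hk
    fin_cases p <;> fin_cases q <;> first | (exfalso; exact hk rfl) | (simp at hk hpq ⊢ <;> assumption)
  have A7_0 : T.a (v 7) (v 0) = 0 := by rw [nt_symm T (v 7) (v 0)]; exact A0_7
  have A1_3 : T.a (v 1) (v 3) = 0 := by
    by_contra hx
    have e1_3 := nt_edge_ge T (hne (by decide : (1 : Fin 8) ≠ 3)) hx
    have e3_1 := nt_edge_ge' T (hne (by decide : (1 : Fin 8) ≠ 3)) hx
    rw [nt_symm T (v 1) (v 3)] at e3_1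
    refine nt_no_affine T v hn hv
      !![0,1,0,0,0,0,0,0; 1,0,1,1,0,0,0,0; 0,1,0,1,0,0,0,0; 0,1,1,0,1,0,0,0; 0,0,0,1,0,1,0,1; 0,0,0,0,1,0,1,0; 0,0,0,0,0,1,0,0; 0,0,0,0,1,0,0,0] ?_ ![0,1,1,1,0,0,0,0] (by decide)
      (by decide) (by decide)
    intro p q hpq hk
    fin_cases p <;> fin_cases q <;> first | (exfalso; exact hk rfl) | (simp at hk hpq ⊢ <;> assumption)
  have A3_1 : T.a (v 3) (v 1) = 0 := by rw [nt_symm T (v 3) (v 1)]; exact A1_3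
  have A1_4 : T.a (v 1) (v 4) = 0 := by
    by_contra hx
    have e1_4 := nt_edge_ge T (hne (by decide : (1 : Fin 8) ≠ 4)) hx
    have e4_1 := nt_edge_ge' T (hne (by decide : (1 : Fin 8) ≠ 4)) hx
    rw [nt_symm T (v 1) (v 4)] at e4_1
    refine nt_no_affine T v hn hv
      !![0,1,0,0,0,0,0,0; 1,0,1,0,1,0,0,0; 0,1,0,1,0,0,0,0; 0,0,1,0,1,0,0,0; 0,1,0,1,0,1,0,1; 0,0,0,0,1,0,1,0; 0,0,0,0,0,1,0,0; 0,0,0,0,1,0,0,0] ?_ ![0,1,1,1,1,0,0,0] (by decide)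
      (by decide) (by decide)
    intro p q hpq hk
    fin_cases p <;> fin_cases q <;> first | (exfalso; exact hk rfl) | (simp at hk hpq ⊢ <;> assumption)
  have A4_1 : T.a (v 4) (v 1) = 0 := by rw [nt_symm T (v 4) (v 1)]; exact A1_4
  have A1_5 : T.a (v 1) (v 5) = 0 := by
    by_contra hx
    have e1_5 := nt_edge_ge T (hne (by decide : (1 : Fin 8) ≠ 5)) hx
    have e5_1 := nt_edge_ge' T (hne (by decide : (1 : Fin 8) ≠ 5)) hx
    rw [nt_symm T (v 1) (v 5)] at e5_1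
    refine nt_no_affine T v hn hv
      !![0,1,0,0,0,0,0,0; 1,0,1,0,0,1,0,0; 0,1,0,1,0,0,0,0; 0,0,1,0,1,0,0,0; 0,0,0,1,0,1,0,1; 0,1,0,0,1,0,1,0; 0,0,0,0,0,1,0,0; 0,0,0,0,1,0,0,0] ?_ ![0,1,1,1,1,1,0,0] (by decide)
      (by decide) (by decide)
    intro p q hpq hk
    fin_cases p <;> fin_cases q <;> first | (exfalso; exact hk rfl) | (simp at hk hpq ⊢ <;> assumption)
  have A5_1 : T.a (v 5) (v 1) = 0 := by rw [nt_symm T (v 5) (v 1)]; exact A1_5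
  have A1_6 : T.a (v 1) (v 6) = 0 := by
    by_contra hx
    have e1_6 := nt_edge_ge T (hne (by decide : (1 : Fin 8) ≠ 6)) hx
    have e6_1 := nt_edge_ge' T (hne (by decide : (1 : Fin 8) ≠ 6)) hx
    rw [nt_symm T (v 1) (v 6)] at e6_1
    refine nt_no_affine T v hn hv
      !![0,1,0,0,0,0,0,0; 1,0,1,0,0,0,1,0; 0,1,0,1,0,0,0,0; 0,0,1,0,1,0,0,0; 0,0,0,1,0,1,0,1; 0,0,0,0,1,0,1,0; 0,1,0,0,0,1,0,0; 0,0,0,0,1,0,0,0] ?_ ![0,1,1,1,1,1,1,0] (by decide)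
      (by decide) (by decide)
    intro p q hpq hk
    fin_cases p <;> fin_cases q <;> first | (exfalso; exact hk rfl) | (simp at hk hpq ⊢ <;> assumption)
  have A6_1 : T.a (v 6) (v 1) = 0 := by rw [nt_symm T (v 6) (v 1)]; exact A1_6
  have A1_7 : T.a (v 1) (v 7) = 0 := by
    by_contra hx
    have e1_7 := nt_edge_ge T (hne (by decide : (1 : Fin 8) ≠ 7)) hx
    have e7_1 := nt_edge_ge' T (hne (by decide : (1 : Fin 8) ≠ 7)) hx
    rw [nt_symm T (v 1) (v 7)] at e7_1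
    refine nt_no_affine T v hn hv
      !![0,1,0,0,0,0,0,0; 1,0,1,0,0,0,0,1; 0,1,0,1,0,0,0,0; 0,0,1,0,1,0,0,0; 0,0,0,1,0,1,0,1; 0,0,0,0,1,0,1,0; 0,0,0,0,0,1,0,0; 0,1,0,0,1,0,0,0] ?_ ![0,1,1,1,1,0,0,1] (by decide)
      (by decide) (by decide)
    intro p q hpq hk
    fin_cases p <;> fin_cases q <;> first | (exfalso; exact hk rfl) | (simp at hk hpq ⊢ <;> assumption)
  have A7_1 : T.a (v 7) (v 1) = 0 := by rw [nt_symm T (v 7) (v 1)]; exact A1_7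
  have A2_4 : T.a (v 2) (v 4) = 0 := by
    by_contra hx
    have e2_4 := nt_edge_ge T (hne (by decide : (2 : Fin 8) ≠ 4)) hx
    have e4_2 := nt_edge_ge' T (hne (by decide : (2 : Fin 8) ≠ 4)) hx
    rw [nt_symm T (v 2) (v 4)] at e4_2
    refine nt_no_affine T v hn hv
      !![0,1,0,0,0,0,0,0; 1,0,1,0,0,0,0,0; 0,1,0,1,1,0,0,0; 0,0,1,0,1,0,0,0; 0,0,1,1,0,1,0,1; 0,0,0,0,1,0,1,0; 0,0,0,0,0,1,0,0; 0,0,0,0,1,0,0,0] ?_ ![0,0,1,1,1,0,0,0] (by decide)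
      (by decide) (by decide)
    intro p q hpq hk
    fin_cases p <;> fin_cases q <;> first | (exfalso; exact hk rfl) | (simp at hk hpq ⊢ <;> assumption)
  have A4_2 : T.a (v 4) (v 2) = 0 := by rw [nt_symm T (v 4) (v 2)]; exact A2_4
  have A2_5 : T.a (v 2) (v 5) = 0 := by
    by_contra hx
    have e2_5 := nt_edge_ge T (hne (by decide : (2 : Fin 8) ≠ 5)) hx
    have e5_2 := nt_edge_ge' T (hne (by decide : (2 : Fin 8) ≠ 5)) hx
    rw [nt_symm T (v 2) (v 5)] at e5_2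
    refine nt_no_affine T v hn hv
      !![0,1,0,0,0,0,0,0; 1,0,1,0,0,0,0,0; 0,1,0,1,0,1,0,0; 0,0,1,0,1,0,0,0; 0,0,0,1,0,1,0,1; 0,0,1,0,1,0,1,0; 0,0,0,0,0,1,0,0; 0,0,0,0,1,0,0,0] ?_ ![0,0,1,1,1,1,0,0] (by decide)
      (by decide) (by decide)
    intro p q hpq hk
    fin_cases p <;> fin_cases q <;> first | (exfalso; exact hk rfl) | (simp at hk hpq ⊢ <;> assumption)
  have A5_2 : T.a (v 5) (v 2) = 0 := by rw [nt_symm T (v 5) (v 2)]; exact A2_5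
  have A2_6 : T.a (v 2) (v 6) = 0 := by
    by_contra hx
    have e2_6 := nt_edge_ge T (hne (by decide : (2 : Fin 8) ≠ 6)) hx
    have e6_2 := nt_edge_ge' T (hne (by decide : (2 : Fin 8) ≠ 6)) hx
    rw [nt_symm T (v 2) (v 6)] at e6_2
    refine nt_no_affine T v hn hv
      !![0,1,0,0,0,0,0,0; 1,0,1,0,0,0,0,0; 0,1,0,1,0,0,1,0; 0,0,1,0,1,0,0,0; 0,0,0,1,0,1,0,1; 0,0,0,0,1,0,1,0; 0,0,1,0,0,1,0,0; 0,0,0,0,1,0,0,0] ?_ ![0,0,1,1,1,1,1,0] (by decide)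
      (by decide) (by decide)
    intro p q hpq hk
    fin_cases p <;> fin_cases q <;> first | (exfalso; exact hk rfl) | (simp at hk hpq ⊢ <;> assumption)
  have A6_2 : T.a (v 6) (v 2) = 0 := by rw [nt_symm T (v 6) (v 2)]; exact A2_6
  have A2_7 : T.a (v 2) (v 7) = 0 := by
    by_contra hx
    have e2_7 := nt_edge_ge T (hne (by decide : (2 : Fin 8) ≠ 7)) hx
    have e7_2 := nt_edge_ge' T (hne (by decide : (2 : Fin 8) ≠ 7)) hx
    rw [nt_symm T (v 2) (v 7)] at e7_2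
    refine nt_no_affine T v hn hv
      !![0,1,0,0,0,0,0,0; 1,0,1,0,0,0,0,0; 0,1,0,1,0,0,0,1; 0,0,1,0,1,0,0,0; 0,0,0,1,0,1,0,1; 0,0,0,0,1,0,1,0; 0,0,0,0,0,1,0,0; 0,0,1,0,1,0,0,0] ?_ ![0,0,1,1,1,0,0,1] (by decide)
      (by decide) (by decide)
    intro p q hpq hk
    fin_cases p <;> fin_cases q <;> first | (exfalso; exact hk rfl) | (simp at hk hpq ⊢ <;> assumption)
  have A7_2 : T.a (v 7) (v 2) = 0 := by rw [nt_symm T (v 7) (v 2)]; exact A2_7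
  have A3_5 : T.a (v 3) (v 5) = 0 := by
    by_contra hx
    have e3_5 := nt_edge_ge T (hne (by decide : (3 : Fin 8) ≠ 5)) hx
    have e5_3 := nt_edge_ge' T (hne (by decide : (3 : Fin 8) ≠ 5)) hx
    rw [nt_symm T (v 3) (v 5)] at e5_3
    refine nt_no_affine T v hn hv
      !![0,1,0,0,0,0,0,0; 1,0,1,0,0,0,0,0; 0,1,0,1,0,0,0,0; 0,0,1,0,1,1,0,0; 0,0,0,1,0,1,0,1; 0,0,0,1,1,0,1,0; 0,0,0,0,0,1,0,0; 0,0,0,0,1,0,0,0] ?_ ![0,0,0,1,1,1,0,0] (by decide)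
      (by decide) (by decide)
    intro p q hpq hk
    fin_cases p <;> fin_cases q <;> first | (exfalso; exact hk rfl) | (simp at hk hpq ⊢ <;> assumption)
  have A5_3 : T.a (v 5) (v 3) = 0 := by rw [nt_symm T (v 5) (v 3)]; exact A3_5
  have A3_6 : T.a (v 3) (v 6) = 0 := by
    by_contra hx
    have e3_6 := nt_edge_ge T (hne (by decide : (3 : Fin 8) ≠ 6)) hx
    have e6_3 := nt_edge_ge' T (hne (by decide : (3 : Fin 8) ≠ 6)) hx
    rw [nt_symm T (v 3) (v 6)] at e6_3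
    refine nt_no_affine T v hn hv
      !![0,1,0,0,0,0,0,0; 1,0,1,0,0,0,0,0; 0,1,0,1,0,0,0,0; 0,0,1,0,1,0,1,0; 0,0,0,1,0,1,0,1; 0,0,0,0,1,0,1,0; 0,0,0,1,0,1,0,0; 0,0,0,0,1,0,0,0] ?_ ![0,0,0,1,1,1,1,0] (by decide)
      (by decide) (by decide)
    intro p q hpq hk
    fin_cases p <;> fin_cases q <;> first | (exfalso; exact hk rfl) | (simp at hk hpq ⊢ <;> assumption)
  have A6_3 : T.a (v 6) (v 3) = 0 := by rw [nt_symm T (v 6) (v 3)]; exact A3_6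
  have A3_7 : T.a (v 3) (v 7) = 0 := by
    by_contra hx
    have e3_7 := nt_edge_ge T (hne (by decide : (3 : Fin 8) ≠ 7)) hx
    have e7_3 := nt_edge_ge' T (hne (by decide : (3 : Fin 8) ≠ 7)) hx
    rw [nt_symm T (v 3) (v 7)] at e7_3
    refine nt_no_affine T v hn hv
      !![0,1,0,0,0,0,0,0; 1,0,1,0,0,0,0,0; 0,1,0,1,0,0,0,0; 0,0,1,0,1,0,0,1; 0,0,0,1,0,1,0,1; 0,0,0,0,1,0,1,0; 0,0,0,0,0,1,0,0; 0,0,0,1,1,0,0,0] ?_ ![0,0,0,1,1,0,0,1] (by decide)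
      (by decide) (by decide)
    intro p q hpq hk
    fin_cases p <;> fin_cases q <;> first | (exfalso; exact hk rfl) | (simp at hk hpq ⊢ <;> assumption)
  have A7_3 : T.a (v 7) (v 3) = 0 := by rw [nt_symm T (v 7) (v 3)]; exact A3_7
  have A4_6 : T.a (v 4) (v 6) = 0 := by
    by_contra hx
    have e4_6 := nt_edge_ge T (hne (by decide : (4 : Fin 8) ≠ 6)) hx
    have e6_4 := nt_edge_ge' T (hne (by decide : (4 : Fin 8) ≠ 6)) hx
    rw [nt_symm T (v 4) (v 6)] at e6_4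
    refine nt_no_affine T v hn hv
      !![0,1,0,0,0,0,0,0; 1,0,1,0,0,0,0,0; 0,1,0,1,0,0,0,0; 0,0,1,0,1,0,0,0; 0,0,0,1,0,1,1,1; 0,0,0,0,1,0,1,0; 0,0,0,0,1,1,0,0; 0,0,0,0,1,0,0,0] ?_ ![0,0,0,0,1,1,1,0] (by decide)
      (by decide) (by decide)
    intro p q hpq hk
    fin_cases p <;> fin_cases q <;> first | (exfalso; exact hk rfl) | (simp at hk hpq ⊢ <;> assumption)
  have A6_4 : T.a (v 6) (v 4) = 0 := by rw [nt_symm T (v 6) (v 4)]; exact A4_6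
  have A5_7 : T.a (v 5) (v 7) = 0 := by
    by_contra hx
    have e5_7 := nt_edge_ge T (hne (by decide : (5 : Fin 8) ≠ 7)) hx
    have e7_5 := nt_edge_ge' T (hne (by decide : (5 : Fin 8) ≠ 7)) hx
    rw [nt_symm T (v 5) (v 7)] at e7_5
    refine nt_no_affine T v hn hv
      !![0,1,0,0,0,0,0,0; 1,0,1,0,0,0,0,0; 0,1,0,1,0,0,0,0; 0,0,1,0,1,0,0,0; 0,0,0,1,0,1,0,1; 0,0,0,0,1,0,1,1; 0,0,0,0,0,1,0,0; 0,0,0,0,1,1,0,0] ?_ ![0,0,0,0,1,1,0,1] (by decide)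
      (by decide) (by decide)
    intro p q hpq hk
    fin_cases p <;> fin_cases q <;> first | (exfalso; exact hk rfl) | (simp at hk hpq ⊢ <;> assumption)
  have A7_5 : T.a (v 7) (v 5) = 0 := by rw [nt_symm T (v 7) (v 5)]; exact A5_7
  have A6_7 : T.a (v 6) (v 7) = 0 := by
    by_contra hx
    have e6_7 := nt_edge_ge T (hne (by decide : (6 : Fin 8) ≠ 7)) hx
    have e7_6 := nt_edge_ge' T (hne (by decide : (6 : Fin 8) ≠ 7)) hx
    rw [nt_symm T (v 6) (v 7)] at e7_6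
    refine nt_no_affine T v hn hv
      !![0,1,0,0,0,0,0,0; 1,0,1,0,0,0,0,0; 0,1,0,1,0,0,0,0; 0,0,1,0,1,0,0,0; 0,0,0,1,0,1,0,1; 0,0,0,0,1,0,1,0; 0,0,0,0,0,1,0,1; 0,0,0,0,1,0,1,0] ?_ ![0,0,0,0,1,1,1,1] (by decide)
      (by decide) (by decide)
    intro p q hpq hk
    fin_cases p <;> fin_cases q <;> first | (exfalso; exact hk rfl) | (simp at hk hpq ⊢ <;> assumption)
  have A7_6 : T.a (v 7) (v 6) = 0 := by rw [nt_symm T (v 7) (v 6)]; exact A6_7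
  have L0_1 : T.a (v 0) (v 1) < 2 * T.w (v 0) := by
    by_contra hx
    push Not at hx
    refine nt_no_affine T v hn hv
      !![0,2,0,0,0,0,0,0; 1,0,1,0,0,0,0,0; 0,1,0,1,0,0,0,0; 0,0,1,0,1,0,0,0; 0,0,0,1,0,1,0,1; 0,0,0,0,1,0,1,0; 0,0,0,0,0,1,0,0; 0,0,0,0,1,0,0,0] ?_ ![2,2,2,2,2,1,0,1] (by decide)
      (by decide) (by decide)
    intro p q hpq hk
    fin_cases p <;> fin_cases q <;> first | (exfalso; exact hk rfl) | (simp at hk hpq ⊢ <;> assumption)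
  have E0_1 : T.a (v 0) (v 1) = T.w (v 0) := nt_eq_of_dvd_lt (T.w_pos _) (T.w_dvd _ _) e0_1 L0_1
  have L1_0 : T.a (v 1) (v 0) < 2 * T.w (v 1) := by
    by_contra hx
    push Not at hx
    refine nt_no_affine T v hn hv
      !![0,1,0,0,0,0,0,0; 2,0,1,0,0,0,0,0; 0,1,0,1,0,0,0,0; 0,0,1,0,1,0,0,0; 0,0,0,1,0,1,0,1; 0,0,0,0,1,0,1,0; 0,0,0,0,0,1,0,0; 0,0,0,0,1,0,0,0] ?_ ![1,2,2,2,2,1,0,1] (by decide)
      (by decide) (by decide)
    intro p q hpq hk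
    fin_cases p <;> fin_cases q <;> first | (exfalso; exact hk rfl) | (simp at hk hpq ⊢ <;> assumption)
  have E1_0 : T.a (v 1) (v 0) = T.w (v 1) := nt_eq_of_dvd_lt (T.w_pos _) (T.w_dvd _ _) e1_0 L1_0
  have L1_2 : T.a (v 1) (v 2) < 2 * T.w (v 1) := by
    by_contra hx
    push Not at hx
    refine nt_no_affine T v hn hv
      !![0,1,0,0,0,0,0,0; 1,0,2,0,0,0,0,0; 0,1,0,1,0,0,0,0; 0,0,1,0,1,0,0,0; 0,0,0,1,0,1,0,1; 0,0,0,0,1,0,1,0; 0,0,0,0,0,1,0,0; 0,0,0,0,1,0,0,0] ?_ ![0,2,2,2,2,1,0,1] (by decide)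
      (by decide) (by decide)
    intro p q hpq hk
    fin_cases p <;> fin_cases q <;> first | (exfalso; exact hk rfl) | (simp at hk hpq ⊢ <;> assumption)
  have E1_2 : T.a (v 1) (v 2) = T.w (v 1) := nt_eq_of_dvd_lt (T.w_pos _) (T.w_dvd _ _) e1_2 L1_2
  have L2_1 : T.a (v 2) (v 1) < 2 * T.w (v 2) := by
    by_contra hx
    push Not at hx
    refine nt_no_affine T v hn hv
      !![0,1,0,0,0,0,0,0; 1,0,1,0,0,0,0,0; 0,2,0,1,0,0,0,0; 0,0,1,0,1,0,0,0; 0,0,0,1,0,1,0,1; 0,0,0,0,1,0,1,0; 0,0,0,0,0,1,0,0; 0,0,0,0,1,0,0,0] ?_ ![0,1,2,2,2,1,0,1] (by decide)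
      (by decide) (by decide)
    intro p q hpq hk
    fin_cases p <;> fin_cases q <;> first | (exfalso; exact hk rfl) | (simp at hk hpq ⊢ <;> assumption)
  have E2_1 : T.a (v 2) (v 1) = T.w (v 2) := nt_eq_of_dvd_lt (T.w_pos _) (T.w_dvd _ _) e2_1 L2_1
  have L2_3 : T.a (v 2) (v 3) < 2 * T.w (v 2) := by
    by_contra hx
    push Not at hx
    refine nt_no_affine T v hn hv
      !![0,1,0,0,0,0,0,0; 1,0,1,0,0,0,0,0; 0,1,0,2,0,0,0,0; 0,0,1,0,1,0,0,0; 0,0,0,1,0,1,0,1; 0,0,0,0,1,0,1,0; 0,0,0,0,0,1,0,0; 0,0,0,0,1,0,0,0] ?_ ![0,0,2,2,2,1,0,1] (by decide)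
      (by decide) (by decide)
    intro p q hpq hk
    fin_cases p <;> fin_cases q <;> first | (exfalso; exact hk rfl) | (simp at hk hpq ⊢ <;> assumption)
  have E2_3 : T.a (v 2) (v 3) = T.w (v 2) := nt_eq_of_dvd_lt (T.w_pos _) (T.w_dvd _ _) e2_3 L2_3
  have L3_2 : T.a (v 3) (v 2) < 2 * T.w (v 3) := by
    by_contra hx
    push Not at hx
    refine nt_no_affine T v hn hv
      !![0,1,0,0,0,0,0,0; 1,0,1,0,0,0,0,0; 0,1,0,1,0,0,0,0; 0,0,2,0,1,0,0,0; 0,0,0,1,0,1,0,1; 0,0,0,0,1,0,1,0; 0,0,0,0,0,1,0,0; 0,0,0,0,1,0,0,0] ?_ ![0,0,1,2,2,1,0,1] (by decide)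
      (by decide) (by decide)
    intro p q hpq hk
    fin_cases p <;> fin_cases q <;> first | (exfalso; exact hk rfl) | (simp at hk hpq ⊢ <;> assumption)
  have E3_2 : T.a (v 3) (v 2) = T.w (v 3) := nt_eq_of_dvd_lt (T.w_pos _) (T.w_dvd _ _) e3_2 L3_2
  have L3_4 : T.a (v 3) (v 4) < 2 * T.w (v 3) := by
    by_contra hx
    push Not at hx
    refine nt_no_affine T v hn hv
      !![0,1,0,0,0,0,0,0; 1,0,1,0,0,0,0,0; 0,1,0,1,0,0,0,0; 0,0,1,0,2,0,0,0; 0,0,0,1,0,1,0,1; 0,0,0,0,1,0,1,0; 0,0,0,0,0,1,0,0; 0,0,0,0,1,0,0,0] ?_ ![0,0,0,2,2,1,0,1] (by decide)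
      (by decide) (by decide)
    intro p q hpq hk
    fin_cases p <;> fin_cases q <;> first | (exfalso; exact hk rfl) | (simp at hk hpq ⊢ <;> assumption)
  have E3_4 : T.a (v 3) (v 4) = T.w (v 3) := nt_eq_of_dvd_lt (T.w_pos _) (T.w_dvd _ _) e3_4 L3_4
  have L4_3 : T.a (v 4) (v 3) < 2 * T.w (v 4) := by
    by_contra hx
    push Not at hx
    refine nt_no_affine T v hn hv
      !![0,1,0,0,0,0,0,0; 1,0,1,0,0,0,0,0; 0,1,0,1,0,0,0,0; 0,0,1,0,1,0,0,0; 0,0,0,2,0,1,0,1; 0,0,0,0,1,0,1,0; 0,0,0,0,0,1,0,0; 0,0,0,0,1,0,0,0] ?_ ![0,0,0,1,2,1,0,1] (by decide)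
      (by decide) (by decide)
    intro p q hpq hk
    fin_cases p <;> fin_cases q <;> first | (exfalso; exact hk rfl) | (simp at hk hpq ⊢ <;> assumption)
  have E4_3 : T.a (v 4) (v 3) = T.w (v 4) := nt_eq_of_dvd_lt (T.w_pos _) (T.w_dvd _ _) e4_3 L4_3
  have L4_5 : T.a (v 4) (v 5) < 2 * T.w (v 4) := by
    by_contra hx
    push Not at hx
    refine nt_no_affine T v hn hv
      !![0,1,0,0,0,0,0,0; 1,0,1,0,0,0,0,0; 0,1,0,1,0,0,0,0; 0,0,1,0,1,0,0,0; 0,0,0,1,0,2,0,1; 0,0,0,0,1,0,1,0; 0,0,0,0,0,1,0,0; 0,0,0,0,1,0,0,0] ?_ ![0,0,0,1,2,1,0,1] (by decide)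
      (by decide) (by decide)
    intro p q hpq hk
    fin_cases p <;> fin_cases q <;> first | (exfalso; exact hk rfl) | (simp at hk hpq ⊢ <;> assumption)
  have E4_5 : T.a (v 4) (v 5) = T.w (v 4) := nt_eq_of_dvd_lt (T.w_pos _) (T.w_dvd _ _) e4_5 L4_5
  have L5_4 : T.a (v 5) (v 4) < 2 * T.w (v 5) := by
    by_contra hx
    push Not at hx
    refine nt_no_affine T v hn hv
      !![0,1,0,0,0,0,0,0; 1,0,1,0,0,0,0,0; 0,1,0,1,0,0,0,0; 0,0,1,0,1,0,0,0; 0,0,0,1,0,1,0,1; 0,0,0,0,2,0,1,0; 0,0,0,0,0,1,0,0; 0,0,0,0,1,0,0,0] ?_ ![0,0,0,1,2,2,0,1] (by decide)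
      (by decide) (by decide)
    intro p q hpq hk
    fin_cases p <;> fin_cases q <;> first | (exfalso; exact hk rfl) | (simp at hk hpq ⊢ <;> assumption)
  have E5_4 : T.a (v 5) (v 4) = T.w (v 5) := nt_eq_of_dvd_lt (T.w_pos _) (T.w_dvd _ _) e5_4 L5_4
  have L5_6 : T.a (v 5) (v 6) < 2 * T.w (v 5) := by
    by_contra hx
    push Not at hx
    refine nt_no_affine T v hn hv
      !![0,1,0,0,0,0,0,0; 1,0,1,0,0,0,0,0; 0,1,0,1,0,0,0,0; 0,0,1,0,1,0,0,0; 0,0,0,1,0,1,0,1; 0,0,0,0,1,0,2,0; 0,0,0,0,0,1,0,0; 0,0,0,0,1,0,0,0] ?_ ![0,0,0,1,2,2,1,1] (by decide)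
      (by decide) (by decide)
    intro p q hpq hk
    fin_cases p <;> fin_cases q <;> first | (exfalso; exact hk rfl) | (simp at hk hpq ⊢ <;> assumption)
  have E5_6 : T.a (v 5) (v 6) = T.w (v 5) := nt_eq_of_dvd_lt (T.w_pos _) (T.w_dvd _ _) e5_6 L5_6
  have L6_5 : T.a (v 6) (v 5) < 2 * T.w (v 6) := by
    by_contra hx
    push Not at hx
    refine nt_no_affine T v hn hv
      !![0,1,0,0,0,0,0,0; 1,0,1,0,0,0,0,0; 0,1,0,1,0,0,0,0; 0,0,1,0,1,0,0,0; 0,0,0,1,0,1,0,1; 0,0,0,0,1,0,1,0; 0,0,0,0,0,2,0,0; 0,0,0,0,1,0,0,0] ?_ ![0,0,0,1,2,2,2,1] (by decide)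
      (by decide) (by decide)
    intro p q hpq hk
    fin_cases p <;> fin_cases q <;> first | (exfalso; exact hk rfl) | (simp at hk hpq ⊢ <;> assumption)
  have E6_5 : T.a (v 6) (v 5) = T.w (v 6) := nt_eq_of_dvd_lt (T.w_pos _) (T.w_dvd _ _) e6_5 L6_5
  have L4_7 : T.a (v 4) (v 7) < 2 * T.w (v 4) := by
    by_contra hx
    push Not at hx
    refine nt_no_affine T v hn hv
      !![0,1,0,0,0,0,0,0; 1,0,1,0,0,0,0,0; 0,1,0,1,0,0,0,0; 0,0,1,0,1,0,0,0; 0,0,0,1,0,1,0,2; 0,0,0,0,1,0,1,0; 0,0,0,0,0,1,0,0; 0,0,0,0,1,0,0,0] ?_ ![0,0,0,1,2,1,0,1] (by decide)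
      (by decide) (by decide)
    intro p q hpq hk
    fin_cases p <;> fin_cases q <;> first | (exfalso; exact hk rfl) | (simp at hk hpq ⊢ <;> assumption)
  have E4_7 : T.a (v 4) (v 7) = T.w (v 4) := nt_eq_of_dvd_lt (T.w_pos _) (T.w_dvd _ _) e4_7 L4_7
  have L7_4 : T.a (v 7) (v 4) < 2 * T.w (v 7) := by
    by_contra hx
    push Not at hx
    refine nt_no_affine T v hn hv
      !![0,1,0,0,0,0,0,0; 1,0,1,0,0,0,0,0; 0,1,0,1,0,0,0,0; 0,0,1,0,1,0,0,0; 0,0,0,1,0,1,0,1; 0,0,0,0,1,0,1,0; 0,0,0,0,0,1,0,0; 0,0,0,0,2,0,0,0] ?_ ![0,0,0,1,2,1,0,2] (by decide)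
      (by decide) (by decide)
    intro p q hpq hk
    fin_cases p <;> fin_cases q <;> first | (exfalso; exact hk rfl) | (simp at hk hpq ⊢ <;> assumption)
  have E7_4 : T.a (v 7) (v 4) = T.w (v 7) := nt_eq_of_dvd_lt (T.w_pos _) (T.w_dvd _ _) e7_4 L7_4
  have W0 : T.w (v 0) = T.w (v 0) := rfl
  have W1 : T.w (v 1) = T.w (v 0) := E1_0.symm.trans ((nt_symm T (v 1) (v 0)).trans (E0_1.trans W0))
  have W2 : T.w (v 2) = T.w (v 0) := E2_1.symm.trans ((nt_symm T (v 2) (v 1)).trans (E1_2.trans W1))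
  have W3 : T.w (v 3) = T.w (v 0) := E3_2.symm.trans ((nt_symm T (v 3) (v 2)).trans (E2_3.trans W2))
  have W4 : T.w (v 4) = T.w (v 0) := E4_3.symm.trans ((nt_symm T (v 4) (v 3)).trans (E3_4.trans W3))
  have W5 : T.w (v 5) = T.w (v 0) := E5_4.symm.trans ((nt_symm T (v 5) (v 4)).trans (E4_5.trans W4))
  have W7 : T.w (v 7) = T.w (v 0) := E7_4.symm.trans ((nt_symm T (v 7) (v 4)).trans (E4_7.trans W4))
  have W6 : T.w (v 6) = T.w (v 0) := E6_5.symm.trans ((nt_symm T (v 6) (v 5)).trans (E5_6.trans W5))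
  have A0_1 : T.a (v 0) (v 1) = T.w (v 0) := E0_1.trans W0
  have A1_0 : T.a (v 1) (v 0) = T.w (v 0) := E1_0.trans W1
  have A1_2 : T.a (v 1) (v 2) = T.w (v 0) := E1_2.trans W1
  have A2_1 : T.a (v 2) (v 1) = T.w (v 0) := E2_1.trans W2
  have A2_3 : T.a (v 2) (v 3) = T.w (v 0) := E2_3.trans W2
  have A3_2 : T.a (v 3) (v 2) = T.w (v 0) := E3_2.trans W3
  have A3_4 : T.a (v 3) (v 4) = T.w (v 0) := E3_4.trans W3
  have A4_3 : T.a (v 4) (v 3) = T.w (v 0) := E4_3.trans W4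
  have A4_5 : T.a (v 4) (v 5) = T.w (v 0) := E4_5.trans W4
  have A5_4 : T.a (v 5) (v 4) = T.w (v 0) := E5_4.trans W5
  have A5_6 : T.a (v 5) (v 6) = T.w (v 0) := E5_6.trans W5
  have A6_5 : T.a (v 6) (v 5) = T.w (v 0) := E6_5.trans W6
  have A4_7 : T.a (v 4) (v 7) = T.w (v 0) := E4_7.trans W4
  have A7_4 : T.a (v 7) (v 4) = T.w (v 0) := E7_4.trans W7
  have A0_0 : T.a (v 0) (v 0) = -2 * T.w (v 0) := by rw [(hv 0).2, W0]
  have A1_1 : T.a (v 1) (v 1) = -2 * T.w (v 0) := by rw [(hv 1).2, W1]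
  have A2_2 : T.a (v 2) (v 2) = -2 * T.w (v 0) := by rw [(hv 2).2, W2]
  have A3_3 : T.a (v 3) (v 3) = -2 * T.w (v 0) := by rw [(hv 3).2, W3]
  have A4_4 : T.a (v 4) (v 4) = -2 * T.w (v 0) := by rw [(hv 4).2, W4]
  have A5_5 : T.a (v 5) (v 5) = -2 * T.w (v 0) := by rw [(hv 5).2, W5]
  have A6_6 : T.a (v 6) (v 6) = -2 * T.w (v 0) := by rw [(hv 6).2, W6]
  have A7_7 : T.a (v 7) (v 7) = -2 * T.w (v 0) := by rw [(hv 7).2, W7]
  have hW := T.w_pos (v 0)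
  have R0 : T.m (v 1) ≤ 2 * T.m (v 0) := by
    have r := nt_row_le T v 0
    simp only [Fin.sum_univ_eight, A0_0, A0_1, A0_2, A0_3, A0_4, A0_5, A0_6, A0_7] at r
    exact le_of_mul_le_mul_left (a := T.w (v 0)) (by linarith) hW
  have R1 : T.m (v 0) + T.m (v 2) ≤ 2 * T.m (v 1) := by
    have r := nt_row_le T v 1
    simp only [Fin.sum_univ_eight, A1_0, A1_1, A1_2, A1_3, A1_4, A1_5, A1_6, A1_7] at r
    exact le_of_mul_le_mul_left (a := T.w (v 0)) (by linarith) hW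
  have R2 : T.m (v 1) + T.m (v 3) ≤ 2 * T.m (v 2) := by
    have r := nt_row_le T v 2
    simp only [Fin.sum_univ_eight, A2_0, A2_1, A2_2, A2_3, A2_4, A2_5, A2_6, A2_7] at r
    exact le_of_mul_le_mul_left (a := T.w (v 0)) (by linarith) hW
  have R3 : T.m (v 2) + T.m (v 4) ≤ 2 * T.m (v 3) := by
    have r := nt_row_le T v 3
    simp only [Fin.sum_univ_eight, A3_0, A3_1, A3_2, A3_3, A3_4, A3_5, A3_6, A3_7] at r
    exact le_of_mul_le_mul_left (a := T.w (v 0)) (by linarith) hW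
  have R4 : T.m (v 3) + T.m (v 5) + T.m (v 7) ≤ 2 * T.m (v 4) := by
    have r := nt_row_le T v 4
    simp only [Fin.sum_univ_eight, A4_0, A4_1, A4_2, A4_3, A4_4, A4_5, A4_6, A4_7] at r
    exact le_of_mul_le_mul_left (a := T.w (v 0)) (by linarith) hW
  have R5 : T.m (v 4) + T.m (v 6) ≤ 2 * T.m (v 5) := by
    have r := nt_row_le T v 5
    simp only [Fin.sum_univ_eight, A5_0, A5_1, A5_2, A5_3, A5_4, A5_5, A5_6, A5_7] at r
    exact le_of_mul_le_mul_left (a := T.w (v 0)) (by linarith) hW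
  have R6 : T.m (v 5) ≤ 2 * T.m (v 6) := by
    have r := nt_row_le T v 6
    simp only [Fin.sum_univ_eight, A6_0, A6_1, A6_2, A6_3, A6_4, A6_5, A6_6, A6_7] at r
    exact le_of_mul_le_mul_left (a := T.w (v 0)) (by linarith) hW
  have R7 : T.m (v 4) ≤ 2 * T.m (v 7) := by
    have r := nt_row_le T v 7
    simp only [Fin.sum_univ_eight, A7_0, A7_1, A7_2, A7_3, A7_4, A7_5, A7_6, A7_7] at r
    exact le_of_mul_le_mul_left (a := T.w (v 0)) (by linarith) hW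
  refine ⟨T.w (v 0), ?_, ?_, ?_, ?_, ?_, ?_, ?_, ?_, ?_, ?_, ?_, ?_, ?_, ?_, ?_, ?_, ?_, ?_, ?_, ?_, ?_, ?_, ?_, ?_, ?_, ?_, ?_, ?_, ?_, ?_, ?_, ?_, ?_, ?_, ?_, ?_, ?_⟩
  all_goals first | assumption | linarith | skip
  intro j
  fin_cases j <;> assumption

end Groth.Agent.S7350
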