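import Groth.Statements.S7351
import Mathlib
import Groth.Agent.Lib.helper4.NumType


set_option autoImplicit false
open Finset
open Models Models.NumericalType

namespace Groth.Agent.S7351

open Groth.Agent.Lib.helper4

/-- Let T be a numerical type on n > 5 indices. There do not exist five distinct (-2)-indices h, i, j,
k, l with a_hi > 0, a_hj > 0, a_hk > 0 and a_hl > 0. -/
theorem result {n : ℕ} (T : Models.NumericalType n) (hn : 5 < n)
    (v : Fin 5 ↪ Fin n) (hv : ∀ j, T.IsMinusTwo (v j))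
    (h01 : 0 < T.a (v 0) (v 1)) (h02 : 0 < T.a (v 0) (v 2)) (h03 : 0 < T.a (v 0) (v 3)) (h04 : 0 < T.a (v 0) (v 4)) : False := by
  have hne : ∀ {p q : Fin 5}, p ≠ q → v p ≠ v q := fun h => v.injective.ne h
  have e01 := nt_edge_ge T (hne (by decide : (0 : Fin 5) ≠ 1)) (ne_of_gt h01)
  have e02 := nt_edge_ge T (hne (by decide : (0 : Fin 5) ≠ 2)) (ne_of_gt h02)
  have e03 := nt_edge_ge T (hne (by decide : (0 : Fin 5) ≠ 3)) (ne_of_gt h03)
  have e04 := nt_edge_ge T (hne (by decide : (0 : Fin 5) ≠ 4)) (ne_of_gt h04)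
  have e10 := nt_edge_ge' T (hne (by decide : (0 : Fin 5) ≠ 1)) (ne_of_gt h01)
  have e20 := nt_edge_ge' T (hne (by decide : (0 : Fin 5) ≠ 2)) (ne_of_gt h02)
  have e30 := nt_edge_ge' T (hne (by decide : (0 : Fin 5) ≠ 3)) (ne_of_gt h03)
  have e40 := nt_edge_ge' T (hne (by decide : (0 : Fin 5) ≠ 4)) (ne_of_gt h04)
  rw [nt_symm T (v 0) (v 1)] at e10
  rw [nt_symm T (v 0) (v 2)] at e20
  rw [nt_symm T (v 0) (v 3)] at e30
  rw [nt_symm T (v 0) (v 4)] at e40
  refine nt_no_affine T v hn hv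
    !![0,1,1,1,1; 1,0,0,0,0; 1,0,0,0,0; 1,0,0,0,0; 1,0,0,0,0] ?_ ![2,1,1,1,1] (by decide)
    (by decide) (by decide)
  intro p q hpq hk
  fin_cases p <;> fin_cases q <;> simp at hk hpq ⊢ <;> assumption

end Groth.Agent.S7351
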