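import Groth.Statements.S7353
import Mathlib
import Groth.Agent.Lib.helper4.NumType2


set_option autoImplicit false
set_option maxHeartbeats 0
open Finset
open Models Models.NumericalType

namespace Groth.Agent.S7353

open Groth.Agent.Lib.helper4

/-- Classification of proper subgraphs which are chains of five vertices: let T be a numerical type on n
> 5 indices and i_1, …, i_5 distinct (-2)-indices with a_{i_j i_{j+1}} nonzero for j < 5. Then
a_{i_j i_l} = 0 for |j - l| ≥ 2 and, after possibly reversing the order of the indices, for some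
integer w one of the following holds: (A5) w = (w, w, w, w, w), consecutive a = (w, w, w, w), with
2m_1 ≥ m_2, 2m_2 ≥ m_1 + m_3, 2m_3 ≥ m_2 + m_4, 2m_4 ≥ m_3 + m_5, 2m_5 ≥ m_4; (C5) w = (w, w, w, w,
2w), consecutive a = (w, w, w, 2w), with 2m_1 ≥ m_2, 2m_2 ≥ m_1 + m_3, 2m_3 ≥ m_2 + m_4, 2m_4 ≥ m_3
+ 2m_5, 2m_5 ≥ m_4; (B5) w = (2w, 2w, 2w, 2w, w), consecutive a = (2w, 2w, 2w, 2w), with 2m_1 ≥ m_2,
2m_2 ≥ m_1 + m_3, 2m_3 ≥ m_2 + m_4, 2m_4 ≥ m_3 + m_5, m_5 ≥ m_4. (The inequalities are those given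
by the rows Σ_l a_{kl} m_l = 0 of the displayed matrices; the published text has 2m_3 ≥ m_2 + 2m_4
and 2m_4 ≥ m_3 + m_5 in case C5 and m_4 ≥ m_3 in case B5, of which the first does not follow — for
the numerical type with six indices, weights (1,1,1,1,2,1), chain intersection numbers (1,1,1,2)
plus a_{16} = 1, a_{66} = -1 and multiplicities (2,2,2,2,1,2) one has 2m_3 = 4 < m_2 + 2m_4 = 6 — so
the matrix inequalities are stated.) -/
theorem result {n : ℕ} (T : Models.NumericalType n) (hn : 5 < n)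
    (v : Fin 5 ↪ Fin n) (hv : ∀ j, T.IsMinusTwo (v j)) (h01 : T.a (v 0) (v 1) ≠ 0) (h12 : T.a (v 1) (v 2) ≠ 0) (h23 : T.a (v 2) (v 3) ≠ 0) (h34 : T.a (v 3) (v 4) ≠ 0) :
    (T.a (v 0) (v 2) = 0 ∧ T.a (v 0) (v 3) = 0 ∧ T.a (v 0) (v 4) = 0 ∧ T.a (v 1) (v 3) = 0 ∧ T.a (v 1) (v 4) = 0 ∧ T.a (v 2) (v 4) = 0) ∧
    ∃ (u : Fin 5 → Fin n) (w : ℤ), ((∀ j, u j = v j) ∨ (∀ j, u j = v (Fin.rev j))) ∧
      ((T.w (u 0) = w ∧ T.w (u 1) = w ∧ T.w (u 2) = w ∧ T.w (u 3) = w ∧ T.w (u 4) = w ∧ T.a (u 0) (u 1) = w ∧ T.a (u 1) (u 2) = w ∧ T.a (u 2) (u 3) = w ∧ T.a (u 3) (u 4) = w ∧ T.m (u 1) ≤ 2 * T.m (u 0) ∧ T.m (u 0) + T.m (u 2) ≤ 2 * T.m (u 1) ∧ T.m (u 1) + T.m (u 3) ≤ 2 * T.m (u 2) ∧ T.m (u 2) + T.m (u 4) ≤ 2 * T.m (u 3) ∧ T.m (u 3) ≤ 2 * T.m (u 4)) ∨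
      (T.w (u 0) = w ∧ T.w (u 1) = w ∧ T.w (u 2) = w ∧ T.w (u 3) = w ∧ T.w (u 4) = 2 * w ∧ T.a (u 0) (u 1) = w ∧ T.a (u 1) (u 2) = w ∧ T.a (u 2) (u 3) = w ∧ T.a (u 3) (u 4) = 2 * w ∧ T.m (u 1) ≤ 2 * T.m (u 0) ∧ T.m (u 0) + T.m (u 2) ≤ 2 * T.m (u 1) ∧ T.m (u 1) + T.m (u 3) ≤ 2 * T.m (u 2) ∧ T.m (u 2) + 2 * T.m (u 4) ≤ 2 * T.m (u 3) ∧ T.m (u 3) ≤ 2 * T.m (u 4)) ∨
      (T.w (u 0) = 2 * w ∧ T.w (u 1) = 2 * w ∧ T.w (u 2) = 2 * w ∧ T.w (u 3) = 2 * w ∧ T.w (u 4) = w ∧ T.a (u 0) (u 1) = 2 * w ∧ T.a (u 1) (u 2) = 2 * w ∧ T.a (u 2) (u 3) = 2 * w ∧ T.a (u 3) (u 4) = 2 * w ∧ T.m (u 1) ≤ 2 * T.m (u 0) ∧ T.m (u 0) + T.m (u 2) ≤ 2 * T.m (u 1) ∧ T.m (u 1) + T.m (u 3) ≤ 2 * T.m (u 2) ∧ T.m (u 2) + T.m (u 4) ≤ 2 * T.m (u 3) ∧ T.m (u 3) ≤ T.m (u 4))) := by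
  have hr0 : Fin.rev (0 : Fin 5) = 4 := by decide
  have hr1 : Fin.rev (1 : Fin 5) = 3 := by decide
  have hr2 : Fin.rev (2 : Fin 5) = 2 := by decide
  have hr3 : Fin.rev (3 : Fin 5) = 1 := by decide
  have hr4 : Fin.rev (4 : Fin 5) = 0 := by decide
  have hne : ∀ {p q : Fin 5}, p ≠ q → v p ≠ v q := fun h => v.injective.ne h
  have e0_1 := nt_edge_ge T (hne (by decide : (0 : Fin 5) ≠ 1)) h01
  have e1_0 := nt_edge_ge' T (hne (by decide : (0 : Fin 5) ≠ 1)) h01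
  rw [nt_symm T (v 0) (v 1)] at e1_0
  have e1_2 := nt_edge_ge T (hne (by decide : (1 : Fin 5) ≠ 2)) h12
  have e2_1 := nt_edge_ge' T (hne (by decide : (1 : Fin 5) ≠ 2)) h12
  rw [nt_symm T (v 1) (v 2)] at e2_1
  have e2_3 := nt_edge_ge T (hne (by decide : (2 : Fin 5) ≠ 3)) h23
  have e3_2 := nt_edge_ge' T (hne (by decide : (2 : Fin 5) ≠ 3)) h23
  rw [nt_symm T (v 2) (v 3)] at e3_2
  have e3_4 := nt_edge_ge T (hne (by decide : (3 : Fin 5) ≠ 4)) h34
  have e4_3 := nt_edge_ge' T (hne (by decide : (3 : Fin 5) ≠ 4)) h34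
  rw [nt_symm T (v 3) (v 4)] at e4_3
  have Z0_2 : T.a (v 0) (v 2) = 0 := by
    by_contra hx
    have e0_2 := nt_edge_ge T (hne (by decide : (0 : Fin 5) ≠ 2)) hx
    have e2_0 := nt_edge_ge' T (hne (by decide : (0 : Fin 5) ≠ 2)) hx
    rw [nt_symm T (v 0) (v 2)] at e2_0
    refine nt_no_affine T v hn hv
      !![0,1,1,0,0; 1,0,1,0,0; 1,1,0,1,0; 0,0,1,0,1; 0,0,0,1,0] ?_ ![1,1,1,0,0] (by decide)
      (by decide) (by decide)
    intro p q hpq hk
    fin_cases p <;> fin_cases q <;> first | (exfalso; exact hk rfl) | (simp at hk hpq ⊢ <;> assumption)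
  have Z2_0 : T.a (v 2) (v 0) = 0 := by rw [nt_symm T (v 2) (v 0)]; exact Z0_2
  have Z0_3 : T.a (v 0) (v 3) = 0 := by
    by_contra hx
    have e0_3 := nt_edge_ge T (hne (by decide : (0 : Fin 5) ≠ 3)) hx
    have e3_0 := nt_edge_ge' T (hne (by decide : (0 : Fin 5) ≠ 3)) hx
    rw [nt_symm T (v 0) (v 3)] at e3_0
    refine nt_no_affine T v hn hv
      !![0,1,0,1,0; 1,0,1,0,0; 0,1,0,1,0; 1,0,1,0,1; 0,0,0,1,0] ?_ ![1,1,1,1,0] (by decide)
      (by decide) (by decide)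
    intro p q hpq hk
    fin_cases p <;> fin_cases q <;> first | (exfalso; exact hk rfl) | (simp at hk hpq ⊢ <;> assumption)
  have Z3_0 : T.a (v 3) (v 0) = 0 := by rw [nt_symm T (v 3) (v 0)]; exact Z0_3
  have Z0_4 : T.a (v 0) (v 4) = 0 := by
    by_contra hx
    have e0_4 := nt_edge_ge T (hne (by decide : (0 : Fin 5) ≠ 4)) hx
    have e4_0 := nt_edge_ge' T (hne (by decide : (0 : Fin 5) ≠ 4)) hx
    rw [nt_symm T (v 0) (v 4)] at e4_0
    refine nt_no_affine T v hn hv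
      !![0,1,0,0,1; 1,0,1,0,0; 0,1,0,1,0; 0,0,1,0,1; 1,0,0,1,0] ?_ ![1,1,1,1,1] (by decide)
      (by decide) (by decide)
    intro p q hpq hk
    fin_cases p <;> fin_cases q <;> first | (exfalso; exact hk rfl) | (simp at hk hpq ⊢ <;> assumption)
  have Z4_0 : T.a (v 4) (v 0) = 0 := by rw [nt_symm T (v 4) (v 0)]; exact Z0_4
  have Z1_3 : T.a (v 1) (v 3) = 0 := by
    by_contra hx
    have e1_3 := nt_edge_ge T (hne (by decide : (1 : Fin 5) ≠ 3)) hx
    have e3_1 := nt_edge_ge' T (hne (by decide : (1 : Fin 5) ≠ 3)) hx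
    rw [nt_symm T (v 1) (v 3)] at e3_1
    refine nt_no_affine T v hn hv
      !![0,1,0,0,0; 1,0,1,1,0; 0,1,0,1,0; 0,1,1,0,1; 0,0,0,1,0] ?_ ![0,1,1,1,0] (by decide)
      (by decide) (by decide)
    intro p q hpq hk
    fin_cases p <;> fin_cases q <;> first | (exfalso; exact hk rfl) | (simp at hk hpq ⊢ <;> assumption)
  have Z3_1 : T.a (v 3) (v 1) = 0 := by rw [nt_symm T (v 3) (v 1)]; exact Z1_3
  have Z1_4 : T.a (v 1) (v 4) = 0 := by
    by_contra hx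
    have e1_4 := nt_edge_ge T (hne (by decide : (1 : Fin 5) ≠ 4)) hx
    have e4_1 := nt_edge_ge' T (hne (by decide : (1 : Fin 5) ≠ 4)) hx
    rw [nt_symm T (v 1) (v 4)] at e4_1
    refine nt_no_affine T v hn hv
      !![0,1,0,0,0; 1,0,1,0,1; 0,1,0,1,0; 0,0,1,0,1; 0,1,0,1,0] ?_ ![0,1,1,1,1] (by decide)
      (by decide) (by decide)
    intro p q hpq hk
    fin_cases p <;> fin_cases q <;> first | (exfalso; exact hk rfl) | (simp at hk hpq ⊢ <;> assumption)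
  have Z4_1 : T.a (v 4) (v 1) = 0 := by rw [nt_symm T (v 4) (v 1)]; exact Z1_4
  have Z2_4 : T.a (v 2) (v 4) = 0 := by
    by_contra hx
    have e2_4 := nt_edge_ge T (hne (by decide : (2 : Fin 5) ≠ 4)) hx
    have e4_2 := nt_edge_ge' T (hne (by decide : (2 : Fin 5) ≠ 4)) hx
    rw [nt_symm T (v 2) (v 4)] at e4_2
    refine nt_no_affine T v hn hv
      !![0,1,0,0,0; 1,0,1,0,0; 0,1,0,1,1; 0,0,1,0,1; 0,0,1,1,0] ?_ ![0,0,1,1,1] (by decide)
      (by decide) (by decide)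
    intro p q hpq hk
    fin_cases p <;> fin_cases q <;> first | (exfalso; exact hk rfl) | (simp at hk hpq ⊢ <;> assumption)
  have Z4_2 : T.a (v 4) (v 2) = 0 := by rw [nt_symm T (v 4) (v 2)]; exact Z2_4
  have T0_1 : T.a (v 0) (v 1) < 3 * T.w (v 0) := by
    by_contra hx
    push Not at hx
    refine nt_no_affine T v hn hv
      !![0,3,0,0,0; 1,0,1,0,0; 0,1,0,1,0; 0,0,1,0,1; 0,0,0,1,0] ?_ ![3,2,1,0,0] (by decide)
      (by decide) (by decide)
    intro p q hpq hk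
    fin_cases p <;> fin_cases q <;> first | (exfalso; exact hk rfl) | (simp at hk hpq ⊢ <;> assumption)
  have T1_0 : T.a (v 1) (v 0) < 3 * T.w (v 1) := by
    by_contra hx
    push Not at hx
    refine nt_no_affine T v hn hv
      !![0,1,0,0,0; 3,0,1,0,0; 0,1,0,1,0; 0,0,1,0,1; 0,0,0,1,0] ?_ ![1,2,1,0,0] (by decide)
      (by decide) (by decide)
    intro p q hpq hk
    fin_cases p <;> fin_cases q <;> first | (exfalso; exact hk rfl) | (simp at hk hpq ⊢ <;> assumption)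
  have T1_2 : T.a (v 1) (v 2) < 3 * T.w (v 1) := by
    by_contra hx
    push Not at hx
    refine nt_no_affine T v hn hv
      !![0,1,0,0,0; 1,0,3,0,0; 0,1,0,1,0; 0,0,1,0,1; 0,0,0,1,0] ?_ ![1,2,1,0,0] (by decide)
      (by decide) (by decide)
    intro p q hpq hk
    fin_cases p <;> fin_cases q <;> first | (exfalso; exact hk rfl) | (simp at hk hpq ⊢ <;> assumption)
  have T2_1 : T.a (v 2) (v 1) < 3 * T.w (v 2) := by
    by_contra hx
    push Not at hx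
    refine nt_no_affine T v hn hv
      !![0,1,0,0,0; 1,0,1,0,0; 0,3,0,1,0; 0,0,1,0,1; 0,0,0,1,0] ?_ ![0,1,2,1,0] (by decide)
      (by decide) (by decide)
    intro p q hpq hk
    fin_cases p <;> fin_cases q <;> first | (exfalso; exact hk rfl) | (simp at hk hpq ⊢ <;> assumption)
  have T2_3 : T.a (v 2) (v 3) < 3 * T.w (v 2) := by
    by_contra hx
    push Not at hx
    refine nt_no_affine T v hn hv
      !![0,1,0,0,0; 1,0,1,0,0; 0,1,0,3,0; 0,0,1,0,1; 0,0,0,1,0] ?_ ![0,1,2,1,0] (by decide)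
      (by decide) (by decide)
    intro p q hpq hk
    fin_cases p <;> fin_cases q <;> first | (exfalso; exact hk rfl) | (simp at hk hpq ⊢ <;> assumption)
  have T3_2 : T.a (v 3) (v 2) < 3 * T.w (v 3) := by
    by_contra hx
    push Not at hx
    refine nt_no_affine T v hn hv
      !![0,1,0,0,0; 1,0,1,0,0; 0,1,0,1,0; 0,0,3,0,1; 0,0,0,1,0] ?_ ![0,0,1,2,1] (by decide)
      (by decide) (by decide)
    intro p q hpq hk
    fin_cases p <;> fin_cases q <;> first | (exfalso; exact hk rfl) | (simp at hk hpq ⊢ <;> assumption)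
  have T3_4 : T.a (v 3) (v 4) < 3 * T.w (v 3) := by
    by_contra hx
    push Not at hx
    refine nt_no_affine T v hn hv
      !![0,1,0,0,0; 1,0,1,0,0; 0,1,0,1,0; 0,0,1,0,3; 0,0,0,1,0] ?_ ![0,0,1,2,1] (by decide)
      (by decide) (by decide)
    intro p q hpq hk
    fin_cases p <;> fin_cases q <;> first | (exfalso; exact hk rfl) | (simp at hk hpq ⊢ <;> assumption)
  have T4_3 : T.a (v 4) (v 3) < 3 * T.w (v 4) := by
    by_contra hx
    push Not at hx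
    refine nt_no_affine T v hn hv
      !![0,1,0,0,0; 1,0,1,0,0; 0,1,0,1,0; 0,0,1,0,1; 0,0,0,3,0] ?_ ![0,0,1,2,3] (by decide)
      (by decide) (by decide)
    intro p q hpq hk
    fin_cases p <;> fin_cases q <;> first | (exfalso; exact hk rfl) | (simp at hk hpq ⊢ <;> assumption)
  have L1_2 : T.a (v 1) (v 2) < 2 * T.w (v 1) := by
    by_contra hx
    push Not at hx
    refine nt_no_affine T v hn hv
      !![0,1,0,0,0; 1,0,2,0,0; 0,1,0,1,0; 0,0,1,0,1; 0,0,0,1,0] ?_ ![2,4,3,2,1] (by decide)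
      (by decide) (by decide)
    intro p q hpq hk
    fin_cases p <;> fin_cases q <;> first | (exfalso; exact hk rfl) | (simp at hk hpq ⊢ <;> assumption)
  have L2_1 : T.a (v 2) (v 1) < 2 * T.w (v 2) := by
    by_contra hx
    push Not at hx
    refine nt_no_affine T v hn hv
      !![0,1,0,0,0; 1,0,1,0,0; 0,2,0,1,0; 0,0,1,0,1; 0,0,0,1,0] ?_ ![1,2,3,2,1] (by decide)
      (by decide) (by decide)
    intro p q hpq hk
    fin_cases p <;> fin_cases q <;> first | (exfalso; exact hk rfl) | (simp at hk hpq ⊢ <;> assumption)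
  have L2_3 : T.a (v 2) (v 3) < 2 * T.w (v 2) := by
    by_contra hx
    push Not at hx
    refine nt_no_affine T v hn hv
      !![0,1,0,0,0; 1,0,1,0,0; 0,1,0,2,0; 0,0,1,0,1; 0,0,0,1,0] ?_ ![1,2,3,2,1] (by decide)
      (by decide) (by decide)
    intro p q hpq hk
    fin_cases p <;> fin_cases q <;> first | (exfalso; exact hk rfl) | (simp at hk hpq ⊢ <;> assumption)
  have L3_2 : T.a (v 3) (v 2) < 2 * T.w (v 3) := by
    by_contra hx
    push Not at hx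
    refine nt_no_affine T v hn hv
      !![0,1,0,0,0; 1,0,1,0,0; 0,1,0,1,0; 0,0,2,0,1; 0,0,0,1,0] ?_ ![1,2,3,4,2] (by decide)
      (by decide) (by decide)
    intro p q hpq hk
    fin_cases p <;> fin_cases q <;> first | (exfalso; exact hk rfl) | (simp at hk hpq ⊢ <;> assumption)
  have F0_1_1_0 : 2 * T.w (v 0) ≤ T.a (v 0) (v 1) → 2 * T.w (v 1) ≤ T.a (v 1) (v 0) → False := by
    intro hx hy
    refine nt_no_affine T v hn hv
      !![0,2,0,0,0; 2,0,1,0,0; 0,1,0,1,0; 0,0,1,0,1; 0,0,0,1,0] ?_ ![1,1,0,0,0] (by decide)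
      (by decide) (by decide)
    intro p q hpq hk
    fin_cases p <;> fin_cases q <;> first | (exfalso; exact hk rfl) | (simp at hk hpq ⊢ <;> assumption)
  have F0_1_3_4 : 2 * T.w (v 0) ≤ T.a (v 0) (v 1) → 2 * T.w (v 3) ≤ T.a (v 3) (v 4) → False := by
    intro hx hy
    refine nt_no_affine T v hn hv
      !![0,2,0,0,0; 1,0,1,0,0; 0,1,0,1,0; 0,0,1,0,2; 0,0,0,1,0] ?_ ![2,2,2,2,1] (by decide)
      (by decide) (by decide)
    intro p q hpq hk
    fin_cases p <;> fin_cases q <;> first | (exfalso; exact hk rfl) | (simp at hk hpq ⊢ <;> assumption)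
  have F0_1_4_3 : 2 * T.w (v 0) ≤ T.a (v 0) (v 1) → 2 * T.w (v 4) ≤ T.a (v 4) (v 3) → False := by
    intro hx hy
    refine nt_no_affine T v hn hv
      !![0,2,0,0,0; 1,0,1,0,0; 0,1,0,1,0; 0,0,1,0,1; 0,0,0,2,0] ?_ ![1,1,1,1,1] (by decide)
      (by decide) (by decide)
    intro p q hpq hk
    fin_cases p <;> fin_cases q <;> first | (exfalso; exact hk rfl) | (simp at hk hpq ⊢ <;> assumption)
  have F1_0_3_4 : 2 * T.w (v 1) ≤ T.a (v 1) (v 0) → 2 * T.w (v 3) ≤ T.a (v 3) (v 4) → False := by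
    intro hx hy
    refine nt_no_affine T v hn hv
      !![0,1,0,0,0; 2,0,1,0,0; 0,1,0,1,0; 0,0,1,0,2; 0,0,0,1,0] ?_ ![1,2,2,2,1] (by decide)
      (by decide) (by decide)
    intro p q hpq hk
    fin_cases p <;> fin_cases q <;> first | (exfalso; exact hk rfl) | (simp at hk hpq ⊢ <;> assumption)
  have F1_0_4_3 : 2 * T.w (v 1) ≤ T.a (v 1) (v 0) → 2 * T.w (v 4) ≤ T.a (v 4) (v 3) → False := by
    intro hx hy
    refine nt_no_affine T v hn hv
      !![0,1,0,0,0; 2,0,1,0,0; 0,1,0,1,0; 0,0,1,0,1; 0,0,0,2,0] ?_ ![1,2,2,2,2] (by decide)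
      (by decide) (by decide)
    intro p q hpq hk
    fin_cases p <;> fin_cases q <;> first | (exfalso; exact hk rfl) | (simp at hk hpq ⊢ <;> assumption)
  have F3_4_4_3 : 2 * T.w (v 3) ≤ T.a (v 3) (v 4) → 2 * T.w (v 4) ≤ T.a (v 4) (v 3) → False := by
    intro hx hy
    refine nt_no_affine T v hn hv
      !![0,1,0,0,0; 1,0,1,0,0; 0,1,0,1,0; 0,0,1,0,2; 0,0,0,2,0] ?_ ![0,0,0,1,1] (by decide)
      (by decide) (by decide)
    intro p q hpq hk
    fin_cases p <;> fin_cases q <;> first | (exfalso; exact hk rfl) | (simp at hk hpq ⊢ <;> assumption)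
  have S0_1 := nt_symm T (v 0) (v 1)
  have S1_2 := nt_symm T (v 1) (v 2)
  have S2_3 := nt_symm T (v 2) (v 3)
  have S3_4 := nt_symm T (v 3) (v 4)
  by_cases c0_1 : 2 * T.w (v 0) ≤ T.a (v 0) (v 1)
  · skip
    have n1_0 : ¬ (2 * T.w (v 1) ≤ T.a (v 1) (v 0)) := fun h => F0_1_1_0 c0_1 h
    have n3_4 : ¬ (2 * T.w (v 3) ≤ T.a (v 3) (v 4)) := fun h => F0_1_3_4 c0_1 h
    have n4_3 : ¬ (2 * T.w (v 4) ≤ T.a (v 4) (v 3)) := fun h => F0_1_4_3 c0_1 h
    have E0_1 : T.a (v 0) (v 1) = 2 * T.w (v 0) := nt_eq_two_of_dvd (T.w_pos _) (T.w_dvd _ _) c0_1 T0_1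
    have E1_0 : T.a (v 1) (v 0) = T.w (v 1) := nt_eq_of_dvd_lt (T.w_pos _) (T.w_dvd _ _) e1_0 (not_le.mp n1_0)
    have E1_2 : T.a (v 1) (v 2) = T.w (v 1) := nt_eq_of_dvd_lt (T.w_pos _) (T.w_dvd _ _) e1_2 L1_2
    have E2_1 : T.a (v 2) (v 1) = T.w (v 2) := nt_eq_of_dvd_lt (T.w_pos _) (T.w_dvd _ _) e2_1 L2_1
    have E2_3 : T.a (v 2) (v 3) = T.w (v 2) := nt_eq_of_dvd_lt (T.w_pos _) (T.w_dvd _ _) e2_3 L2_3
    have E3_2 : T.a (v 3) (v 2) = T.w (v 3) := nt_eq_of_dvd_lt (T.w_pos _) (T.w_dvd _ _) e3_2 L3_2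
    have E3_4 : T.a (v 3) (v 4) = T.w (v 3) := nt_eq_of_dvd_lt (T.w_pos _) (T.w_dvd _ _) e3_4 (not_le.mp n3_4)
    have E4_3 : T.a (v 4) (v 3) = T.w (v 4) := nt_eq_of_dvd_lt (T.w_pos _) (T.w_dvd _ _) e4_3 (not_le.mp n4_3)
    have W0 : T.w (v 0) = 1 * T.w (v 0) := by ring
    have W1 : T.w (v 1) = 2 * T.w (v 0) := by linarith [S0_1, E0_1, E1_0, W0]
    have W2 : T.w (v 2) = 2 * T.w (v 0) := by linarith [S1_2, E1_2, E2_1, W1]
    have W3 : T.w (v 3) = 2 * T.w (v 0) := by linarith [S2_3, E2_3, E3_2, W2]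
    have W4 : T.w (v 4) = 2 * T.w (v 0) := by linarith [S3_4, E3_4, E4_3, W3]
    have A0_0 : T.a (v 0) (v 0) = -2 * T.w (v 0) := by linarith [(hv 0).2, W0]
    have A0_1 : T.a (v 0) (v 1) = 2 * T.w (v 0) := by linarith [E0_1, W0]
    have A0_2 : T.a (v 0) (v 2) = 0 * T.w (v 0) := by linarith [Z0_2]
    have A0_3 : T.a (v 0) (v 3) = 0 * T.w (v 0) := by linarith [Z0_3]
    have A0_4 : T.a (v 0) (v 4) = 0 * T.w (v 0) := by linarith [Z0_4]
    have A1_0 : T.a (v 1) (v 0) = 2 * T.w (v 0) := by linarith [E1_0, W1]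
    have A1_1 : T.a (v 1) (v 1) = -4 * T.w (v 0) := by linarith [(hv 1).2, W1]
    have A1_2 : T.a (v 1) (v 2) = 2 * T.w (v 0) := by linarith [E1_2, W1]
    have A1_3 : T.a (v 1) (v 3) = 0 * T.w (v 0) := by linarith [Z1_3]
    have A1_4 : T.a (v 1) (v 4) = 0 * T.w (v 0) := by linarith [Z1_4]
    have A2_0 : T.a (v 2) (v 0) = 0 * T.w (v 0) := by linarith [Z2_0]
    have A2_1 : T.a (v 2) (v 1) = 2 * T.w (v 0) := by linarith [E2_1, W2]
    have A2_2 : T.a (v 2) (v 2) = -4 * T.w (v 0) := by linarith [(hv 2).2, W2]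
    have A2_3 : T.a (v 2) (v 3) = 2 * T.w (v 0) := by linarith [E2_3, W2]
    have A2_4 : T.a (v 2) (v 4) = 0 * T.w (v 0) := by linarith [Z2_4]
    have A3_0 : T.a (v 3) (v 0) = 0 * T.w (v 0) := by linarith [Z3_0]
    have A3_1 : T.a (v 3) (v 1) = 0 * T.w (v 0) := by linarith [Z3_1]
    have A3_2 : T.a (v 3) (v 2) = 2 * T.w (v 0) := by linarith [E3_2, W3]
    have A3_3 : T.a (v 3) (v 3) = -4 * T.w (v 0) := by linarith [(hv 3).2, W3]
    have A3_4 : T.a (v 3) (v 4) = 2 * T.w (v 0) := by linarith [E3_4, W3]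
    have A4_0 : T.a (v 4) (v 0) = 0 * T.w (v 0) := by linarith [Z4_0]
    have A4_1 : T.a (v 4) (v 1) = 0 * T.w (v 0) := by linarith [Z4_1]
    have A4_2 : T.a (v 4) (v 2) = 0 * T.w (v 0) := by linarith [Z4_2]
    have A4_3 : T.a (v 4) (v 3) = 2 * T.w (v 0) := by linarith [E4_3, W4]
    have A4_4 : T.a (v 4) (v 4) = -4 * T.w (v 0) := by linarith [(hv 4).2, W4]
    have hW := T.w_pos (v 0)
    have R0 : 2 * T.m (v 1) ≤ 2 * T.m (v 0) := by
      have r := nt_row_le T v 0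
      simp only [Fin.sum_univ_five, A0_0, A0_1, A0_2, A0_3, A0_4] at r
      exact le_of_mul_le_mul_left (a := T.w (v 0)) (by linarith) hW
    have R1 : 2 * T.m (v 0) + 2 * T.m (v 2) ≤ 4 * T.m (v 1) := by
      have r := nt_row_le T v 1
      simp only [Fin.sum_univ_five, A1_0, A1_1, A1_2, A1_3, A1_4] at r
      exact le_of_mul_le_mul_left (a := T.w (v 0)) (by linarith) hW
    have R2 : 2 * T.m (v 1) + 2 * T.m (v 3) ≤ 4 * T.m (v 2) := by
      have r := nt_row_le T v 2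
      simp only [Fin.sum_univ_five, A2_0, A2_1, A2_2, A2_3, A2_4] at r
      exact le_of_mul_le_mul_left (a := T.w (v 0)) (by linarith) hW
    have R3 : 2 * T.m (v 2) + 2 * T.m (v 4) ≤ 4 * T.m (v 3) := by
      have r := nt_row_le T v 3
      simp only [Fin.sum_univ_five, A3_0, A3_1, A3_2, A3_3, A3_4] at r
      exact le_of_mul_le_mul_left (a := T.w (v 0)) (by linarith) hW
    have R4 : 2 * T.m (v 3) ≤ 4 * T.m (v 4) := by
      have r := nt_row_le T v 4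
      simp only [Fin.sum_univ_five, A4_0, A4_1, A4_2, A4_3, A4_4] at r
      exact le_of_mul_le_mul_left (a := T.w (v 0)) (by linarith) hW
    refine ⟨⟨Z0_2, Z0_3, Z0_4, Z1_3, Z1_4, Z2_4⟩, fun j => v (Fin.rev j), T.w (v 0), Or.inr (fun _ => rfl), Or.inr (Or.inr (?_))⟩
    refine ⟨?_, ?_, ?_, ?_, ?_, ?_, ?_, ?_, ?_, ?_, ?_, ?_, ?_, ?_⟩ <;> (try simp only [hr0, hr1, hr2, hr3, hr4]) <;> linarith [W0, W1, W2, W3, W4, A0_0, A0_1, A0_2, A0_3, A0_4, A1_0, A1_1, A1_2, A1_3, A1_4, A2_0, A2_1, A2_2, A2_3, A2_4, A3_0, A3_1, A3_2, A3_3, A3_4, A4_0, A4_1, A4_2, A4_3, A4_4, R0, R1, R2, R3, R4]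
  · skip
    by_cases c1_0 : 2 * T.w (v 1) ≤ T.a (v 1) (v 0)
    · skip
      have n3_4 : ¬ (2 * T.w (v 3) ≤ T.a (v 3) (v 4)) := fun h => F1_0_3_4 c1_0 h
      have n4_3 : ¬ (2 * T.w (v 4) ≤ T.a (v 4) (v 3)) := fun h => F1_0_4_3 c1_0 h
      have E0_1 : T.a (v 0) (v 1) = T.w (v 0) := nt_eq_of_dvd_lt (T.w_pos _) (T.w_dvd _ _) e0_1 (not_le.mp c0_1)
      have E1_0 : T.a (v 1) (v 0) = 2 * T.w (v 1) := nt_eq_two_of_dvd (T.w_pos _) (T.w_dvd _ _) c1_0 T1_0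
      have E1_2 : T.a (v 1) (v 2) = T.w (v 1) := nt_eq_of_dvd_lt (T.w_pos _) (T.w_dvd _ _) e1_2 L1_2
      have E2_1 : T.a (v 2) (v 1) = T.w (v 2) := nt_eq_of_dvd_lt (T.w_pos _) (T.w_dvd _ _) e2_1 L2_1
      have E2_3 : T.a (v 2) (v 3) = T.w (v 2) := nt_eq_of_dvd_lt (T.w_pos _) (T.w_dvd _ _) e2_3 L2_3
      have E3_2 : T.a (v 3) (v 2) = T.w (v 3) := nt_eq_of_dvd_lt (T.w_pos _) (T.w_dvd _ _) e3_2 L3_2
      have E3_4 : T.a (v 3) (v 4) = T.w (v 3) := nt_eq_of_dvd_lt (T.w_pos _) (T.w_dvd _ _) e3_4 (not_le.mp n3_4)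
      have E4_3 : T.a (v 4) (v 3) = T.w (v 4) := nt_eq_of_dvd_lt (T.w_pos _) (T.w_dvd _ _) e4_3 (not_le.mp n4_3)
      have W1 : T.w (v 1) = 1 * T.w (v 1) := by ring
      have W2 : T.w (v 2) = 1 * T.w (v 1) := by linarith [S1_2, E1_2, E2_1, W1]
      have W3 : T.w (v 3) = 1 * T.w (v 1) := by linarith [S2_3, E2_3, E3_2, W2]
      have W4 : T.w (v 4) = 1 * T.w (v 1) := by linarith [S3_4, E3_4, E4_3, W3]
      have W0 : T.w (v 0) = 2 * T.w (v 1) := by linarith [S0_1, E1_0, E0_1, W1]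
      have A0_0 : T.a (v 0) (v 0) = -4 * T.w (v 1) := by linarith [(hv 0).2, W0]
      have A0_1 : T.a (v 0) (v 1) = 2 * T.w (v 1) := by linarith [E0_1, W0]
      have A0_2 : T.a (v 0) (v 2) = 0 * T.w (v 1) := by linarith [Z0_2]
      have A0_3 : T.a (v 0) (v 3) = 0 * T.w (v 1) := by linarith [Z0_3]
      have A0_4 : T.a (v 0) (v 4) = 0 * T.w (v 1) := by linarith [Z0_4]
      have A1_0 : T.a (v 1) (v 0) = 2 * T.w (v 1) := by linarith [E1_0, W1]
      have A1_1 : T.a (v 1) (v 1) = -2 * T.w (v 1) := by linarith [(hv 1).2, W1]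
      have A1_2 : T.a (v 1) (v 2) = 1 * T.w (v 1) := by linarith [E1_2, W1]
      have A1_3 : T.a (v 1) (v 3) = 0 * T.w (v 1) := by linarith [Z1_3]
      have A1_4 : T.a (v 1) (v 4) = 0 * T.w (v 1) := by linarith [Z1_4]
      have A2_0 : T.a (v 2) (v 0) = 0 * T.w (v 1) := by linarith [Z2_0]
      have A2_1 : T.a (v 2) (v 1) = 1 * T.w (v 1) := by linarith [E2_1, W2]
      have A2_2 : T.a (v 2) (v 2) = -2 * T.w (v 1) := by linarith [(hv 2).2, W2]
      have A2_3 : T.a (v 2) (v 3) = 1 * T.w (v 1) := by linarith [E2_3, W2]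
      have A2_4 : T.a (v 2) (v 4) = 0 * T.w (v 1) := by linarith [Z2_4]
      have A3_0 : T.a (v 3) (v 0) = 0 * T.w (v 1) := by linarith [Z3_0]
      have A3_1 : T.a (v 3) (v 1) = 0 * T.w (v 1) := by linarith [Z3_1]
      have A3_2 : T.a (v 3) (v 2) = 1 * T.w (v 1) := by linarith [E3_2, W3]
      have A3_3 : T.a (v 3) (v 3) = -2 * T.w (v 1) := by linarith [(hv 3).2, W3]
      have A3_4 : T.a (v 3) (v 4) = 1 * T.w (v 1) := by linarith [E3_4, W3]
      have A4_0 : T.a (v 4) (v 0) = 0 * T.w (v 1) := by linarith [Z4_0]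
      have A4_1 : T.a (v 4) (v 1) = 0 * T.w (v 1) := by linarith [Z4_1]
      have A4_2 : T.a (v 4) (v 2) = 0 * T.w (v 1) := by linarith [Z4_2]
      have A4_3 : T.a (v 4) (v 3) = 1 * T.w (v 1) := by linarith [E4_3, W4]
      have A4_4 : T.a (v 4) (v 4) = -2 * T.w (v 1) := by linarith [(hv 4).2, W4]
      have hW := T.w_pos (v 1)
      have R0 : 2 * T.m (v 1) ≤ 4 * T.m (v 0) := by
        have r := nt_row_le T v 0
        simp only [Fin.sum_univ_five, A0_0, A0_1, A0_2, A0_3, A0_4] at r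
        exact le_of_mul_le_mul_left (a := T.w (v 1)) (by linarith) hW
      have R1 : 2 * T.m (v 0) + 1 * T.m (v 2) ≤ 2 * T.m (v 1) := by
        have r := nt_row_le T v 1
        simp only [Fin.sum_univ_five, A1_0, A1_1, A1_2, A1_3, A1_4] at r
        exact le_of_mul_le_mul_left (a := T.w (v 1)) (by linarith) hW
      have R2 : 1 * T.m (v 1) + 1 * T.m (v 3) ≤ 2 * T.m (v 2) := by
        have r := nt_row_le T v 2
        simp only [Fin.sum_univ_five, A2_0, A2_1, A2_2, A2_3, A2_4] at r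
        exact le_of_mul_le_mul_left (a := T.w (v 1)) (by linarith) hW
      have R3 : 1 * T.m (v 2) + 1 * T.m (v 4) ≤ 2 * T.m (v 3) := by
        have r := nt_row_le T v 3
        simp only [Fin.sum_univ_five, A3_0, A3_1, A3_2, A3_3, A3_4] at r
        exact le_of_mul_le_mul_left (a := T.w (v 1)) (by linarith) hW
      have R4 : 1 * T.m (v 3) ≤ 2 * T.m (v 4) := by
        have r := nt_row_le T v 4
        simp only [Fin.sum_univ_five, A4_0, A4_1, A4_2, A4_3, A4_4] at r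
        exact le_of_mul_le_mul_left (a := T.w (v 1)) (by linarith) hW
      refine ⟨⟨Z0_2, Z0_3, Z0_4, Z1_3, Z1_4, Z2_4⟩, fun j => v (Fin.rev j), T.w (v 1), Or.inr (fun _ => rfl), Or.inr (Or.inl ?_)⟩
      refine ⟨?_, ?_, ?_, ?_, ?_, ?_, ?_, ?_, ?_, ?_, ?_, ?_, ?_, ?_⟩ <;> (try simp only [hr0, hr1, hr2, hr3, hr4]) <;> linarith [W0, W1, W2, W3, W4, A0_0, A0_1, A0_2, A0_3, A0_4, A1_0, A1_1, A1_2, A1_3, A1_4, A2_0, A2_1, A2_2, A2_3, A2_4, A3_0, A3_1, A3_2, A3_3, A3_4, A4_0, A4_1, A4_2, A4_3, A4_4, R0, R1, R2, R3, R4]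
    · skip
      by_cases c3_4 : 2 * T.w (v 3) ≤ T.a (v 3) (v 4)
      · skip
        have n4_3 : ¬ (2 * T.w (v 4) ≤ T.a (v 4) (v 3)) := fun h => F3_4_4_3 c3_4 h
        have E0_1 : T.a (v 0) (v 1) = T.w (v 0) := nt_eq_of_dvd_lt (T.w_pos _) (T.w_dvd _ _) e0_1 (not_le.mp c0_1)
        have E1_0 : T.a (v 1) (v 0) = T.w (v 1) := nt_eq_of_dvd_lt (T.w_pos _) (T.w_dvd _ _) e1_0 (not_le.mp c1_0)
        have E1_2 : T.a (v 1) (v 2) = T.w (v 1) := nt_eq_of_dvd_lt (T.w_pos _) (T.w_dvd _ _) e1_2 L1_2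
        have E2_1 : T.a (v 2) (v 1) = T.w (v 2) := nt_eq_of_dvd_lt (T.w_pos _) (T.w_dvd _ _) e2_1 L2_1
        have E2_3 : T.a (v 2) (v 3) = T.w (v 2) := nt_eq_of_dvd_lt (T.w_pos _) (T.w_dvd _ _) e2_3 L2_3
        have E3_2 : T.a (v 3) (v 2) = T.w (v 3) := nt_eq_of_dvd_lt (T.w_pos _) (T.w_dvd _ _) e3_2 L3_2
        have E3_4 : T.a (v 3) (v 4) = 2 * T.w (v 3) := nt_eq_two_of_dvd (T.w_pos _) (T.w_dvd _ _) c3_4 T3_4
        have E4_3 : T.a (v 4) (v 3) = T.w (v 4) := nt_eq_of_dvd_lt (T.w_pos _) (T.w_dvd _ _) e4_3 (not_le.mp n4_3)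
        have W0 : T.w (v 0) = 1 * T.w (v 0) := by ring
        have W1 : T.w (v 1) = 1 * T.w (v 0) := by linarith [S0_1, E0_1, E1_0, W0]
        have W2 : T.w (v 2) = 1 * T.w (v 0) := by linarith [S1_2, E1_2, E2_1, W1]
        have W3 : T.w (v 3) = 1 * T.w (v 0) := by linarith [S2_3, E2_3, E3_2, W2]
        have W4 : T.w (v 4) = 2 * T.w (v 0) := by linarith [S3_4, E3_4, E4_3, W3]
        have A0_0 : T.a (v 0) (v 0) = -2 * T.w (v 0) := by linarith [(hv 0).2, W0]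
        have A0_1 : T.a (v 0) (v 1) = 1 * T.w (v 0) := by linarith [E0_1, W0]
        have A0_2 : T.a (v 0) (v 2) = 0 * T.w (v 0) := by linarith [Z0_2]
        have A0_3 : T.a (v 0) (v 3) = 0 * T.w (v 0) := by linarith [Z0_3]
        have A0_4 : T.a (v 0) (v 4) = 0 * T.w (v 0) := by linarith [Z0_4]
        have A1_0 : T.a (v 1) (v 0) = 1 * T.w (v 0) := by linarith [E1_0, W1]
        have A1_1 : T.a (v 1) (v 1) = -2 * T.w (v 0) := by linarith [(hv 1).2, W1]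
        have A1_2 : T.a (v 1) (v 2) = 1 * T.w (v 0) := by linarith [E1_2, W1]
        have A1_3 : T.a (v 1) (v 3) = 0 * T.w (v 0) := by linarith [Z1_3]
        have A1_4 : T.a (v 1) (v 4) = 0 * T.w (v 0) := by linarith [Z1_4]
        have A2_0 : T.a (v 2) (v 0) = 0 * T.w (v 0) := by linarith [Z2_0]
        have A2_1 : T.a (v 2) (v 1) = 1 * T.w (v 0) := by linarith [E2_1, W2]
        have A2_2 : T.a (v 2) (v 2) = -2 * T.w (v 0) := by linarith [(hv 2).2, W2]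
        have A2_3 : T.a (v 2) (v 3) = 1 * T.w (v 0) := by linarith [E2_3, W2]
        have A2_4 : T.a (v 2) (v 4) = 0 * T.w (v 0) := by linarith [Z2_4]
        have A3_0 : T.a (v 3) (v 0) = 0 * T.w (v 0) := by linarith [Z3_0]
        have A3_1 : T.a (v 3) (v 1) = 0 * T.w (v 0) := by linarith [Z3_1]
        have A3_2 : T.a (v 3) (v 2) = 1 * T.w (v 0) := by linarith [E3_2, W3]
        have A3_3 : T.a (v 3) (v 3) = -2 * T.w (v 0) := by linarith [(hv 3).2, W3]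
        have A3_4 : T.a (v 3) (v 4) = 2 * T.w (v 0) := by linarith [E3_4, W3]
        have A4_0 : T.a (v 4) (v 0) = 0 * T.w (v 0) := by linarith [Z4_0]
        have A4_1 : T.a (v 4) (v 1) = 0 * T.w (v 0) := by linarith [Z4_1]
        have A4_2 : T.a (v 4) (v 2) = 0 * T.w (v 0) := by linarith [Z4_2]
        have A4_3 : T.a (v 4) (v 3) = 2 * T.w (v 0) := by linarith [E4_3, W4]
        have A4_4 : T.a (v 4) (v 4) = -4 * T.w (v 0) := by linarith [(hv 4).2, W4]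
        have hW := T.w_pos (v 0)
        have R0 : 1 * T.m (v 1) ≤ 2 * T.m (v 0) := by
          have r := nt_row_le T v 0
          simp only [Fin.sum_univ_five, A0_0, A0_1, A0_2, A0_3, A0_4] at r
          exact le_of_mul_le_mul_left (a := T.w (v 0)) (by linarith) hW
        have R1 : 1 * T.m (v 0) + 1 * T.m (v 2) ≤ 2 * T.m (v 1) := by
          have r := nt_row_le T v 1
          simp only [Fin.sum_univ_five, A1_0, A1_1, A1_2, A1_3, A1_4] at r
          exact le_of_mul_le_mul_left (a := T.w (v 0)) (by linarith) hW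
        have R2 : 1 * T.m (v 1) + 1 * T.m (v 3) ≤ 2 * T.m (v 2) := by
          have r := nt_row_le T v 2
          simp only [Fin.sum_univ_five, A2_0, A2_1, A2_2, A2_3, A2_4] at r
          exact le_of_mul_le_mul_left (a := T.w (v 0)) (by linarith) hW
        have R3 : 1 * T.m (v 2) + 2 * T.m (v 4) ≤ 2 * T.m (v 3) := by
          have r := nt_row_le T v 3
          simp only [Fin.sum_univ_five, A3_0, A3_1, A3_2, A3_3, A3_4] at r
          exact le_of_mul_le_mul_left (a := T.w (v 0)) (by linarith) hW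
        have R4 : 2 * T.m (v 3) ≤ 4 * T.m (v 4) := by
          have r := nt_row_le T v 4
          simp only [Fin.sum_univ_five, A4_0, A4_1, A4_2, A4_3, A4_4] at r
          exact le_of_mul_le_mul_left (a := T.w (v 0)) (by linarith) hW
        refine ⟨⟨Z0_2, Z0_3, Z0_4, Z1_3, Z1_4, Z2_4⟩, ⇑v, T.w (v 0), Or.inl (fun _ => rfl), Or.inr (Or.inl ?_)⟩
        refine ⟨?_, ?_, ?_, ?_, ?_, ?_, ?_, ?_, ?_, ?_, ?_, ?_, ?_, ?_⟩ <;> linarith [W0, W1, W2, W3, W4, A0_0, A0_1, A0_2, A0_3, A0_4, A1_0, A1_1, A1_2, A1_3, A1_4, A2_0, A2_1, A2_2, A2_3, A2_4, A3_0, A3_1, A3_2, A3_3, A3_4, A4_0, A4_1, A4_2, A4_3, A4_4, R0, R1, R2, R3, R4]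
      · skip
        by_cases c4_3 : 2 * T.w (v 4) ≤ T.a (v 4) (v 3)
        · skip
          have E0_1 : T.a (v 0) (v 1) = T.w (v 0) := nt_eq_of_dvd_lt (T.w_pos _) (T.w_dvd _ _) e0_1 (not_le.mp c0_1)
          have E1_0 : T.a (v 1) (v 0) = T.w (v 1) := nt_eq_of_dvd_lt (T.w_pos _) (T.w_dvd _ _) e1_0 (not_le.mp c1_0)
          have E1_2 : T.a (v 1) (v 2) = T.w (v 1) := nt_eq_of_dvd_lt (T.w_pos _) (T.w_dvd _ _) e1_2 L1_2
          have E2_1 : T.a (v 2) (v 1) = T.w (v 2) := nt_eq_of_dvd_lt (T.w_pos _) (T.w_dvd _ _) e2_1 L2_1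
          have E2_3 : T.a (v 2) (v 3) = T.w (v 2) := nt_eq_of_dvd_lt (T.w_pos _) (T.w_dvd _ _) e2_3 L2_3
          have E3_2 : T.a (v 3) (v 2) = T.w (v 3) := nt_eq_of_dvd_lt (T.w_pos _) (T.w_dvd _ _) e3_2 L3_2
          have E3_4 : T.a (v 3) (v 4) = T.w (v 3) := nt_eq_of_dvd_lt (T.w_pos _) (T.w_dvd _ _) e3_4 (not_le.mp c3_4)
          have E4_3 : T.a (v 4) (v 3) = 2 * T.w (v 4) := nt_eq_two_of_dvd (T.w_pos _) (T.w_dvd _ _) c4_3 T4_3
          have W4 : T.w (v 4) = 1 * T.w (v 4) := by ring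
          have W3 : T.w (v 3) = 2 * T.w (v 4) := by linarith [S3_4, E4_3, E3_4, W4]
          have W2 : T.w (v 2) = 2 * T.w (v 4) := by linarith [S2_3, E3_2, E2_3, W3]
          have W1 : T.w (v 1) = 2 * T.w (v 4) := by linarith [S1_2, E2_1, E1_2, W2]
          have W0 : T.w (v 0) = 2 * T.w (v 4) := by linarith [S0_1, E1_0, E0_1, W1]
          have A0_0 : T.a (v 0) (v 0) = -4 * T.w (v 4) := by linarith [(hv 0).2, W0]
          have A0_1 : T.a (v 0) (v 1) = 2 * T.w (v 4) := by linarith [E0_1, W0]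
          have A0_2 : T.a (v 0) (v 2) = 0 * T.w (v 4) := by linarith [Z0_2]
          have A0_3 : T.a (v 0) (v 3) = 0 * T.w (v 4) := by linarith [Z0_3]
          have A0_4 : T.a (v 0) (v 4) = 0 * T.w (v 4) := by linarith [Z0_4]
          have A1_0 : T.a (v 1) (v 0) = 2 * T.w (v 4) := by linarith [E1_0, W1]
          have A1_1 : T.a (v 1) (v 1) = -4 * T.w (v 4) := by linarith [(hv 1).2, W1]
          have A1_2 : T.a (v 1) (v 2) = 2 * T.w (v 4) := by linarith [E1_2, W1]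
          have A1_3 : T.a (v 1) (v 3) = 0 * T.w (v 4) := by linarith [Z1_3]
          have A1_4 : T.a (v 1) (v 4) = 0 * T.w (v 4) := by linarith [Z1_4]
          have A2_0 : T.a (v 2) (v 0) = 0 * T.w (v 4) := by linarith [Z2_0]
          have A2_1 : T.a (v 2) (v 1) = 2 * T.w (v 4) := by linarith [E2_1, W2]
          have A2_2 : T.a (v 2) (v 2) = -4 * T.w (v 4) := by linarith [(hv 2).2, W2]
          have A2_3 : T.a (v 2) (v 3) = 2 * T.w (v 4) := by linarith [E2_3, W2]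
          have A2_4 : T.a (v 2) (v 4) = 0 * T.w (v 4) := by linarith [Z2_4]
          have A3_0 : T.a (v 3) (v 0) = 0 * T.w (v 4) := by linarith [Z3_0]
          have A3_1 : T.a (v 3) (v 1) = 0 * T.w (v 4) := by linarith [Z3_1]
          have A3_2 : T.a (v 3) (v 2) = 2 * T.w (v 4) := by linarith [E3_2, W3]
          have A3_3 : T.a (v 3) (v 3) = -4 * T.w (v 4) := by linarith [(hv 3).2, W3]
          have A3_4 : T.a (v 3) (v 4) = 2 * T.w (v 4) := by linarith [E3_4, W3]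
          have A4_0 : T.a (v 4) (v 0) = 0 * T.w (v 4) := by linarith [Z4_0]
          have A4_1 : T.a (v 4) (v 1) = 0 * T.w (v 4) := by linarith [Z4_1]
          have A4_2 : T.a (v 4) (v 2) = 0 * T.w (v 4) := by linarith [Z4_2]
          have A4_3 : T.a (v 4) (v 3) = 2 * T.w (v 4) := by linarith [E4_3, W4]
          have A4_4 : T.a (v 4) (v 4) = -2 * T.w (v 4) := by linarith [(hv 4).2, W4]
          have hW := T.w_pos (v 4)
          have R0 : 2 * T.m (v 1) ≤ 4 * T.m (v 0) := by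
            have r := nt_row_le T v 0
            simp only [Fin.sum_univ_five, A0_0, A0_1, A0_2, A0_3, A0_4] at r
            exact le_of_mul_le_mul_left (a := T.w (v 4)) (by linarith) hW
          have R1 : 2 * T.m (v 0) + 2 * T.m (v 2) ≤ 4 * T.m (v 1) := by
            have r := nt_row_le T v 1
            simp only [Fin.sum_univ_five, A1_0, A1_1, A1_2, A1_3, A1_4] at r
            exact le_of_mul_le_mul_left (a := T.w (v 4)) (by linarith) hW
          have R2 : 2 * T.m (v 1) + 2 * T.m (v 3) ≤ 4 * T.m (v 2) := by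
            have r := nt_row_le T v 2
            simp only [Fin.sum_univ_five, A2_0, A2_1, A2_2, A2_3, A2_4] at r
            exact le_of_mul_le_mul_left (a := T.w (v 4)) (by linarith) hW
          have R3 : 2 * T.m (v 2) + 2 * T.m (v 4) ≤ 4 * T.m (v 3) := by
            have r := nt_row_le T v 3
            simp only [Fin.sum_univ_five, A3_0, A3_1, A3_2, A3_3, A3_4] at r
            exact le_of_mul_le_mul_left (a := T.w (v 4)) (by linarith) hW
          have R4 : 2 * T.m (v 3) ≤ 2 * T.m (v 4) := by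
            have r := nt_row_le T v 4
            simp only [Fin.sum_univ_five, A4_0, A4_1, A4_2, A4_3, A4_4] at r
            exact le_of_mul_le_mul_left (a := T.w (v 4)) (by linarith) hW
          refine ⟨⟨Z0_2, Z0_3, Z0_4, Z1_3, Z1_4, Z2_4⟩, ⇑v, T.w (v 4), Or.inl (fun _ => rfl), Or.inr (Or.inr (?_))⟩
          refine ⟨?_, ?_, ?_, ?_, ?_, ?_, ?_, ?_, ?_, ?_, ?_, ?_, ?_, ?_⟩ <;> linarith [W0, W1, W2, W3, W4, A0_0, A0_1, A0_2, A0_3, A0_4, A1_0, A1_1, A1_2, A1_3, A1_4, A2_0, A2_1, A2_2, A2_3, A2_4, A3_0, A3_1, A3_2, A3_3, A3_4, A4_0, A4_1, A4_2, A4_3, A4_4, R0, R1, R2, R3, R4]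
        · skip
          have E0_1 : T.a (v 0) (v 1) = T.w (v 0) := nt_eq_of_dvd_lt (T.w_pos _) (T.w_dvd _ _) e0_1 (not_le.mp c0_1)
          have E1_0 : T.a (v 1) (v 0) = T.w (v 1) := nt_eq_of_dvd_lt (T.w_pos _) (T.w_dvd _ _) e1_0 (not_le.mp c1_0)
          have E1_2 : T.a (v 1) (v 2) = T.w (v 1) := nt_eq_of_dvd_lt (T.w_pos _) (T.w_dvd _ _) e1_2 L1_2
          have E2_1 : T.a (v 2) (v 1) = T.w (v 2) := nt_eq_of_dvd_lt (T.w_pos _) (T.w_dvd _ _) e2_1 L2_1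
          have E2_3 : T.a (v 2) (v 3) = T.w (v 2) := nt_eq_of_dvd_lt (T.w_pos _) (T.w_dvd _ _) e2_3 L2_3
          have E3_2 : T.a (v 3) (v 2) = T.w (v 3) := nt_eq_of_dvd_lt (T.w_pos _) (T.w_dvd _ _) e3_2 L3_2
          have E3_4 : T.a (v 3) (v 4) = T.w (v 3) := nt_eq_of_dvd_lt (T.w_pos _) (T.w_dvd _ _) e3_4 (not_le.mp c3_4)
          have E4_3 : T.a (v 4) (v 3) = T.w (v 4) := nt_eq_of_dvd_lt (T.w_pos _) (T.w_dvd _ _) e4_3 (not_le.mp c4_3)
          have W0 : T.w (v 0) = 1 * T.w (v 0) := by ring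
          have W1 : T.w (v 1) = 1 * T.w (v 0) := by linarith [S0_1, E0_1, E1_0, W0]
          have W2 : T.w (v 2) = 1 * T.w (v 0) := by linarith [S1_2, E1_2, E2_1, W1]
          have W3 : T.w (v 3) = 1 * T.w (v 0) := by linarith [S2_3, E2_3, E3_2, W2]
          have W4 : T.w (v 4) = 1 * T.w (v 0) := by linarith [S3_4, E3_4, E4_3, W3]
          have A0_0 : T.a (v 0) (v 0) = -2 * T.w (v 0) := by linarith [(hv 0).2, W0]
          have A0_1 : T.a (v 0) (v 1) = 1 * T.w (v 0) := by linarith [E0_1, W0]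
          have A0_2 : T.a (v 0) (v 2) = 0 * T.w (v 0) := by linarith [Z0_2]
          have A0_3 : T.a (v 0) (v 3) = 0 * T.w (v 0) := by linarith [Z0_3]
          have A0_4 : T.a (v 0) (v 4) = 0 * T.w (v 0) := by linarith [Z0_4]
          have A1_0 : T.a (v 1) (v 0) = 1 * T.w (v 0) := by linarith [E1_0, W1]
          have A1_1 : T.a (v 1) (v 1) = -2 * T.w (v 0) := by linarith [(hv 1).2, W1]
          have A1_2 : T.a (v 1) (v 2) = 1 * T.w (v 0) := by linarith [E1_2, W1]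
          have A1_3 : T.a (v 1) (v 3) = 0 * T.w (v 0) := by linarith [Z1_3]
          have A1_4 : T.a (v 1) (v 4) = 0 * T.w (v 0) := by linarith [Z1_4]
          have A2_0 : T.a (v 2) (v 0) = 0 * T.w (v 0) := by linarith [Z2_0]
          have A2_1 : T.a (v 2) (v 1) = 1 * T.w (v 0) := by linarith [E2_1, W2]
          have A2_2 : T.a (v 2) (v 2) = -2 * T.w (v 0) := by linarith [(hv 2).2, W2]
          have A2_3 : T.a (v 2) (v 3) = 1 * T.w (v 0) := by linarith [E2_3, W2]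
          have A2_4 : T.a (v 2) (v 4) = 0 * T.w (v 0) := by linarith [Z2_4]
          have A3_0 : T.a (v 3) (v 0) = 0 * T.w (v 0) := by linarith [Z3_0]
          have A3_1 : T.a (v 3) (v 1) = 0 * T.w (v 0) := by linarith [Z3_1]
          have A3_2 : T.a (v 3) (v 2) = 1 * T.w (v 0) := by linarith [E3_2, W3]
          have A3_3 : T.a (v 3) (v 3) = -2 * T.w (v 0) := by linarith [(hv 3).2, W3]
          have A3_4 : T.a (v 3) (v 4) = 1 * T.w (v 0) := by linarith [E3_4, W3]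
          have A4_0 : T.a (v 4) (v 0) = 0 * T.w (v 0) := by linarith [Z4_0]
          have A4_1 : T.a (v 4) (v 1) = 0 * T.w (v 0) := by linarith [Z4_1]
          have A4_2 : T.a (v 4) (v 2) = 0 * T.w (v 0) := by linarith [Z4_2]
          have A4_3 : T.a (v 4) (v 3) = 1 * T.w (v 0) := by linarith [E4_3, W4]
          have A4_4 : T.a (v 4) (v 4) = -2 * T.w (v 0) := by linarith [(hv 4).2, W4]
          have hW := T.w_pos (v 0)
          have R0 : 1 * T.m (v 1) ≤ 2 * T.m (v 0) := by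
            have r := nt_row_le T v 0
            simp only [Fin.sum_univ_five, A0_0, A0_1, A0_2, A0_3, A0_4] at r
            exact le_of_mul_le_mul_left (a := T.w (v 0)) (by linarith) hW
          have R1 : 1 * T.m (v 0) + 1 * T.m (v 2) ≤ 2 * T.m (v 1) := by
            have r := nt_row_le T v 1
            simp only [Fin.sum_univ_five, A1_0, A1_1, A1_2, A1_3, A1_4] at r
            exact le_of_mul_le_mul_left (a := T.w (v 0)) (by linarith) hW
          have R2 : 1 * T.m (v 1) + 1 * T.m (v 3) ≤ 2 * T.m (v 2) := by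
            have r := nt_row_le T v 2
            simp only [Fin.sum_univ_five, A2_0, A2_1, A2_2, A2_3, A2_4] at r
            exact le_of_mul_le_mul_left (a := T.w (v 0)) (by linarith) hW
          have R3 : 1 * T.m (v 2) + 1 * T.m (v 4) ≤ 2 * T.m (v 3) := by
            have r := nt_row_le T v 3
            simp only [Fin.sum_univ_five, A3_0, A3_1, A3_2, A3_3, A3_4] at r
            exact le_of_mul_le_mul_left (a := T.w (v 0)) (by linarith) hW
          have R4 : 1 * T.m (v 3) ≤ 2 * T.m (v 4) := by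
            have r := nt_row_le T v 4
            simp only [Fin.sum_univ_five, A4_0, A4_1, A4_2, A4_3, A4_4] at r
            exact le_of_mul_le_mul_left (a := T.w (v 0)) (by linarith) hW
          refine ⟨⟨Z0_2, Z0_3, Z0_4, Z1_3, Z1_4, Z2_4⟩, ⇑v, T.w (v 0), Or.inl (fun _ => rfl), Or.inl ?_⟩
          refine ⟨?_, ?_, ?_, ?_, ?_, ?_, ?_, ?_, ?_, ?_, ?_, ?_, ?_, ?_⟩ <;> linarith [W0, W1, W2, W3, W4, A0_0, A0_1, A0_2, A0_3, A0_4, A1_0, A1_1, A1_2, A1_3, A1_4, A2_0, A2_1, A2_2, A2_3, A2_4, A3_0, A3_1, A3_2, A3_3, A3_4, A4_0, A4_1, A4_2, A4_3, A4_4, R0, R1, R2, R3, R4]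

end Groth.Agent.S7353
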