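import Groth.Statements.S7354
import Mathlib
import Groth.Agent.Lib.helper4.NTChain


set_option autoImplicit false
open Finset
open Models Models.NumericalType

namespace Groth.Agent.S7354

open Groth.Agent.Lib.helper4

/-- Let T be a numerical type on n indices, t > 5 with n > t, and i_1, …, i_t distinct (-2)-indices with
a_{i_j i_{j+1}} nonzero for j = 1, …, t - 1. Then, after possibly reversing the order of the
indices, for some integer w either (A) w_{i_1} = … = w_{i_t} = w and a_{i_j i_{j+1}} = w for all j;
or (C) w_{i_1} = … = w_{i_{t-1}} = w, w_{i_t} = 2w, a_{i_j i_{j+1}} = w for j < t - 1 and a_{i_{t-1}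
i_t} = 2w; or (B) w_{i_1} = … = w_{i_{t-1}} = 2w, w_{i_t} = w and a_{i_j i_{j+1}} = 2w for all j;
and in every case a_{i_j i_k} = 0 whenever k > j + 1. -/
theorem result {n : ℕ} (T : Models.NumericalType n) (t : ℕ) (ht : 5 < t) (hn : t < n)
    (v : Fin t ↪ Fin n) (hv : ∀ j, T.IsMinusTwo (v j))
    (hchain : ∀ j j' : Fin t, j'.val = j.val + 1 → T.a (v j) (v j') ≠ 0) :
    ∃ (u : Fin t → Fin n) (w : ℤ), ((∀ j, u j = v j) ∨ (∀ j, u j = v (Fin.rev j))) ∧
      (∀ j k : Fin t, j.val + 1 < k.val → T.a (u j) (u k) = 0) ∧
      ((∀ j : Fin t, T.w (u j) = w) ∧ (∀ j j' : Fin t, j'.val = j.val + 1 → T.a (u j) (u j') = w) ∨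
        ((∀ j : Fin t, j.val + 1 < t → T.w (u j) = w) ∧ (∀ j : Fin t, j.val + 1 = t → T.w (u j) = 2 * w) ∧
          (∀ j j' : Fin t, j'.val = j.val + 1 → j'.val + 1 < t → T.a (u j) (u j') = w) ∧
          (∀ j j' : Fin t, j'.val = j.val + 1 → j'.val + 1 = t → T.a (u j) (u j') = 2 * w)) ∨
        ((∀ j : Fin t, j.val + 1 < t → T.w (u j) = 2 * w) ∧ (∀ j : Fin t, j.val + 1 = t → T.w (u j) = w) ∧
          (∀ j j' : Fin t, j'.val = j.val + 1 → T.a (u j) (u j') = 2 * w))) := by
  classical
  let W : ℕ → ℤ := fun j => if h : j < t then T.w (v ⟨j, h⟩) else 1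
  let E : ℕ → ℤ := fun j => if h : j + 1 < t then T.a (v ⟨j, by omega⟩) (v ⟨j + 1, h⟩) else 1
  have hW : ∀ j (hj : j < t), W j = T.w (v ⟨j, hj⟩) := fun j hj => by
    simp only [W]; rw [dif_pos hj]
  have hE : ∀ j (hj : j + 1 < t), E j = T.a (v ⟨j, by omega⟩) (v ⟨j + 1, hj⟩) := fun j hj => by
    simp only [E]; rw [dif_pos hj]
  have hWpos : ∀ j, j < t → 0 < W j := fun j hj => by rw [hW j hj]; exact T.w_pos _
  have hvne : ∀ j (hj : j + 1 < t), (v ⟨j, by omega⟩) ≠ (v ⟨j + 1, hj⟩) := fun j hj h => by
    have h1 := v.injective h
    have : j = j + 1 := congrArg Fin.val h1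
    omega
  have hEpos : ∀ j, j + 1 < t → 0 < E j := by
    intro j hj
    rw [hE j hj]
    exact lt_of_le_of_ne (T.offDiag_nonneg _ _ (hvne j hj)) (Ne.symm (hchain _ _ rfl))
  have hd1 : ∀ j, j + 1 < t → W j ∣ E j := by
    intro j hj; rw [hW j (by omega), hE j hj]; exact T.w_dvd _ _
  have hd2 : ∀ j, j + 1 < t → W (j + 1) ∣ E j := by
    intro j hj; rw [hW (j + 1) hj, hE j hj, nt_symm]; exact T.w_dvd _ _
  have hWE1 : ∀ j, j + 1 < t → W j ≤ E j := fun j hj => Int.le_of_dvd (hEpos j hj) (hd1 j hj)
  have hWE2 : ∀ j, j + 1 < t → W (j + 1) ≤ E j := fun j hj => Int.le_of_dvd (hEpos j hj) (hd2 j hj)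
  have two := nt_chain_two T v hn hv W E hW hE
  have three := nt_chain_three T v hn hv W E hW hE
  have five := nt_chain_five T v hn hv W E hW hE
  have interval := nt_chain_interval T v hn hv W E hW hE hWE1 hWE2
  -- Step 1: classification of the edges
  have hedge : ∀ j, j + 1 < t → (E j = W j ∧ E j = W (j + 1)) ∨
      (E j = 2 * W j ∧ E j = W (j + 1)) ∨ (E j = W j ∧ E j = 2 * W (j + 1)) := by
    intro j hj
    obtain ⟨p, hp⟩ := hd1 j hj
    obtain ⟨q, hq⟩ := hd2 j hj
    have hWj := hWpos j (by omega)
    have hWj1 := hWpos (j + 1) hj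
    have hEj := hEpos j hj
    have hp1 : 1 ≤ p := by
      by_contra h; push Not at h
      have : p ≤ 0 := by omega
      nlinarith
    have hq1 : 1 ≤ q := by
      by_contra h; push Not at h
      have : q ≤ 0 := by omega
      nlinarith
    have h22 : ¬ (2 ≤ p ∧ 2 ≤ q) := by
      rintro ⟨h1, h2⟩
      exact two j hj 2 2 1 1 (by norm_num) (by norm_num) (by norm_num) (by norm_num)
        (by nlinarith) (by nlinarith) (by norm_num) (by norm_num)
    have hp3 : p < 3 := by
      by_contra h; push Not at h
      have hA : 3 * W j ≤ E j := by nlinarith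
      by_cases hj2 : j + 2 < t
      · exact three j hj2 3 1 1 1 3 2 1 (by norm_num) (by norm_num) (by norm_num) (by norm_num)
          (by norm_num) (by norm_num) (by norm_num) hA (by linarith [hWE2 j hj])
          (by linarith [hWE1 (j + 1) hj2]) (by linarith [hWE2 (j + 1) hj2])
          (by norm_num) (by norm_num) (by norm_num)
      · obtain ⟨k, rfl⟩ : ∃ k, j = k + 1 := ⟨j - 1, by omega⟩
        exact three k hj 1 1 3 1 1 2 1 (by norm_num) (by norm_num) (by norm_num) (by norm_num)
          (by norm_num) (by norm_num) (by norm_num) (by linarith [hWE1 k (by omega)])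
          (by linarith [hWE2 k (by omega)]) hA (by linarith [hWE2 (k + 1) hj])
          (by norm_num) (by norm_num) (by norm_num)
    have hq3 : q < 3 := by
      by_contra h; push Not at h
      have hB : 3 * W (j + 1) ≤ E j := by nlinarith
      by_cases hj2 : j + 2 < t
      · exact three j hj2 1 3 1 1 1 2 1 (by norm_num) (by norm_num) (by norm_num) (by norm_num)
          (by norm_num) (by norm_num) (by norm_num) (by linarith [hWE1 j hj]) hB
          (by linarith [hWE1 (j + 1) hj2]) (by linarith [hWE2 (j + 1) hj2])
          (by norm_num) (by norm_num) (by norm_num)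
      · obtain ⟨k, rfl⟩ : ∃ k, j = k + 1 := ⟨j - 1, by omega⟩
        exact three k hj 1 1 1 3 1 2 3 (by norm_num) (by norm_num) (by norm_num) (by norm_num)
          (by norm_num) (by norm_num) (by norm_num) (by linarith [hWE1 k (by omega)])
          (by linarith [hWE2 k (by omega)]) (by linarith [hWE1 (k + 1) hj]) hB
          (by norm_num) (by norm_num) (by norm_num)
    have hp' : p = 1 ∨ p = 2 := by omega
    have hq' : q = 1 ∨ q = 2 := by omega
    rcases hp' with rfl | rfl <;> rcases hq' with rfl | rfl
    · left; exact ⟨by rw [hp]; ring, by rw [hq]; ring⟩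
    · right; right; exact ⟨by rw [hp]; ring, by rw [hq]; ring⟩
    · right; left; exact ⟨by rw [hp]; ring, by rw [hq]; ring⟩
    · exact absurd ⟨le_refl _, le_refl _⟩ h22
  -- Step 2: at most one non-simple edge, and only at an end
  have hns : ∀ j, j + 1 < t → ¬ (E j = W j ∧ E j = W (j + 1)) →
      (E j = 2 * W j ∧ E j = W (j + 1)) ∨ (E j = W j ∧ E j = 2 * W (j + 1)) := by
    intro j hj h
    rcases hedge j hj with h1 | h1 | h1
    · exact absurd h1 h
    · exact Or.inl h1
    · exact Or.inr h1
  have hpair : ∀ j j', j < j' → j' + 1 < t → ¬ (E j = W j ∧ E j = W (j + 1)) →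
      ¬ (E j' = W j' ∧ E j' = W (j' + 1)) → False := by
    intro j j' hjj' hj' h1 h2
    have hWa := hWpos j (by omega)
    have hWb := hWpos (j + 1) (by omega)
    have hWc := hWpos j' (by omega)
    have hWd := hWpos (j' + 1) (by omega)
    by_cases hadj : j' = j + 1
    · subst hadj
      rcases hns j (by omega) h1 with ⟨e1, e2⟩ | ⟨e1, e2⟩ <;>
        rcases hns (j + 1) hj' h2 with ⟨f1, f2⟩ | ⟨f1, f2⟩
      · exact three j hj' 2 1 2 1 2 2 1 (by norm_num) (by norm_num) (by norm_num) (by norm_num)
          (by norm_num) (by norm_num) (by norm_num) (by linarith) (by linarith) (by linarith)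
          (by linarith) (by norm_num) (by norm_num) (by norm_num)
      · exact three j hj' 2 1 1 2 1 1 1 (by norm_num) (by norm_num) (by norm_num) (by norm_num)
          (by norm_num) (by norm_num) (by norm_num) (by linarith) (by linarith) (by linarith)
          (by linarith) (by norm_num) (by norm_num) (by norm_num)
      · exact three j hj' 1 2 2 1 1 2 1 (by norm_num) (by norm_num) (by norm_num) (by norm_num)
          (by norm_num) (by norm_num) (by norm_num) (by linarith) (by linarith) (by linarith)
          (by linarith) (by norm_num) (by norm_num) (by norm_num)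
      · exact three j hj' 1 2 1 2 1 2 2 (by norm_num) (by norm_num) (by norm_num) (by norm_num)
          (by norm_num) (by norm_num) (by norm_num) (by linarith) (by linarith) (by linarith)
          (by linarith) (by norm_num) (by norm_num) (by norm_num)
    · have hsub : j' + 1 - 1 = j' := by omega
      rcases hns j (by omega) h1 with ⟨e1, e2⟩ | ⟨e1, e2⟩ <;>
        rcases hns j' hj' h2 with ⟨f1, f2⟩ | ⟨f1, f2⟩
      · exact interval j (j' + 1) (by omega) hj' 2 1 2 1 2 2 1 (by norm_num) (by norm_num)
          (by norm_num) (by norm_num) (by norm_num) (by norm_num) (by norm_num) (by linarith)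
          (by linarith) (by rw [hsub]; linarith) (by rw [hsub]; linarith) (by norm_num)
          (by norm_num) (by norm_num) (by norm_num)
      · exact interval j (j' + 1) (by omega) hj' 2 1 1 2 1 1 1 (by norm_num) (by norm_num)
          (by norm_num) (by norm_num) (by norm_num) (by norm_num) (by norm_num) (by linarith)
          (by linarith) (by rw [hsub]; linarith) (by rw [hsub]; linarith) (by norm_num)
          (by norm_num) (by norm_num) (by norm_num)
      · exact interval j (j' + 1) (by omega) hj' 1 2 2 1 1 2 1 (by norm_num) (by norm_num)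
          (by norm_num) (by norm_num) (by norm_num) (by norm_num) (by norm_num) (by linarith)
          (by linarith) (by rw [hsub]; linarith) (by rw [hsub]; linarith) (by norm_num)
          (by norm_num) (by norm_num) (by norm_num)
      · exact interval j (j' + 1) (by omega) hj' 1 2 1 2 1 2 2 (by norm_num) (by norm_num)
          (by norm_num) (by norm_num) (by norm_num) (by norm_num) (by norm_num) (by linarith)
          (by linarith) (by rw [hsub]; linarith) (by rw [hsub]; linarith) (by norm_num)
          (by norm_num) (by norm_num) (by norm_num)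
  have hmiddle : ∀ j, 1 ≤ j → j + 2 < t → ¬ (E j = W j ∧ E j = W (j + 1)) → False := by
    intro j hj1 hj2 h
    by_cases hA : 2 ≤ j
    · obtain ⟨k, rfl⟩ : ∃ k, j = k + 2 := ⟨j - 2, by omega⟩
      have b0 := hWE1 k (by omega)
      have b0' := hWE2 k (by omega)
      have b1 := hWE1 (k + 1) (by omega)
      have b1' := hWE2 (k + 1) (by omega)
      have b3 := hWE1 (k + 3) (by omega)
      have b3' := hWE2 (k + 3) (by omega)
      rcases hns (k + 2) (by omega) h with ⟨e1, e2⟩ | ⟨e1, e2⟩
      · exact five k (by omega) 1 1 1 1 2 1 1 1 1 2 3 2 1 (by norm_num) (by norm_num) (by norm_num)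
          (by norm_num) (by norm_num) (by norm_num) (by norm_num) (by norm_num) (by norm_num)
          (by norm_num) (by norm_num) (by norm_num) (by norm_num) (by linarith) (by linarith)
          (by linarith) (by linarith) (by linarith) (by linarith) (by linarith) (by linarith)
          (by norm_num) (by norm_num) (by norm_num) (by norm_num) (by norm_num)
      · exact five k (by omega) 1 1 1 1 1 2 1 1 1 2 3 4 2 (by norm_num) (by norm_num) (by norm_num)
          (by norm_num) (by norm_num) (by norm_num) (by norm_num) (by norm_num) (by norm_num)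
          (by norm_num) (by norm_num) (by norm_num) (by norm_num) (by linarith) (by linarith)
          (by linarith) (by linarith) (by linarith) (by linarith) (by linarith) (by linarith)
          (by norm_num) (by norm_num) (by norm_num) (by norm_num) (by norm_num)
    · obtain ⟨k, rfl⟩ : ∃ k, j = k + 1 := ⟨j - 1, by omega⟩
      have b0 := hWE1 k (by omega)
      have b0' := hWE2 k (by omega)
      have b2 := hWE1 (k + 2) (by omega)
      have b2' := hWE2 (k + 2) (by omega)
      have b3 := hWE1 (k + 3) (by omega)
      have b3' := hWE2 (k + 3) (by omega)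
      rcases hns (k + 1) (by omega) h with ⟨e1, e2⟩ | ⟨e1, e2⟩
      · exact five k (by omega) 1 1 2 1 1 1 1 1 2 4 3 2 1 (by norm_num) (by norm_num) (by norm_num)
          (by norm_num) (by norm_num) (by norm_num) (by norm_num) (by norm_num) (by norm_num)
          (by norm_num) (by norm_num) (by norm_num) (by norm_num) (by linarith) (by linarith)
          (by linarith) (by linarith) (by linarith) (by linarith) (by linarith) (by linarith)
          (by norm_num) (by norm_num) (by norm_num) (by norm_num) (by norm_num)
      · exact five k (by omega) 1 1 1 2 1 1 1 1 1 2 3 2 1 (by norm_num) (by norm_num) (by norm_num)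
          (by norm_num) (by norm_num) (by norm_num) (by norm_num) (by norm_num) (by norm_num)
          (by norm_num) (by norm_num) (by norm_num) (by norm_num) (by linarith) (by linarith)
          (by linarith) (by linarith) (by linarith) (by linarith) (by linarith) (by linarith)
          (by norm_num) (by norm_num) (by norm_num) (by norm_num) (by norm_num)
  -- Step 3: no further edges
  have hzero : ∀ j k : Fin t, j.val + 1 < k.val → T.a (v j) (v k) = 0 := by
    intro j k hjk
    by_contra hne
    let κ : Fin t → Fin t → ℤ := fun p q =>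
      if j.val ≤ p.val ∧ p.val ≤ k.val ∧ j.val ≤ q.val ∧ q.val ≤ k.val ∧
        (q.val = p.val + 1 ∨ p.val = q.val + 1 ∨ (p = j ∧ q = k) ∨ (p = k ∧ q = j)) then 1 else 0
    let c : Fin t → ℤ := fun p => if j.val ≤ p.val ∧ p.val ≤ k.val then 1 else 0
    have hκdef : ∀ p q, κ p q = if j.val ≤ p.val ∧ p.val ≤ k.val ∧ j.val ≤ q.val ∧ q.val ≤ k.val ∧
        (q.val = p.val + 1 ∨ p.val = q.val + 1 ∨ (p = j ∧ q = k) ∨ (p = k ∧ q = j)) then 1 else 0 :=
      fun p q => rfl
    have hcdef : ∀ p, c p = if j.val ≤ p.val ∧ p.val ≤ k.val then 1 else 0 := fun p => rfl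
    apply nt_no_affine T v hn hv κ ?_ c ?_ ?_ ?_
    · intro p q hpq hκne
      rw [hκdef] at hκne ⊢
      split_ifs at hκne ⊢ with h
      · rw [one_mul]
        apply nt_edge_ge T (fun h' => hpq (v.injective h'))
        obtain ⟨_, _, _, _, h5⟩ := h
        rcases h5 with h5 | h5 | ⟨rfl, rfl⟩ | ⟨rfl, rfl⟩
        · exact hchain p q h5
        · rw [nt_symm]; exact hchain q p h5
        · exact hne
        · rw [nt_symm]; exact hne
      · exact absurd rfl hκne
    · intro p
      rw [hcdef]
      split_ifs <;> norm_num
    · intro h
      have := congrFun h j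
      rw [hcdef, if_pos ⟨le_refl _, by omega⟩] at this
      exact one_ne_zero this
    · intro p hp
      have hpr : j.val ≤ p.val ∧ p.val ≤ k.val := by
        by_contra h
        rw [hcdef, if_neg h] at hp
        exact lt_irrefl _ hp
      have hcp : c p = 1 := by rw [hcdef, if_pos hpr]
      rw [hcp]
      have hterm : ∀ q ∈ Finset.univ.erase p, 0 ≤ κ p q * c q := by
        intro q _
        apply mul_nonneg
        · rw [hκdef]; split_ifs <;> norm_num
        · rw [hcdef]; split_ifs <;> norm_num
      obtain ⟨q1, q2, hq1, hq2, hq12, hk1, hk2⟩ : ∃ q1 q2 : Fin t, q1 ≠ p ∧ q2 ≠ p ∧ q1 ≠ q2 ∧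
          κ p q1 * c q1 = 1 ∧ κ p q2 * c q2 = 1 := by
        by_cases h1 : p = j
        · subst h1
          refine ⟨⟨p.val + 1, by omega⟩, k, ?_, ?_, ?_, ?_, ?_⟩
          · intro h
            have : p.val + 1 = p.val := congrArg Fin.val h
            omega
          · intro h
            have : k.val = p.val := congrArg Fin.val h
            omega
          · intro h
            have : p.val + 1 = k.val := congrArg Fin.val h
            omega
          · rw [hκdef, hcdef, if_pos ⟨le_refl _, by omega, by dsimp only; omega, by dsimp only; omega,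
              Or.inl rfl⟩, if_pos ⟨by dsimp only; omega, by dsimp only; omega⟩]
            norm_num
          · rw [hκdef, hcdef, if_pos ⟨le_refl _, by omega, by omega, le_refl _,
              Or.inr (Or.inr (Or.inl ⟨rfl, rfl⟩))⟩, if_pos ⟨by omega, le_refl _⟩]
            norm_num
        · by_cases h2 : p = k
          · subst h2
            refine ⟨⟨p.val - 1, by omega⟩, j, ?_, ?_, ?_, ?_, ?_⟩
            · intro h
              have : p.val - 1 = p.val := congrArg Fin.val h
              omega
            · intro h
              have : j.val = p.val := congrArg Fin.val h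
              omega
            · intro h
              have : p.val - 1 = j.val := congrArg Fin.val h
              omega
            · rw [hκdef, hcdef, if_pos ⟨by omega, le_refl _, by dsimp only; omega,
                by dsimp only; omega, Or.inr (Or.inl (by dsimp only; omega))⟩,
                if_pos ⟨by dsimp only; omega, by dsimp only; omega⟩]
              norm_num
            · rw [hκdef, hcdef, if_pos ⟨by omega, le_refl _, le_refl _, by omega,
                Or.inr (Or.inr (Or.inr ⟨rfl, rfl⟩))⟩, if_pos ⟨le_refl _, by omega⟩]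
              norm_num
          · have hpj : p.val ≠ j.val := fun h => h1 (Fin.ext h)
            have hpk : p.val ≠ k.val := fun h => h2 (Fin.ext h)
            refine ⟨⟨p.val - 1, by omega⟩, ⟨p.val + 1, by omega⟩, ?_, ?_, ?_, ?_, ?_⟩
            · intro h
              have : p.val - 1 = p.val := congrArg Fin.val h
              omega
            · intro h
              have : p.val + 1 = p.val := congrArg Fin.val h
              omega
            · intro h
              have : p.val - 1 = p.val + 1 := congrArg Fin.val h
              omega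
            · rw [hκdef, hcdef, if_pos ⟨hpr.1, hpr.2, by dsimp only; omega, by dsimp only; omega,
                Or.inr (Or.inl (by dsimp only; omega))⟩,
                if_pos ⟨by dsimp only; omega, by dsimp only; omega⟩]
              norm_num
            · rw [hκdef, hcdef, if_pos ⟨hpr.1, hpr.2, by dsimp only; omega, by dsimp only; omega,
                Or.inl rfl⟩, if_pos ⟨by dsimp only; omega, by dsimp only; omega⟩]
              norm_num
      have := h4_sum_ge_two (Finset.univ.erase p) (fun q => κ p q * c q) hterm
        (Finset.mem_erase.mpr ⟨hq1, Finset.mem_univ _⟩)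
        (Finset.mem_erase.mpr ⟨hq2, Finset.mem_univ _⟩) hq12
      simp only [hk1, hk2] at this
      linarith
  -- Step 4: assembling
  have hconst : ∀ lo hi, hi < t → (∀ i, lo ≤ i → i < hi → (E i = W i ∧ E i = W (i + 1))) →
      ∀ i, lo ≤ i → i ≤ hi → W i = W lo := by
    intro lo hi hhi hs i h1
    induction i, h1 using Nat.le_induction with
    | base => intro _; rfl
    | succ i hi' ih =>
      intro h2
      have h3 := hs i hi' (by omega)
      rw [← h3.2, h3.1]
      exact ih (by omega)
  have hwv : ∀ p : Fin t, T.w (v p) = W p.val := fun p => (hW p.val p.isLt).symm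
  have hav : ∀ p q : Fin t, q.val = p.val + 1 → T.a (v p) (v q) = E p.val := by
    intro p q h
    have hq : q = ⟨p.val + 1, by omega⟩ := Fin.ext h
    rw [hq]
    exact (hE p.val (by omega)).symm
  have hav' : ∀ p q : Fin t, p.val = q.val + 1 → T.a (v p) (v q) = E q.val := by
    intro p q h
    rw [nt_symm]
    exact hav q p h
  by_cases hall : ∀ j, j + 1 < t → (E j = W j ∧ E j = W (j + 1))
  · have hc := hconst 0 (t - 1) (by omega) (fun i _ hi => hall i (by omega))
    refine ⟨fun j => v j, W 0, Or.inl (fun j => rfl), hzero, Or.inl ⟨?_, ?_⟩⟩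
    · intro j
      rw [hwv]
      exact hc j.val (Nat.zero_le _) (by omega)
    · intro j j' hjj'
      rw [hav j j' hjj', (hall j.val (by omega)).1]
      exact hc j.val (Nat.zero_le _) (by omega)
  · simp only [not_forall] at hall
    obtain ⟨j0, hj0, hns0⟩ := hall
    have hothers : ∀ j, j + 1 < t → j ≠ j0 → (E j = W j ∧ E j = W (j + 1)) := by
      intro j hj hne
      by_contra h
      rcases lt_or_gt_of_ne hne with h' | h'
      · exact hpair j j0 h' hj0 h hns0
      · exact hpair j0 j h' hj hns0 h
    have hend : j0 = 0 ∨ j0 + 2 = t := by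
      by_contra h
      push Not at h
      exact hmiddle j0 (by omega) (by omega) hns0
    rcases hend with rfl | hend
    · -- the non-simple edge is the first one: reverse the chain
      have hc := hconst 1 (t - 1) (by omega) (fun i h1 hi => hothers i (by omega) (by omega))
      have hrev : ∀ j : Fin t, (Fin.rev j).val = t - (j.val + 1) := fun j => Fin.val_rev j
      have hzero' : ∀ j k : Fin t, j.val + 1 < k.val →
          T.a (v (Fin.rev j)) (v (Fin.rev k)) = 0 := by
        intro j k hjk
        rw [nt_symm]
        apply hzero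
        rw [hrev, hrev]
        omega
      rcases hns 0 hj0 hns0 with ⟨e1, e2⟩ | ⟨e1, e2⟩
      · refine ⟨fun j => v (Fin.rev j), W 0, Or.inr (fun j => rfl), hzero',
          Or.inr (Or.inr ⟨?_, ?_, ?_⟩)⟩
        · intro j hj
          rw [hwv, hc _ (by rw [hrev]; omega) (by rw [hrev]; omega)]
          linarith
        · intro j hj
          rw [hwv]
          have : (Fin.rev j).val = 0 := by rw [hrev]; omega
          rw [this]
        · intro j j' hjj'
          rw [hav' _ _ (by rw [hrev, hrev]; omega)]
          by_cases hr : (Fin.rev j').val = 0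
          · rw [hr]; exact e1
          · have h1 := hothers (Fin.rev j').val (by rw [hrev]; omega) hr
            rw [h1.1, hc _ (by omega) (by rw [hrev]; omega)]
            linarith
      · refine ⟨fun j => v (Fin.rev j), W 1, Or.inr (fun j => rfl), hzero',
          Or.inr (Or.inl ⟨?_, ?_, ?_, ?_⟩)⟩
        · intro j hj
          rw [hwv, hc _ (by rw [hrev]; omega) (by rw [hrev]; omega)]
        · intro j hj
          rw [hwv]
          have : (Fin.rev j).val = 0 := by rw [hrev]; omega
          rw [this]
          linarith
        · intro j j' hjj' hj'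
          rw [hav' _ _ (by rw [hrev, hrev]; omega)]
          have hr : (Fin.rev j').val ≠ 0 := by rw [hrev]; omega
          have h1 := hothers (Fin.rev j').val (by rw [hrev]; omega) hr
          rw [h1.1, hc _ (by omega) (by rw [hrev]; omega)]
        · intro j j' hjj' hj'
          rw [hav' _ _ (by rw [hrev, hrev]; omega)]
          have hr : (Fin.rev j').val = 0 := by rw [hrev]; omega
          rw [hr]
          exact e2
    · -- the non-simple edge is the last one
      have hc := hconst 0 j0 (by omega) (fun i _ hi => hothers i (by omega) (by omega))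
      rcases hns j0 hj0 hns0 with ⟨e1, e2⟩ | ⟨e1, e2⟩
      · refine ⟨fun j => v j, W 0, Or.inl (fun j => rfl), hzero,
          Or.inr (Or.inl ⟨?_, ?_, ?_, ?_⟩)⟩
        · intro j hj
          rw [hwv]
          exact hc j.val (Nat.zero_le _) (by omega)
        · intro j hj
          rw [hwv]
          have : j.val = j0 + 1 := by omega
          rw [this, ← e2, e1, hc j0 (Nat.zero_le _) (le_refl _)]
        · intro j j' hjj' hj'
          rw [hav j j' hjj', (hothers j.val (by omega) (by omega)).1]
          exact hc j.val (Nat.zero_le _) (by omega)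
        · intro j j' hjj' hj'
          rw [hav j j' hjj']
          have : j.val = j0 := by omega
          rw [this, e1, hc j0 (Nat.zero_le _) (le_refl _)]
      · refine ⟨fun j => v j, W (j0 + 1), Or.inl (fun j => rfl), hzero,
          Or.inr (Or.inr ⟨?_, ?_, ?_⟩)⟩
        · intro j hj
          rw [hwv, hc j.val (Nat.zero_le _) (by omega), ← hc j0 (Nat.zero_le _) (le_refl _), ← e1, e2]
        · intro j hj
          rw [hwv]
          have : j.val = j0 + 1 := by omega
          rw [this]
        · intro j j' hjj'
          rw [hav j j' hjj']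
          by_cases hj : j.val = j0
          · rw [hj]; exact e2
          · rw [(hothers j.val (by omega) hj).1, hc j.val (Nat.zero_le _) (by omega),
              ← hc j0 (Nat.zero_le _) (le_refl _), ← e1, e2]

end Groth.Agent.S7354
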