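import Groth.Statements.S7355
import Mathlib
import Groth.Agent.Lib.helper4.NTFork


set_option autoImplicit false
open Finset
open Models Models.NumericalType

namespace Groth.Agent.S7355

open Groth.Agent.Lib.helper4

/-- Classification of proper subgraphs of type D: let T be a numerical type on n indices, t > 4 with n >
t + 1, and i_1, …, i_{t+1} distinct (-2)-indices such that a_{i_j i_{j+1}} is nonzero for j = 1, …,
t - 1 and a_{i_{t-1} i_{t+1}} is nonzero. Then for some integer w one has w_{i_1} = … = w_{i_{t+1}}
= w, a_{i_j i_{j+1}} = w for j < t, a_{i_{t-1} i_{t+1}} = w, and a_{i_j i_k} = 0 for all other pairs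
j ≠ k. -/
theorem result {n : ℕ} (T : Models.NumericalType n) (t : ℕ) (ht : 4 < t) (hn : t + 1 < n)
    (v : Fin (t + 1) ↪ Fin n) (hv : ∀ j, T.IsMinusTwo (v j))
    (hchain : ∀ j j' : Fin (t + 1), j'.val = j.val + 1 → j'.val < t → T.a (v j) (v j') ≠ 0)
    (hbranch : ∀ j j' : Fin (t + 1), j.val + 2 = t → j'.val = t → T.a (v j) (v j') ≠ 0) :
    ∃ w : ℤ, (∀ j : Fin (t + 1), T.w (v j) = w) ∧
      (∀ j j' : Fin (t + 1), j'.val = j.val + 1 → j'.val < t → T.a (v j) (v j') = w) ∧
      (∀ j j' : Fin (t + 1), j.val + 2 = t → j'.val = t → T.a (v j) (v j') = w) ∧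
      (∀ j k : Fin (t + 1), j.val < k.val → ¬ (k.val = j.val + 1 ∧ k.val < t) → ¬ (j.val + 2 = t ∧ k.val = t) →
        T.a (v j) (v k) = 0) := by
  classical
  have hadj : ∀ p q : Fin (t + 1), ntForkAdj t p q → T.a (v p) (v q) ≠ 0 := by
    rintro p q (⟨h1, h2⟩ | ⟨h1, h2⟩)
    · exact hchain p q h1 h2
    · exact hbranch p q h1 h2
  -- the two chains
  let C1 : Fin t ↪ Fin n := ⟨fun j => v (Fin.castSucc j), fun a b h => by
    have := v.injective h
    exact Fin.castSucc_injective _ this⟩
  let f2 : Fin t → Fin (t + 1) := fun j => if j.val + 1 = t then Fin.last t else Fin.castSucc j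
  have hf2val : ∀ j : Fin t, (f2 j).val = if j.val + 1 = t then t else j.val := by
    intro j
    simp only [f2]
    split_ifs <;> simp
  have hf2inj : Function.Injective f2 := by
    intro a b h
    have h1 := congrArg Fin.val h
    rw [hf2val, hf2val] at h1
    apply Fin.ext
    split_ifs at h1 with h2 h3 h3 <;> omega
  let C2 : Fin t ↪ Fin n := ⟨fun j => v (f2 j), fun a b h => hf2inj (v.injective h)⟩
  have hC1 : ∀ j : Fin t, C1 j = v (Fin.castSucc j) := fun j => rfl
  have hC2 : ∀ j : Fin t, C2 j = v (f2 j) := fun j => rfl
  have hch1 : ∀ j j' : Fin t, j'.val = j.val + 1 → T.a (C1 j) (C1 j') ≠ 0 := by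
    intro j j' h
    rw [hC1, hC1]
    exact hchain _ _ (by simpa using h) (by simp)
  have hch2 : ∀ j j' : Fin t, j'.val = j.val + 1 → T.a (C2 j) (C2 j') ≠ 0 := by
    intro j j' h
    rw [hC2, hC2]
    apply hadj
    by_cases hj' : j'.val + 1 = t
    · right
      rw [hf2val, hf2val, if_pos hj', if_neg (by omega)]
      exact ⟨by omega, rfl⟩
    · left
      rw [hf2val, hf2val, if_neg hj', if_neg (by omega)]
      exact ⟨h, by omega⟩
  obtain ⟨zero1, edge1⟩ := nt_chain_struct T t (by omega) (by omega) C1 (fun j => hv _) hch1
  obtain ⟨zero2, edge2⟩ := nt_chain_struct T t (by omega) (by omega) C2 (fun j => hv _) hch2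
  have middle1 := nt_chain_middle T t (by omega) (by omega) C1 (fun j => hv _) hch1
  -- helper: elements of `Fin (t + 1)` below `t` come from `Fin t`
  have hcast : ∀ p : Fin (t + 1), ∀ hp : p.val < t, Fin.castSucc (⟨p.val, hp⟩ : Fin t) = p :=
    fun p hp => Fin.ext rfl
  -- (A) all the edges of the tree are simple
  have hstem : ∀ p q : Fin (t + 1), q.val = p.val + 1 → q.val < t →
      T.a (v p) (v q) = T.w (v p) ∧ T.a (v p) (v q) = T.w (v q) := by
    intro p q hpq hq
    have hp : p.val < t := by omega
    have e := edge1 ⟨p.val, hp⟩ ⟨q.val, hq⟩ hpq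
    rw [hC1, hC1, hcast p hp, hcast q hq] at e
    by_cases hp0 : p.val = 0
    · rcases e with e | ⟨e1, e2⟩ | ⟨e1, e2⟩
      · exact e
      · exfalso
        refine nt_fork_long T t (by omega) hn v hv hadj 2 1 2 (by norm_num) (by norm_num)
          (by norm_num) ?_ ?_ (by norm_num) (by norm_num)
        · intro p' q' hp' hq'
          have : p' = p := Fin.ext (by omega)
          have : q' = q := Fin.ext (by omega)
          subst_vars
          linarith
        · intro p' q' hp' hq'
          have : p' = p := Fin.ext (by omega)
          have : q' = q := Fin.ext (by omega)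
          subst_vars
          linarith
      · exfalso
        refine nt_fork_long T t (by omega) hn v hv hadj 1 2 1 (by norm_num) (by norm_num)
          (by norm_num) ?_ ?_ (by norm_num) (by norm_num)
        · intro p' q' hp' hq'
          have : p' = p := Fin.ext (by omega)
          have : q' = q := Fin.ext (by omega)
          subst_vars
          linarith
        · intro p' q' hp' hq'
          have : p' = p := Fin.ext (by omega)
          have : q' = q := Fin.ext (by omega)
          subst_vars
          linarith
    · by_cases hq2 : q.val + 1 < t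
      · have m := middle1 ⟨p.val, hp⟩ ⟨q.val, hq⟩ hpq (by dsimp only; omega) (by dsimp only; omega)
          (by dsimp only; omega)
        rw [hC1, hC1, hcast p hp, hcast q hq] at m
        exact m
      · -- the edge from the branch vertex to the leaf `t - 1`
        have hq' : q.val + 1 = t := by omega
        rcases e with e | ⟨e1, e2⟩ | ⟨e1, e2⟩
        · exact e
        · exfalso
          refine nt_fork_star T t (by omega) hn v hv hadj q (Fin.last t) (Or.inl ⟨hq', rfl⟩)
            2 1 1 (by norm_num) (by norm_num) (by norm_num) ?_ ?_ (by norm_num) (by norm_num)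
          · intro p' hp'
            have : p' = p := Fin.ext (by omega)
            subst this
            linarith
          · intro p' hp'
            have : p' = p := Fin.ext (by omega)
            subst this
            linarith
        · exfalso
          refine nt_fork_star T t (by omega) hn v hv hadj q (Fin.last t) (Or.inl ⟨hq', rfl⟩)
            1 2 2 (by norm_num) (by norm_num) (by norm_num) ?_ ?_ (by norm_num) (by norm_num)
          · intro p' hp'
            have : p' = p := Fin.ext (by omega)
            subst this
            linarith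
          · intro p' hp'
            have : p' = p := Fin.ext (by omega)
            subst this
            linarith
  have hleaf : ∀ p q : Fin (t + 1), p.val + 2 = t → q.val = t →
      T.a (v p) (v q) = T.w (v p) ∧ T.a (v p) (v q) = T.w (v q) := by
    intro p q hp hq
    have e := edge2 ⟨t - 2, by omega⟩ ⟨t - 1, by omega⟩ (by dsimp only; omega)
    have h1 : f2 ⟨t - 2, by omega⟩ = p := by
      apply Fin.ext
      rw [hf2val, if_neg (by dsimp only; omega)]
      dsimp only; omega
    have h2 : f2 ⟨t - 1, by omega⟩ = q := by
      apply Fin.ext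
      rw [hf2val, if_pos (by dsimp only; omega)]
      omega
    rw [hC2, hC2, h1, h2] at e
    rcases e with e | ⟨e1, e2⟩ | ⟨e1, e2⟩
    · exact e
    · exfalso
      refine nt_fork_star T t (by omega) hn v hv hadj q ⟨t - 1, by omega⟩
        (Or.inr ⟨hq, by dsimp only; omega⟩)
        2 1 1 (by norm_num) (by norm_num) (by norm_num) ?_ ?_ (by norm_num) (by norm_num)
      · intro p' hp'
        have : p' = p := Fin.ext (by omega)
        subst this
        linarith
      · intro p' hp'
        have : p' = p := Fin.ext (by omega)
        subst this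
        linarith
    · exfalso
      refine nt_fork_star T t (by omega) hn v hv hadj q ⟨t - 1, by omega⟩
        (Or.inr ⟨hq, by dsimp only; omega⟩)
        1 2 2 (by norm_num) (by norm_num) (by norm_num) ?_ ?_ (by norm_num) (by norm_num)
      · intro p' hp'
        have : p' = p := Fin.ext (by omega)
        subst this
        linarith
      · intro p' hp'
        have : p' = p := Fin.ext (by omega)
        subst this
        linarith
  -- (B) the other pairs
  have hzero : ∀ j k : Fin (t + 1), j.val < k.val → ¬ (k.val = j.val + 1 ∧ k.val < t) →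
      ¬ (j.val + 2 = t ∧ k.val = t) → T.a (v j) (v k) = 0 := by
    intro j k hjk h1 h2
    by_cases hk : k.val < t
    · have hj : j.val < t := by omega
      have z := zero1 ⟨j.val, hj⟩ ⟨k.val, hk⟩ (by dsimp only; omega)
      rw [hC1, hC1, hcast j hj, hcast k hk] at z
      exact z
    · have hk' : k.val = t := by omega
      by_cases hj : j.val + 1 = t
      · -- the pair of the two leaves
        by_contra hne
        have hch3 : ∀ a b : Fin (t + 1), b.val = a.val + 1 → T.a (v a) (v b) ≠ 0 := by
          intro a b hab
          by_cases hb : b.val < t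
          · exact hchain a b hab hb
          · have ha : a = j := Fin.ext (by omega)
            have hb' : b = k := Fin.ext (by omega)
            rw [ha, hb']
            exact hne
        obtain ⟨zero3, -⟩ := nt_chain_struct T (t + 1) (by omega) hn v hv hch3
        exact hbranch ⟨t - 2, by omega⟩ k (by dsimp only; omega) hk'
          (zero3 ⟨t - 2, by omega⟩ k (by dsimp only; omega))
      · have hj' : j.val + 2 < t := by omega
        have z := zero2 ⟨j.val, by omega⟩ ⟨t - 1, by omega⟩ (by dsimp only; omega)
        have e1 : f2 ⟨j.val, by omega⟩ = j := by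
          apply Fin.ext
          rw [hf2val, if_neg (by dsimp only; omega)]
        have e2 : f2 ⟨t - 1, by omega⟩ = k := by
          apply Fin.ext
          rw [hf2val, if_pos (by dsimp only; omega)]
          omega
        rw [hC2, hC2, e1, e2] at z
        exact z
  -- (C) all the `w` are equal
  have hw : ∀ m : ℕ, ∀ p : Fin (t + 1), p.val = m → m < t → T.w (v p) = T.w (v 0) := by
    intro m
    induction m with
    | zero =>
      intro p hp _
      have : p = 0 := Fin.ext (by simpa using hp)
      rw [this]
    | succ m ih =>
      intro p hp hm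
      have h := hstem ⟨m, by omega⟩ p (by dsimp only; omega) (by omega)
      rw [← h.2, h.1]
      exact ih ⟨m, by omega⟩ rfl (by omega)
  have hw' : ∀ p : Fin (t + 1), T.w (v p) = T.w (v 0) := by
    intro p
    by_cases hp : p.val < t
    · exact hw p.val p rfl hp
    · have h := hleaf ⟨t - 2, by omega⟩ p (by dsimp only; omega) (by omega)
      rw [← h.2, h.1]
      exact hw (t - 2) ⟨t - 2, by omega⟩ rfl (by omega)
  refine ⟨T.w (v 0), hw', ?_, ?_, hzero⟩
  · intro j j' h1 h2
    rw [(hstem j j' h1 h2).1]
    exact hw' j
  · intro j j' h1 h2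
    rw [(hleaf j j' h1 h2).1]
    exact hw' j

end Groth.Agent.S7355
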