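import Groth.Statements.S7362
import Mathlib
import Groth.Agent.Lib.helper4.NumType3
import Groth.Agent.S7316
import Groth.Agent.S7317


set_option autoImplicit false
open Finset
open Models Models.NumericalType

namespace Groth.Agent.S7362

open Groth.Agent.Lib.helper4

/-- Genus one classification: case n = 2: let T be a minimal numerical type of genus 1 on two indices.
Then for some ordering i, j of the indices and some integers m, w, either m_i = m_j = m, a_ii = a_jj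
= -2w, a_ij = 2w, w_i = w_j = w, g_i = g_j = 0; or m_i = 2m, m_j = m, a_ii = -2w, a_ij = 4w, a_jj =
-8w, w_i = w, w_j = 4w, g_i = g_j = 0. Only the classification direction is stated. -/
theorem result (T : Models.NumericalType 2) (hmin : T.IsMinimal) (hg : T.genus = 1) :
    ∃ (i j : Fin 2) (m w : ℤ), i ≠ j ∧ T.g i = 0 ∧ T.g j = 0 ∧
      ((T.m i = m ∧ T.m j = m ∧ T.a i i = -2 * w ∧ T.a i j = 2 * w ∧ T.a j j = -2 * w ∧ T.w i = w ∧ T.w j = w) ∨
        (T.m i = 2 * m ∧ T.m j = m ∧ T.a i i = -2 * w ∧ T.a i j = 4 * w ∧ T.a j j = -8 * w ∧ T.w i = w ∧ T.w j = 4 * w)) := by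
  have hn : 1 < 2 := by norm_num
  have hnn : ∀ i, 0 ≤ T.m i * (2 * T.w i * (T.g i - 1) - T.a i i) := by
    intro i
    by_contra h
    push Not at h
    exact hmin i (Groth.Agent.S7316.result T hn i h)
  have hg' := hg
  unfold Models.NumericalType.genus at hg'
  rw [Fin.sum_univ_two, Fin.sum_univ_two] at hg'
  have h0 := hnn 0
  have h1 := hnn 1
  have hdiv := Int.ediv_mul_le (T.m 0 * T.a 0 0 + T.m 1 * T.a 1 1) (by norm_num : (2:ℤ) ≠ 0)
  have e0 : T.m 0 * (2 * T.w 0 * (T.g 0 - 1) - T.a 0 0) = 0 := by nlinarith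
  have e1 : T.m 1 * (2 * T.w 1 * (T.g 1 - 1) - T.a 1 1) = 0 := by nlinarith
  have M0 := Groth.Agent.S7317.result T hn 0 e0
  have M1 := Groth.Agent.S7317.result T hn 1 e1
  have r0 := nt_row T 0
  have r1 := nt_row T 1
  rw [Fin.sum_univ_two] at r0 r1
  have hs : T.a 1 0 = T.a 0 1 := nt_symm T 1 0
  obtain ⟨p, hp⟩ := T.w_dvd 0 1
  obtain ⟨q, hq⟩ := T.w_dvd 1 0
  have hw0 := T.w_pos 0
  have hw1 := T.w_pos 1
  have hm0 := T.m_pos 0
  have hm1 := T.m_pos 1
  rw [M0.2, hp] at r0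
  rw [M1.2, hq] at r1
  have k0 : p * T.m 1 = 2 * T.m 0 := by
    have h : T.w 0 * (p * T.m 1 - 2 * T.m 0) = 0 := by linarith
    rcases mul_eq_zero.mp h with h | h
    · exact absurd h hw0.ne'
    · linarith
  have k1 : q * T.m 0 = 2 * T.m 1 := by
    have h : T.w 1 * (q * T.m 0 - 2 * T.m 1) = 0 := by linarith
    rcases mul_eq_zero.mp h with h | h
    · exact absurd h hw1.ne'
    · linarith
  have hpq : p * q = 4 := by
    have h : p * q * (T.m 0 * T.m 1) = 4 * (T.m 0 * T.m 1) := by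
      calc p * q * (T.m 0 * T.m 1) = (p * T.m 1) * (q * T.m 0) := by ring
        _ = (2 * T.m 0) * (2 * T.m 1) := by rw [k0, k1]
        _ = 4 * (T.m 0 * T.m 1) := by ring
    exact mul_right_cancel₀ (ne_of_gt (mul_pos hm0 hm1)) h
  have hp0 : 0 < p := by
    by_contra h
    push Not at h
    nlinarith
  have hq0 : 0 < q := by
    by_contra h
    push Not at h
    nlinarith
  have hp4 : p ≤ 4 := by nlinarith
  have h01 : (0 : Fin 2) ≠ 1 := by decide
  have A00 : T.a 0 0 = -2 * T.w 0 := M0.2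
  have A11 : T.a 1 1 = -2 * T.w 1 := M1.2
  have h10 : (1 : Fin 2) ≠ 0 := by decide
  interval_cases p
  · have hq4 : q = 4 := by omega
    subst hq4
    refine ⟨1, 0, T.m 0, T.w 1, h10, M1.1, M0.1, Or.inr ⟨?_, ?_, ?_, ?_, ?_, ?_, ?_⟩⟩ <;> linarith
  · have hq2 : q = 2 := by omega
    subst hq2
    refine ⟨0, 1, T.m 0, T.w 0, h01, M0.1, M1.1, Or.inl ⟨?_, ?_, ?_, ?_, ?_, ?_, ?_⟩⟩ <;> linarith
  · omega
  · have hq1 : q = 1 := by omega
    subst hq1
    refine ⟨0, 1, T.m 1, T.w 0, h01, M0.1, M1.1, Or.inr ⟨?_, ?_, ?_, ?_, ?_, ?_, ?_⟩⟩ <;> linarith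

end Groth.Agent.S7362
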