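import Groth.Statements.S7363
import Mathlib
import Groth.Agent.Lib.helper4.NumType4


set_option autoImplicit false
open Finset
open Models Models.NumericalType

namespace Groth.Agent.S7363

open Groth.Agent.Lib.helper4

set_option maxHeartbeats 0 in
/-- Genus one classification: case n = 3: let T be a minimal numerical type of genus 1 on three indices.
Then all g = 0 and, for some ordering i, j, k of the indices and some integers m, w, the data (m; a;
w) is one of: (m,m,m; a_ii = a_jj = a_kk = -2w, a_ij = a_ik = a_jk = w; w,w,w); (m,2m,m; a_ii = -2w,
a_ij = w, a_ik = 0, a_jj = -2w, a_jk = 3w, a_kk = -6w; w,w,3w); (m,2m,3m; a_ii = -6w, a_ij = 3w,
a_ik = 0, a_jj = -6w, a_jk = 3w, a_kk = -2w; 3w,3w,w); (2m,2m,m; a_ii = -2w, a_ij = 2w, a_ik = 0,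
a_jj = -4w, a_jk = 4w, a_kk = -8w; w,2w,4w); (m,m,m; a_ii = -2w, a_ij = 2w, a_ik = 0, a_jj = -4w,
a_jk = 2w, a_kk = -2w; w,2w,w); (m,2m,m; a_ii = -4w, a_ij = 2w, a_ik = 0, a_jj = -2w, a_jk = 2w,
a_kk = -4w; 2w,w,2w). Only the classification direction is stated. -/
theorem result (T : Models.NumericalType 3) (hmin : T.IsMinimal) (hg : T.genus = 1) :
    ∃ (i j k : Fin 3) (m w : ℤ), i ≠ j ∧ j ≠ k ∧ i ≠ k ∧ T.g i = 0 ∧ T.g j = 0 ∧ T.g k = 0 ∧
      ((T.m i = m ∧ T.m j = m ∧ T.m k = m ∧ T.a i i = -2 * w ∧ T.a j j = -2 * w ∧ T.a k k = -2 * w ∧
          T.a i j = w ∧ T.a i k = w ∧ T.a j k = w ∧ T.w i = w ∧ T.w j = w ∧ T.w k = w) ∨
        (T.m i = m ∧ T.m j = 2 * m ∧ T.m k = m ∧ T.a i i = -2 * w ∧ T.a i j = w ∧ T.a i k = 0 ∧ T.a j j = -2 * w ∧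
          T.a j k = 3 * w ∧ T.a k k = -6 * w ∧ T.w i = w ∧ T.w j = w ∧ T.w k = 3 * w) ∨
        (T.m i = m ∧ T.m j = 2 * m ∧ T.m k = 3 * m ∧ T.a i i = -6 * w ∧ T.a i j = 3 * w ∧ T.a i k = 0 ∧ T.a j j = -6 * w ∧
          T.a j k = 3 * w ∧ T.a k k = -2 * w ∧ T.w i = 3 * w ∧ T.w j = 3 * w ∧ T.w k = w) ∨
        (T.m i = 2 * m ∧ T.m j = 2 * m ∧ T.m k = m ∧ T.a i i = -2 * w ∧ T.a i j = 2 * w ∧ T.a i k = 0 ∧ T.a j j = -4 * w ∧
          T.a j k = 4 * w ∧ T.a k k = -8 * w ∧ T.w i = w ∧ T.w j = 2 * w ∧ T.w k = 4 * w) ∨
        (T.m i = m ∧ T.m j = m ∧ T.m k = m ∧ T.a i i = -2 * w ∧ T.a i j = 2 * w ∧ T.a i k = 0 ∧ T.a j j = -4 * w ∧
          T.a j k = 2 * w ∧ T.a k k = -2 * w ∧ T.w i = w ∧ T.w j = 2 * w ∧ T.w k = w) ∨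
        (T.m i = m ∧ T.m j = 2 * m ∧ T.m k = m ∧ T.a i i = -4 * w ∧ T.a i j = 2 * w ∧ T.a i k = 0 ∧ T.a j j = -2 * w ∧
          T.a j k = 2 * w ∧ T.a k k = -4 * w ∧ T.w i = 2 * w ∧ T.w j = w ∧ T.w k = 2 * w)) := by
  have hn : 1 < 3 := by norm_num
  have hall := nt_all_minusTwo T hn hmin hg
  obtain ⟨P, hP, hdiag, hbd, hrow, hsym⟩ := nt_cartan T hall
  have G : ∀ i, T.g i = 0 := fun i => (hall i).1
  have hm0 := T.m_pos 0
  have hm1 := T.m_pos 1
  have hm2 := T.m_pos 2
  have hw0 := T.w_pos 0
  have hw1 := T.w_pos 1
  have hw2 := T.w_pos 2
  have D0 : T.a 0 0 = -2 * T.w 0 := (hall 0).2
  have D1 : T.a 1 1 = -2 * T.w 1 := (hall 1).2
  have D2 : T.a 2 2 = -2 * T.w 2 := (hall 2).2
  have R0 := hrow 0
  have R1 := hrow 1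
  have R2 := hrow 2
  rw [Fin.sum_univ_three, hdiag] at R0 R1 R2
  have A01 := hP 0 1
  have A10 := hP 1 0
  have A02 := hP 0 2
  have A20 := hP 2 0
  have A12 := hP 1 2
  have A21 := hP 2 1
  have S01 := hsym 0 1
  have S02 := hsym 0 2
  have S12 := hsym 1 2
  obtain ⟨l01, u01⟩ := hbd 0 1 (by decide)
  obtain ⟨l10, u10⟩ := hbd 1 0 (by decide)
  obtain ⟨l02, u02⟩ := hbd 0 2 (by decide)
  obtain ⟨l20, u20⟩ := hbd 2 0 (by decide)
  obtain ⟨l12, u12⟩ := hbd 1 2 (by decide)
  obtain ⟨l21, u21⟩ := hbd 2 1 (by decide)
  have N01 := mul_nonneg l01 hm1.le
  have N10 := mul_nonneg l10 hm0.le
  have N02 := mul_nonneg l02 hm2.le
  have N20 := mul_nonneg l20 hm0.le
  have N12 := mul_nonneg l12 hm2.le
  have N21 := mul_nonneg l21 hm1.le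
  clear hP hdiag hbd hrow hsym hall hmin hg
  generalize P 0 1 = p01 at *
  generalize P 1 0 = p10 at *
  generalize P 0 2 = p02 at *
  generalize P 2 0 = p20 at *
  generalize P 1 2 = p12 at *
  generalize P 2 1 = p21 at *
  clear P
  interval_cases p01
  · -- p01 = 0
    interval_cases p10
    · -- p10 = 0
      interval_cases p02
      · -- p02 = 0
        omega
      · -- p02 = 1
        interval_cases p20
        · -- p20 = 0
          omega
        · -- p20 = 1
          interval_cases p12
          · -- p12 = 0
            omega
          · -- p12 = 1
            interval_cases p21
            · -- p21 = 0
              omega
            · -- p21 = 1
              omega
            · -- p21 = 2
              omega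
            · -- p21 = 3
              exact ⟨0, 2, 1, T.m 0, T.w 0, by decide, by decide, by decide, G 0, G 2, G 1, Or.inr (Or.inl ⟨by omega, by omega, by omega, by omega, by omega, by omega, by omega, by omega, by omega, by omega, by omega, by omega⟩)⟩
            · -- p21 = 4
              omega
          · -- p12 = 2
            interval_cases p21
            · -- p21 = 0
              omega
            · -- p21 = 1
              omega
            · -- p21 = 2
              omega
            · -- p21 = 3
              omega
            · -- p21 = 4
              omega
          · -- p12 = 3
            interval_cases p21
            · -- p21 = 0
              omega
            · -- p21 = 1
              exact ⟨0, 2, 1, T.m 0, T.w 1, by decide, by decide, by decide, G 0, G 2, G 1, Or.inr (Or.inr (Or.inl ⟨by omega, by omega, by omega, by omega, by omega, by omega, by omega, by omega, by omega, by omega, by omega, by omega⟩))⟩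
            · -- p21 = 2
              omega
            · -- p21 = 3
              omega
            · -- p21 = 4
              omega
          · -- p12 = 4
            interval_cases p21
            · -- p21 = 0
              omega
            · -- p21 = 1
              omega
            · -- p21 = 2
              omega
            · -- p21 = 3
              omega
            · -- p21 = 4
              omega
        · -- p20 = 2
          interval_cases p12
          · -- p12 = 0
            omega
          · -- p12 = 1
            interval_cases p21
            · -- p21 = 0
              omega
            · -- p21 = 1
              omega
            · -- p21 = 2
              exact ⟨0, 2, 1, T.m 0, T.w 2, by decide, by decide, by decide, G 0, G 2, G 1, Or.inr (Or.inr (Or.inr (Or.inr (Or.inr (⟨by omega, by omega, by omega, by omega, by omega, by omega, by omega, by omega, by omega, by omega, by omega, by omega⟩)))))⟩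
            · -- p21 = 3
              omega
            · -- p21 = 4
              omega
          · -- p12 = 2
            interval_cases p21
            · -- p21 = 0
              omega
            · -- p21 = 1
              exact ⟨1, 2, 0, T.m 0, T.w 1, by decide, by decide, by decide, G 1, G 2, G 0, Or.inr (Or.inr (Or.inr (Or.inl ⟨by omega, by omega, by omega, by omega, by omega, by omega, by omega, by omega, by omega, by omega, by omega, by omega⟩)))⟩
            · -- p21 = 2
              omega
            · -- p21 = 3
              omega
            · -- p21 = 4
              omega
          · -- p12 = 3
            interval_cases p21
            · -- p21 = 0
              omega
            · -- p21 = 1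
              omega
            · -- p21 = 2
              omega
            · -- p21 = 3
              omega
            · -- p21 = 4
              omega
          · -- p12 = 4
            interval_cases p21
            · -- p21 = 0
              omega
            · -- p21 = 1
              omega
            · -- p21 = 2
              omega
            · -- p21 = 3
              omega
            · -- p21 = 4
              omega
        · -- p20 = 3
          interval_cases p12
          · -- p12 = 0
            omega
          · -- p12 = 1
            interval_cases p21
            · -- p21 = 0
              omega
            · -- p21 = 1
              exact ⟨1, 2, 0, T.m 1, T.w 1, by decide, by decide, by decide, G 1, G 2, G 0, Or.inr (Or.inl ⟨by omega, by omega, by omega, by omega, by omega, by omega, by omega, by omega, by omega, by omega, by omega, by omega⟩)⟩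
            · -- p21 = 2
              omega
            · -- p21 = 3
              omega
            · -- p21 = 4
              omega
          · -- p12 = 2
            interval_cases p21
            · -- p21 = 0
              omega
            · -- p21 = 1
              omega
            · -- p21 = 2
              omega
            · -- p21 = 3
              omega
            · -- p21 = 4
              omega
          · -- p12 = 3
            interval_cases p21
            · -- p21 = 0
              omega
            · -- p21 = 1
              omega
            · -- p21 = 2
              omega
            · -- p21 = 3
              omega
            · -- p21 = 4
              omega
          · -- p12 = 4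
            interval_cases p21
            · -- p21 = 0
              omega
            · -- p21 = 1
              omega
            · -- p21 = 2
              omega
            · -- p21 = 3
              omega
            · -- p21 = 4
              omega
        · -- p20 = 4
          interval_cases p12
          · -- p12 = 0
            omega
          · -- p12 = 1
            interval_cases p21
            · -- p21 = 0
              omega
            · -- p21 = 1
              omega
            · -- p21 = 2
              omega
            · -- p21 = 3
              omega
            · -- p21 = 4
              omega
          · -- p12 = 2
            interval_cases p21
            · -- p21 = 0
              omega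
            · -- p21 = 1
              omega
            · -- p21 = 2
              omega
            · -- p21 = 3
              omega
            · -- p21 = 4
              omega
          · -- p12 = 3
            interval_cases p21
            · -- p21 = 0
              omega
            · -- p21 = 1
              omega
            · -- p21 = 2
              omega
            · -- p21 = 3
              omega
            · -- p21 = 4
              omega
          · -- p12 = 4
            interval_cases p21
            · -- p21 = 0
              omega
            · -- p21 = 1
              omega
            · -- p21 = 2
              omega
            · -- p21 = 3
              omega
            · -- p21 = 4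
              omega
      · -- p02 = 2
        interval_cases p20
        · -- p20 = 0
          omega
        · -- p20 = 1
          interval_cases p12
          · -- p12 = 0
            omega
          · -- p12 = 1
            interval_cases p21
            · -- p21 = 0
              omega
            · -- p21 = 1
              omega
            · -- p21 = 2
              exact ⟨0, 2, 1, T.m 1, T.w 0, by decide, by decide, by decide, G 0, G 2, G 1, Or.inr (Or.inr (Or.inr (Or.inl ⟨by omega, by omega, by omega, by omega, by omega, by omega, by omega, by omega, by omega, by omega, by omega, by omega⟩)))⟩
            · -- p21 = 3
              omega
            · -- p21 = 4
              omega
          · -- p12 = 2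
            interval_cases p21
            · -- p21 = 0
              omega
            · -- p21 = 1
              exact ⟨0, 2, 1, T.m 0, T.w 0, by decide, by decide, by decide, G 0, G 2, G 1, Or.inr (Or.inr (Or.inr (Or.inr (Or.inl ⟨by omega, by omega, by omega, by omega, by omega, by omega, by omega, by omega, by omega, by omega, by omega, by omega⟩))))⟩
            · -- p21 = 2
              omega
            · -- p21 = 3
              omega
            · -- p21 = 4
              omega
          · -- p12 = 3
            interval_cases p21
            · -- p21 = 0
              omega
            · -- p21 = 1
              omega
            · -- p21 = 2
              omega
            · -- p21 = 3
              omega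
            · -- p21 = 4
              omega
          · -- p12 = 4
            interval_cases p21
            · -- p21 = 0
              omega
            · -- p21 = 1
              omega
            · -- p21 = 2
              omega
            · -- p21 = 3
              omega
            · -- p21 = 4
              omega
        · -- p20 = 2
          interval_cases p12
          · -- p12 = 0
            omega
          · -- p12 = 1
            interval_cases p21
            · -- p21 = 0
              omega
            · -- p21 = 1
              omega
            · -- p21 = 2
              omega
            · -- p21 = 3
              omega
            · -- p21 = 4
              omega
          · -- p12 = 2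
            interval_cases p21
            · -- p21 = 0
              omega
            · -- p21 = 1
              omega
            · -- p21 = 2
              omega
            · -- p21 = 3
              omega
            · -- p21 = 4
              omega
          · -- p12 = 3
            interval_cases p21
            · -- p21 = 0
              omega
            · -- p21 = 1
              omega
            · -- p21 = 2
              omega
            · -- p21 = 3
              omega
            · -- p21 = 4
              omega
          · -- p12 = 4
            interval_cases p21
            · -- p21 = 0
              omega
            · -- p21 = 1
              omega
            · -- p21 = 2
              omega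
            · -- p21 = 3
              omega
            · -- p21 = 4
              omega
        · -- p20 = 3
          omega
        · -- p20 = 4
          omega
      · -- p02 = 3
        interval_cases p20
        · -- p20 = 0
          omega
        · -- p20 = 1
          interval_cases p12
          · -- p12 = 0
            omega
          · -- p12 = 1
            interval_cases p21
            · -- p21 = 0
              omega
            · -- p21 = 1
              exact ⟨1, 2, 0, T.m 1, T.w 0, by decide, by decide, by decide, G 1, G 2, G 0, Or.inr (Or.inr (Or.inl ⟨by omega, by omega, by omega, by omega, by omega, by omega, by omega, by omega, by omega, by omega, by omega, by omega⟩))⟩
            · -- p21 = 2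
              omega
            · -- p21 = 3
              omega
            · -- p21 = 4
              omega
          · -- p12 = 2
            interval_cases p21
            · -- p21 = 0
              omega
            · -- p21 = 1
              omega
            · -- p21 = 2
              omega
            · -- p21 = 3
              omega
            · -- p21 = 4
              omega
          · -- p12 = 3
            interval_cases p21
            · -- p21 = 0
              omega
            · -- p21 = 1
              omega
            · -- p21 = 2
              omega
            · -- p21 = 3
              omega
            · -- p21 = 4
              omega
          · -- p12 = 4
            interval_cases p21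
            · -- p21 = 0
              omega
            · -- p21 = 1
              omega
            · -- p21 = 2
              omega
            · -- p21 = 3
              omega
            · -- p21 = 4
              omega
        · -- p20 = 2
          omega
        · -- p20 = 3
          omega
        · -- p20 = 4
          omega
      · -- p02 = 4
        interval_cases p20
        · -- p20 = 0
          omega
        · -- p20 = 1
          interval_cases p12
          · -- p12 = 0
            omega
          · -- p12 = 1
            interval_cases p21
            · -- p21 = 0
              omega
            · -- p21 = 1
              omega
            · -- p21 = 2
              omega
            · -- p21 = 3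
              omega
            · -- p21 = 4
              omega
          · -- p12 = 2
            interval_cases p21
            · -- p21 = 0
              omega
            · -- p21 = 1
              omega
            · -- p21 = 2
              omega
            · -- p21 = 3
              omega
            · -- p21 = 4
              omega
          · -- p12 = 3
            interval_cases p21
            · -- p21 = 0
              omega
            · -- p21 = 1
              omega
            · -- p21 = 2
              omega
            · -- p21 = 3
              omega
            · -- p21 = 4
              omega
          · -- p12 = 4
            interval_cases p21
            · -- p21 = 0
              omega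
            · -- p21 = 1
              omega
            · -- p21 = 2
              omega
            · -- p21 = 3
              omega
            · -- p21 = 4
              omega
        · -- p20 = 2
          omega
        · -- p20 = 3
          omega
        · -- p20 = 4
          omega
    · -- p10 = 1
      omega
    · -- p10 = 2
      omega
    · -- p10 = 3
      omega
    · -- p10 = 4
      omega
  · -- p01 = 1
    interval_cases p10
    · -- p10 = 0
      omega
    · -- p10 = 1
      interval_cases p02
      · -- p02 = 0
        interval_cases p20
        · -- p20 = 0
          interval_cases p12
          · -- p12 = 0
            omega
          · -- p12 = 1
            interval_cases p21
            · -- p21 = 0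
              omega
            · -- p21 = 1
              omega
            · -- p21 = 2
              omega
            · -- p21 = 3
              exact ⟨0, 1, 2, T.m 0, T.w 2, by decide, by decide, by decide, G 0, G 1, G 2, Or.inr (Or.inr (Or.inl ⟨by omega, by omega, by omega, by omega, by omega, by omega, by omega, by omega, by omega, by omega, by omega, by omega⟩))⟩
            · -- p21 = 4
              omega
          · -- p12 = 2
            interval_cases p21
            · -- p21 = 0
              omega
            · -- p21 = 1
              omega
            · -- p21 = 2
              omega
            · -- p21 = 3
              omega
            · -- p21 = 4
              omega
          · -- p12 = 3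
            interval_cases p21
            · -- p21 = 0
              omega
            · -- p21 = 1
              exact ⟨0, 1, 2, T.m 0, T.w 0, by decide, by decide, by decide, G 0, G 1, G 2, Or.inr (Or.inl ⟨by omega, by omega, by omega, by omega, by omega, by omega, by omega, by omega, by omega, by omega, by omega, by omega⟩)⟩
            · -- p21 = 2
              omega
            · -- p21 = 3
              omega
            · -- p21 = 4
              omega
          · -- p12 = 4
            interval_cases p21
            · -- p21 = 0
              omega
            · -- p21 = 1
              omega
            · -- p21 = 2
              omega
            · -- p21 = 3
              omega
            · -- p21 = 4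
              omega
        · -- p20 = 1
          omega
        · -- p20 = 2
          omega
        · -- p20 = 3
          omega
        · -- p20 = 4
          omega
      · -- p02 = 1
        interval_cases p20
        · -- p20 = 0
          omega
        · -- p20 = 1
          interval_cases p12
          · -- p12 = 0
            interval_cases p21
            · -- p21 = 0
              omega
            · -- p21 = 1
              omega
            · -- p21 = 2
              omega
            · -- p21 = 3
              omega
            · -- p21 = 4
              omega
          · -- p12 = 1
            interval_cases p21
            · -- p21 = 0
              omega
            · -- p21 = 1
              exact ⟨0, 1, 2, T.m 0, T.w 0, by decide, by decide, by decide, G 0, G 1, G 2, Or.inl ⟨by omega, by omega, by omega, by omega, by omega, by omega, by omega, by omega, by omega, by omega, by omega, by omega⟩⟩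
            · -- p21 = 2
              omega
            · -- p21 = 3
              omega
            · -- p21 = 4
              omega
          · -- p12 = 2
            interval_cases p21
            · -- p21 = 0
              omega
            · -- p21 = 1
              omega
            · -- p21 = 2
              omega
            · -- p21 = 3
              omega
            · -- p21 = 4
              omega
          · -- p12 = 3
            interval_cases p21
            · -- p21 = 0
              omega
            · -- p21 = 1
              omega
            · -- p21 = 2
              omega
            · -- p21 = 3
              omega
            · -- p21 = 4
              omega
          · -- p12 = 4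
            interval_cases p21
            · -- p21 = 0
              omega
            · -- p21 = 1
              omega
            · -- p21 = 2
              omega
            · -- p21 = 3
              omega
            · -- p21 = 4
              omega
        · -- p20 = 2
          interval_cases p12
          · -- p12 = 0
            interval_cases p21
            · -- p21 = 0
              omega
            · -- p21 = 1
              omega
            · -- p21 = 2
              omega
            · -- p21 = 3
              omega
            · -- p21 = 4
              omega
          · -- p12 = 1
            interval_cases p21
            · -- p21 = 0
              omega
            · -- p21 = 1
              omega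
            · -- p21 = 2
              omega
            · -- p21 = 3
              omega
            · -- p21 = 4
              omega
          · -- p12 = 2
            omega
          · -- p12 = 3
            omega
          · -- p12 = 4
            omega
        · -- p20 = 3
          interval_cases p12
          · -- p12 = 0
            interval_cases p21
            · -- p21 = 0
              exact ⟨1, 0, 2, T.m 1, T.w 2, by decide, by decide, by decide, G 1, G 0, G 2, Or.inr (Or.inr (Or.inl ⟨by omega, by omega, by omega, by omega, by omega, by omega, by omega, by omega, by omega, by omega, by omega, by omega⟩))⟩
            · -- p21 = 1
              omega
            · -- p21 = 2
              omega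
            · -- p21 = 3
              omega
            · -- p21 = 4
              omega
          · -- p12 = 1
            omega
          · -- p12 = 2
            omega
          · -- p12 = 3
            omega
          · -- p12 = 4
            omega
        · -- p20 = 4
          omega
      · -- p02 = 2
        interval_cases p20
        · -- p20 = 0
          omega
        · -- p20 = 1
          interval_cases p12
          · -- p12 = 0
            interval_cases p21
            · -- p21 = 0
              omega
            · -- p21 = 1
              omega
            · -- p21 = 2
              omega
            · -- p21 = 3
              omega
            · -- p21 = 4
              omega
          · -- p12 = 1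
            interval_cases p21
            · -- p21 = 0
              omega
            · -- p21 = 1
              omega
            · -- p21 = 2
              omega
            · -- p21 = 3
              omega
            · -- p21 = 4
              omega
          · -- p12 = 2
            interval_cases p21
            · -- p21 = 0
              omega
            · -- p21 = 1
              omega
            · -- p21 = 2
              omega
            · -- p21 = 3
              omega
            · -- p21 = 4
              omega
          · -- p12 = 3
            omega
          · -- p12 = 4
            omega
        · -- p20 = 2
          omega
        · -- p20 = 3
          omega
        · -- p20 = 4
          omega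
      · -- p02 = 3
        interval_cases p20
        · -- p20 = 0
          omega
        · -- p20 = 1
          interval_cases p12
          · -- p12 = 0
            interval_cases p21
            · -- p21 = 0
              exact ⟨1, 0, 2, T.m 1, T.w 1, by decide, by decide, by decide, G 1, G 0, G 2, Or.inr (Or.inl ⟨by omega, by omega, by omega, by omega, by omega, by omega, by omega, by omega, by omega, by omega, by omega, by omega⟩)⟩
            · -- p21 = 1
              omega
            · -- p21 = 2
              omega
            · -- p21 = 3
              omega
            · -- p21 = 4
              omega
          · -- p12 = 1
            omega
          · -- p12 = 2
            omega
          · -- p12 = 3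
            omega
          · -- p12 = 4
            omega
        · -- p20 = 2
          omega
        · -- p20 = 3
          omega
        · -- p20 = 4
          omega
      · -- p02 = 4
        interval_cases p20
        · -- p20 = 0
          omega
        · -- p20 = 1
          omega
        · -- p20 = 2
          omega
        · -- p20 = 3
          omega
        · -- p20 = 4
          omega
    · -- p10 = 2
      interval_cases p02
      · -- p02 = 0
        interval_cases p20
        · -- p20 = 0
          interval_cases p12
          · -- p12 = 0
            omega
          · -- p12 = 1
            interval_cases p21
            · -- p21 = 0
              omega
            · -- p21 = 1
              omega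
            · -- p21 = 2
              exact ⟨2, 1, 0, T.m 0, T.w 2, by decide, by decide, by decide, G 2, G 1, G 0, Or.inr (Or.inr (Or.inr (Or.inl ⟨by omega, by omega, by omega, by omega, by omega, by omega, by omega, by omega, by omega, by omega, by omega, by omega⟩)))⟩
            · -- p21 = 3
              omega
            · -- p21 = 4
              omega
          · -- p12 = 2
            interval_cases p21
            · -- p21 = 0
              omega
            · -- p21 = 1
              exact ⟨0, 1, 2, T.m 0, T.w 1, by decide, by decide, by decide, G 0, G 1, G 2, Or.inr (Or.inr (Or.inr (Or.inr (Or.inr (⟨by omega, by omega, by omega, by omega, by omega, by omega, by omega, by omega, by omega, by omega, by omega, by omega⟩)))))⟩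
            · -- p21 = 2
              omega
            · -- p21 = 3
              omega
            · -- p21 = 4
              omega
          · -- p12 = 3
            interval_cases p21
            · -- p21 = 0
              omega
            · -- p21 = 1
              omega
            · -- p21 = 2
              omega
            · -- p21 = 3
              omega
            · -- p21 = 4
              omega
          · -- p12 = 4
            interval_cases p21
            · -- p21 = 0
              omega
            · -- p21 = 1
              omega
            · -- p21 = 2
              omega
            · -- p21 = 3
              omega
            · -- p21 = 4
              omega
        · -- p20 = 1
          omega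
        · -- p20 = 2
          omega
        · -- p20 = 3
          omega
        · -- p20 = 4
          omega
      · -- p02 = 1
        interval_cases p20
        · -- p20 = 0
          omega
        · -- p20 = 1
          interval_cases p12
          · -- p12 = 0
            interval_cases p21
            · -- p21 = 0
              omega
            · -- p21 = 1
              omega
            · -- p21 = 2
              omega
            · -- p21 = 3
              omega
            · -- p21 = 4
              omega
          · -- p12 = 1
            interval_cases p21
            · -- p21 = 0
              omega
            · -- p21 = 1
              omega
            · -- p21 = 2
              omega
            · -- p21 = 3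
              omega
            · -- p21 = 4
              omega
          · -- p12 = 2
            interval_cases p21
            · -- p21 = 0
              omega
            · -- p21 = 1
              omega
            · -- p21 = 2
              omega
            · -- p21 = 3
              omega
            · -- p21 = 4
              omega
          · -- p12 = 3
            omega
          · -- p12 = 4
            omega
        · -- p20 = 2
          interval_cases p12
          · -- p12 = 0
            interval_cases p21
            · -- p21 = 0
              exact ⟨1, 0, 2, T.m 1, T.w 1, by decide, by decide, by decide, G 1, G 0, G 2, Or.inr (Or.inr (Or.inr (Or.inr (Or.inl ⟨by omega, by omega, by omega, by omega, by omega, by omega, by omega, by omega, by omega, by omega, by omega, by omega⟩))))⟩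
            · -- p21 = 1
              omega
            · -- p21 = 2
              omega
            · -- p21 = 3
              omega
            · -- p21 = 4
              omega
          · -- p12 = 1
            omega
          · -- p12 = 2
            omega
          · -- p12 = 3
            omega
          · -- p12 = 4
            omega
        · -- p20 = 3
          omega
        · -- p20 = 4
          omega
      · -- p02 = 2
        interval_cases p20
        · -- p20 = 0
          omega
        · -- p20 = 1
          interval_cases p12
          · -- p12 = 0
            interval_cases p21
            · -- p21 = 0
              exact ⟨1, 0, 2, T.m 2, T.w 1, by decide, by decide, by decide, G 1, G 0, G 2, Or.inr (Or.inr (Or.inr (Or.inl ⟨by omega, by omega, by omega, by omega, by omega, by omega, by omega, by omega, by omega, by omega, by omega, by omega⟩)))⟩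
            · -- p21 = 1
              omega
            · -- p21 = 2
              omega
            · -- p21 = 3
              omega
            · -- p21 = 4
              omega
          · -- p12 = 1
            omega
          · -- p12 = 2
            omega
          · -- p12 = 3
            omega
          · -- p12 = 4
            omega
        · -- p20 = 2
          omega
        · -- p20 = 3
          omega
        · -- p20 = 4
          omega
      · -- p02 = 3
        interval_cases p20
        · -- p20 = 0
          omega
        · -- p20 = 1
          omega
        · -- p20 = 2
          omega
        · -- p20 = 3
          omega
        · -- p20 = 4
          omega
      · -- p02 = 4
        interval_cases p20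
        · -- p20 = 0
          omega
        · -- p20 = 1
          omega
        · -- p20 = 2
          omega
        · -- p20 = 3
          omega
        · -- p20 = 4
          omega
    · -- p10 = 3
      interval_cases p02
      · -- p02 = 0
        interval_cases p20
        · -- p20 = 0
          interval_cases p12
          · -- p12 = 0
            omega
          · -- p12 = 1
            interval_cases p21
            · -- p21 = 0
              omega
            · -- p21 = 1
              exact ⟨2, 1, 0, T.m 2, T.w 2, by decide, by decide, by decide, G 2, G 1, G 0, Or.inr (Or.inl ⟨by omega, by omega, by omega, by omega, by omega, by omega, by omega, by omega, by omega, by omega, by omega, by omega⟩)⟩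
            · -- p21 = 2
              omega
            · -- p21 = 3
              omega
            · -- p21 = 4
              omega
          · -- p12 = 2
            interval_cases p21
            · -- p21 = 0
              omega
            · -- p21 = 1
              omega
            · -- p21 = 2
              omega
            · -- p21 = 3
              omega
            · -- p21 = 4
              omega
          · -- p12 = 3
            interval_cases p21
            · -- p21 = 0
              omega
            · -- p21 = 1
              omega
            · -- p21 = 2
              omega
            · -- p21 = 3
              omega
            · -- p21 = 4
              omega
          · -- p12 = 4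
            interval_cases p21
            · -- p21 = 0
              omega
            · -- p21 = 1
              omega
            · -- p21 = 2
              omega
            · -- p21 = 3
              omega
            · -- p21 = 4
              omega
        · -- p20 = 1
          omega
        · -- p20 = 2
          omega
        · -- p20 = 3
          omega
        · -- p20 = 4
          omega
      · -- p02 = 1
        interval_cases p20
        · -- p20 = 0
          omega
        · -- p20 = 1
          interval_cases p12
          · -- p12 = 0
            interval_cases p21
            · -- p21 = 0
              exact ⟨2, 0, 1, T.m 2, T.w 1, by decide, by decide, by decide, G 2, G 0, G 1, Or.inr (Or.inr (Or.inl ⟨by omega, by omega, by omega, by omega, by omega, by omega, by omega, by omega, by omega, by omega, by omega, by omega⟩))⟩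
            · -- p21 = 1
              omega
            · -- p21 = 2
              omega
            · -- p21 = 3
              omega
            · -- p21 = 4
              omega
          · -- p12 = 1
            omega
          · -- p12 = 2
            omega
          · -- p12 = 3
            omega
          · -- p12 = 4
            omega
        · -- p20 = 2
          omega
        · -- p20 = 3
          omega
        · -- p20 = 4
          omega
      · -- p02 = 2
        interval_cases p20
        · -- p20 = 0
          omega
        · -- p20 = 1
          omega
        · -- p20 = 2
          omega
        · -- p20 = 3
          omega
        · -- p20 = 4
          omega
      · -- p02 = 3
        interval_cases p20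
        · -- p20 = 0
          omega
        · -- p20 = 1
          omega
        · -- p20 = 2
          omega
        · -- p20 = 3
          omega
        · -- p20 = 4
          omega
      · -- p02 = 4
        interval_cases p20
        · -- p20 = 0
          omega
        · -- p20 = 1
          omega
        · -- p20 = 2
          omega
        · -- p20 = 3
          omega
        · -- p20 = 4
          omega
    · -- p10 = 4
      interval_cases p02
      · -- p02 = 0
        interval_cases p20
        · -- p20 = 0
          interval_cases p12
          · -- p12 = 0
            interval_cases p21
            · -- p21 = 0
              omega
            · -- p21 = 1
              omega
            · -- p21 = 2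
              omega
            · -- p21 = 3
              omega
            · -- p21 = 4
              omega
          · -- p12 = 1
            omega
          · -- p12 = 2
            omega
          · -- p12 = 3
            omega
          · -- p12 = 4
            omega
        · -- p20 = 1
          omega
        · -- p20 = 2
          omega
        · -- p20 = 3
          omega
        · -- p20 = 4
          omega
      · -- p02 = 1
        omega
      · -- p02 = 2
        omega
      · -- p02 = 3
        omega
      · -- p02 = 4
        omega
  · -- p01 = 2
    interval_cases p10
    · -- p10 = 0
      omega
    · -- p10 = 1
      interval_cases p02
      · -- p02 = 0
        interval_cases p20
        · -- p20 = 0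
          interval_cases p12
          · -- p12 = 0
            omega
          · -- p12 = 1
            interval_cases p21
            · -- p21 = 0
              omega
            · -- p21 = 1
              omega
            · -- p21 = 2
              exact ⟨0, 1, 2, T.m 0, T.w 0, by decide, by decide, by decide, G 0, G 1, G 2, Or.inr (Or.inr (Or.inr (Or.inr (Or.inl ⟨by omega, by omega, by omega, by omega, by omega, by omega, by omega, by omega, by omega, by omega, by omega, by omega⟩))))⟩
            · -- p21 = 3
              omega
            · -- p21 = 4
              omega
          · -- p12 = 2
            interval_cases p21
            · -- p21 = 0
              omega
            · -- p21 = 1
              exact ⟨0, 1, 2, T.m 2, T.w 0, by decide, by decide, by decide, G 0, G 1, G 2, Or.inr (Or.inr (Or.inr (Or.inl ⟨by omega, by omega, by omega, by omega, by omega, by omega, by omega, by omega, by omega, by omega, by omega, by omega⟩)))⟩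
            · -- p21 = 2
              omega
            · -- p21 = 3
              omega
            · -- p21 = 4
              omega
          · -- p12 = 3
            interval_cases p21
            · -- p21 = 0
              omega
            · -- p21 = 1
              omega
            · -- p21 = 2
              omega
            · -- p21 = 3
              omega
            · -- p21 = 4
              omega
          · -- p12 = 4
            interval_cases p21
            · -- p21 = 0
              omega
            · -- p21 = 1
              omega
            · -- p21 = 2
              omega
            · -- p21 = 3
              omega
            · -- p21 = 4
              omega
        · -- p20 = 1
          omega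
        · -- p20 = 2
          omega
        · -- p20 = 3
          omega
        · -- p20 = 4
          omega
      · -- p02 = 1
        interval_cases p20
        · -- p20 = 0
          omega
        · -- p20 = 1
          interval_cases p12
          · -- p12 = 0
            interval_cases p21
            · -- p21 = 0
              omega
            · -- p21 = 1
              omega
            · -- p21 = 2
              omega
            · -- p21 = 3
              omega
            · -- p21 = 4
              omega
          · -- p12 = 1
            interval_cases p21
            · -- p21 = 0
              omega
            · -- p21 = 1
              omega
            · -- p21 = 2
              omega
            · -- p21 = 3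
              omega
            · -- p21 = 4
              omega
          · -- p12 = 2
            omega
          · -- p12 = 3
            omega
          · -- p12 = 4
            omega
        · -- p20 = 2
          interval_cases p12
          · -- p12 = 0
            interval_cases p21
            · -- p21 = 0
              exact ⟨2, 0, 1, T.m 1, T.w 2, by decide, by decide, by decide, G 2, G 0, G 1, Or.inr (Or.inr (Or.inr (Or.inl ⟨by omega, by omega, by omega, by omega, by omega, by omega, by omega, by omega, by omega, by omega, by omega, by omega⟩)))⟩
            · -- p21 = 1
              omega
            · -- p21 = 2
              omega
            · -- p21 = 3
              omega
            · -- p21 = 4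
              omega
          · -- p12 = 1
            omega
          · -- p12 = 2
            omega
          · -- p12 = 3
            omega
          · -- p12 = 4
            omega
        · -- p20 = 3
          omega
        · -- p20 = 4
          omega
      · -- p02 = 2
        interval_cases p20
        · -- p20 = 0
          omega
        · -- p20 = 1
          interval_cases p12
          · -- p12 = 0
            interval_cases p21
            · -- p21 = 0
              exact ⟨1, 0, 2, T.m 1, T.w 0, by decide, by decide, by decide, G 1, G 0, G 2, Or.inr (Or.inr (Or.inr (Or.inr (Or.inr (⟨by omega, by omega, by omega, by omega, by omega, by omega, by omega, by omega, by omega, by omega, by omega, by omega⟩)))))⟩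
            · -- p21 = 1
              omega
            · -- p21 = 2
              omega
            · -- p21 = 3
              omega
            · -- p21 = 4
              omega
          · -- p12 = 1
            omega
          · -- p12 = 2
            omega
          · -- p12 = 3
            omega
          · -- p12 = 4
            omega
        · -- p20 = 2
          omega
        · -- p20 = 3
          omega
        · -- p20 = 4
          omega
      · -- p02 = 3
        interval_cases p20
        · -- p20 = 0
          omega
        · -- p20 = 1
          omega
        · -- p20 = 2
          omega
        · -- p20 = 3
          omega
        · -- p20 = 4
          omega
      · -- p02 = 4
        interval_cases p20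
        · -- p20 = 0
          omega
        · -- p20 = 1
          omega
        · -- p20 = 2
          omega
        · -- p20 = 3
          omega
        · -- p20 = 4
          omega
    · -- p10 = 2
      interval_cases p02
      · -- p02 = 0
        interval_cases p20
        · -- p20 = 0
          interval_cases p12
          · -- p12 = 0
            interval_cases p21
            · -- p21 = 0
              omega
            · -- p21 = 1
              omega
            · -- p21 = 2
              omega
            · -- p21 = 3
              omega
            · -- p21 = 4
              omega
          · -- p12 = 1
            omega
          · -- p12 = 2
            omega
          · -- p12 = 3
            omega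
          · -- p12 = 4
            omega
        · -- p20 = 1
          omega
        · -- p20 = 2
          omega
        · -- p20 = 3
          omega
        · -- p20 = 4
          omega
      · -- p02 = 1
        omega
      · -- p02 = 2
        omega
      · -- p02 = 3
        omega
      · -- p02 = 4
        omega
    · -- p10 = 3
      omega
    · -- p10 = 4
      omega
  · -- p01 = 3
    interval_cases p10
    · -- p10 = 0
      omega
    · -- p10 = 1
      interval_cases p02
      · -- p02 = 0
        interval_cases p20
        · -- p20 = 0
          interval_cases p12
          · -- p12 = 0
            omega
          · -- p12 = 1
            interval_cases p21
            · -- p21 = 0
              omega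
            · -- p21 = 1
              exact ⟨2, 1, 0, T.m 2, T.w 0, by decide, by decide, by decide, G 2, G 1, G 0, Or.inr (Or.inr (Or.inl ⟨by omega, by omega, by omega, by omega, by omega, by omega, by omega, by omega, by omega, by omega, by omega, by omega⟩))⟩
            · -- p21 = 2
              omega
            · -- p21 = 3
              omega
            · -- p21 = 4
              omega
          · -- p12 = 2
            interval_cases p21
            · -- p21 = 0
              omega
            · -- p21 = 1
              omega
            · -- p21 = 2
              omega
            · -- p21 = 3
              omega
            · -- p21 = 4
              omega
          · -- p12 = 3
            interval_cases p21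
            · -- p21 = 0
              omega
            · -- p21 = 1
              omega
            · -- p21 = 2
              omega
            · -- p21 = 3
              omega
            · -- p21 = 4
              omega
          · -- p12 = 4
            interval_cases p21
            · -- p21 = 0
              omega
            · -- p21 = 1
              omega
            · -- p21 = 2
              omega
            · -- p21 = 3
              omega
            · -- p21 = 4
              omega
        · -- p20 = 1
          omega
        · -- p20 = 2
          omega
        · -- p20 = 3
          omega
        · -- p20 = 4
          omega
      · -- p02 = 1
        interval_cases p20
        · -- p20 = 0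
          omega
        · -- p20 = 1
          interval_cases p12
          · -- p12 = 0
            interval_cases p21
            · -- p21 = 0
              exact ⟨2, 0, 1, T.m 2, T.w 2, by decide, by decide, by decide, G 2, G 0, G 1, Or.inr (Or.inl ⟨by omega, by omega, by omega, by omega, by omega, by omega, by omega, by omega, by omega, by omega, by omega, by omega⟩)⟩
            · -- p21 = 1
              omega
            · -- p21 = 2
              omega
            · -- p21 = 3
              omega
            · -- p21 = 4
              omega
          · -- p12 = 1
            omega
          · -- p12 = 2
            omega
          · -- p12 = 3
            omega
          · -- p12 = 4
            omega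
        · -- p20 = 2
          omega
        · -- p20 = 3
          omega
        · -- p20 = 4
          omega
      · -- p02 = 2
        interval_cases p20
        · -- p20 = 0
          omega
        · -- p20 = 1
          omega
        · -- p20 = 2
          omega
        · -- p20 = 3
          omega
        · -- p20 = 4
          omega
      · -- p02 = 3
        interval_cases p20
        · -- p20 = 0
          omega
        · -- p20 = 1
          omega
        · -- p20 = 2
          omega
        · -- p20 = 3
          omega
        · -- p20 = 4
          omega
      · -- p02 = 4
        interval_cases p20
        · -- p20 = 0
          omega
        · -- p20 = 1
          omega
        · -- p20 = 2
          omega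
        · -- p20 = 3
          omega
        · -- p20 = 4
          omega
    · -- p10 = 2
      omega
    · -- p10 = 3
      omega
    · -- p10 = 4
      omega
  · -- p01 = 4
    interval_cases p10
    · -- p10 = 0
      omega
    · -- p10 = 1
      interval_cases p02
      · -- p02 = 0
        interval_cases p20
        · -- p20 = 0
          interval_cases p12
          · -- p12 = 0
            interval_cases p21
            · -- p21 = 0
              omega
            · -- p21 = 1
              omega
            · -- p21 = 2
              omega
            · -- p21 = 3
              omega
            · -- p21 = 4
              omega
          · -- p12 = 1
            omega
          · -- p12 = 2
            omega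
          · -- p12 = 3
            omega
          · -- p12 = 4
            omega
        · -- p20 = 1
          omega
        · -- p20 = 2
          omega
        · -- p20 = 3
          omega
        · -- p20 = 4
          omega
      · -- p02 = 1
        omega
      · -- p02 = 2
        omega
      · -- p02 = 3
        omega
      · -- p02 = 4
        omega
    · -- p10 = 2
      omega
    · -- p10 = 3
      omega
    · -- p10 = 4
      omega

end Groth.Agent.S7363
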