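import Groth.Statements.S7386
import Mathlib

set_option autoImplicit false
universe u
open CategoryTheory AlgebraicGeometry
open Mor

namespace Groth.Agent.S7386



lemma affine_case {X Y : Scheme.{u}} (f : X ⟶ Y) (V : Y.Opens) (hV : IsAffineOpen V)
    (W : X.Opens) (hW : IsAffineOpen W) (hWV : W ≤ f ⁻¹ᵁ V) (y : Y) (hyV : y ∈ V)
    (hyW : y ∈ closure (f '' (W : Set X))) :
    ∃ x : X, f x ⤳ y := by
  have hrel := IsAffineOpen.SpecMap_appLE_fromSpec f hV hW hWV
  obtain ⟨φ, hφ⟩ : ∃ φ : Γ(Y, V) →+* Γ(X, W), φ = (f.appLE V W hWV).hom := ⟨_, rfl⟩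
  have hpt : ∀ q : PrimeSpectrum Γ(X, W),
      f (hW.fromSpec q) = hV.fromSpec (PrimeSpectrum.comap φ q) := by
    intro q
    have h := congrArg (fun k : Spec Γ(X, W) ⟶ Y => k q) hrel
    simp only [Scheme.Hom.comp_apply] at h
    rw [hφ]
    exact h.symm
  have hinj : Function.Injective hV.fromSpec := hV.fromSpec.isOpenEmbedding.injective
  obtain ⟨p, hp⟩ : ∃ p : PrimeSpectrum Γ(Y, V), hV.fromSpec p = y := by
    have h : y ∈ Set.range hV.fromSpec := by
      rw [hV.range_fromSpec]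
      exact hyV
    exact h
  have hker : RingHom.ker φ ≤ p.asIdeal := by
    intro a ha
    by_contra hap
    have hopen : IsOpen (hV.fromSpec '' (PrimeSpectrum.basicOpen a : Set (PrimeSpectrum Γ(Y, V)))) :=
      hV.fromSpec.isOpenEmbedding.isOpenMap _ (PrimeSpectrum.basicOpen a).isOpen
    have hy_in : y ∈ hV.fromSpec '' (PrimeSpectrum.basicOpen a : Set (PrimeSpectrum Γ(Y, V))) :=
      ⟨p, hap, hp⟩
    obtain ⟨z, hz1, hz2⟩ := mem_closure_iff.mp hyW _ hopen hy_in
    obtain ⟨w, hwW, rfl⟩ := hz2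
    obtain ⟨q, rfl⟩ : ∃ q, hW.fromSpec q = w := by
      have h : w ∈ Set.range hW.fromSpec := by
        rw [hW.range_fromSpec]
        exact hwW
      exact h
    rw [hpt q] at hz1
    obtain ⟨p2, hp2, hp2eq⟩ := hz1
    have h5 := hinj hp2eq
    subst h5
    apply hp2
    change φ a ∈ q.asIdeal
    rw [RingHom.mem_ker.mp ha]
    exact q.asIdeal.zero_mem
  obtain ⟨p0, hp0, hp0le⟩ := Ideal.exists_minimalPrimes_le hker
  rw [RingHom.ker_eq_comap_bot] at hp0
  obtain ⟨p', hp'prime, -, hp'eq⟩ := Ideal.exists_comap_eq_of_mem_minimalPrimes φ p0 hp0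
  refine ⟨hW.fromSpec ⟨p', hp'prime⟩, ?_⟩
  rw [hpt, ← hp]
  refine Specializes.map ?_ hV.fromSpec.continuous
  refine (PrimeSpectrum.le_iff_specializes (PrimeSpectrum.comap φ ⟨p', hp'prime⟩) p).mp ?_
  change (PrimeSpectrum.comap φ ⟨p', hp'prime⟩).asIdeal ≤ p.asIdeal
  rw [PrimeSpectrum.comap_asIdeal]
  change Ideal.comap φ p' ≤ p.asIdeal
  rw [hp'eq]
  exact hp0le

lemma exists_specializes_of_mem_closure_range {X Y : Scheme.{u}} (f : X ⟶ Y) [QuasiCompact f]
    (y : Y) (hy : y ∈ closure (Set.range f)) : ∃ x : X, f x ⤳ y := by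
  obtain ⟨_, ⟨V, hV, rfl⟩, hyV, -⟩ :=
    Y.isBasis_affineOpens.exists_subset_of_mem_open (Set.mem_univ y) isOpen_univ
  have hcomp : IsCompact (f ⁻¹' (V : Set Y)) :=
    QuasiCompact.isCompact_preimage _ V.isOpen hV.isCompact
  obtain ⟨s, hs, hsU⟩ := (isCompact_and_isOpen_iff_finite_and_eq_biUnion_affineOpens).mp
    ⟨hcomp, V.isOpen.preimage f.continuous⟩
  have h1 : y ∈ closure ((V : Set Y) ∩ Set.range f) := V.isOpen.inter_closure ⟨hyV, hy⟩
  have hmem : ∀ (W : X.affineOpens), W ∈ s → ∀ x : X, x ∈ (W : X.Opens) → x ∈ f ⁻¹' (V : Set Y) := by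
    intro W hW x hx
    rw [hsU]
    simp only [Set.mem_iUnion]
    exact ⟨W, hW, hx⟩
  have h2 : (V : Set Y) ∩ Set.range f = ⋃ W ∈ s, f '' ((W : X.Opens) : Set X) := by
    ext z
    simp only [Set.mem_inter_iff, Set.mem_range, Set.mem_iUnion, Set.mem_image]
    constructor
    · rintro ⟨hz, x, rfl⟩
      have hx : x ∈ f ⁻¹' (V : Set Y) := hz
      rw [hsU] at hx
      simp only [Set.mem_iUnion] at hx
      obtain ⟨W, hW, hxW⟩ := hx
      exact ⟨W, hW, x, hxW, rfl⟩
    · rintro ⟨W, hW, x, hxW, rfl⟩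
      exact ⟨hmem W hW x hxW, x, rfl⟩
  rw [h2, hs.closure_biUnion] at h1
  simp only [Set.mem_iUnion] at h1
  obtain ⟨W, hWs, hyW⟩ := h1
  have hWV : (W : X.Opens) ≤ f ⁻¹ᵁ V := fun x hx => hmem W hWs x hx
  exact affine_case f V hV W.1 W.2 hWV y hyV hyW


lemma max_of_closure_mem {X : Type*} [TopologicalSpace X] [T0Space X] (y : X)
    (h : closure {y} ∈ irreducibleComponents X) : ∀ z, z ⤳ y → z = y := by
  intro z hz
  have h1 : closure {y} ⊆ closure {z} := specializes_iff_closure_subset.mp hz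
  have h2 : IsIrreducible (closure {z}) := isIrreducible_singleton.closure
  have h3 : closure {z} = closure {y} := le_antisymm (h.2 h2 h1) h1
  exact IsGenericPoint.eq h3 isGenericPoint_closure


lemma disjoint_affine_nhds (X : Scheme.{u}) [QuasiSeparatedSpace X] {ι : Type*} [Finite ι]
    (η : ι → X) (hmax : ∀ i, ∀ z : X, z ⤳ η i → z = η i)
    (hinj : Function.Injective η) (N : Set X) (hN : IsOpen N) (hηN : ∀ i, η i ∈ N) :
    ∃ U : ι → X.Opens, (∀ i, IsAffineOpen (U i) ∧ η i ∈ U i ∧ (U i : Set X) ⊆ N) ∧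
      (∀ i j, i ≠ j → Disjoint (U i) (U j)) := by
  have hnot : ∀ i j, i ≠ j → η j ∉ closure ({η i} : Set X) := by
    intro i j hij hmem
    have h1 : η i ⤳ η j := specializes_iff_mem_closure.mpr hmem
    exact hij (hinj (hmax j _ h1))
  have step1 : ∀ j, ∃ V : X.Opens, IsAffineOpen V ∧ η j ∈ V ∧ ∀ i, i ≠ j → η i ∉ V := by
    intro j
    have hopen : IsOpen (⋂ i ∈ {i : ι | i ≠ j}, (closure ({η i} : Set X))ᶜ) :=
      (Set.toFinite _).isOpen_biInter (fun i _ => isClosed_closure.isOpen_compl)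
    have hmem : η j ∈ ⋂ i ∈ {i : ι | i ≠ j}, (closure ({η i} : Set X))ᶜ := by
      simp only [Set.mem_iInter]
      intro i hi
      exact hnot i j hi
    obtain ⟨_, ⟨V, hV, rfl⟩, hjV, hVsub⟩ :=
      X.isBasis_affineOpens.exists_subset_of_mem_open hmem hopen
    refine ⟨V, hV, hjV, fun i hi hiV => ?_⟩
    have h1 := hVsub hiV
    simp only [Set.mem_iInter] at h1
    exact h1 i hi (subset_closure rfl)
  choose V hVaff hVmem hVnot using step1
  have hOopen : ∀ i, IsOpen (⋃ j ∈ {j : ι | j ≠ i}, ((V i : Set X) ∩ (V j : Set X))) :=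
    fun i => isOpen_biUnion (fun j _ => (V i).isOpen.inter (V j).isOpen)
  have hOcomp : ∀ i, IsCompact (⋃ j ∈ {j : ι | j ≠ i}, ((V i : Set X) ∩ (V j : Set X))) :=
    fun i => (Set.toFinite _).isCompact_biUnion (fun j _ =>
      QuasiSeparatedSpace.inter_isCompact _ _ (V i).isOpen (hVaff i).isCompact (V j).isOpen
        (hVaff j).isCompact)
  have hηO : ∀ i, η i ∉ closure (⋃ j ∈ {j : ι | j ≠ i}, ((V i : Set X) ∩ (V j : Set X))) := by
    intro i hmem
    let Oi : X.Opens := ⟨_, hOopen i⟩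
    haveI : CompactSpace ↥(Oi.toScheme) := isCompact_iff_compactSpace.mp (hOcomp i)
    haveI : QuasiCompact Oi.ι := quasiCompact_of_compactSpace _
    have hmem' : η i ∈ closure (Set.range Oi.ι) := by
      rw [Scheme.Opens.range_ι]
      exact hmem
    obtain ⟨o, ho⟩ := exists_specializes_of_mem_closure_range Oi.ι (η i) hmem'
    have h1 : Oi.ι o = η i := hmax i _ ho
    have h2 : Oi.ι o ∈ Set.range Oi.ι := ⟨o, rfl⟩
    rw [Scheme.Opens.range_ι, h1] at h2
    have h3 : η i ∈ ⋃ j ∈ {j : ι | j ≠ i}, ((V i : Set X) ∩ (V j : Set X)) := h2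
    simp only [Set.mem_iUnion] at h3
    obtain ⟨j, hj, -, hjmem⟩ := h3
    exact hVnot j i (Ne.symm hj) hjmem
  have step4 : ∀ i, ∃ U : X.Opens, IsAffineOpen U ∧ η i ∈ U ∧ (U : Set X) ⊆ ((V i : Set X) ∩
      (closure (⋃ j ∈ {j : ι | j ≠ i}, ((V i : Set X) ∩ (V j : Set X))))ᶜ) ∩ N := by
    intro i
    obtain ⟨_, ⟨U, hU, rfl⟩, hiU, hUsub⟩ := X.isBasis_affineOpens.exists_subset_of_mem_open
      (show η i ∈ ((V i : Set X) ∩
        (closure (⋃ j ∈ {j : ι | j ≠ i}, ((V i : Set X) ∩ (V j : Set X))))ᶜ) ∩ N from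
        ⟨⟨hVmem i, hηO i⟩, hηN i⟩)
      (((V i).isOpen.inter isClosed_closure.isOpen_compl).inter hN)
    exact ⟨U, hU, hiU, hUsub⟩
  choose U hUaff hUmem hUsub using step4
  refine ⟨U, fun i => ⟨hUaff i, hUmem i, fun x hx => (hUsub i hx).2⟩, ?_⟩
  intro i j hij
  rw [← TopologicalSpace.Opens.coe_disjoint, Set.disjoint_left]
  intro x hxi hxj
  have h1 := (hUsub i hxi).1
  have h2 := (hUsub j hxj).1
  apply h1.2
  apply subset_closure
  simp only [Set.mem_iUnion]
  exact ⟨j, Ne.symm hij, h1.1, h2.1⟩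


/-- Let `X` be a quasi-separated scheme, `η_1, …, η_n` generic points of irreducible components of `X`
and `x` any point of `X`. Then some affine open of `X` contains `x` and all the `η_i`. -/
theorem result (X : Scheme.{u}) [QuasiSeparatedSpace X] {n : ℕ}
    (η : Fin n → X) (hη : ∀ i, closure ({η i} : Set X) ∈ irreducibleComponents (X : Type u)) (x : X) :
    ∃ U : X.Opens, IsAffineOpen U ∧ x ∈ U ∧ ∀ i, η i ∈ U := by
  obtain ⟨U0, hU0, hxU0⟩ : ∃ U0 : X.Opens, IsAffineOpen U0 ∧ x ∈ U0 := by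
    obtain ⟨_, ⟨U0, hU0, rfl⟩, hxU0, -⟩ :=
      X.isBasis_affineOpens.exists_subset_of_mem_open (Set.mem_univ x) isOpen_univ
    exact ⟨U0, hU0, hxU0⟩
  have hmax : ∀ i, ∀ z : X, z ⤳ η i → z = η i := fun i => max_of_closure_mem (η i) (hη i)
  have hcl : ∀ i, η i ∉ (U0 : Set X) → η i ∉ closure (U0 : Set X) := by
    intro i hi hmem
    haveI : CompactSpace ↥(U0.toScheme) := isCompact_iff_compactSpace.mp hU0.isCompact
    haveI : QuasiCompact U0.ι := quasiCompact_of_compactSpace _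
    have hmem' : η i ∈ closure (Set.range U0.ι) := by
      rw [Scheme.Opens.range_ι]
      exact hmem
    obtain ⟨o, ho⟩ := exists_specializes_of_mem_closure_range U0.ι (η i) hmem'
    have h1 : U0.ι o = η i := hmax i _ ho
    have h2 : U0.ι o ∈ Set.range U0.ι := ⟨o, rfl⟩
    rw [Scheme.Opens.range_ι, h1] at h2
    exact hi h2
  have hSfin : Set.Finite {y : X | (∃ i, η i = y) ∧ y ∉ (U0 : Set X)} :=
    (Set.finite_range η).subset (fun y hy => hy.1)
  haveI : Finite ↥{y : X | (∃ i, η i = y) ∧ y ∉ (U0 : Set X)} := hSfin.to_subtype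
  obtain ⟨W, hW, hWdisj⟩ := disjoint_affine_nhds X
    (fun s : ↥{y : X | (∃ i, η i = y) ∧ y ∉ (U0 : Set X)} => (s : X))
    (fun s z hz => by
      obtain ⟨i, hi⟩ := s.2.1
      have h1 := hmax i z (by rw [hi]; exact hz)
      rw [h1, hi])
    Subtype.val_injective (closure (U0 : Set X))ᶜ isClosed_closure.isOpen_compl
    (fun s => by
      obtain ⟨i, hi⟩ := s.2.1
      have h1 := hcl i (by rw [hi]; exact s.2.2)
      rw [hi] at h1
      exact h1)
  have haff : IsAffineOpen (⨆ o : Option ↥{y : X | (∃ i, η i = y) ∧ y ∉ (U0 : Set X)},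
      (o.elim U0 W : X.Opens)) := by
    apply IsAffineOpen.iSup_of_disjoint
    · rintro (_ | s)
      · exact hU0
      · exact (hW s).1
    · rintro (_ | s) (_ | t) hst
      · exact absurd rfl hst
      · show Disjoint U0 (W t)
        rw [← TopologicalSpace.Opens.coe_disjoint, Set.disjoint_left]
        intro y hy1 hy2
        exact (hW t).2.2 hy2 (subset_closure hy1)
      · show Disjoint (W s) U0
        rw [← TopologicalSpace.Opens.coe_disjoint, Set.disjoint_left]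
        intro y hy1 hy2
        exact (hW s).2.2 hy1 (subset_closure hy2)
      · show Disjoint (W s) (W t)
        exact hWdisj s t (fun h => hst (by rw [h]))
  refine ⟨_, haff, ?_, ?_⟩
  · exact TopologicalSpace.Opens.mem_iSup.mpr ⟨none, hxU0⟩
  · intro i
    by_cases hi : η i ∈ (U0 : Set X)
    · exact TopologicalSpace.Opens.mem_iSup.mpr ⟨none, hi⟩
    · exact TopologicalSpace.Opens.mem_iSup.mpr ⟨some ⟨η i, ⟨i, rfl⟩, hi⟩, (hW ⟨η i, ⟨i, rfl⟩, hi⟩).2.1⟩

end Groth.Agent.S7386
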