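import Groth.Statements.S7389
import Mathlib

set_option autoImplicit false
universe u
open CategoryTheory AlgebraicGeometry
open Mor

namespace Groth.Agent.S7389

/-- Let `X` be a scheme admitting an immersion into an affine scheme. Then any finite set of points of
`X` is contained in an affine open of `X`. -/
theorem result {X Y : Scheme.{u}} [IsAffine Y] (ι : X ⟶ Y)
    [IsImmersion ι] (E : Set X) (hE : E.Finite) :
    ∃ U : X.Opens, IsAffineOpen U ∧ E ⊆ U := by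
  rcases E.eq_empty_or_nonempty with rfl | ⟨x0, hx0⟩
  · exact ⟨⊥, isAffineOpen_bot X, Set.empty_subset _⟩
  have hY : IsAffineOpen (⊤ : Y.Opens) := isAffineOpen_top Y
  have hιU : ∀ x : X, ι x ∈ (ι.coborderRange : Set Y) := by
    intro x
    have h1 : ι.coborderRange.ι (ι.liftCoborder x) = ι x := by
      rw [← Scheme.Hom.comp_apply, ι.liftCoborder_ι]
    have h2 : ι.coborderRange.ι (ι.liftCoborder x) ∈ Set.range ι.coborderRange.ι := ⟨_, rfl⟩
    rw [Scheme.Opens.range_ι, h1] at h2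
    exact h2
  have hTcl : IsClosed (hY.fromSpec ⁻¹' ((ι.coborderRange : Set Y)ᶜ)) :=
    (ι.coborderRange.isOpen.isClosed_compl).preimage hY.fromSpec.continuous
  have hzl : PrimeSpectrum.zeroLocus
      (PrimeSpectrum.vanishingIdeal (hY.fromSpec ⁻¹' ((ι.coborderRange : Set Y)ᶜ)) :
        Set Γ(Y, ⊤)) = hY.fromSpec ⁻¹' ((ι.coborderRange : Set Y)ᶜ) := by
    rw [PrimeSpectrum.zeroLocus_vanishingIdeal_eq_closure]
    exact hTcl.closure_eq
  have hPspec : ∀ x : X, hY.fromSpec (hY.primeIdealOf ⟨ι x, trivial⟩) = ι x :=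
    fun x => hY.fromSpec_primeIdealOf ⟨ι x, trivial⟩
  have havoid : ¬ ((PrimeSpectrum.vanishingIdeal
      (hY.fromSpec ⁻¹' ((ι.coborderRange : Set Y)ᶜ)) : Set Γ(Y, ⊤)) ⊆
      ⋃ x ∈ (hE.toFinset : Set X),
        ((hY.primeIdealOf ⟨ι x, trivial⟩).asIdeal : Set Γ(Y, ⊤))) := by
    intro hsub
    obtain ⟨x, -, hle⟩ := (Ideal.subset_union_prime (s := hE.toFinset)
      (f := fun x : X => (hY.primeIdealOf ⟨ι x, trivial⟩).asIdeal) x0 x0
      (fun x _ _ _ => (hY.primeIdealOf ⟨ι x, trivial⟩).isPrime)).mp hsub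
    have h1 : hY.primeIdealOf ⟨ι x, trivial⟩ ∈ PrimeSpectrum.zeroLocus
        (PrimeSpectrum.vanishingIdeal (hY.fromSpec ⁻¹' ((ι.coborderRange : Set Y)ᶜ)) :
          Set Γ(Y, ⊤)) := by
      rw [PrimeSpectrum.mem_zeroLocus]
      exact hle
    rw [hzl] at h1
    have h2 : hY.fromSpec (hY.primeIdealOf ⟨ι x, trivial⟩) ∉ (ι.coborderRange : Set Y) := h1
    rw [hPspec] at h2
    exact h2 (hιU x)
  obtain ⟨f, hfI, hfP⟩ := Set.not_subset.mp havoid
  have hDU : Y.basicOpen f ≤ ι.coborderRange := by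
    intro y hy
    by_contra hyU
    obtain ⟨p, rfl⟩ : ∃ p, hY.fromSpec p = y := by
      have h : y ∈ Set.range hY.fromSpec := by
        rw [hY.range_fromSpec]
        trivial
      exact h
    have h1 : p ∈ hY.fromSpec ⁻¹ᵁ Y.basicOpen f := hy
    rw [hY.fromSpec_preimage_basicOpen] at h1
    apply h1
    exact (PrimeSpectrum.mem_vanishingIdeal _ _).mp hfI p hyU
  have hDaff : IsAffineOpen (Y.basicOpen f) := hY.basicOpen f
  have h1 : IsAffineOpen (ι.coborderRange.ι ⁻¹ᵁ Y.basicOpen f) :=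
    hDaff.preimage_of_isOpenImmersion _ (by rw [Scheme.Opens.opensRange_ι]; exact hDU)
  have h2 : IsAffineOpen (ι.liftCoborder ⁻¹ᵁ (ι.coborderRange.ι ⁻¹ᵁ Y.basicOpen f)) :=
    h1.preimage _
  refine ⟨ι.liftCoborder ⁻¹ᵁ (ι.coborderRange.ι ⁻¹ᵁ Y.basicOpen f), h2, ?_⟩
  intro x hxE
  show ι.coborderRange.ι (ι.liftCoborder x) ∈ Y.basicOpen f
  rw [← Scheme.Hom.comp_apply, ι.liftCoborder_ι, ← hPspec x]
  have h3 : hY.primeIdealOf ⟨ι x, trivial⟩ ∈ hY.fromSpec ⁻¹ᵁ Y.basicOpen f := by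
    rw [hY.fromSpec_preimage_basicOpen]
    intro hmem
    apply hfP
    simp only [Set.mem_iUnion]
    exact ⟨x, by simpa using hxE, hmem⟩
  exact h3

end Groth.Agent.S7389
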