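import Groth.Statements.S7397
import Mathlib


set_option autoImplicit false
universe u
open Mor

namespace Groth.Agent.S7397

/-- Let `A ⊆ B` be a ring extension and `b ∈ B`, `b ∉ A`, with `b^n, b^(n+1) ∈ A` for some `n ≥ 2`. Then
some `b' ∈ B` with `b' ∉ A` has `b'^2 ∈ A` and `b'^3 ∈ A`. -/
theorem result {B : Type u} [CommRing B] (A : Subring B) (b : B) (hb : b ∉ A)
    (n : ℕ) (hn : 2 ≤ n) (h1 : b ^ n ∈ A) (h2 : b ^ (n + 1) ∈ A) :
    ∃ b' : B, b' ∉ A ∧ b' ^ 2 ∈ A ∧ b' ^ 3 ∈ A := by
  classical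
  have hP : ∃ N : ℕ, ∀ m, N ≤ m → b ^ m ∈ A := by
    refine ⟨n * n, fun m hm => ?_⟩
    have hn0 : 0 < n := by omega
    have hq : n ≤ m / n := (Nat.le_div_iff_mul_le hn0).mpr hm
    have hr : m % n < n := Nat.mod_lt _ hn0
    have hm' : m = n * (m / n - m % n) + (n + 1) * (m % n) := by
      have h := Nat.div_add_mod m n
      have hle : m % n ≤ m / n := by omega
      generalize m / n = q at h hle hq
      generalize m % n = r at h hle hr
      obtain ⟨d, rfl⟩ := Nat.exists_eq_add_of_le hle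
      rw [Nat.add_sub_cancel_left, ← h]
      ring
    rw [hm', pow_add, pow_mul, pow_mul]
    exact A.mul_mem (A.pow_mem h1 _) (A.pow_mem h2 _)
  have hN := Nat.find_spec hP
  have hmin := fun k => Nat.find_min hP (m := k)
  set N := Nat.find hP with hNdef
  have hN2 : 2 ≤ N := by
    by_contra hlt
    exact hb (by simpa using hN 1 (by omega))
  have hb' : b ^ (N - 1) ∉ A := by
    intro hmem
    apply hmin (N - 1) (by omega)
    intro m hm
    rcases Nat.eq_or_lt_of_le hm with h | h
    · rw [← h]; exact hmem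
    · exact hN m (by omega)
  refine ⟨b ^ (N - 1), hb', ?_, ?_⟩
  · rw [← pow_mul]; exact hN _ (by omega)
  · rw [← pow_mul]; exact hN _ (by omega)

end Groth.Agent.S7397
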