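import Groth.Statements.S7405
import Mathlib
import Groth.Agent.Lib.helper4.UHR7


set_option autoImplicit false
universe u
open CategoryTheory AlgebraicGeometry
open Mor

namespace Groth.Agent.S7405

open Groth.Agent.Lib.helper4

/-- Let `A` be a ring and `B` the colimit of a filtered diagram `j ↦ B_j` of `A`-algebras. Each of the
following properties, when it holds for every `Spec B_j → Spec A`, holds for `Spec B → Spec A`:
being a universal homeomorphism; being a universal homeomorphism with trivial residue field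
extensions; being universally closed; being both universally closed and universally injective. -/
theorem result (A : CommRingCat.{u}) {J : Type u} [SmallCategory J]
    [IsFiltered J] (F : J ⥤ Under A) (c : Limits.Cocone F) (hc : Limits.IsColimit c) :
    ((∀ j, FlatMor.IsUnivHomeo (Spec.map (F.obj j).hom)) → FlatMor.IsUnivHomeo (Spec.map c.pt.hom)) ∧
    ((∀ j, FlatMor.IsUnivHomeo (Spec.map (F.obj j).hom) ∧
        ∀ x : Spec (F.obj j).right, Function.Surjective ((Spec.map (F.obj j).hom).residueFieldMap x)) →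
      FlatMor.IsUnivHomeo (Spec.map c.pt.hom) ∧
        ∀ x : Spec c.pt.right, Function.Surjective ((Spec.map c.pt.hom).residueFieldMap x)) ∧
    ((∀ j, UniversallyClosed (Spec.map (F.obj j).hom)) → UniversallyClosed (Spec.map c.pt.hom)) ∧
    ((∀ j, UniversallyClosed (Spec.map (F.obj j).hom) ∧ UniversallyInjective (Spec.map (F.obj j).hom)) →
      UniversallyClosed (Spec.map c.pt.hom) ∧ UniversallyInjective (Spec.map c.pt.hom)) := by
  have hD := Limits.isColimitOfPreserves (Under.forget A) hc
  have hsurj : ∀ b : c.pt.right, ∃ (j : J) (x : (F.obj j).right),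
      (c.ι.app j).right.hom x = b := by
    intro b
    obtain ⟨j, y, hy⟩ := Limits.Concrete.isColimit_exists_rep (F ⋙ Under.forget A) hD b
    exact ⟨j, y, hy⟩
  have hinj : ∀ (j : J) (x : (F.obj j).right), (c.ι.app j).right.hom x = 0 →
      ∃ (k : J) (f : j ⟶ k), (F.map f).right.hom x = 0 := by
    intro j x hx
    obtain ⟨k, f, g, hfg⟩ := Limits.Concrete.isColimit_exists_of_rep_eq (F ⋙ Under.forget A) hD x
      (0 : (F.obj j).right) (by
        show (c.ι.app j).right.hom x = (c.ι.app j).right.hom 0
        rw [hx, map_zero])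
    refine ⟨k, f, ?_⟩
    have h2 : (F.map f).right.hom x = (F.map g).right.hom 0 := hfg
    rw [h2, map_zero]
  have hcomp : ∀ j, ((c.ι.app j).right.hom).comp ((F.obj j).hom.hom) = c.pt.hom.hom := by
    intro j
    have h1 := Under.w (c.ι.app j)
    have h2 := congrArg CommRingCat.Hom.hom h1
    exact h2
  have hcompF : ∀ (j k : J) (f : j ⟶ k),
      ((F.map f).right.hom).comp ((F.obj j).hom.hom) = (F.obj k).hom.hom := by
    intro j k f
    have h1 := Under.w (F.map f)
    have h2 := congrArg CommRingCat.Hom.hom h1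
    exact h2
  obtain ⟨hI, hP, hR⟩ := uhr_colim_aux c.pt.hom.hom (fun j => (F.obj j).right)
    (fun j => (F.obj j).hom.hom) (fun j => (c.ι.app j).right.hom) hcomp hsurj
  have hUH : (∀ j, RUH (F.obj j).hom.hom) → RUH c.pt.hom.hom := by
    intro h
    have hint := hI (fun j => (h j).1)
    refine ⟨hint, uhr_comap_surj _ hint ?_, hP (fun j => (h j).2.2)⟩
    intro a ha
    obtain ⟨j₀⟩ := IsFiltered.nonempty (C := J)
    have h1 : (c.ι.app j₀).right.hom ((F.obj j₀).hom.hom a) = 0 := by
      have h2 := congrFun (congrArg DFunLike.coe (hcomp j₀)) a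
      exact h2.trans ((RingHom.mem_ker).mp ha)
    obtain ⟨k, f, hf⟩ := hinj j₀ _ h1
    have h3 : (F.obj k).hom.hom a = 0 := by
      have h4 := congrFun (congrArg DFunLike.coe (hcompF j₀ k f)) a
      exact h4.symm.trans hf
    exact uhr_ker_nil _ (h k).2.1 ((RingHom.mem_ker).mpr h3)
  refine ⟨?_, ?_, ?_, ?_⟩
  · intro h
    exact (uhr_iff c.pt.hom.hom).mpr (hUH (fun j => (uhr_iff (F.obj j).hom.hom).mp (h j)))
  · intro h
    refine ⟨(uhr_iff c.pt.hom.hom).mpr (hUH (fun j => (uhr_iff (F.obj j).hom.hom).mp (h j).1)), ?_⟩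
    exact (uhr_resSurj_iff c.pt.hom.hom).mpr
      (hR (fun j => (uhr_resSurj_iff (F.obj j).hom.hom).mp (h j).2))
  · intro h
    exact (uhr_uc_iff c.pt.hom.hom).mpr (hI (fun j => (uhr_uc_iff (F.obj j).hom.hom).mp (h j)))
  · intro h
    refine ⟨(uhr_uc_iff c.pt.hom.hom).mpr
      (hI (fun j => (uhr_uc_iff (F.obj j).hom.hom).mp (h j).1)), ?_⟩
    exact (Groth.Agent.Lib.helper7.uh_universallyInjective_iff c.pt.hom.hom).mpr
      (hP (fun j => (Groth.Agent.Lib.helper7.uh_universallyInjective_iff
        (F.obj j).hom.hom).mp (h j).2))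

end Groth.Agent.S7405
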