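import Groth.Statements.S7412
import Mathlib

set_option autoImplicit false
universe u
open Desc

namespace Groth.Agent.S7412

theorem nat_homEquiv {R : Type u} [CommRing R] {M N : Type u} [AddCommGroup M] [Module R M]
    [AddCommGroup N] [Module R N] (f : M →ₗ[R] N) (P : Type u) [AddCommGroup P] [Module R P]
    (φ : P →ₗ[R] CharacterModule N) :
    CharacterModule.dual (f.lTensor P) (CharacterModule.homEquiv φ) =
      CharacterModule.homEquiv ((CharacterModule.dual f) ∘ₗ φ) := by
  apply CharacterModule.ext
  intro z
  induction z using TensorProduct.induction_on with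
  | zero => simp
  | tmul p m => rfl
  | add x y hx hy => rw [map_add, map_add, hx, hy]


/-- Let `R` be a ring and `f : M → N` a map of `R`-modules. Then `f` is universally injective (`f ⊗ 1_P`
is injective for every `R`-module `P`; here `P` ranges over modules in the same universe, which
suffices) if and only if the map of character modules `C(N) → C(M)`, `C(-) = Hom_ℤ(-, ℚ/ℤ)`, is a
split surjection of `R`-modules. -/
theorem result {R : Type u} [CommRing R] {M N : Type u}
    [AddCommGroup M] [Module R M] [AddCommGroup N] [Module R N] (f : M →ₗ[R] N) :
    (∀ (P : Type u) [AddCommGroup P] [Module R P], Function.Injective (f.lTensor P)) ↔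
      ∃ g : CharacterModule M →ₗ[R] CharacterModule N, (CharacterModule.dual f).comp g = LinearMap.id := by
  constructor
  · intro h
    have hsurj := (CharacterModule.dual_surjective_iff_injective
      (f := f.lTensor (CharacterModule M))).mpr (h (CharacterModule M))
    obtain ⟨χ', hχ'⟩ := hsurj (CharacterModule.homEquiv
      (LinearMap.id : CharacterModule M →ₗ[R] CharacterModule M))
    refine ⟨CharacterModule.homEquiv.symm χ', ?_⟩
    apply CharacterModule.homEquiv.injective
    rw [← nat_homEquiv, LinearEquiv.apply_symm_apply, hχ']
  · rintro ⟨g, hg⟩ P _ _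
    rw [← CharacterModule.dual_surjective_iff_injective]
    intro χ
    refine ⟨CharacterModule.homEquiv (g ∘ₗ CharacterModule.homEquiv.symm χ), ?_⟩
    rw [nat_homEquiv, ← LinearMap.comp_assoc, hg, LinearMap.id_comp, LinearEquiv.apply_symm_apply]

end Groth.Agent.S7412
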