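import Groth.Statements.S7415
import Mathlib

set_option autoImplicit false
universe u
open CategoryTheory AlgebraicGeometry
open Mor

namespace Groth.Agent.S7415

/-- Let `X` be a reduced scheme with finitely many irreducible components and `x ∈ X`. Then `x` has an
affine open neighbourhood `U` such that `O_X(U) → O_{X,x}` is injective. -/
theorem result (X : Scheme.{u}) [AlgebraicGeometry.IsReduced X]
    (hirr : (irreducibleComponents (X : Type u)).Finite) (x : X) : X.IsGermInjectiveAt x := by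
  have hBcl : IsClosed (⋃ Z ∈ {Z ∈ irreducibleComponents (X : Type u) | x ∉ Z}, (Z : Set X)) := by
    refine Set.Finite.isClosed_biUnion (hirr.subset (fun Z hZ => hZ.1)) ?_
    intro Z hZ
    exact isClosed_of_mem_irreducibleComponents Z hZ.1
  have hxB : x ∈ (⋃ Z ∈ {Z ∈ irreducibleComponents (X : Type u) | x ∉ Z}, (Z : Set X))ᶜ := by
    intro hx
    simp only [Set.mem_iUnion] at hx
    obtain ⟨Z, ⟨hZ, hxZ⟩, hx⟩ := hx
    exact hxZ hx
  obtain ⟨_, ⟨U, hU, rfl⟩, hxU, hUB⟩ :=
    X.isBasis_affineOpens.exists_subset_of_mem_open hxB hBcl.isOpen_compl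
  refine ⟨⟨U, hxU, hU, ?_⟩⟩
  rw [injective_iff_map_eq_zero]
  intro s hs
  obtain ⟨W, hxW, iU, iV, hsW⟩ := X.presheaf.germ_eq x hxU hxU s 0 (by rw [hs, map_zero])
  rw [map_zero] at hsW
  apply eq_zero_of_basicOpen_eq_bot
  rw [← TopologicalSpace.Opens.not_nonempty_iff_eq_bot]
  rintro ⟨y, hy⟩
  have hyU : y ∈ U := X.basicOpen_le s hy
  have hZy := irreducibleComponent_mem_irreducibleComponents y
  have hxZ : x ∈ irreducibleComponent y := by
    by_contra hxZ
    apply hUB hyU
    simp only [Set.mem_iUnion]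
    exact ⟨irreducibleComponent y, ⟨hZy, hxZ⟩, mem_irreducibleComponent⟩
  have hpre : IsPreirreducible (irreducibleComponent y) := hZy.1.isPreirreducible
  obtain ⟨z, hzZ, hz1, hz2⟩ := hpre (X.basicOpen s) W (X.basicOpen s).isOpen W.isOpen
    ⟨y, mem_irreducibleComponent, hy⟩ ⟨x, hxZ, hxW⟩
  have h1 : X.basicOpen (X.presheaf.map iU.op s) = W ⊓ X.basicOpen s := X.basicOpen_res s iU.op
  rw [hsW, Scheme.basicOpen_zero] at h1
  have h2 : z ∈ W ⊓ X.basicOpen s := ⟨hz2, hz1⟩
  rw [← h1] at h2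
  exact h2

end Groth.Agent.S7415
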