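import Groth.Statements.S7416
import Mathlib

set_option autoImplicit false
universe u
open CategoryTheory AlgebraicGeometry
open Mor

namespace Groth.Agent.S7416

/-- Let `U`, `V` be affine schemes and `W → U`, `W → V` open immersions. Then every `w ∈ W` has an open
neighbourhood `W' ⊆ W` whose images in `U` and in `V` are standard opens `D(f) ⊆ U`, `D(g) ⊆ V` (in
particular `W'` is affine). -/
theorem result {U V W : Scheme.{u}} [IsAffine U]
    [IsAffine V] (i : W ⟶ U) (j : W ⟶ V) [IsOpenImmersion i] [IsOpenImmersion j] (w : W) :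
    ∃ (W' : W.Opens) (f : Γ(U, ⊤)) (g : Γ(V, ⊤)), w ∈ W' ∧ i ''ᵁ W' = U.basicOpen f ∧ j ''ᵁ W' = V.basicOpen g := by
  classical
  obtain ⟨f₀, hf₀le, hf₀w⟩ := (isAffineOpen_top U).exists_basicOpen_le (V := i.opensRange)
    ⟨i w, ⟨w, rfl⟩⟩ trivial
  have hW₁ : IsAffineOpen (i ⁻¹ᵁ U.basicOpen f₀) := by
    have hO : IsAffineOpen (U.basicOpen f₀) := (isAffineOpen_top U).basicOpen f₀
    rw [← Scheme.Hom.isAffineOpen_iff_of_isOpenImmersion i]
    convert hO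
    exact SetLike.coe_injective (Set.image_preimage_eq_of_subset hf₀le)
  have hjW₁ : j w ∈ j ''ᵁ (i ⁻¹ᵁ U.basicOpen f₀) := ⟨w, hf₀w, rfl⟩
  obtain ⟨g₀, hg₀le, hg₀w⟩ := (isAffineOpen_top V).exists_basicOpen_le
    (V := j ''ᵁ (i ⁻¹ᵁ U.basicOpen f₀)) ⟨j w, hjW₁⟩ trivial
  have hW₂le : j ⁻¹ᵁ (V.basicOpen g₀) ≤ i ⁻¹ᵁ U.basicOpen f₀ := by
    intro x hx
    obtain ⟨x', hx', hxx'⟩ := hg₀le hx
    have : x' = x := j.isOpenEmbedding.injective hxx'
    rw [← this]; exact hx'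
  have hjW₂ : j ''ᵁ (j ⁻¹ᵁ (V.basicOpen g₀)) = V.basicOpen g₀ := by
    have hsub : (V.basicOpen g₀ : Set V) ⊆ Set.range j := by
      intro y hy
      obtain ⟨x, _, hx⟩ := hg₀le hy
      exact ⟨x, hx⟩
    exact SetLike.coe_injective (Set.image_preimage_eq_of_subset hsub)
  haveI : IsIso (i.app (U.basicOpen f₀)) := i.isIso_app _ hf₀le
  obtain ⟨t, hts⟩ := (ConcreteCategory.bijective_of_isIso (i.app (U.basicOpen f₀))).2
    (W.presheaf.map (homOfLE (le_top : i ⁻¹ᵁ U.basicOpen f₀ ≤ ⊤)).op (j.appTop g₀))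
  obtain ⟨f', hf'⟩ := (isAffineOpen_top U).basicOpen_basicOpen_is_basicOpen f₀ t
  have e1 : j ⁻¹ᵁ (V.basicOpen g₀) = W.basicOpen (j.appTop g₀) := Scheme.preimage_basicOpen j g₀
  have hpre : i ⁻¹ᵁ (U.basicOpen t) = j ⁻¹ᵁ (V.basicOpen g₀) := by
    rw [Scheme.preimage_basicOpen, hts, Scheme.basicOpen_res, e1]
    exact inf_eq_right.mpr (e1 ▸ hW₂le)
  refine ⟨j ⁻¹ᵁ (V.basicOpen g₀), f', g₀, hg₀w, ?_, hjW₂⟩
  rw [hf', ← hpre]
  apply SetLike.coe_injective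
  exact Set.image_preimage_eq_of_subset (fun y hy => hf₀le (U.basicOpen_le t hy))

end Groth.Agent.S7416
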