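import Groth.Statements.S7418
import Mathlib
import Groth.Agent.Lib.helper4.SNLoc


set_option autoImplicit false
universe u
open CategoryTheory AlgebraicGeometry
open HTop

namespace Groth.Agent.S7418

open Groth.Agent.Lib.helper4

/-- Being seminormal is a local property of rings: it passes to the localizations `A_f`, and if `f_1, …,
f_n` generate the unit ideal of `A` and each `A_{f_i}` is seminormal then `A` is seminormal. -/
theorem result :
    (∀ (A : Type u) [CommRing A] (f : A), HTop.IsSeminormalRing A → HTop.IsSeminormalRing (Localization.Away f)) ∧
    ∀ (A : Type u) [CommRing A] (s : Finset A), Ideal.span (s : Set A) = ⊤ →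
      (∀ f ∈ s, HTop.IsSeminormalRing (Localization.Away f)) → HTop.IsSeminormalRing A := by
  refine ⟨fun A _ f h => sn_loc f _ h, fun A _ s hs h => ?_⟩
  have hr : Set.range (fun i : s => (i : A)) = (s : Set A) := by
    ext x; simp
  exact sn_glue (fun i : s => (i : A)) (by rw [hr]; exact hs) (fun i : s => Localization.Away (i : A))
    (fun i => h i.1 i.2)

end Groth.Agent.S7418
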