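import Groth.Statements.S7420
import Mathlib
import Groth.Agent.Lib.helper4.SNLoc2


set_option autoImplicit false
universe u
open CategoryTheory AlgebraicGeometry
open HTop

namespace Groth.Agent.S7420

open Groth.Agent.Lib.helper4

/-- A scheme `X` is seminormal if and only if `O_X(U)` is seminormal for every affine open `U ⊆ X`; the
same holds with 'seminormal' replaced by 'absolutely weakly normal'. -/
theorem result (X : Scheme.{u}) :
    (HTop.IsSeminormal X ↔ ∀ U : X.affineOpens, HTop.IsSeminormalRing Γ(X, U)) ∧
    (HTop.IsAWN X ↔ ∀ U : X.affineOpens, HTop.IsAWNRing Γ(X, U)) := by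
  constructor
  · exact affine_local (fun A _ => HTop.IsSeminormalRing A)
      (fun A _ f B _ _ _ h => sn_loc f B h)
      (fun A _ ι _ f hf B _ _ _ h => sn_glue f hf B h) X
  · exact affine_local (fun A _ => HTop.IsAWNRing A)
      (fun A _ f B _ _ _ h => awn_loc f B h)
      (fun A _ ι _ f hf B _ _ _ h => awn_glue f hf B h) X

end Groth.Agent.S7420
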