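import Groth.Statements.S7423
import Mathlib
import Groth.Agent.Lib.helper4.UHR6


set_option autoImplicit false
universe u
open CategoryTheory AlgebraicGeometry
open HTop

namespace Groth.Agent.S7423

open Groth.Agent.Lib.helper4

/-- Let `φ : A → A^awn` be an absolute weak normalization and `ψ : A → B` a ring map inducing a
universal homeomorphism on spectra. Then `B` is absolutely weakly normal exactly when the induced
map `χ : B → A^awn` with `χ ∘ ψ = φ` is an isomorphism. -/
theorem result {A B W : Type u} [CommRing A] [CommRing B] [CommRing W]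
    (φ : A →+* W) (hφ : HTop.IsRingAWN φ) (ψ : A →+* B)
    (hψ : FlatMor.IsUnivHomeo (Spec.map (CommRingCat.ofHom ψ))) (χ : B →+* W) (hχ : χ.comp ψ = φ) :
    Function.Bijective χ ↔ HTop.IsAWNRing B := by
  have hU : RUH φ := (uhr_iff φ).mp hφ.1
  have huniv : ∀ (C : Type u) [CommRing C] (ψ : A →+* C), RUH ψ →
      ∃! χ : C →+* W, χ.comp ψ = φ :=
    fun C _ ψ' hψ' => hφ.2 C ψ' ((uhr_iff ψ').mpr hψ')
  have hψ' : RUH ψ := (uhr_iff ψ).mp hψ
  have hχU : RUH χ := uhr_cancel ψ χ hψ' (by rw [hχ]; exact hU)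
  constructor
  · intro hbij
    exact uhr_isAWNRing_of_bij χ hbij (uhr_awn_isAWNRing φ hU huniv)
  · intro hB
    haveI := uhr_awn_reduced φ hU huniv
    exact uhr_bij_of_isAWNRing χ hχU hB

end Groth.Agent.S7423
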