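import Groth.Statements.S7424
import Mathlib
import Groth.Agent.Lib.helper4.AWN4


set_option autoImplicit false
universe u
open CategoryTheory AlgebraicGeometry
open HTop

namespace Groth.Agent.S7424

open Groth.Agent.Lib.helper4

/-- Every scheme `X` has an absolute weak normalization `X^awn → X`: a universal homeomorphism to `X`
which is initial among universal homeomorphisms with target `X`. -/
theorem result (X : Scheme.{u}) :
    ∃ (X' : Scheme.{u}) (ν : X' ⟶ X), HTop.IsAWNormalization ν := by
  exact ⟨awnScheme X, awnν X, awnν_isUnivHomeo X, fun Y π hπ =>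
    ⟨uhLift π hπ, uhLift_comp π hπ, fun h' hh' => uhLift_unique π hπ h' hh'⟩⟩

end Groth.Agent.S7424
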