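import Groth.Statements.S7426
import Mathlib
import Groth.Agent.Lib.helper4.AWN6


set_option autoImplicit false
universe u
open CategoryTheory AlgebraicGeometry
open HTop

namespace Groth.Agent.S7426

open Groth.Agent.Lib.helper4

/-- For a scheme `X` the following are equivalent: `X` is absolutely weakly normal; `X^awn → X` is an
isomorphism (equivalently, the identity of `X` is an absolute weak normalization); every universal
homeomorphism `Y → X` with `Y` reduced is an isomorphism. -/
theorem result (X : Scheme.{u}) :
    (HTop.IsAWN X ↔ HTop.IsAWNormalization (𝟙 X)) ∧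
    (HTop.IsAWN X ↔ ∀ (Y : Scheme.{u}) (π : Y ⟶ X), FlatMor.IsUnivHomeo π → AlgebraicGeometry.IsReduced Y → IsIso π) := by
  refine ⟨⟨id_isAWNormalization_of_isAWN X, isAWN_of_id_isAWNormalization X⟩, ?_, ?_⟩
  · intro hX Y π hπ hY
    haveI := hY
    exact isIso_of_uh_of_isAWN π hπ hX
  · intro h
    haveI : IsIso (awnν X) := h _ (awnν X) (awnν_isUnivHomeo X) inferInstance
    exact isAWN_of_isIso_awnν X

end Groth.Agent.S7426
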