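import Groth.Statements.S7439
-- import your own Groth.Agent.* helpers here
import Mathlib

set_option autoImplicit false
universe u
open CategoryTheory AlgebraicGeometry
open BddFib

namespace Groth.Agent.S7439

/-- Every immersion has universally bounded fibres, with `1` as a bound for the degrees of its fibres. -/
theorem result {X Y : Scheme.{u}} (f : X ⟶ Y) [IsImmersion f] :
    BddFib.FibreDegLE f 1 := by
  intro y
  haveI : IsImmersion (f.fiberToSpecResidueField y) := by
    unfold Scheme.Hom.fiberToSpecResidueField
    exact MorphismProperty.pullback_snd (P := @IsImmersion) _ _ ‹_›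
  haveI : Subsingleton ↥(Spec (Y.residueField y)) :=
    inferInstanceAs (Subsingleton (PrimeSpectrum (Y.residueField y)))
  haveI : IsClosedImmersion (f.fiberToSpecResidueField y) := by
    apply IsClosedImmersion.of_isPreimmersion
    exact isClosed_discrete _
  obtain ⟨haff, hsurj⟩ :=
    IsClosedImmersion.isAffine_surjective_of_isAffine (f := f.fiberToSpecResidueField y)
  letI : Algebra (Y.residueField y) Γ(f.fiber y, ⊤) :=
    BddFib.secAlgebra (Y.residueField y) (f.fiberToSpecResidueField y)
  have hs : Function.Surjective (algebraMap (Y.residueField y) Γ(f.fiber y, ⊤)) := by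
    show Function.Surjective
      ((Scheme.ΓSpecIso (Y.residueField y)).inv ≫ (f.fiberToSpecResidueField y).appTop).hom
    rw [CommRingCat.hom_comp, RingHom.coe_comp]
    exact hsurj.comp
      (ConcreteCategory.bijective_of_isIso (Scheme.ΓSpecIso (Y.residueField y)).inv).2
  refine ⟨haff, Module.Finite.of_surjective (Algebra.linearMap _ _) hs, ?_⟩
  exact finrank_le_one (1 : Γ(f.fiber y, ⊤)) (fun w => by
    obtain ⟨c, hc⟩ := hs w
    exact ⟨c, by rw [Algebra.smul_def, hc, mul_one]⟩)

end Groth.Agent.S7439
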