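import Groth.Statements.S7457
import Mathlib
import Groth.Agent.Lib.helper4.GrpdPts


set_option autoImplicit false
universe u
open CategoryTheory CategoryTheory.Limits AlgebraicGeometry
open Grpd

namespace Groth.Agent.S7457

open Groth.Agent.Lib.helper4

/-- Let (U, R, s, t, c) be a groupoid scheme over S. Let φ : R x_(t,U,t) R -> R x_(s,U,t) R be the
morphism sending a pair (a, b) with the same target to (a, a^{-1} composed with b), that is, the
morphism whose first component is the first projection and whose second component is c applied to (i
composed after the first projection, second projection). Then φ is an isomorphism and composed with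
c it gives the second projection. Moreover the square with sides c, the second projection R
x_(s,U,t) R -> R, s and s is cartesian. (A groupoid scheme carries U, R, s, t, c, e, i over S with
the groupoid axioms on T-points; c is defined on the fibre product of s and t and sends a pair (a,
b) with s(a) = t(b) to a composed with b.) -/
theorem result (S : Scheme.{u}) (G : Grpd.GroupoidScheme S) : (∀ φ : pullback G.t G.t ⟶ pullback G.s G.t, φ ≫ pullback.fst G.s G.t = pullback.fst G.t G.t → φ ≫ pullback.snd G.s G.t = pullback.lift (pullback.fst G.t G.t ≫ G.i) (pullback.snd G.t G.t) ((Category.assoc _ _ _).trans ((congrArg (fun x => pullback.fst G.t G.t ≫ x) G.i_s).trans pullback.condition)) ≫ G.c → IsIso φ ∧ φ ≫ G.c = pullback.snd G.t G.t) ∧ IsPullback G.c (pullback.snd G.s G.t) G.s G.s := by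
  have hid : pullback.lift (pullback.fst G.s G.t) (pullback.snd G.s G.t) pullback.condition =
      𝟙 (pullback G.s G.t) := by
    apply pullback.hom_ext
    · rw [pullback.lift_fst, Category.id_comp]
    · rw [pullback.lift_snd, Category.id_comp]
  have hc : G.c = gm G (pullback.fst G.s G.t) (pullback.snd G.s G.t) pullback.condition := by
    unfold gm
    rw [hid, Category.id_comp]
  have hct : G.c ≫ G.t = pullback.fst G.s G.t ≫ G.t := by
    conv_lhs => rw [hc]
    exact gm_t G _ _ _
  have hcs : G.c ≫ G.s = pullback.snd G.s G.t ≫ G.s := by
    conv_lhs => rw [hc]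
    exact gm_s G _ _ _
  refine ⟨?_, ?_⟩
  · intro φ h1 h2
    have h2' : φ ≫ pullback.snd G.s G.t =
        gm G (pullback.fst G.t G.t ≫ G.i) (pullback.snd G.t G.t)
          (by rw [Category.assoc, G.i_s]; exact pullback.condition) := h2
    have hφc : φ ≫ G.c = pullback.snd G.t G.t := by
      rw [comp_c G φ]
      calc gm G (φ ≫ pullback.fst G.s G.t) (φ ≫ pullback.snd G.s G.t) _
          = gm G (pullback.fst G.t G.t) (gm G (pullback.fst G.t G.t ≫ G.i) (pullback.snd G.t G.t)
              (by rw [Category.assoc, G.i_s]; exact pullback.condition))
              (by rw [gm_t, Category.assoc, G.i_t]) := gm_congr G h1 h2' _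
        _ = pullback.snd G.t G.t := gm_i_gm G _ _ pullback.condition
    refine ⟨⟨pullback.lift (pullback.fst G.s G.t) G.c hct.symm, ?_, ?_⟩, hφc⟩
    · apply pullback.hom_ext
      · rw [Category.assoc, pullback.lift_fst, h1, Category.id_comp]
      · rw [Category.assoc, pullback.lift_snd, hφc, Category.id_comp]
    · apply pullback.hom_ext
      · rw [Category.assoc, h1, pullback.lift_fst, Category.id_comp]
      · rw [Category.assoc, h2', precomp_gm, Category.id_comp]
        calc gm G (pullback.lift (pullback.fst G.s G.t) G.c hct.symm ≫ pullback.fst G.t G.t ≫ G.i)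
              (pullback.lift (pullback.fst G.s G.t) G.c hct.symm ≫ pullback.snd G.t G.t) _
            = gm G (pullback.fst G.s G.t ≫ G.i)
                (gm G (pullback.fst G.s G.t) (pullback.snd G.s G.t) pullback.condition)
                (by rw [Category.assoc, G.i_s, gm_t]) :=
              gm_congr G (by rw [← Category.assoc, pullback.lift_fst])
                (by rw [pullback.lift_snd]; exact hc) _
          _ = pullback.snd G.s G.t := i_gm_gm G _ _ _
  · refine IsPullback.mk ⟨hcs⟩ ⟨PullbackCone.IsLimit.mk _
      (fun cone => pullback.lift
        (gm G cone.fst (cone.snd ≫ G.i) (by rw [Category.assoc, G.i_t, cone.condition]))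
        cone.snd (by rw [gm_s, Category.assoc, G.i_s])) ?_ ?_ ?_⟩
    · intro cone
      rw [comp_c G]
      calc gm G (pullback.lift _ _ _ ≫ pullback.fst G.s G.t) (pullback.lift _ _ _ ≫ pullback.snd G.s G.t) _
          = gm G (gm G cone.fst (cone.snd ≫ G.i) (by rw [Category.assoc, G.i_t, cone.condition]))
              cone.snd (by rw [gm_s, Category.assoc, G.i_s]) :=
            gm_congr G (pullback.lift_fst _ _ _) (pullback.lift_snd _ _ _) _
        _ = cone.fst := gm_i_gm' G _ _ cone.condition
    · intro cone
      rw [pullback.lift_snd]
    · intro cone m hm1 hm2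
      apply pullback.hom_ext
      · rw [pullback.lift_fst]
        have hz : (m ≫ pullback.fst G.s G.t) ≫ G.s = (m ≫ pullback.snd G.s G.t) ≫ G.t := by
          rw [Category.assoc, Category.assoc, pullback.condition]
        have hx : cone.fst = gm G (m ≫ pullback.fst G.s G.t) (m ≫ pullback.snd G.s G.t) hz := by
          rw [← hm1, comp_c G m]
        calc m ≫ pullback.fst G.s G.t
            = gm G (gm G (m ≫ pullback.fst G.s G.t) (m ≫ pullback.snd G.s G.t) hz)
                ((m ≫ pullback.snd G.s G.t) ≫ G.i) (by rw [gm_s]; simp only [Category.assoc, G.i_t]) :=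
              (gm_gm_i G _ _ hz).symm
          _ = gm G cone.fst (cone.snd ≫ G.i) _ :=
              gm_congr G hx.symm (by rw [hm2]) _
      · rw [pullback.lift_snd, hm2]

end Groth.Agent.S7457
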