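import Groth.Statements.S7452
import Mathlib
import Groth.Agent.S7457


set_option autoImplicit false
universe u
open CategoryTheory CategoryTheory.Limits AlgebraicGeometry
open Grpd

namespace Groth.Agent.S7452

/-- Let (U, R, s, t, c) be a groupoid scheme over S with U the spectrum of a field. Then the composition
c : R x_(s,U,t) R -> R is an open map of topological spaces. (A groupoid scheme carries U, R, s, t,
c, e, i over S with the groupoid axioms on T-points; c is defined on the fibre product of s and t
and sends a pair (a, b) with s(a) = t(b) to a composed with b.) -/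
theorem result (S : Scheme.{u}) (G : Grpd.GroupoidScheme S) (k : Type u) [Field k] (eU : G.U ≅ Spec (CommRingCat.of k)) : IsOpenMap ⇑G.c := by
  have hIU : IsIntegral (Spec (CommRingCat.of k)) := inferInstance
  have hN : Nonempty G.U := ⟨eU.inv (IsLocalRing.closedPoint k)⟩
  have hI : IsIntegral G.U := isIntegral_of_isOpenImmersion eU.hom
  have hS : Subsingleton G.U := eU.hom.homeomorph.subsingleton
  have hcond : (pullback.fst G.t G.t ≫ G.i) ≫ G.s = pullback.snd G.t G.t ≫ G.t :=
    (Category.assoc _ _ _).trans ((congrArg (fun x => pullback.fst G.t G.t ≫ x) G.i_s).trans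
      pullback.condition)
  have hψt : (pullback.lift (pullback.fst G.t G.t ≫ G.i) (pullback.snd G.t G.t) hcond ≫ G.c) ≫ G.t
      = pullback.fst G.t G.t ≫ G.s := by
    rw [G.comp_t, Category.assoc, G.i_t]
  obtain ⟨hiso, hc⟩ := (Groth.Agent.S7457.result S G).1
    (pullback.lift (pullback.fst G.t G.t)
      (pullback.lift (pullback.fst G.t G.t ≫ G.i) (pullback.snd G.t G.t) hcond ≫ G.c) hψt.symm)
    (pullback.lift_fst _ _ _) (pullback.lift_snd _ _ _)
  have hc' : G.c = inv (pullback.lift (pullback.fst G.t G.t)
      (pullback.lift (pullback.fst G.t G.t ≫ G.i) (pullback.snd G.t G.t) hcond ≫ G.c) hψt.symm) ≫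
      pullback.snd G.t G.t := by
    rw [IsIso.eq_inv_comp, hc]
  have ho : UniversallyOpen (pullback.snd G.t G.t) := inferInstance
  rw [hc']
  have ho2 : UniversallyOpen (inv (pullback.lift (pullback.fst G.t G.t)
      (pullback.lift (pullback.fst G.t G.t ≫ G.i) (pullback.snd G.t G.t) hcond ≫ G.c) hψt.symm) ≫
      pullback.snd G.t G.t) := inferInstance
  exact Scheme.Hom.isOpenMap _

end Groth.Agent.S7452
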