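import Groth.Statements.S7458
import Mathlib

set_option autoImplicit false
universe u
open CategoryTheory MonoidalCategory CartesianMonoidalCategory MonObj GrpObj AlgebraicGeometry
open GrpSch

namespace Groth.Agent.S7458

/-- For a group scheme G over a scheme S, a scheme T flat over S and a morphism ψ : T -> G over S, the
map T x_S G -> G sending (t, g) to the product ψ(t)·g is a flat morphism; taking T = G and ψ the
identity, the multiplication G x_S G -> G is flat whenever G is flat over S. -/
theorem result (S : Scheme.{u}) (G : Over S) [GrpObj G] : (∀ (T : Over S) (ψ : T ⟶ G), Flat T.hom → Flat (ψ ▷ G ≫ μ[G]).left) ∧ (Flat G.hom → Flat μ[G].left) := by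
  have key : ∀ (T : Over S) (ψ : T ⟶ G), Flat T.hom → Flat (ψ ▷ G ≫ μ[G]).left := by
    intro T ψ hT
    have hm : ψ ▷ G ≫ μ[G] = (fst T G ≫ ψ) * snd T G := by
      rw [Hom.mul_def]
      congr 1
    let a : T ⊗ G ⟶ T ⊗ G := lift (fst T G) ((fst T G ≫ ψ) * snd T G)
    let b : T ⊗ G ⟶ T ⊗ G := lift (fst T G) ((fst T G ≫ ψ)⁻¹ * snd T G)
    have hab : a ≫ b = 𝟙 _ := by
      apply CartesianMonoidalCategory.hom_ext
      · simp [a, b]
      · simp only [a, b, Category.assoc, lift_snd, MonObj.comp_mul, GrpObj.comp_inv,
          lift_fst_assoc, Category.id_comp]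
        rw [inv_mul_cancel_left]
    have hba : b ≫ a = 𝟙 _ := by
      apply CartesianMonoidalCategory.hom_ext
      · simp [a, b]
      · simp only [a, b, Category.assoc, lift_snd, MonObj.comp_mul, GrpObj.comp_inv,
          lift_fst_assoc, Category.id_comp]
        rw [mul_inv_cancel_left]
    haveI : IsIso a := ⟨b, hab, hba⟩
    have hma : ψ ▷ G ≫ μ[G] = a ≫ snd T G := by rw [hm]; simp [a]
    rw [hma, Over.comp_left]
    haveI : IsIso a.left := (Over.forget S).map_isIso a
    haveI : Flat (snd T G).left := by
      rw [Over.snd_left]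
      infer_instance
    infer_instance
  refine ⟨key, fun hG => ?_⟩
  have := key G (𝟙 G) hG
  simpa using this

end Groth.Agent.S7458
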