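import Groth.Statements.S7459
import Mathlib

set_option autoImplicit false
universe u
open CategoryTheory MonoidalCategory CartesianMonoidalCategory MonObj GrpObj AlgebraicGeometry
open GrpSch

namespace Groth.Agent.S7459

/-- Let G be a group scheme over a field k, W an open subscheme of G and f : T -> G a morphism of
schemes (T becomes a k-scheme through f). Then the image of the composition T x_k W -> G x_k G -> G,
the second map being the multiplication, is open. -/
theorem result (K : Type u) [Field K] (G : Over (Spec (CommRingCat.of K))) [GrpObj G] (W : G.left.Opens) (T : Scheme.{u}) (f : T ⟶ G.left) : IsOpen (Set.range ⇑(((Over.homMk f rfl : Over.mk (f ≫ G.hom) ⟶ G) ⊗ₘ (Over.homMk W.ι rfl : Over.mk (W.ι ≫ G.hom) ⟶ G)) ≫ μ[G]).left) := by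
  set To : Over (Spec (CommRingCat.of K)) := Over.mk (f ≫ G.hom) with hTo
  set Wo : Over (Spec (CommRingCat.of K)) := Over.mk (W.ι ≫ G.hom) with hWo
  set fo : To ⟶ G := Over.homMk f rfl with hfo
  set wo : Wo ⟶ G := Over.homMk W.ι rfl with hwo
  let a : To ⊗ G ⟶ To ⊗ G := lift (fst To G) ((fst To G ≫ fo) * snd To G)
  let b : To ⊗ G ⟶ To ⊗ G := lift (fst To G) ((fst To G ≫ fo)⁻¹ * snd To G)
  have hab : a ≫ b = 𝟙 _ := by
    apply CartesianMonoidalCategory.hom_ext
    · simp [a, b]
    · simp only [a, b, Category.assoc, lift_snd, MonObj.comp_mul, GrpObj.comp_inv,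
        lift_fst_assoc, Category.id_comp]
      rw [inv_mul_cancel_left]
  have hba : b ≫ a = 𝟙 _ := by
    apply CartesianMonoidalCategory.hom_ext
    · simp [a, b]
    · simp only [a, b, Category.assoc, lift_snd, MonObj.comp_mul,
        lift_fst_assoc, Category.id_comp]
      rw [mul_inv_cancel_left]
  haveI : IsIso a := ⟨b, hab, hba⟩
  have hdecomp : (fo ⊗ₘ wo) ≫ μ[G] = (To ◁ wo) ≫ a ≫ snd To G := by
    have h1 : fo ⊗ₘ wo = (To ◁ wo) ≫ (fo ▷ G) := tensorHom_def' fo wo
    have hm : fo ▷ G ≫ μ[G] = (fst To G ≫ fo) * snd To G := by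
      rw [Hom.mul_def]
      congr 1
    rw [h1, Category.assoc, hm]; simp [a]
  rw [hdecomp]
  haveI : IsOpenImmersion wo.left := by
    show IsOpenImmersion W.ι; infer_instance
  haveI h1 : IsOpenImmersion (To ◁ wo).left := by
    rw [Over.whiskerLeft_left]; infer_instance
  haveI h2 : IsIso a.left := (Over.forget _).map_isIso a
  haveI : UniversallyOpen To.hom := by
    show UniversallyOpen (f ≫ G.hom); infer_instance
  haveI h3 : UniversallyOpen (snd To G).left := by
    rw [Over.snd_left]; infer_instance
  rw [Over.comp_left, Over.comp_left]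
  haveI : UniversallyOpen ((To ◁ wo).left ≫ a.left ≫ (snd To G).left) := inferInstance
  exact (Scheme.Hom.isOpenMap _).isOpen_range

end Groth.Agent.S7459
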