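import Groth.Statements.S7468
import Mathlib
import Groth.Agent.Lib.helper4.ValLift2


set_option autoImplicit false
universe w u
open HTop

namespace Groth.Agent.S7468

open Groth.Agent.Lib.helper4

open CategoryTheory CategoryTheory.Limits AlgebraicGeometry in
/-- If T is affine and a finite family is obtained by restricting one proper surjective morphism U -> T
to the pieces of a finite affine open cover of U, then the family is a standard V covering. -/
theorem result {T : Scheme.{u}} (E : PreZeroHypercover.{w} T) (hE : HTop.IsStandardPh E) : HTop.IsStandardV E := by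
  obtain ⟨hT, hfin, haff, U, f, ι, hprop, hsurj, hopen, hcomm, hcov⟩ := hE
  refine ⟨hT, hfin, haff, ?_⟩
  intro V _ _ γ
  have := hprop
  have := hsurj
  obtain ⟨w', hw'⟩ := (pullback.fst γ f).surjective (h4_genPt V)
  have hclosed : IsClosedMap (pullback.fst γ f) := (pullback.fst γ f).isClosedMap
  have hspec : pullback.fst γ f w' ⤳ IsLocalRing.closedPoint V := by
    rw [hw']; exact h4_genPt_specializes V _
  obtain ⟨w, hww, hwc⟩ := hclosed.specializingMap hspec
  obtain ⟨W, hWd, hWv, φ, hφ, g₀, hg₀⟩ := h4_exists_extVal_lift f V γ w' w hww hw' hwc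
  obtain ⟨j, hj⟩ := hcov (g₀ (IsLocalRing.closedPoint W))
  have := hopen j
  obtain ⟨l, hl⟩ := h4_exists_lift_of_closedPoint_mem (ι j) W g₀ hj
  refine ⟨W, hWd, hWv, φ, hφ, j, l, ?_⟩
  rw [← hcomm j, ← Category.assoc, hl, hg₀]

end Groth.Agent.S7468
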