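import Groth.Statements.S7472
import Mathlib
import Groth.Agent.Lib.helper4.VCover


set_option autoImplicit false
universe w u
open HTop

namespace Groth.Agent.S7472

open Groth.Agent.Lib.helper4

open CategoryTheory CategoryTheory.Limits AlgebraicGeometry in
/-- Let E be a V covering of a scheme T and, for every member T_i of E, let F_i be a V covering of T_i.
Then the composite family of all T_ij -> T is a V covering of T. -/
theorem result {T : Scheme.{u}} (E : PreZeroHypercover.{w} T) (hE : HTop.IsVCover E) (F : ∀ i, PreZeroHypercover.{w} (E.X i)) (hF : ∀ i, HTop.IsVCover (F i)) : HTop.IsVCover (E.bind F) := by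
  intro U
  obtain ⟨G, hG, hGref⟩ := hE U
  choose i h hh using hGref
  have hex : ∀ j, ∃ H : PreZeroHypercover.{0} (G.X j), IsStandardV H ∧ RefinesOver (h j) H (F (i j)) := by
    intro j
    have : IsAffine (G.X j) := hG.isAffine_obj j
    exact h4_vcover_affine (h j) (F (i j)) (hF (i j))
  choose H hH hHref using hex
  refine ⟨G.bind H, Groth.Agent.S7470.result G hG H hH, ?_⟩
  rintro ⟨j, l⟩
  obtain ⟨m, k, hk⟩ := hHref j l
  refine ⟨⟨i j, m⟩, k, ?_⟩
  change k ≫ (F (i j)).f m ≫ E.f (i j) = ((H j).f l ≫ G.f j) ≫ (U : T.Opens).ι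
  rw [← Category.assoc, hk, Category.assoc, hh, Category.assoc]

end Groth.Agent.S7472
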