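import Groth.Statements.S7474
import Mathlib
import Groth.Agent.Lib.helper4.VSheaf


set_option autoImplicit false
universe w u
open HTop

namespace Groth.Agent.S7474

open Groth.Agent.Lib.helper4

open CategoryTheory CategoryTheory.Limits AlgebraicGeometry in
/-- A presheaf F of sets on the category of all schemes has the sheaf property for every V covering
family exactly when F is a sheaf for the Zariski topology and has the sheaf property for each
standard V covering. -/
theorem result (F : Scheme.{u}ᵒᵖ ⥤ Type w) : HTop.IsVSheaf F ↔ (Presieve.IsSheaf Scheme.zariskiTopology F ∧ ∀ (T : Scheme.{u}) (E : PreZeroHypercover.{u} T), HTop.IsStandardV E → Presieve.IsSheafFor F E.presieve₀) := by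
  constructor
  · intro hF
    exact ⟨h4_zariski_of_isVSheaf F hF, fun T E hE => h4_stdV_of_isVSheaf F hF E hE⟩
  · rintro ⟨hZ, hstd⟩
    exact h4_isVSheaf_of F hZ hstd

end Groth.Agent.S7474
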