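import Groth.Statements.S7475
import Mathlib
import Groth.Agent.Lib.helper4.VSheaf


set_option autoImplicit false
universe w u
open HTop

namespace Groth.Agent.S7475

open Groth.Agent.Lib.helper4

open CategoryTheory CategoryTheory.Limits AlgebraicGeometry in
/-- Variant with a single arrow: a presheaf of sets on all schemes has the sheaf property for every V
covering family exactly when it is a Zariski sheaf and has the sheaf property for every morphism V
-> U of affine schemes that on its own forms a standard V covering. -/
theorem result (F : Scheme.{u}ᵒᵖ ⥤ Type w) : HTop.IsVSheaf F ↔ (Presieve.IsSheaf Scheme.zariskiTopology F ∧ ∀ (U V : Scheme.{u}) (f : V ⟶ U), HTop.IsStandardV (PreZeroHypercover.singleton f) → Presieve.IsSheafFor F (Presieve.singleton f)) := by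
  constructor
  · intro hF
    refine ⟨h4_zariski_of_isVSheaf F hF, fun U V f hf => ?_⟩
    have := h4_stdV_of_isVSheaf F hF _ hf
    rwa [PreZeroHypercover.presieve₀_singleton] at this
  · rintro ⟨hZ, hsing⟩
    refine h4_isVSheaf_of F hZ fun T E hE => ?_
    have hfin := hE.finite_index
    have haff := hE.isAffine_obj
    have hT := hE.isAffine
    have h1 : Presieve.IsSheafFor F (Presieve.singleton (Sigma.desc E.f)) := by
      refine hsing _ _ _ ⟨hT, ?_, fun _ => ?_, ?_⟩
      · change Finite PUnit
        infer_instance
      · change IsAffine (∐ E.X)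
        infer_instance
      · intro V _ _ g
        obtain ⟨W, hWd, hWv, φ, hφ, j, g', hg'⟩ := hE.lift V g
        refine ⟨W, hWd, hWv, φ, hφ, PUnit.unit, g' ≫ Sigma.ι E.X j, ?_⟩
        change (g' ≫ Sigma.ι E.X j) ≫ Sigma.desc E.f = Spec.map φ ≫ g
        rw [Category.assoc, Sigma.ι_desc, hg']
    have : PreservesLimitsOfShape (Discrete (E.I₀ × E.I₀)) F :=
      preservesLimitsOfShape_discrete_of_isSheaf_zariskiTopology hZ
    have : PreservesLimitsOfShape (Discrete E.I₀) F :=
      preservesLimitsOfShape_discrete_of_isSheaf_zariskiTopology hZ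
    have h2 := (Presieve.isSheafFor_sigmaDesc_iff E.f (coproductIsCoproduct _)
      (FinitaryExtensive.isVanKampen_finiteCoproducts (coproductIsCoproduct _)).isUniversal F).mp h1
    exact h2

end Groth.Agent.S7475
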