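import Groth.Statements.S7476
import Mathlib
import Groth.Agent.Lib.helper4.ValLift


set_option autoImplicit false
universe w u
open HTop

namespace Groth.Agent.S7476

open Groth.Agent.Lib.helper4

open CategoryTheory CategoryTheory.Limits AlgebraicGeometry in
/-- Let f : X -> Y be a quasi-compact morphism of schemes. Then the one-member family of f is a V
covering if and only if every morphism from the spectrum of a valuation ring to Y lifts to X after
an extension of valuation rings; and the latter holds if and only if for every morphism Z -> Y and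
every specialization z' ⤳ z of points of Z there is a specialization w' ⤳ w of points of Z x_Y X
mapping to z' ⤳ z. -/
theorem result {X Y : Scheme.{u}} (f : X ⟶ Y) [QuasiCompact f] : (HTop.IsVCover (PreZeroHypercover.singleton f) ↔ HTop.HasValLift (PreZeroHypercover.singleton f)) ∧ (HTop.HasValLift (PreZeroHypercover.singleton f) ↔ ∀ (Z : Scheme.{u}) (g : Z ⟶ Y) (z' z : Z), z' ⤳ z → ∃ w' w : ↑(pullback g f), w' ⤳ w ∧ pullback.fst g f w' = z' ∧ pullback.fst g f w = z) := by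
  refine ⟨⟨fun hV => ?_, fun hL => ?_⟩, ⟨fun hL => ?_, fun hS => ?_⟩⟩
  · -- IsVCover → HasValLift
    intro V _ _ γ
    obtain ⟨_, ⟨U, hU, rfl⟩, hyU, -⟩ := Y.isBasis_affineOpens.exists_subset_of_mem_open
      (Set.mem_univ (γ (IsLocalRing.closedPoint V))) isOpen_univ
    have htop : γ ⁻¹ᵁ U = ⊤ := Scheme.preimage_eq_top_of_closedPoint_mem γ hyU
    have hrange : Set.range γ ⊆ Set.range (Scheme.Opens.ι U) := by
      rintro _ ⟨y, rfl⟩
      have hy : y ∈ γ ⁻¹ᵁ U := by rw [htop]; trivial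
      simpa using hy
    obtain ⟨γ', hγ'⟩ : ∃ l : Spec V ⟶ (Scheme.Opens.toScheme U), l ≫ Scheme.Opens.ι U = γ :=
      ⟨IsOpenImmersion.lift (Scheme.Opens.ι U) γ hrange, IsOpenImmersion.lift_fac _ _ _⟩
    obtain ⟨F, hF, hFref⟩ := hV ⟨U, hU⟩
    obtain ⟨W, hWd, hWv, φ, hφ, j, g', hg'⟩ := hF.lift V γ'
    obtain ⟨i, h, hh⟩ := hFref j
    obtain ⟨h₀, hh₀⟩ : ∃ h₀ : F.X j ⟶ X, h₀ ≫ f = F.f j ≫ Scheme.Opens.ι U := ⟨h, hh⟩
    refine ⟨W, hWd, hWv, φ, hφ, PUnit.unit, g' ≫ h₀, ?_⟩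
    change (g' ≫ h₀) ≫ f = Spec.map φ ≫ γ
    rw [Category.assoc, hh₀, ← Category.assoc, hg', Category.assoc, hγ']
  · -- HasValLift → IsVCover (uses quasi-compactness)
    intro U
    have hK : IsCompact ((f ⁻¹ᵁ (U : Y.Opens) : X.Opens) : Set X) :=
      Scheme.Hom.isCompact_preimage f U.2.isCompact
    obtain ⟨n, W, hWaff, hWle, hWcov⟩ := h4_finite_affine_cover (f ⁻¹ᵁ (U : Y.Opens)) hK
    let F : PreZeroHypercover.{0} ((U : Y.Opens) : Scheme.{u}) :=
      ⟨Fin n, fun k => ((W k : X.Opens) : Scheme.{u}), fun k => f.resLE (U : Y.Opens) (W k) (hWle k)⟩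
    refine ⟨F, ⟨U.2, (inferInstance : Finite (Fin n)), fun k => hWaff k, ?_⟩, ?_⟩
    · intro V _ _ γ
      obtain ⟨W', hWd, hWv, φ, hφ, j, g', hg'⟩ := hL V (γ ≫ (U : Y.Opens).ι)
      obtain ⟨g₀, hg''⟩ : ∃ g₀ : Spec W' ⟶ X, g₀ ≫ f = Spec.map φ ≫ γ ≫ (U : Y.Opens).ι :=
        ⟨g', hg'⟩
      have hmem : ∀ c : ↥(Spec W'), g₀ c ∈ f ⁻¹ᵁ (U : Y.Opens) := by
        intro c
        change f (g₀ c) ∈ (U : Y.Opens)
        rw [h4_comp_apply_eq' g₀ f (Spec.map φ ≫ γ) (U : Y.Opens).ι (by rw [hg'', Category.assoc]) c]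
        exact ((Spec.map φ ≫ γ) c).2
      obtain ⟨k, hk⟩ := hWcov _ (hmem (IsLocalRing.closedPoint W'))
      have htop : g₀ ⁻¹ᵁ (W k) = ⊤ := Scheme.preimage_eq_top_of_closedPoint_mem g₀ hk
      have hrange : Set.range g₀ ⊆ Set.range (W k).ι := by
        rintro _ ⟨y, rfl⟩
        have hy : y ∈ g₀ ⁻¹ᵁ (W k) := by rw [htop]; trivial
        simpa using hy
      obtain ⟨l, hl⟩ : ∃ l : Spec W' ⟶ ((W k : X.Opens) : Scheme.{u}), l ≫ (W k).ι = g₀ :=
        ⟨IsOpenImmersion.lift (W k).ι g₀ hrange, IsOpenImmersion.lift_fac _ _ _⟩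
      refine ⟨W', hWd, hWv, φ, hφ, k, l, ?_⟩
      change l ≫ f.resLE (U : Y.Opens) (W k) (hWle k) = Spec.map φ ≫ γ
      have e1 : (l ≫ f.resLE (U : Y.Opens) (W k) (hWle k)) ≫ (U : Y.Opens).ι =
          (Spec.map φ ≫ γ) ≫ (U : Y.Opens).ι := by
        calc (l ≫ f.resLE (U : Y.Opens) (W k) (hWle k)) ≫ (U : Y.Opens).ι
            = l ≫ (f.resLE (U : Y.Opens) (W k) (hWle k) ≫ (U : Y.Opens).ι) := Category.assoc _ _ _
          _ = l ≫ ((W k).ι ≫ f) := by rw [Scheme.Hom.resLE_comp_ι]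
          _ = (l ≫ (W k).ι) ≫ f := (Category.assoc _ _ _).symm
          _ = g₀ ≫ f := by rw [hl]
          _ = Spec.map φ ≫ γ ≫ (U : Y.Opens).ι := hg''
          _ = (Spec.map φ ≫ γ) ≫ (U : Y.Opens).ι := (Category.assoc _ _ _).symm
      exact (cancel_mono (U : Y.Opens).ι).mp e1
    · intro k
      exact ⟨PUnit.unit, (W k).ι, (Scheme.Hom.resLE_comp_ι _ _).symm⟩
  · -- HasValLift → specialization lifting
    intro Z g z' z hz
    obtain ⟨V, hVd, hVv, γ, hγc, hγg⟩ := h4_exists_valuationRing_of_specializes hz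
    obtain ⟨W, hWd, hWv, φ, hφ, j, g', hg'⟩ := hL V (γ ≫ g)
    obtain ⟨g₀, hg''⟩ : ∃ g₀ : Spec W ⟶ X, g₀ ≫ f = Spec.map φ ≫ γ ≫ g := ⟨g', hg'⟩
    have hc : (Spec.map φ ≫ γ) ≫ g = g₀ ≫ f := by rw [hg'', Category.assoc]
    obtain ⟨l, hl⟩ : ∃ l : Spec W ⟶ pullback g f, l ≫ pullback.fst g f = Spec.map φ ≫ γ :=
      ⟨pullback.lift (Spec.map φ ≫ γ) g₀ hc, pullback.lift_fst _ _ _⟩
    have : IsLocalHom φ.hom := hφ.2
    refine ⟨l (h4_genPt W), l (IsLocalRing.closedPoint W),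
      (h4_genPt_specializes W _).map l.continuous, ?_, ?_⟩
    · rw [h4_comp_apply_eq' l (pullback.fst g f) (Spec.map φ) γ hl, h4_map_genPt φ hφ.1, hγg]
    · exact (h4_comp_apply_eq' l (pullback.fst g f) (Spec.map φ) γ hl _).trans
        ((congrArg γ (h4_map_closedPoint φ)).trans hγc)
  · -- specialization lifting → HasValLift
    intro V _ _ γ
    obtain ⟨w', w, hw, hw', hwc⟩ := hS (Spec V) γ (h4_genPt V) (IsLocalRing.closedPoint V)
      (h4_genPt_specializes V _)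
    obtain ⟨W, hWd, hWv, δ, hδc, hδg⟩ := h4_exists_valuationRing_of_specializes hw
    obtain ⟨φ, hφ⟩ : ∃ φ : V ⟶ W, Spec.map φ = δ ≫ pullback.fst γ f :=
      ⟨Spec.preimage (δ ≫ pullback.fst γ f), Spec.map_preimage _⟩
    have h1 : Spec.map φ (h4_genPt W) = h4_genPt V := by
      rw [hφ, Scheme.Hom.comp_apply, hδg, hw']
    have h2 : Spec.map φ (IsLocalRing.closedPoint W) = IsLocalRing.closedPoint V := by
      rw [hφ]
      exact (Scheme.Hom.comp_apply _ _ _).trans ((congrArg (pullback.fst γ f) hδc).trans hwc)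
    refine ⟨W, hWd, hWv, φ, ⟨?_, ?_⟩, PUnit.unit, δ ≫ pullback.snd γ f, ?_⟩
    · rw [RingHom.injective_iff_ker_eq_bot]
      have := congrArg PrimeSpectrum.asIdeal h1
      exact this
    · exact (IsLocalRing.isLocalHom_iff_comap_closedPoint φ.hom).mpr h2
    · change (δ ≫ pullback.snd γ f) ≫ f = Spec.map φ ≫ γ
      rw [Category.assoc, ← pullback.condition, ← Category.assoc, hφ]

end Groth.Agent.S7476
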