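import Groth.Statements.S7477
import Mathlib
import Groth.Agent.Lib.helper4.VSubm
import Groth.Agent.S7471


set_option autoImplicit false
universe w u
open HTop

namespace Groth.Agent.S7477

open Groth.Agent.Lib.helper4

open CategoryTheory CategoryTheory.Limits AlgebraicGeometry in
/-- If {f_i : X_i -> X} is a V covering (indexed by a type in the universe of X), then the morphism from
the coproduct of the X_i to X induced by the f_i is universally submersive. -/
theorem result {X : Scheme.{u}} (E : PreZeroHypercover.{u} X) (hE : HTop.IsVCover E) : SGA1.UnivSubmersive (Sigma.desc E.f) := by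
  intro X' Y' i₁ i₂ f' h
  change Topology.IsQuotientMap f'
  have hE' : IsVCover (E.pullback₁ i₂) := Groth.Agent.S7471.result i₂ E hE
  have hk : ∀ i : E.I₀, ∃ k : pullback i₂ (E.f i) ⟶ X', k ≫ f' = pullback.fst i₂ (E.f i) := by
    intro i
    have hc : pullback.fst i₂ (E.f i) ≫ i₂ =
        (pullback.snd i₂ (E.f i) ≫ Sigma.ι E.X i) ≫ Sigma.desc E.f := by
      rw [Category.assoc, Sigma.ι_desc, pullback.condition]
    exact ⟨h.lift _ _ hc, h.lift_fst _ _ _⟩
  choose k hk using hk
  refine ⟨Topology.isCoinducing_iff.mpr fun S => ⟨fun hS => ?_, fun hS => hS.preimage f'.continuous⟩, ?_⟩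
  swap
  · intro y
    obtain ⟨i, x, hx⟩ := h4_vcover_surj _ hE' y
    refine ⟨k i x, ?_⟩
    exact (h4_comp_apply_eq (k i) f' _ (hk i) x).trans hx
  · refine h4_vcover_isOpen _ hE' S fun i => ?_
    have : ((E.pullback₁ i₂).f i) ⁻¹' S = (k i) ⁻¹' (f' ⁻¹' S) := by
      ext x
      change pullback.fst i₂ (E.f i) x ∈ S ↔ f' (k i x) ∈ S
      exact iff_of_eq (congrArg (· ∈ S) (h4_comp_apply_eq (k i) f' _ (hk i) x).symm)
    rw [this]
    exact hS.preimage (k i).continuous

end Groth.Agent.S7477
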