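import Groth.Statements.S7478
import Mathlib


set_option autoImplicit false
universe w u
open HTop

namespace Groth.Agent.S7478

open CategoryTheory CategoryTheory.Limits AlgebraicGeometry in
/-- The base change of a standard ph covering along a morphism of affine schemes T' -> T is a standard
ph covering of T'. -/
theorem result {T T' : Scheme.{u}} [IsAffine T'] (g : T' ⟶ T) (E : PreZeroHypercover.{w} T) (hE : HTop.IsStandardPh E) : HTop.IsStandardPh (E.pullback₁ g) := by
  obtain ⟨hT, hfin, haff, U, f, ι, hprop, hsurj, hopen, hcomm, hcov⟩ := hE
  refine ⟨inferInstance, hfin, ?_, ?_⟩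
  · intro j
    have := hT
    have := haff j
    change IsAffine (pullback g (E.f j))
    infer_instance
  · have hι' : ∀ j, ∃ ι' : pullback g (E.f j) ⟶ pullback g f,
        ι' ≫ pullback.fst g f = pullback.fst g (E.f j) ∧
        IsPullback ι' (pullback.snd g (E.f j)) (pullback.snd g f) (ι j) := by
      intro j
      have hc : pullback.fst g (E.f j) ≫ g = (pullback.snd g (E.f j) ≫ ι j) ≫ f := by
        rw [Category.assoc, hcomm j, pullback.condition]
      refine ⟨pullback.lift (pullback.fst g (E.f j)) (pullback.snd g (E.f j) ≫ ι j) hc,
        pullback.lift_fst _ _ _, ?_⟩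
      refine IsPullback.of_right ?_ (pullback.lift_snd _ _ _) (IsPullback.of_hasPullback g f)
      rw [pullback.lift_fst, hcomm j]
      exact IsPullback.of_hasPullback g (E.f j)
    choose ι' hι'fst hι'sq using hι'
    have := hprop
    have := hsurj
    refine ⟨pullback g f, pullback.fst g f, ι', inferInstance, inferInstance, ?_, hι'fst, ?_⟩
    · intro j
      exact MorphismProperty.of_isPullback (P := @IsOpenImmersion) (hι'sq j).flip (hopen j)
    · intro x
      obtain ⟨j, hj⟩ := hcov (pullback.snd g f x)
      refine ⟨j, ?_⟩
      have := hopen j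
      have h1 : ι' j = (hι'sq j).isoPullback.hom ≫ pullback.fst (pullback.snd g f) (ι j) := by
        rw [IsPullback.isoPullback_hom_fst]
      have h2 : Set.range (ι' j) = Set.range (pullback.fst (pullback.snd g f) (ι j)) := by
        rw [h1, Scheme.Hom.comp_base, TopCat.coe_comp, Set.range_comp, Set.range_eq_univ.mpr,
          Set.image_univ]
        exact (hι'sq j).isoPullback.hom.homeomorph.surjective
      have h3 : x ∈ Set.range (ι' j) := by
        rw [h2, IsOpenImmersion.range_pullbackFst]
        exact hj
      exact h3

end Groth.Agent.S7478
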