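import Groth.Statements.S7494
import Mathlib


set_option autoImplicit false
universe u
open CategoryTheory MonoidalCategory CartesianMonoidalCategory MonObj GrpObj AlgebraicGeometry
open AlgGrp

namespace Groth.Agent.S7494

/-- Let G be a group scheme over S acting on a scheme X over S by a. The action is free, meaning that
for every scheme T over S and all T-points g of G and x of X with g · x = x one has g = 1, if and
only if the morphism G x_S X -> X x_S X, (g, x) ↦ (a(g, x), x), is a monomorphism of schemes. -/
theorem result {S : Scheme.{u}} (G X : Over S) [GrpObj G] (a : AlgGrp.Action G X) : (∀ (T : Over S) (g : T ⟶ G) (x : T ⟶ X), lift g x ≫ a.act = x → g = toUnit T ≫ η[G]) ↔ Mono (lift a.act (snd G X)).left := by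
  have hone : ∀ (T : Over S) (x : T ⟶ X), lift (1 : T ⟶ G) x ≫ a.act = x := by
    intro T x
    have h1 : lift (1 : T ⟶ G) x = lift (toUnit T) x ≫ (η[G] ▷ X) := by
      rw [lift_whiskerRight, Hom.one_def]
    rw [h1, Category.assoc, a.one_act, lift_leftUnitor_hom]
  have hmul : ∀ (T : Over S) (g h : T ⟶ G) (x : T ⟶ X),
      lift (g * h) x ≫ a.act = lift g (lift h x ≫ a.act) ≫ a.act := by
    intro T g h x
    have h1 : lift (g * h) x = lift (lift g h) x ≫ (μ[G] ▷ X) := by
      rw [lift_whiskerRight, Hom.mul_def]
    rw [h1, Category.assoc, a.mul_act, lift_lift_associator_hom_assoc, lift_whiskerLeft_assoc]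
  constructor
  · intro hfree
    have : Mono (lift a.act (snd G X)) := by
      constructor
      intro T u v huv
      have hs : u ≫ snd G X = v ≫ snd G X := by
        have := congrArg (fun w => w ≫ snd X X) huv
        simpa using this
      have hf : u ≫ a.act = v ≫ a.act := by
        have := congrArg (fun w => w ≫ fst X X) huv
        simpa using this
      have hu : u = lift (u ≫ fst G X) (u ≫ snd G X) := by
        apply CartesianMonoidalCategory.hom_ext <;> simp
      have hv : v = lift (v ≫ fst G X) (u ≫ snd G X) := by
        apply CartesianMonoidalCategory.hom_ext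
        · simp
        · simp [hs]
      have key : lift ((v ≫ fst G X)⁻¹ * (u ≫ fst G X)) (u ≫ snd G X) ≫ a.act = u ≫ snd G X := by
        have hf' : lift (u ≫ fst G X) (u ≫ snd G X) ≫ a.act =
            lift (v ≫ fst G X) (u ≫ snd G X) ≫ a.act := by
          rw [← hu, ← hv]; exact hf
        rw [hmul, hf', ← hmul, inv_mul_cancel, hone]
      have h1 := hfree T _ _ key
      rw [← Hom.one_def, inv_mul_eq_one] at h1
      rw [hu, hv, h1]
    infer_instance
  · intro hmono T g x hgx
    have : Mono (lift a.act (snd G X)) := Over.mono_of_mono_left _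
    have h1 : lift g x ≫ lift a.act (snd G X) = lift (1 : T ⟶ G) x ≫ lift a.act (snd G X) := by
      apply CartesianMonoidalCategory.hom_ext
      · simp [hgx, hone]
      · simp
    have h2 := (cancel_mono _).1 h1
    have h3 := congrArg (fun w => w ≫ fst G X) h2
    simp only [lift_fst] at h3
    rw [h3, Hom.one_def]

end Groth.Agent.S7494
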