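import Groth.Statements.S7496
import Mathlib


set_option autoImplicit false
universe w u
open CategoryTheory CategoryTheory.Limits AlgebraicGeometry
open HTop

namespace Groth.Agent.S7496

/-- Let T be a quasi-separated scheme and {f_i : T_i -> T} a family of morphisms. Then every affine open
of T is the union of the images of finitely many quasi-compact opens of the T_i (the
quasi-compactness condition in the definition of an fpqc covering) if and only if for every point t
of T there are finitely many quasi-compact opens U_j of members T_(i_j) such that the union of the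
f_(i_j)(U_j) is a neighbourhood of t. (The published statement also asks every f_i to be flat, on
both sides, and lists two more equivalent forms of the quasi-compactness condition; this row omits
flatness, which plays no part in the equivalence, and states only the equivalence of the
quasi-compactness condition with the neighbourhood condition.) -/
theorem result {T : Scheme.{u}} [QuasiSeparatedSpace T] (E : PreZeroHypercover.{w} T) : QuasiCompactCover E ↔ ∀ t : T, ∃ (n : ℕ) (i : Fin n → E.I₀) (V : ∀ j, (E.X (i j)).Opens), (∀ j, IsCompact (V j : Set (E.X (i j)))) ∧ (⋃ j, ⇑(E.f (i j)) '' (V j : Set (E.X (i j)))) ∈ nhds t := by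
  constructor
  · intro hqc t
    obtain ⟨_, ⟨U, hU, rfl⟩, htU, -⟩ := T.isBasis_affineOpens.exists_subset_of_mem_open
      (Set.mem_univ t) isOpen_univ
    obtain ⟨n, a, V, hV, hEq⟩ := QuasiCompactCover.exists_isAffineOpen_of_isCompact E
      (U := U) (IsAffineOpen.isCompact hU)
    refine ⟨n, a, V, fun j => (hV j).isCompact, ?_⟩
    rw [hEq]
    exact U.2.mem_nhds htU
  · intro h
    refine ⟨fun {U} hU => ?_⟩
    refine IsCompactOpenCovered.of_isCompact_of_forall_exists_isCompactOpenCovered hU.isCompact
      fun x hx => ?_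
    obtain ⟨n, a, V, hV, hN⟩ := h x
    obtain ⟨O, hON, hO, hxO⟩ := mem_nhds_iff.mp hN
    have hxUO : x ∈ (U ⊓ ⟨O, hO⟩ : T.Opens) := ⟨hx, hxO⟩
    obtain ⟨_, ⟨W, hW, rfl⟩, hxW, hWle⟩ := T.isBasis_affineOpens.exists_subset_of_mem_open
      hxUO (U ⊓ ⟨O, hO⟩ : T.Opens).2
    refine ⟨W, fun y hy => (hWle hy).1, hxW, W.2, ?_⟩
    refine IsCompactOpenCovered.of_finite (κ := Fin n) (a := a)
      (fun j => V j ⊓ (E.f (a j)) ⁻¹ᵁ W) (fun j => ?_) ?_
    · have : CompactSpace ((V j : (E.X (a j)).Opens) : Scheme.{u}) :=
        isCompact_iff_compactSpace.mp (hV j)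
      have hqc : QuasiCompact ((V j).ι ≫ E.f (a j)) := quasiCompact_of_compactSpace _
      have hc : IsCompact (((V j).ι ≫ E.f (a j)) ⁻¹ᵁ W).1 :=
        Scheme.Hom.isCompact_preimage _ (IsAffineOpen.isCompact hW)
      have himg := hc.image (V j).ι.continuous
      convert himg using 1
      ext y
      constructor
      · rintro ⟨hy1, hy2⟩
        exact ⟨⟨y, hy1⟩, hy2, rfl⟩
      · rintro ⟨z, hz, rfl⟩
        exact ⟨z.2, hz⟩
    · ext y
      simp only [Set.mem_iUnion, Set.mem_image]
      constructor
      · rintro ⟨j, z, ⟨-, hz⟩, rfl⟩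
        exact hz
      · intro hy
        have hyN : y ∈ ⋃ j, ⇑(E.f (a j)) '' (V j : Set (E.X (a j))) := hON (hWle hy).2
        obtain ⟨j, z, hz, rfl⟩ := Set.mem_iUnion.mp hyN
        exact ⟨j, z, ⟨hz, hy⟩, rfl⟩

end Groth.Agent.S7496
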