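import Groth.Statements.S7497
import Mathlib
import Groth.Agent.Lib.helper4.ValLift


set_option autoImplicit false
universe u
open CategoryTheory CategoryTheory.Limits AlgebraicGeometry
open HTop

namespace Groth.Agent.S7497

open Groth.Agent.Lib.helper4

/-- Let {f_i : T_i -> T} be a family of flat morphisms of schemes and {g_j : S_j -> T} an fpqc covering
such that for every j the family of base changes {S_j x_T T_i -> S_j} is an fpqc covering. Then {f_i
: T_i -> T} is an fpqc covering. (fpqc coverings are Mathlib's: flat, jointly surjective, every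
affine open of the target covered by images of finitely many quasi-compact opens.) -/
theorem result {T : Scheme.{u}} (E : PreZeroHypercover.{u} T) (hflat : ∀ i, Flat (E.f i)) (𝒱 : Scheme.Cover Scheme.fpqcPrecoverage T) (hloc : ∀ j, (E.pullback₁ (𝒱.f j)).presieve₀ ∈ Scheme.fpqcPrecoverage (𝒱.X j)) : E.presieve₀ ∈ Scheme.fpqcPrecoverage T := by
  have hV : 𝒱.toPreZeroHypercover.presieve₀ ∈ Scheme.propQCPrecoverage @Flat T := 𝒱.mem₀
  have hlocal : ∀ j, (E.pullback₁ (𝒱.f j)).presieve₀ ∈ Scheme.propQCPrecoverage @Flat (𝒱.X j) := hloc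
  have hqcV : QuasiCompactCover 𝒱.toPreZeroHypercover :=
    Scheme.presieve₀_mem_qcPrecoverage_iff.mp hV.1
  have hqcl : ∀ j, QuasiCompactCover (E.pullback₁ (𝒱.f j)) := fun j =>
    Scheme.presieve₀_mem_qcPrecoverage_iff.mp (hlocal j).1
  have hsurjV := ((Scheme.presieve₀_mem_precoverage_iff _).mp hV.2).1
  have hsurjl := fun j => ((Scheme.presieve₀_mem_precoverage_iff _).mp (hlocal j).2).1
  change E.presieve₀ ∈ Scheme.propQCPrecoverage @Flat T
  refine ⟨Scheme.presieve₀_mem_qcPrecoverage_iff.mpr ?_,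
    (Scheme.presieve₀_mem_precoverage_iff _).mpr ⟨?_, hflat⟩⟩
  · let 𝒱' : PreZeroHypercover.{u} T := QuasiCompactCover.ulift 𝒱.toPreZeroHypercover
    have h1 : QuasiCompactCover 𝒱' := inferInstance
    have h2 : ∀ i, QuasiCompactCover (E.pullback₁ (𝒱'.f i)) := fun i => hqcl _
    let B : PreZeroHypercover.{u} T := 𝒱'.bind (fun i => E.pullback₁ (𝒱'.f i))
    have h3 : QuasiCompactCover B := inferInstance
    exact QuasiCompactCover.of_hom (𝒱 := B)
      ⟨fun ji => ji.2, fun ji => pullback.snd _ _, fun ji => pullback.condition.symm⟩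
  · intro x
    obtain ⟨j, y, hy⟩ := hsurjV x
    obtain ⟨i, z, hz⟩ := hsurjl j y
    refine ⟨i, pullback.snd (𝒱.f j) (E.f i) z, ?_⟩
    have h4 : pullback.fst (𝒱.f j) (E.f i) z = y := hz
    rw [← hy, ← h4]
    exact (h4_comp_apply_eq' _ _ _ _ pullback.condition z).symm

end Groth.Agent.S7497
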