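import Groth.Statements.S7500
import Mathlib
import Groth.Agent.Lib.helper4.GrpdPts


set_option autoImplicit false
universe u
open CategoryTheory CategoryTheory.Limits AlgebraicGeometry
open Grpd

namespace Groth.Agent.S7500

open Groth.Agent.Lib.helper4

/-- Let (U, R, s, t, c) be a groupoid scheme over S and G -> U its stabilizer group scheme (the base
change of j = (t, s) along the diagonal). The action of G on R by composition, base changed to G_0 =
G x_(U, pr_0) (U x_S U), makes R a pseudo G_0-torsor over U x_S U. Concretely: let α : G x_(U, t) R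
-> R x_(s, U, t) R be the morphism with components (γ viewed in R, r) and β : G x_(U, t) R -> R
x_(j, U x_S U, j) R the morphism with components (c ∘ α, r); then β is an isomorphism. (A groupoid
scheme carries U, R, s, t, c, e, i over S with the groupoid axioms on T-points; c is defined on the
fibre product of s and t and sends a pair (a, b) with s(a) = t(b) to a composed with b.) -/
theorem result (S : Scheme.{u}) (G : Grpd.GroupoidScheme S) (α : pullback G.stabilizerToU G.t ⟶ pullback G.s G.t) (hα₁ : α ≫ pullback.fst G.s G.t = pullback.fst G.stabilizerToU G.t ≫ pullback.fst G.j G.diag) (hα₂ : α ≫ pullback.snd G.s G.t = pullback.snd G.stabilizerToU G.t) (β : pullback G.stabilizerToU G.t ⟶ pullback G.j G.j) (hβ₁ : β ≫ pullback.fst G.j G.j = α ≫ G.c) (hβ₂ : β ≫ pullback.snd G.j G.j = pullback.snd G.stabilizerToU G.t) : IsIso β := by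
  have hα₁' : α ≫ pullback.fst G.s G.t = pullback.fst G.stabilizerToU G.t ≫ stabFst G := hα₁
  have hcond : pullback.fst G.stabilizerToU G.t ≫ G.stabilizerToU =
      pullback.snd G.stabilizerToU G.t ≫ G.t := pullback.condition
  have hxt := jj_t G
  have hxs := jj_s G
  have hxy : pullback.fst G.j G.j ≫ G.s = (pullback.snd G.j G.j ≫ G.i) ≫ G.t := by
    rw [Category.assoc, G.i_t, hxs]
  have hγs : (pullback.fst G.stabilizerToU G.t ≫ stabFst G) ≫ G.s =
      pullback.snd G.stabilizerToU G.t ≫ G.t := by
    rw [Category.assoc, stabFst_s]; exact hcond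
  have hβfst : β ≫ pullback.fst G.j G.j =
      gm G (pullback.fst G.stabilizerToU G.t ≫ stabFst G)
        (pullback.snd G.stabilizerToU G.t) hγs := by
    rw [hβ₁, comp_c G α]
    exact gm_congr G hα₁' hα₂ _
  have hw : stabLift G
      (gm G (pullback.fst G.j G.j) (pullback.snd G.j G.j ≫ G.i) hxy)
      (pullback.fst G.j G.j ≫ G.t) (gm_t G _ _ _)
      (by rw [gm_s, Category.assoc, G.i_s, hxt]) ≫ G.stabilizerToU =
      pullback.snd G.j G.j ≫ G.t := by
    rw [stabLift_snd, hxt]
  obtain ⟨β', h1, h2⟩ : ∃ β' : pullback G.j G.j ⟶ pullback G.stabilizerToU G.t,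
      β' ≫ pullback.fst G.stabilizerToU G.t = stabLift G
      (gm G (pullback.fst G.j G.j) (pullback.snd G.j G.j ≫ G.i) hxy)
      (pullback.fst G.j G.j ≫ G.t) (gm_t G _ _ _)
      (by rw [gm_s, Category.assoc, G.i_s, hxt]) ∧
      β' ≫ pullback.snd G.stabilizerToU G.t = pullback.snd G.j G.j :=
    ⟨pullback.lift _ _ hw, pullback.lift_fst _ _ _, pullback.lift_snd _ _ _⟩
  have h1f : β' ≫ pullback.fst G.stabilizerToU G.t ≫ stabFst G =
      gm G (pullback.fst G.j G.j) (pullback.snd G.j G.j ≫ G.i) hxy := by
    rw [← Category.assoc, h1, stabLift_fst]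
  have h1s : β' ≫ pullback.fst G.stabilizerToU G.t ≫ G.stabilizerToU =
      pullback.fst G.j G.j ≫ G.t := by
    rw [← Category.assoc, h1, stabLift_snd]
  refine ⟨β', ?_, ?_⟩
  · apply pullback.hom_ext
    · apply stab_hom_ext
      · rw [Category.assoc, Category.assoc, h1f, precomp_gm, Category.id_comp]
        calc gm G (β ≫ pullback.fst G.j G.j) (β ≫ pullback.snd G.j G.j ≫ G.i) _
            = gm G (gm G (pullback.fst G.stabilizerToU G.t ≫ stabFst G)
                (pullback.snd G.stabilizerToU G.t) hγs)
                (pullback.snd G.stabilizerToU G.t ≫ G.i)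
                (by rw [gm_s, Category.assoc, G.i_t]) :=
              gm_congr G hβfst (by rw [← Category.assoc, hβ₂]) _
          _ = _ := gm_gm_i G _ _ _
      · rw [Category.assoc, Category.assoc, h1s, Category.id_comp,
          ← Category.assoc, hβfst, gm_t, Category.assoc, stabFst_t]
    · rw [Category.assoc, h2, hβ₂, Category.id_comp]
  · apply pullback.hom_ext
    · rw [Category.assoc, hβfst, precomp_gm, Category.id_comp]
      calc gm G _ _ _ = gm G (gm G (pullback.fst G.j G.j) (pullback.snd G.j G.j ≫ G.i) hxy)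
            (pullback.snd G.j G.j) (by rw [gm_s, Category.assoc, G.i_s]) :=
            gm_congr G h1f h2 _
        _ = _ := gm_i_gm' G _ _ hxs
    · rw [Category.assoc, hβ₂, h2, Category.id_comp]

end Groth.Agent.S7500
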