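import Groth.Statements.S7501
import Mathlib
import Groth.Agent.Lib.helper4.ShLocal


set_option autoImplicit false
universe w u
open HTop

namespace Groth.Agent.S7501

open Groth.Agent.Lib.helper4

open CategoryTheory CategoryTheory.Limits AlgebraicGeometry in
/-- Let F be a presheaf of sets on the category of schemes. If F is a sheaf for the Zariski topology
and, for every proper surjective morphism f : V -> U, F has the sheaf property for the one-arrow
family {f} (sections over V whose two pullbacks to V x_U V agree come from exactly one section over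
U), then F has the sheaf property for every ph covering. (The published statement is an equivalence
for presheaves on the big ph site of a base scheme and adds that, for a Zariski sheaf, the condition
on proper surjective morphisms may be asked only for affine targets; this row states, for presheaves
on all schemes, only that the two conditions imply the sheaf property for ph coverings.) -/
theorem result (F : Scheme.{u}ᵒᵖ ⥤ Type w) (h₁ : Presieve.IsSheaf Scheme.zariskiTopology F) (h₂ : ∀ (U V : Scheme.{u}) (f : V ⟶ U), IsProper f → Surjective f → Presieve.IsSheafFor F (Presieve.singleton f)) : HTop.IsPhSheaf F := by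
  intro X R hR
  obtain ⟨E, hE, rfl⟩ := PreZeroHypercoverFamily.mem_precoverage_iff.mp hR
  have hE' : IsPhCover E := hE
  rw [Presieve.isSheafFor_iff_generate]
  have hJ' := h4_zariski_le_finest F h₁
  suffices hmem : Sieve.generate E.presieve₀ ∈ Sheaf.finestTopologySingle F X by
    have := hmem X (𝟙 X)
    rwa [Sieve.pullback_id] at this
  refine h4_mem_of_affine_local _ hJ' _ fun U => ?_
  obtain ⟨G, hG, hGref⟩ := hE'.2 U
  refine GrothendieckTopology.superset_covering _
    (h4_generate_le_pullback_of_refinesOver _ G E hGref) ?_
  obtain ⟨_, _, _, V, f, ι, hprop, hsurj, hopen, hcomm, hcov⟩ := hG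
  have hf : Sieve.generate (Presieve.singleton f) ∈
      Sheaf.finestTopologySingle F ((U : X.Opens) : Scheme.{u}) := by
    intro Y g
    rw [← Sieve.pullbackArrows_comm, Presieve.pullback_singleton,
      ← Presieve.isSheafFor_iff_generate]
    have := hprop
    have := hsurj
    exact h₂ _ _ _ inferInstance inferInstance
  refine GrothendieckTopology.transitive _ hf _ ?_
  rintro Y _ ⟨Z, k, _, ⟨⟩, rfl⟩
  rw [Sieve.pullback_comp]
  refine GrothendieckTopology.pullback_stable _ k ?_
  let 𝒰 : V.OpenCover := Scheme.Cover.mkOfCovers G.I₀ G.X ι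
    (fun x => by obtain ⟨j, y, hy⟩ := hcov x; exact ⟨j, y, hy⟩) hopen
  have hcover : Sieve.ofArrows 𝒰.X 𝒰.f ∈ Scheme.zariskiTopology V := 𝒰.mem_grothendieckTopology
  refine GrothendieckTopology.superset_covering _ ?_ (hJ' _ hcover)
  rintro Y _ ⟨Z, k, _, ⟨j⟩, rfl⟩
  have hgoal : ∀ (j' : G.I₀) {Y' : Scheme.{u}} (k' : Y' ⟶ G.X j'),
      Sieve.generate G.presieve₀ ((k' ≫ ι j') ≫ f) := by
    intro j' Y' k'
    have heq : (k' ≫ ι j') ≫ f = k' ≫ G.f j' := by rw [Category.assoc, hcomm j']
    rw [heq]
    exact ⟨_, k', G.f j', ⟨j'⟩, rfl⟩
  exact hgoal j k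

end Groth.Agent.S7501
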