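import Groth.Statements.S7504
import Mathlib
import Groth.Agent.Lib.helper4.GrpdInv
import Groth.Agent.S7457


set_option autoImplicit false
universe u
open CategoryTheory CategoryTheory.Limits AlgebraicGeometry
open Grpd

namespace Groth.Agent.S7504

open Groth.Agent.Lib.helper4

/-- Let (U, R, s, t, c) be a groupoid scheme over S, let τ be the Zariski, étale, smooth or fppf
topology (given as the corresponding precoverage K on schemes), and let P be a property of scheme
morphisms that is τ-local on the target. (The published statement also allows the syntomic topology,
which has no precoverage here; this row omits it.) Assume the one-arrow families {s : R -> U} and {t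
: R -> U} are τ-coverings. If W is the largest open subscheme of U such that the restriction
s^{-1}(W) -> W of s has P (W has the property and contains every open with the property), then W is
R-invariant: s^{-1}(W) = t^{-1}(W). (A groupoid scheme carries U, R, s, t, c, e, i over S with the
groupoid axioms on T-points; c is defined on the fibre product of s and t and sends a pair (a, b)
with s(a) = t(b) to a composed with b.) -/
theorem result (S : Scheme.{u}) (G : Grpd.GroupoidScheme S) (K : Precoverage Scheme.{u}) (hK : K = Scheme.zariskiPrecoverage ∨ K = Scheme.etalePrecoverage ∨ K = Scheme.precoverage @Smooth ∨ K = Scheme.fppfPrecoverage) (P : MorphismProperty Scheme.{u}) [P.IsLocalAtTarget K] (hs : Presieve.singleton G.s ∈ K G.U) (ht : Presieve.singleton G.t ∈ K G.U) (W : G.U.Opens) (hW : P (G.s ∣_ W)) (hmax : ∀ W' : G.U.Opens, P (G.s ∣_ W') → W' ≤ W) : G.s ⁻¹ᵁ W = G.t ⁻¹ᵁ W := by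
  have hF : IsPullback G.c (pullback.snd G.s G.t) G.s G.s := (Groth.Agent.S7457.result S G).2
  rcases hK with rfl | rfl | rfl | rfl
  · exact h4_preimage_eq_of_max G @IsOpenImmersion
      (fun f hf => by
        have : IsOpenImmersion f := hf
        exact f.isOpenEmbedding.isOpenMap)
      (fun f _ => inferInstance) P hs ht G.s G.c hF W hW hmax
  · have inst : P.IsLocalAtTarget (Scheme.precoverage @Etale) := ‹_›
    haveI : MorphismProperty.IsStableUnderComposition (@Etale.{u}) :=
      (inferInstance : MorphismProperty.IsMultiplicative @Etale).toIsStableUnderComposition
    exact h4_preimage_eq_of_max G @Etale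
      (fun f hf => by
        have : Etale f := hf
        exact f.isOpenMap)
      (fun f _ => inferInstance) P hs ht G.s G.c hF W hW hmax
  · exact h4_preimage_eq_of_max G @Smooth
      (fun f hf => by
        have : Smooth f := hf
        exact f.isOpenMap)
      (fun f _ => inferInstance) P hs ht G.s G.c hF W hW hmax
  · have inst : P.IsLocalAtTarget (Scheme.precoverage (@Flat ⊓ @LocallyOfFinitePresentation)) := ‹_›
    haveI : MorphismProperty.IsStableUnderBaseChange (@Flat.{u} ⊓ @LocallyOfFinitePresentation.{u}) :=
      MorphismProperty.IsStableUnderBaseChange.inf
    haveI : MorphismProperty.IsStableUnderComposition (@Flat.{u} ⊓ @LocallyOfFinitePresentation.{u}) :=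
      MorphismProperty.IsStableUnderComposition.inf
    exact h4_preimage_eq_of_max G (@Flat ⊓ @LocallyOfFinitePresentation)
      (fun f hf => by
        have h1 : Flat f := hf.1
        have h2 : LocallyOfFinitePresentation f := hf.2
        exact f.isOpenMap)
      (fun f _ => ⟨inferInstance, inferInstance⟩) P hs ht G.s G.c hF W hW hmax

end Groth.Agent.S7504
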