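import Groth.Statements.S7510
import Mathlib
import Groth.Agent.Lib.helper4.GrpdPts


set_option autoImplicit false
universe u
open CategoryTheory CategoryTheory.Limits AlgebraicGeometry
open Grpd

namespace Groth.Agent.S7510

open Groth.Agent.Lib.helper4

/-- Let (U, R, s, t, c, e, i) be a groupoid scheme over S and g : U' -> U a morphism; write h = s ∘ pr_1
: U' x_(g,U,t) R -> U. Let P, Q, R be properties of morphisms of schemes, with P invariant under
composition with isomorphisms, such that (1) R implies Q, (2) Q is stable under base change and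
composition, (3) every morphism f : X -> Y with Q has a largest open W(P, f) of X on which the
restriction of f has P (given here as a function W with these two properties), and (4) for f with Q
and a base change along Y' -> Y with R, the preimage of W(P, f) in X x_Y Y' is W(P, f') for the base
change f'. If s, t have R and g has Q, then there is an open W of U' whose preimage in U' x_(g,U,t)
R equals W(P, h). (The published statement speaks of arbitrary properties of morphisms; this row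
asks P to be invariant under composition with isomorphisms, which the proof uses to identify the
largest opens on the two isomorphic fibre products of h with t and with s.) (A groupoid scheme
carries U, R, s, t, c, e, i over S with the groupoid axioms on T-points; c is defined on the fibre
product of s and t and sends a pair (a, b) with s(a) = t(b) to a composed with b.) -/
theorem result (S : Scheme.{u}) (G : Grpd.GroupoidScheme S) {U' : Scheme.{u}} (g : U' ⟶ G.U) (P Q R : MorphismProperty Scheme.{u}) [P.RespectsIso] (hRQ : R ≤ Q) [Q.IsStableUnderBaseChange] [Q.IsStableUnderComposition] (W : ∀ {X Y : Scheme.{u}} (f : X ⟶ Y), Q f → X.Opens) (hWP : ∀ {X Y : Scheme.{u}} (f : X ⟶ Y) (hf : Q f), P ((W f hf).ι ≫ f)) (hWmax : ∀ {X Y : Scheme.{u}} (f : X ⟶ Y) (hf : Q f) (V : X.Opens), P (V.ι ≫ f) → V ≤ W f hf) (hWbc : ∀ {X Y Y' : Scheme.{u}} (f : X ⟶ Y) (hf : Q f) (b : Y' ⟶ Y), R b → ∀ hf' : Q (pullback.snd f b), pullback.fst f b ⁻¹ᵁ W f hf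 = W (pullback.snd f b) hf') (hs : R G.s) (ht : R G.t) (hg : Q g) (hh : Q (pullback.snd g G.t ≫ G.s)) : ∃ V : U'.Opens, pullback.fst g G.t ⁻¹ᵁ V = W (pullback.snd g G.t ≫ G.s) hh := by
  -- comparison of the largest opens along isomorphisms
  have Wle : ∀ {X1 X2 Y : Scheme.{u}} (θ : X1 ⟶ X2) [IsIso θ] (f1 : X1 ⟶ Y) (f2 : X2 ⟶ Y)
      (_ : θ ≫ f2 = f1) (h1 : Q f1) (h2 : Q f2), θ ⁻¹ᵁ W f2 h2 ≤ W f1 h1 := by
    intro X1 X2 Y θ _ f1 f2 hθ h1 h2
    apply hWmax
    have e : (θ ⁻¹ᵁ W f2 h2).ι ≫ f1 = (θ ∣_ W f2 h2) ≫ (W f2 h2).ι ≫ f2 := by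
      rw [← hθ, ← Category.assoc, ← Category.assoc, morphismRestrict_ι]
    rw [e]
    exact (P.cancel_left_of_respectsIso _ _).mpr (hWP f2 h2)
  have Weq : ∀ {X1 X2 Y : Scheme.{u}} (θ : X1 ≅ X2) (f1 : X1 ⟶ Y) (f2 : X2 ⟶ Y)
      (_ : θ.hom ≫ f2 = f1) (h1 : Q f1) (h2 : Q f2), θ.hom ⁻¹ᵁ W f2 h2 = W f1 h1 := by
    intro X1 X2 Y θ f1 f2 hθ h1 h2
    apply le_antisymm (Wle θ.hom f1 f2 hθ h1 h2)
    have h' := Wle θ.inv f2 f1 (by rw [← hθ, Iso.inv_hom_id_assoc]) h2 h1
    have h'' := Scheme.Hom.preimage_mono θ.hom h'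
    rwa [← Scheme.Hom.comp_preimage, θ.hom_inv_id, Scheme.Hom.id_preimage] at h''
  -- notation
  set pr0 := pullback.fst g G.t with hpr0
  set pr1 := pullback.snd g G.t with hpr1
  set h := pr1 ≫ G.s with hh'
  have hX : pr0 ≫ g = pr1 ≫ G.t := pullback.condition
  have hq1 : Q (pullback.snd h G.t) := Q.pullback_snd _ _ hh
  have hq2 : Q (pullback.snd h G.s) := Q.pullback_snd _ _ hh
  have e1 := hWbc h hh G.t ht hq1
  have e2 := hWbc h hh G.s hs hq2
  have hY1 : pullback.fst h G.t ≫ h = pullback.snd h G.t ≫ G.t := pullback.condition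
  have hY2 : pullback.fst h G.s ≫ h = pullback.snd h G.s ≫ G.s := pullback.condition
  -- the map a : Y1 → X
  have ha1 : (pullback.fst h G.t ≫ pr1) ≫ G.s = pullback.snd h G.t ≫ G.t := by
    rw [Category.assoc]; exact hY1
  have ha2 : (pullback.fst h G.t ≫ pr0) ≫ g =
      gm G (pullback.fst h G.t ≫ pr1) (pullback.snd h G.t) ha1 ≫ G.t := by
    rw [gm_t, Category.assoc, Category.assoc, hX]
  obtain ⟨a, haf, has⟩ : ∃ a : pullback h G.t ⟶ pullback g G.t,
      a ≫ pr0 = pullback.fst h G.t ≫ pr0 ∧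
      a ≫ pr1 = gm G (pullback.fst h G.t ≫ pr1) (pullback.snd h G.t) ha1 :=
    ⟨pullback.lift _ _ ha2, pullback.lift_fst _ _ _, pullback.lift_snd _ _ _⟩
  have hah : a ≫ h = pullback.snd h G.t ≫ G.s := by
    change a ≫ (pr1 ≫ G.s) = _
    rw [← Category.assoc, has, gm_s]
  -- θ : Y1 → Y2
  obtain ⟨θ, hθf, hθs⟩ : ∃ θ : pullback h G.t ⟶ pullback h G.s,
      θ ≫ pullback.fst h G.s = a ∧ θ ≫ pullback.snd h G.s = pullback.snd h G.t :=
    ⟨pullback.lift a (pullback.snd h G.t) hah, pullback.lift_fst _ _ _, pullback.lift_snd _ _ _⟩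
  -- the inverse
  have hb1 : (pullback.fst h G.s ≫ pr1) ≫ G.s = (pullback.snd h G.s ≫ G.i) ≫ G.t := by
    rw [Category.assoc, Category.assoc, G.i_t]; exact hY2
  have hb2 : (pullback.fst h G.s ≫ pr0) ≫ g =
      gm G (pullback.fst h G.s ≫ pr1) (pullback.snd h G.s ≫ G.i) hb1 ≫ G.t := by
    rw [gm_t, Category.assoc, Category.assoc, hX]
  obtain ⟨b, hbf, hbs⟩ : ∃ b : pullback h G.s ⟶ pullback g G.t,
      b ≫ pr0 = pullback.fst h G.s ≫ pr0 ∧
      b ≫ pr1 = gm G (pullback.fst h G.s ≫ pr1) (pullback.snd h G.s ≫ G.i) hb1 :=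
    ⟨pullback.lift _ _ hb2, pullback.lift_fst _ _ _, pullback.lift_snd _ _ _⟩
  have hbh : b ≫ h = pullback.snd h G.s ≫ G.t := by
    change b ≫ (pr1 ≫ G.s) = _
    rw [← Category.assoc, hbs, gm_s, Category.assoc, G.i_s]
  obtain ⟨θ', hθ'f, hθ's⟩ : ∃ θ' : pullback h G.s ⟶ pullback h G.t,
      θ' ≫ pullback.fst h G.t = b ∧ θ' ≫ pullback.snd h G.t = pullback.snd h G.s :=
    ⟨pullback.lift b (pullback.snd h G.s) hbh, pullback.lift_fst _ _ _, pullback.lift_snd _ _ _⟩
  have h12 : θ ≫ θ' = 𝟙 _ := by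
    apply pullback.hom_ext
    · rw [Category.assoc, hθ'f, Category.id_comp]
      apply pullback.hom_ext
      · rw [Category.assoc, hbf, ← Category.assoc, hθf, haf]
      · rw [Category.assoc]
        change θ ≫ b ≫ pr1 = pullback.fst h G.t ≫ pr1
        rw [hbs, precomp_gm]
        calc gm G (θ ≫ pullback.fst h G.s ≫ pr1) (θ ≫ pullback.snd h G.s ≫ G.i) _
            = gm G (gm G (pullback.fst h G.t ≫ pr1) (pullback.snd h G.t) ha1)
                (pullback.snd h G.t ≫ G.i) (by rw [gm_s, Category.assoc, G.i_t]) :=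
              gm_congr G (by rw [← Category.assoc, hθf, has])
                (by rw [← Category.assoc, hθs]) _
          _ = _ := gm_gm_i G _ _ _
    · rw [Category.assoc, hθ's, hθs, Category.id_comp]
  have h21 : θ' ≫ θ = 𝟙 _ := by
    apply pullback.hom_ext
    · rw [Category.assoc, hθf, Category.id_comp]
      apply pullback.hom_ext
      · rw [Category.assoc, haf, ← Category.assoc, hθ'f, hbf]
      · rw [Category.assoc]
        change θ' ≫ a ≫ pr1 = pullback.fst h G.s ≫ pr1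
        rw [has, precomp_gm]
        calc gm G (θ' ≫ pullback.fst h G.t ≫ pr1) (θ' ≫ pullback.snd h G.t) _
            = gm G (gm G (pullback.fst h G.s ≫ pr1) (pullback.snd h G.s ≫ G.i) hb1)
                (pullback.snd h G.s) (by rw [gm_s, Category.assoc, G.i_s]) :=
              gm_congr G (by rw [← Category.assoc, hθ'f, hbs]) hθ's _
          _ = _ := gm_i_gm' G _ _ (by rw [Category.assoc]; exact hY2)
    · rw [Category.assoc, hθs, hθ's, Category.id_comp]
  have e3 := Weq ⟨θ, θ', h12, h21⟩ (pullback.snd h G.t) (pullback.snd h G.s) hθs hq1 hq2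
  -- a⁻¹ W h = p1⁻¹ W h
  have e4 : a ⁻¹ᵁ W h hh = pullback.fst h G.t ⁻¹ᵁ W h hh := by
    rw [e1, ← e3, ← e2]
    change _ = (θ ≫ pullback.fst h G.s) ⁻¹ᵁ W h hh
    rw [hθf]
  -- the section σ and τ
  have hσ : (𝟙 U') ≫ g = (g ≫ G.e) ≫ G.t := by
    rw [Category.id_comp, Category.assoc, G.e_t, Category.comp_id]
  obtain ⟨σ, hσf, hσs⟩ : ∃ σ : U' ⟶ pullback g G.t, σ ≫ pr0 = 𝟙 U' ∧ σ ≫ pr1 = g ≫ G.e :=
    ⟨pullback.lift _ _ hσ, pullback.lift_fst _ _ _, pullback.lift_snd _ _ _⟩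
  have hτ : (pr0 ≫ σ) ≫ h = pr1 ≫ G.t := by
    change (pr0 ≫ σ) ≫ (pr1 ≫ G.s) = _
    rw [Category.assoc, ← Category.assoc σ, hσs, Category.assoc, G.e_s, Category.comp_id, hX]
  obtain ⟨τ, hτf, hτs⟩ : ∃ τ : pullback g G.t ⟶ pullback h G.t,
      τ ≫ pullback.fst h G.t = pr0 ≫ σ ∧ τ ≫ pullback.snd h G.t = pr1 :=
    ⟨pullback.lift _ _ hτ, pullback.lift_fst _ _ _, pullback.lift_snd _ _ _⟩
  have hτa : τ ≫ a = 𝟙 _ := by
    apply pullback.hom_ext
    · change (τ ≫ a) ≫ pr0 = 𝟙 _ ≫ pr0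
      rw [Category.assoc, haf, ← Category.assoc, hτf, Category.assoc, hσf, Category.comp_id,
        Category.id_comp]
    · change (τ ≫ a) ≫ pr1 = 𝟙 _ ≫ pr1
      rw [Category.assoc, has, precomp_gm, Category.id_comp]
      calc gm G (τ ≫ pullback.fst h G.t ≫ pr1) (τ ≫ pullback.snd h G.t) _
          = gm G (pr1 ≫ G.t ≫ G.e) pr1
              (by rw [Category.assoc, Category.assoc, G.e_s, Category.comp_id]) :=
            gm_congr G (by rw [← Category.assoc, hτf, Category.assoc, hσs, ← Category.assoc, hX,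
              Category.assoc]) hτs _
        _ = pr1 := e_gm G pr1
  refine ⟨σ ⁻¹ᵁ W h hh, ?_⟩
  calc pr0 ⁻¹ᵁ (σ ⁻¹ᵁ W h hh) = (pr0 ≫ σ) ⁻¹ᵁ W h hh := rfl
    _ = (τ ≫ pullback.fst h G.t) ⁻¹ᵁ W h hh := by rw [hτf]
    _ = τ ⁻¹ᵁ (pullback.fst h G.t ⁻¹ᵁ W h hh) := rfl
    _ = τ ⁻¹ᵁ (a ⁻¹ᵁ W h hh) := by rw [e4]
    _ = (τ ≫ a) ⁻¹ᵁ W h hh := rfl
    _ = W h hh := by rw [hτa]; rfl

end Groth.Agent.S7510
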