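import Groth.Statements.S7511
import Mathlib
import Groth.Agent.Lib.helper4.ValLift


set_option autoImplicit false
universe u
open CategoryTheory CategoryTheory.Limits AlgebraicGeometry
open HTop

namespace Groth.Agent.S7511

open Groth.Agent.Lib.helper4

/-- Let {f_i : T_i -> T} be a family of morphisms of schemes (indexed by a type in the universe of T, so
that the coproduct exists). Then it is an fpqc covering if and only if the one-arrow family
consisting of the induced morphism from the coproduct of the T_i to T is an fpqc covering. -/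
theorem result {T : Scheme.{u}} (E : PreZeroHypercover.{u} T) : E.presieve₀ ∈ Scheme.fpqcPrecoverage T ↔ Presieve.singleton (Sigma.desc E.f) ∈ Scheme.fpqcPrecoverage T := by
  rw [← PreZeroHypercover.presieve₀_singleton.{u} (Sigma.desc E.f)]
  change E.presieve₀ ∈ Scheme.propQCPrecoverage @Flat T ↔
    (PreZeroHypercover.singleton.{u} (Sigma.desc E.f)).presieve₀ ∈ Scheme.propQCPrecoverage @Flat T
  constructor
  · rintro ⟨h1, h2⟩
    have hqc : QuasiCompactCover E := Scheme.presieve₀_mem_qcPrecoverage_iff.mp h1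
    obtain ⟨hsurj, hflat⟩ := (Scheme.presieve₀_mem_precoverage_iff _).mp h2
    refine ⟨Scheme.presieve₀_mem_qcPrecoverage_iff.mpr ?_,
      (Scheme.presieve₀_mem_precoverage_iff _).mpr ⟨?_, ?_⟩⟩
    · exact QuasiCompactCover.of_hom (𝒱 := E)
        ⟨fun _ => PUnit.unit, fun i => Sigma.ι E.X i, fun i => Sigma.ι_desc _ _⟩
    · intro x
      obtain ⟨i, y, hy⟩ := hsurj x
      refine ⟨PUnit.unit, Sigma.ι E.X i y, ?_⟩
      exact (h4_comp_apply_eq (Sigma.ι E.X i) (Sigma.desc E.f) (E.f i) (Sigma.ι_desc _ _) y).trans hy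
    · intro _
      change Flat (Sigma.desc E.f)
      infer_instance
  · rintro ⟨h1, h2⟩
    have hqc : QuasiCompactCover (PreZeroHypercover.singleton.{u} (Sigma.desc E.f)) :=
      Scheme.presieve₀_mem_qcPrecoverage_iff.mp h1
    obtain ⟨hsurj, hflat⟩ := (Scheme.presieve₀_mem_precoverage_iff _).mp h2
    have hflat' : Flat (Sigma.desc E.f) := hflat PUnit.unit
    refine ⟨Scheme.presieve₀_mem_qcPrecoverage_iff.mpr ?_,
      (Scheme.presieve₀_mem_precoverage_iff _).mpr ⟨?_, ?_⟩⟩
    · let F : ∀ x : (PreZeroHypercover.singleton.{u} (Sigma.desc E.f)).I₀,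
          PreZeroHypercover.{u} ((PreZeroHypercover.singleton.{u} (Sigma.desc E.f)).X x) :=
        fun _ => (sigmaOpenCover E.X).toPreZeroHypercover
      have hF : ∀ x, QuasiCompactCover (F x) := fun _ =>
        (inferInstance : QuasiCompactCover (sigmaOpenCover E.X).toPreZeroHypercover)
      let B : PreZeroHypercover.{u} T := (PreZeroHypercover.singleton.{u} (Sigma.desc E.f)).bind F
      have h3 : QuasiCompactCover B := inferInstance
      exact QuasiCompactCover.of_hom (𝒱 := B)
        ⟨fun ji => ji.2, fun ji => 𝟙 _, fun ji =>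
          (Category.id_comp _).trans (Sigma.ι_desc E.f ji.2).symm⟩
    · intro x
      obtain ⟨_, z, hz⟩ := hsurj x
      obtain ⟨i, y, hy⟩ := (sigmaOpenCover E.X).exists_eq z
      refine ⟨i, y, ?_⟩
      have hz' : Sigma.desc E.f z = x := hz
      have hy' : Sigma.ι E.X i y = z := hy
      rw [← hz', ← hy']
      exact (h4_comp_apply_eq (Sigma.ι E.X i) (Sigma.desc E.f) (E.f i) (Sigma.ι_desc _ _) y).symm
    · intro i
      have : E.f i = Sigma.ι E.X i ≫ Sigma.desc E.f := (Sigma.ι_desc _ _).symm
      rw [this]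
      infer_instance

end Groth.Agent.S7511
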