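import Groth.Statements.S7512
import Mathlib
import Groth.Agent.Lib.helper4.ValLift


set_option autoImplicit false
universe w u
open HTop

namespace Groth.Agent.S7512

open Groth.Agent.Lib.helper4

open CategoryTheory CategoryTheory.Limits AlgebraicGeometry in
/-- Let {f_i : T_i -> T} be a family of flat morphisms of schemes. Assume that for every affine scheme Z
and every morphism h : Z -> T there is a standard fpqc covering of Z (a finite family of flat
morphisms Z_j -> Z with Z_j affine whose images cover Z) refining the family of base changes {T_i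
x_T Z -> Z} (every Z_j -> Z factors through some T_i compatibly with h). Then {f_i : T_i -> T} is an
fpqc covering (in Mathlib's sense). -/
theorem result {T : Scheme.{u}} (E : PreZeroHypercover.{w} T) (hflat : ∀ i, Flat (E.f i)) (href : ∀ (Z : Scheme.{u}) [IsAffine Z] (h : Z ⟶ T), ∃ F : PreZeroHypercover.{0} Z, Finite F.I₀ ∧ (∀ j, IsAffine (F.X j)) ∧ (∀ j, Flat (F.f j)) ∧ (∀ z : Z, ∃ (j : F.I₀) (x : F.X j), F.f j x = z) ∧ HTop.RefinesOver h F E) : E.presieve₀ ∈ Scheme.fpqcPrecoverage T := by
  change E.presieve₀ ∈ Scheme.propQCPrecoverage @Flat T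
  refine ⟨Scheme.presieve₀_mem_qcPrecoverage_iff.mpr ⟨fun {U} hU => ?_⟩,
    (Scheme.presieve₀_mem_precoverage_iff _).mpr ⟨?_, hflat⟩⟩
  · have : IsAffine (U : Scheme.{u}) := hU
    obtain ⟨F, hfin, haff, hFflat, hsurj, hF⟩ := href U U.ι
    choose a t ht using hF
    have hcov : IsCompactOpenCovered (fun j : F.I₀ => ⇑(F.f j ≫ U.ι)) (U : Set T) := by
      refine IsCompactOpenCovered.of_finite (κ := F.I₀) (a := id) (fun j => ⊤) (fun j => ?_) ?_
      · have := haff j
        exact isCompact_univ
      · ext x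
        simp only [Set.mem_iUnion, Set.mem_image]
        constructor
        · rintro ⟨j, y, -, rfl⟩
          change (F.f j ≫ U.ι) y ∈ (U : Set T)
          rw [Scheme.Hom.comp_apply]
          exact (F.f j y).2
        · intro hx
          obtain ⟨j, y, hy⟩ := hsurj ⟨x, hx⟩
          refine ⟨j, y, trivial, ?_⟩
          change (F.f j ≫ U.ι) y = x
          rw [Scheme.Hom.comp_apply, hy]
          rfl
    exact IsCompactOpenCovered.of_comp (fun j : F.I₀ => ⇑(F.f j ≫ U.ι)) (a := a)
      (fun j => ⇑(t j)) (fun j => (t j).continuous)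
      (fun j => funext fun x => by
        change (F.f j ≫ U.ι) x = E.f (a j) (t j x)
        rw [← ht j, Scheme.Hom.comp_apply])
      (fun i => (E.f i).continuous) U.2 hcov
  · intro x
    obtain ⟨_, ⟨U, hU, rfl⟩, hxU, -⟩ := T.isBasis_affineOpens.exists_subset_of_mem_open
      (Set.mem_univ x) isOpen_univ
    have : IsAffine (Scheme.Opens.toScheme U) := hU
    obtain ⟨F, hfin, haff, hFflat, hsurj, hF⟩ := href (Scheme.Opens.toScheme U) (Scheme.Opens.ι U)
    obtain ⟨j, y, hy⟩ := hsurj ⟨x, hxU⟩
    obtain ⟨i, h, hh⟩ := hF j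
    refine ⟨i, h y, ?_⟩
    rw [h4_comp_apply_eq' h (E.f i) (F.f j) (Scheme.Opens.ι U) hh, hy]
    rfl

end Groth.Agent.S7512
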