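import Groth.Statements.S7514
import Mathlib


set_option autoImplicit false
universe u
open CategoryTheory CategoryTheory.Limits AlgebraicGeometry
open Grpd

namespace Groth.Agent.S7514

/-- Let S be a scheme, U a scheme over S and j : R -> U x_S U a pre-relation, with t = pr_0 ∘ j and s =
pr_1 ∘ j. Assume (1) s and t are unramified (formally unramified and locally of finite type), (2)
for every algebraically closed field k, the map from k-points of R to pairs of k-points of U is
injective with image an equivalence relation, and (3) there are morphisms e : U -> R, i : R -> R and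
c : R x_(s,U,t) R -> R such that j ∘ e is the diagonal, j ∘ i is j followed by the flip of the two
factors, and j ∘ c is pr_02 ∘ (j x j) (the arrow c(a, b) has target t(a) and source s(b)). Then j is
an equivalence relation: j is a monomorphism and, for every scheme T, the relation 'there is a
T-point r of R with t ∘ r = a and s ∘ r = b' on T-points a, b of U is an equivalence relation. -/
theorem result {S U R : Scheme.{u}} (pU : U ⟶ S) (j : R ⟶ pullback pU pU) [FormallyUnramified (j ≫ pullback.fst pU pU)] [LocallyOfFiniteType (j ≫ pullback.fst pU pU)] [FormallyUnramified (j ≫ pullback.snd pU pU)] [LocallyOfFiniteType (j ≫ pullback.snd pU pU)] (h₂ : ∀ (k : Type u) [Field k] [IsAlgClosed k], Function.Injective (fun r : Spec (CommRingCat.of k) ⟶ R => r ≫ j) ∧ Equivalence (fun a b : Spec (CommRingCat.of k) ⟶ U => ∃ r : Spec (CommRingCat.of k) ⟶ R, r ≫ j ≫ pullback.fst pU pU = a ∧ r ≫ j ≫ pullback.snd pU pU = b)) (e : U ⟶ R) (he : e ≫ j = pullback.lift (𝟙 U) (𝟙 U) rfl) (i : R ⟶ R) (hi : i ≫ j = j ≫ (pullbackSymmetry pU pU).hom) (c :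 pullback (j ≫ pullback.snd pU pU) (j ≫ pullback.fst pU pU) ⟶ R) (hc₁ : c ≫ j ≫ pullback.fst pU pU = pullback.fst (j ≫ pullback.snd pU pU) (j ≫ pullback.fst pU pU) ≫ j ≫ pullback.fst pU pU) (hc₂ : c ≫ j ≫ pullback.snd pU pU = pullback.snd (j ≫ pullback.snd pU pU) (j ≫ pullback.fst pU pU) ≫ j ≫ pullback.snd pU pU) : Mono j ∧ ∀ T : Scheme.{u}, Equivalence (fun a b : T ⟶ U => ∃ r : T ⟶ R, r ≫ j ≫ pullback.fst pU pU = a ∧ r ≫ j ≫ pullback.snd pU pU = b) := by
  have hunr : FormallyUnramified j := FormallyUnramified.of_comp j (pullback.fst pU pU)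
  have hlft : LocallyOfFiniteType j := locallyOfFiniteType_of_comp j (pullback.fst pU pU)
  have hopen : IsOpenImmersion (pullback.diagonal j) := inferInstance
  refine ⟨?_, ?_⟩
  · rw [← pullback.isIso_diagonal_iff, isIso_iff_isOpenImmersion_and_surjective]
    refine ⟨hopen, ⟨?_⟩⟩
    intro z
    let κ := (pullback j j).residueField z
    let k := AlgebraicClosure κ
    obtain ⟨q, hqdef⟩ : ∃ q : Spec (CommRingCat.of k) ⟶ pullback j j, q =
      Spec.map (CommRingCat.ofHom (algebraMap κ k)) ≫ (pullback j j).fromSpecResidueField z :=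
      ⟨_, rfl⟩
    have hinj := (h₂ k).1
    have h12 : q ≫ pullback.fst j j = q ≫ pullback.snd j j := by
      apply hinj
      change (q ≫ pullback.fst j j) ≫ j = (q ≫ pullback.snd j j) ≫ j
      rw [Category.assoc, Category.assoc, pullback.condition]
    have hq : q = (q ≫ pullback.fst j j) ≫ pullback.diagonal j := by
      apply pullback.hom_ext
      · rw [Category.assoc, pullback.diagonal_fst, Category.comp_id]
      · rw [Category.assoc, pullback.diagonal_snd, Category.comp_id, h12]
    let pt : Spec (CommRingCat.of k) := IsLocalRing.closedPoint k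
    refine ⟨(q ≫ pullback.fst j j) pt, ?_⟩
    have h1 : (pullback.diagonal j) ((q ≫ pullback.fst j j) pt) = q pt := by
      conv_rhs => rw [hq]
      rfl
    rw [h1, hqdef]
    change ((pullback j j).fromSpecResidueField z)
      ((Spec.map (CommRingCat.ofHom (algebraMap κ k))) pt) = z
    exact Scheme.fromSpecResidueField_apply _ _
  · intro T
    refine ⟨?_, ?_, ?_⟩
    · intro a
      refine ⟨a ≫ e, ?_, ?_⟩
      · rw [Category.assoc, ← Category.assoc e, he, pullback.lift_fst, Category.comp_id]
      · rw [Category.assoc, ← Category.assoc e, he, pullback.lift_snd, Category.comp_id]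
    · rintro a b ⟨r, rfl, rfl⟩
      refine ⟨r ≫ i, ?_, ?_⟩
      · rw [Category.assoc, ← Category.assoc i, hi, Category.assoc, pullbackSymmetry_hom_comp_fst]
      · rw [Category.assoc, ← Category.assoc i, hi, Category.assoc, pullbackSymmetry_hom_comp_snd]
    · rintro a b c' ⟨r1, rfl, rfl⟩ ⟨r2, h2a, rfl⟩
      have hcomp : r1 ≫ (j ≫ pullback.snd pU pU) = r2 ≫ (j ≫ pullback.fst pU pU) := h2a.symm
      refine ⟨pullback.lift r1 r2 hcomp ≫ c, ?_, ?_⟩
      · rw [Category.assoc, hc₁, ← Category.assoc, pullback.lift_fst]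
      · rw [Category.assoc, hc₂, ← Category.assoc, pullback.lift_snd]

end Groth.Agent.S7514
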