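import Groth.Statements.S7522
import Mathlib


set_option autoImplicit false
universe u
open CategoryTheory CategoryTheory.Limits AlgebraicGeometry
open Grpd

namespace Groth.Agent.S7522

/-- Let S be a scheme, U a scheme over S and j : R -> U x_S U a pre-equivalence relation, that is a
morphism such that for every scheme T the image of the T-points of R in pairs of T-points of U is an
equivalence relation; write t = pr_0 ∘ j and s = pr_1 ∘ j. Then the relation on the points of U in
which x ∼ y when some point r of R has t(r) = x and s(r) = y is an equivalence relation. -/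
theorem result {S U R : Scheme.{u}} (pU : U ⟶ S) (j : R ⟶ pullback pU pU) (hj : ∀ T : Scheme.{u}, Equivalence (fun a b : T ⟶ U => ∃ r : T ⟶ R, r ≫ j ≫ pullback.fst pU pU = a ∧ r ≫ j ≫ pullback.snd pU pU = b)) : Equivalence (fun x y : ↥U => ∃ r : R, (j ≫ pullback.fst pU pU) r = x ∧ (j ≫ pullback.snd pU pU) r = y) := by
  have happ : ∀ {T : Scheme.{u}} (r : T ⟶ R) (m : R ⟶ U) (a : T ⟶ U) (h : r ≫ m = a) (pt : T),
      m (r pt) = a pt := by
    intro T r m a h pt
    rw [← h, Scheme.Hom.comp_apply]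
  refine ⟨?_, ?_, ?_⟩
  · intro x
    obtain ⟨r, hr1, hr2⟩ := (hj (Spec (U.residueField x))).refl (U.fromSpecResidueField x)
    have pt : Spec (U.residueField x) := IsLocalRing.closedPoint _
    refine ⟨r pt, ?_, ?_⟩
    · rw [happ r _ _ hr1 pt, Scheme.fromSpecResidueField_apply]
    · rw [happ r _ _ hr2 pt, Scheme.fromSpecResidueField_apply]
  · rintro x y ⟨r, rfl, rfl⟩
    have h1 : ∃ r' : Spec (R.residueField r) ⟶ R,
        r' ≫ j ≫ pullback.fst pU pU = R.fromSpecResidueField r ≫ j ≫ pullback.fst pU pU ∧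
        r' ≫ j ≫ pullback.snd pU pU = R.fromSpecResidueField r ≫ j ≫ pullback.snd pU pU :=
      ⟨R.fromSpecResidueField r, rfl, rfl⟩
    obtain ⟨r', hr1, hr2⟩ := (hj (Spec (R.residueField r))).symm h1
    have pt : Spec (R.residueField r) := IsLocalRing.closedPoint _
    refine ⟨r' pt, ?_, ?_⟩
    · rw [happ r' _ _ hr1 pt, Scheme.Hom.comp_apply, Scheme.fromSpecResidueField_apply]
    · rw [happ r' _ _ hr2 pt, Scheme.Hom.comp_apply, Scheme.fromSpecResidueField_apply]
  · rintro x y z ⟨r₁, rfl, rfl⟩ ⟨r₂, h2, rfl⟩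
    obtain ⟨p, hp1, hp2⟩ := Scheme.Pullback.exists_preimage_pullback
      (f := j ≫ pullback.snd pU pU) (g := j ≫ pullback.fst pU pU) r₁ r₂ h2.symm
    let P := pullback (j ≫ pullback.snd pU pU) (j ≫ pullback.fst pU pU)
    let ρ : Spec (P.residueField p) ⟶ P := P.fromSpecResidueField p
    have h1 : ∃ r' : Spec (P.residueField p) ⟶ R,
        r' ≫ j ≫ pullback.fst pU pU = (ρ ≫ pullback.fst _ _) ≫ j ≫ pullback.fst pU pU ∧
        r' ≫ j ≫ pullback.snd pU pU = (ρ ≫ pullback.fst _ _) ≫ j ≫ pullback.snd pU pU :=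
      ⟨ρ ≫ pullback.fst _ _, rfl, rfl⟩
    have h2' : ∃ r' : Spec (P.residueField p) ⟶ R,
        r' ≫ j ≫ pullback.fst pU pU = (ρ ≫ pullback.fst _ _) ≫ j ≫ pullback.snd pU pU ∧
        r' ≫ j ≫ pullback.snd pU pU = (ρ ≫ pullback.snd _ _) ≫ j ≫ pullback.snd pU pU := by
      refine ⟨ρ ≫ pullback.snd _ _, ?_, rfl⟩
      rw [Category.assoc, Category.assoc, pullback.condition]
    obtain ⟨r', hr1, hr2⟩ := (hj (Spec (P.residueField p))).trans h1 h2'
    have pt : Spec (P.residueField p) := IsLocalRing.closedPoint _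
    have hρ : ρ pt = p := Scheme.fromSpecResidueField_apply p pt
    refine ⟨r' pt, ?_, ?_⟩
    · rw [happ r' _ _ hr1 pt]
      simp only [Scheme.Hom.comp_apply]
      rw [hρ, hp1]
    · rw [happ r' _ _ hr2 pt]
      simp only [Scheme.Hom.comp_apply]
      rw [hρ, hp2]

end Groth.Agent.S7522
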