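import Groth.Statements.S7523
import Mathlib
import Groth.Agent.Lib.helper4.ConstrTop


set_option autoImplicit false
universe u
open SpecSp

namespace Groth.Agent.S7523

/-- For a spectral map f : X → Y between spectral spaces, (1) f remains continuous once X and Y are both
given their constructible topologies, (2) every fibre of f is quasi-compact, and (3) f(X) is a
closed subset of Y for the constructible topology. -/
theorem result {X Y : Type u} [TopologicalSpace X] [TopologicalSpace Y]
    [SpectralSpace X] [SpectralSpace Y] (f : X → Y) (hf : IsSpectralMap f) :
    @Continuous X Y (constructibleTopology X) (constructibleTopology Y) f ∧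
    (∀ y : Y, IsCompact (f ⁻¹' {y})) ∧
    @IsClosed Y (constructibleTopology Y) (Set.range f) := by
  have hc := Groth.Agent.Lib.helper4.h4_continuous_constr_of_isSpectralMap hf
  have hT2 : @T2Space Y (constructibleTopology Y) := Groth.Agent.Lib.helper4.h4_t2Space_constr
  refine ⟨hc, fun y => ?_, ?_⟩
  · apply Groth.Agent.Lib.helper4.h4_isCompact_of_isClosed_constr
    have hy : @IsClosed Y (constructibleTopology Y) ({y} : Set Y) :=
      @isClosed_singleton Y (constructibleTopology Y) _ y
    exact @IsClosed.preimage X Y (constructibleTopology X) (constructibleTopology Y) f hc _ hy
  · have hcomp : @IsCompact Y (constructibleTopology Y) (Set.range f) := by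
      rw [← Set.image_univ]
      exact @IsCompact.image X Y (constructibleTopology X) (constructibleTopology Y) _ f
        (@isCompact_univ X (constructibleTopology X)
          Groth.Agent.Lib.helper4.h4_compactSpace_constr) hc
    exact @IsCompact.isClosed Y (constructibleTopology Y) hT2 _ hcomp

end Groth.Agent.S7523
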