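import Groth.Statements.S7526
import Mathlib
import Groth.Agent.Lib.helper4.ConstrTop


set_option autoImplicit false
universe u
open SpecSp

namespace Groth.Agent.S7526

/-- Let X be a spectral space. If E ⊆ X is closed in the constructible topology then (1) every point of
the closure of E is a specialization of some point of E, and (2) E is closed as soon as it is also
stable under specialization. (3) Any E' ⊆ X that is stable under generalization and constructibly
open is open. -/
theorem result {X : Type u} [TopologicalSpace X] [SpectralSpace X] :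
    (∀ E : Set X, @IsClosed X (constructibleTopology X) E →
      (∀ x ∈ closure E, ∃ e ∈ E, e ⤳ x) ∧ (StableUnderSpecialization E → IsClosed E)) ∧
    (∀ E' : Set X, @IsOpen X (constructibleTopology X) E' → StableUnderGeneralization E' → IsOpen E') := by
  have a1 : ∀ E : Set X, @IsClosed X (constructibleTopology X) E →
      ∀ x ∈ closure E, ∃ e ∈ E, e ⤳ x := by
    intro E hE x hx
    let ι := {U : Set X // IsOpen U ∧ IsCompact U ∧ x ∈ U}
    have : Nonempty ι := ⟨⟨Set.univ, isOpen_univ, isCompact_univ, trivial⟩⟩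
    have hne : ∀ i : ι, (i.1 ∩ E).Nonempty := fun i =>
      mem_closure_iff.mp hx i.1 i.2.1 i.2.2.2
    have hcl : ∀ i : ι, @IsClosed X (constructibleTopology X) (i.1 ∩ E) := fun i =>
      @IsClosed.inter X _ _ (constructibleTopology X)
        (Groth.Agent.Lib.helper4.h4_isClopen_constr_of_isCompact_isOpen i.2.1 i.2.2.1).1 hE
    have hdir : Directed (· ⊇ ·) fun i : ι => i.1 ∩ E := by
      intro i j
      refine ⟨⟨i.1 ∩ j.1, i.2.1.inter j.2.1,
        QuasiSeparatedSpace.inter_isCompact _ _ i.2.1 i.2.2.1 j.2.1 j.2.2.1,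
        i.2.2.2, j.2.2.2⟩, ?_, ?_⟩
      · exact fun y hy => ⟨hy.1.1, hy.2⟩
      · exact fun y hy => ⟨hy.1.2, hy.2⟩
    obtain ⟨e, he⟩ := @IsCompact.nonempty_iInter_of_directed_nonempty_isCompact_isClosed X
      (constructibleTopology X) ι _ (fun i => i.1 ∩ E) hdir hne
      (fun i => Groth.Agent.Lib.helper4.h4_isCompact_constr_of_isClosed_constr (hcl i)) hcl
    rw [Set.mem_iInter] at he
    refine ⟨e, (he ⟨Set.univ, isOpen_univ, isCompact_univ, trivial⟩).2, ?_⟩
    rw [specializes_iff_forall_open]
    intro V hV hxV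
    obtain ⟨U, ⟨hUo, hUc⟩, hxU, hUV⟩ :=
      PrespectralSpace.isTopologicalBasis.exists_subset_of_mem_open hxV hV
    exact hUV (he ⟨U, hUo, hUc, hxU⟩).1
  have a2 : ∀ E : Set X, @IsClosed X (constructibleTopology X) E →
      StableUnderSpecialization E → IsClosed E := by
    intro E hE hstab
    rw [← closure_subset_iff_isClosed]
    intro x hx
    obtain ⟨e, heE, hex⟩ := a1 E hE x hx
    exact hstab hex heE
  refine ⟨fun E hE => ⟨a1 E hE, a2 E hE⟩, fun E' hE' hgen => ?_⟩
  rw [← isClosed_compl_iff]
  refine a2 E'ᶜ ?_ (stableUnderSpecialization_compl_iff.mpr hgen)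
  exact (@isClosed_compl_iff X (constructibleTopology X) E').mpr hE'

end Groth.Agent.S7526
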