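import Groth.Statements.S7527
import Mathlib
import Groth.Agent.Lib.helper4.Spectral


set_option autoImplicit false
universe u
open SpecSp

namespace Groth.Agent.S7527

open Groth.Agent.Lib.helper4

/-- Let X be a spectral space and x, y ∈ X. Then either there is a third point specializing to both x
and y, or there are disjoint open neighbourhoods of x and of y. -/
theorem result {X : Type u} [TopologicalSpace X] [SpectralSpace X] (x y : X) :
    (∃ z : X, z ⤳ x ∧ z ⤳ y) ∨
    (∃ U V : Set X, IsOpen U ∧ IsOpen V ∧ x ∈ U ∧ y ∈ V ∧ Disjoint U V) := by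
  classical
  let ι := {p : Set X × Set X // (IsOpen p.1 ∧ IsCompact p.1 ∧ x ∈ p.1) ∧ (IsOpen p.2 ∧ IsCompact p.2 ∧ y ∈ p.2)}
  by_cases h : (⋂ p : ι, p.1.1 ∩ p.1.2).Nonempty
  · left
    obtain ⟨z, hz⟩ := h
    rw [Set.mem_iInter] at hz
    refine ⟨z, ?_, ?_⟩
    · rw [specializes_iff_forall_open]
      intro U hU hxU
      obtain ⟨U', ⟨hU'o, hU'c⟩, hxU', hU'U⟩ :=
        PrespectralSpace.isTopologicalBasis.exists_subset_of_mem_open hxU hU
      exact hU'U (hz ⟨(U', Set.univ), ⟨hU'o, hU'c, hxU'⟩, ⟨isOpen_univ, isCompact_univ, Set.mem_univ y⟩⟩).1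
    · rw [specializes_iff_forall_open]
      intro U hU hyU
      obtain ⟨U', ⟨hU'o, hU'c⟩, hyU', hU'U⟩ :=
        PrespectralSpace.isTopologicalBasis.exists_subset_of_mem_open hyU hU
      exact hU'U (hz ⟨(Set.univ, U'), ⟨isOpen_univ, isCompact_univ, Set.mem_univ x⟩, ⟨hU'o, hU'c, hyU'⟩⟩).2
  · right
    rw [Set.not_nonempty_iff_eq_empty] at h
    have hcomp : @IsCompact X (constructibleTopology X) Set.univ :=
      (@isCompact_univ_iff _ (constructibleTopology X)).2 h4_compactSpace_constr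
    obtain ⟨u, hu⟩ := @IsCompact.elim_finite_subfamily_closed X (constructibleTopology X) Set.univ ι hcomp
      (fun p => p.1.1 ∩ p.1.2)
      (fun p => @IsClosed.inter _ _ _ (constructibleTopology X)
        (h4_isClopen_constr_of_isCompact_isOpen p.2.1.1 p.2.1.2.1).1
        (h4_isClopen_constr_of_isCompact_isOpen p.2.2.1 p.2.2.2.1).1)
      (by rw [h, Set.inter_empty])
    refine ⟨⋂ p ∈ u, p.1.1, ⋂ p ∈ u, p.1.2, isOpen_biInter_finset fun p _ => p.2.1.1,
      isOpen_biInter_finset fun p _ => p.2.2.1, ?_, ?_, ?_⟩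
    · simp only [Set.mem_iInter]
      exact fun p _ => p.2.1.2.2
    · simp only [Set.mem_iInter]
      exact fun p _ => p.2.2.2.2
    · rw [Set.disjoint_left]
      intro w hw1 hw2
      simp only [Set.mem_iInter] at hw1 hw2
      have : w ∈ Set.univ ∩ ⋂ p ∈ u, (p.1.1 ∩ p.1.2) := by
        refine ⟨Set.mem_univ _, ?_⟩
        simp only [Set.mem_iInter]
        exact fun p hp => ⟨hw1 p hp, hw2 p hp⟩
      rw [hu] at this
      exact this

end Groth.Agent.S7527
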