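import Groth.Statements.S7528
import Mathlib
import Groth.Agent.Lib.helper4.Spectral
import Groth.Agent.S7527


set_option autoImplicit false
universe u
open SpecSp

namespace Groth.Agent.S7528

open Groth.Agent.Lib.helper4

/-- For a spectral space X the following are equivalent: (1) X is profinite, i.e. quasi-compact,
Hausdorff and totally disconnected (quasi-compactness being automatic); (2) X is Hausdorff; (3) X is
totally disconnected; (4) every quasi-compact open subset is closed; (5) there are no nontrivial
specializations between points; (6) every point is closed; (7) every point is the generic point of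
an irreducible component; (8) the constructible topology coincides with the topology of X. -/
theorem result (X : Type u) [tX : TopologicalSpace X] [SpectralSpace X] :
    List.TFAE [
      T2Space X ∧ TotallyDisconnectedSpace X,
      T2Space X,
      TotallyDisconnectedSpace X,
      ∀ U : Set X, IsOpen U → IsCompact U → IsClosed U,
      ∀ x y : X, x ⤳ y → x = y,
      ∀ x : X, IsClosed ({x} : Set X),
      ∀ x : X, closure ({x} : Set X) ∈ irreducibleComponents X,
      constructibleTopology X = tX] := by
  have hT0 : T0Space X := SpectralSpace.toT0Space
  have h21 : T2Space X → TotallyDisconnectedSpace X := fun _ => inferInstance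
  have h62 : (∀ x : X, IsClosed ({x} : Set X)) → T2Space X := by
    intro h6
    refine ⟨fun x y hxy => ?_⟩
    rcases Groth.Agent.S7527.result x y with ⟨z, hzx, hzy⟩ | ⟨U, V, hU, hV, hxU, hyV, hUV⟩
    · exfalso
      have h1 : x = z := by
        have := (specializes_iff_mem_closure.1 hzx)
        rw [(h6 z).closure_eq] at this
        exact this
      have h2 : y = z := by
        have := (specializes_iff_mem_closure.1 hzy)
        rw [(h6 z).closure_eq] at this
        exact this
      exact hxy (h1.trans h2.symm)
    · exact ⟨U, V, hU, hV, hxU, hyV, hUV⟩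
  tfae_have 1 → 2 := fun h => h.1
  tfae_have 2 → 1 := fun h => ⟨h, h21 h⟩
  tfae_have 2 → 3 := h21
  tfae_have 3 → 5 := by
    intro h x y hxy
    have hpre : IsPreconnected (closure ({x} : Set X)) :=
      (isPreconnected_singleton (x := x)).closure
    exact hpre.subsingleton (subset_closure rfl) (specializes_iff_mem_closure.1 hxy)
  tfae_have 5 → 6 := by
    intro h x
    rw [← closure_eq_iff_isClosed]
    apply Set.Subset.antisymm
    · intro y hy
      exact (h x y (specializes_iff_mem_closure.2 hy)).symm
    · exact subset_closure
  tfae_have 6 → 2 := h62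
  tfae_have 2 → 4 := fun _ U _ hUc => hUc.isClosed
  tfae_have 4 → 5 := by
    intro h x y hxy
    by_contra hne
    obtain ⟨U, hU, hU'⟩ := exists_isOpen_xor_mem hne
    have hxU : x ∈ U ∧ y ∉ U := by
      rcases hU' with h1 | h1
      · exact h1
      · exact absurd (hxy.mem_open hU h1.1) h1.2
    obtain ⟨U', ⟨hU'o, hU'c⟩, hxU', hU'U⟩ :=
      PrespectralSpace.isTopologicalBasis.exists_subset_of_mem_open hxU.1 hU
    have hcl := h U' hU'o hU'c
    have : y ∈ U' := by
      have h1 : closure ({x} : Set X) ⊆ U' := closure_minimal (Set.singleton_subset_iff.2 hxU') hcl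
      exact h1 (specializes_iff_mem_closure.1 hxy)
    exact hxU.2 (hU'U this)
  tfae_have 6 → 7 := by
    intro h6 x
    have hT2 := h62 h6
    have hTD := h21 hT2
    rw [(h6 x).closure_eq]
    refine ⟨isIrreducible_singleton, fun t ht hxt => ?_⟩
    intro y hy
    have := ht.isPreirreducible.isPreconnected.subsingleton hy (hxt rfl)
    exact this
  tfae_have 7 → 5 := by
    intro h x y hxy
    have h1 : closure ({y} : Set X) ⊆ closure {x} := specializes_iff_closure_subset.1 hxy
    have h2 : closure ({x} : Set X) ⊆ closure {y} :=
      (h y).2 (isIrreducible_singleton.closure) h1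
    have h3 : y ⤳ x := specializes_iff_closure_subset.2 h2
    exact (hxy.antisymm h3).eq
  tfae_have 2 → 8 := by
    intro hT2
    apply le_antisymm h4_constr_le
    refine le_generateFrom ?_
    rintro s (⟨hso, -⟩ | ⟨hscl, hsc⟩)
    · exact hso
    · have := hsc.isClosed
      rwa [isClosed_compl_iff] at this
  tfae_have 8 → 2 := by
    intro h
    have := h4_t2Space_constr (X := X)
    rwa [h] at this
  tfae_finish

end Groth.Agent.S7528
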