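import Groth.Statements.S7529
import Mathlib
import Groth.Agent.Lib.helper4.Spectral


set_option autoImplicit false
universe u
open SpecSp

namespace Groth.Agent.S7529

open Groth.Agent.Lib.helper4

/-- The product X × Y of two spectral spaces X and Y is a spectral space. -/
theorem result (X Y : Type u) [TopologicalSpace X] [TopologicalSpace Y]
    [SpectralSpace X] [SpectralSpace Y] : SpectralSpace (X × Y) := by
  let τ' : Unit → TopologicalSpace (X × Y) := fun _ =>
    @instTopologicalSpaceProd X Y (constructibleTopology X) (constructibleTopology Y)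
  have hcomp : @CompactSpace (X × Y) (τ' ()) :=
    @instCompactSpaceProd X Y (constructibleTopology X) (constructibleTopology Y)
      h4_compactSpace_constr h4_compactSpace_constr
  let B : Set (Set (X × Y)) := Set.image2 (· ×ˢ ·) {U : Set X | IsOpen U ∧ IsCompact U}
    {V : Set Y | IsOpen V ∧ IsCompact V}
  have hbasis : TopologicalSpace.IsTopologicalBasis B :=
    PrespectralSpace.isTopologicalBasis.prod PrespectralSpace.isTopologicalBasis
  refine (h4_spectralSpace_of_basis (τ' ()) B hbasis ?_ ?_ hcomp ?_).1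
  · rintro _ ⟨U, ⟨hUo, hUc⟩, V, ⟨hVo, hVc⟩, rfl⟩ _ ⟨U', ⟨hUo', hUc'⟩, V', ⟨hVo', hVc'⟩, rfl⟩
    refine ⟨U ∩ U', ⟨hUo.inter hUo', QuasiSeparatedSpace.inter_isCompact U U' hUo hUc hUo' hUc'⟩,
      V ∩ V', ⟨hVo.inter hVo', QuasiSeparatedSpace.inter_isCompact V V' hVo hVc hVo' hVc'⟩, ?_⟩
    exact Set.prod_inter_prod.symm
  · exact ⟨Set.univ, ⟨isOpen_univ, isCompact_univ⟩, Set.univ, ⟨isOpen_univ, isCompact_univ⟩,
      Set.univ_prod_univ⟩
  · rintro _ ⟨U, ⟨hUo, hUc⟩, V, ⟨hVo, hVc⟩, rfl⟩
    exact @IsClopen.prod X Y (constructibleTopology X) (constructibleTopology Y) U V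
      (h4_isClopen_constr_of_isCompact_isOpen hUo hUc) (h4_isClopen_constr_of_isCompact_isOpen hVo hVc)

end Groth.Agent.S7529
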