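import Groth.Statements.S7530
import Mathlib
import Groth.Agent.Lib.helper4.Spectral
import Groth.Agent.S7526


set_option autoImplicit false
universe u
open SpecSp

namespace Groth.Agent.S7530

open Groth.Agent.Lib.helper4

/-- Let f : X → Y be a map of spectral spaces which is spectral and bijective, and assume that
generalizations lift along f or that specializations lift along f. Then f is a homeomorphism. -/
theorem result {X Y : Type u} [TopologicalSpace X] [TopologicalSpace Y]
    [SpectralSpace X] [SpectralSpace Y] (f : X → Y) (hf : IsSpectralMap f) (hb : Function.Bijective f)
    (hlift : GeneralizingMap f ∨ SpecializingMap f) :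
    IsHomeomorph f := by
  have hcc : @Continuous X Y (constructibleTopology X) (constructibleTopology Y) f :=
    h4_continuous_constr_of_isSpectralMap hf
  have hhom : @IsHomeomorph X Y (constructibleTopology X) (constructibleTopology Y) f :=
    (@isHomeomorph_iff_continuous_bijective X Y (constructibleTopology X) (constructibleTopology Y) f
      h4_compactSpace_constr h4_t2Space_constr).2 ⟨hcc, hb⟩
  have h26 := Groth.Agent.S7526.result (X := Y)
  rcases hlift with hg | hs
  · refine ⟨hf.continuous, fun U hU => ?_, hb⟩
    apply h26.2 (f '' U)
    · exact @IsHomeomorph.isOpenMap X Y (constructibleTopology X) (constructibleTopology Y) f hhom U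
        (h4_isOpen_constr_of_isOpen hU)
    · exact hg.stableUnderGeneralization_image hU.stableUnderGeneralization
  · rw [isHomeomorph_iff_continuous_isClosedMap_bijective]
    refine ⟨hf.continuous, fun Z hZ => ?_, hb⟩
    apply (h26.1 (f '' Z) ?_).2
    · exact hs.stableUnderSpecialization_image hZ.stableUnderSpecialization
    · exact @IsHomeomorph.isClosedMap X Y (constructibleTopology X) (constructibleTopology Y) f hhom Z
        (h4_isClosed_constr_of_isClosed hZ)

end Groth.Agent.S7530
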