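import Groth.Statements.S7532
import Mathlib
import Groth.Agent.Lib.helper4.Spectral


set_option autoImplicit false
universe u
open SpecSp

namespace Groth.Agent.S7532

open Groth.Agent.Lib.helper4

/-- Let W be the two-point space with one closed and one non-closed point (here the Sierpiński topology
on Prop). A topological space X is spectral exactly when, for some index type I, X admits a
topological embedding into the power W^I whose image is a closed set for the constructible topology
on W^I. -/
theorem result (X : Type u) [TopologicalSpace X] :
    SpectralSpace X ↔ ∃ (I : Type u) (f : X → (I → Prop)),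
      Topology.IsEmbedding f ∧ @IsClosed (I → Prop) (constructibleTopology (I → Prop)) (Set.range f) := by
  classical
  have hProp : SpectralSpace Prop := h4_spectralSpace_of_finite
  constructor
  · intro hX
    let I := {U : Set X // IsOpen U ∧ IsCompact U}
    let f : X → (I → Prop) := fun x U => x ∈ U.1
    have hPi := h4_spectralSpace_pi (ι := I) (X := fun _ => Prop)
    have hP : SpectralSpace (I → Prop) := hPi.1
    have hfc : Continuous f := continuous_pi fun U => continuous_Prop.2 U.2.1
    -- coordinates are continuous for the constructible topologies
    have hcoord : ∀ U : I, @Continuous X Prop (constructibleTopology X) (constructibleTopology Prop)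
        (fun x => x ∈ U.1) := by
      intro U
      refine h4_continuous_constr_of_isSpectralMap ⟨continuous_Prop.2 U.2.1, fun s _ _ => ?_⟩
      refine h4_isCompact_of_isClosed_constr ?_
      have hUcl := h4_isClopen_constr_of_isCompact_isOpen U.2.1 U.2.2
      by_cases hT : True ∈ s <;> by_cases hF : False ∈ s
      · have : (fun x => x ∈ U.1) ⁻¹' s = Set.univ := by
          ext x
          by_cases hx : x ∈ U.1 <;> simp [hx, hT, hF]
        rw [this]; exact @isClosed_univ _ (constructibleTopology X)
      · have : (fun x => x ∈ U.1) ⁻¹' s = U.1 := by
          ext x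
          by_cases hx : x ∈ U.1 <;> simp [hx, hT, hF]
        rw [this]; exact hUcl.1
      · have : (fun x => x ∈ U.1) ⁻¹' s = U.1ᶜ := by
          ext x
          by_cases hx : x ∈ U.1 <;> simp [hx, hT, hF]
        rw [this]; exact (@IsClopen.compl _ (constructibleTopology X) _ hUcl).1
      · have : (fun x => x ∈ U.1) ⁻¹' s = ∅ := by
          ext x
          by_cases hx : x ∈ U.1 <;> simp [hx, hT, hF]
        rw [this]; exact @isClosed_empty _ (constructibleTopology X)
    have hfcc : @Continuous X (I → Prop) (constructibleTopology X) (constructibleTopology (I → Prop)) f := by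
      rw [hPi.2]
      exact @continuous_pi _ _ _ (constructibleTopology X) (fun _ => constructibleTopology Prop) _ hcoord
    refine ⟨I, f, ⟨⟨?_⟩, ?_⟩, ?_⟩
    · -- inducing
      apply le_antisymm
      · exact continuous_iff_le_induced.1 hfc
      · intro V hV
        rw [isOpen_induced_iff]
        refine ⟨⋃ U : {U : I // U.1 ⊆ V}, {u : I → Prop | u U.1}, ?_, ?_⟩
        · refine isOpen_iUnion fun U => ?_
          exact (continuous_Prop.1 (continuous_apply U.1))
        · ext x
          simp only [Set.preimage_iUnion, Set.mem_iUnion, Set.mem_preimage, Set.mem_ofPred_eq, f]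
          constructor
          · rintro ⟨U, hxU⟩
            exact U.2 hxU
          · intro hxV
            obtain ⟨U', ⟨hU'o, hU'c⟩, hxU', hU'V⟩ :=
              PrespectralSpace.isTopologicalBasis.exists_subset_of_mem_open hxV hV
            exact ⟨⟨⟨U', hU'o, hU'c⟩, hU'V⟩, hxU'⟩
    · -- injective
      intro x y hxy
      by_contra hne
      obtain ⟨U, hUo, hUc, h⟩ := h4_exists_compact_open_separating hne
      have := congrFun hxy ⟨U, hUo, hUc⟩
      simp only [f, eq_iff_iff] at this
      rcases h with ⟨h1, h2⟩ | ⟨h1, h2⟩
      · exact h2 (this.1 h1)
      · exact h2 (this.2 h1)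
    · -- range closed
      have hcomp : @IsCompact (I → Prop) (constructibleTopology (I → Prop)) (Set.range f) :=
        @isCompact_range X (I → Prop) (constructibleTopology X) (constructibleTopology (I → Prop))
          h4_compactSpace_constr f hfcc
      exact @IsCompact.isClosed _ (constructibleTopology (I → Prop)) h4_t2Space_constr _ hcomp
  · rintro ⟨I, f, hf, hr⟩
    have hP : SpectralSpace (I → Prop) := (h4_spectralSpace_pi (ι := I) (X := fun _ => Prop)).1
    exact (h4_spectralSpace_of_isEmbedding hf hr).1

end Groth.Agent.S7532
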