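import Groth.Statements.S7535
import Mathlib
import Groth.Agent.Lib.helper4.SpectralLimit


set_option autoImplicit false
universe u
open CategoryTheory CategoryTheory.Limits
open SpecSp

namespace Groth.Agent.S7535

open Groth.Agent.Lib.helper4

/-- Let j ↦ X_j be a cofiltered diagram of spectral spaces with spectral transition maps f_a, X its
limit with projections p_j, i an object, and E, F ⊆ X_i subsets, E constructibly closed and F
constructibly open in X_i. The inclusion p_i⁻¹(E) ⊆ p_i⁻¹(F) holds exactly when some morphism a : j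
→ i already gives f_a⁻¹(E) ⊆ f_a⁻¹(F). -/
theorem result {J : Type u} [SmallCategory J] [IsCofiltered J] (F : J ⥤ TopCat.{u})
    (hF : ∀ j, SpectralSpace (F.obj j))
    (hFm : ∀ {i j : J} (a : i ⟶ j), IsSpectralMap (F.map a : F.obj i → F.obj j))
    (c : Cone F) (hc : IsLimit c)
    (i : J) (E F' : Set (F.obj i)) (hE : @IsClosed (F.obj i) (constructibleTopology (F.obj i)) E)
    (hF' : @IsOpen (F.obj i) (constructibleTopology (F.obj i)) F') :
    (c.π.app i ⁻¹' E ⊆ c.π.app i ⁻¹' F') ↔ ∃ (j : J) (a : j ⟶ i), F.map a ⁻¹' E ⊆ F.map a ⁻¹' F' := by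
  classical
  constructor
  · intro hsub
    by_contra hcon
    push Not at hcon
    -- G = E \ F' is constructibly closed
    have hG : @IsClosed (F.obj i) (constructibleTopology (F.obj i)) (E \ F') :=
      @IsClosed.sdiff _ _ _ (constructibleTopology (F.obj i)) hE hF'
    have hne0 : ∀ (j : J) (a : j ⟶ i), (F.map a ⁻¹' (E \ F')).Nonempty := by
      intro j a
      have := hcon j a
      rw [Set.not_subset] at this
      obtain ⟨x, hx1, hx2⟩ := this
      exact ⟨x, hx1, hx2⟩
    let Z : ∀ j, Set (F.obj j) := fun j => ⋂ (a : j ⟶ i), F.map a ⁻¹' (E \ F')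
    have hZcl : ∀ j, @IsClosed (F.obj j) (constructibleTopology (F.obj j)) (Z j) := by
      intro j
      have := hF j
      have := hF i
      refine @isClosed_iInter _ _ (constructibleTopology (F.obj j)) _ fun a => ?_
      exact @IsClosed.preimage _ _ (constructibleTopology (F.obj j)) (constructibleTopology (F.obj i)) _
        (h4_continuous_constr_of_isSpectralMap (hFm a)) _ hG
    have hZmap : ∀ {j j' : J} (b : j ⟶ j'), Set.MapsTo (F.map b) (Z j) (Z j') := by
      intro j j' b x hx
      simp only [Z, Set.mem_iInter, Set.mem_preimage] at hx ⊢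
      intro a
      have := hx (b ≫ a)
      rw [F.map_comp] at this
      exact this
    have hZne : ∀ j, (Z j).Nonempty := by
      intro j
      have := hF j
      have := hF i
      have hcomp : @IsCompact (F.obj j) (constructibleTopology (F.obj j)) Set.univ :=
        (@isCompact_univ_iff _ (constructibleTopology (F.obj j))).2 h4_compactSpace_constr
      have := @IsCompact.inter_iInter_nonempty (F.obj j) (constructibleTopology (F.obj j)) Set.univ
        (j ⟶ i) hcomp (fun a => F.map a ⁻¹' (E \ F'))
        (fun a => @IsClosed.preimage _ _ (constructibleTopology (F.obj j))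
          (constructibleTopology (F.obj i)) _
          (h4_continuous_constr_of_isSpectralMap (hFm a)) _ hG) ?_
      · obtain ⟨x, -, hx⟩ := this
        exact ⟨x, hx⟩
      · intro u
        have mj : j ∈ ({j, i} : Finset J) := by simp
        have mi : i ∈ ({j, i} : Finset J) := by simp
        obtain ⟨S, T, hT⟩ := IsCofiltered.inf_exists ({j, i} : Finset J)
          (u.image (fun a => (⟨j, i, mj, mi, a⟩ :
            Σ' (X Y : J) (_ : X ∈ ({j, i} : Finset J)) (_ : Y ∈ ({j, i} : Finset J)), X ⟶ Y)))
        obtain ⟨y, hy⟩ := hne0 S (T mi)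
        refine ⟨F.map (T mj) y, Set.mem_univ _, ?_⟩
        simp only [Set.mem_iInter, Set.mem_preimage]
        intro a ha
        have h1 : T mj ≫ a = T mi := hT mj mi (Finset.mem_image.2 ⟨a, ha, rfl⟩)
        have h2 : F.map a (F.map (T mj) y) = F.map (T mi) y := by
          rw [← h1, F.map_comp]
          rfl
        rw [h2]
        exact hy
    obtain ⟨x, hx⟩ := limit_exists_of_cofiltered hF hFm Z hZmap hc hZne hZcl
    have hxi := hx i
    simp only [Z, Set.mem_iInter, Set.mem_preimage] at hxi
    have := hxi (𝟙 i)
    rw [F.map_id] at this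
    exact this.2 (hsub this.1)
  · rintro ⟨j, a, hsub⟩ x hx
    have hw : c.π.app i x = F.map a (c.π.app j x) := by
      rw [← c.w a]
      rfl
    simp only [Set.mem_preimage] at hx ⊢
    rw [hw] at hx ⊢
    exact hsub hx

end Groth.Agent.S7535
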