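import Groth.Statements.S7536
import Mathlib
import Groth.Agent.Lib.helper4.SpectralLimit


set_option autoImplicit false
universe u
open CategoryTheory CategoryTheory.Limits
open SpecSp

namespace Groth.Agent.S7536

open Groth.Agent.Lib.helper4

/-- Let j ↦ X_j be a cofiltered diagram of spectral spaces with spectral transition maps and X its limit
with projections p_j. For every constructible E ⊆ X there are an object i and a constructible E_i ⊆
X_i with p_i⁻¹(E_i) = E; if E is open, resp. closed, then E_i may be chosen open, resp. closed. -/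
theorem result {J : Type u} [SmallCategory J] [IsCofiltered J] (F : J ⥤ TopCat.{u})
    (hF : ∀ j, SpectralSpace (F.obj j))
    (hFm : ∀ {i j : J} (a : i ⟶ j), IsSpectralMap (F.map a : F.obj i → F.obj j))
    (c : Cone F) (hc : IsLimit c)
    (E : Set c.pt) (hE : Topology.IsConstructible E) :
    (∃ (i : J) (Ei : Set (F.obj i)), Topology.IsConstructible Ei ∧ c.π.app i ⁻¹' Ei = E) ∧
    (IsOpen E → ∃ (i : J) (Ei : Set (F.obj i)), Topology.IsConstructible Ei ∧ IsOpen Ei ∧ c.π.app i ⁻¹' Ei = E) ∧
    (IsClosed E → ∃ (i : J) (Ei : Set (F.obj i)), Topology.IsConstructible Ei ∧ IsClosed Ei ∧ c.π.app i ⁻¹' Ei = E) := by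
  have hsp : SpectralSpace c.pt := (limit_spectral hF hFm hc).1
  have hopen : ∀ E' : Set c.pt, Topology.IsConstructible E' → IsOpen E' →
      ∃ (i : J) (Ei : Set (F.obj i)), Topology.IsConstructible Ei ∧ IsOpen Ei ∧ c.π.app i ⁻¹' Ei = E' := by
    intro E' hE' hE'o
    have hcomp : IsCompact E' :=
      h4_isCompact_of_isClosed_constr (h4_isClopen_constr_of_isConstructible hE').1
    obtain ⟨i, Ui, h1, h2, h3⟩ := mem_pulledCompactOpens hF hFm hc hE'o hcomp
    have := hF i
    exact ⟨i, Ui, h2.isConstructible h1, h1, h3⟩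
  refine ⟨exists_constructible_stage hF hFm hc hE, hopen E hE, fun hcl => ?_⟩
  obtain ⟨i, Ui, h1, h2, h3⟩ := hopen Eᶜ hE.compl hcl.isOpen_compl
  refine ⟨i, Uiᶜ, h1.compl, h2.isClosed_compl, ?_⟩
  rw [Set.preimage_compl, h3, compl_compl]

end Groth.Agent.S7536
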