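import Groth.Statements.S7538
import Mathlib
import Groth.Agent.Lib.helper4.SpectralLimit
import Groth.Agent.S7535


set_option autoImplicit false
universe u
open CategoryTheory CategoryTheory.Limits
open SpecSp

namespace Groth.Agent.S7538

open Groth.Agent.Lib.helper4

/-- Let j ↦ X_j be a cofiltered diagram of spectral spaces with spectral transition maps f_a and X its
limit with projections p_j. (1) Any quasi-compact open U ⊆ X is p_i⁻¹(U_i) for some i and some
quasi-compact open U_i ⊆ X_i. (2) If U_i ⊆ X_i and U_j ⊆ X_j are quasi-compact opens with p_i⁻¹(U_i)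
⊆ p_j⁻¹(U_j), there are k and a : k → i, b : k → j with f_a⁻¹(U_i) ⊆ f_b⁻¹(U_j). (3) If U_i and
finitely many U_{l,i} are quasi-compact opens of X_i with p_i⁻¹(U_i) = ⋃_l p_i⁻¹(U_{l,i}), then
f_a⁻¹(U_i) = ⋃_l f_a⁻¹(U_{l,i}) for some a : j → i. (4) The same with intersections. -/
theorem result {J : Type u} [SmallCategory J] [IsCofiltered J] (F : J ⥤ TopCat.{u})
    (hF : ∀ j, SpectralSpace (F.obj j))
    (hFm : ∀ {i j : J} (a : i ⟶ j), IsSpectralMap (F.map a : F.obj i → F.obj j))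
    (c : Cone F) (hc : IsLimit c) :
    (∀ U : Set c.pt, IsOpen U → IsCompact U →
      ∃ (i : J) (Ui : Set (F.obj i)), IsOpen Ui ∧ IsCompact Ui ∧ c.π.app i ⁻¹' Ui = U) ∧
    (∀ (i j : J) (Ui : Set (F.obj i)) (Uj : Set (F.obj j)),
      IsOpen Ui → IsCompact Ui → IsOpen Uj → IsCompact Uj →
      c.π.app i ⁻¹' Ui ⊆ c.π.app j ⁻¹' Uj →
      ∃ (k : J) (a : k ⟶ i) (b : k ⟶ j), F.map a ⁻¹' Ui ⊆ F.map b ⁻¹' Uj) ∧
    (∀ (i : J) (n : ℕ) (Ui : Set (F.obj i)) (V : Fin n → Set (F.obj i)),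
      IsOpen Ui → IsCompact Ui → (∀ l, IsOpen (V l) ∧ IsCompact (V l)) →
      (c.π.app i ⁻¹' Ui = ⋃ l, c.π.app i ⁻¹' V l →
        ∃ (j : J) (a : j ⟶ i), F.map a ⁻¹' Ui = ⋃ l, F.map a ⁻¹' V l) ∧
      (c.π.app i ⁻¹' Ui = ⋂ l, c.π.app i ⁻¹' V l →
        ∃ (j : J) (a : j ⟶ i), F.map a ⁻¹' Ui = ⋂ l, F.map a ⁻¹' V l)) := by
  classical
  have key := fun (i : J) (E F' : Set (F.obj i)) (hE : @IsClosed (F.obj i) (constructibleTopology (F.obj i)) E)
    (hF' : @IsOpen (F.obj i) (constructibleTopology (F.obj i)) F') =>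
    (Groth.Agent.S7535.result F hF hFm c hc i E F' hE hF').1
  have hclopen : ∀ (i : J) (U : Set (F.obj i)), IsOpen U → IsCompact U →
      @IsClopen (F.obj i) (constructibleTopology (F.obj i)) U :=
    fun i U hUo hUc => h4_isClopen_constr_of_isCompact_isOpen hUo hUc
  -- two-sided version
  have key2 : ∀ (i : J) (E E' : Set (F.obj i)),
      @IsClopen (F.obj i) (constructibleTopology (F.obj i)) E →
      @IsClopen (F.obj i) (constructibleTopology (F.obj i)) E' →
      c.π.app i ⁻¹' E = c.π.app i ⁻¹' E' → ∃ (j : J) (a : j ⟶ i), F.map a ⁻¹' E = F.map a ⁻¹' E' := by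
    intro i E E' hE hE' heq
    obtain ⟨j1, a1, h1⟩ := key i E E' hE.1 hE'.2 heq.subset
    obtain ⟨j2, a2, h2⟩ := key i E' E hE'.1 hE.2 heq.symm.subset
    obtain ⟨k, g, g', hgg⟩ := IsCofiltered.cospan a1 a2
    refine ⟨k, g ≫ a1, Set.Subset.antisymm ?_ ?_⟩
    · rw [F.map_comp]
      exact fun x hx => h1 hx
    · rw [hgg, F.map_comp]
      exact fun x hx => h2 hx
  refine ⟨?_, ?_, ?_⟩
  · intro U hUo hUc
    obtain ⟨i, Ui, h1, h2, h3⟩ := mem_pulledCompactOpens hF hFm hc hUo hUc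
    exact ⟨i, Ui, h1, h2, h3⟩
  · intro i j Ui Uj hUio hUic hUjo hUjc hsub
    have hE := hclopen _ _ (hUio.preimage (hFm (IsCofiltered.minToLeft i j)).continuous)
      ((hFm (IsCofiltered.minToLeft i j)).isCompact_preimage_of_isOpen hUio hUic)
    have hF' := hclopen _ _ (hUjo.preimage (hFm (IsCofiltered.minToRight i j)).continuous)
      ((hFm (IsCofiltered.minToRight i j)).isCompact_preimage_of_isOpen hUjo hUjc)
    obtain ⟨k, e, he⟩ := key (IsCofiltered.min i j) _ _ hE.1 hF'.2 (by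
      rw [← preimage_proj_eq, ← preimage_proj_eq]
      exact hsub)
    refine ⟨k, e ≫ IsCofiltered.minToLeft i j, e ≫ IsCofiltered.minToRight i j, ?_⟩
    rw [F.map_comp, F.map_comp]
    exact fun x hx => he hx
  · intro i n Ui V hUio hUic hV
    have := hF i
    constructor
    · intro heq
      have hS : @IsClopen (F.obj i) (constructibleTopology (F.obj i)) (⋃ l, V l) :=
        hclopen i _ (isOpen_iUnion fun l => (hV l).1) (isCompact_iUnion fun l => (hV l).2)
      obtain ⟨j, a, ha⟩ := key2 i Ui (⋃ l, V l) (hclopen i Ui hUio hUic) hS (by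
        rw [heq, Set.preimage_iUnion])
      exact ⟨j, a, by rw [ha, Set.preimage_iUnion]⟩
    · intro heq
      have hS : @IsClopen (F.obj i) (constructibleTopology (F.obj i)) (⋂ l, V l) :=
        @isClopen_iInter_of_finite _ (constructibleTopology (F.obj i)) _ _ _
          (fun l => hclopen i _ (hV l).1 (hV l).2)
      obtain ⟨j, a, ha⟩ := key2 i Ui (⋂ l, V l) (hclopen i Ui hUio hUic) hS (by
        rw [heq, Set.preimage_iInter])
      exact ⟨j, a, by rw [ha, Set.preimage_iInter]⟩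

end Groth.Agent.S7538
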