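import Groth.Statements.S7539
import Mathlib
import Groth.Agent.Lib.helper4.Spectral


set_option autoImplicit false
universe u
open SpecSp

namespace Groth.Agent.S7539

open Groth.Agent.Lib.helper4

/-- For a subset W of a spectral space X, these five conditions coincide: (1) W can be written as an
intersection of constructible subsets and is stable under generalization; (2) W is quasi-compact and
stable under generalization; (3) for some quasi-compact E ⊆ X, W consists exactly of the points that
specialize to a point of E; (4) W is the intersection of some family of quasi-compact opens; (5)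
there are a nonempty index set I and quasi-compact opens U_i with W = ⋂ U_i such that for all i, j
some U_k is contained in U_i ∩ U_j. -/
theorem result {X : Type u} [TopologicalSpace X] [SpectralSpace X] (W : Set X) :
    List.TFAE [
      (∃ S : Set (Set X), (∀ s ∈ S, Topology.IsConstructible s) ∧ W = ⋂₀ S) ∧ StableUnderGeneralization W,
      IsCompact W ∧ StableUnderGeneralization W,
      ∃ E : Set X, IsCompact E ∧ W = {x | ∃ e ∈ E, x ⤳ e},
      ∃ S : Set (Set X), (∀ s ∈ S, IsOpen s ∧ IsCompact s) ∧ W = ⋂₀ S,
      ∃ (I : Type u) (_ : Nonempty I) (U : I → Set X), (∀ i, IsOpen (U i) ∧ IsCompact (U i)) ∧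
        W = ⋂ i, U i ∧ ∀ i j, ∃ k, U k ⊆ U i ∩ U j] := by
  classical
  tfae_have 1 → 2 := by
    rintro ⟨⟨S, hS, rfl⟩, hgen⟩
    refine ⟨h4_isCompact_of_isClosed_constr ?_, hgen⟩
    exact @isClosed_sInter _ (constructibleTopology X) _ fun s hs =>
      (h4_isClopen_constr_of_isConstructible (hS s hs)).1
  tfae_have 2 → 3 := by
    rintro ⟨hc, hgen⟩
    refine ⟨W, hc, ?_⟩
    ext x
    constructor
    · intro hx
      exact ⟨x, hx, specializes_rfl⟩
    · rintro ⟨e, he, hxe⟩
      exact hgen hxe he
  tfae_have 3 → 4 := by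
    rintro ⟨E, hE, rfl⟩
    refine ⟨{U | (IsOpen U ∧ IsCompact U) ∧ E ⊆ U}, fun s hs => hs.1, ?_⟩
    ext x
    simp only [Set.mem_ofPred_eq, Set.mem_sInter, and_imp]
    constructor
    · rintro ⟨e, he, hxe⟩ U hUo _ hEU
      exact hxe.mem_open hUo (hEU he)
    · intro hx
      by_contra hcon
      push Not at hcon
      have hsub : E ⊆ (closure ({x} : Set X))ᶜ := by
        intro e he hmem
        exact hcon e he (specializes_iff_mem_closure.2 hmem)
      obtain ⟨V, hVc, hVo, hEV, hVsub⟩ :=
        PrespectralSpace.exists_isCompact_and_isOpen_between hE isClosed_closure.isOpen_compl hsub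
      exact hVsub (hx V hVo hVc hEV) (subset_closure rfl)
  tfae_have 4 → 5 := by
    rintro ⟨S, hS, rfl⟩
    refine ⟨{T : Finset (Set X) // (T : Set (Set X)) ⊆ S}, ⟨⟨∅, by simp⟩⟩,
      fun T => ⋂₀ (T.1 : Set (Set X)), ?_, ?_, ?_⟩
    · intro T
      refine ⟨T.1.finite_toSet.isOpen_sInter fun s hs => (hS s (T.2 hs)).1, ?_⟩
      exact QuasiSeparatedSpace.isCompact_sInter T.1.finite_toSet
        (fun s hs => Or.inl (hS s (T.2 hs)).1) (fun s hs => (hS s (T.2 hs)).2)
    · ext x
      simp only [Set.mem_sInter, Set.mem_iInter, Finset.mem_coe]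
      constructor
      · intro hx T s hs
        exact hx s (T.2 hs)
      · intro hx s hs
        exact hx ⟨{s}, by simpa using hs⟩ s (by simp)
    · intro T T'
      refine ⟨⟨T.1 ∪ T'.1, by
        rw [Finset.coe_union]
        exact Set.union_subset T.2 T'.2⟩, ?_⟩
      apply Set.subset_inter
      · exact Set.sInter_subset_sInter (by simp)
      · exact Set.sInter_subset_sInter (by simp)
  tfae_have 5 → 1 := by
    rintro ⟨I, _, U, hU, rfl, -⟩
    refine ⟨⟨Set.range U, ?_, (Set.sInter_range U).symm⟩, ?_⟩
    · rintro _ ⟨i, rfl⟩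
      exact (hU i).2.isConstructible (hU i).1
    · exact stableUnderGeneralization_iInter _ fun i => (hU i).1.stableUnderGeneralization
  tfae_finish

end Groth.Agent.S7539
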