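import Groth.Statements.S7540
import Mathlib
import Groth.Agent.Lib.helper4.ConstrTop


set_option autoImplicit false
universe u
open SpecSp

namespace Groth.Agent.S7540

/-- Let X be a spectral space, I a nonempty index set and U_i ⊆ X quasi-compact opens such that for all
i, j some U_k lies in U_i ∩ U_j; put W = ⋂ U_i. Then every open subset of X containing W contains
some U_i. The published statement also asserts that W is spectral and is the limit of the U_i; this
row states the neighbourhood property. -/
theorem result {X : Type u} [TopologicalSpace X] [SpectralSpace X]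
    {I : Type u} [Nonempty I] (U : I → Set X) (hU : ∀ i, IsOpen (U i) ∧ IsCompact (U i))
    (hdir : ∀ i j, ∃ k, U k ⊆ U i ∩ U j) :
    ∀ V : Set X, IsOpen V → (⋂ i, U i) ⊆ V → ∃ i, U i ⊆ V := by
  intro V hV hWV
  by_contra hcon
  push Not at hcon
  have hne : ∀ i, (U i ∩ Vᶜ).Nonempty := by
    intro i
    obtain ⟨x, hx, hxV⟩ := Set.not_subset.mp (hcon i)
    exact ⟨x, hx, hxV⟩
  have hcl : ∀ i, @IsClosed X (constructibleTopology X) (U i ∩ Vᶜ) := fun i =>
    @IsClosed.inter X _ _ (constructibleTopology X)
      (Groth.Agent.Lib.helper4.h4_isClopen_constr_of_isCompact_isOpen (hU i).1 (hU i).2).1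
      (Groth.Agent.Lib.helper4.h4_isClosed_constr_of_isClosed hV.isClosed_compl)
  have hdir' : Directed (· ⊇ ·) fun i => U i ∩ Vᶜ := by
    intro i j
    obtain ⟨k, hk⟩ := hdir i j
    exact ⟨k, fun x hx => ⟨(hk hx.1).1, hx.2⟩, fun x hx => ⟨(hk hx.1).2, hx.2⟩⟩
  obtain ⟨x, hx⟩ := @IsCompact.nonempty_iInter_of_directed_nonempty_isCompact_isClosed X
    (constructibleTopology X) I _ (fun i => U i ∩ Vᶜ) hdir' hne
    (fun i => Groth.Agent.Lib.helper4.h4_isCompact_constr_of_isClosed_constr (hcl i)) hcl
  rw [Set.mem_iInter] at hx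
  exact (hx (Classical.arbitrary I)).2 (hWV (Set.mem_iInter.mpr fun i => (hx i).1))

end Groth.Agent.S7540
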