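import Groth.Statements.S7544
import Mathlib


set_option autoImplicit false
universe u
open ConstrTop

namespace Groth.Agent.S7544

/-- Let X be a quasi-compact topological space whose quasi-compact opens form a basis and are closed
under pairwise intersection. Take T ⊆ X to be locally closed, quasi-compact, and with retrocompact
complement. Then T is constructible in X. -/
theorem result {X : Type u} [TopologicalSpace X]
    [CompactSpace X] [PrespectralSpace X] [QuasiSeparatedSpace X]
    (T : Set X) (hT : IsLocallyClosed T) (hTc : IsCompact T) (hTr : IsRetrocompact Tᶜ) :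
    Topology.IsConstructible T := by
  obtain ⟨U, C, hU, hC, rfl⟩ := hT
  obtain ⟨U', hU'c, hU'o, h1, h2⟩ :=
    PrespectralSpace.exists_isCompact_and_isOpen_between hTc hU Set.inter_subset_left
  have hV : IsCompact (U' ∩ Cᶜ) := by
    have := hTr hU'c hU'o
    have heq : (U ∩ C)ᶜ ∩ U' = U' ∩ Cᶜ := by
      ext x
      simp only [Set.mem_inter_iff, Set.mem_compl_iff, not_and]
      constructor
      · rintro ⟨hx1, hx2⟩
        exact ⟨hx2, hx1 (h2 hx2)⟩
      · rintro ⟨hx1, hx2⟩
        exact ⟨fun _ => hx2, hx1⟩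
    rwa [heq] at this
  have hVo : IsOpen (U' ∩ Cᶜ) := hU'o.inter hC.isOpen_compl
  have hT' : U ∩ C = U' \ (U' ∩ Cᶜ) := by
    ext x
    simp only [Set.mem_inter_iff, Set.mem_sdiff, Set.mem_compl_iff, not_and, not_not]
    constructor
    · rintro ⟨hx1, hx2⟩
      exact ⟨h1 ⟨hx1, hx2⟩, fun _ => hx2⟩
    · rintro ⟨hx1, hx2⟩
      exact ⟨h2 hx1, hx2 hx1⟩
  rw [hT']
  exact (hU'c.isConstructible hU'o).sdiff (hV.isConstructible hVo)

end Groth.Agent.S7544
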