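import Groth.Statements.S7546
import Mathlib


set_option autoImplicit false
universe u
open ConstrTop

namespace Groth.Agent.S7546

/-- Let X be a topological space, Z ⊆ X irreducible and E ⊆ X a finite union of locally closed subsets
(for instance a constructible set). Then E ∩ Z is dense in Z if and only if E ∩ Z contains a subset
of the form U ∩ Z, U open in X, which is dense in Z. If moreover ξ ∈ Z is a generic point of Z,
these conditions are equivalent to ξ ∈ E. -/
theorem result {X : Type u} [TopologicalSpace X] (Z : Set X) (hZ : IsIrreducible Z)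
    {n : ℕ} (L : Fin n → Set X) (hL : ∀ i, IsLocallyClosed (L i)) (E : Set X) (hE : E = ⋃ i, L i) :
    (Z ⊆ closure (E ∩ Z) ↔ ∃ U : Set X, IsOpen U ∧ U ∩ Z ⊆ E ∧ Z ⊆ closure (U ∩ Z)) ∧
    (∀ ξ : X, ξ ∈ Z → Z ⊆ closure {ξ} → (Z ⊆ closure (E ∩ Z) ↔ ξ ∈ E)) := by
  classical
  have h1 : Z ⊆ closure (E ∩ Z) ↔ ∃ U : Set X, IsOpen U ∧ U ∩ Z ⊆ E ∧ Z ⊆ closure (U ∩ Z) := by
    constructor
    · intro h
      have hcov : Z ⊆ ⋃₀ ↑(Finset.univ.image fun i => closure (L i ∩ Z)) := by
        intro z hz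
        have := h hz
        rw [hE, Set.iUnion_inter, closure_iUnion_of_finite] at this
        obtain ⟨i, hi⟩ := Set.mem_iUnion.mp this
        exact ⟨closure (L i ∩ Z), by simp, hi⟩
      obtain ⟨C, hC, hZC⟩ := (isIrreducible_iff_sUnion_isClosed.mp hZ) _
        (by
          intro C hC
          obtain ⟨i, _, rfl⟩ := Finset.mem_image.mp hC
          exact isClosed_closure) hcov
      obtain ⟨i, _, rfl⟩ := Finset.mem_image.mp hC
      obtain ⟨U, C, hU, hCc, hLi⟩ := hL i
      refine ⟨U, hU, ?_, ?_⟩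
      · intro z hz
        have hzC : z ∈ C := by
          have : closure (L i ∩ Z) ⊆ C := by
            apply hCc.closure_subset_iff.mpr
            rw [hLi]
            exact fun y hy => hy.1.2
          exact this (hZC hz.2)
        rw [hE]
        exact Set.mem_iUnion.mpr ⟨i, by rw [hLi]; exact ⟨hz.1, hzC⟩⟩
      · refine hZC.trans (closure_mono ?_)
        rw [hLi]
        exact fun y hy => ⟨hy.1.1, hy.2⟩
    · rintro ⟨U, _, hUE, hZU⟩
      exact hZU.trans (closure_mono fun y hy => ⟨hUE hy, hy.2⟩)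
  refine ⟨h1, fun ξ hξZ hξ => ⟨fun h => ?_, fun h => ?_⟩⟩
  · obtain ⟨U, hU, hUE, hZU⟩ := h1.mp h
    have hne : (U ∩ Z).Nonempty := by
      by_contra hcon
      rw [Set.not_nonempty_iff_eq_empty] at hcon
      rw [hcon, closure_empty] at hZU
      exact hZU hξZ
    obtain ⟨z, hzU, hzZ⟩ := hne
    have : ξ ⤳ z := specializes_iff_mem_closure.mpr (hξ hzZ)
    exact hUE ⟨this.mem_open hU hzU, hξZ⟩
  · exact hξ.trans (closure_mono (Set.singleton_subset_iff.mpr ⟨h, hξZ⟩))

end Groth.Agent.S7546
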