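import Groth.Statements.S7547
import Mathlib


set_option autoImplicit false
universe u
open PtTop

namespace Groth.Agent.S7547

/-- Let X be a Kolmogorov topological space whose quasi-compact opens form a basis for the topology. If
X is not Jacobson, there is a point x ∈ X which is not closed but such that {x} is locally closed. -/
theorem result {X : Type u} [TopologicalSpace X]
    [T0Space X] [PrespectralSpace X] (hX : ¬ JacobsonSpace X) :
    ∃ x : X, ¬ IsClosed ({x} : Set X) ∧ IsLocallyClosed ({x} : Set X) := by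
  classical
  rw [jacobsonSpace_iff_locallyClosed] at hX
  push Not at hX
  obtain ⟨Z, ⟨z, hzZ⟩, hZl, hZc⟩ := hX
  obtain ⟨U₀, C, hU₀, hC, rfl⟩ := hZl
  -- shrink to a quasi-compact open neighbourhood
  obtain ⟨U, ⟨hUo, hUc⟩, hzU, hUU₀⟩ :=
    PrespectralSpace.isTopologicalBasis.exists_subset_of_mem_open hzZ.1 hU₀
  have : CompactSpace U := isCompact_iff_compactSpace.mp hUc
  have hS : IsClosed ((Subtype.val : U → X) ⁻¹' C) := hC.preimage continuous_subtype_val
  obtain ⟨x, hxC, hx⟩ := hS.exists_closed_singleton ⟨⟨z, hzU⟩, hzZ.2⟩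
  refine ⟨x.1, ?_, ?_⟩
  · intro hcl
    have : x.1 ∈ U₀ ∩ C ∩ closedPoints X := ⟨⟨hUU₀ x.2, hxC⟩, hcl⟩
    rw [hZc] at this
    exact this
  · have := hx.isLocallyClosed.image Topology.IsEmbedding.subtypeVal.isInducing
      (by rw [Subtype.range_coe]; exact hUo.isLocallyClosed)
    rwa [Set.image_singleton] at this

end Groth.Agent.S7547
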