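import Groth.Statements.S7548
import Mathlib


set_option autoImplicit false
universe u
open PtTop

namespace Groth.Agent.S7548

/-- Let X be a Jacobson space and let T = ⋃ T_i be a union of subsets T_i ⊆ X each locally closed in X
(open, closed, locally closed and constructible subsets are of this form). Then T is Jacobson and
every point of T closed in T is closed in X. -/
theorem result {X : Type u} [TopologicalSpace X] [JacobsonSpace X]
    {ι : Type u} (T : ι → Set X) (hT : ∀ i, IsLocallyClosed (T i)) :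
    JacobsonSpace ↥(⋃ i, T i) ∧
      closedPoints ↥(⋃ i, T i) ⊆ (Subtype.val : ↥(⋃ i, T i) → X) ⁻¹' closedPoints X := by
  classical
  -- key: a locally closed `W ⊆ X` meeting `⋃ T i` contains a closed point of `X` lying in `⋃ T i`
  have key : ∀ W : Set X, IsLocallyClosed W → ∀ z ∈ W, z ∈ ⋃ i, T i →
      ∃ y ∈ W, y ∈ ⋃ i, T i ∧ IsClosed ({y} : Set X) := by
    intro W hW z hzW hzT
    obtain ⟨i, hzi⟩ := Set.mem_iUnion.mp hzT
    obtain ⟨y, ⟨hyW, hyT⟩, hy⟩ := nonempty_inter_closedPoints (X := X) (Z := W ∩ T i) ⟨z, hzW, hzi⟩ (hW.inter (hT i))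
    exact ⟨y, hyW, Set.mem_iUnion.mpr ⟨i, hyT⟩, hy⟩
  constructor
  · rw [jacobsonSpace_iff_locallyClosed]
    rintro Z ⟨z, hz⟩ hZ
    obtain ⟨W, hW, rfl⟩ := (Topology.IsEmbedding.subtypeVal.isInducing.isLocallyClosed_iff).mp hZ
    obtain ⟨y, hyW, hyT, hy⟩ := key W hW z.1 hz z.2
    refine ⟨⟨y, hyT⟩, hyW, ?_⟩
    exact preimage_closedPoints_subset Subtype.val_injective continuous_subtype_val hy
  · intro x hx
    rw [mem_closedPoints_iff] at hx
    obtain ⟨C, hC, hCx⟩ := isClosed_induced_iff.mp hx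
    have hxC : x.1 ∈ C := by
      have : x ∈ (Subtype.val : ↥(⋃ i, T i) → X) ⁻¹' C := by rw [hCx]; rfl
      exact this
    obtain ⟨y, hyC, hyT, hy⟩ := key C hC.isLocallyClosed x.1 hxC x.2
    have : (⟨y, hyT⟩ : ↥(⋃ i, T i)) ∈ (Subtype.val : ↥(⋃ i, T i) → X) ⁻¹' C := hyC
    rw [hCx, Set.mem_singleton_iff] at this
    have hyx : y = x.1 := congrArg Subtype.val this
    rw [Set.mem_preimage, mem_closedPoints_iff, ← hyx]
    exact hy

end Groth.Agent.S7548
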