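import Groth.Statements.S7550
import Mathlib


set_option autoImplicit false
universe u
open PtTop

namespace Groth.Agent.S7550

/-- Let f : X → Y be a continuous and open map of topological spaces, with X Noetherian, every
irreducible closed subset of X having a generic point, and Y Kolmogorov. Then generalizations lift
along f. (Part (1), closed maps are specializing, is a library fact.) -/
theorem result {X Y : Type u} [TopologicalSpace X] [TopologicalSpace Y]
    [TopologicalSpace.NoetherianSpace X] [QuasiSober X] [T0Space Y]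
    (f : X → Y) (hf : Continuous f) (hfo : IsOpenMap f) :
    GeneralizingMap f := by
  classical
  intro x y' hy
  -- `hy : y' ⤳ f x`
  have hE : IsClosed (f ⁻¹' closure {y'}) := isClosed_closure.preimage hf
  obtain ⟨S, hSf, hSc, hSi, hSU⟩ :=
    TopologicalSpace.NoetherianSpace.exists_finite_set_isClosed_irreducible hE
  -- the union of members of `S` not containing `x`
  set B : Set X := ⋃₀ {t ∈ S | x ∉ t} with hB
  have hBc : IsClosed B := by
    rw [hB, Set.sUnion_eq_biUnion]
    apply Set.Finite.isClosed_biUnion (hSf.subset fun t ht => ht.1)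
    intro t ht
    exact hSc t ht.1
  have hxB : x ∉ B := by
    rintro ⟨t, ht, hxt⟩
    exact ht.2 hxt
  have hfU : f '' Bᶜ ∈ nhds (f x) :=
    (hfo _ hBc.isOpen_compl).mem_nhds ⟨x, hxB, rfl⟩
  have hy'U : y' ∈ f '' Bᶜ := hy.mem_open (hfo _ hBc.isOpen_compl) ⟨x, hxB, rfl⟩
  obtain ⟨u, huB, rfl⟩ := hy'U
  have huE : u ∈ f ⁻¹' closure {f u} := subset_closure rfl
  rw [hSU] at huE
  obtain ⟨t, htS, hut⟩ := huE
  have hxt : x ∈ t := by
    by_contra hcon
    exact huB ⟨t, ⟨htS, hcon⟩, hut⟩
  obtain ⟨ξ, hξ⟩ := QuasiSober.sober (hSi t htS) (hSc t htS)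
  refine ⟨ξ, hξ.specializes hxt, ?_⟩
  have h1 : f ξ ⤳ f u := (hξ.specializes hut).map hf
  have h2 : f u ⤳ f ξ := by
    rw [specializes_iff_mem_closure]
    have : ξ ∈ f ⁻¹' closure {f u} := by
      rw [hSU]; exact ⟨t, htS, hξ.mem⟩
    exact this
  exact (h1.antisymm h2).eq

end Groth.Agent.S7550
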