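import Groth.Statements.S7551
import Mathlib

set_option autoImplicit false
universe u
open PtTop

namespace Groth.Agent.S7551

/-- Let s, t : R → U and π : U → X be continuous maps between topological spaces satisfying: (1) π is an
open map, (2) U is a sober space, (3) s and t have finite fibres, (4) generalizations lift along s
and along t, and (5) the image of (t, s) : R → U × U is an equivalence relation on U and π
identifies X, as a set, with the quotient of U by it. Then X is Kolmogorov. -/
theorem result {R U X : Type u}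
    [TopologicalSpace R] [TopologicalSpace U] [TopologicalSpace X] [QuasiSober U] [T0Space U]
    (s t : R → U) (π : U → X) (hs : Continuous s) (ht : Continuous t) (hπ : Continuous π)
    (hπo : IsOpenMap π) (hsf : ∀ u, (s ⁻¹' {u}).Finite) (htf : ∀ u, (t ⁻¹' {u}).Finite)
    (hsg : GeneralizingMap s) (htg : GeneralizingMap t)
    (hE : Equivalence fun u u' : U => ∃ r, t r = u ∧ s r = u')
    (hπs : Function.Surjective π) (hπq : ∀ u u' : U, π u = π u' ↔ ∃ r, t r = u ∧ s r = u') :
    T0Space X := by
  have hfib : ∀ x : X, (π ⁻¹' {x}).Finite := by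
    intro x
    obtain ⟨u, rfl⟩ := hπs x
    have hEq : π ⁻¹' {π u} = s '' (t ⁻¹' {u}) := by
      ext u'
      constructor
      · intro h
        obtain ⟨r, hr1, hr2⟩ := (hπq u u').1 (show π u' = π u from h).symm
        exact ⟨r, (show t r = u from hr1), hr2⟩
      · rintro ⟨r, hr1, hr2⟩
        exact ((hπq u u').2 ⟨r, (show t r = u from hr1), hr2⟩).symm
    rw [hEq]
    exact (htf u).image s
  have hlift : ∀ (u : U) (x' : X), x' ⤳ π u → ∃ u', u' ⤳ u ∧ π u' = x' := by
    intro u x' h
    have h1 : π u ∈ closure {x'} := specializes_iff_mem_closure.mp h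
    have h2 : u ∈ closure (π ⁻¹' {x'}) := hπo.preimage_closure_subset_closure_preimage h1
    rw [← Set.biUnion_of_singleton (π ⁻¹' {x'}), (hfib x').closure_biUnion] at h2
    obtain ⟨u', hu', hu⟩ := Set.mem_iUnion₂.mp h2
    exact ⟨u', specializes_iff_mem_closure.mpr hu, hu'⟩
  refine ⟨fun x x' hxx' => ?_⟩
  have h1 : x ⤳ x' := hxx'.specializes
  have h2 : x' ⤳ x := hxx'.specializes'
  obtain ⟨u₀, rfl⟩ := hπs x
  have step : ∀ u : {u : U // π u = π u₀}, ∃ v : {u : U // π u = π u₀}, ∃ w : U,
      w ⤳ u.1 ∧ π w = x' ∧ v.1 ⤳ w := by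
    intro u
    obtain ⟨w, hw1, hw2⟩ := hlift u.1 x' (by rw [u.2]; exact h2)
    obtain ⟨v, hv1, hv2⟩ := hlift w (π u₀) (by rw [hw2]; exact h1)
    exact ⟨⟨v, hv2⟩, w, hw1, hw2, hv1⟩
  choose nxt mid hmid1 hmid2 hmid3 using step
  let seq : ℕ → {u : U // π u = π u₀} := fun n => nxt^[n] ⟨u₀, rfl⟩
  haveI : Finite {u : U // π u = π u₀} := (hfib (π u₀)).to_subtype
  have hsucc : ∀ n, seq (n + 1) = nxt (seq n) := fun n =>
    Function.iterate_succ_apply' nxt n _
  have hdesc : ∀ n m, n ≤ m → (seq m).1 ⤳ (seq n).1 := by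
    intro n m hnm
    induction m, hnm using Nat.le_induction with
    | base => exact specializes_rfl
    | succ m _ ih =>
      rw [hsucc m]
      exact ((hmid3 (seq m)).trans (hmid1 (seq m))).trans ih
  obtain ⟨k, l, hkl, heq⟩ := Finite.exists_ne_map_eq_of_infinite seq
  wlog hlt : k < l generalizing k l
  · exact this l k hkl.symm heq.symm (lt_of_le_of_ne (not_lt.mp hlt) hkl.symm)
  have ha : (seq k).1 ⤳ (nxt (seq k)).1 := by
    have h3 : (seq l).1 ⤳ (seq (k + 1)).1 := hdesc (k + 1) l hlt
    rw [← heq, hsucc k] at h3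
    exact h3
  have hins : Inseparable (mid (seq k)) (seq k).1 :=
    inseparable_iff_specializes_and.2 ⟨hmid1 (seq k), ha.trans (hmid3 (seq k))⟩
  have hmk : mid (seq k) = (seq k).1 := hins.eq
  calc π u₀ = π (seq k).1 := (seq k).2.symm
    _ = π (mid (seq k)) := by rw [hmk]
    _ = x' := hmid2 (seq k)

end Groth.Agent.S7551
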