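import Groth.Statements.S7552
import Mathlib


set_option autoImplicit false
universe u
open PtTop

namespace Groth.Agent.S7552

/-- Let f : X → Y be a continuous surjective map of topological spaces with Y sober, and assume that
specializations lift along f or that generalizations lift along f. Then dim X ≥ dim Y (Krull
dimensions as suprema of lengths of chains of irreducible closed subsets). -/
theorem result {X Y : Type u}
    [TopologicalSpace X] [TopologicalSpace Y] [QuasiSober Y] [T0Space Y]
    (f : X → Y) (hf : Continuous f) (hsurj : Function.Surjective f)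
    (hlift : SpecializingMap f ∨ GeneralizingMap f) :
    topologicalKrullDim Y ≤ topologicalKrullDim X := by
  classical
  -- abstract chain lifting along a fibration
  have chain_lift : ∀ (r : X → X → Prop) (s : Y → Y → Prop),
      (∀ a b, s b (f a) → ∃ a', r a' a ∧ f a' = b) →
      ∀ η : ℕ → Y, (∀ i, s (η (i + 1)) (η i)) →
      ∃ x : ℕ → X, (∀ i, f (x i) = η i) ∧ ∀ i, r (x (i + 1)) (x i) := by
    intro r s hfib η hη
    have step : ∀ i (a : {a : X // f a = η i}), ∃ a' : {a : X // f a = η (i + 1)}, r a'.1 a.1 := by
      intro i a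
      obtain ⟨a', h1, h2⟩ := hfib a.1 (η (i + 1)) (by rw [a.2]; exact hη i)
      exact ⟨⟨a', h2⟩, h1⟩
    choose next hnext using step
    obtain ⟨x0, hx0⟩ := hsurj (η 0)
    let x : ∀ i, {a : X // f a = η i} := fun i => Nat.rec ⟨x0, hx0⟩ (fun i a => next i a) i
    exact ⟨fun i => (x i).1, fun i => (x i).2, fun i => hnext i (x i)⟩
  unfold topologicalKrullDim
  rw [Order.krullDim, iSup_le_iff]
  intro p
  suffices h : ∃ q : LTSeries (TopologicalSpace.IrreducibleCloseds X), q.length = p.length by
    obtain ⟨q, hq⟩ := h
    rw [← hq]
    exact Order.LTSeries.length_le_krullDim q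
  set n := p.length with hn
  -- generic points
  have hgen : ∀ i : Fin (n + 1), ∃ y : Y, IsGenericPoint y (p i : Set Y) := fun i =>
    QuasiSober.sober (p i).isIrreducible' (p i).isClosed'
  choose η hη using hgen
  have hηmono : ∀ i j : Fin (n + 1), i ≤ j → η j ⤳ η i := by
    intro i j hij
    apply (hη j).specializes
    have : p i ≤ p j := p.strictMono.monotone hij
    exact this (hη i).mem
  have hηinj : ∀ i j : Fin (n + 1), η i = η j → i = j := by
    intro i j hij
    apply p.strictMono.injective
    apply SetLike.coe_injective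
    rw [← (hη i).def, ← (hη j).def, hij]
  -- it suffices to find a chain of points of `X` over the `η i`
  suffices hy : ∃ y : Fin (n + 1) → X, (∀ i, f (y i) = η i) ∧
      ∀ i : Fin n, y i.succ ⤳ y i.castSucc by
    obtain ⟨y, hy1, hy2⟩ := hy
    refine ⟨LTSeries.mk n (fun i => ⟨closure {y i}, isIrreducible_singleton.closure,
      isClosed_closure⟩) ?_, rfl⟩
    rw [Fin.strictMono_iff_lt_succ]
    intro i
    have hle : closure {y i.castSucc} ⊆ closure {y i.succ} :=
      (isClosed_closure.closure_subset_iff).mpr
        (Set.singleton_subset_iff.mpr (specializes_iff_mem_closure.mp (hy2 i)))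
    refine lt_of_le_of_ne hle ?_
    intro heq
    have heq' : closure {y i.castSucc} = closure {y i.succ} :=
      congrArg (fun s : TopologicalSpace.IrreducibleCloseds X => (s : Set X)) heq
    have h1 : y i.castSucc ⤳ y i.succ := by
      rw [specializes_iff_mem_closure, heq']
      exact subset_closure rfl
    have h2 : η i.castSucc ⤳ η i.succ := by
      have := h1.map hf
      rwa [hy1, hy1] at this
    have h3 : η i.succ ⤳ η i.castSucc := hηmono _ _ (Fin.castSucc_lt_succ (i := i)).le
    have := hηinj _ _ (h2.antisymm h3).eq
    exact (Fin.castSucc_lt_succ (i := i)).ne this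
  rcases hlift with hspec | hgenz
  · -- specializing: go downwards
    have hclamp : ∀ i : ℕ, n - i < n + 1 := fun i => by omega
    obtain ⟨x, hx1, hx2⟩ := chain_lift (flip (· ⤳ ·)) (flip (· ⤳ ·))
      (fun a b hab => hspec hab) (fun i => η ⟨n - i, hclamp i⟩)
      (fun i => hηmono _ _ (by simp only [Fin.mk_le_mk]; omega))
    refine ⟨fun i => x (n - i), fun i => ?_, fun i => ?_⟩
    · rw [hx1]
      congr 1
      ext
      simp only
      omega
    · have := hx2 (n - i.succ)
      have h1 : n - (i.succ : ℕ) + 1 = n - (i.castSucc : ℕ) := by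
        simp only [Fin.val_succ, Fin.val_castSucc]
        omega
      rw [h1] at this
      exact this
  · -- generalizing: go upwards
    have hclamp : ∀ i : ℕ, min i n < n + 1 := fun i => by omega
    obtain ⟨x, hx1, hx2⟩ := chain_lift (· ⤳ ·) (· ⤳ ·)
      (fun a b hab => hgenz hab) (fun i => η ⟨min i n, hclamp i⟩)
      (fun i => hηmono _ _ (by simp only [Fin.mk_le_mk]; omega))
    refine ⟨fun i => x i, fun i => ?_, fun i => ?_⟩
    · rw [hx1]
      congr 1
      ext
      simp only
      omega
    · exact hx2 i

end Groth.Agent.S7552
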