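import Groth.Statements.S8345
import Mathlib


set_option autoImplicit false
universe u
open ConstrTop

namespace Groth.Agent.S8345

open TopologicalSpace in
/-- Suppose X is a topological space that is Noetherian. Then a subset s of X is constructible exactly
when s can be written as the union of finitely many locally closed subsets of X. -/
theorem result {X : Type u} [TopologicalSpace X]
    [NoetherianSpace X] (s : Set X) :
    Topology.IsConstructible s ↔
      ∃ (n : ℕ) (Z : Fin n → Set X), (∀ i, IsLocallyClosed (Z i)) ∧ s = ⋃ i, Z i := by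
  classical
  -- in a Noetherian space every open set is constructible
  have hopen : ∀ U : Set X, IsOpen U → Topology.IsConstructible U := fun U hU =>
    IsRetrocompact.isConstructible hU (fun W _ _ => NoetherianSpace.isCompact _)
  constructor
  · intro hs
    -- first: a finite set of locally closed sets
    suffices h : ∃ S : Set (Set X), S.Finite ∧ (∀ t ∈ S, IsLocallyClosed t) ∧ s = ⋃₀ S by
      obtain ⟨S, hSf, hSl, rfl⟩ := h
      have := hSf.to_subtype
      refine ⟨Nat.card S, fun i => ((Finite.equivFin S).symm i : Set X), fun i => hSl _ (Subtype.coe_prop _), ?_⟩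
      ext x
      simp only [Set.mem_sUnion, Set.mem_iUnion]
      constructor
      · rintro ⟨t, ht, hx⟩
        exact ⟨Finite.equivFin S ⟨t, ht⟩, by rw [Equiv.symm_apply_apply]; exact hx⟩
      · rintro ⟨i, hx⟩
        exact ⟨_, Subtype.coe_prop _, hx⟩
    unfold Topology.IsConstructible at hs
    induction s, hs using BooleanSubalgebra.closure_sdiff_sup_induction with
    | isSublattice =>
      exact ⟨fun s hs t ht ↦ ⟨hs.1.union ht.1, hs.2.union ht.2⟩,
        fun s hs t ht ↦ ⟨hs.1.inter ht.1, hs.2.inter_isOpen ht.2 ht.1⟩⟩
    | bot_mem => exact ⟨isOpen_empty, .empty⟩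
    | top_mem => exact ⟨isOpen_univ, .univ⟩
    | sdiff U hU V hV =>
      refine ⟨{U \ V}, Set.finite_singleton _, ?_, by simp⟩
      intro t ht
      rw [Set.mem_singleton_iff] at ht
      subst ht
      exact ⟨U, Vᶜ, hU.1, hV.1.isClosed_compl, rfl⟩
    | sup s _ t _ hs' ht' =>
      obtain ⟨S, hSf, hSl, rfl⟩ := hs'
      obtain ⟨T, hTf, hTl, rfl⟩ := ht'
      refine ⟨S ∪ T, hSf.union hTf, ?_, ?_⟩
      · intro t ht
        rcases ht with h | h
        · exact hSl t h
        · exact hTl t h
      · rw [Set.sUnion_union]; rfl
  · rintro ⟨n, Z, hZ, rfl⟩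
    refine Topology.IsConstructible.iUnion fun i => ?_
    obtain ⟨U, C, hU, hC, h⟩ := hZ i
    rw [h]
    refine (hopen U hU).inter ?_
    rw [← Topology.isConstructible_compl]
    exact hopen _ hC.isOpen_compl

end Groth.Agent.S8345
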