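import Groth.Statements.S7553
import Mathlib
import Groth.Agent.S8345


set_option autoImplicit false
universe u
open ConstrTop

namespace Groth.Agent.S7553

/-- Let X be a Noetherian sober topological space and E ⊆ X. (1) A constructible E that is closed under
specialization is a closed subset. (2) A constructible E that is closed under generalization is an
open subset. -/
theorem result {X : Type u} [TopologicalSpace X]
    [TopologicalSpace.NoetherianSpace X] [QuasiSober X] [T0Space X] (E : Set X) (hE : Topology.IsConstructible E) :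
    (StableUnderSpecialization E → IsClosed E) ∧ (StableUnderGeneralization E → IsOpen E) := by
  classical
  -- key: every point of the closure of a locally closed set is a specialization of a point of it
  have key : ∀ Z : Set X, IsLocallyClosed Z → ∀ y ∈ closure Z, ∃ ξ ∈ Z, ξ ⤳ y := by
    rintro Z ⟨U, C, hU, hC, rfl⟩ y hy
    obtain ⟨S, hSf, hSc, hSi, hSU⟩ :=
      TopologicalSpace.NoetherianSpace.exists_finite_set_isClosed_irreducible hC
    have h1 : U ∩ C = ⋃ t ∈ S, U ∩ t := by
      rw [hSU, Set.sUnion_eq_biUnion, Set.inter_iUnion₂]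
    rw [h1, hSf.closure_biUnion] at hy
    obtain ⟨t, htS, hyt⟩ := Set.mem_iUnion₂.mp hy
    obtain ⟨ξ, hξ⟩ := QuasiSober.sober (hSi t htS) (hSc t htS)
    have hne : (U ∩ t).Nonempty := by
      by_contra hcon
      rw [Set.not_nonempty_iff_eq_empty] at hcon
      rw [hcon, closure_empty] at hyt
      exact hyt
    have hξU : ξ ∈ U := by
      rw [hξ.mem_open_set_iff hU, Set.inter_comm]; exact hne
    have hξC : ξ ∈ C := by
      rw [hSU]; exact ⟨t, htS, hξ.mem⟩
    refine ⟨ξ, ⟨hξU, hξC⟩, ?_⟩
    have : y ∈ t := (hSc t htS).closure_subset_iff.mpr Set.inter_subset_right hyt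
    exact hξ.specializes this
  have part1 : ∀ E : Set X, Topology.IsConstructible E → StableUnderSpecialization E → IsClosed E := by
    intro E hE hstab
    obtain ⟨n, Z, hZ, rfl⟩ := (Groth.Agent.S8345.result E).mp hE
    rw [← closure_subset_iff_isClosed, closure_iUnion_of_finite]
    intro y hy
    obtain ⟨i, hyi⟩ := Set.mem_iUnion.mp hy
    obtain ⟨ξ, hξZ, hξy⟩ := key (Z i) (hZ i) y hyi
    exact hstab hξy (Set.mem_iUnion.mpr ⟨i, hξZ⟩)
  refine ⟨part1 E hE, fun h => ?_⟩
  rw [← isClosed_compl_iff]
  exact part1 Eᶜ hE.compl (stableUnderSpecialization_compl_iff.mpr h)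

end Groth.Agent.S7553
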