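import Groth.Statements.S7556
import Mathlib


set_option autoImplicit false
universe u
open PtTop

namespace Groth.Agent.S7556

/-- Let X be a quasi-compact Hausdorff space. There is a continuous surjection p : X' → X with X'
quasi-compact, Hausdorff and extremally disconnected such that no proper closed subset of X' maps
onto X; and if q : X'' → X is a second cover with the same properties, there is a homeomorphism X' ≃
X'' compatible with p and q. -/
theorem result (X : Type u) [TopologicalSpace X] [CompactSpace X] [T2Space X] :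
    (∃ (X' : Type u) (_ : TopologicalSpace X') (_ : CompactSpace X') (_ : T2Space X') (_ : ExtremallyDisconnected X')
        (p : X' → X), Continuous p ∧ Function.Surjective p ∧
        ∀ E : Set X', IsClosed E → E ≠ Set.univ → p '' E ≠ Set.univ) ∧
    (∀ (X' X'' : Type u) [TopologicalSpace X'] [CompactSpace X'] [T2Space X'] [ExtremallyDisconnected X']
        [TopologicalSpace X''] [CompactSpace X''] [T2Space X''] [ExtremallyDisconnected X'']
        (p : X' → X) (q : X'' → X),
        Continuous p → Function.Surjective p → (∀ E : Set X', IsClosed E → E ≠ Set.univ → p '' E ≠ Set.univ) →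
        Continuous q → Function.Surjective q → (∀ E : Set X'', IsClosed E → E ≠ Set.univ → q '' E ≠ Set.univ) →
        ∃ h : X' ≃ₜ X'', q ∘ h = p) := by
  classical
  -- key lemma: an endomorphism of an irreducible cover over the base is the identity
  have key : ∀ (E : Type u) [TopologicalSpace E] [T2Space E] (ρ : E → X) (h : E → E),
      Continuous h → ρ ∘ h = ρ → Function.Surjective ρ →
      (∀ E₀ : Set E, IsClosed E₀ → E₀ ≠ Set.univ → ρ '' E₀ ≠ Set.univ) → ∀ x, h x = x := by
    intro E _ _ ρ h hc hρ hsurj hmin x
    by_contra hne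
    obtain ⟨U, V, hU, hV, hxU, hxV, hUV⟩ := t2_separation hne
    have hW : IsOpen (V ∩ h ⁻¹' U) := hV.inter (hU.preimage hc)
    have hxW : x ∈ V ∩ h ⁻¹' U := ⟨hxV, hxU⟩
    have h1 := hmin (V ∩ h ⁻¹' U)ᶜ hW.isClosed_compl
      (by intro h'; have h2 : x ∈ (V ∩ h ⁻¹' U)ᶜ := h' ▸ Set.mem_univ x; exact h2 hxW)
    obtain ⟨y, hy⟩ := (Set.ne_univ_iff_exists_notMem _).1 h1
    obtain ⟨e, rfl⟩ := hsurj y
    have he : e ∈ V ∩ h ⁻¹' U := by
      by_contra hcon
      exact hy ⟨e, hcon, rfl⟩
    have he' : h e ∈ V ∩ h ⁻¹' U := by
      by_contra hcon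
      exact hy ⟨h e, hcon, congrFun hρ e⟩
    exact Set.disjoint_left.1 hUV he.2 he'.1
  refine ⟨?_, ?_⟩
  · -- existence
    let π : Ultrafilter X → X := Ultrafilter.extend id
    have π_cont : Continuous π := continuous_ultrafilter_extend id
    have π_surj : Function.Surjective π := fun x => ⟨pure x, ultrafilter_extend_pure id x⟩
    -- Ultrafilter X is projective
    have hproj : CompactT2.Projective (Ultrafilter X) := by
      intro Y Z _ _ _ _ _ _ f g hf hg g_sur
      let s : Z → Y := fun z => Classical.choose <| g_sur z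
      have hs : g ∘ s = id := funext fun z => Classical.choose_spec (g_sur z)
      let t := s ∘ f ∘ (pure : X → Ultrafilter X)
      let h : Ultrafilter X → Y := Ultrafilter.extend t
      have hh : Continuous h := continuous_ultrafilter_extend t
      refine ⟨h, hh, denseRange_pure.equalizer (hg.comp hh) hf ?_⟩
      rw [Function.comp_assoc, ultrafilter_extend_extends t, ← Function.comp_assoc, hs,
        Function.id_comp]
    obtain ⟨E, hEc, E_onto, E_min⟩ := exists_compact_surjective_zorn_subset π_cont π_surj
    let ρ : E → X := E.domRestrict π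
    have ρ_cont : Continuous ρ := π_cont.continuousOn.domRestrict
    have ρ_surj : ρ.Surjective := fun a => by
      rcases (E_onto ▸ Set.mem_univ a : a ∈ π '' E) with ⟨d, ⟨hd, rfl⟩⟩; exact ⟨⟨d, hd⟩, rfl⟩
    have hmin : ∀ E₀ : Set E, IsClosed E₀ → E₀ ≠ Set.univ → ρ '' E₀ ≠ Set.univ :=
      fun E₀ h1 h2 => E_min E₀ h2 h1
    -- E is a retract of Ultrafilter X
    obtain ⟨g, hg, hgπ⟩ := hproj π_cont ρ_cont ρ_surj
    have hretr : ∀ e : E, g e.1 = e := by
      intro e
      refine key E ρ (fun e => g e.1) (hg.comp continuous_subtype_val) ?_ ρ_surj hmin e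
      funext e
      exact congrFun hgπ e.1
    have hEproj : CompactT2.Projective E := by
      intro Y Z _ _ _ _ _ _ f φ hf hφ φ_sur
      obtain ⟨h, hh, hhf⟩ := hproj (hf.comp hg) hφ φ_sur
      refine ⟨fun e => h e.1, hh.comp continuous_subtype_val, ?_⟩
      funext e
      have := congrFun hhf e.1
      simp only [Function.comp_apply] at this ⊢
      rw [this, hretr]
    exact ⟨E, inferInstance, hEc, inferInstance, hEproj.extremallyDisconnected, ρ, ρ_cont, ρ_surj, hmin⟩
  · -- uniqueness
    intro X' X'' _ _ _ _ _ _ _ _ p q hp hps hpm hq hqs hqm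
    obtain ⟨h, hh, hqh⟩ := (CompactT2.ExtremallyDisconnected.projective (A := X')) hp hq hqs
    have h_surj : Function.Surjective h := by
      have hcl : IsClosed (Set.range h) := (isCompact_range hh).isClosed
      have : Set.range h = Set.univ := by
        by_contra hne
        apply hqm _ hcl hne
        rw [← Set.range_comp, hqh]
        exact hps.range_eq
      exact Set.range_eq_univ.1 this
    have hzorn : ∀ E₀ : Set X', E₀ ≠ Set.univ → IsClosed E₀ → h '' E₀ ≠ Set.univ := by
      intro E₀ hne hcl hcon
      apply hpm E₀ hcl hne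
      rw [← hqh, Set.image_comp, hcon, Set.image_univ]
      exact hqs.range_eq
    let e := ExtremallyDisconnected.homeoCompactToT2 hh h_surj hzorn
    refine ⟨e, ?_⟩
    funext x
    exact congrFun hqh x

end Groth.Agent.S7556
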