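import Groth.Statements.S7557
import Mathlib
import Groth.Agent.Lib.helper4.TopCommRing


set_option autoImplicit false
universe u
open CategoryTheory CategoryTheory.Limits
open PtTop

namespace Groth.Agent.S7557

open Groth.Agent.Lib.helper4

/-- The category of topological rings (commutative, with continuous ring homomorphisms) has limits, and
limits commute with the forgetful functors to topological spaces and to rings. -/
theorem result :
    HasLimits TopCommRingCat.{u} ∧
    PreservesLimits (forget₂ TopCommRingCat.{u} TopCat.{u}) ∧
    PreservesLimits (forget₂ TopCommRingCat.{u} CommRingCat.{u}) := by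
  refine ⟨⟨fun J _ => ⟨fun F => ⟨⟨⟨limCone F, limConeIsLimit F⟩⟩⟩⟩⟩,
    ⟨fun {J} _ => ⟨fun {F} => preservesLimit_of_preserves_limit_cone (limConeIsLimit F)
      (limConeTop_nonempty_isLimit F).some⟩⟩,
    ⟨fun {J} _ => ⟨fun {F} => preservesLimit_of_preserves_limit_cone (limConeIsLimit F)
      (limConeRingIsLimit F)⟩⟩⟩

end Groth.Agent.S7557
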