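import Groth.Statements.S7559
import Mathlib
import Groth.Agent.Lib.helper4.Strat


set_option autoImplicit false
universe u
open PtTop

namespace Groth.Agent.S7559

open Groth.Agent.Lib.helper4

/-- Let X be a topological space and X = ∐ P_k a finite partition into locally closed parts. Then there
is a finite stratification of X refining it: a finite partially ordered index set I and pairwise
disjoint locally closed strata S_i covering X with closure(S_j) ⊆ ⋃_{i ≤ j} S_i, such that every
part P_k is a union of strata. -/
theorem result {X : Type u} [TopologicalSpace X]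
    {n : ℕ} (P : Fin n → Set X) (hP : ∀ k, IsLocallyClosed (P k)) (hcov : ⋃ k, P k = Set.univ)
    (hdisj : ∀ k k', k ≠ k' → Disjoint (P k) (P k')) :
    ∃ (I : Type) (_ : Fintype I) (_ : PartialOrder I) (S : I → Set X),
      (∀ i, IsLocallyClosed (S i)) ∧ (⋃ i, S i = Set.univ) ∧ (∀ i j, i ≠ j → Disjoint (S i) (S j)) ∧
      (∀ j, closure (S j) ⊆ ⋃ i ∈ Set.Iic j, S i) ∧
      (∀ i k, (S i ∩ P k).Nonempty → S i ⊆ P k) := by
  classical
  let C : (Fin n ⊕ Fin n) → Set X := fun a =>
    Sum.elim (fun k => closure (P k)) (fun k => closure (P k) \ P k) a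
  have hC : ∀ a, IsClosed (C a) := by
    rintro (k | k)
    · exact isClosed_closure
    · have h1 : IsOpen (coborder (P k)) := (hP k).isOpen_coborder
      have : closure (P k) \ P k = (coborder (P k))ᶜ := by
        rw [coborder, compl_compl]
      show IsClosed (closure (P k) \ P k)
      rw [this]
      exact h1.isClosed_compl
  have hPk : ∀ k x, x ∈ P k ↔ x ∈ C (Sum.inl k) ∧ x ∉ C (Sum.inr k) := by
    intro k x
    show x ∈ P k ↔ x ∈ closure (P k) ∧ x ∉ closure (P k) \ P k
    constructor
    · intro hx
      exact ⟨subset_closure hx, fun h => h.2 hx⟩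
    · rintro ⟨h1, h2⟩
      by_contra hx
      exact h2 ⟨h1, hx⟩
  refine ⟨(Finset (Fin n ⊕ Fin n))ᵒᵈ, inferInstance, inferInstance, atom C,
    isLocallyClosed_atom C hC, iUnion_atom C, fun i j hij => disjoint_atom C hij,
    closure_atom_subset C hC, fun i k h => ?_⟩
  refine atom_subset_of_dep C ?_ i h
  intro x y hxy
  rw [hPk k x, hPk k y, hxy (Sum.inl k), hxy (Sum.inr k)]

end Groth.Agent.S7559
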