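import Groth.Statements.S7560
import Mathlib
import Groth.Agent.Lib.helper4.Strat


set_option autoImplicit false
universe u
open ConstrTop

namespace Groth.Agent.S7560

open Groth.Agent.Lib.helper4

/-- Let X be a topological space written as a finite union X = T_1 ∪ … ∪ T_n of constructible subsets.
Then there is a finite stratification X = ∐ S_i (pairwise disjoint locally closed strata indexed by
a finite partially ordered set, with closure(S_j) ⊆ ⋃_{i ≤ j} S_i) whose strata are constructible
and such that every T_k is a union of strata. -/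
theorem result {X : Type u} [TopologicalSpace X]
    {n : ℕ} (T : Fin n → Set X) (hT : ∀ k, Topology.IsConstructible (T k)) (hcov : ⋃ k, T k = Set.univ) :
    ∃ (I : Type) (_ : Fintype I) (_ : PartialOrder I) (S : I → Set X),
      (∀ i, IsLocallyClosed (S i) ∧ Topology.IsConstructible (S i)) ∧ (⋃ i, S i = Set.univ) ∧
      (∀ i j, i ≠ j → Disjoint (S i) (S j)) ∧
      (∀ j, closure (S j) ⊆ ⋃ i ∈ Set.Iic j, S i) ∧
      (∀ i k, (S i ∩ T k).Nonempty → S i ⊆ T k) := by
  classical
  obtain ⟨ι, _, C, hC, hdep⟩ := exists_family_of_forall_isConstructible T hT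
  refine ⟨(Finset ι)ᵒᵈ, inferInstance, inferInstance, atom C,
    fun i => ⟨isLocallyClosed_atom C (fun a => (hC a).1) i, isConstructible_atom C hC i⟩,
    iUnion_atom C, fun i j hij => disjoint_atom C hij,
    closure_atom_subset C (fun a => (hC a).1), fun i k h => ?_⟩
  exact atom_subset_of_dep C (hdep k) i h

end Groth.Agent.S7560
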