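import Groth.Statements.S7564
import Mathlib


set_option autoImplicit false
universe u
open PtTop

namespace Groth.Agent.S7564

/-- For a continuous surjection f : X → Y, if X has finitely many irreducible components, say n of them,
then Y has at most n irreducible components. -/
theorem result {X Y : Type u} [TopologicalSpace X] [TopologicalSpace Y]
    (f : X → Y) (hf : Continuous f) (hs : Function.Surjective f) (hfin : (irreducibleComponents X).Finite) :
    (irreducibleComponents Y).Finite ∧ (irreducibleComponents Y).ncard ≤ (irreducibleComponents X).ncard := by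
  classical
  have hsub : irreducibleComponents Y ⊆ (fun C : Set X => closure (f '' C)) '' irreducibleComponents X := by
    intro W hW
    have hWirr : IsIrreducible W := hW.1
    have hcl : ∀ z ∈ (hfin.toFinset.image fun C : Set X => closure (f '' C)), IsClosed z := by
      intro z hz
      obtain ⟨C, _, rfl⟩ := Finset.mem_image.mp hz
      exact isClosed_closure
    have hcov : W ⊆ ⋃₀ ↑(hfin.toFinset.image fun C : Set X => closure (f '' C)) := by
      intro y _
      obtain ⟨x, rfl⟩ := hs y
      have hx : x ∈ ⋃₀ irreducibleComponents X := by
        rw [sUnion_irreducibleComponents]; trivial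
      obtain ⟨C, hC, hxC⟩ := hx
      refine ⟨closure (f '' C), ?_, subset_closure ⟨x, hxC, rfl⟩⟩
      simp only [Finset.coe_image, Set.Finite.coe_toFinset, Set.mem_image]
      exact ⟨C, hC, rfl⟩
    obtain ⟨z, hz, hWz⟩ := (isIrreducible_iff_sUnion_isClosed.mp hWirr) _ hcl hcov
    obtain ⟨C, hC, rfl⟩ := Finset.mem_image.mp hz
    rw [Set.Finite.mem_toFinset] at hC
    refine ⟨C, hC, ?_⟩
    have hirr : IsIrreducible (closure (f '' C)) :=
      (hC.1.image f hf.continuousOn).closure
    exact subset_antisymm (hW.2 hirr hWz) hWz
  have hfinY : (irreducibleComponents Y).Finite := (hfin.image _).subset hsub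
  refine ⟨hfinY, ?_⟩
  calc (irreducibleComponents Y).ncard
      ≤ ((fun C : Set X => closure (f '' C)) '' irreducibleComponents X).ncard :=
        Set.ncard_le_ncard hsub (hfin.image _)
    _ ≤ (irreducibleComponents X).ncard := Set.ncard_image_le hfin

end Groth.Agent.S7564
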