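import Groth.Statements.S7566
import Mathlib


set_option autoImplicit false
universe u
open PtTop

namespace Groth.Agent.S7566

/-- Let X be a quasi-compact topological space whose quasi-compact opens form a basis, any two of them
meeting in a quasi-compact set. Then for every x ∈ X the connected component of x equals the
intersection of every clopen subset of X that contains x. -/
theorem result {X : Type u} [TopologicalSpace X]
    [CompactSpace X] [PrespectralSpace X] [QuasiSeparatedSpace X] (x : X) :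
    connectedComponent x = ⋂₀ {Z : Set X | IsClopen Z ∧ x ∈ Z} := by
  classical
  set S : Set X := ⋂₀ {Z : Set X | IsClopen Z ∧ x ∈ Z} with hS
  have hxS : x ∈ S := Set.mem_sInter.mpr fun Z hZ => hZ.2
  have hSclosed : IsClosed S := isClosed_sInter fun Z hZ => hZ.1.1
  apply subset_antisymm
  · exact Set.subset_sInter fun Z hZ => hZ.1.connectedComponent_subset hZ.2
  refine IsPreconnected.subset_connectedComponent ?_ hxS
  rw [isPreconnected_iff_subset_of_fully_disjoint_closed hSclosed]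
  intro a b ha hb hab ab_disj
  -- the two pieces of `S`
  have hBc : IsCompact (S ∩ a) := (hSclosed.inter ha).isCompact
  have hCc : IsCompact (S ∩ b) := (hSclosed.inter hb).isCompact
  have hBb : S ∩ a ⊆ bᶜ := fun y hy hyb => Set.disjoint_left.mp ab_disj hy.2 hyb
  have hCa : S ∩ b ⊆ aᶜ := fun y hy hya => Set.disjoint_left.mp ab_disj hya hy.2
  obtain ⟨U, hUc, hUo, hBU, hUb⟩ :=
    PrespectralSpace.exists_isCompact_and_isOpen_between hBc hb.isOpen_compl hBb
  obtain ⟨V, hVc, hVo, hCV, hVa⟩ :=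
    PrespectralSpace.exists_isCompact_and_isOpen_between hCc ha.isOpen_compl hCa
  have hSUV : S ⊆ U ∪ V := by
    intro y hy
    rcases hab hy with h | h
    · exact Or.inl (hBU ⟨hy, h⟩)
    · exact Or.inr (hCV ⟨hy, h⟩)
  have hUVS : Disjoint (U ∩ V) S := by
    rw [Set.disjoint_left]
    rintro y ⟨hyU, hyV⟩ hyS
    rcases hab hyS with h | h
    · exact hVa hyV h
    · exact hUb hyU h
  -- a compact set disjoint from `S`
  have hKc : IsCompact ((U ∩ V) ∪ (U ∪ V)ᶜ) :=
    (QuasiSeparatedSpace.inter_isCompact U V hUo hUc hVo hVc).union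
      (hUo.union hVo).isClosed_compl.isCompact
  have hKS : ((U ∩ V) ∪ (U ∪ V)ᶜ) ∩ ⋂ i : {Z : Set X // IsClopen Z ∧ x ∈ Z}, (i : Set X) = ∅ := by
    rw [Set.eq_empty_iff_forall_notMem]
    rintro y ⟨hy1, hy2⟩
    have hyS : y ∈ S := Set.mem_sInter.mpr fun Z hZ => Set.mem_iInter.mp hy2 ⟨Z, hZ⟩
    rcases hy1 with h | h
    · exact Set.disjoint_left.mp hUVS h hyS
    · exact h (hSUV hyS)
  obtain ⟨u, hu⟩ := hKc.elim_finite_subfamily_closed
    (fun i : {Z : Set X // IsClopen Z ∧ x ∈ Z} => (i : Set X)) (fun i => i.2.1.1) hKS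
  set Z₀ : Set X := ⋂ i ∈ u, (i : Set X) with hZ₀
  have hZ₀clopen : IsClopen Z₀ := isClopen_biInter_finset fun i _ => i.2.1
  have hxZ₀ : x ∈ Z₀ := Set.mem_iInter₂.mpr fun i _ => i.2.2
  have hZ₀UV : Z₀ ⊆ U ∪ V := by
    intro y hy
    by_contra hcon
    have : y ∈ ((U ∩ V) ∪ (U ∪ V)ᶜ) ∩ Z₀ := ⟨Or.inr hcon, hy⟩
    rw [hu] at this
    exact this
  have hZ₀disj : ∀ y ∈ Z₀, y ∈ U → y ∈ V → False := by
    intro y hy hyU hyV
    have : y ∈ ((U ∩ V) ∪ (U ∪ V)ᶜ) ∩ Z₀ := ⟨Or.inl ⟨hyU, hyV⟩, hy⟩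
    rw [hu] at this
    exact this
  have hZU : IsClopen (Z₀ ∩ U) := by
    refine ⟨?_, hZ₀clopen.2.inter hUo⟩
    have : Z₀ ∩ U = Z₀ ∩ Vᶜ := by
      ext y
      constructor
      · rintro ⟨h1, h2⟩
        exact ⟨h1, fun h3 => hZ₀disj y h1 h2 h3⟩
      · rintro ⟨h1, h2⟩
        exact ⟨h1, (hZ₀UV h1).resolve_right h2⟩
    rw [this]
    exact hZ₀clopen.1.inter hVo.isClosed_compl
  have hZV : IsClopen (Z₀ ∩ V) := by
    refine ⟨?_, hZ₀clopen.2.inter hVo⟩
    have : Z₀ ∩ V = Z₀ ∩ Uᶜ := by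
      ext y
      constructor
      · rintro ⟨h1, h2⟩
        exact ⟨h1, fun h3 => hZ₀disj y h1 h3 h2⟩
      · rintro ⟨h1, h2⟩
        exact ⟨h1, (hZ₀UV h1).resolve_left h2⟩
    rw [this]
    exact hZ₀clopen.1.inter hUo.isClosed_compl
  rcases hSUV hxS with hxU | hxV
  · left
    have hSU : S ⊆ Z₀ ∩ U := Set.sInter_subset_of_mem ⟨hZU, hxZ₀, hxU⟩
    intro y hy
    rcases hab hy with h | h
    · exact h
    · exact absurd h (hUb (hSU hy).2)
  · right
    have hSV : S ⊆ Z₀ ∩ V := Set.sInter_subset_of_mem ⟨hZV, hxZ₀, hxV⟩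
    intro y hy
    rcases hab hy with h | h
    · exact absurd h (hVa (hSV hy).2)
    · exact h

end Groth.Agent.S7566
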