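import Groth.Statements.S7567
import Mathlib
import Groth.Agent.S7566


set_option autoImplicit false
universe u
open PtTop

namespace Groth.Agent.S7567

/-- Let X be a quasi-compact topological space whose quasi-compact opens form a basis, any two of them
meeting in a quasi-compact set. For a subset T ⊆ X these two conditions are equivalent: (a) T can be
written as an intersection of clopen subsets of X; (b) T is closed and is a union of connected
components of X. -/
theorem result {X : Type u} [TopologicalSpace X]
    [CompactSpace X] [PrespectralSpace X] [QuasiSeparatedSpace X] (T : Set X) :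
    (∃ S : Set (Set X), (∀ Z ∈ S, IsClopen Z) ∧ T = ⋂₀ S) ↔
      (IsClosed T ∧ ∀ x ∈ T, connectedComponent x ⊆ T) := by
  classical
  constructor
  · rintro ⟨S, hS, rfl⟩
    refine ⟨isClosed_sInter fun Z hZ => (hS Z hZ).1, fun x hx => ?_⟩
    exact Set.subset_sInter fun Z hZ =>
      (hS Z hZ).connectedComponent_subset (Set.mem_sInter.mp hx Z hZ)
  · rintro ⟨hTc, hT⟩
    refine ⟨{Z | IsClopen Z ∧ T ⊆ Z}, fun Z hZ => hZ.1, ?_⟩
    apply subset_antisymm
    · exact Set.subset_sInter fun Z hZ => hZ.2
    · intro y hy
      by_contra hyT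
      -- for each `x ∈ T` a clopen containing `x` but not `y`
      have hex : ∀ x ∈ T, ∃ Z : Set X, IsClopen Z ∧ x ∈ Z ∧ y ∉ Z := by
        intro x hx
        have hyx : y ∉ connectedComponent x := fun h => hyT (hT x hx h)
        rw [Groth.Agent.S7566.result x, Set.mem_sInter] at hyx
        push Not at hyx
        obtain ⟨Z, ⟨hZ1, hZ2⟩, hZ3⟩ := hyx
        exact ⟨Z, hZ1, hZ2, hZ3⟩
      choose! Zf hZf using hex
      obtain ⟨t, ht, htfin, hcov⟩ := hTc.isCompact.elim_finite_subcover_image
        (b := T) (c := Zf) (fun x hx => (hZf x hx).1.2)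
        (fun x hx => Set.mem_biUnion hx (hZf x hx).2.1)
      have hclopen : IsClopen (⋃ i ∈ t, Zf i) :=
        htfin.isClopen_biUnion fun i hi => (hZf i (ht hi)).1
      have := Set.mem_sInter.mp hy _ ⟨hclopen, hcov⟩
      obtain ⟨i, hi, hyi⟩ := Set.mem_iUnion₂.mp this
      exact (hZf i (ht hi)).2.2 hyi

end Groth.Agent.S7567
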