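import Groth.Statements.S7568
import Mathlib


set_option autoImplicit false
universe u
open PtTop

namespace Groth.Agent.S7568

/-- Let X be a Hausdorff quasi-compact space, X = ⋃ U_i an open covering, p ≥ 0 an integer, and for
every (p+1)-tuple (i_0, …, i_p) an open covering of U_{i_0} ∩ … ∩ U_{i_p} by opens W_{i_0…i_p,k}.
Then there are an open covering X = ⋃_{j ∈ J} V_j and a map α : J → I with closure(V_j) ⊆ U_{α(j)}
such that each V_{j_0} ∩ … ∩ V_{j_p} is contained in W_{α(j_0)…α(j_p),k} for some k. The published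
statement allows a covering of an empty intersection to have no members; this row requires every
covering W_{i_0…i_p} to have at least one member (possibly empty), without which the conclusion
fails. -/
theorem result {X : Type u} [TopologicalSpace X] [CompactSpace X] [T2Space X]
    {ι : Type u} (U : ι → Set X) (hU : ∀ i, IsOpen (U i)) (hcov : ⋃ i, U i = Set.univ) (p : ℕ)
    (W : (Fin (p + 1) → ι) → Set (Set X)) (hWo : ∀ t, ∀ w ∈ W t, IsOpen w)
    (hWc : ∀ t, ⋃₀ W t = ⋂ l, U (t l)) (hWne : ∀ t, (W t).Nonempty) :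
    ∃ (J : Type u) (V : J → Set X) (α : J → ι), (∀ j, IsOpen (V j)) ∧ (⋃ j, V j = Set.univ) ∧
      (∀ j, closure (V j) ⊆ U (α j)) ∧
      (∀ t : Fin (p + 1) → J, ∃ w ∈ W (α ∘ t), (⋂ l, V (t l)) ⊆ w) := by
  classical
  -- Step 1: a finite family of opens with closures inside members of the cover
  have step1 : ∃ S : Finset (Set X × ι), (∀ q ∈ S, IsOpen q.1 ∧ closure q.1 ⊆ U q.2) ∧
      (Set.univ : Set X) ⊆ ⋃ q ∈ S, q.1 := by
    refine isCompact_univ.induction_on (p := fun K => ∃ S : Finset (Set X × ι),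
      (∀ q ∈ S, IsOpen q.1 ∧ closure q.1 ⊆ U q.2) ∧ K ⊆ ⋃ q ∈ S, q.1) ?_ ?_ ?_ ?_
    · exact ⟨∅, by simp, Set.empty_subset _⟩
    · rintro K K' hKK' ⟨S, h1, h2⟩
      exact ⟨S, h1, hKK'.trans h2⟩
    · rintro K K' ⟨S, h1, h2⟩ ⟨S', h1', h2'⟩
      refine ⟨S ∪ S', ?_, ?_⟩
      · intro q hq
        rcases Finset.mem_union.1 hq with h | h
        · exact h1 q h
        · exact h1' q h
      · rw [Finset.set_biUnion_union]
        exact Set.union_subset_union h2 h2'
    · intro x _
      have hx : x ∈ ⋃ i, U i := hcov ▸ Set.mem_univ x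
      obtain ⟨i, hi⟩ := Set.mem_iUnion.1 hx
      obtain ⟨t, ht, htcl, htU⟩ := exists_mem_nhds_isClosed_subset ((hU i).mem_nhds hi)
      refine ⟨interior t, mem_nhdsWithin_of_mem_nhds (interior_mem_nhds.2 ht),
        {(interior t, i)}, ?_, ?_⟩
      · intro q hq
        rw [Finset.mem_singleton] at hq
        subst hq
        exact ⟨isOpen_interior, (closure_minimal interior_subset htcl).trans htU⟩
      · simp
  obtain ⟨S, hS1, hS2⟩ := step1
  -- notation
  let A : ↥S → Set X := fun q => q.1.1
  let ix : ↥S → ι := fun q => q.1.2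
  have hAo : ∀ q, IsOpen (A q) := fun q => (hS1 q.1 q.2).1
  have hAcl : ∀ q, closure (A q) ⊆ U (ix q) := fun q => (hS1 q.1 q.2).2
  have hAcov : ∀ y : X, ∃ q : ↥S, y ∈ A q := by
    intro y
    have := hS2 (Set.mem_univ y)
    simp only [Set.mem_iUnion, exists_prop] at this
    obtain ⟨q, hq, hy⟩ := this
    exact ⟨⟨q, hq⟩, hy⟩
  -- Step 2: the selected members of W
  have hsel : ∀ (x : X) (t : Fin (p + 1) → ↥S), (∀ l, x ∈ closure (A (t l))) →
      ∃ w ∈ W (fun l => ix (t l)), x ∈ w := by
    intro x t ht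
    have : x ∈ ⋂ l, U (ix (t l)) := Set.mem_iInter.2 fun l => hAcl (t l) (ht l)
    rw [← hWc (fun l => ix (t l))] at this
    obtain ⟨w, hw, hxw⟩ := this
    exact ⟨w, hw, hxw⟩
  let wsel : X → (Fin (p + 1) → ↥S) → Set X := fun x t =>
    if h : ∀ l, x ∈ closure (A (t l)) then Classical.choose (hsel x t h) else Set.univ
  have hwsel_open : ∀ x t, IsOpen (wsel x t) := by
    intro x t
    by_cases h : ∀ l, x ∈ closure (A (t l))
    · simp only [wsel, dif_pos h]
      exact hWo _ _ (Classical.choose_spec (hsel x t h)).1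
    · simp only [wsel, dif_neg h]
      exact isOpen_univ
  have hwsel_mem : ∀ x t, x ∈ wsel x t := by
    intro x t
    by_cases h : ∀ l, x ∈ closure (A (t l))
    · simp only [wsel, dif_pos h]
      exact (Classical.choose_spec (hsel x t h)).2
    · simp only [wsel, dif_neg h]
      exact Set.mem_univ x
  let O : X → Set X := fun x =>
    (⋂ q : ↥S, if x ∈ closure (A q) then Set.univ else (closure (A q))ᶜ) ∩
      ⋂ t : Fin (p + 1) → ↥S, wsel x t
  have hOo : ∀ x, IsOpen (O x) := by
    intro x
    refine (isOpen_iInter_of_finite fun q => ?_).inter (isOpen_iInter_of_finite fun t => hwsel_open x t)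
    by_cases h : x ∈ closure (A q)
    · simp only [h, if_true]; exact isOpen_univ
    · simp only [h, if_false]; exact isClosed_closure.isOpen_compl
  have hOmem : ∀ x, x ∈ O x := by
    intro x
    refine ⟨Set.mem_iInter.2 fun q => ?_, Set.mem_iInter.2 fun t => hwsel_mem x t⟩
    by_cases h : x ∈ closure (A q)
    · simp only [h, if_true]; exact Set.mem_univ x
    · simp only [h, if_false]; exact h
  refine ⟨X × ↥S, fun j => O j.1 ∩ A j.2, fun j => ix j.2, fun j => (hOo j.1).inter (hAo j.2), ?_, ?_, ?_⟩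
  · apply Set.eq_univ_of_forall
    intro y
    obtain ⟨q, hq⟩ := hAcov y
    exact Set.mem_iUnion.2 ⟨(y, q), hOmem y, hq⟩
  · intro j
    exact (closure_mono Set.inter_subset_right).trans (hAcl j.2)
  · intro τ
    by_cases hne : (⋂ l, (O (τ l).1 ∩ A (τ l).2)).Nonempty
    · obtain ⟨y, hy⟩ := hne
      have hy' : ∀ l, y ∈ O (τ l).1 ∩ A (τ l).2 := fun l => Set.mem_iInter.1 hy l
      set x0 := (τ 0).1 with hx0
      set t : Fin (p + 1) → ↥S := fun l => (τ l).2 with ht
      have hcl : ∀ l, x0 ∈ closure (A (t l)) := by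
        intro l
        by_contra hcon
        have h1 := Set.mem_iInter.1 (hy' 0).1.1 (t l)
        simp only [← hx0] at h1
        rw [if_neg hcon] at h1
        exact h1 (subset_closure (hy' l).2)
      refine ⟨Classical.choose (hsel x0 t hcl), (Classical.choose_spec (hsel x0 t hcl)).1, ?_⟩
      intro z hz
      have hz0 := (Set.mem_iInter.1 hz 0).1.2
      have hz1 := Set.mem_iInter.1 hz0 t
      simp only [← hx0] at hz1
      simp only [wsel, dif_pos hcl] at hz1
      exact hz1
    · obtain ⟨w, hw⟩ := hWne (fun l => ix (τ l).2)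
      refine ⟨w, hw, ?_⟩
      rw [Set.not_nonempty_iff_eq_empty] at hne
      rw [hne]
      exact Set.empty_subset _

end Groth.Agent.S7568
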