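import Groth.Statements.S7569
import Mathlib
import Groth.Agent.Lib.helper4.CechRefine


set_option autoImplicit false
universe u
open PtTop

namespace Groth.Agent.S7569

open Groth.Agent.Lib.helper4

/-- Let X be a Hausdorff, locally quasi-compact space and Z ⊆ X a quasi-compact subset. Let p ≥ 0, let
U_i ⊆ X be opens with Z ⊆ ⋃ U_i, and for every (p+1)-tuple (i_0, …, i_p) let W_{i_0…i_p} ⊆ U_{i_0} ∩
… ∩ U_{i_p} be an open with W_{i_0…i_p} ∩ Z = U_{i_0} ∩ … ∩ U_{i_p} ∩ Z. Then there are opens V_i ⊆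
X with Z ⊆ ⋃ V_i, closure(V_i) ⊆ U_i for all i, and V_{i_0} ∩ … ∩ V_{i_p} ⊆ W_{i_0…i_p} for all
(p+1)-tuples. -/
theorem result {X : Type u} [TopologicalSpace X]
    [T2Space X] [LocallyCompactSpace X] (Z : Set X) (hZ : IsCompact Z)
    {ι : Type u} (U : ι → Set X) (hU : ∀ i, IsOpen (U i)) (hcov : Z ⊆ ⋃ i, U i) (p : ℕ)
    (W : (Fin (p + 1) → ι) → Set X) (hWo : ∀ t, IsOpen (W t)) (hWU : ∀ t, W t ⊆ ⋂ l, U (t l))
    (hWZ : ∀ t, W t ∩ Z = (⋂ l, U (t l)) ∩ Z) :
    ∃ V : ι → Set X, (∀ i, IsOpen (V i)) ∧ (Z ⊆ ⋃ i, V i) ∧ (∀ i, closure (V i) ⊆ U i) ∧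
      (∀ t : Fin (p + 1) → ι, (⋂ l, V (t l)) ⊆ W t) := by
  classical
  have stepB : ∃ (s : Finset ι) (V : ι → Set X), (∀ i, IsOpen (V i)) ∧ (∀ i, i ∉ s → V i = ∅) ∧
      Z ⊆ (⋃ i, V i) ∧ ∀ i, closure (V i) ⊆ U i := by
    refine hZ.induction_on (p := fun K => ∃ (s : Finset ι) (V : ι → Set X), (∀ i, IsOpen (V i)) ∧
      (∀ i, i ∉ s → V i = ∅) ∧ K ⊆ (⋃ i, V i) ∧ ∀ i, closure (V i) ⊆ U i)
      ?_ ?_ ?_ ?_
    · exact ⟨∅, fun _ => ∅, fun _ => isOpen_empty, fun _ _ => rfl, Set.empty_subset _,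
        fun i => by simp⟩
    · rintro K K' hKK' ⟨s, V, h1, h2, h3, h5⟩
      exact ⟨s, V, h1, h2, hKK'.trans h3, h5⟩
    · rintro K K' ⟨s, V, h1, h2, h3, h5⟩ ⟨s', V', h1', h2', h3', h5'⟩
      refine ⟨s ∪ s', fun i => V i ∪ V' i, fun i => (h1 i).union (h1' i), ?_, ?_, ?_⟩
      · intro i hi
        rw [Finset.mem_union, not_or] at hi
        simp only [h2 i hi.1, h2' i hi.2, Set.union_empty]
      · rw [Set.iUnion_union_distrib]
        exact Set.union_subset_union h3 h3'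
      · intro i
        rw [closure_union]
        exact Set.union_subset (h5 i) (h5' i)
    · intro z hz
      obtain ⟨i, hi⟩ := Set.mem_iUnion.1 (hcov hz)
      obtain ⟨t, ht, htcl, htU⟩ := exists_mem_nhds_isClosed_subset ((hU i).mem_nhds hi)
      refine ⟨interior t, mem_nhdsWithin_of_mem_nhds (interior_mem_nhds.2 ht),
        {i}, fun j => if j = i then interior t else ∅, ?_, ?_, ?_, ?_⟩
      · intro j
        by_cases hj : j = i
        · simp only [hj, if_true]; exact isOpen_interior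
        · simp only [hj, if_false]; exact isOpen_empty
      · intro j hj
        rw [Finset.mem_singleton] at hj
        simp only [hj, if_false]
      · intro x hx
        exact Set.mem_iUnion.2 ⟨i, by simpa using hx⟩
      · intro j
        by_cases hj : j = i
        · subst hj
          simp only [if_true]
          exact (closure_minimal interior_subset htcl).trans htU
        · simp only [hj, if_false, closure_empty]; exact Set.empty_subset _
  obtain ⟨s, V, h1, h2, h3, h5⟩ := stepB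
  obtain ⟨V', hV'o, hV'c, hV'V, hV'W⟩ := h4_cech_refine_core Z U p W hWo hWZ s V h1 h2 h3
    (fun i => Set.inter_subset_left.trans (h5 i))
  exact ⟨V', hV'o, hV'c, fun i => (closure_mono (hV'V i)).trans (h5 i), hV'W⟩

end Groth.Agent.S7569
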