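import Groth.Statements.S7570
import Mathlib
import Groth.Agent.Lib.helper4.CechRefine


set_option autoImplicit false
universe u
open PtTop

namespace Groth.Agent.S7570

open Groth.Agent.Lib.helper4

/-- Let X be a topological space and Z ⊆ X a quasi-compact subset such that any two distinct points of Z
have disjoint open neighbourhoods in X. Let p ≥ 0, let U_i ⊆ X be opens with Z ⊆ ⋃ U_i, and for
every (p+1)-tuple let W_{i_0…i_p} ⊆ U_{i_0} ∩ … ∩ U_{i_p} be an open with W_{i_0…i_p} ∩ Z = U_{i_0}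
∩ … ∩ U_{i_p} ∩ Z. Then there are opens V_i with (1) Z ⊆ ⋃ V_i, (2) V_i ⊆ U_i, (3) closure(V_i) ∩ Z
⊆ U_i, and (4) V_{i_0} ∩ … ∩ V_{i_p} ⊆ W_{i_0…i_p} for all (p+1)-tuples. -/
theorem result {X : Type u} [TopologicalSpace X]
    (Z : Set X) (hZ : IsCompact Z)
    (hZsep : ∀ z ∈ Z, ∀ z' ∈ Z, z ≠ z' → ∃ A B : Set X, IsOpen A ∧ IsOpen B ∧ z ∈ A ∧ z' ∈ B ∧ Disjoint A B)
    {ι : Type u} (U : ι → Set X) (hU : ∀ i, IsOpen (U i)) (hcov : Z ⊆ ⋃ i, U i) (p : ℕ)
    (W : (Fin (p + 1) → ι) → Set X) (hWo : ∀ t, IsOpen (W t)) (hWU : ∀ t, W t ⊆ ⋂ l, U (t l))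
    (hWZ : ∀ t, W t ∩ Z = (⋂ l, U (t l)) ∩ Z) :
    ∃ V : ι → Set X, (∀ i, IsOpen (V i)) ∧ (Z ⊆ ⋃ i, V i) ∧ (∀ i, V i ⊆ U i) ∧
      (∀ i, closure (V i) ∩ Z ⊆ U i) ∧ (∀ t : Fin (p + 1) → ι, (⋂ l, V (t l)) ⊆ W t) := by
  classical
  -- Step A: separate a point of Z from a compact subset of Z not containing it
  have sep : ∀ z ∈ Z, ∀ K : Set X, IsCompact K → K ⊆ Z → z ∉ K →
      ∃ A B : Set X, IsOpen A ∧ IsOpen B ∧ z ∈ A ∧ K ⊆ B ∧ Disjoint A B := by
    intro z hz K hK hKZ hzK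
    refine hK.induction_on (p := fun K' => ∃ A B : Set X, IsOpen A ∧ IsOpen B ∧ z ∈ A ∧ K' ⊆ B ∧ Disjoint A B)
      ⟨Set.univ, ∅, isOpen_univ, isOpen_empty, Set.mem_univ z, Set.Subset.rfl, Set.disjoint_empty _⟩
      ?_ ?_ ?_
    · rintro s t hst ⟨A, B, hA, hB, hzA, htB, hAB⟩
      exact ⟨A, B, hA, hB, hzA, hst.trans htB, hAB⟩
    · rintro s t ⟨A, B, hA, hB, hzA, hsB, hAB⟩ ⟨A', B', hA', hB', hzA', htB', hAB'⟩
      refine ⟨A ∩ A', B ∪ B', hA.inter hA', hB.union hB', ⟨hzA, hzA'⟩,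
        Set.union_subset_union hsB htB', ?_⟩
      rw [Set.disjoint_union_right]
      exact ⟨hAB.mono_left Set.inter_subset_left, hAB'.mono_left Set.inter_subset_right⟩
    · intro x hx
      have hne : z ≠ x := fun h => hzK (h ▸ hx)
      obtain ⟨A, B, hA, hB, hzA, hxB, hAB⟩ := hZsep z hz x (hKZ hx) hne
      exact ⟨B, mem_nhdsWithin_of_mem_nhds (hB.mem_nhds hxB), A, B, hA, hB, hzA, Set.Subset.rfl, hAB⟩
  -- Step B: finite family
  have stepB : ∃ (s : Finset ι) (V : ι → Set X), (∀ i, IsOpen (V i)) ∧ (∀ i, i ∉ s → V i = ∅) ∧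
      Z ⊆ (⋃ i, V i) ∧ (∀ i, V i ⊆ U i) ∧ ∀ i, closure (V i) ∩ Z ⊆ U i := by
    refine hZ.induction_on (p := fun K => ∃ (s : Finset ι) (V : ι → Set X), (∀ i, IsOpen (V i)) ∧
      (∀ i, i ∉ s → V i = ∅) ∧ K ⊆ (⋃ i, V i) ∧ (∀ i, V i ⊆ U i) ∧ ∀ i, closure (V i) ∩ Z ⊆ U i)
      ?_ ?_ ?_ ?_
    · exact ⟨∅, fun _ => ∅, fun _ => isOpen_empty, fun _ _ => rfl, Set.empty_subset _,
        fun _ => Set.empty_subset _, fun i => by simp⟩
    · rintro K K' hKK' ⟨s, V, h1, h2, h3, h4, h5⟩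
      exact ⟨s, V, h1, h2, hKK'.trans h3, h4, h5⟩
    · rintro K K' ⟨s, V, h1, h2, h3, h4, h5⟩ ⟨s', V', h1', h2', h3', h4', h5'⟩
      refine ⟨s ∪ s', fun i => V i ∪ V' i, fun i => (h1 i).union (h1' i), ?_, ?_, ?_, ?_⟩
      · intro i hi
        rw [Finset.mem_union, not_or] at hi
        simp only [h2 i hi.1, h2' i hi.2, Set.union_empty]
      · rw [Set.iUnion_union_distrib]
        exact Set.union_subset_union h3 h3'
      · exact fun i => Set.union_subset (h4 i) (h4' i)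
      · intro i
        rw [closure_union, Set.union_inter_distrib_right]
        exact Set.union_subset (h5 i) (h5' i)
    · intro z hz
      obtain ⟨i, hi⟩ := Set.mem_iUnion.1 (hcov hz)
      obtain ⟨A, B, hA, hB, hzA, hKB, hAB⟩ := sep z hz (Z \ U i) (hZ.diff (hU i)) Set.sdiff_subset
        (fun h => h.2 hi)
      refine ⟨A ∩ U i, mem_nhdsWithin_of_mem_nhds ((hA.inter (hU i)).mem_nhds ⟨hzA, hi⟩),
        {i}, fun j => if j = i then A ∩ U i else ∅, ?_, ?_, ?_, ?_, ?_⟩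
      · intro j
        by_cases hj : j = i
        · simp only [hj, if_true]; exact hA.inter (hU i)
        · simp only [hj, if_false]; exact isOpen_empty
      · intro j hj
        rw [Finset.mem_singleton] at hj
        simp only [hj, if_false]
      · intro x hx
        exact Set.mem_iUnion.2 ⟨i, by simpa using hx⟩
      · intro j
        by_cases hj : j = i
        · subst hj; simp only [if_true]; exact Set.inter_subset_right
        · simp only [hj, if_false]; exact Set.empty_subset _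
      · intro j
        by_cases hj : j = i
        · subst hj
          simp only [if_true]
          rintro x ⟨hx1, hx2⟩
          by_contra hxU
          have hxB : x ∈ B := hKB ⟨hx2, hxU⟩
          have hcl : x ∈ closure A := closure_mono Set.inter_subset_left hx1
          exact Set.disjoint_left.1 (hAB.closure_left hB) hcl hxB
        · simp only [hj, if_false, closure_empty, Set.empty_inter]; exact Set.empty_subset _
  obtain ⟨s, V, h1, h2, h3, h4, h5⟩ := stepB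
  obtain ⟨V', hV'o, hV'c, hV'V, hV'W⟩ := h4_cech_refine_core Z U p W hWo hWZ s V h1 h2 h3 h5
  refine ⟨V', hV'o, hV'c, fun i => (hV'V i).trans (h4 i), ?_, hV'W⟩
  intro i
  exact (Set.inter_subset_inter_left _ (closure_mono (hV'V i))).trans (h5 i)

end Groth.Agent.S7570
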