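import Groth.Statements.S7571
import Mathlib


set_option autoImplicit false
universe u
open CategoryTheory CategoryTheory.Limits
open PtTop

namespace Groth.Agent.S7571

/-- Let j ↦ X_j be a diagram of topological spaces over a cofiltered category with limit X and
projections f_j. (1) Every open of X is a union of subsets of the form f_j⁻¹(U_j) with U_j ⊆ X_j
open. (2) Every quasi-compact open of X equals f_i⁻¹(U_i) for some i and some open U_i ⊆ X_i. -/
theorem result {J : Type u} [SmallCategory J] [IsCofiltered J]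
    (F : J ⥤ TopCat.{u}) (c : Cone F) (hc : IsLimit c) :
    (∀ W : Set c.pt, IsOpen W →
      ∃ S : Set (Σ j, Set (F.obj j)), (∀ s ∈ S, IsOpen s.2) ∧ W = ⋃ s ∈ S, c.π.app s.1 ⁻¹' s.2) ∧
    (∀ W : Set c.pt, IsOpen W → IsCompact W →
      ∃ (i : J) (Ui : Set (F.obj i)), IsOpen Ui ∧ W = c.π.app i ⁻¹' Ui) := by
  classical
  have hB := TopCat.isTopologicalBasis_cofiltered_limit.{u, u} F c hc
    (fun j => {U | IsOpen U}) (fun j => TopologicalSpace.isTopologicalBasis_opens)
    (fun i => isOpen_univ) (fun i U1 U2 h1 h2 => IsOpen.inter h1 h2)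
    (fun i j f V hV => hV.preimage (F.map f).hom.continuous)
  -- pointwise form
  have key : ∀ W : Set c.pt, IsOpen W → ∀ x ∈ W, ∃ (j : J) (V : Set (F.obj j)),
      IsOpen V ∧ x ∈ c.π.app j ⁻¹' V ∧ c.π.app j ⁻¹' V ⊆ W := by
    intro W hW x hx
    obtain ⟨_, ⟨j, V, hV, rfl⟩, hxV, hVW⟩ := hB.exists_subset_of_mem_open hx hW
    exact ⟨j, V, hV, hxV, hVW⟩
  constructor
  · intro W hW
    refine ⟨{s | IsOpen s.2 ∧ c.π.app s.1 ⁻¹' s.2 ⊆ W}, fun s hs => hs.1, ?_⟩
    apply subset_antisymm
    · intro x hx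
      obtain ⟨j, V, hV, hxV, hVW⟩ := key W hW x hx
      exact Set.mem_biUnion (show (⟨j, V⟩ : Σ j, Set (F.obj j)) ∈ _ from ⟨hV, hVW⟩) hxV
    · exact Set.iUnion₂_subset fun s hs => hs.2
  · intro W hW hWc
    choose j V hV hxV hVW using fun x : W => key W hW x.1 x.2
    have : CompactSpace W := isCompact_iff_compactSpace.mp hWc
    obtain ⟨t, ht⟩ := (isCompact_univ (X := W)).elim_nhds_subcover
      (fun x => (Subtype.val : W → c.pt) ⁻¹' (c.π.app (j x) ⁻¹' V x))
      (fun x _ => (((hV x).preimage (c.π.app (j x)).hom.continuous).preimage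
        continuous_subtype_val).mem_nhds (hxV x))
    obtain ⟨i, hi⟩ := IsCofiltered.inf_objs_exists (t.image fun x => j x)
    have g : ∀ x : W, x ∈ t → (i ⟶ j x) := fun x hx =>
      (hi (Finset.mem_image_of_mem (fun x : W => j x) hx)).some
    refine ⟨i, ⋃ x : W, ⋃ hx : x ∈ t, F.map (g x hx) ⁻¹' V x, ?_, ?_⟩
    · exact isOpen_iUnion fun x => isOpen_iUnion fun hx =>
        (hV x).preimage (F.map (g x hx)).hom.continuous
    · have hpre : ∀ (x : W) (hx : x ∈ t),
          c.π.app i ⁻¹' (F.map (g x hx) ⁻¹' V x) = c.π.app (j x) ⁻¹' V x := by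
        intro x hx
        rw [← c.w (g x hx)]
        rfl
      apply subset_antisymm
      · intro y hy
        have := ht.2 (Set.mem_univ (⟨y, hy⟩ : W))
        obtain ⟨x, hx, hyx⟩ := Set.mem_iUnion₂.mp this
        rw [Set.preimage_iUnion₂]
        refine Set.mem_iUnion₂.mpr ⟨x, hx, ?_⟩
        rw [hpre]
        exact hyx
      · rw [Set.preimage_iUnion₂]
        refine Set.iUnion₂_subset fun x hx => ?_
        rw [hpre]
        exact hVW x

end Groth.Agent.S7571
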