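import Groth.Statements.S7579
import Mathlib
import Groth.Agent.Lib.helper4.ConstrTop


set_option autoImplicit false
universe u
open SpecSp

namespace Groth.Agent.S7579

/-- Let X be a spectral space. Then X with its constructible topology is Hausdorff and totally
disconnected. The published statement also asserts that the constructible topology is quasi-compact;
this row states the Hausdorff and totally disconnected parts. -/
theorem result (X : Type u) [TopologicalSpace X] [SpectralSpace X] :
    T2Space (WithConstructibleTopology X) ∧ TotallyDisconnectedSpace (WithConstructibleTopology X) := by
  constructor
  · exact @T2Space.of_injective_continuous (WithConstructibleTopology X) X _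
      (constructibleTopology X) Groth.Agent.Lib.helper4.h4_t2Space_constr WithTopology.ofTopology
      (WithTopology.ofTopology_injective _) (WithTopology.continuous_ofTopology _)
  · have : TotallySeparatedSpace (WithConstructibleTopology X) := by
      rw [totallySeparatedSpace_iff_exists_isClopen]
      intro x y hxy
      have hne : WithTopology.ofTopology x ≠ WithTopology.ofTopology y :=
        fun h => hxy (WithTopology.ofTopology_injective _ h)
      obtain ⟨U, hUo, hUc, h⟩ := Groth.Agent.Lib.helper4.h4_exists_compact_open_separating hne
      have hcl := Groth.Agent.Lib.helper4.h4_isClopen_constr_of_isCompact_isOpen hUo hUc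
      have hcl' : IsClopen (WithTopology.ofTopology ⁻¹' U : Set (WithConstructibleTopology X)) :=
        @IsClopen.preimage _ _ _ (constructibleTopology X) _ hcl _
          (WithTopology.continuous_ofTopology _)
      rcases h with ⟨hx, hy⟩ | ⟨hy, hx⟩
      · exact ⟨_, hcl', hx, hy⟩
      · refine ⟨_, hcl'.compl, hx, ?_⟩
        simpa using hy
    infer_instance

end Groth.Agent.S7579
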