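import Groth.Statements.S7661
import Mathlib


set_option autoImplicit false
universe u
open CategoryTheory CategoryTheory.Limits AlgebraicGeometry
open Variety

namespace Groth.Agent.S7661

/-- Let A be a ring, I an ideal, p_1, …, p_r prime ideals with I ⊄ p_i for all i, and let f̄ ∈ A/I. Then
f̄ lifts to an element f ∈ A with f ∉ p_i for all i. -/
theorem result (A : Type u) [CommRing A] (I : Ideal A)
    (s : Finset (Ideal A)) (hs : ∀ p ∈ s, p.IsPrime) (hI : ∀ p ∈ s, ¬ I ≤ p) (fbar : A ⧸ I) :
    ∃ f : A, Ideal.Quotient.mk I f = fbar ∧ ∀ p ∈ s, f ∉ p := by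
  classical
  induction' hc : s.card using Nat.strong_induction_on with n ih generalizing s
  rcases s.eq_empty_or_nonempty with rfl | hne
  · obtain ⟨f, hf⟩ := Ideal.Quotient.mk_surjective fbar
    exact ⟨f, hf, by simp⟩
  · obtain ⟨p, hp⟩ := s.exists_minimal hne
    have hps : p ∈ s := hp.1
    obtain ⟨f, hf, hfs⟩ := ih (s.erase p).card (by rw [← hc]; exact Finset.card_erase_lt_of_mem hps)
      (s.erase p) (fun q hq => hs q (Finset.mem_of_mem_erase hq))
      (fun q hq => hI q (Finset.mem_of_mem_erase hq)) rfl
    by_cases hfp : f ∈ p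
    · have hpp : p.IsPrime := hs p hps
      have hnot : ¬ (I * ∏ q ∈ s.erase p, q) ≤ p := by
        intro hle
        rcases (Ideal.IsPrime.mul_le hpp).mp hle with h | h
        · exact hI p hps h
        · obtain ⟨q, hq, hqp⟩ := (Ideal.IsPrime.prod_le hpp).mp h
          have hqs : q ∈ s := Finset.mem_of_mem_erase hq
          have hne' : q ≠ p := Finset.ne_of_mem_erase hq
          have : p ≤ q := hp.2 hqs hqp
          exact hne' (le_antisymm hqp this)
      obtain ⟨x, hx, hxp⟩ := SetLike.not_le_iff_exists.mp hnot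
      have hxI : x ∈ I :=
        (Ideal.mul_le_left (I := I) (J := (s.erase p).prod (fun q : Ideal A => q))) hx
      have hxq : ∀ q ∈ s.erase p, x ∈ q := by
        intro q hq
        have h1 : x ∈ (s.erase p).prod (fun q : Ideal A => q) :=
          (Ideal.mul_le_right (I := I) (J := (s.erase p).prod (fun q : Ideal A => q))) hx
        have h2 : x ∈ (s.erase p).inf (fun q : Ideal A => q) :=
          (Ideal.prod_le_inf (s := s.erase p) (f := fun q : Ideal A => q)) h1
        have h3 : (s.erase p).inf (fun q : Ideal A => q) ≤ q :=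
          Finset.inf_le (f := fun q : Ideal A => q) hq
        exact h3 h2
      refine ⟨f + x, ?_, ?_⟩
      · rw [map_add, hf, Ideal.Quotient.eq_zero_iff_mem.mpr hxI, add_zero]
      · intro q hq hmem
        by_cases hqp : q = p
        · subst hqp
          exact hxp ((Ideal.add_mem_iff_right _ hfp).mp hmem)
        · have hq' : q ∈ s.erase p := Finset.mem_erase.mpr ⟨hqp, hq⟩
          exact hfs q hq' ((Ideal.add_mem_iff_left _ (hxq q hq')).mp hmem)
    · refine ⟨f, hf, ?_⟩
      intro q hq
      by_cases hqp : q = p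
      · subst hqp; exact hfp
      · exact hfs q (Finset.mem_erase.mpr ⟨hqp, hq⟩)

end Groth.Agent.S7661
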