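import Groth.Statements.S8272
-- import your own Groth.Agent.* helpers here
import Mathlib

set_option autoImplicit false
universe u
open CategoryTheory CategoryTheory.Limits AlgebraicGeometry Opposite TopologicalSpace
open EGA2

namespace Groth.Agent.S8272


open HomogeneousLocalization in
lemma awayLift_inj {A : Type u} [CommRing A] (f g x : A) (hx : x = f * g)
    (hg : g ∈ nonZeroDivisors A)
    (hu : IsUnit (algebraMap A (Localization.Away x) f)) :
    Function.Injective (Localization.awayLift (algebraMap A (Localization.Away x)) f hu) := by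
  rw [IsLocalization.injective_iff_map_algebraMap_eq (Submonoid.powers f)]
  intro a b
  rw [IsLocalization.Away.lift_eq, IsLocalization.Away.lift_eq,
    IsLocalization.eq_iff_exists (Submonoid.powers f) (Localization.Away f),
    IsLocalization.eq_iff_exists (Submonoid.powers x) (Localization.Away x)]
  constructor
  · rintro ⟨⟨_, n, rfl⟩, hc⟩
    refine ⟨⟨x ^ n, n, rfl⟩, ?_⟩
    simp only at hc ⊢
    rw [hx, mul_pow]
    calc f ^ n * g ^ n * a = g ^ n * (f ^ n * a) := by ring
      _ = g ^ n * (f ^ n * b) := by rw [hc]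
      _ = f ^ n * g ^ n * b := by ring
  · rintro ⟨⟨_, n, rfl⟩, hc⟩
    refine ⟨⟨f ^ n, n, rfl⟩, ?_⟩
    simp only at hc ⊢
    rw [hx, mul_pow] at hc
    have hgn : g ^ n ∈ nonZeroDivisors A := pow_mem hg n
    have h2 : g ^ n * (f ^ n * a) = g ^ n * (f ^ n * b) := by
      calc g ^ n * (f ^ n * a) = f ^ n * g ^ n * a := by ring
        _ = f ^ n * g ^ n * b := hc
        _ = g ^ n * (f ^ n * b) := by ring
    exact (mul_cancel_left_mem_nonZeroDivisors hgn).mp h2

section
variable {R A : Type u} [CommRing R] [CommRing A] [Algebra R A] (𝒜 : ℕ → Submodule R A)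
  [GradedAlgebra 𝒜]

open HomogeneousLocalization in
lemma awayMap_inj {m' : ℕ} {f g : A} (g_deg : g ∈ 𝒜 m')
    (hg : g ∈ nonZeroDivisors A) :
    Function.Injective (awayMap 𝒜 g_deg (rfl : f * g = f * g)) := by
  intro a b hab
  apply HomogeneousLocalization.val_injective
  have h := congrArg HomogeneousLocalization.val hab
  rw [val_awayMap, val_awayMap] at h
  exact awayLift_inj f g (f * g) rfl hg _ h

open HomogeneousLocalization in
lemma isPullback_away {m m' : ℕ} {f g : A} (f_deg : f ∈ 𝒜 m) (hm : 0 < m) (g_deg : g ∈ 𝒜 m')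
    (hm' : 0 < m') :
    IsPullback (Spec.map (CommRingCat.ofHom (awayMap 𝒜 g_deg (rfl : f * g = f * g))))
      (Spec.map (CommRingCat.ofHom
        (awayMap 𝒜 f_deg ((rfl : f * g = f * g).trans (mul_comm _ _)))))
      (Proj.awayι 𝒜 f f_deg hm) (Proj.awayι 𝒜 g g_deg hm') := by
  refine IsPullback.of_iso (IsPullback.of_hasPullback (Proj.awayι 𝒜 f f_deg hm)
      (Proj.awayι 𝒜 g g_deg hm'))
    (Proj.pullbackAwayιIso 𝒜 f_deg hm g_deg hm' rfl) (Iso.refl _) (Iso.refl _) (Iso.refl _)
    ?_ ?_ ?_ ?_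
  · rw [Iso.refl_hom, Category.comp_id, Proj.pullbackAwayιIso_hom_SpecMap_awayMap_left]
  · rw [Iso.refl_hom, Category.comp_id, Proj.pullbackAwayιIso_hom_SpecMap_awayMap_right]
  · simp
  · simp

end

lemma specMap_app_top_injective {A' B : CommRingCat.{u}} (φ : A' ⟶ B)
    (hφ : Function.Injective φ.hom) :
    Function.Injective ((Spec.map φ).app ⊤).hom := by
  intro x y hxy
  have hnat := Scheme.ΓSpecIso_naturality φ
  have h1 : ∀ z, φ.hom ((Scheme.ΓSpecIso A').hom.hom z) =
      (Scheme.ΓSpecIso B).hom.hom (((Spec.map φ).app ⊤).hom z) := by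
    intro z
    have := congrArg (fun k => k.hom z) hnat
    simp only [CommRingCat.hom_comp, RingHom.comp_apply] at this
    exact this.symm
  have h2 : φ.hom ((Scheme.ΓSpecIso A').hom.hom x) = φ.hom ((Scheme.ΓSpecIso A').hom.hom y) := by
    rw [h1, h1, hxy]
  have h3 := hφ h2
  exact (ConcreteCategory.bijective_of_isIso (Scheme.ΓSpecIso A').hom).1 h3

/-- Let T be a positively graded ring, Z = Proj T and g ∈ T_d (d > 0) a homogeneous element that is not
a zero divisor in T. Then Z is the smallest closed subscheme of Z containing the open D_+(g);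
equivalently the kernel (ideal sheaf) of the open immersion D_+(g) → Z vanishes. -/
theorem result {R A : Type u} [CommRing R] [CommRing A] [Algebra R A]
    (𝒜 : ℕ → Submodule R A) [GradedAlgebra 𝒜] {d : ℕ} (hd : 0 < d) (g : A) (hg : g ∈ 𝒜 d)
    (hnz : g ∈ nonZeroDivisors A) :
    (Proj.basicOpen 𝒜 g).ι.ker = ⊥ := by
  classical
  have e1 : (Proj.basicOpen 𝒜 g).ι.ker = (Proj.awayι 𝒜 g hg hd).ker := by
    rw [← Proj.basicOpenIsoSpec_inv_ι 𝒜 g hg hd]
    exact (Scheme.Hom.ker_comp_of_isIso _ _).symm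
  rw [e1, eq_bot_iff]
  refine Scheme.IdealSheafData.le_of_iSup_eq_top
    (fun i : (Σ d : ℕ+, 𝒜 d) =>
      (⟨Proj.awayι 𝒜 (i.2 : A) i.2.2 i.1.2 ''ᵁ
          ((⟨⊤, isAffineOpen_top _⟩ : (Spec (.of (HomogeneousLocalization.Away 𝒜 (i.2 : A)))).affineOpens) :
            (Spec (.of (HomogeneousLocalization.Away 𝒜 (i.2 : A)))).Opens),
        (isAffineOpen_top _).image_of_isOpenImmersion _⟩ : (Proj 𝒜).affineOpens)) ?_ ?_
  · rw [eq_top_iff]
    intro x _
    rw [TopologicalSpace.Opens.mem_iSup]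
    refine ⟨(Proj.affineOpenCover 𝒜).idx x, ?_⟩
    show x ∈ (Proj.awayι 𝒜 _ _ _) ''ᵁ ⊤
    rw [Scheme.Hom.image_top_eq_opensRange]
    exact (Proj.affineOpenCover 𝒜).covers x
  · intro i
    have hpb := isPullback_away 𝒜 i.2.2 i.1.2 hg hd
    have hk := Scheme.ker_ideal_of_isPullback_of_isOpenImmersion
      (Proj.awayι 𝒜 g hg hd) _ _ (Proj.awayι 𝒜 (i.2 : A) i.2.2 i.1.2) hpb
      ⟨⊤, isAffineOpen_top _⟩
    have hinj := specMap_app_top_injective (CommRingCat.ofHom
        (HomogeneousLocalization.awayMap 𝒜 hg (rfl : (i.2 : A) * g = (i.2 : A) * g)))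
      (awayMap_inj 𝒜 (f := (i.2 : A)) hg hnz)
    have hK : (Scheme.Hom.ker (Spec.map (CommRingCat.ofHom
        (HomogeneousLocalization.awayMap 𝒜 hg (rfl : (i.2 : A) * g = (i.2 : A) * g))))).ideal
          ⟨⊤, isAffineOpen_top _⟩ = ⊥ := by
      rw [eq_bot_iff]
      refine (Scheme.Hom.ideal_ker_le _ _).trans ?_
      rw [le_bot_iff, RingHom.ker_eq_bot_iff_eq_zero]
      intro x hx
      exact hinj (hx.trans (map_zero _).symm)
    rw [hK] at hk
    have hsurj : Function.Surjective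
        ((Scheme.Hom.appIso (Proj.awayι 𝒜 (i.2 : A) i.2.2 i.1.2) ⊤).inv).hom :=
      (ConcreteCategory.bijective_of_isIso
        (Scheme.Hom.appIso (Proj.awayι 𝒜 (i.2 : A) i.2.2 i.1.2) ⊤).inv).2
    have hJ := Ideal.map_comap_of_surjective _ hsurj
      ((Scheme.Hom.ker (Proj.awayι 𝒜 g hg hd)).ideal
        ⟨Proj.awayι 𝒜 (i.2 : A) i.2.2 i.1.2 ''ᵁ
          ((⟨⊤, isAffineOpen_top _⟩ : (Spec (.of (HomogeneousLocalization.Away 𝒜 (i.2 : A)))).affineOpens) :
            (Spec (.of (HomogeneousLocalization.Away 𝒜 (i.2 : A)))).Opens),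
        (isAffineOpen_top _).image_of_isOpenImmersion _⟩)
    rw [← hk, Ideal.map_bot] at hJ
    show _ ≤ (⊥ : Ideal _)
    rw [le_bot_iff]
    exact hJ.symm

end Groth.Agent.S8272
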