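import Groth.Statements.S8277
import Mathlib
import Groth.Agent.Lib.helper4.GrNat


set_option autoImplicit false
universe u
open EGA2

namespace Groth.Agent.S8277

/-- For a positively graded ring S, the graded ring S♮ with S♮_n = S_{≥ n} = ⊕_{m ≥ n} S_m (presented
here as a graded ring S' with an injective algebra homomorphism φ : S' → S[X] carrying S'_n onto
S_{≥ n}·X^n for every n, so that S'_0 is identified with S), and n₀ ≥ 0: S♮_{n+1} = S♮_1 S♮_n for n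
≥ n₀ if and only if S_{n+1} = S_1 S_n for n ≥ n₀. -/
theorem result {R A B : Type u} [CommRing R] [CommRing A] [Algebra R A]
    (𝒜 : ℕ → Submodule R A) [GradedAlgebra 𝒜] [CommRing B] [Algebra R B] (ℬ : ℕ → Submodule R B) [GradedAlgebra ℬ]
    (φ : B →ₐ[R] Polynomial A) (hφ : Function.Injective φ)
    (hdeg : ∀ n : ℕ, Submodule.map φ.toLinearMap (ℬ n) =
      Submodule.map ((Polynomial.monomial n : A →ₗ[A] Polynomial A).restrictScalars R) (⨆ (m : ℕ) (_ : n ≤ m), 𝒜 m)) (n₀ : ℕ) :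
    (∀ n : ℕ, n₀ ≤ n → ℬ (n + 1) = ℬ 1 * ℬ n) ↔ (∀ n : ℕ, n₀ ≤ n → 𝒜 (n + 1) = 𝒜 1 * 𝒜 n) := by
  have hdeg' : ∀ n, Submodule.map φ.toLinearMap (ℬ n) =
      Submodule.map (Groth.Agent.Lib.helper4.GrNat.mon R n)
        (Groth.Agent.Lib.helper4.GrNat.G 𝒜 n) := hdeg
  rw [← Groth.Agent.Lib.helper4.GrNat.A_iff_G_succ 𝒜 n₀]
  constructor
  · intro h n hn
    exact (Groth.Agent.Lib.helper4.GrNat.B_iff_G_mul 𝒜 ℬ φ hφ hdeg' (n+1) 1 n
      (Nat.add_comm n 1)).mp (h n hn)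
  · intro h n hn
    exact (Groth.Agent.Lib.helper4.GrNat.B_iff_G_mul 𝒜 ℬ φ hφ hdeg' (n+1) 1 n
      (Nat.add_comm n 1)).mpr (h n hn)

end Groth.Agent.S8277
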