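import Groth.Statements.S8346
import Mathlib
import Groth.Agent.S8344


set_option autoImplicit false
universe u
open ConstrTop

namespace Groth.Agent.S8346

open TopologicalSpace in
/-- Let X be a topological space admitting a basis of open subsets which are retrocompact in X. Then
every locally constructible subset T of X is retrocompact in X. -/
theorem result {X : Type u} [TopologicalSpace X]
    {B : Set (Set X)} (hB : IsTopologicalBasis B) (hBr : ∀ U ∈ B, IsRetrocompact U) {T : Set X}
    (hT : Topology.IsLocallyConstructible T) : IsRetrocompact T := by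
  have key : ∀ x, ∃ V : Set X, IsOpen V ∧ x ∈ V ∧ Topology.IsConstructible (V ∩ T) := by
    intro x
    obtain ⟨U, hxU, hU, hUs⟩ := hT x
    obtain ⟨V, hVB, hxV, hVU⟩ := hB.mem_nhds_iff.mp hxU
    have hVo := hB.isOpen hVB
    have h1 : Topology.IsConstructible ((Subtype.val : V → X) ⁻¹' T) :=
      (hUs.preimage_of_isOpenEmbedding (Topology.IsOpenEmbedding.id.restrict hVU hVo) :)
    have h2 := h1.image_of_isOpenEmbedding hVo.isOpenEmbedding_subtypeVal
      (by simpa using hBr V hVB)
    rw [Subtype.image_preimage_coe] at h2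
    exact ⟨V, hVo, hxV, h2⟩
  choose V hVo hxV hVT using key
  intro W hWc hWo
  obtain ⟨σ, hσ, hWσ⟩ := hWc.elim_nhds_subcover V (fun x _ => (hVo x).mem_nhds (hxV x))
  have : T ∩ W = ⋃ x ∈ σ, (V x ∩ T) ∩ W := by
    ext y
    simp only [Set.mem_inter_iff, Set.mem_iUnion, exists_prop]
    constructor
    · rintro ⟨hyT, hyW⟩
      obtain ⟨x, hx, hyx⟩ := Set.mem_iUnion₂.mp (hWσ hyW)
      exact ⟨x, hx, ⟨hyx, hyT⟩, hyW⟩
    · rintro ⟨x, _, ⟨_, hyT⟩, hyW⟩
      exact ⟨hyT, hyW⟩
  rw [this]
  exact σ.finite_toSet.isCompact_biUnion fun x _ => (Groth.Agent.S8344.result (hVT x)) hWc hWo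

end Groth.Agent.S8346
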