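import Groth.Statements.S8347
import Mathlib
import Groth.Agent.Lib.helper4.SpSeqBasic


set_option autoImplicit false
universe v u
open CategoryTheory CategoryTheory.Limits
open SpSeq

namespace Groth.Agent.S8347

open Groth.Agent.Lib.helper4

/-- Let E be a spectral sequence in an abelian category with abutment data (H^m), and suppose that for
some page r and every total degree m there is an integer q(m) such that E_r^{m-q,q} = 0 for every q
other than q(m). Let n be a total degree such that the filtration of H^n is discrete (some step is
zero) and exhaustive (H^n is the supremum of the steps), and such that the position (n - q(n), q(n))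
is stationary from page r on. Then H^n is isomorphic to E_r^{n-q(n), q(n)}. (The published statement
asserts this without any condition on the differentials at the surviving positions; that version
fails when a differential d_r links the surviving terms of two consecutive total degrees, for
instance a spectral sequence whose only nonzero page-2 terms are E_2^{0,1} and E_2^{2,0} with d_2 an
isomorphism between them and zero abutment. The stationarity assumed here is automatic when q(m)
does not depend on m and r ≥ 2.) -/
theorem result {C : Type u} [Category.{v} C] [Abelian C] {r₀ : ℤ}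
    (E : CohomologicalSpectralSequence C r₀) {H : ℤ → C} (a : SpSeq.Abutment E H)
    (r : ℤ) (hr : r₀ ≤ r) (q : ℤ → ℤ)
    (hdeg : ∀ m q' : ℤ, q' ≠ q m → IsZero ((E.page r hr).X (m - q', q')))
    (n : ℤ) (hdisc : (a.filObj n).IsDiscrete) (hexh : a.IsExhaustive n)
    (hst : SpSeq.StationaryAt E (n - q n, q n) r) :
    Nonempty (H n ≅ (E.page r hr).X (n - q n, q n)) := by
  -- transport lemmas along equalities of total degrees
  have tz : ∀ (m : ℤ) (_ : m = n) (p : ℤ), IsZero (SpSeq.grPiece (a.fil m) (a.anti m) p) →
      IsZero (SpSeq.grPiece (a.fil n) (a.anti n) p) := by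
    intro m hm p h; subst hm; exact h
  have ti : ∀ (m : ℤ) (_ : m = n) (p : ℤ), Nonempty (SpSeq.grPiece (a.fil m) (a.anti m) p ≅
      SpSeq.grPiece (a.fil n) (a.anti n) p) := by
    intro m hm p; subst hm; exact ⟨Iso.refl _⟩
  have hzero : ∀ p : ℤ, p ≠ n - q n → IsZero (SpSeq.grPiece (a.fil n) (a.anti n) p) := by
    intro p hp
    have h1 : IsZero ((E.page r hr).X (p, n - p)) := by
      have := hdeg n (n - p) (by omega)
      have e : n - (n - p) = p := by ring
      rwa [e] at this
    have h2 := h4_isZero_stationary_of_isZero E (p, n - p) r hr h1 (a.rk (p, n - p))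
      (a.stat (p, n - p))
    have h3 := h2.of_iso (a.β (p, n - p)).symm
    exact tz (p + (n - p)) (by ring) p h3
  obtain ⟨e1⟩ := h4_nonempty_iso_grPiece (a.fil n) (a.anti n) hdisc hexh (n - q n) hzero
  obtain ⟨e2⟩ := ti ((n - q n) + q n) (by ring) (n - q n)
  have e3 := a.β (n - q n, q n)
  have e4 : Nonempty ((E.page (a.rk (n - q n, q n)) (a.stat (n - q n, q n)).1).X (n - q n, q n) ≅
      (E.page r hr).X (n - q n, q n)) := by
    rcases le_total r (a.rk (n - q n, q n)) with h | h
    · exact h4_nonempty_iso_of_stationary E _ r hst _ h
    · obtain ⟨e⟩ := h4_nonempty_iso_of_stationary E _ _ (a.stat (n - q n, q n)) r h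
      exact ⟨e.symm⟩
  obtain ⟨e4⟩ := e4
  exact ⟨e1 ≪≫ e2.symm ≪≫ e3.symm ≪≫ e4⟩

end Groth.Agent.S8347
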