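import Groth.Statements.S8352
import Mathlib
import Groth.Agent.Lib.helper2.ML


set_option autoImplicit false
universe u
open CategoryTheory CategoryTheory.Limits Opposite
open HomAlg3

namespace Groth.Agent.S8352

open H2ML

section aux

variable (F : ℕᵒᵖ ⥤ AddCommGrpCat.{u})

lemma r_refl {a : ℕ} (h : a ≤ a) (z : F.obj (op a)) : r F h z = z := by
  have e : F.map (homOfLE h).op = 𝟙 _ := by
    have : (homOfLE h).op = 𝟙 (op a) := Subsingleton.elim _ _
    rw [this, F.map_id]
  exact congrArg (fun m => m.hom z) e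

/-- stable image -/
def E (p : ℕ) : AddSubgroup (F.obj (op p)) := ⨅ (k : ℕ) (h : p ≤ k), Im F h

lemma mem_E {p : ℕ} {x : F.obj (op p)} : x ∈ E F p ↔ ∀ k (h : p ≤ k), x ∈ Im F h := by
  simp only [E, AddSubgroup.mem_iInf]

lemma E_surj (hF : ∀ p, Stab F p) (p : ℕ) (x : F.obj (op p)) (hx : x ∈ E F p) :
    ∃ y, y ∈ E F (p+1) ∧ r F (Nat.le_succ p) y = x := by
  obtain ⟨k₁, h₁, hk₁⟩ := hF (p+1)
  have hpk : p ≤ k₁ := (Nat.le_succ p).trans h₁
  obtain ⟨z, hz⟩ := (mem_E F).mp hx k₁ hpk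
  refine ⟨r F h₁ z, ?_, ?_⟩
  · rw [mem_E]
    intro k hk
    have h1 : r F h₁ z ∈ Im F (h₁.trans (le_max_right k k₁)) := by
      rw [hk₁ _ (le_max_right _ _)]; exact ⟨z, rfl⟩
    exact Im_anti F hk (le_max_left k k₁) h1
  · rw [r_r]; exact hz

lemma range_pi (hF : ∀ p, Stab F p) (p : ℕ) :
    ((limit.π F (op p)).hom.range : AddSubgroup (F.obj (op p))) = E F p := by
  apply le_antisymm
  · rintro x ⟨c, rfl⟩
    rw [mem_E]
    intro k h
    refine ⟨(limit.π F (op k)).hom c, ?_⟩
    exact congrArg (fun m => m.hom c) (limit.w F (homOfLE h).op)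
  · intro x hx
    let u : ∀ j : ℕ, {y : F.obj (op (p + j)) // y ∈ E F (p + j)} := fun j =>
      Nat.rec (motive := fun j => {y : F.obj (op (p + j)) // y ∈ E F (p + j)}) ⟨x, hx⟩
        (fun j uj => ⟨Classical.choose (E_surj F hF (p + j) uj.1 uj.2),
          (Classical.choose_spec (E_surj F hF (p + j) uj.1 uj.2)).1⟩) j
    have hu : ∀ j, r F (Nat.le_succ (p + j)) (u (j+1)).1 = (u j).1 := fun j =>
      (Classical.choose_spec (E_surj F hF (p + j) (u j).1 (u j).2)).2
    have hu' : ∀ m n (h : m ≤ n), r F (Nat.add_le_add_left h p) (u n).1 = (u m).1 := by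
      intro m n h
      induction n, h using Nat.le_induction with
      | base => exact r_refl F _ _
      | succ n h ih =>
        rw [← ih, ← hu n, r_r]
    let s : ∀ j : ℕᵒᵖ, F.obj j := fun j => r F (Nat.le_add_left j.unop p) (u j.unop).1
    have hs : ∀ ⦃i j : ℕᵒᵖ⦄ (f : i ⟶ j), (F.map f).hom (s i) = s j := by
      intro i j f
      have hji : j.unop ≤ i.unop := leOfHom f.unop
      have ef : f = (homOfLE hji).op := Subsingleton.elim _ _
      subst ef
      show r F hji (r F (Nat.le_add_left i.unop p) (u i.unop).1) =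
        r F (Nat.le_add_left j.unop p) (u j.unop).1
      rw [r_r, ← hu' _ _ hji, r_r]
    let sec : (F ⋙ forget AddCommGrpCat).sections := ⟨s, fun {i j} f => hs f⟩
    let eqv := Types.isLimitEquivSections
      (isLimitOfPreserves (forget AddCommGrpCat) (limit.isLimit F))
    refine ⟨eqv.symm sec, ?_⟩
    have h2 : (limit.π F (op p)).hom (eqv.symm sec) = s (op p) :=
      Types.isLimitEquivSections_symm_apply
        (isLimitOfPreserves (forget AddCommGrpCat) (limit.isLimit F)) sec (op p)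
    refine h2.trans ?_
    show r F (Nat.le_add_left p p) (u p).1 = x
    exact hu' 0 p (Nat.zero_le p)

end aux

/-- Category of abelian groups, system indexed by the natural numbers: Let (A_k) be an inverse system of
abelian groups satisfying the Mittag-Leffler condition, A = lim A_k with projections π_p : A ⟶ A_p.
Filter A and each A_k by the kernels of the maps to A_{p-1} (with A_{-1} = 0); the graded piece
gr^p(A) is identified with Im(π_p) ∩ Ker(A_p ⟶ A_{p-1}) and gr^p(A_k), k ≥ p, with Im(A_k ⟶ A_p) ∩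
Ker(A_p ⟶ A_{p-1}), a decreasing family of subgroups of A_p. The statement gr^p(A) ≅ lim_k gr^p(A_k)
then reads: Im(π_0) = ⋂_k Im(A_k ⟶ A_0), and for every p, Im(π_{p+1}) ∩ Ker(A_{p+1} ⟶ A_p) = ⋂_{k ≥
p+1} (Im(A_k ⟶ A_{p+1}) ∩ Ker(A_{p+1} ⟶ A_p)). -/
theorem result (F : ℕᵒᵖ ⥤ AddCommGrpCat.{u})
    (hF : (F ⋙ forget AddCommGrpCat).IsMittagLeffler) :
    (limit.π F (op 0)).hom.range = ⨅ k : ℕ, (F.map (homOfLE (Nat.zero_le k)).op).hom.range ∧
      ∀ p : ℕ, (limit.π F (op (p + 1))).hom.range ⊓ (F.map (homOfLE (Nat.le_succ p)).op).hom.ker =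
        ⨅ (k : ℕ) (hk : p + 1 ≤ k),
          (F.map (homOfLE hk).op).hom.range ⊓ (F.map (homOfLE (Nat.le_succ p)).op).hom.ker := by
  have hS : ∀ p, Stab F p := (ml_iff F).mp hF
  refine ⟨?_, fun p => ?_⟩
  · rw [range_pi F hS 0]
    ext x
    rw [mem_E, AddSubgroup.mem_iInf]
    exact ⟨fun h k => h k (Nat.zero_le k), fun h k hk => h k⟩
  · rw [range_pi F hS (p + 1)]
    ext x
    simp only [AddSubgroup.mem_inf, AddSubgroup.mem_iInf]
    rw [mem_E]
    constructor
    · rintro ⟨h1, h2⟩ k hk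
      exact ⟨h1 k hk, h2⟩
    · intro h
      exact ⟨fun k hk => (h k hk).1, (h (p + 1) le_rfl).2⟩

end Groth.Agent.S8352
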