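import Groth.Statements.S8364
import Mathlib


set_option autoImplicit false
universe u
open SGA3

namespace Groth.Agent.S8364

theorem bij_of_congr (R A : Type u) [CommRing R] [CommRing A] [Algebra R A]
    (J : Ideal R) (hJ : J * J = ⊥) (θ : A →ₐ[R] A)
    (hθ : ∀ a, θ a - a ∈ Ideal.map (algebraMap R A) J) : Function.Bijective θ := by
  obtain ⟨I, hI⟩ : ∃ I : Ideal A, I = Ideal.map (algebraMap R A) J := ⟨_, rfl⟩
  rw [← hI] at hθ
  have hII : ∀ a ∈ I, ∀ b ∈ I, a * b = 0 := by
    intro a ha b hb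
    have : a * b ∈ I * I := Ideal.mul_mem_mul ha hb
    rw [hI, ← Ideal.map_mul, hJ, Ideal.map_bot] at this
    exact this
  have hfix : ∀ a ∈ I, θ a = a := by
    intro a ha
    rw [hI, Ideal.map] at ha
    induction ha using Submodule.span_induction with
    | mem x hx =>
      obtain ⟨j, _, rfl⟩ := hx
      exact θ.commutes j
    | zero => exact map_zero θ
    | add x y _ _ hx hy => rw [map_add, hx, hy]
    | smul c x hx' hx =>
      have hxI : x ∈ I := by rw [hI, Ideal.map]; exact hx'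
      rw [smul_eq_mul, map_mul, hx]
      have h0 : (θ c - c) * x = 0 := hII _ (hθ c) _ hxI
      have : θ c * x = c * x + (θ c - c) * x := by ring
      rw [this, h0, add_zero]
  constructor
  · intro a b hab
    have h0 : θ (a - b) = 0 := by rw [map_sub, hab, sub_self]
    have h1 : a - b ∈ I := by
      have := hθ (a - b)
      rw [h0, zero_sub] at this
      exact neg_mem_iff.mp this
    have h2 := hfix _ h1
    rw [h0] at h2
    exact sub_eq_zero.mp h2.symm
  · intro a
    refine ⟨a - (θ a - a), ?_⟩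
    rw [map_sub, hfix _ (hθ a)]
    ring

theorem main (R A : Type u) [CommRing R] [CommRing A] [Algebra R A]
    [Algebra.Smooth R A] (J : Ideal R) (hJ : J * J = ⊥) (I : Ideal A)
    (hI : I = Ideal.map (algebraMap R A) J) (φ₀ : (A ⧸ I) ≃ₐ[R] (A ⧸ I)) :
    ∃ φ : A ≃ₐ[R] A, (Ideal.Quotient.mkₐ R I).comp φ.toAlgHom =
      φ₀.toAlgHom.comp (Ideal.Quotient.mkₐ R I) := by
  have hnil : IsNilpotent I := by
    refine ⟨2, ?_⟩
    rw [pow_two, hI, ← Ideal.map_mul, hJ, Ideal.map_bot]
    rfl
  obtain ⟨ψ, hψ⟩ : ∃ ψ : A →ₐ[R] A, (Ideal.Quotient.mkₐ R I).comp ψ =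
      φ₀.toAlgHom.comp (Ideal.Quotient.mkₐ R I) :=
    ⟨_, Algebra.FormallySmooth.comp_lift I hnil _⟩
  obtain ⟨ψ', hψ'⟩ : ∃ ψ' : A →ₐ[R] A, (Ideal.Quotient.mkₐ R I).comp ψ' =
      φ₀.symm.toAlgHom.comp (Ideal.Quotient.mkₐ R I) :=
    ⟨_, Algebra.FormallySmooth.comp_lift I hnil _⟩
  have e1 : ∀ a, Ideal.Quotient.mk I (ψ a) = φ₀ (Ideal.Quotient.mk I a) :=
    fun a => AlgHom.congr_fun hψ a
  have e2 : ∀ a, Ideal.Quotient.mk I (ψ' a) = φ₀.symm (Ideal.Quotient.mk I a) :=
    fun a => AlgHom.congr_fun hψ' a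
  have h1 : Function.Bijective (ψ.comp ψ') := by
    apply bij_of_congr R A J hJ
    intro a
    rw [← hI, ← Ideal.Quotient.eq]
    show Ideal.Quotient.mk I (ψ (ψ' a)) = _
    rw [e1, e2, AlgEquiv.apply_symm_apply]
  have h2 : Function.Bijective (ψ'.comp ψ) := by
    apply bij_of_congr R A J hJ
    intro a
    rw [← hI, ← Ideal.Quotient.eq]
    show Ideal.Quotient.mk I (ψ' (ψ a)) = _
    rw [e2, e1, AlgEquiv.symm_apply_apply]
  have hbij : Function.Bijective ψ := by
    constructor
    · intro a b hab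
      apply h2.1
      show ψ' (ψ a) = ψ' (ψ b)
      rw [hab]
    · intro a
      obtain ⟨b, hb⟩ := h1.2 a
      exact ⟨ψ' b, hb⟩
  refine ⟨AlgEquiv.ofBijective ψ hbij, ?_⟩
  exact hψ

/-- For a commutative ring R, an ideal J of R of square zero, a smooth R-algebra A and the extended
ideal I = J·A, every R-algebra automorphism of A/I lifts to an R-algebra automorphism of A. (The
published statement concerns the automorphism functor of a smooth affine S-scheme E and affine test
schemes Y; this row is the case Y = S = Spec R, E = Spec A, which gives the general one after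
replacing R by the ring of Y.) -/
theorem result (R A : Type u) [CommRing R] [CommRing A] [Algebra R A]
    [Algebra.Smooth R A] (J : Ideal R) (hJ : J * J = ⊥)
    (φ₀ : (A ⧸ Ideal.map (algebraMap R A) J) ≃ₐ[R] (A ⧸ Ideal.map (algebraMap R A) J)) :
    ∃ φ : A ≃ₐ[R] A,
      (Ideal.Quotient.mkₐ R (Ideal.map (algebraMap R A) J)).comp φ.toAlgHom =
        φ₀.toAlgHom.comp (Ideal.Quotient.mkₐ R (Ideal.map (algebraMap R A) J)) := by
  exact main R A J hJ _ rfl φ₀

end Groth.Agent.S8364
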