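import Groth.Statements.S8369
import Mathlib


set_option autoImplicit false
universe u v
open SGA3

namespace Groth.Agent.S8369

theorem inf_smul_top_le (A : Type u) [CommRing A] (J : Ideal A) (M : Type v) [AddCommGroup M]
    [Module A M] (N : Submodule A M) [Module.Flat A (M ⧸ N)] (x : M) (hxN : x ∈ N)
    (hxJ : x ∈ J • (⊤ : Submodule A M)) : x ∈ J • N := by
  have hinj := LinearMap.lTensor_injective_of_exact_of_flat N.mkQ N.mkQ_surjective N.subtype
    N.subtype_injective (LinearMap.exact_subtype_mkQ N) (A ⧸ J)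
  have h1 : (N.subtype.lTensor (A ⧸ J)) ((1 : A ⧸ J) ⊗ₜ[A] (⟨x, hxN⟩ : N)) = 0 := by
    rw [LinearMap.lTensor_tmul]
    apply (TensorProduct.quotTensorEquivQuotSMul M J).injective
    rw [map_zero]
    refine (TensorProduct.quotTensorEquivQuotSMul_mk_one_tmul J _).trans ?_
    exact (Submodule.Quotient.mk_eq_zero _).mpr hxJ
  have h2 : ((1 : A ⧸ J) ⊗ₜ[A] (⟨x, hxN⟩ : N)) = 0 := hinj (h1.trans (map_zero _).symm)
  have h3 : (⟨x, hxN⟩ : N) ∈ J • (⊤ : Submodule A N) := by
    have e := TensorProduct.quotTensorEquivQuotSMul_mk_one_tmul (M := N) J ⟨x, hxN⟩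
    rw [h2, map_zero] at e
    exact (Submodule.Quotient.mk_eq_zero _).mp e.symm
  have h4 : x ∈ (J • (⊤ : Submodule A N)).map N.subtype := ⟨_, h3, rfl⟩
  rwa [Submodule.map_smul'', Submodule.map_subtype_top] at h4

/-- Let A be a commutative ring, J a nilpotent ideal, N ⊆ M A-modules with M/N flat over A. If elements
of N have images generating the image of N in M/JM, then they generate N. (The published statement
takes finitely many elements; this row allows an arbitrary set, which the same argument permits.) -/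
theorem result (A : Type u) [CommRing A] (J : Ideal A) (hJ : IsNilpotent J)
    (M : Type v) [AddCommGroup M] [Module A M] (N : Submodule A M) [Module.Flat A (M ⧸ N)] (s : Set M)
    (hs : s ⊆ N)
    (hgen : (Submodule.span A s).map (J • (⊤ : Submodule A M)).mkQ = N.map (J • (⊤ : Submodule A M)).mkQ) :
    Submodule.span A s = N := by
  obtain ⟨S, hS⟩ : ∃ S : Submodule A M, S = Submodule.span A s := ⟨_, rfl⟩
  rw [← hS] at hgen ⊢
  have hSN : S ≤ N := by rw [hS]; exact Submodule.span_le.mpr hs
  -- step 1: N ≤ S ⊔ J • N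
  have h1 : N ≤ S ⊔ J • N := by
    intro n hn
    have hmem : (J • (⊤ : Submodule A M)).mkQ n ∈ N.map (J • (⊤ : Submodule A M)).mkQ :=
      ⟨n, hn, rfl⟩
    rw [← hgen] at hmem
    obtain ⟨y, hy, hyn⟩ := hmem
    have hz : n - y ∈ J • (⊤ : Submodule A M) := by
      rw [← Submodule.Quotient.mk_eq_zero, Submodule.Quotient.mk_sub]
      exact sub_eq_zero.mpr hyn.symm
    have hzN : n - y ∈ N := N.sub_mem hn (hSN hy)
    have := inf_smul_top_le A J M N (n - y) hzN hz
    have e : n = y + (n - y) := by abel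
    rw [e]
    exact Submodule.add_mem_sup hy this
  -- step 2: N ≤ S ⊔ J^k • N
  have h2 : ∀ k : ℕ, N ≤ S ⊔ J ^ k • N := by
    intro k
    induction k with
    | zero => 
      rw [pow_zero, Ideal.one_eq_top, Submodule.top_smul]
      exact le_sup_right
    | succ k ih =>
      calc N ≤ S ⊔ J • N := h1
        _ ≤ S ⊔ J • (S ⊔ J ^ k • N) := sup_le_sup_left (Submodule.smul_mono le_rfl ih) _
        _ = S ⊔ (J • S ⊔ J • J ^ k • N) := by rw [Submodule.smul_sup]
        _ ≤ S ⊔ J ^ (k + 1) • N := by
          rw [← Submodule.mul_smul, ← pow_succ']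
          exact sup_le le_sup_left (sup_le (Submodule.smul_le_right.trans le_sup_left) le_sup_right)
  obtain ⟨k, hk⟩ := hJ
  have h3 := h2 k
  rw [hk, Ideal.zero_eq_bot, Submodule.bot_smul, sup_bot_eq] at h3
  exact le_antisymm hSN h3

end Groth.Agent.S8369
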