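import Groth.Statements.S8604
import Mathlib
import Groth.Agent.Lib.helper4.PLin3


set_option autoImplicit false
universe u
open CAlg

namespace Groth.Agent.S8604

open Groth.Agent.Lib.helper4.PLin

/-- Over an algebraically closed field: let k be an algebraically closed field of characteristic p > 0,
V a finite-dimensional k-vector space and F : V -> V a p-linear endomorphism (additive with F(a·v) =
a^p·F(v)). Let V^F be the set of vectors fixed by F (an F_p-subspace), V_0 the k-span of V^F and V_n
the k-span of the vectors killed by some iterate of F (these already form an F-stable subspace on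
which F is nilpotent). Then V = V_0 ⊕ V_n, and V^F ⊗ k -> V_0 is bijective in the sense that any
finitely many F-fixed vectors linearly independent over Z/p (every vanishing integer combination has
all coefficients divisible by p) are linearly independent over k. (The published statement asserts
this decomposition, with V^F ⊗ k ≅ V_0, for every PERFECT field k; that is false when k is not
separably closed — for k = Z/3, V = k and F = multiplication by 2 there are no nonzero fixed vectors
although F is bijective — and the decomposition is stated here over an algebraically closed field,
the case in which it holds.) -/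
theorem result (p : ℕ) [Fact p.Prime] (k : Type u) [Field k]
    [IsAlgClosed k] [CharP k p] (V : Type u) [AddCommGroup V] [Module k V] [FiniteDimensional k V]
    (F : V →+ V) (hF : ∀ (a : k) (v : V), F (a • v) = a ^ p • F v) :
    IsCompl (Submodule.span k {v : V | F v = v})
        (Submodule.span k {v : V | ∃ m : ℕ, (⇑F)^[m] v = 0}) ∧
      ∀ (s : Finset V), (∀ v ∈ s, F v = v) →
        (∀ c : s → ℤ, (∑ v : s, c v • (v : V)) = 0 → ∀ v : s, (p : ℤ) ∣ c v) →
          LinearIndependent k (fun v : s => (v : V)) := by
  classical
  let Fs : V →ₛₗ[frobenius k p] V :=
    { toFun := F
      map_add' := F.map_add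
      map_smul' := fun a v => by
        show F (a • v) = (frobenius k p a) • F v
        rw [hF, frobenius_def] }
  have hFs : ∀ v, Fs v = F v := fun v => rfl
  constructor
  · have h1 : Submodule.span k {v : V | ∃ m : ℕ, (⇑F)^[m] v = 0} = NilSub Fs := by
      have : {v : V | ∃ m : ℕ, (⇑F)^[m] v = 0} = (NilSub Fs : Set V) := rfl
      rw [this, Submodule.span_eq]
    rw [h1]
    exact ⟨disjoint_fix_nil Fs, codisjoint_iff.mpr (codisjoint_aux _ V Fs rfl)⟩
  · intro s hfix hind
    exact fixed_li' Fs s hfix (fun c hc v hv => hind (fun w => c w)
      (by rw [← hc]; exact Finset.sum_coe_sort s (fun v => c v • v)) ⟨v, hv⟩)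

end Groth.Agent.S8604
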