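import Groth.Statements.S8625
import Mathlib


set_option autoImplicit false
universe u
open SGA4h

namespace Groth.Agent.S8625

section aux
variable {G : Type u} [Group G] (F : G →* G)

theorem lem1 (g : G) (h : F (F g * g⁻¹) = F g * g⁻¹) : F (g⁻¹ * F g) = g⁻¹ * F g := by
  rw [map_mul, map_inv] at h ⊢
  have h2 : F (F g) = F g * g⁻¹ * F g := by
    calc F (F g) = F (F g) * (F g)⁻¹ * F g := by group
      _ = F g * g⁻¹ * F g := by rw [h]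
  rw [h2]; group

theorem lem1' (g : G) (h : F (g⁻¹ * F g) = g⁻¹ * F g) : F (F g * g⁻¹) = F g * g⁻¹ := by
  rw [map_mul, map_inv] at h ⊢
  have h2 : F (F g) = F g * g⁻¹ * F g := by
    calc F (F g) = F g * ((F g)⁻¹ * F (F g)) := by group
      _ = F g * g⁻¹ * F g := by rw [h]; group
  rw [h2]; group

theorem K (g g' : G)
    (hx : F (F g * g⁻¹) = F g * g⁻¹) (hx' : F (F g' * g'⁻¹) = F g' * g'⁻¹)
    (hy : F (g⁻¹ * F g) = g⁻¹ * F g) (hy' : F (g'⁻¹ * F g') = g'⁻¹ * F g')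
    (hc : IsConj (⟨F g * g⁻¹, hx⟩ : ↥(F.eqLocus (MonoidHom.id G))) ⟨F g' * g'⁻¹, hx'⟩) :
    IsConj (⟨g⁻¹ * F g, hy⟩ : ↥(F.eqLocus (MonoidHom.id G))) ⟨g'⁻¹ * F g', hy'⟩ := by
  obtain ⟨z, hz⟩ := isConj_iff.mp hc
  have hzF : F z.1 = z.1 := z.2
  have hz' : z.1 * (F g * g⁻¹) * z.1⁻¹ = F g' * g'⁻¹ := congrArg Subtype.val hz
  obtain ⟨k, hk⟩ : ∃ k : G, k = z.1 * g := ⟨_, rfl⟩
  have hk1 : F k * k⁻¹ = F g' * g'⁻¹ := by
    rw [hk, map_mul, hzF, ← hz']; group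
  have e2 : F g' = F k * k⁻¹ * g' := by rw [hk1]; group
  have hw : F (k⁻¹ * g') = k⁻¹ * g' := by
    rw [map_mul, map_inv, e2]; group
  rw [isConj_iff]
  refine ⟨⟨(k⁻¹ * g')⁻¹, ?_⟩, ?_⟩
  · show F ((k⁻¹ * g')⁻¹) = (k⁻¹ * g')⁻¹
    rw [map_inv, hw]
  · apply Subtype.ext
    show (k⁻¹ * g')⁻¹ * (g⁻¹ * F g) * ((k⁻¹ * g')⁻¹)⁻¹ = g'⁻¹ * F g'
    have e1 : g⁻¹ * F g = k⁻¹ * F k := by rw [hk, map_mul, hzF]; group
    rw [e1, e2]; group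

theorem K' (g g' : G)
    (hx : F (F g * g⁻¹) = F g * g⁻¹) (hx' : F (F g' * g'⁻¹) = F g' * g'⁻¹)
    (hy : F (g⁻¹ * F g) = g⁻¹ * F g) (hy' : F (g'⁻¹ * F g') = g'⁻¹ * F g')
    (hc : IsConj (⟨g⁻¹ * F g, hy⟩ : ↥(F.eqLocus (MonoidHom.id G))) ⟨g'⁻¹ * F g', hy'⟩) :
    IsConj (⟨F g * g⁻¹, hx⟩ : ↥(F.eqLocus (MonoidHom.id G))) ⟨F g' * g'⁻¹, hx'⟩ := by
  obtain ⟨z, hz⟩ := isConj_iff.mp hc
  have hzF : F z.1 = z.1 := z.2
  have hz' : z.1 * (g⁻¹ * F g) * z.1⁻¹ = g'⁻¹ * F g' := congrArg Subtype.val hz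
  obtain ⟨k, hk⟩ : ∃ k : G, k = g * z.1⁻¹ := ⟨_, rfl⟩
  have hk1 : k⁻¹ * F k = g'⁻¹ * F g' := by
    rw [hk, map_mul, map_inv, hzF, ← hz']; group
  have e2 : F g' = g' * k⁻¹ * F k := by rw [mul_assoc, hk1]; group
  have hw : F (g' * k⁻¹) = g' * k⁻¹ := by
    rw [map_mul, map_inv, e2]; group
  rw [isConj_iff]
  refine ⟨⟨g' * k⁻¹, hw⟩, ?_⟩
  apply Subtype.ext
  show (g' * k⁻¹) * (F g * g⁻¹) * (g' * k⁻¹)⁻¹ = F g' * g'⁻¹
  have e1 : F g * g⁻¹ = F k * k⁻¹ := by rw [hk, map_mul, map_inv, hzF]; group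
  rw [e1, e2]; group

end aux

/-- Let G be a group with an endomorphism F, and assume the Lang map g ↦ F(g)g⁻¹ is surjective (for
instance the geometric points of a connected algebraic group over F_q with its Frobenius, where the
surjectivity is the classical result of Lang; the other Lang map g ↦ g⁻¹F(g) is then surjective too,
by g ↦ g⁻¹). Let G^F be the subgroup of fixed points of F. (i) If F(g)g⁻¹ is fixed by F then so is
g⁻¹F(g). (ii), (iii) There is a bijection of the set of conjugacy classes of G^F with itself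
sending, for every g with F(g)g⁻¹ ∈ G^F, the class of F(g)g⁻¹ to the class of g⁻¹F(g) (in particular
the latter class depends only on the former). -/
theorem result {G : Type u} [Group G] (F : G →* G)
    (hL : Function.Surjective fun g : G => F g * g⁻¹) :
    (∀ g : G, F (F g * g⁻¹) = F g * g⁻¹ → F (g⁻¹ * F g) = g⁻¹ * F g) ∧
    ∃ φ : ConjClasses ↥(F.eqLocus (MonoidHom.id G)) → ConjClasses ↥(F.eqLocus (MonoidHom.id G)),
      Function.Bijective φ ∧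
      ∀ (g : G) (h : F (F g * g⁻¹) = F g * g⁻¹) (h' : F (g⁻¹ * F g) = g⁻¹ * F g),
        φ (ConjClasses.mk (⟨F g * g⁻¹, h⟩ : ↥(F.eqLocus (MonoidHom.id G)))) =
          ConjClasses.mk (⟨g⁻¹ * F g, h'⟩ : ↥(F.eqLocus (MonoidHom.id G))) := by
  classical
  refine ⟨fun g h => lem1 F g h, ?_⟩
  have hL' : ∀ x : G, ∃ g, F g * g⁻¹ = x := hL
  choose gc hgc using hL'
  have hxm : ∀ x : ↥(F.eqLocus (MonoidHom.id G)),
      F (F (gc x.1) * (gc x.1)⁻¹) = F (gc x.1) * (gc x.1)⁻¹ := by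
    intro x; rw [hgc]; exact x.2
  have hym : ∀ x : ↥(F.eqLocus (MonoidHom.id G)),
      F ((gc x.1)⁻¹ * F (gc x.1)) = (gc x.1)⁻¹ * F (gc x.1) := fun x => lem1 F _ (hxm x)
  have hxe : ∀ x : ↥(F.eqLocus (MonoidHom.id G)),
      (⟨F (gc x.1) * (gc x.1)⁻¹, hxm x⟩ : ↥(F.eqLocus (MonoidHom.id G))) = x :=
    fun x => Subtype.ext (hgc x.1)
  let f : ↥(F.eqLocus (MonoidHom.id G)) → ConjClasses ↥(F.eqLocus (MonoidHom.id G)) :=
    fun x => ConjClasses.mk ⟨(gc x.1)⁻¹ * F (gc x.1), hym x⟩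
  have hf : ∀ x x' : ↥(F.eqLocus (MonoidHom.id G)), IsConj x x' → f x = f x' := by
    intro x x' hxx'
    apply ConjClasses.mk_eq_mk_iff_isConj.mpr
    apply K F (gc x.1) (gc x'.1) (hxm x) (hxm x') (hym x) (hym x')
    rw [hxe x, hxe x']; exact hxx'
  let φ : ConjClasses ↥(F.eqLocus (MonoidHom.id G)) → ConjClasses ↥(F.eqLocus (MonoidHom.id G)) :=
    Quotient.lift f (fun x x' h => hf x x' h)
  have hφ : ∀ x, φ (ConjClasses.mk x) = f x := fun x => rfl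
  have prop : ∀ (g : G) (h : F (F g * g⁻¹) = F g * g⁻¹) (h' : F (g⁻¹ * F g) = g⁻¹ * F g),
      φ (ConjClasses.mk (⟨F g * g⁻¹, h⟩ : ↥(F.eqLocus (MonoidHom.id G)))) =
        ConjClasses.mk (⟨g⁻¹ * F g, h'⟩ : ↥(F.eqLocus (MonoidHom.id G))) := by
    intro g h h'
    rw [hφ]
    apply ConjClasses.mk_eq_mk_iff_isConj.mpr
    apply K F (gc (F g * g⁻¹)) g (hxm ⟨_, h⟩) h (hym ⟨_, h⟩) h'
    have := hxe ⟨F g * g⁻¹, h⟩
    rw [this]
  refine ⟨φ, ⟨?_, ?_⟩, prop⟩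
  · intro c c' hcc
    obtain ⟨x, rfl⟩ := ConjClasses.mk_surjective c
    obtain ⟨x', rfl⟩ := ConjClasses.mk_surjective c'
    rw [hφ, hφ] at hcc
    have hconj := ConjClasses.mk_eq_mk_iff_isConj.mp hcc
    have := K' F (gc x.1) (gc x'.1) (hxm x) (hxm x') (hym x) (hym x') hconj
    rw [hxe x, hxe x'] at this
    exact ConjClasses.mk_eq_mk_iff_isConj.mpr this
  · intro c
    obtain ⟨y, rfl⟩ := ConjClasses.mk_surjective c
    obtain ⟨k, hk⟩ : ∃ k, F k * k⁻¹ = y.1⁻¹ := hL (y.1⁻¹)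
    have hy : (k⁻¹)⁻¹ * F k⁻¹ = y.1 := by
      rw [map_inv, inv_inv]
      have : y.1 = (F k * k⁻¹)⁻¹ := by rw [hk, inv_inv]
      rw [this]; group
    have h' : F ((k⁻¹)⁻¹ * F k⁻¹) = (k⁻¹)⁻¹ * F k⁻¹ := by rw [hy]; exact y.2
    have h := lem1' F k⁻¹ h'
    refine ⟨ConjClasses.mk ⟨F k⁻¹ * (k⁻¹)⁻¹, h⟩, ?_⟩
    rw [prop k⁻¹ h h']
    congr 1
    exact Subtype.ext hy

end Groth.Agent.S8625
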