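import Groth.Statements.S8630
import Mathlib


set_option autoImplicit false
open Zeta

namespace Groth.Agent.S8630

section aux
open PowerSeries

theorem prime_dvd (p : ℕ) (hp : p.Prime) (A W W₀ : PowerSeries ℤ)
    (h : A * W = (p : PowerSeries ℤ) * W₀) :
    (∀ n, (p : ℤ) ∣ coeff n A) ∨ (∀ n, (p : ℤ) ∣ coeff n W) := by
  haveI := Fact.mk hp
  have hp0 : ((p : ℕ) : PowerSeries (ZMod p)) = 0 := by
    rw [← map_natCast (PowerSeries.C (R := ZMod p)) p, ZMod.natCast_self, map_zero]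
  have h1 : PowerSeries.map (Int.castRingHom (ZMod p)) A *
      PowerSeries.map (Int.castRingHom (ZMod p)) W = 0 := by
    rw [← map_mul, h, map_mul, map_natCast, hp0, zero_mul]
  rcases mul_eq_zero.mp h1 with h2 | h2
  · left; intro n
    have := congrArg (PowerSeries.coeff n) h2
    rw [PowerSeries.coeff_map, map_zero] at this
    exact (ZMod.intCast_zmod_eq_zero_iff_dvd _ p).mp this
  · right; intro n
    have := congrArg (PowerSeries.coeff n) h2
    rw [PowerSeries.coeff_map, map_zero] at this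
    exact (ZMod.intCast_zmod_eq_zero_iff_dvd _ p).mp this

theorem dvd_of_coeff (p : ℕ) (W : PowerSeries ℤ) (h : ∀ n, (p:ℤ) ∣ coeff n W) :
    ∃ W', W = (p : PowerSeries ℤ) * W' := by
  refine ⟨PowerSeries.mk fun n => coeff n W / p, ?_⟩
  ext n
  rw [← map_natCast (PowerSeries.C (R := ℤ)) p, PowerSeries.coeff_C_mul, PowerSeries.coeff_mk,
    Int.mul_ediv_cancel' (h n)]

theorem natCast_ne_zero' (a : ℕ) (ha : a ≠ 0) : (a : PowerSeries ℤ) ≠ 0 := by
  intro h0
  have := congrArg (PowerSeries.coeff 0) h0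
  rw [← map_natCast (PowerSeries.C (R := ℤ)) a, PowerSeries.coeff_zero_C, map_zero] at this
  exact ha (by exact_mod_cast this)

theorem strip (A : PowerSeries ℤ) (hA : ∀ p : ℕ, p.Prime → ¬ ∀ n, (p : ℤ) ∣ coeff n A) (n : ℕ) :
    ∀ (W W₀ : PowerSeries ℤ), A * W = (n : PowerSeries ℤ) * W₀ →
      ∃ W', W = (n : PowerSeries ℤ) * W' := by
  have hA0 : A ≠ 0 := by
    intro h; apply hA 2 Nat.prime_two; intro n; rw [h, map_zero]; exact dvd_zero _
  induction n using Nat.recOnMul with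
  | zero =>
    intro W W₀ h
    rw [Nat.cast_zero, zero_mul] at h
    refine ⟨0, ?_⟩
    rw [Nat.cast_zero, zero_mul]
    exact (mul_eq_zero.mp h).resolve_left hA0
  | one => intro W W₀ h; exact ⟨W, by rw [Nat.cast_one, one_mul]⟩
  | prime p hp =>
    intro W W₀ h
    rcases prime_dvd p hp A W W₀ h with h1 | h1
    · exact absurd h1 (hA p hp)
    · exact dvd_of_coeff p W h1
  | mul a b iha ihb =>
    intro W W₀ h
    rw [Nat.cast_mul, mul_assoc] at h
    obtain ⟨W₁, rfl⟩ := iha W _ h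
    by_cases ha : a = 0
    · subst ha; exact ⟨0, by simp⟩
    · have hc : A * W₁ = (b : PowerSeries ℤ) * W₀ := by
        apply mul_left_cancel₀ (natCast_ne_zero' a ha)
        rw [← h]; ring
      obtain ⟨W₂, rfl⟩ := ihb W₁ W₀ hc
      exact ⟨W₂, by rw [Nat.cast_mul, mul_assoc]⟩

end aux

/-- Fatou's lemma: let P, Q ∈ ℚ[T] be coprime with constant coefficient 1, and suppose the power series
P/Q has integer coefficients, i.e. P = Q·Z in ℚ⟦T⟧ for a power series Z with coefficients in ℤ. Then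
P and Q have integer coefficients. -/
theorem result (P Q : Polynomial ℚ)
    (hPQ : IsCoprime P Q) (hP : P.coeff 0 = 1) (hQ : Q.coeff 0 = 1) (Z : PowerSeries ℤ)
    (hZ : (P : PowerSeries ℚ) = (Q : PowerSeries ℚ) * PowerSeries.map (Int.castRingHom ℚ) Z) :
    (∃ P₀ : Polynomial ℤ, P₀.map (Int.castRingHom ℚ) = P) ∧
      ∃ Q₀ : Polynomial ℤ, Q₀.map (Int.castRingHom ℚ) = Q := by
  have hι : Function.Injective (PowerSeries.map (Int.castRingHom ℚ)) :=
    PowerSeries.map_injective _ Int.cast_injective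
  have hQint : ∃ Q₀ : Polynomial ℤ, Q₀.map (Int.castRingHom ℚ) = Q := by
    obtain ⟨U, V, hUV⟩ := hPQ
    obtain ⟨⟨b, hbm⟩, hb⟩ :=
      IsLocalization.integerNormalization_map_to_map (nonZeroDivisors ℤ) Q
    obtain ⟨⟨u, hum⟩, hu⟩ :=
      IsLocalization.integerNormalization_map_to_map (nonZeroDivisors ℤ) U
    obtain ⟨⟨v, hvm⟩, hv⟩ :=
      IsLocalization.integerNormalization_map_to_map (nonZeroDivisors ℤ) V
    obtain ⟨Q', hQ'⟩ : ∃ Q' : Polynomial ℤ,
      Q' = IsLocalization.integerNormalization (nonZeroDivisors ℤ) Q := ⟨_, rfl⟩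
    obtain ⟨U₀, hU₀⟩ : ∃ U₀ : Polynomial ℤ,
      U₀ = IsLocalization.integerNormalization (nonZeroDivisors ℤ) U := ⟨_, rfl⟩
    obtain ⟨V₀, hV₀⟩ : ∃ V₀ : Polynomial ℤ,
      V₀ = IsLocalization.integerNormalization (nonZeroDivisors ℤ) V := ⟨_, rfl⟩
    rw [← hQ'] at hb
    rw [← hU₀] at hu
    rw [← hV₀] at hv
    have hb0 : b ≠ 0 := nonZeroDivisors.ne_zero hbm
    have hu0 : u ≠ 0 := nonZeroDivisors.ne_zero hum
    have hv0 : v ≠ 0 := nonZeroDivisors.ne_zero hvm
    simp only [algebraMap_int_eq, zsmul_eq_mul] at hb hu hv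
    -- power series versions
    have Eb : PowerSeries.map (Int.castRingHom ℚ) (Q' : PowerSeries ℤ) =
        PowerSeries.C (b : ℚ) * (Q : PowerSeries ℚ) := by
      rw [← Polynomial.polynomial_map_coe, hb, Polynomial.coe_mul, ← map_intCast (Polynomial.C (R := ℚ)),
        Polynomial.coe_C]
    have Eu : PowerSeries.map (Int.castRingHom ℚ) (U₀ : PowerSeries ℤ) =
        PowerSeries.C (u : ℚ) * (U : PowerSeries ℚ) := by
      rw [← Polynomial.polynomial_map_coe, hu, Polynomial.coe_mul, ← map_intCast (Polynomial.C (R := ℚ)),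
        Polynomial.coe_C]
    have Ev : PowerSeries.map (Int.castRingHom ℚ) (V₀ : PowerSeries ℤ) =
        PowerSeries.C (v : ℚ) * (V : PowerSeries ℚ) := by
      rw [← Polynomial.polynomial_map_coe, hv, Polynomial.coe_mul, ← map_intCast (Polynomial.C (R := ℚ)),
        Polynomial.coe_C]
    have E1 : (Q : PowerSeries ℚ) * ((U : PowerSeries ℚ) *
        PowerSeries.map (Int.castRingHom ℚ) Z + (V : PowerSeries ℚ)) = 1 := by
      have := congrArg (fun p : Polynomial ℚ => (p : PowerSeries ℚ)) hUV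
      simp only [Polynomial.coe_add, Polynomial.coe_mul, Polynomial.coe_one] at this
      rw [hZ] at this
      rw [← this]; ring
    obtain ⟨W₁, hW₁⟩ : ∃ W₁ : PowerSeries ℤ, W₁ =
      PowerSeries.C v * (U₀ : PowerSeries ℤ) * Z + PowerSeries.C u * (V₀ : PowerSeries ℤ) :=
      ⟨_, rfl⟩
    have E2 : (Q' : PowerSeries ℤ) * W₁ = PowerSeries.C (b * u * v) := by
      apply hι
      rw [map_mul, hW₁, map_add, map_mul, map_mul, map_mul, Eb, Eu, Ev, PowerSeries.map_C,
        PowerSeries.map_C, PowerSeries.map_C]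
      simp only [eq_intCast, Int.cast_mul, map_mul]
      calc PowerSeries.C (b : ℚ) * (Q : PowerSeries ℚ) *
            (PowerSeries.C (v : ℚ) * (PowerSeries.C (u : ℚ) * (U : PowerSeries ℚ)) *
              PowerSeries.map (Int.castRingHom ℚ) Z +
            PowerSeries.C (u : ℚ) * (PowerSeries.C (v : ℚ) * (V : PowerSeries ℚ)))
          = PowerSeries.C (b : ℚ) * PowerSeries.C (u : ℚ) * PowerSeries.C (v : ℚ) *
            ((Q : PowerSeries ℚ) * ((U : PowerSeries ℚ) *
              PowerSeries.map (Int.castRingHom ℚ) Z + (V : PowerSeries ℚ))) := by ring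
        _ = _ := by rw [E1, mul_one]
    -- primitive part
    obtain ⟨Q₁, hQ₁⟩ : ∃ Q₁ : Polynomial ℤ, Q₁ = Q'.primPart := ⟨_, rfl⟩
    obtain ⟨c, hc⟩ : ∃ c : ℤ, c = Q'.content := ⟨_, rfl⟩
    have hQc : Q' = Polynomial.C c * Q₁ := by rw [hc, hQ₁]; exact Q'.eq_C_content_mul_primPart
    have hprim : Q₁.IsPrimitive := by rw [hQ₁]; exact Q'.isPrimitive_primPart
    have hA : ∀ p : ℕ, p.Prime → ¬ ∀ n, (p : ℤ) ∣ PowerSeries.coeff n (Q₁ : PowerSeries ℤ) := by
      intro p hp hall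
      have h1 : Polynomial.C (p : ℤ) ∣ Q₁ := (Polynomial.C_dvd_iff_dvd_coeff _ _).mpr
        (fun i => by have := hall i; rwa [Polynomial.coeff_coe] at this)
      have h2 := hprim (p : ℤ) h1
      rw [Int.ofNat_isUnit, Nat.isUnit_iff] at h2
      exact hp.ne_one h2
    obtain ⟨m, hm⟩ : ∃ m : ℤ, m = b * u * v := ⟨_, rfl⟩
    have hm0 : m ≠ 0 := by rw [hm]; exact mul_ne_zero (mul_ne_zero hb0 hu0) hv0
    have E3 : (Q₁ : PowerSeries ℤ) * (PowerSeries.C c * W₁) =
        ((m.natAbs : ℕ) : PowerSeries ℤ) * PowerSeries.C (Int.sign m) := by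
      rw [← map_natCast (PowerSeries.C (R := ℤ)), ← map_mul, mul_comm ((m.natAbs : ℕ) : ℤ),
        Int.sign_mul_natAbs, hm, ← E2, hQc, Polynomial.coe_mul, Polynomial.coe_C]
      ring
    obtain ⟨W', hW'⟩ := strip (Q₁ : PowerSeries ℤ) hA m.natAbs _ _ E3
    have E4 : (Q₁ : PowerSeries ℤ) * W' = PowerSeries.C (Int.sign m) := by
      apply mul_left_cancel₀ (natCast_ne_zero' m.natAbs (Int.natAbs_ne_zero.mpr hm0))
      rw [← E3, hW']; ring
    have E5 : Q₁.coeff 0 * PowerSeries.constantCoeff W' = Int.sign m := by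
      have := congrArg PowerSeries.constantCoeff E4
      rw [map_mul, Polynomial.constantCoeff_coe, PowerSeries.constantCoeff_C] at this
      exact this
    have hsign : IsUnit (Int.sign m) := by
      rw [Int.isUnit_iff_natAbs_eq]; exact Int.natAbs_sign_of_ne_zero hm0
    have ha₀ : IsUnit (Q₁.coeff 0) := by
      rw [← E5] at hsign
      exact isUnit_of_mul_isUnit_left hsign
    have ha₀' : Q₁.coeff 0 * Q₁.coeff 0 = 1 := by
      rcases Int.isUnit_iff.mp ha₀ with h | h <;> rw [h] <;> norm_num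
    -- constant coefficients
    have hcoef : ∀ n, ((c * Q₁.coeff n : ℤ) : ℚ) = (b : ℚ) * Q.coeff n := by
      intro n
      have := congrArg (fun p : Polynomial ℚ => p.coeff n) hb
      simp only [Polynomial.coeff_map, eq_intCast, Polynomial.coeff_intCast_mul] at this
      rw [← this, hQc, Polynomial.coeff_C_mul]
    have hb' : (b : ℚ) = (c : ℚ) * (Q₁.coeff 0 : ℚ) := by
      have := hcoef 0
      rw [hQ, mul_one] at this
      rw [← this]; push_cast; ring
    have hc0 : (c : ℚ) ≠ 0 := by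
      intro h0
      rw [h0, zero_mul] at hb'
      exact hb0 (by exact_mod_cast hb')
    refine ⟨Polynomial.C (Q₁.coeff 0) * Q₁, ?_⟩
    ext n
    rw [Polynomial.coeff_map, Polynomial.coeff_C_mul, eq_intCast]
    have h1 := hcoef n
    rw [hb'] at h1
    push_cast at h1 ⊢
    have h2 : (Q₁.coeff n : ℚ) = (Q₁.coeff 0 : ℚ) * Q.coeff n := by
      apply mul_left_cancel₀ hc0
      rw [h1]; ring
    have h3 : ((Q₁.coeff 0 : ℤ) : ℚ) * (Q₁.coeff 0 : ℚ) = 1 := by exact_mod_cast ha₀'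
    rw [h2, ← mul_assoc, h3, one_mul]
  obtain ⟨Q₀, hQ₀⟩ := hQint
  refine ⟨⟨PowerSeries.trunc (P.natDegree + 1) ((Q₀ : PowerSeries ℤ) * Z), ?_⟩, ⟨Q₀, hQ₀⟩⟩
  ext n
  rw [Polynomial.coeff_map, PowerSeries.coeff_trunc, eq_intCast]
  by_cases hn : n < P.natDegree + 1
  · rw [if_pos hn]
    have h1 : P.coeff n = PowerSeries.coeff n (P : PowerSeries ℚ) := (Polynomial.coeff_coe _ _).symm
    rw [h1, hZ, ← hQ₀, Polynomial.polynomial_map_coe, ← map_mul, PowerSeries.coeff_map, eq_intCast]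
  · rw [if_neg hn, Int.cast_zero]
    exact (Polynomial.coeff_eq_zero_of_natDegree_lt (by omega)).symm

end Groth.Agent.S8630
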