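import Groth.Statements.S8650
import Mathlib
import Groth.Agent.Lib.helper4.PreLam


set_option autoImplicit false
universe u
open Finset
open LambdaRing

namespace Groth.Agent.S8650

open Groth.Agent.Lib.helper4

/-- Let K be a pre-λ-ring (λ^0 = 1, λ^1 = id, additive formula) in which λ^k(1) = 0 for all k ≥ 2. Then
for every x ∈ K and every n, λ^n(x + n − 1) = (−1)^n Σ_{i=0}^{n} (−1)^i λ^i(x + n). (The published
statement is for a λ-ring; its proof uses only additivity and λ_t(1) = 1 + t, the hypotheses taken
here.) -/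
theorem result (K : Type u) [CommRing K] [LambdaRing.LambdaOps K]
    (h1 : ∀ k : ℕ, 2 ≤ k → LambdaRing.LambdaOps.lam k (1 : K) = 0) (n : ℕ) (x : K) :
    LambdaRing.LambdaOps.lam n (x + (n : K) - 1) =
      (-1 : K) ^ n * ∑ i ∈ range (n + 1), (-1 : K) ^ i * LambdaRing.LambdaOps.lam i (x + (n : K)) := by
  have key : ∀ (y : K) (k : ℕ), LambdaRing.LambdaOps.lam k (y - 1) =
      (-1 : K) ^ k * ∑ i ∈ range (k + 1), (-1 : K) ^ i * LambdaRing.LambdaOps.lam i y := by
    intro y k
    induction k with
    | zero => simp [LambdaRing.LambdaOps.lam_zero]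
    | succ k ih =>
      have hrec : LambdaRing.LambdaOps.lam (k + 1) y =
          LambdaRing.LambdaOps.lam (k + 1) (y - 1) + LambdaRing.LambdaOps.lam k (y - 1) := by
        have := LambdaRing.LambdaOps.lam_add (k + 1) (y - 1) 1
        rw [sub_add_cancel] at this
        rw [this, Finset.sum_range_succ, Finset.sum_range_succ]
        rw [Finset.sum_eq_zero (fun i hi => ?_)]
        · simp [LambdaRing.LambdaOps.lam_zero, LambdaRing.LambdaOps.lam_one]
          ring
        · rw [h1 (k + 1 - i) (by have := Finset.mem_range.1 hi; omega), mul_zero]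
      have e : (-1 : K) ^ (k + 1) * (-1 : K) ^ (k + 1) = 1 := by
        rw [← mul_pow]; simp
      rw [Finset.sum_range_succ, mul_add, ← mul_assoc, e, one_mul, hrec, ih, pow_succ]
      ring
  exact key (x + (n : K)) n

end Groth.Agent.S8650
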