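import Groth.Statements.S8666
import Mathlib


set_option autoImplicit false
universe u
open CAlg

namespace Groth.Agent.S8666

/-- Let A be a Noetherian ring, M an invertible A-module and p_1, …, p_k finitely many primes of A
(points of Spec A). Then there is a single element s ∈ M whose image generates M_{p_i} as an
A_{p_i}-module for every i, i.e. s is a basis of the stalk of M at each of the given points. -/
theorem result (A : Type u) [CommRing A] [IsNoetherianRing A]
    (M : Type u) [AddCommGroup M] [Module A M] [Module.Invertible A M] (ι : Type) [Finite ι] (p : ι → PrimeSpectrum A) :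
    ∃ s : M, ∀ i : ι, Submodule.span (Localization.AtPrime (p i).asIdeal)
      {LocalizedModule.mkLinearMap (p i).asIdeal.primeCompl M s} = ⊤ := by
  classical
  rcases isEmpty_or_nonempty ι with hι | hι
  · exact ⟨0, fun i => (IsEmpty.false i).elim⟩
  haveI := Fintype.ofFinite ι
  obtain ⟨i₀⟩ := hι
  obtain ⟨S, hSdef⟩ : ∃ S : Submonoid A, S = ⨅ i, (p i).asIdeal.primeCompl := ⟨_, rfl⟩
  have hS : ∀ x, x ∈ S ↔ ∀ i, x ∉ (p i).asIdeal := fun x => by
    rw [hSdef, Submonoid.mem_iInf]; rfl
  have hdisj : ∀ i, Disjoint (S : Set A) ((p i).asIdeal : Set A) := fun i => by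
    rw [Set.disjoint_left]; intro x hx hxp; exact (hS x).mp hx i hxp
  have key : ∀ m : MaximalSpectrum (Localization S),
      ∃ i, m.asIdeal = (p i).asIdeal.map (algebraMap A (Localization S)) := by
    intro m
    haveI : m.asIdeal.IsPrime := m.isMaximal.isPrime
    have hq : Disjoint (S : Set A) ((m.asIdeal.comap (algebraMap A (Localization S)) : Ideal A) : Set A) :=
      ((IsLocalization.isPrime_iff_isPrime_disjoint S (Localization S) m.asIdeal).mp
        inferInstance).2
    have hsub : ((m.asIdeal.comap (algebraMap A (Localization S)) : Ideal A) : Set A) ⊆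
        ⋃ i ∈ ((Finset.univ : Finset ι) : Set ι), ((p i).asIdeal : Set A) := by
      intro x hx
      by_contra hcon
      have : x ∈ S := (hS x).mpr (fun i hxi =>
        hcon (Set.mem_biUnion (Finset.mem_coe.mpr (Finset.mem_univ i)) hxi))
      exact Set.disjoint_left.mp hq this hx
    obtain ⟨i, -, hi⟩ := (Ideal.subset_union_prime i₀ i₀
      (fun i _ _ _ => (p i).isPrime)).mp hsub
    refine ⟨i, ?_⟩
    have hle : m.asIdeal ≤ (p i).asIdeal.map (algebraMap A (Localization S)) := by
      rw [← IsLocalization.map_under S (Localization S) m.asIdeal]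
      exact Ideal.map_mono hi
    have hprime : ((p i).asIdeal.map (algebraMap A (Localization S))).IsPrime :=
      IsLocalization.isPrime_of_isPrime_disjoint S (Localization S) _ (p i).isPrime (hdisj i)
    exact m.isMaximal.eq_of_le hprime.ne_top hle
  haveI : Finite (MaximalSpectrum (Localization S)) := by
    choose f hf using key
    apply Finite.of_injective f
    intro m m' h
    ext1
    rw [hf m, hf m', h]
  haveI : Module.Free (Localization S) (LocalizedModule S M) := inferInstance
  obtain ⟨e⟩ := (Module.Invertible.free_iff_linearEquiv (R := Localization S)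
    (M := LocalizedModule S M)).mp inferInstance
  obtain ⟨g, hg⟩ : ∃ g : LocalizedModule S M, ∀ y, ∃ c : Localization S, y = c • g := by
    refine ⟨e.symm 1, fun y => ⟨e y, ?_⟩⟩
    apply e.injective
    rw [map_smul, LinearEquiv.apply_symm_apply, smul_eq_mul, mul_one]
  obtain ⟨m, s, rfl⟩ : ∃ m s, g = LocalizedModule.mk m s := by
    induction g using LocalizedModule.induction_on with
    | h m s => exact ⟨m, s, rfl⟩
  refine ⟨m, fun i => ?_⟩
  rw [eq_top_iff]
  intro y _
  induction y using LocalizedModule.induction_on with
  | h x t =>
    obtain ⟨c, hc⟩ := hg (LocalizedModule.mk x 1)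
    induction c using Localization.induction_on with
    | H au =>
      obtain ⟨a, u⟩ := au
      rw [LocalizedModule.mk_smul_mk] at hc
      obtain ⟨v, hv⟩ := LocalizedModule.mk_eq.mp hc
      have hv' : ((v : A) * ((u : A) * (s : A))) • x = ((v : A) * a) • m := by
        have := hv
        simp only [Submonoid.smul_def, Submonoid.coe_mul, one_smul,
          smul_smul] at this
        exact this
      have hmem : (v : A) * ((u : A) * (s : A)) * (t : A) ∈ (p i).asIdeal.primeCompl := by
        refine mul_mem (mul_mem ?_ (mul_mem ?_ ?_)) t.2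
        · exact (hS _).mp v.2 i
        · exact (hS _).mp u.2 i
        · exact (hS _).mp s.2 i
      have hxt : LocalizedModule.mk x t =
          (Localization.mk ((v : A) * a) ⟨_, hmem⟩ : Localization.AtPrime (p i).asIdeal) •
            LocalizedModule.mkLinearMap (p i).asIdeal.primeCompl M m := by
        rw [LocalizedModule.mkLinearMap_apply, LocalizedModule.mk_smul_mk, LocalizedModule.mk_eq]
        refine ⟨1, ?_⟩
        simp only [one_smul, mul_one, Submonoid.smul_def]
        have e1 : ((v : A) * ((u : A) * (s : A)) * (t : A)) • x =
            (t : A) • (((v : A) * ((u : A) * (s : A))) • x) := by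
          rw [smul_smul, mul_comm]
        rw [e1, hv']
      rw [hxt]
      exact Submodule.smul_mem _ _ (Submodule.subset_span rfl)

end Groth.Agent.S8666
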