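import Groth.Statements.S8678
import Mathlib
import Groth.Agent.Lib.helper4.PreLam


set_option autoImplicit false
universe u
open Finset
open LambdaRing

namespace Groth.Agent.S8678

open Groth.Agent.Lib.helper4

/-- As the identity it proves in the pre-λ-ring K(Y') of the exceptional divisor: let K be a pre-λ-ring
(λ^0 = 1, λ^1 = id, additive formula) with λ^k(1) = 0 for all k ≥ 2, let d ≥ 2, and let F, L, N' ∈ K
satisfy λ^j(L) = 0 for j ≥ 2 (L is the class of an invertible module), λ^i(N') = 0 for i ≥ d − 1 (N'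
is the class of a bundle of rank d − 2) and F + L = N' + 2 (for the blowing up of a regular
immersion of codimension d: on the exceptional divisor the pulled-back conormal class is F + L, and
N = N' + 2). Then 1 − L divides λ_{−1}(F) = Σ_{i<d} (−1)^i λ^i(F). (The published proof uses only
additivity of λ_t and λ_t(1) = 1 + t, the hypotheses taken here.) -/
theorem result (K : Type u) [CommRing K] [LambdaRing.LambdaOps K]
    (h1 : ∀ k : ℕ, 2 ≤ k → LambdaRing.LambdaOps.lam k (1 : K) = 0) (d : ℕ) (hd : 2 ≤ d) (F L N' : K)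
    (hL : ∀ j : ℕ, 2 ≤ j → LambdaRing.LambdaOps.lam j L = 0) (hN' : ∀ i : ℕ, d - 1 ≤ i → LambdaRing.LambdaOps.lam i N' = 0)
    (hrel : F + L = N' + 2) :
    (1 - L) ∣ ∑ i ∈ range d, (-1 : K) ^ i * LambdaRing.LambdaOps.lam i F := by
  obtain ⟨m, rfl⟩ : ∃ m, d = m + 1 := ⟨d - 1, by omega⟩
  have hLs : LambdaRing.lamSeries L = 1 + PowerSeries.C L * PowerSeries.X := by
    ext k
    rcases k with _ | _ | k
    · simp [LambdaRing.lamSeries, LambdaRing.LambdaOps.lam_zero]
    · simp [LambdaRing.lamSeries, LambdaRing.LambdaOps.lam_one, PowerSeries.coeff_one]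
    · simp [LambdaRing.lamSeries, hL (k + 2) (by omega), PowerSeries.coeff_one]
  have h2' : LambdaRing.lamSeries (2 : K) = (1 + PowerSeries.X) ^ 2 := by
    have := h4_lamSeries_natCast h1 2
    exact_mod_cast this
  have hmain : LambdaRing.lamSeries F * (1 + PowerSeries.C L * PowerSeries.X) =
      LambdaRing.lamSeries N' * (1 + PowerSeries.X) ^ 2 := by
    have := congrArg LambdaRing.lamSeries hrel
    rw [LambdaRing.h2_lamSeries_add, LambdaRing.h2_lamSeries_add, hLs, h2'] at this
    exact this
  set P := LambdaRing.lamSeries N' with hP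
  set Q := LambdaRing.lamSeries F with hQdef
  set U := (1 + PowerSeries.C L * PowerSeries.X : PowerSeries K).invOfUnit 1 with hU
  have hUinv : (1 + PowerSeries.C L * PowerSeries.X : PowerSeries K) * U = 1 :=
    PowerSeries.mul_invOfUnit _ 1 (by simp)
  have hQ : Q = P * (1 + PowerSeries.X) +
      PowerSeries.C (1 - L) * (PowerSeries.X * P * (1 + PowerSeries.X) * U) := by
    have h : (Q - (P * (1 + PowerSeries.X) +
        PowerSeries.C (1 - L) * (PowerSeries.X * P * (1 + PowerSeries.X) * U))) *
        (1 + PowerSeries.C L * PowerSeries.X) = 0 := by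
      have h3 : PowerSeries.C (1 - L) * (PowerSeries.X * P * (1 + PowerSeries.X) * U) *
          (1 + PowerSeries.C L * PowerSeries.X) =
          PowerSeries.C (1 - L) * (PowerSeries.X * P * (1 + PowerSeries.X)) := by
        calc _ = PowerSeries.C (1 - L) * (PowerSeries.X * P * (1 + PowerSeries.X)) *
              ((1 + PowerSeries.C L * PowerSeries.X) * U) := by ring
          _ = _ := by rw [hUinv, mul_one]
      rw [sub_mul, hmain, add_mul, h3, map_sub, map_one]
      ring
    have h4 : (Q - (P * (1 + PowerSeries.X) +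
        PowerSeries.C (1 - L) * (PowerSeries.X * P * (1 + PowerSeries.X) * U))) *
        ((1 + PowerSeries.C L * PowerSeries.X) * U) = 0 := by
      rw [← mul_assoc, h, zero_mul]
    rw [hUinv, mul_one] at h4
    exact sub_eq_zero.1 h4
  -- telescoping
  have htel : ∀ k : ℕ, ∑ i ∈ range (k + 1), (-1 : K) ^ i * PowerSeries.coeff i (P * (1 + PowerSeries.X)) =
      (-1 : K) ^ k * PowerSeries.coeff k P := by
    intro k
    induction k with
    | zero => simp [mul_add]
    | succ k ih =>
      rw [Finset.sum_range_succ, ih, mul_add, mul_one, map_add, PowerSeries.coeff_succ_mul_X, pow_succ]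
      ring
  have hlam : ∀ i, LambdaRing.LambdaOps.lam i F = PowerSeries.coeff i (P * (1 + PowerSeries.X)) +
      (1 - L) * PowerSeries.coeff i (PowerSeries.X * P * (1 + PowerSeries.X) * U) := by
    intro i
    rw [h4_lam_eq_coeff, ← hQdef, hQ, map_add, PowerSeries.coeff_C_mul]
  have hzero : PowerSeries.coeff m P = 0 := by
    rw [hP, ← h4_lam_eq_coeff]
    exact hN' m (by omega)
  refine ⟨∑ i ∈ range (m + 1), (-1 : K) ^ i *
    PowerSeries.coeff i (PowerSeries.X * P * (1 + PowerSeries.X) * U), ?_⟩
  have hsum : ∑ i ∈ range (m + 1), (-1 : K) ^ i * LambdaRing.LambdaOps.lam i F =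
      ∑ i ∈ range (m + 1), (-1 : K) ^ i * PowerSeries.coeff i (P * (1 + PowerSeries.X)) +
      (1 - L) * ∑ i ∈ range (m + 1), (-1 : K) ^ i *
        PowerSeries.coeff i (PowerSeries.X * P * (1 + PowerSeries.X) * U) := by
    rw [Finset.mul_sum, ← Finset.sum_add_distrib]
    refine Finset.sum_congr rfl fun i _ => ?_
    rw [hlam i]
    ring
  rw [hsum, htel m, hzero, mul_zero, zero_add]

end Groth.Agent.S8678
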