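import Groth.Statements.S8686
import Mathlib
-- import your own Groth.Agent.* helpers here

set_option autoImplicit false
universe u
open LambdaRing

namespace Groth.Agent.S8686

/-- Let K be a pre-λ-ring with λ^n(1) = 0 for all n ≥ 2, i.e. λ_t(1) = 1 + t. Then the Adams operations,
defined for k ≥ 1 through (d/dt λ_t(x)) · λ_t(x)⁻¹ = Σ_{k ≥ 1} (−1)^{k−1} ψ^k(x) t^{k−1}, satisfy
ψ^k(1) = 1 for every k ≥ 1. (The published statement is for a λ-ring in the strict sense; this
identity uses only λ_t(1) = 1 + t, the hypothesis taken here.) -/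
theorem result (K : Type u) [CommRing K] [LambdaRing.LambdaOps K]
    (h1 : ∀ n : ℕ, 2 ≤ n → LambdaRing.LambdaOps.lam n (1 : K) = 0) (k : ℕ) (hk : 1 ≤ k) :
    LambdaRing.adamsOp k (1 : K) = 1 := by
  obtain ⟨k, rfl⟩ : ∃ k', k = k' + 1 := ⟨k - 1, by omega⟩
  have hlam : LambdaRing.lamSeries (1 : K) = 1 + PowerSeries.X := by
    ext n
    rw [LambdaRing.lamSeries, PowerSeries.coeff_mk, map_add, PowerSeries.coeff_one,
      PowerSeries.coeff_X]
    rcases n with _ | _ | n
    · simp [LambdaRing.LambdaOps.lam_zero]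
    · simp [LambdaRing.LambdaOps.lam_one]
    · have := h1 (n + 1 + 1) (by omega)
      rw [this]; simp
  obtain ⟨G, hG⟩ : ∃ G : PowerSeries K, G = PowerSeries.mk (fun k => (-1 : K) ^ k) := ⟨_, rfl⟩
  have hmul : (1 + PowerSeries.X) * G = 1 := by
    ext n
    rw [add_mul, one_mul, map_add]
    rcases n with _ | n
    · simp [hG]
    · rw [PowerSeries.coeff_succ_X_mul, hG, PowerSeries.coeff_mk, PowerSeries.coeff_mk,
        PowerSeries.coeff_one]
      simp [pow_succ]
  have hinv : (1 + PowerSeries.X : PowerSeries K).invOfUnit 1 = G := by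
    have h2 : (1 + PowerSeries.X : PowerSeries K) *
        (1 + PowerSeries.X : PowerSeries K).invOfUnit 1 = 1 :=
      PowerSeries.mul_invOfUnit _ _ (by simp)
    calc (1 + PowerSeries.X : PowerSeries K).invOfUnit 1
        = (1 + PowerSeries.X : PowerSeries K).invOfUnit 1 * ((1 + PowerSeries.X) * G) := by
          rw [hmul, mul_one]
      _ = ((1 + PowerSeries.X) * (1 + PowerSeries.X : PowerSeries K).invOfUnit 1) * G := by ring
      _ = G := by rw [h2, one_mul]
  have hlog : LambdaRing.logDerivSeries (1 : K) = G := by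
    rw [LambdaRing.logDerivSeries, hlam, hinv]
    simp
  show (-1 : K) ^ k * PowerSeries.coeff k (LambdaRing.logDerivSeries (1 : K)) = 1
  rw [hlog, hG, PowerSeries.coeff_mk, ← mul_pow]
  simp

end Groth.Agent.S8686
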