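import Groth.Statements.S8703
import Mathlib
import Groth.Agent.Lib.lead.LamQ
-- import your own Groth.Agent.* helpers here

set_option autoImplicit false
universe u
open LambdaRing

namespace Groth.Agent.S8703

/-- The Adams operations commute with λ-homomorphisms, and conversely, if K and K' are pre-λ-rings which
are algebras over the rationals, a ring homomorphism f : K → K' commuting with the ψ^k for all k ≥ 1
is a λ-homomorphism (commutes with all λ^i), the λ^i being expressible through the ψ^k in
characteristic zero. -/
theorem result (K K' : Type u) [CommRing K] [CommRing K']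
    [LambdaRing.LambdaOps K] [LambdaRing.LambdaOps K'] [Algebra ℚ K] [Algebra ℚ K'] (f : K →+* K') :
    LambdaRing.IsLambdaHom f ↔
      ∀ k : ℕ, 1 ≤ k → ∀ x : K, f (LambdaRing.adamsOp k x) = LambdaRing.adamsOp k (f x) := by
  open Groth.Agent.LeadLam PowerSeries LambdaRing in
  constructor
  · intro hf k hk x
    obtain ⟨k, rfl⟩ : ∃ k', k = k' + 1 := ⟨k - 1, by omega⟩
    have hmap : PowerSeries.map f (lamSeries x) = lamSeries (f x) := by
      ext n
      simp only [lamSeries, coeff_map, coeff_mk]
      exact hf n x
    have h1 := congrArg (PowerSeries.map f) (lamSeries_sol x)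
    rw [Groth.Agent.LeadLam.map_derivative, map_mul, hmap, lamSeries_sol (f x)] at h1
    have h2 := unit_cancel (constantCoeff_lamSeries (f x)) h1
    have h3 := congrArg (coeff k) h2
    rw [coeff_map, coeff_logDeriv, coeff_logDeriv, map_mul, map_pow, map_neg, map_one] at h3
    have hu : ((-1 : K') ^ k) * ((-1) ^ k) = 1 := by rw [← mul_pow]; simp
    calc f (adamsOp (k + 1) x)
        = ((-1 : K') ^ k * (-1) ^ k) * f (adamsOp (k + 1) x) := by rw [hu, one_mul]
      _ = (-1 : K') ^ k * ((-1) ^ k * f (adamsOp (k + 1) x)) := by rw [mul_assoc]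
      _ = (-1 : K') ^ k * ((-1) ^ k * adamsOp (k + 1) (f x)) := by rw [h3]
      _ = adamsOp (k + 1) (f x) := by rw [← mul_assoc, hu, one_mul]
  · intro hψ i x
    have hL : PowerSeries.map f (logDerivSeries x) = logDerivSeries (f x) := by
      ext k
      rw [coeff_map, coeff_logDeriv, coeff_logDeriv, map_mul, map_pow, map_neg, map_one,
        hψ (k + 1) (by omega)]
    have h1 := congrArg (PowerSeries.map f) (lamSeries_sol x)
    rw [Groth.Agent.LeadLam.map_derivative, map_mul, hL] at h1
    have h := ode_unique h1 (lamSeries_sol (f x))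
      (by simp only [coeff_map, lamSeries, coeff_mk, LambdaOps.lam_zero, map_one])
    have h2 := congrArg (coeff i) h
    simpa only [coeff_map, lamSeries, coeff_mk] using h2

end Groth.Agent.S8703
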