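import Groth.Statements.S8705
import Mathlib
-- import your own Groth.Agent.* helpers here

set_option autoImplicit false
universe u
open SGA7

namespace Groth.Agent.S8705

/-- Symmetric 2-cocycles on `P` with values in `K`. -/
structure Coc (P K : Type*) [AddCommGroup P] [AddCommGroup K] where
  c : P → P → K
  symm : ∀ p q, c p q = c q p
  coc : ∀ p q r, c (p + q) r - c p (q + r) + c p q - c q r = 0

namespace Coc
variable {P K : Type*} [AddCommGroup P] [AddCommGroup K] (C : Coc P K)

theorem c_zero_left (p : P) : C.c 0 p = C.c 0 0 := by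
  have h := C.coc 0 0 p
  simp only [add_zero, zero_add] at h
  have h1 : C.c 0 0 - C.c 0 p = C.c 0 p - C.c 0 p + C.c 0 0 - C.c 0 p := by abel
  exact (sub_eq_zero.mp (h1.trans h)).symm

theorem c_zero_right (p : P) : C.c p 0 = C.c 0 0 := by rw [C.symm, C.c_zero_left]

theorem assoc_aux (p q r : P) : C.c p q + C.c (p + q) r = C.c q r + C.c p (q + r) := by
  have h := C.coc p q r
  have h1 : (C.c p q + C.c (p + q) r) - (C.c q r + C.c p (q + r))
      = C.c (p + q) r - C.c p (q + r) + C.c p q - C.c q r := by abel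
  exact sub_eq_zero.mp (h1.trans h)

/-- The extension of `P` by `K` defined by the cocycle. -/
@[ext] structure E (C : Coc P K) where
  k : K
  p : P

instance : Add C.E := ⟨fun a b => ⟨a.k + b.k + C.c a.p b.p, a.p + b.p⟩⟩
instance : Zero C.E := ⟨⟨-C.c 0 0, 0⟩⟩
instance : Neg C.E := ⟨fun a => ⟨-a.k - C.c a.p (-a.p) - C.c 0 0, -a.p⟩⟩

theorem add_k (a b : C.E) : (a + b).k = a.k + b.k + C.c a.p b.p := rfl
theorem add_p (a b : C.E) : (a + b).p = a.p + b.p := rfl
theorem zero_k : (0 : C.E).k = -C.c 0 0 := rfl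
theorem zero_p : (0 : C.E).p = 0 := rfl
theorem neg_k (a : C.E) : (-a).k = -a.k - C.c a.p (-a.p) - C.c 0 0 := rfl
theorem neg_p (a : C.E) : (-a).p = -a.p := rfl

theorem add_assoc' (a b c : C.E) : a + b + c = a + (b + c) := by
  apply E.ext
  · rw [add_k, add_k, add_k, add_k, add_p, add_p]
    have := C.assoc_aux a.p b.p c.p
    calc a.k + b.k + C.c a.p b.p + c.k + C.c (a.p + b.p) c.p
        = a.k + b.k + c.k + (C.c a.p b.p + C.c (a.p + b.p) c.p) := by abel
      _ = a.k + b.k + c.k + (C.c b.p c.p + C.c a.p (b.p + c.p)) := by rw [this]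
      _ = a.k + (b.k + c.k + C.c b.p c.p) + C.c a.p (b.p + c.p) := by abel
  · rw [add_p, add_p, add_p, add_p]
    exact add_assoc _ _ _

theorem zero_add' (a : C.E) : 0 + a = a := by
  apply E.ext
  · rw [add_k, zero_k, zero_p, C.c_zero_left a.p]; abel
  · rw [add_p, zero_p]; exact zero_add _

theorem neg_add_cancel' (a : C.E) : -a + a = 0 := by
  apply E.ext
  · rw [add_k, neg_k, neg_p, zero_k, C.symm (-a.p) a.p]; abel
  · rw [add_p, neg_p, zero_p]; exact neg_add_cancel _

theorem add_comm' (a b : C.E) : a + b = b + a := by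
  apply E.ext
  · rw [add_k, add_k, C.symm a.p b.p]; abel
  · rw [add_p, add_p]; exact add_comm _ _

instance : AddCommGroup C.E :=
  { AddGroup.ofLeftAxioms (G := C.E) C.add_assoc' C.zero_add' C.neg_add_cancel' with
    add_comm := C.add_comm' }

/-- The inclusion of `K`. -/
def iota : K →+ C.E where
  toFun k := ⟨k - C.c 0 0, 0⟩
  map_zero' := by
    apply E.ext
    · show (0 : K) - C.c 0 0 = -C.c 0 0
      abel
    · rfl
  map_add' k k' := by
    apply E.ext
    · show (k + k') - C.c 0 0 = (k - C.c 0 0) + (k' - C.c 0 0) + C.c 0 0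
      abel
    · show (0 : P) = 0 + 0
      exact (add_zero 0).symm

theorem iota_inj (k : K) (h : C.iota k = 0) : k = 0 := by
  have h2 : k - C.c 0 0 = -C.c 0 0 := congrArg E.k h
  calc k = (k - C.c 0 0) + C.c 0 0 := by abel
    _ = -C.c 0 0 + C.c 0 0 := by rw [h2]
    _ = 0 := by abel

theorem basis_rel (p q : P) :
    (⟨0, p + q⟩ : C.E) - ⟨0, p⟩ - ⟨0, q⟩ = -C.iota (C.c p q) := by
  have h : (⟨0, p + q⟩ : C.E) + C.iota (C.c p q) = ⟨0, p⟩ + ⟨0, q⟩ := by
    apply E.ext
    · show (0 : K) + (C.c p q - C.c 0 0) + C.c (p + q) 0 = 0 + 0 + C.c p q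
      rw [C.c_zero_right (p + q)]; abel
    · show p + q + 0 = p + q
      exact add_zero _
  have h2 : (⟨0, p + q⟩ : C.E) = ⟨0, p⟩ + ⟨0, q⟩ - C.iota (C.c p q) := eq_sub_of_add_eq h
  rw [h2]; abel

/-- The set-theoretic section extended linearly. -/
noncomputable def phi : (P →₀ ℤ) →ₗ[ℤ] C.E :=
  Finsupp.linearCombination ℤ (fun p => (⟨0, p⟩ : C.E))

theorem phi_single (p : P) : C.phi (Finsupp.single p 1) = ⟨0, p⟩ := by
  simp only [phi, Finsupp.linearCombination_single, one_smul]

end Coc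

section Main
variable (P : Type u) [AddCommGroup P]

noncomputable def eps : (P →₀ ℤ) →ₗ[ℤ] P := Finsupp.linearCombination ℤ (fun p : P => p)
noncomputable def d0 : (P × P →₀ ℤ) →ₗ[ℤ] (P →₀ ℤ) := Finsupp.linearCombination ℤ
  (fun pq : P × P => Finsupp.single (pq.1 + pq.2) 1 - Finsupp.single pq.1 1 - Finsupp.single pq.2 1)
noncomputable def d1 : (P × P × P →₀ ℤ) →ₗ[ℤ] (P × P →₀ ℤ) := Finsupp.linearCombination ℤ
  (fun t : P × P × P => Finsupp.single (t.1 + t.2.1, t.2.2) 1 - Finsupp.single (t.1, t.2.1 + t.2.2) 1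
    + Finsupp.single (t.1, t.2.1) 1 - Finsupp.single (t.2.1, t.2.2) 1)
noncomputable def d1' : (P × P →₀ ℤ) →ₗ[ℤ] (P × P →₀ ℤ) := Finsupp.linearCombination ℤ
  (fun pq : P × P => Finsupp.single pq 1 - Finsupp.single (pq.2, pq.1) 1)

variable {P}

theorem lin_ext {α M : Type*} [AddCommGroup M] (f g : (α →₀ ℤ) →ₗ[ℤ] M)
    (h : ∀ a, f (Finsupp.single a 1) = g (Finsupp.single a 1)) : f = g := by
  apply Finsupp.lhom_ext'
  intro a
  apply LinearMap.ext_ring
  simpa only [LinearMap.comp_apply, Finsupp.lsingle_apply] using h a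

theorem mkQ_eq_zero_iff {M : Type*} [AddCommGroup M] (N : Submodule ℤ M) (x : M) :
    N.mkQ x = 0 ↔ x ∈ N := by
  rw [← LinearMap.mem_ker, Submodule.ker_mkQ]

theorem eps_single (p : P) : eps P (Finsupp.single p 1) = p := by
  simp only [eps, Finsupp.linearCombination_single, one_smul]

theorem d0_single (p q : P) : d0 P (Finsupp.single (p, q) 1)
    = Finsupp.single (p + q) 1 - Finsupp.single p 1 - Finsupp.single q 1 := by
  simp only [d0, Finsupp.linearCombination_single, one_smul]

theorem d1_single (p q r : P) : d1 P (Finsupp.single (p, q, r) 1)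
    = Finsupp.single (p + q, r) 1 - Finsupp.single (p, q + r) 1
      + Finsupp.single (p, q) 1 - Finsupp.single (q, r) 1 := by
  simp only [d1, Finsupp.linearCombination_single, one_smul]

theorem d1'_single (p q : P) : d1' P (Finsupp.single (p, q) 1)
    = Finsupp.single (p, q) 1 - Finsupp.single (q, p) 1 := by
  simp only [d1', Finsupp.linearCombination_single, one_smul]

theorem eps_surj : Function.Surjective (eps P) := fun p => ⟨Finsupp.single p 1, eps_single p⟩

theorem eps_d0 : eps P ∘ₗ d0 P = 0 := by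
  apply lin_ext
  rintro ⟨p, q⟩
  rw [LinearMap.comp_apply, d0_single, map_sub, map_sub, eps_single, eps_single, eps_single,
    LinearMap.zero_apply]
  abel

theorem d0_d1 : d0 P ∘ₗ d1 P = 0 := by
  apply lin_ext
  rintro ⟨p, q, r⟩
  rw [LinearMap.comp_apply, d1_single, map_sub, map_add, map_sub, d0_single, d0_single, d0_single,
    d0_single, LinearMap.zero_apply, add_assoc p q r]
  abel

theorem d0_d1' : d0 P ∘ₗ d1' P = 0 := by
  apply lin_ext
  rintro ⟨p, q⟩
  rw [LinearMap.comp_apply, d1'_single, map_sub, d0_single, d0_single, LinearMap.zero_apply,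
    add_comm q p]
  abel

theorem ker_eps_le : LinearMap.ker (eps P) ≤ LinearMap.range (d0 P) := by
  intro x hx
  obtain ⟨N, hN⟩ : ∃ N : Submodule ℤ (P →₀ ℤ), N = LinearMap.range (d0 P) := ⟨_, rfl⟩
  rw [← hN]
  have hadd : ∀ p q : P, N.mkQ (Finsupp.single (p + q) 1)
      = N.mkQ (Finsupp.single p 1) + N.mkQ (Finsupp.single q 1) := by
    intro p q
    have hmem : Finsupp.single (p + q) 1 - (Finsupp.single p 1 + Finsupp.single q 1) ∈ N := by
      rw [hN]
      exact ⟨Finsupp.single (p, q) 1, by rw [d0_single, sub_sub]⟩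
    have h0 := (mkQ_eq_zero_iff N _).mpr hmem
    rw [map_sub, map_add] at h0
    exact sub_eq_zero.mp h0
  let s : P →+ ((P →₀ ℤ) ⧸ N) := AddMonoidHom.mk' (fun p => N.mkQ (Finsupp.single p 1)) hadd
  have hcomp : s.toIntLinearMap ∘ₗ eps P = N.mkQ := by
    apply lin_ext
    intro a
    rw [LinearMap.comp_apply, eps_single]
    rfl
  have h0 : N.mkQ x = 0 := by
    rw [← hcomp, LinearMap.comp_apply, LinearMap.mem_ker.mp hx, map_zero]
  exact (mkQ_eq_zero_iff N x).mp h0

theorem key {K : Type*} [AddCommGroup K] (π : (P × P →₀ ℤ) →ₗ[ℤ] K)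
    (hsymm : ∀ p q : P, π (Finsupp.single (p, q) 1) = π (Finsupp.single (q, p) 1))
    (hcoc : ∀ p q r : P, π (Finsupp.single (p + q, r) 1) - π (Finsupp.single (p, q + r) 1)
        + π (Finsupp.single (p, q) 1) - π (Finsupp.single (q, r) 1) = 0)
    (x : P × P →₀ ℤ) (hx : d0 P x = 0) : π x = 0 := by
  let C : Coc P K := ⟨fun p q => π (Finsupp.single (p, q) 1), hsymm, hcoc⟩
  have hL : C.phi ∘ₗ d0 P = -(C.iota.toIntLinearMap ∘ₗ π) := by
    apply lin_ext
    rintro ⟨p, q⟩
    rw [LinearMap.comp_apply, LinearMap.neg_apply, LinearMap.comp_apply, d0_single, map_sub,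
      map_sub, C.phi_single, C.phi_single, C.phi_single]
    exact C.basis_rel p q
  have h1 := LinearMap.congr_fun hL x
  rw [LinearMap.comp_apply, hx, map_zero, LinearMap.neg_apply, LinearMap.comp_apply] at h1
  have h2 : C.iota (π x) = 0 := neg_eq_zero.mp h1.symm
  exact C.iota_inj _ h2

theorem ker_d0_le : LinearMap.ker (d0 P) ≤ LinearMap.range (d1 P) ⊔ LinearMap.range (d1' P) := by
  intro x hx
  obtain ⟨N, hN⟩ : ∃ N : Submodule ℤ (P × P →₀ ℤ),
      N = LinearMap.range (d1 P) ⊔ LinearMap.range (d1' P) := ⟨_, rfl⟩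
  rw [← hN]
  have hd1 : ∀ t, d1 P t ∈ N := fun t => hN ▸ Submodule.mem_sup_left ⟨t, rfl⟩
  have hd1' : ∀ t, d1' P t ∈ N := fun t => hN ▸ Submodule.mem_sup_right ⟨t, rfl⟩
  have hs : ∀ p q : P, N.mkQ (Finsupp.single (p, q) 1) = N.mkQ (Finsupp.single (q, p) 1) := by
    intro p q
    have h0 := (mkQ_eq_zero_iff N _).mpr (hd1' (Finsupp.single (p, q) 1))
    rw [d1'_single, map_sub] at h0
    exact sub_eq_zero.mp h0
  have hc : ∀ p q r : P, N.mkQ (Finsupp.single (p + q, r) 1) - N.mkQ (Finsupp.single (p, q + r) 1)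
        + N.mkQ (Finsupp.single (p, q) 1) - N.mkQ (Finsupp.single (q, r) 1) = 0 := by
    intro p q r
    have h0 := (mkQ_eq_zero_iff N _).mpr (hd1 (Finsupp.single (p, q, r) 1))
    rw [d1_single, map_sub, map_add, map_sub] at h0
    exact h0
  have hπ := key N.mkQ hs hc x (LinearMap.mem_ker.mp hx)
  exact (mkQ_eq_zero_iff N x).mp hπ

theorem main : Function.Surjective (eps P) ∧ LinearMap.ker (eps P) = LinearMap.range (d0 P) ∧
    LinearMap.ker (d0 P) = LinearMap.range (d1 P) ⊔ LinearMap.range (d1' P) := by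
  refine ⟨eps_surj, le_antisymm ker_eps_le (LinearMap.range_le_ker_iff.mpr eps_d0),
    le_antisymm ker_d0_le (sup_le (LinearMap.range_le_ker_iff.mpr d0_d1)
      (LinearMap.range_le_ker_iff.mpr d0_d1'))⟩

end Main


/-- In the case of the punctual topos (ordinary abelian groups): let P be an abelian group and consider
the complex of free abelian groups Z[P × P × P] ⊕ Z[P × P] → Z[P × P] → Z[P], augmented to P by [p]
↦ p, with d₀[p, q] = [p + q] − [p] − [q], with d₁ on the first summand given by [p, q, r] ↦ [p + q,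
r] − [p, q + r] + [p, q] − [q, r] and on the second summand by [p, q] ↦ [p, q] − [q, p]. Then the
augmentation is surjective with kernel the image of d₀ (so H₀ is P), and the kernel of d₀ is the sum
of the images of the two components of d₁ (so H₁ vanishes). (The published statement is for abelian
sheaves on an arbitrary topos; this row is its case of a one-point space.) -/
theorem result (P : Type u) [AddCommGroup P] :
    letI ε : (P →₀ ℤ) →ₗ[ℤ] P := Finsupp.linearCombination ℤ (fun p : P => p)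
    letI d₀ : (P × P →₀ ℤ) →ₗ[ℤ] (P →₀ ℤ) := Finsupp.linearCombination ℤ
      (fun pq : P × P => Finsupp.single (pq.1 + pq.2) 1 - Finsupp.single pq.1 1 - Finsupp.single pq.2 1)
    letI d₁ : (P × P × P →₀ ℤ) →ₗ[ℤ] (P × P →₀ ℤ) := Finsupp.linearCombination ℤ
      (fun t : P × P × P => Finsupp.single (t.1 + t.2.1, t.2.2) 1 - Finsupp.single (t.1, t.2.1 + t.2.2) 1
        + Finsupp.single (t.1, t.2.1) 1 - Finsupp.single (t.2.1, t.2.2) 1)
    letI d₁' : (P × P →₀ ℤ) →ₗ[ℤ] (P × P →₀ ℤ) := Finsupp.linearCombination ℤ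
      (fun pq : P × P => Finsupp.single pq 1 - Finsupp.single (pq.2, pq.1) 1)
    Function.Surjective ε ∧ LinearMap.ker ε = LinearMap.range d₀ ∧
      LinearMap.ker d₀ = LinearMap.range d₁ ⊔ LinearMap.range d₁' := by
  exact main (P := P)

end Groth.Agent.S8705
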