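import Groth.Statements.S8724
import Mathlib
-- import your own Groth.Agent.* helpers here

set_option autoImplicit false
open LefPen

namespace Groth.Agent.S8724
section
variable {A : Type*} [CommRing A]

def T1 (y z : A) (c : ℕ → A) (m i j : ℕ) : A :=
  if i + j + 1 ≤ m then c (i + j + 1) * y ^ i * z ^ j else 0

def T2 (y z : A) (c : ℕ → A) (a i j : ℕ) : A :=
  if 1 ≤ i ∧ 1 ≤ j ∧ i + j ≤ a then c (i + j) * y ^ i * z ^ j else 0

theorem T1_split (y z : A) (c : ℕ → A) (m i j : ℕ) :
    T1 y z c (m + 1) i j = T1 y z c m i j +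
      (if j = m - i then (if i ≤ m then c (m + 1) * y ^ i * z ^ (m - i) else 0) else 0) := by
  unfold T1
  by_cases h1 : i + j + 1 ≤ m
  · have h2 : i + j + 1 ≤ m + 1 := by omega
    have h3 : ¬ (j = m - i) := by omega
    rw [if_pos h1, if_pos h2, if_neg h3, add_zero]
  · by_cases h2 : i + j + 1 ≤ m + 1
    · have h3 : j = m - i := by omega
      have h4 : i ≤ m := by omega
      have h5 : i + j + 1 = m + 1 := by omega
      rw [if_neg h1, if_pos h2, if_pos h3, if_pos h4, zero_add, h5, ← h3]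
    · rw [if_neg h1, if_neg h2, zero_add]
      by_cases h3 : j = m - i
      · have h4 : ¬ (i ≤ m) := by omega
        rw [if_pos h3, if_neg h4]
      · rw [if_neg h3]

theorem geom_aux (y z : A) (d : A) (m : ℕ) :
    (y - z) * ∑ i ∈ Finset.range (m + 1), d * y ^ i * z ^ (m - i) =
      d * (y ^ (m + 1) - z ^ (m + 1)) := by
  have h := geom_sum₂_mul y z (m + 1)
  simp only [Nat.add_sub_cancel] at h
  rw [← h]
  simp only [Finset.mul_sum, Finset.sum_mul]
  exact Finset.sum_congr rfl fun i _ => by ring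

theorem key (y z : A) (c : ℕ → A) (N : ℕ) :
    ∀ m, m < N → (y - z) * (∑ i ∈ Finset.range N, ∑ j ∈ Finset.range N, T1 y z c m i j) =
      ∑ n ∈ Finset.range (m + 1), c n * (y ^ n - z ^ n) := by
  intro m
  induction m with
  | zero =>
    intro _
    have h0 : ∀ i j : ℕ, T1 y z c 0 i j = 0 := fun i j => by
      unfold T1; rw [if_neg]; omega
    simp only [h0, Finset.sum_const_zero, mul_zero, zero_add, Finset.sum_range_one, pow_zero,
      sub_self]
  | succ m ih =>
    intro hm
    have ih' := ih (by omega)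
    rw [Finset.sum_range_succ (fun n => c n * (y ^ n - z ^ n)) (m + 1), ← ih']
    have hfilter : (Finset.range N).filter (fun i => i ≤ m) = Finset.range (m + 1) := by
      ext i
      simp only [Finset.mem_filter, Finset.mem_range]
      omega
    have hT : (∑ i ∈ Finset.range N, ∑ j ∈ Finset.range N, T1 y z c (m + 1) i j) =
        (∑ i ∈ Finset.range N, ∑ j ∈ Finset.range N, T1 y z c m i j) +
        ∑ i ∈ Finset.range (m + 1), c (m + 1) * y ^ i * z ^ (m - i) := by
      rw [← hfilter, Finset.sum_filter, ← Finset.sum_add_distrib]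
      refine Finset.sum_congr rfl fun i hi => ?_
      have hmem : m - i ∈ Finset.range N := by rw [Finset.mem_range]; omega
      have hinner : (∑ j ∈ Finset.range N, if j = m - i then
          (if i ≤ m then c (m + 1) * y ^ i * z ^ (m - i) else 0) else 0) =
          if i ≤ m then c (m + 1) * y ^ i * z ^ (m - i) else 0 := by
        rw [Finset.sum_ite_eq', if_pos hmem]
      rw [← hinner, ← Finset.sum_add_distrib]
      exact Finset.sum_congr rfl fun j _ => T1_split y z c m i j
    rw [hT, mul_add, geom_aux]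

theorem binom_diff (y z : A) (m : ℕ) :
    (1 + y) ^ m - (1 + z) ^ m =
      ∑ n ∈ Finset.range (m + 1), ((m.choose n : ℕ) : A) * (y ^ n - z ^ n) := by
  rw [add_comm 1 y, add_comm 1 z, add_pow, add_pow, ← Finset.sum_sub_distrib]
  refine Finset.sum_congr rfl fun n _ => ?_
  simp only [one_pow, mul_one]; ring

theorem part1 (y z : A) (m N : ℕ) (h : m < N) :
    (1 + y) ^ m - (1 + z) ^ m = (y - z) * ∑ i ∈ Finset.range N, ∑ j ∈ Finset.range N,
      T1 y z (fun n => ((m.choose n : ℕ) : A)) m i j :=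
  (binom_diff y z m).trans (key y z (fun n => ((m.choose n : ℕ) : A)) N m h).symm

theorem T2_zero_left (y z : A) (c : ℕ → A) (a j : ℕ) : T2 y z c a 0 j = 0 := by
  unfold T2; rw [if_neg]; omega

theorem T2_zero_right (y z : A) (c : ℕ → A) (a i : ℕ) : T2 y z c a i 0 = 0 := by
  unfold T2; rw [if_neg]; omega

theorem T2_succ (y z : A) (c : ℕ → A) (a i j : ℕ) (ha : 1 ≤ a) :
    T2 y z c a (i + 1) (j + 1) = y * z * T1 y z (fun n => c (n + 1)) (a - 1) i j := by
  unfold T1 T2
  by_cases h : i + j + 1 ≤ a - 1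
  · have h' : 1 ≤ i + 1 ∧ 1 ≤ j + 1 ∧ i + 1 + (j + 1) ≤ a := by omega
    rw [if_pos h, if_pos h']
    have e : i + 1 + (j + 1) = i + j + 1 + 1 := by ring
    rw [e]; ring
  · have h' : ¬ (1 ≤ i + 1 ∧ 1 ≤ j + 1 ∧ i + 1 + (j + 1) ≤ a) := by omega
    rw [if_neg h, if_neg h', mul_zero]

theorem key2 (y z : A) (c : ℕ → A) (a : ℕ) (ha : 1 ≤ a) :
    (∑ i ∈ Finset.range (a + 1), ∑ j ∈ Finset.range (a + 1), T2 y z c a i j) =
      y * z * ∑ i ∈ Finset.range a, ∑ j ∈ Finset.range a,
        T1 y z (fun n => c (n + 1)) (a - 1) i j := by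
  rw [Finset.sum_range_succ', Finset.sum_eq_zero (fun j _ => T2_zero_left y z c a j), add_zero,
    Finset.mul_sum]
  refine Finset.sum_congr rfl fun i _ => ?_
  rw [Finset.sum_range_succ', T2_zero_right, add_zero, Finset.mul_sum]
  exact Finset.sum_congr rfl fun j _ => T2_succ y z c a i j ha

theorem part2 (y z : A) (a : ℕ) (ha : 1 ≤ a) :
    (1 + y) ^ a * z - (1 + z) ^ a * y =
      (y - z) * (-1 + ∑ i ∈ Finset.range (a + 1), ∑ j ∈ Finset.range (a + 1),
        T2 y z (fun n => ((a.choose n : ℕ) : A)) a i j) := by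
  have h2 := key2 y z (fun n => ((a.choose n : ℕ) : A)) a ha
  have hk := key y z (fun n => ((a.choose (n + 1) : ℕ) : A)) a (a - 1) (by omega)
  rw [Nat.sub_add_cancel ha] at hk
  have hb : (1 + y) ^ a * z - (1 + z) ^ a * y = -(y - z) +
      y * z * ∑ n ∈ Finset.range a, ((a.choose (n + 1) : ℕ) : A) * (y ^ n - z ^ n) := by
    rw [add_comm 1 y, add_comm 1 z, add_pow, add_pow, Finset.sum_mul, Finset.sum_mul,
      ← Finset.sum_sub_distrib, Finset.sum_range_succ', Finset.mul_sum]
    simp only [one_pow, mul_one, pow_zero, Nat.choose_zero_right, Nat.cast_one, one_mul]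
    rw [add_comm]
    congr 1
    · ring
    · refine Finset.sum_congr rfl fun n _ => ?_
      ring
  have hk' : ∑ n ∈ Finset.range a, ((a.choose (n + 1) : ℕ) : A) * (y ^ n - z ^ n) =
      (y - z) * ∑ i ∈ Finset.range a, ∑ j ∈ Finset.range a,
        T1 y z (fun n => ((a.choose (n + 1) : ℕ) : A)) (a - 1) i j := hk.symm
  rw [h2, hb, hk']
  ring

end


/-- The algebraic identity established in its proof: let a >= 1 and work in Z[y, z]. Then (1+y)^(a-1) -
(1+z)^(a-1) = (y - z) * (sum over i, j >= 0 with i + j + 1 <= a - 1 of C(a-1, i+j+1) y^i z^j), and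
(1+y)^a z - (1+z)^a y = (y - z) * (-1 + sum over i, j >= 1 with i + j <= a of C(a, i+j) y^i z^j).
Consequently the rational function -((1+y)^(a-1) - (1+z)^(a-1)) / ((1+y)^a z - (1+z)^a y), the
generating series of the primitive middle Hodge numbers of smooth hypersurfaces of degree a, equals
(sum_{i,j >= 0} C(a-1, i+j+1) y^i z^j) / (1 - sum_{i,j >= 1} C(a, i+j) y^i z^j). -/
theorem result (a : ℕ) (ha : 1 ≤ a) :
    let y : MvPolynomial (Fin 2) ℤ := MvPolynomial.X 0
    let z : MvPolynomial (Fin 2) ℤ := MvPolynomial.X 1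
    ((1 + y) ^ (a - 1) - (1 + z) ^ (a - 1) =
      (y - z) * ∑ i ∈ Finset.range a, ∑ j ∈ Finset.range a,
        if i + j + 1 ≤ a - 1 then ((a - 1).choose (i + j + 1) : MvPolynomial (Fin 2) ℤ) * y ^ i * z ^ j else 0) ∧
    ((1 + y) ^ a * z - (1 + z) ^ a * y =
      (y - z) * (-1 + ∑ i ∈ Finset.range (a + 1), ∑ j ∈ Finset.range (a + 1),
        if 1 ≤ i ∧ 1 ≤ j ∧ i + j ≤ a then (a.choose (i + j) : MvPolynomial (Fin 2) ℤ) * y ^ i * z ^ j else 0)) := by
  intro y z
  exact ⟨part1 y z (a - 1) a (by omega), part2 y z a ha⟩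

end Groth.Agent.S8724
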