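import Groth.Statements.S8800
import Mathlib
import Groth.Agent.Lib.helper1.AdicSurjV
import Groth.Agent.Lib.helper1.ComplNoeth

set_option autoImplicit false
universe u v
open AdicRing

namespace Groth.Agent.S8800

/-- Let A be a Noetherian ring and I an ideal of A. Let B be an A-algebra which is complete for the
IB-adic topology and such that B/IB is an A-algebra of finite type. Then B is a Noetherian ring. -/
theorem result (A : Type u) [CommRing A] [IsNoetherianRing A] (I : Ideal A) (B : Type v) [CommRing B] [Algebra A B] [IsAdicComplete (I.map (algebraMap A B)) B] (hB : Algebra.FiniteType A (B ⧸ I.map (algebraMap A B))) : IsNoetherianRing B := by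
  classical
  obtain ⟨n, f, hf⟩ := Algebra.FiniteType.iff_quotient_mvPolynomial''.mp hB
  choose b hb using fun i : Fin n =>
    Ideal.Quotient.mk_surjective (I := I.map (algebraMap A B)) (f (MvPolynomial.X i))
  have h1 : (Ideal.Quotient.mkₐ A (I.map (algebraMap A B))).comp (MvPolynomial.aeval b) = f := by
    apply MvPolynomial.algHom_ext
    intro i
    rw [AlgHom.comp_apply, MvPolynomial.aeval_X, Ideal.Quotient.mkₐ_eq_mk, hb]
  have hsurj : Function.Surjective ((Ideal.Quotient.mk (I.map (algebraMap A B))).comp
      ((MvPolynomial.aeval b : MvPolynomial (Fin n) A →ₐ[A] B) :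
        MvPolynomial (Fin n) A →+* B)) := by
    intro y
    obtain ⟨x, hx⟩ := hf y
    exact ⟨x, by rw [← hx, ← h1]; rfl⟩
  obtain ⟨φ, hφ⟩ := Helper1.AdicSurjV.h2_adic_mvPolynomial_surj A I (IsNoetherian.noetherian I)
    B n b hsurj
  haveI : IsNoetherianRing (AdicCompletion (I.map (MvPolynomial.C : A →+* MvPolynomial (Fin n) A))
      (MvPolynomial (Fin n) A)) := Helper1.isNoetherianRing_adicCompletion _ _
  exact isNoetherianRing_of_surjective _ _ φ.toRingHom hφ

end Groth.Agent.S8800
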