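import Groth.Statements.S8822
import Mathlib
import Groth.Agent.S8800

set_option autoImplicit false
universe u v
open AdicRing

namespace Groth.Agent.S8822

/-- Let A be a Noetherian ring and I an ideal. Let B be an A-algebra which is complete for the IB-adic
topology and such that B/IB is of finite type over A, and let J be an ideal of B. Then B/J is
complete for the I(B/J)-adic topology (so B/J is again an object of the same category, the finite
type condition on (B/J)/I(B/J) being immediate). -/
theorem result (A : Type u) [CommRing A] [IsNoetherianRing A] (I : Ideal A) (B : Type v) [CommRing B] [Algebra A B] [IsAdicComplete (I.map (algebraMap A B)) B] (hB : Algebra.FiniteType A (B ⧸ I.map (algebraMap A B))) (J : Ideal B) : IsAdicComplete (I.map (algebraMap A (B ⧸ J))) (B ⧸ J) := by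
  haveI hBnoeth : IsNoetherianRing B := Groth.Agent.S8800.result A I B hB
  rw [IsAdicComplete.map_algebraMap_iff]
  haveI hBc : IsAdicComplete I B := (IsAdicComplete.map_algebraMap_iff (S := B) I B).mp inferInstance
  have hK : I.map (algebraMap A B) ≤ Ideal.jacobson ⊥ := IsAdicComplete.le_jacobson_bot _
  haveI hH : IsHausdorff I (B ⧸ J) := by
    rw [← IsHausdorff.map_algebraMap_iff (S := B)]
    exact IsHausdorff.of_le_jacobson _ _ hK
  haveI hP : IsPrecomplete I (B ⧸ J) := by
    rw [← AdicCompletion.of_surjective_iff]
    intro y
    obtain ⟨z, rfl⟩ := AdicCompletion.map_surjective I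
      (f := (Ideal.Quotient.mkₐ A J).toLinearMap) (Ideal.Quotient.mkₐ_surjective A J) y
    obtain ⟨x, rfl⟩ := AdicCompletion.of_surjective I B z
    exact ⟨Ideal.Quotient.mkₐ A J x, (AdicCompletion.map_of I (Ideal.Quotient.mkₐ A J).toLinearMap x).symm⟩
  exact { }

end Groth.Agent.S8822
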