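import Groth.Statements.S8804
import Mathlib
import Groth.Agent.Lib.helper1.RigClosed
import Groth.Agent.S8822

set_option autoImplicit false
universe u
open AdicRing

namespace Groth.Agent.S8804

/-- Let A be a Noetherian ring which is complete for the adic topology of an ideal I, and let q be a
prime ideal of A. The following are equivalent: (1) I ⊄ q and q is maximal among the primes not
containing I; (5) dim(A/q) = 1 and I ⊄ q; (8) A/q is a one-dimensional complete local ring whose
maximal ideal is the radical of the image of I (stated as: the Krull dimension of A/q is 1, every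
maximal ideal of A/q equals the radical of I(A/q), and A/q is adically complete for that radical).
(The other equivalent forms, for other ideals of definition or for the induced topology, are not
stated.) -/
theorem result (A : Type u) [CommRing A] [IsNoetherianRing A] (I : Ideal A) [IsAdicComplete I A] (q : PrimeSpectrum A) : List.TFAE [¬ I ≤ q.asIdeal ∧ ∀ q' : PrimeSpectrum A, q ≤ q' → ¬ I ≤ q'.asIdeal → q' = q, ringKrullDim (A ⧸ q.asIdeal) = 1 ∧ ¬ I ≤ q.asIdeal, ringKrullDim (A ⧸ q.asIdeal) = 1 ∧ (∀ m : Ideal (A ⧸ q.asIdeal), m.IsMaximal → m = (I.map (Ideal.Quotient.mk q.asIdeal)).radical) ∧ IsAdicComplete (I.map (Ideal.Quotient.mk q.asIdeal)).radical (A ⧸ q.asIdeal)] := by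
  classical
  haveI hqp : q.asIdeal.IsPrime := q.isPrime
  haveI : IsDomain (A ⧸ q.asIdeal) := Ideal.Quotient.isDomain q.asIdeal
  haveI hDc : IsAdicComplete (I.map (Ideal.Quotient.mk q.asIdeal)) (A ⧸ q.asIdeal) := by
    haveI : IsAdicComplete (I.map (algebraMap A A)) A := by
      rw [Algebra.algebraMap_self, Ideal.map_id]
      infer_instance
    have h := Groth.Agent.S8822.result A I A inferInstance q.asIdeal
    rw [Ideal.Quotient.algebraMap_eq] at h
    exact h
  have hIjac : I ≤ Ideal.jacobson (⊥ : Ideal A) := IsAdicComplete.le_jacobson_bot I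
  tfae_have 2 → 1 := by
    rintro ⟨hdim, hI⟩
    refine ⟨hI, fun q' hqq' hI' => ?_⟩
    by_contra hne
    haveI : Ring.KrullDimLE 1 (A ⧸ q.asIdeal) := Ring.krullDimLE_iff.mpr (le_of_eq hdim)
    haveI := q'.isPrime
    have hle : q.asIdeal ≤ q'.asIdeal := hqq'
    have hPprime : (q'.asIdeal.map (Ideal.Quotient.mk q.asIdeal)).IsPrime :=
      Ideal.map_isPrime_of_surjective Ideal.Quotient.mk_surjective (by rwa [Ideal.mk_ker])
    have hPne : q'.asIdeal.map (Ideal.Quotient.mk q.asIdeal) ≠ ⊥ := by
      intro h0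
      apply hne
      have h1 : q'.asIdeal ≤ q.asIdeal := by
        have := (Ideal.map_eq_bot_iff_le_ker _).mp h0
        rwa [Ideal.mk_ker] at this
      exact PrimeSpectrum.ext (le_antisymm h1 hle)
    haveI hPmax := hPprime.isMaximal_of_ne_bot hPne
    have hq'max : q'.asIdeal.IsMaximal := by
      have h1 : (q'.asIdeal.map (Ideal.Quotient.mk q.asIdeal)).comap
          (Ideal.Quotient.mk q.asIdeal) = q'.asIdeal := by
        rw [Ideal.comap_map_of_surjective _ Ideal.Quotient.mk_surjective,
          ← RingHom.ker_eq_comap_bot, Ideal.mk_ker, sup_eq_left.mpr hle]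
      rw [← h1]
      exact Ideal.comap_isMaximal_of_surjective _ Ideal.Quotient.mk_surjective
    exact hI' (hIjac.trans (sInf_le ⟨bot_le, hq'max⟩))
  tfae_have 3 → 2 := by
    rintro ⟨hdim, hmax, _⟩
    refine ⟨hdim, fun hI => ?_⟩
    have hJ : I.map (Ideal.Quotient.mk q.asIdeal) = ⊥ := by
      rw [Ideal.map_eq_bot_iff_le_ker, Ideal.mk_ker]
      exact hI
    obtain ⟨m, hm⟩ := Ideal.exists_maximal (A ⧸ q.asIdeal)
    have hm0 : m = ⊥ := by
      rw [hmax m hm, hJ]
      exact Ideal.radical_bot_of_noZeroDivisors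
    have hfield : IsField (A ⧸ q.asIdeal) := by
      rw [Ring.isField_iff_maximal_bot, ← hm0]
      exact hm
    rw [ringKrullDim_eq_zero_of_isField hfield] at hdim
    exact zero_ne_one hdim
  tfae_have 1 → 3 := by
    rintro ⟨hI, hmaxq⟩
    obtain ⟨J, hJdef⟩ : ∃ J, J = I.map (Ideal.Quotient.mk q.asIdeal) := ⟨_, rfl⟩
    rw [← hJdef]
    haveI hJc : IsAdicComplete J (A ⧸ q.asIdeal) := by rw [hJdef]; exact hDc
    have hJne : J ≠ ⊥ := by
      intro h0
      apply hI
      rw [hJdef, Ideal.map_eq_bot_iff_le_ker, Ideal.mk_ker] at h0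
      exact h0
    have hJP : ∀ P : Ideal (A ⧸ q.asIdeal), P.IsPrime → P ≠ ⊥ → J ≤ P := by
      intro P hP hP0
      haveI := hP
      by_contra hJP
      have hqq' : q ≤ (⟨P.comap (Ideal.Quotient.mk q.asIdeal), Ideal.comap_isPrime _ _⟩ :
          PrimeSpectrum A) := by
        show q.asIdeal ≤ P.comap (Ideal.Quotient.mk q.asIdeal)
        intro a ha
        show Ideal.Quotient.mk q.asIdeal a ∈ P
        rw [Ideal.Quotient.eq_zero_iff_mem.mpr ha]
        exact P.zero_mem
      have hIq' : ¬ I ≤ (⟨P.comap (Ideal.Quotient.mk q.asIdeal), Ideal.comap_isPrime _ _⟩ :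
          PrimeSpectrum A).asIdeal := by
        intro h
        apply hJP
        rw [hJdef, Ideal.map_le_iff_le_comap]
        exact h
      have h3 := hmaxq _ hqq' hIq'
      apply hP0
      rw [eq_bot_iff]
      intro d hd
      obtain ⟨a, rfl⟩ := Ideal.Quotient.mk_surjective d
      have ha : a ∈ (⟨P.comap (Ideal.Quotient.mk q.asIdeal), Ideal.comap_isPrime _ _⟩ :
          PrimeSpectrum A).asIdeal := hd
      rw [h3] at ha
      exact (Submodule.mem_bot _).mpr (Ideal.Quotient.eq_zero_iff_mem.mpr ha)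
    obtain ⟨x, hxJ, hx0⟩ := Submodule.exists_mem_ne_zero_of_ne_bot hJne
    have hxP : ∀ P : Ideal (A ⧸ q.asIdeal), P.IsPrime → P ≠ ⊥ → x ∈ P :=
      fun P hP hP0 => hJP P hP hP0 hxJ
    have key := Helper1.RigClosed.nonzero_prime_props x hx0 hxP
    have hJjac : J ≤ Ideal.jacobson (⊥ : Ideal (A ⧸ q.asIdeal)) := IsAdicComplete.le_jacobson_bot J
    have hJtop : J ≠ ⊤ := by
      intro h0
      rw [h0, top_le_iff, Ideal.jacobson_eq_top_iff] at hJjac
      exact bot_ne_top hJjac
    have hnf : ¬ IsField (A ⧸ q.asIdeal) := by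
      intro hf
      obtain ⟨b, hb⟩ := hf.mul_inv_cancel hx0
      apply hJtop
      rw [Ideal.eq_top_iff_one, ← hb]
      exact Ideal.mul_mem_right _ _ hxJ
    haveI hdim1 : Ring.KrullDimLE 1 (A ⧸ q.asIdeal) :=
      Ring.KrullDimLE.mk₁' (fun P hP0 hP => (key P hP hP0).2)
    have hdim : ringKrullDim (A ⧸ q.asIdeal) = 1 := by
      have h0 : ¬ ringKrullDim (A ⧸ q.asIdeal) ≤ 0 := fun h => by
        haveI : Ring.KrullDimLE 0 (A ⧸ q.asIdeal) := Ring.krullDimLE_iff.mpr h
        exact hnf Ring.KrullDimLE.isField_of_isDomain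
      have h1 := Ring.krullDimLE_iff.mp hdim1
      exact le_antisymm h1 (Order.succ_le_of_lt (lt_of_not_ge h0))
    haveI hH : HenselianRing (A ⧸ q.asIdeal) J.radical :=
      (Helper1.henselianRing_radical_iff J).mpr inferInstance
    have hmne : ∀ m : Ideal (A ⧸ q.asIdeal), m.IsMaximal → m ≠ ⊥ := by
      intro m hm h0
      apply hJne
      rw [eq_bot_iff, ← h0]
      exact hJjac.trans (sInf_le ⟨bot_le, hm⟩)
    haveI hloc : IsLocalRing (A ⧸ q.asIdeal) := by
      refine Helper1.RigClosed.isLocalRing_of_henselian J.radical (Ideal.span {x}).minimalPrimes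
        (Ideal.finite_minimalPrimes_of_isNoetherianRing _ _) ?_ ?_ ?_
      · intro p hp
        have hp0 : p ≠ ⊥ := by
          intro h0
          have : x ∈ p := hp.1.2 (Ideal.subset_span rfl)
          rw [h0] at this
          exact hx0 ((Submodule.mem_bot _).mp this)
        exact (key p hp.1.1 hp0).2
      · intro m hm
        exact (key m hm.isPrime (hmne m hm)).1
      · rw [Ideal.sInf_minimalPrimes]
        apply Ideal.radical_mono
        rw [Ideal.span_le, Set.singleton_subset_iff]
        exact hxJ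
    have hrad : J.radical = IsLocalRing.maximalIdeal (A ⧸ q.asIdeal) := by
      apply le_antisymm
      · rw [(IsLocalRing.maximalIdeal.isMaximal _).isPrime.radical_le_iff]
        exact IsLocalRing.le_maximalIdeal hJtop
      · rw [Ideal.radical_eq_sInf]
        apply le_sInf
        rintro P ⟨hJP', hP⟩
        have hP0 : P ≠ ⊥ := by
          intro h0
          apply hJne
          rw [eq_bot_iff, ← h0]
          exact hJP'
        rw [← IsLocalRing.eq_maximalIdeal (key P hP hP0).2]
    refine ⟨hdim, ?_, ?_⟩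
    · intro m hm
      rw [hrad]
      exact IsLocalRing.eq_maximalIdeal hm
    · obtain ⟨c, hc⟩ := Ideal.exists_radical_pow_le_of_fg J (IsNoetherian.noetherian _)
      have hjr : J.radical ≤ Ideal.jacobson (⊥ : Ideal (A ⧸ q.asIdeal)) :=
        Ideal.radical_le_jacobson.trans ((Ideal.jacobson_mono hJjac).trans_eq Ideal.jacobson_idem)
      exact Helper1.RigClosed.isAdicComplete_of_le_of_pow_le J J.radical Ideal.le_radical c hc
        (IsHausdorff.of_le_jacobson _ _ hjr)
  tfae_finish

end Groth.Agent.S8804
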