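import Groth.Statements.S8852
import Mathlib
-- import your own Groth.Agent.* helpers here

set_option autoImplicit false
universe u
open CategoryTheory CategoryTheory.Limits AlgebraicGeometry TopologicalSpace
open SDiv

namespace Groth.Agent.S8852
open AlgebraicGeometry CategoryTheory in
theorem key {X : Scheme.{u}} (𝓘 𝓙 : X.IdealSheafData)
    (H : ∀ x : X, ∃ U : X.affineOpens, x ∈ U.1 ∧
      ∃ d : Γ(X, U.1), d ∈ nonZeroDivisors Γ(X, U.1) ∧ 𝓘.ideal U * 𝓙.ideal U = Ideal.span {d}) :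
    BlowUp.IsEffCartierIdeal 𝓘 := by
  classical
  intro x
  obtain ⟨U, hxU, d, hd, hIJ⟩ := H x
  -- the ideal of cofactors
  obtain ⟨C, hC⟩ : ∃ C : Ideal Γ(X, U.1), C = Ideal.span
      {c | ∃ a ∈ 𝓘.ideal U, ∃ b ∈ 𝓙.ideal U, a * b = d * c} := ⟨_, rfl⟩
  have hmul : ∀ z ∈ 𝓘.ideal U * 𝓙.ideal U, ∃ c ∈ C, z = d * c := by
    intro z hz
    refine Submodule.mul_induction_on hz ?_ ?_
    · intro a ha b hb
      have hab : a * b ∈ Ideal.span {d} := by
        rw [← hIJ]
        exact Ideal.mul_mem_mul ha hb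
      obtain ⟨c, hc⟩ := Ideal.mem_span_singleton'.1 hab
      refine ⟨c, ?_, by rw [← hc, mul_comm]⟩
      rw [hC]
      exact Ideal.subset_span ⟨a, ha, b, hb, by rw [← hc, mul_comm]⟩
    · rintro z₁ z₂ ⟨c₁, hc₁, rfl⟩ ⟨c₂, hc₂, rfl⟩
      exact ⟨c₁ + c₂, C.add_mem hc₁ hc₂, by rw [mul_add]⟩
  have hC1 : (1 : Γ(X, U.1)) ∈ C := by
    have hdm : d ∈ 𝓘.ideal U * 𝓙.ideal U := by
      rw [hIJ]
      exact Ideal.mem_span_singleton_self d
    obtain ⟨c, hc, hdc⟩ := hmul d hdm
    have h0 : (c - 1) * d = 0 := by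
      rw [sub_mul, one_mul, mul_comm, ← hdc, sub_self]
    have h1 := (mul_right_mem_nonZeroDivisors_eq_zero_iff hd).1 h0
    rw [sub_eq_zero] at h1
    rw [← h1]
    exact hc
  -- some cofactor is a unit at x
  have hex : ∃ c, (∃ a ∈ 𝓘.ideal U, ∃ b ∈ 𝓙.ideal U, a * b = d * c) ∧
      IsUnit (X.presheaf.germ U.1 x hxU c) := by
    by_contra hcon
    push_neg at hcon
    have hle : C ≤ Ideal.comap (X.presheaf.germ U.1 x hxU).hom
        (IsLocalRing.maximalIdeal (X.presheaf.stalk x)) := by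
      rw [hC]
      apply Ideal.span_le.2
      intro c hc
      exact hcon c hc
    have h1 := hle hC1
    rw [Ideal.mem_comap, map_one] at h1
    exact (IsLocalRing.maximalIdeal.isMaximal (X.presheaf.stalk x)).ne_top
      ((Ideal.eq_top_iff_one _).2 h1)
  obtain ⟨c, ⟨a, ha, b, hb, hab⟩, hcu⟩ := hex
  have hxc : x ∈ X.basicOpen c := (X.mem_basicOpen c x hxU).2 hcu
  haveI hloc : IsLocalization.Away c Γ(X, X.basicOpen c) := U.2.isLocalization_basicOpen c
  refine ⟨X.affineBasicOpen c, hxc, algebraMap Γ(X, U.1) Γ(X, X.basicOpen c) a, ?_, ?_⟩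
  · -- nonzerodivisor
    have h1 : algebraMap Γ(X, U.1) Γ(X, X.basicOpen c) d ∈
        nonZeroDivisors Γ(X, X.basicOpen c) :=
      IsLocalization.map_nonZeroDivisors_le (Submonoid.powers c) _ ⟨d, hd, rfl⟩
    have h2 : IsUnit (algebraMap Γ(X, U.1) Γ(X, X.basicOpen c) c) :=
      IsLocalization.map_units _ (⟨c, Submonoid.mem_powers c⟩ : Submonoid.powers c)
    have h3 : algebraMap Γ(X, U.1) Γ(X, X.basicOpen c) a *
        algebraMap Γ(X, U.1) Γ(X, X.basicOpen c) b ∈ nonZeroDivisors Γ(X, X.basicOpen c) := by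
      rw [← map_mul, hab, map_mul]
      exact mul_mem h1 h2.mem_nonZeroDivisors
    exact (mul_mem_nonZeroDivisors.1 h3).1
  · -- the ideal
    rw [← 𝓘.map_ideal_basicOpen U c]
    apply le_antisymm
    · refine Ideal.map_le_iff_le_comap.2 ?_
      intro z hz
      show (X.presheaf.map (homOfLE (X.basicOpen_le c)).op).hom z ∈
        Ideal.span {algebraMap Γ(X, U.1) Γ(X, X.basicOpen c) a}
      have hzb : z * b ∈ Ideal.span {d} := by
        rw [← hIJ]
        exact Ideal.mul_mem_mul hz hb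
      obtain ⟨y, hy⟩ := Ideal.mem_span_singleton'.1 hzb
      have h4 : z * c = a * y := by
        have h5 : (z * c - a * y) * d = 0 := by
          have : z * c * d = a * y * d := by
            calc z * c * d = z * (d * c) := by ring
              _ = z * (a * b) := by rw [hab]
              _ = a * (z * b) := by ring
              _ = a * (y * d) := by rw [hy]
              _ = a * y * d := by ring
          rw [sub_mul, this, sub_self]
        exact sub_eq_zero.1 ((mul_right_mem_nonZeroDivisors_eq_zero_iff hd).1 h5)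
      have h2 : IsUnit (algebraMap Γ(X, U.1) Γ(X, X.basicOpen c) c) :=
        IsLocalization.map_units _ (⟨c, Submonoid.mem_powers c⟩ : Submonoid.powers c)
      obtain ⟨u, hu⟩ := h2
      have h6 : (X.presheaf.map (homOfLE (X.basicOpen_le c)).op).hom z =
          algebraMap Γ(X, U.1) Γ(X, X.basicOpen c) a *
            (algebraMap Γ(X, U.1) Γ(X, X.basicOpen c) y * ((u⁻¹ : _ˣ) : Γ(X, X.basicOpen c))) := by
        have h7 : algebraMap Γ(X, U.1) Γ(X, X.basicOpen c) z * (u : Γ(X, X.basicOpen c)) =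
            algebraMap Γ(X, U.1) Γ(X, X.basicOpen c) a *
              algebraMap Γ(X, U.1) Γ(X, X.basicOpen c) y := by
          rw [hu, ← map_mul, h4, map_mul]
        calc (X.presheaf.map (homOfLE (X.basicOpen_le c)).op).hom z
            = algebraMap Γ(X, U.1) Γ(X, X.basicOpen c) z := rfl
          _ = algebraMap Γ(X, U.1) Γ(X, X.basicOpen c) z * (u : Γ(X, X.basicOpen c)) *
              ((u⁻¹ : _ˣ) : Γ(X, X.basicOpen c)) := by
                rw [mul_assoc, Units.mul_inv, mul_one]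
          _ = _ := by rw [h7, mul_assoc]
      rw [h6]
      exact Ideal.mul_mem_right _ _ (Ideal.mem_span_singleton_self _)
    · rw [Ideal.span_le]
      intro w hw
      rw [Set.mem_singleton_iff] at hw
      rw [hw]
      exact Ideal.mem_map_of_mem _ ha


/-- Let 𝓘, 𝓙 be quasi-coherent ideal sheaves on a scheme X (closed subschemes Z, Y). If the product 𝓘𝓙
is the ideal sheaf of an effective Cartier divisor D, then 𝓘 and 𝓙 are ideal sheaves of effective
Cartier divisors (and D is their sum, D having ideal 𝓘𝓙 by assumption). -/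
theorem result {X : Scheme.{u}} (𝓘 𝓙 : X.IdealSheafData)
    (h : BlowUp.IsEffCartierIdeal (𝓘 * 𝓙)) : BlowUp.IsEffCartierIdeal 𝓘 ∧ BlowUp.IsEffCartierIdeal 𝓙 := by
  refine ⟨key 𝓘 𝓙 ?_, key 𝓙 𝓘 ?_⟩
  · intro x
    obtain ⟨U, hxU, d, hd, hI⟩ := h x
    exact ⟨U, hxU, d, hd, hI⟩
  · intro x
    obtain ⟨U, hxU, d, hd, hI⟩ := h x
    refine ⟨U, hxU, d, hd, ?_⟩
    rw [mul_comm]
    exact hI

end Groth.Agent.S8852
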