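import Groth.Statements.S8854
import Mathlib
-- import your own Groth.Agent.* helpers here

set_option autoImplicit false
universe u
open SDiv

namespace Groth.Agent.S8854

/-- Let R be a Noetherian unique factorisation domain and I ⊆ R an ideal such that every associated
prime of R/I is minimal over I (R/I has no embedded primes) and every prime minimal over I has
height 1. Then I is principal: it is generated by one element. -/
theorem result (R : Type u) [CommRing R] [IsDomain R] [IsNoetherianRing R]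
    [UniqueFactorizationMonoid R] (I : Ideal R)
    (h1 : ∀ p : Ideal R, p ∈ associatedPrimes R (R ⧸ I) → p ∈ I.minimalPrimes)
    (h2 : ∀ p : Ideal R, p ∈ I.minimalPrimes → p.height = 1) :
    ∃ f : R, I = Ideal.span {f} := by
  classical
  by_cases hI0 : I = ⊥
  · exact ⟨0, by rw [hI0]; simp⟩
  obtain ⟨x0, hx0I, hx0⟩ := Submodule.exists_mem_ne_zero_of_ne_bot hI0
  have hmin : ∀ p ∈ I.minimalPrimes, ∃ (π : R) (n : ℕ), Prime π ∧ p = Ideal.span {π} ∧
      (∀ y ∈ I, π ^ n ∣ y) ∧ ∃ x ∈ I, ∃ y, x = π ^ n * y ∧ y ∉ p := by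
    intro p hp
    haveI hpp : p.IsPrime := hp.1.1
    have hpne : p ≠ ⊥ := by
      rintro rfl
      have := h2 _ hp
      rw [Ideal.height_bot] at this
      exact zero_ne_one this
    obtain ⟨π, hπp, hπ⟩ := hpp.exists_mem_prime_of_ne_bot hpne
    haveI hsp : (Ideal.span {π}).IsPrime := (Ideal.span_singleton_prime hπ.ne_zero).mpr hπ
    have hle : Ideal.span {π} ≤ p := (Ideal.span_singleton_le_iff_mem _).mpr hπp
    have hbot : (⊥ : Ideal R) < Ideal.span {π} := by
      rw [bot_lt_iff_ne_bot]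
      simpa [Ideal.span_singleton_eq_bot] using hπ.ne_zero
    have hht : (1 : ℕ∞) ≤ (Ideal.span {π}).height := by
      have := Ideal.height_strict_mono_of_isPrime hbot
      rw [Ideal.height_bot] at this
      exact Order.one_le_iff_pos.mpr this
    have hpeq : Ideal.span {π} = p :=
      Ideal.eq_of_le_of_height_le _ hle (by rw [h2 p hp]; exact hht)
    have hex : ∃ m, ¬ (∀ y ∈ I, π ^ m ∣ y) := by
      obtain ⟨n, hn⟩ := FiniteMultiplicity.of_prime_left hπ hx0
      exact ⟨n + 1, fun h => hn (h x0 hx0I)⟩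
    have hm := Nat.find_spec hex
    have hm0 : Nat.find hex ≠ 0 := by
      intro h0; apply hm; intro y _; rw [h0]; simp
    obtain ⟨n, hn⟩ := Nat.exists_eq_succ_of_ne_zero hm0
    have hPn : ∀ y ∈ I, π ^ n ∣ y := by
      by_contra hc
      exact Nat.find_min hex (show n < Nat.find hex by omega) hc
    refine ⟨π, n, hπ, hpeq.symm, hPn, ?_⟩
    rw [hn] at hm
    push Not at hm
    obtain ⟨x, hxI, hx⟩ := hm
    obtain ⟨y, hy⟩ := hPn x hxI
    refine ⟨x, hxI, y, hy, ?_⟩
    rw [← hpeq, Ideal.mem_span_singleton]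
    rintro ⟨t, rfl⟩
    apply hx
    rw [hy, pow_succ]
    exact ⟨t, by ring⟩
  choose! π n hπ hpπ hdiv hwit using hmin
  have hfin : I.minimalPrimes.Finite := Ideal.finite_minimalPrimes_of_isNoetherianRing R I
  have hSmem : ∀ p, p ∈ hfin.toFinset ↔ p ∈ I.minimalPrimes := fun p => hfin.mem_toFinset
  refine ⟨∏ p ∈ hfin.toFinset, π p ^ n p, le_antisymm ?_ ?_⟩
  · intro y hy
    rw [Ideal.mem_span_singleton]
    apply Finset.prod_dvd_of_isRelPrime
    · intro p hp q hq hpq
      have hp' := (hSmem p).mp (Finset.mem_coe.mp hp)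
      have hq' := (hSmem q).mp (Finset.mem_coe.mp hq)
      show IsRelPrime (π p ^ n p) (π q ^ n q)
      apply IsRelPrime.pow
      rw [(hπ p hp').irreducible.isRelPrime_iff_not_dvd]
      intro hdvd
      apply hpq
      have hqp : q ≤ p := by
        rw [hpπ p hp', hpπ q hq', Ideal.span_singleton_le_span_singleton]
        exact hdvd
      have := hp'.2 ⟨hq'.1.1, hq'.1.2⟩ hqp
      exact le_antisymm this hqp
    · intro p hp
      exact hdiv p ((hSmem p).mp hp) y hy
  · rw [Ideal.span_singleton_le_iff_mem]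
    by_contra hfI
    have hne : (Ideal.Quotient.mk I (∏ p ∈ hfin.toFinset, π p ^ n p)) ≠ 0 := by
      rwa [Ne, Ideal.Quotient.eq_zero_iff_mem]
    obtain ⟨P, hPass, hPle⟩ := exists_le_isAssociatedPrime_of_isNoetherianRing R
      (Ideal.Quotient.mk I (∏ p ∈ hfin.toFinset, π p ^ n p)) hne
    have hPmin : P ∈ I.minimalPrimes := h1 P hPass
    obtain ⟨x, hxI, y, hxy, hyP⟩ := hwit P hPmin
    apply hyP
    apply hPle
    rw [Submodule.mem_colon_singleton, Submodule.mem_bot]
    have hPS : P ∈ hfin.toFinset := (hSmem P).mpr hPmin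
    have hprod : (∏ p ∈ hfin.toFinset, π p ^ n p) =
        π P ^ n P * ∏ q ∈ hfin.toFinset.erase P, π q ^ n q :=
      (Finset.mul_prod_erase hfin.toFinset _ hPS).symm
    have hyf : y * (∏ p ∈ hfin.toFinset, π p ^ n p) ∈ I := by
      rw [hprod, ← mul_assoc, mul_comm y, ← hxy]
      exact I.mul_mem_right _ hxI
    rw [Algebra.smul_def, Ideal.Quotient.algebraMap_eq, ← map_mul, Ideal.Quotient.eq_zero_iff_mem]
    exact hyf

end Groth.Agent.S8854
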