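import Groth.Statements.S8863
import Mathlib
import Groth.Agent.S12513
-- import your own Groth.Agent.* helpers here

set_option autoImplicit false
universe u
open CategoryTheory CategoryTheory.Limits AlgebraicGeometry TopologicalSpace
open SDiv

namespace Groth.Agent.S8863



/-- Let X be a locally Noetherian scheme and x a point of X. Then the monoid S_x of germs at x of
regular sections of O_X (sections whose germ at every point of their open of definition is a
nonzerodivisor) is the whole monoid of nonzerodivisors of O_{X,x}; consequently K_{X,x} is the total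
ring of fractions of O_{X,x}. -/
theorem result (X : Scheme.{u}) [IsLocallyNoetherian X] (x : ↥X) :
    Mero.regStalk X x = nonZeroDivisors ↑(X.presheaf.stalk x) := by
  classical
  apply le_antisymm (Mero.regStalk_le_nonZeroDivisors x)
  intro g hg
  obtain ⟨V₀, hxV₀, r₀, hr₀⟩ := TopCat.Presheaf.exists_germ_eq X.presheaf (x := x) g
  obtain ⟨V, hVaff, hxV, hVV₀⟩ := AlgebraicGeometry.exists_isAffineOpen_mem_and_subset hxV₀
  have hVV₀' : V ≤ V₀ := hVV₀
  obtain ⟨r, hr⟩ : ∃ r : Γ(X, V), r = X.presheaf.map (homOfLE hVV₀').op r₀ := ⟨_, rfl⟩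
  have hgr : X.presheaf.germ V x hxV r = g := by
    rw [hr, TopCat.Presheaf.germ_res_apply, hr₀]
  haveI hnoeth : IsNoetherianRing Γ(X, V) :=
    IsLocallyNoetherian.component_noetherian ⟨V, hVaff⟩
  letI alg : Algebra Γ(X, V) (X.presheaf.stalk x) :=
    TopCat.Presheaf.algebra_section_stalk X.presheaf ⟨x, hxV⟩
  haveI hloc := hVaff.isLocalization_stalk ⟨x, hxV⟩
  obtain ⟨p, hp⟩ : ∃ p : Ideal Γ(X, V), p = (hVaff.primeIdealOf ⟨x, hxV⟩).asIdeal := ⟨_, rfl⟩
  haveI hpp : p.IsPrime := by rw [hp]; exact (hVaff.primeIdealOf ⟨x, hxV⟩).isPrime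
  haveI hloc2 : IsLocalization.AtPrime (X.presheaf.stalk x) p := by
    subst hp
    exact hloc
  have hτ : ∀ b : Γ(X, V), b * r = 0 → ∃ t : p.primeCompl, (t : Γ(X, V)) * b = 0 := by
    intro b hb
    have h1 : X.presheaf.germ V x hxV b = 0 := by
      have h0 : X.presheaf.germ V x hxV b * g = 0 := by
        rw [← hgr, ← map_mul, hb, map_zero]
      exact (mul_right_mem_nonZeroDivisors_eq_zero_iff hg).1 h0
    exact (IsLocalization.map_eq_zero_iff p.primeCompl (X.presheaf.stalk x) b).1 h1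
  obtain ⟨N, hNdef⟩ : ∃ N : Ideal Γ(X, V), N = (Ideal.span {r}).annihilator := ⟨_, rfl⟩
  have hN : ∀ b, b ∈ N ↔ b * r = 0 := fun b => by
    rw [hNdef, Submodule.mem_annihilator_span_singleton, smul_eq_mul]
  obtain ⟨s, hs⟩ := (IsNoetherian.noetherian N : N.FG)
  choose! τ hτ' using hτ
  obtain ⟨t, htdef⟩ : ∃ t : p.primeCompl, t = ∏ b ∈ s, τ b := ⟨_, rfl⟩
  have ht : ∀ b ∈ N, (t : Γ(X, V)) * b = 0 := by
    intro b hb
    rw [← hs] at hb
    induction hb using Submodule.span_induction with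
    | mem c hc =>
      have hcN : c ∈ N := by
        rw [← hs]
        exact Submodule.subset_span hc
      obtain ⟨d, hd⟩ := Finset.dvd_prod_of_mem τ hc
      have e : (t : Γ(X, V)) = (τ c : Γ(X, V)) * (d : Γ(X, V)) := by
        rw [htdef, hd]
        rfl
      rw [e, mul_right_comm, hτ' c ((hN c).1 hcN), zero_mul]
    | zero => rw [mul_zero]
    | add c d _ _ hc hd => rw [mul_add, hc, hd, add_zero]
    | smul a c _ hc => rw [smul_eq_mul, mul_left_comm, hc, mul_zero]
  have hxV' : x ∈ X.basicOpen (t : Γ(X, V)) :=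
    (X.mem_basicOpen (t : Γ(X, V)) x hxV).2 (IsLocalization.map_units (X.presheaf.stalk x) t)
  haveI hloc' : IsLocalization.Away (t : Γ(X, V)) Γ(X, X.basicOpen (t : Γ(X, V))) :=
    hVaff.isLocalization_basicOpen _
  have hr'nz : algebraMap Γ(X, V) Γ(X, X.basicOpen (t : Γ(X, V))) r ∈
      nonZeroDivisors Γ(X, X.basicOpen (t : Γ(X, V))) := by
    rw [mem_nonZeroDivisors_iff_right]
    intro c hc
    obtain ⟨⟨b, m⟩, hbm⟩ := IsLocalization.surj (Submonoid.powers (t : Γ(X, V))) c
    have h1 : algebraMap Γ(X, V) Γ(X, X.basicOpen (t : Γ(X, V))) (b * r) = 0 := by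
      rw [map_mul, ← hbm, mul_right_comm, hc, zero_mul]
    obtain ⟨m', hm'⟩ :=
      (IsLocalization.map_eq_zero_iff (Submonoid.powers (t : Γ(X, V))) _ (b * r)).1 h1
    have h2 : ((m' : Γ(X, V)) * b) ∈ N := (hN _).2 (by rw [mul_assoc]; exact hm')
    have h3 := ht _ h2
    have h4 : algebraMap Γ(X, V) Γ(X, X.basicOpen (t : Γ(X, V))) b = 0 := by
      have hu : IsUnit (algebraMap Γ(X, V) Γ(X, X.basicOpen (t : Γ(X, V)))
          ((t : Γ(X, V)) * m')) := by
        rw [map_mul]
        exact (IsLocalization.map_units _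
          (⟨(t : Γ(X, V)), Submonoid.mem_powers _⟩ : Submonoid.powers (t : Γ(X, V)))).mul
          (IsLocalization.map_units _ m')
      have h5 : algebraMap Γ(X, V) Γ(X, X.basicOpen (t : Γ(X, V))) ((t : Γ(X, V)) * m') *
          algebraMap Γ(X, V) Γ(X, X.basicOpen (t : Γ(X, V))) b = 0 := by
        rw [← map_mul, mul_assoc, h3, map_zero]
      exact (hu.mul_right_eq_zero).1 h5
    rw [h4] at hbm
    exact ((IsLocalization.map_units _ m).mul_left_eq_zero).1 hbm
  refine ⟨X.basicOpen (t : Γ(X, V)), hxV', algebraMap Γ(X, V) Γ(X, X.basicOpen (t : Γ(X, V))) r,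
    ?_, ?_⟩
  · rw [Groth.Agent.S12513.result X _ (hVaff.basicOpen _)]
    exact hr'nz
  · show X.presheaf.germ _ x hxV' (X.presheaf.map (homOfLE (X.basicOpen_le _)).op r) = g
    rw [TopCat.Presheaf.germ_res_apply, hgr]

end Groth.Agent.S8863
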