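import Groth.Statements.S8865
import Mathlib
-- import your own Groth.Agent.* helpers here

set_option autoImplicit false
universe u
open CategoryTheory CategoryTheory.Limits AlgebraicGeometry TopologicalSpace
open SDiv

namespace Groth.Agent.S8865



/-- Let X be a quasi-compact scheme, h a global section of O_X and f a global section of the sheaf of
meromorphic functions K_X whose restriction to the open X_h where h is invertible vanishes. Then h^n
f = 0 in K_X(X) for some natural number n. -/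
theorem result (X : Scheme.{u}) [CompactSpace ↥X] (h : Γ(X, ⊤))
    (f : Γ(Mero.kmod X, ⊤)) (hf : (Mero.kmod X).presheaf.map (homOfLE (le_top : X.basicOpen h ≤ ⊤)).op f = 0) :
    ∃ n : ℕ, Mero.toK X ⊤ h ^ n * f = 0 := by
  classical
  have loc : ∀ x : X, ∃ (W : X.Opens) (_ : x ∈ W) (n : ℕ), ∀ m, n ≤ m → ∀ y (_ : y ∈ W),
      (Mero.toK X ⊤ h ^ m * f).1 ⟨y, trivial⟩ = 0 := by
    intro x
    obtain ⟨W₀, hxW₀, i, a, b, hab⟩ := f.2 ⟨x, trivial⟩
    obtain ⟨W, hWaff, hxW, hWW₀⟩ := AlgebraicGeometry.exists_isAffineOpen_mem_and_subset hxW₀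
    have hWW₀' : W ≤ W₀ := hWW₀
    obtain ⟨a', ha'⟩ : ∃ a' : Γ(X, W), a' = X.presheaf.map (homOfLE hWW₀').op a := ⟨_, rfl⟩
    obtain ⟨h', hh'⟩ : ∃ h' : Γ(X, W), h' = X.presheaf.map (homOfLE (le_top : W ≤ ⊤)).op h :=
      ⟨_, rfl⟩
    have germ_a : ∀ y (hyW : y ∈ W), y ∈ X.basicOpen h →
        X.presheaf.germ W₀ y (hWW₀' hyW) a = 0 := by
      intro y hyW hyh
      have h1 : f.1 ⟨y, trivial⟩ = 0 :=
        congrArg (fun r : Γ(Mero.kmod X, X.basicOpen h) => r.1 ⟨y, hyh⟩) hf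
      have h2 := hab ⟨y, hWW₀' hyW⟩
      have h3 : (LocalizedModule.mk (X.presheaf.germ W₀ y (hWW₀' hyW) a)
          (Mero.regGerm ⟨y, hWW₀' hyW⟩ b) : Mero.KStalk X y) = 0 := by
        rw [← h2]
        exact h1
      rw [← LocalizedModule.zero_mk (Mero.regGerm ⟨y, hWW₀' hyW⟩ b), LocalizedModule.mk_eq] at h3
      obtain ⟨c, hc⟩ := h3
      simp only [smul_zero, Submonoid.smul_def, smul_eq_mul] at hc
      have hc1 := Mero.regStalk_le_nonZeroDivisors y c.2
      have hc2 := Mero.regStalk_le_nonZeroDivisors y (Mero.regGerm ⟨y, hWW₀' hyW⟩ b).2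
      have h4 := (mul_left_mem_nonZeroDivisors_eq_zero_iff hc1).1 hc
      exact (mul_left_mem_nonZeroDivisors_eq_zero_iff hc2).1 h4
    obtain ⟨n, hn⟩ : ∃ n : ℕ, h' ^ n * a' = 0 := by
      refine AlgebraicGeometry.exists_pow_mul_eq_zero_of_res_basicOpen_eq_zero_of_isAffineOpen X
        hWaff a' h' ?_
      change X.presheaf.map (homOfLE (X.basicOpen_le h')).op a' = 0
      apply TopCat.Presheaf.section_ext X.sheaf (X.basicOpen h')
      intro y hy
      change X.presheaf.germ (X.basicOpen h') y hy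
          (X.presheaf.map (homOfLE (X.basicOpen_le h')).op a') =
        X.presheaf.germ (X.basicOpen h') y hy 0
      have hyW : y ∈ W := X.basicOpen_le h' hy
      have hyh : y ∈ X.basicOpen h := by
        have e := X.basicOpen_res h (homOfLE (le_top : W ≤ ⊤)).op
        rw [← hh'] at e
        rw [e] at hy
        exact hy.2
      rw [map_zero, TopCat.Presheaf.germ_res_apply, ha', TopCat.Presheaf.germ_res_apply]
      exact germ_a y hyW hyh
    refine ⟨W, hxW, n, fun m hm y hy => ?_⟩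
    rw [← map_pow]
    show (Mero.toK X ⊤ (h ^ m)).1 ⟨y, trivial⟩ * f.1 ⟨y, trivial⟩ = 0
    have h2 : f.1 ⟨y, trivial⟩ = LocalizedModule.mk (X.presheaf.germ W₀ y (hWW₀' hy) a)
        (Mero.regGerm ⟨y, hWW₀' hy⟩ b) := hab ⟨y, hWW₀' hy⟩
    rw [h2, Mero.toK_apply]
    have hnum : X.presheaf.germ ⊤ y trivial (h ^ m) * X.presheaf.germ W₀ y (hWW₀' hy) a = 0 := by
      have e1 : X.presheaf.germ ⊤ y trivial (h ^ m) = X.presheaf.germ W y hy (h' ^ m) := by
        rw [hh', ← map_pow, TopCat.Presheaf.germ_res_apply]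
      have e2 : X.presheaf.germ W₀ y (hWW₀' hy) a = X.presheaf.germ W y hy a' := by
        rw [ha', TopCat.Presheaf.germ_res_apply]
      rw [e1, e2, ← map_mul]
      obtain ⟨d, rfl⟩ := Nat.exists_eq_add_of_le hm
      rw [pow_add, mul_assoc, mul_left_comm, hn, mul_zero, map_zero]
    exact (LocalizedModule.mk_mul_mk.trans (Mero.mk_congr hnum rfl)).trans
      (LocalizedModule.zero_mk _)
  choose W hxW n hn using loc
  obtain ⟨t, ht⟩ := isCompact_univ.elim_finite_subcover (fun x => ((W x : X.Opens) : Set X))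
    (fun x => (W x).2) (fun y _ => Set.mem_iUnion.2 ⟨y, hxW y⟩)
  refine ⟨t.sup n, ?_⟩
  apply Subtype.ext
  funext y
  obtain ⟨x, hx⟩ := Set.mem_iUnion.1 (ht (Set.mem_univ y.1))
  obtain ⟨hxt, hyx⟩ := Set.mem_iUnion.1 hx
  exact hn x (t.sup n) (Finset.le_sup hxt) y.1 hyx

end Groth.Agent.S8865
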