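import Groth.Statements.S8902
import Mathlib
-- import your own Groth.Agent.* helpers here

set_option autoImplicit false
universe u
open CategoryTheory CategoryTheory.Limits AlgebraicGeometry TopologicalSpace
open SDiv

namespace Groth.Agent.S8902



/-- Let f : X ⟶ Y be a flat morphism of schemes. Then pullbacks of meromorphic functions are defined for
f: for every open U ⊆ Y and every regular section s of O_Y over U, the pulled-back section of O_X
over f⁻¹U is regular. -/
theorem result {X Y : Scheme.{u}} (f : X ⟶ Y) [Flat f] (U : Y.Opens) (s : Γ(Y, U))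
    (hs : s ∈ Mero.regSub Y U) : f.app U s ∈ Mero.regSub X (f ⁻¹ᵁ U) := by
  intro x
  have hfl := AlgebraicGeometry.Flat.stalkMap f x.1
  have h1 := hs ⟨f x.1, x.2⟩
  have hreg : IsSMulRegular (Y.presheaf.stalk (f x.1)) (Y.presheaf.germ U (f x.1) x.2 s) := by
    intro a b hab
    have hab' : (Y.presheaf.germ U (f x.1) x.2 s) * a = (Y.presheaf.germ U (f x.1) x.2 s) * b := hab
    have h0 : (a - b) * (Y.presheaf.germ U (f x.1) x.2 s) = 0 := by
      rw [sub_mul, mul_comm a, mul_comm b, hab', sub_self]
    exact sub_eq_zero.1 ((mul_right_mem_nonZeroDivisors_eq_zero_iff h1).1 h0)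
  show X.presheaf.germ (f ⁻¹ᵁ U) x.1 x.2 (f.app U s) ∈ _
  rw [← AlgebraicGeometry.Scheme.Hom.germ_stalkMap_apply f U x.1 x.2 s]
  letI := (f.stalkMap x.1).hom.toAlgebra
  haveI : Module.Flat (Y.presheaf.stalk (f x.1)) (X.presheaf.stalk x.1) := hfl
  have h2 := IsSMulRegular.of_flat (S := X.presheaf.stalk x.1) hreg
  rw [mem_nonZeroDivisors_iff_right]
  intro a ha
  apply h2
  show _ * a = _ * 0
  rw [mul_zero, mul_comm]
  exact ha

end Groth.Agent.S8902
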