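import Groth.Statements.S8927
import Mathlib

set_option autoImplicit false
universe u
open Disc

namespace Groth.Agent.S8927

/-- For a map A → B of Noetherian rings such that the localization B_q is flat over A for every
associated prime q of B, every nonzerodivisor of A maps to a nonzerodivisor of B. -/
theorem result (A B : Type u) [CommRing A] [CommRing B] [IsNoetherianRing A] [IsNoetherianRing B] [Algebra A B] (h3 : ∀ (q : Ideal B) [q.IsPrime], IsAssociatedPrime q B → Module.Flat A (Localization.AtPrime q)) : nonZeroDivisors A ≤ (nonZeroDivisors B).comap (algebraMap A B) := by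
  intro a ha
  rw [Submonoid.mem_comap, mem_nonZeroDivisors_iff_right]
  intro b hb
  by_contra hb0
  obtain ⟨q, hq, hle⟩ := exists_le_isAssociatedPrime_of_isNoetherianRing B b hb0
  have hq' := hq
  rw [isAssociatedPrime_iff] at hq'
  obtain ⟨hqp, b', hqb'⟩ := hq'
  haveI := hqp
  haveI : Module.Flat A (Localization.AtPrime q) := h3 q hq
  have haq : algebraMap A B a ∈ q := by
    apply hle
    rw [Submodule.mem_colon_singleton, Submodule.mem_bot, smul_eq_mul, mul_comm]
    exact hb
  have hab' : algebraMap A B a * b' = 0 := by
    rw [hqb', Submodule.mem_colon_singleton, Submodule.mem_bot, smul_eq_mul] at haq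
    exact haq
  have hreg : IsSMulRegular (Localization.AtPrime q) a :=
    Module.Flat.isSMulRegular_of_nonZeroDivisors ha
  have hne : algebraMap B (Localization.AtPrime q) b' ≠ 0 := by
    intro h0
    rw [IsLocalization.map_eq_zero_iff q.primeCompl] at h0
    obtain ⟨s, hs⟩ := h0
    apply s.2
    have hsc : (s : B) ∈ (⊥ : Submodule B B).colon {b'} := by
      rw [Submodule.mem_colon_singleton, Submodule.mem_bot, smul_eq_mul]
      exact hs
    exact hqb'.ge hsc
  apply hne
  apply hreg
  show a • algebraMap B (Localization.AtPrime q) b' = a • 0
  rw [smul_zero, Algebra.smul_def, IsScalarTower.algebraMap_apply A B (Localization.AtPrime q),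
    ← map_mul, hab', map_zero]

end Groth.Agent.S8927
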