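import Groth.Statements.S8936
import Mathlib

set_option autoImplicit false
universe u v
open InjHull

namespace Groth.Agent.S8936

/-- For a directed system (E_i) of R-modules over a nonempty directed preorder and a compatible family
of essential injections M → E_i, the induced map from M to the direct limit of the E_i is an
essential injection. -/
theorem result (R : Type u) [CommRing R] (ι : Type v) [Preorder ι] [IsDirectedOrder ι] [DecidableEq ι] (i₀ : ι) (E : ι → Type v) [∀ i, AddCommGroup (E i)] [∀ i, Module R (E i)] (f : ∀ i j, i ≤ j → E i →ₗ[R] E j) [DirectedSystem E fun i j h => f i j h] (M : Type v) [AddCommGroup M] [Module R M] (g : ∀ i, M →ₗ[R] E i) (hg : ∀ i j (h : i ≤ j), f i j h ∘ₗ g i = g j) (he : ∀ i, InjHull.IsEssentialInj (g i)) : InjHull.IsEssentialInj (Module.DirectLimit.of R ι E f i₀ ∘ₗ g i₀) := by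
  classical
  haveI : Nonempty ι := ⟨i₀⟩
  have hof : ∀ (i : ι) (m : M), Module.DirectLimit.of R ι E f i (g i m) =
      Module.DirectLimit.of R ι E f i₀ (g i₀ m) := by
    intro i m
    obtain ⟨k, hik, h0k⟩ := exists_ge_ge i i₀
    rw [← Module.DirectLimit.of_f (hij := hik), ← Module.DirectLimit.of_f (i := i₀) (hij := h0k)]
    have h1 := LinearMap.congr_fun (hg i k hik) m
    have h2 := LinearMap.congr_fun (hg i₀ k h0k) m
    simp only [LinearMap.comp_apply] at h1 h2
    rw [h1, h2]
  have hinj : Function.Injective (Module.DirectLimit.of R ι E f i₀ ∘ₗ g i₀) := by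
    rw [← LinearMap.ker_eq_bot, LinearMap.ker_eq_bot']
    intro m hm
    rw [LinearMap.comp_apply] at hm
    obtain ⟨j, hij, hj⟩ := Module.DirectLimit.of.zero_exact hm
    have h1 := LinearMap.congr_fun (hg i₀ j hij) m
    simp only [LinearMap.comp_apply] at h1
    rw [h1] at hj
    exact (he j).injective (hj.trans (map_zero _).symm)
  refine ⟨hinj, ?_⟩
  intro N hN
  rw [Submodule.ne_bot_iff] at hN ⊢
  obtain ⟨y, hyN, hy0⟩ := hN
  obtain ⟨i, x, rfl⟩ := Module.DirectLimit.exists_of y
  have hx0 : x ≠ 0 := by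
    rintro rfl
    exact hy0 (map_zero _)
  have h1 : Submodule.span R {x} ≠ ⊥ := by
    intro h0
    exact hx0 ((Submodule.span_singleton_eq_bot).mp h0)
  have h2 := (he i).essential _ h1
  rw [Submodule.ne_bot_iff] at h2
  obtain ⟨z, hz, hz0⟩ := h2
  obtain ⟨hz1, hz2⟩ := Submodule.mem_inf.mp hz
  obtain ⟨r, rfl⟩ := Submodule.mem_span_singleton.mp hz1
  obtain ⟨m, hm⟩ := hz2
  have hm0 : m ≠ 0 := by
    rintro rfl
    rw [map_zero] at hm
    exact hz0 hm.symm
  have hkey : r • Module.DirectLimit.of R ι E f i x =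
      (Module.DirectLimit.of R ι E f i₀ ∘ₗ g i₀) m := by
    rw [← map_smul, ← hm, hof i m, LinearMap.comp_apply]
  refine ⟨r • Module.DirectLimit.of R ι E f i x, Submodule.mem_inf.mpr ⟨N.smul_mem r hyN, ⟨m, hkey.symm⟩⟩, ?_⟩
  rw [hkey]
  intro h0
  exact hm0 (hinj (h0.trans (map_zero _).symm))

end Groth.Agent.S8936
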