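import Groth.Statements.S8974
import Mathlib

set_option autoImplicit false
universe u
open Synt

namespace Groth.Agent.S8974

/-- Let R be a ring, n, d ≥ 1 and g_1, …, g_n ∈ R[y_1, …, y_n] of total degree at most d. Then there is
a ring map φ : A = ℤ[a_{i,E}] → R (E running over exponent vectors with |E| ≤ d) such that applying
φ to the coefficients of the universal polynomial f_i = Σ_E a_{i,E} x^E gives g_i for each i. (The
published statement is for a locally quasi-finite syntomic morphism of schemes and asserts, locally,
a cartesian square with the universal family; this row is its affine core: the coefficient map.) -/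
theorem result (R : Type u) [CommRing R] (n d : ℕ) (hn : 1 ≤ n) (hd : 1 ≤ d) (g : Fin n → MvPolynomial (Fin n) R) (hg : ∀ i, (g i).totalDegree ≤ d) : ∃ φ : Synt.UnivBase n d →+* R, ∀ i, MvPolynomial.map φ (Synt.univPoly n d i) = g i := by
  classical
  let φ : Synt.UnivBase n d →+* R := MvPolynomial.eval₂Hom (Int.castRingHom R)
    (fun p : Fin n × Synt.UnivIdx n d => MvPolynomial.coeff p.2.exponent (g p.1))
  refine ⟨φ, fun i => ?_⟩
  have hφ : ∀ E : Synt.UnivIdx n d,
      φ (MvPolynomial.X (i, E)) = MvPolynomial.coeff E.exponent (g i) := by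
    intro E
    simp [φ]
  ext m
  rw [Synt.univPoly, map_sum, MvPolynomial.coeff_sum]
  simp only [MvPolynomial.map_monomial, MvPolynomial.coeff_monomial, hφ]
  have hsum : ∀ E : Synt.UnivIdx n d, ∑ j, E.exponent j = ∑ j, (E.1 j : ℕ) := by
    intro E
    simp [Synt.UnivIdx.exponent]
  by_cases hm : (∑ j, m j) ≤ d
  · have hle : ∀ j, m j < d + 1 := fun j =>
      Nat.lt_succ_of_le ((Finset.single_le_sum (f := fun j => m j)
        (fun _ _ => Nat.zero_le _) (Finset.mem_univ j)).trans hm)
    let E₀ : Synt.UnivIdx n d := ⟨fun j => ⟨m j, hle j⟩, by simpa using hm⟩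
    have hE₀ : E₀.exponent = m := by
      ext j
      simp [Synt.UnivIdx.exponent, E₀]
    rw [Finset.sum_eq_single E₀]
    · rw [if_pos hE₀, hE₀]
    · intro E _ hne
      rw [if_neg]
      intro h
      apply hne
      apply Subtype.ext
      funext j
      apply Fin.ext
      have := DFunLike.congr_fun (h.trans hE₀.symm) j
      simpa [Synt.UnivIdx.exponent, E₀] using this
    · intro h
      exact absurd (Finset.mem_univ _) h
  · rw [Finset.sum_eq_zero]
    · symm
      apply MvPolynomial.coeff_eq_zero_of_totalDegree_lt
      have h1 : ∑ j ∈ m.support, m j = ∑ j, m j :=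
        Finset.sum_subset (Finset.subset_univ _) (fun j _ hj => Finsupp.notMem_support_iff.mp hj)
      rw [h1]
      exact lt_of_le_of_lt (hg i) (not_le.mp hm)
    · intro E _
      rw [if_neg]
      intro h
      apply hm
      rw [← h, hsum]
      exact E.2

end Groth.Agent.S8974
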