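import Groth.Statements.S8992
import Mathlib

set_option autoImplicit false
universe u
open HTop

namespace Groth.Agent.S8992

/-- An algebra over the prime field with p elements is absolutely weakly normal if and only if its p-th
power map is bijective (the algebra is perfect). -/
theorem result (p : ℕ) [Fact p.Prime] (A : Type u) [CommRing A] [Algebra (ZMod p) A] : HTop.IsAWNRing A ↔ PerfectRing A p := by
  have hpp : p.Prime := Fact.out
  have hp0 : (p : A) = 0 := by
    rw [← map_natCast (algebraMap (ZMod p) A) p, ZMod.natCast_self, map_zero]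
  constructor
  · rintro ⟨_, h2⟩
    have hzero : ∀ x : A, (p : A) ^ p * x = (0 : A) ^ p := by
      intro x
      rw [hp0, zero_pow hpp.ne_zero, zero_mul]
    refine ⟨⟨fun a b hab => ?_, fun x => ?_⟩⟩
    · have hab' : a ^ p = b ^ p := hab
      have h := h2 p hpp (a ^ p) 0 (hzero _)
      exact h.unique ⟨rfl, by rw [hp0, zero_mul]⟩ ⟨hab', by rw [hp0, zero_mul]⟩
    · obtain ⟨c, ⟨hc, -⟩, -⟩ := h2 p hpp x 0 (hzero _)
      exact ⟨c, hc.symm⟩
  · intro hperf
    have frob_inj : ∀ a b : A, a ^ p = b ^ p → a = b := fun a b h =>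
      hperf.bijective_frobenius.1 h
    have frob_surj : ∀ x : A, ∃ a : A, a ^ p = x := fun x => hperf.bijective_frobenius.2 x
    refine ⟨?_, ?_⟩
    · intro x y h
      obtain ⟨u, v, huv⟩ : ∃ u v : ℕ, p = 2 * u + 3 * v := by
        rcases Nat.even_or_odd' p with ⟨k, hk | hk⟩
        · exact ⟨k, 0, by omega⟩
        · exact ⟨k - 1, 1, by have := hpp.two_le; omega⟩
      obtain ⟨a, ha⟩ := frob_surj (x ^ u * y ^ v)
      have e1 : (a ^ 2) ^ p = x ^ p := by
        calc (a ^ 2) ^ p = (a ^ p) ^ 2 := by ring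
          _ = (x ^ u * y ^ v) ^ 2 := by rw [ha]
          _ = x ^ (2 * u) * (y ^ 2) ^ v := by ring
          _ = x ^ (2 * u) * (x ^ 3) ^ v := by rw [h]
          _ = x ^ p := by rw [huv]; ring
      have e2 : (a ^ 3) ^ p = y ^ p := by
        calc (a ^ 3) ^ p = (a ^ p) ^ 3 := by ring
          _ = (x ^ u * y ^ v) ^ 3 := by rw [ha]
          _ = (x ^ 3) ^ u * y ^ (3 * v) := by ring
          _ = (y ^ 2) ^ u * y ^ (3 * v) := by rw [h]
          _ = y ^ p := by rw [huv]; ring
      refine ⟨a, ⟨(frob_inj _ _ e1).symm, (frob_inj _ _ e2).symm⟩, ?_⟩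
      rintro a' ⟨h1, h2⟩
      apply frob_inj
      calc a' ^ p = (a' ^ 2) ^ u * (a' ^ 3) ^ v := by rw [huv]; ring
        _ = x ^ u * y ^ v := by rw [← h1, ← h2]
        _ = a ^ p := ha.symm
    · intro q hq x y hxy
      by_cases hqp : q = p
      · subst hqp
        rw [hp0, zero_pow hpp.ne_zero, zero_mul] at hxy
        have hy : y = 0 := frob_inj y 0 (by rw [← hxy, zero_pow hpp.ne_zero])
        obtain ⟨a, ha⟩ := frob_surj x
        refine ⟨a, ⟨ha.symm, by rw [hy, hp0, zero_mul]⟩, ?_⟩
        rintro a' ⟨h1, -⟩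
        exact frob_inj _ _ (h1.symm.trans ha.symm)
      · have hunit : IsUnit (q : A) := by
          have h1 : (q : ZMod p) ≠ 0 := by
            intro h0
            rw [ZMod.natCast_eq_zero_iff] at h0
            exact hqp ((Nat.prime_dvd_prime_iff_eq hpp hq).1 h0).symm
          have h2 : IsUnit (q : ZMod p) := isUnit_iff_ne_zero.2 h1
          have h3 := h2.map (algebraMap (ZMod p) A)
          rwa [map_natCast] at h3
        obtain ⟨w, hw⟩ := isUnit_iff_exists_inv.1 hunit
        refine ⟨w * y, ⟨?_, ?_⟩, ?_⟩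
        · calc x = ((q : A) * w) ^ q * x := by rw [hw, one_pow, one_mul]
            _ = w ^ q * ((q : A) ^ q * x) := by ring
            _ = w ^ q * y ^ q := by rw [hxy]
            _ = (w * y) ^ q := by ring
        · calc y = ((q : A) * w) * y := by rw [hw, one_mul]
            _ = (q : A) * (w * y) := by ring
        · rintro a' ⟨-, h2⟩
          calc a' = ((q : A) * w) * a' := by rw [hw, one_mul]
            _ = w * ((q : A) * a') := by ring
            _ = w * y := by rw [← h2]

end Groth.Agent.S8992
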