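import Groth.Statements.S9007
import Mathlib

set_option autoImplicit false
universe u
open FlatMor

namespace Groth.Agent.S9007

open CategoryTheory CategoryTheory.Limits AlgebraicGeometry in
/-- For a morphism f of compactifications of X over a quasi-compact quasi-separated S whose source
contains X as a dense open, the preimage under f of the image of X in the target is the image of X
in the source. -/
theorem result {X S : Scheme.{u}} [CompactSpace S] [QuasiSeparatedSpace S] (p : X ⟶ S) [IsSeparated p] [QuasiCompact p] [LocallyOfFiniteType p] {Y Y' : Scheme.{u}} (j : X ⟶ Y) (q : Y ⟶ S) [IsOpenImmersion j] [IsProper q] (h : j ≫ q = p) (j' : X ⟶ Y') (q' : Y' ⟶ S) [IsOpenImmersion j'] [IsProper q'] (h' : j' ≫ q' = p) (f : Y' ⟶ Y) (hf : f ≫ q = q') (hfj : j' ≫ f = j) (hd : Dense (Set.range j'.base)) : f ⁻¹ᵁ j.opensRange = j'.opensRange := by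
  haveI hsep : IsSeparated (f ≫ q) := by rw [hf]; infer_instance
  haveI : IsSeparated f := IsSeparated.of_comp f q
  apply le_antisymm
  · -- the hard inclusion
    have hrange : Set.range j' ⊆ Set.range (f ⁻¹ᵁ j.opensRange).ι := by
      rintro _ ⟨x, rfl⟩
      rw [Scheme.Opens.range_ι]
      show f (j' x) ∈ j.opensRange
      rw [← Scheme.Hom.comp_apply, hfj]
      exact ⟨x, rfl⟩
    let σ : X ⟶ (f ⁻¹ᵁ j.opensRange).toScheme :=
      IsOpenImmersion.lift (f ⁻¹ᵁ j.opensRange).ι j' hrange
    have hσ : σ ≫ (f ⁻¹ᵁ j.opensRange).ι = j' := IsOpenImmersion.lift_fac _ _ _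
    let r : (f ⁻¹ᵁ j.opensRange).toScheme ⟶ j.opensRange.toScheme := f ∣_ j.opensRange
    have hσr : σ ≫ r = j.isoOpensRange.hom := by
      rw [← cancel_mono j.opensRange.ι, Category.assoc, morphismRestrict_ι, ← Category.assoc,
        hσ, hfj, Scheme.Hom.isoOpensRange_hom_ι]
    haveI : IsClosedImmersion (σ ≫ r) := by rw [hσr]; infer_instance
    haveI : IsClosedImmersion σ := IsClosedImmersion.of_comp σ r
    haveI : IsDominant σ := by
      constructor
      rw [DenseRange, dense_iff_inter_open]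
      intro N hN hNne
      have hN' : IsOpen ((f ⁻¹ᵁ j.opensRange).ι '' N) :=
        (f ⁻¹ᵁ j.opensRange).ι.isOpenEmbedding.isOpenMap N hN
      obtain ⟨y, hyN, x, rfl⟩ := hd.inter_open_nonempty _ hN' (hNne.image _)
      obtain ⟨w, hwN, hw⟩ := hyN
      refine ⟨w, hwN, x, ?_⟩
      apply (f ⁻¹ᵁ j.opensRange).ι.isOpenEmbedding.injective
      rw [hw, ← Scheme.Hom.comp_apply, hσ]
    haveI : Surjective σ :=
      surjective_of_isDominant_of_isClosed_range σ σ.isClosedEmbedding.isClosed_range
    intro y hy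
    obtain ⟨x, hx⟩ := σ.surjective ⟨y, hy⟩
    refine ⟨x, ?_⟩
    have := congrArg (fun w => (f ⁻¹ᵁ j.opensRange).ι w) hx
    simp only [← Scheme.Hom.comp_apply, hσ] at this
    exact this
  · rintro _ ⟨x, rfl⟩
    show f (j' x) ∈ j.opensRange
    rw [← Scheme.Hom.comp_apply, hfj]
    exact ⟨x, rfl⟩

end Groth.Agent.S9007
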