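import Groth.Statements.S9089
import Mathlib

set_option autoImplicit false
universe u
open CategoryTheory Opposite
open ModSite

namespace Groth.Agent.S9089

/-- Part (1): ⇔ (2), for a ringed site (C, O) with C small and O a sheaf of commutative rings: the
following are equivalent. (1) For every object U and every section f of O over U there is a covering
sieve on U on each of whose arrows either f or 1 - f restricts to a unit. (2) For every object U,
every n ≥ 1 and all sections f₁, …, fₙ of O over U generating the unit ideal of O(U), there is a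
covering sieve on U on each of whose arrows some fᵢ restricts to a unit. -/
theorem result {C : Type u} [SmallCategory C] (J : GrothendieckTopology C)
    (O : Sheaf J CommRingCat.{u}) :
    (∀ (U : C) (f : O.obj.obj (op U)), ∃ S ∈ J U, ∀ ⦃V : C⦄ (g : V ⟶ U), S g →
        IsUnit ((O.obj.map g.op).hom f) ∨ IsUnit ((O.obj.map g.op).hom (1 - f))) ↔
    (∀ (U : C) (n : ℕ) (f : Fin n → O.obj.obj (op U)), 1 ≤ n → Ideal.span (Set.range f) = ⊤ →
        ∃ S ∈ J U, ∀ ⦃V : C⦄ (g : V ⟶ U), S g → ∃ i, IsUnit ((O.obj.map g.op).hom (f i))) := by
  constructor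
  · intro h1 U n
    induction n generalizing U with
    | zero => intro f hn; omega
    | succ n ih =>
      intro f _ hspan
      have h1mem : (1 : O.obj.obj (op U)) ∈ Ideal.span (Set.range f) := by rw [hspan]; trivial
      obtain ⟨c, hc⟩ := (Ideal.mem_span_range_iff_exists_fun).mp h1mem
      rcases Nat.eq_zero_or_pos n with hn0 | hnpos
      · subst hn0
        rw [Fin.sum_univ_one] at hc
        have hu : IsUnit (f 0) := ⟨⟨f 0, c 0, by rw [mul_comm]; exact hc, hc⟩, rfl⟩
        exact ⟨⊤, J.top_mem U, fun V g _ => ⟨0, hu.map _⟩⟩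
      · rw [Fin.sum_univ_castSucc] at hc
        set g := c (Fin.last n) * f (Fin.last n) with hg
        obtain ⟨S₁, hS₁, hS₁u⟩ := h1 U g
        have hP : ∀ (V : C) (h : V ⟶ U), S₁ h → ∃ T ∈ J V, ∀ (W : C) (k : W ⟶ V), T k →
            ∃ i, IsUnit ((O.obj.map (k ≫ h).op).hom (f i)) := by
          intro V h hh
          have hcomp : ∀ {W : C} (k : W ⟶ V) (x : O.obj.obj (op U)),
              (O.obj.map (k ≫ h).op).hom x = (O.obj.map k.op).hom ((O.obj.map h.op).hom x) := by
            intro W k x
            rw [op_comp, CategoryTheory.Functor.map_comp]; rfl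
          rcases hS₁u h hh with hu | hu
          · refine ⟨⊤, J.top_mem V, fun W k _ => ⟨Fin.last n, ?_⟩⟩
            rw [hcomp]
            have : IsUnit ((O.obj.map h.op).hom (f (Fin.last n))) := by
              rw [hg, map_mul] at hu
              exact isUnit_of_mul_isUnit_right hu
            exact this.map _
          · have hspan' : Ideal.span (Set.range
                (fun i : Fin n => (O.obj.map h.op).hom (f i.castSucc))) = ⊤ := by
              apply Ideal.eq_top_of_isUnit_mem _ _ hu
              have : (O.obj.map h.op).hom (1 - g) = ∑ i : Fin n,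
                  (O.obj.map h.op).hom (c i.castSucc) * (O.obj.map h.op).hom (f i.castSucc) := by
                rw [← hc, add_sub_cancel_right, map_sum]
                simp only [map_mul]
              rw [this]
              exact Ideal.sum_mem _ (fun i _ => Ideal.mul_mem_left _ _ (Ideal.subset_span ⟨i, rfl⟩))
            obtain ⟨T, hT, hTu⟩ :=
              ih V (fun i : Fin n => (O.obj.map h.op).hom (f i.castSucc)) hnpos hspan'
            refine ⟨T, hT, fun W k hk => ?_⟩
            obtain ⟨i, hi⟩ := hTu k hk
            exact ⟨i.castSucc, by rw [hcomp]; exact hi⟩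
        choose T hT hTu using hP
        refine ⟨Sieve.bind S₁ (fun {V} {h} hh => T V h hh),
          J.bind_covering hS₁ (fun {V} {h} hh => hT V h hh), ?_⟩
        rintro W _ ⟨V, k, h, hh, hk, rfl⟩
        exact hTu V h hh W k hk
  · intro h2 U f
    obtain ⟨S, hS, hSu⟩ := h2 U 2 ![f, 1 - f] (by norm_num) (by
      apply Ideal.eq_top_of_isUnit_mem _ _ isUnit_one
      have h : f + (1 - f) ∈ Ideal.span (Set.range ![f, 1 - f]) :=
        Ideal.add_mem _ (Ideal.subset_span ⟨0, rfl⟩) (Ideal.subset_span ⟨1, rfl⟩)
      have h' : f + (1 - f) = 1 := by ring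
      rwa [h'] at h)
    refine ⟨S, hS, fun V g hg => ?_⟩
    obtain ⟨i, hi⟩ := hSu g hg
    fin_cases i
    · left; simpa using hi
    · right; simpa using hi

end Groth.Agent.S9089
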