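import Groth.Statements.S9097
import Mathlib

set_option autoImplicit false
universe u
open CategoryTheory Opposite
open CohSite

namespace Groth.Agent.S9097

/-- If 0 → A → B → C → 0 is short exact in the category of abelian groups then, for every object U, the
sequence 0 → A̲(U) → B̲(U) → C̲(U) → 0 of sections of the constant abelian sheaves is short exact;
in other words the sequence of constant sheaves is exact even as a sequence of abelian presheaves.
The instance binder on the sections-of-constant-sheaf functor (it preserves zero morphisms) always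
holds and is only needed to form the complex. -/
theorem result {C : Type u} [SmallCategory C] (J : GrothendieckTopology C)
    (S : ShortComplex AddCommGrpCat.{u}) (hS : S.ShortExact) (U : C)
    [(constantSheaf J AddCommGrpCat.{u} ⋙ (sheafSections J AddCommGrpCat.{u}).obj (op U)).PreservesZeroMorphisms] :
    (S.map (constantSheaf J AddCommGrpCat.{u} ⋙ (sheafSections J AddCommGrpCat.{u}).obj (op U))).ShortExact := by
  classical
  set E := (sheafSections J AddCommGrpCat.{u}).obj (op U) with hE
  set G := constantSheaf J AddCommGrpCat.{u} ⋙ E with hG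
  haveI : Limits.PreservesFiniteLimits (constantSheaf J AddCommGrpCat.{u}) := by
    unfold constantSheaf
    exact Limits.comp_preservesFiniteLimits _ _
  haveI : Limits.PreservesLimits E :=
    Limits.preservesLimits_of_natIso
      (sheafSectionsNatIsoEvaluation (J := J) (A := AddCommGrpCat.{u}) (X := U)).symm
  haveI : Limits.PreservesFiniteLimits G := Limits.comp_preservesFiniteLimits _ _
  haveI : G.Additive := Functor.additive_of_preserves_binary_products G
  have hlim := (Functor.preservesFiniteLimits_tfae G).out 3 0
  have h7 : Limits.PreservesFiniteLimits G := inferInstance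
  obtain ⟨hex, hmono⟩ := hlim.mp h7 S hS
  have hepi : Epi (G.map S.g) := by
    have hg : Epi S.g := hS.epi_g
    have hsurj : Function.Surjective S.g.hom := (AddCommGrpCat.epi_iff_surjective S.g).mp hg
    obtain ⟨s, hs⟩ := hsurj.hasRightInverse
    let Et := (sheafSections J (Type u)).obj (op U)
    let e := Functor.isoWhiskerRight (constantCommuteCompose J (forget AddCommGrpCat.{u})) Et
    let σ : (forget AddCommGrpCat.{u}).obj S.X₃ ⟶ (forget AddCommGrpCat.{u}).obj S.X₂ :=
      TypeCat.ofHom s
    have hσ : σ ≫ (forget AddCommGrpCat.{u}).map S.g = 𝟙 _ := by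
      ext c; exact hs c
    have hnat := e.hom.naturality S.g
    have hsplit : ((constantSheaf J (Type u)) ⋙ Et).map σ ≫
        ((constantSheaf J (Type u)) ⋙ Et).map ((forget AddCommGrpCat.{u}).map S.g) = 𝟙 _ := by
      rw [← CategoryTheory.Functor.map_comp, hσ, CategoryTheory.Functor.map_id]
    haveI : IsSplitEpi (((constantSheaf J (Type u)) ⋙ Et).map
        ((forget AddCommGrpCat.{u}).map S.g)) := IsSplitEpi.mk' ⟨_, hsplit⟩
    have hmid : Epi (((forget AddCommGrpCat.{u} ⋙ constantSheaf J (Type u)) ⋙ Et).map S.g) :=
      (inferInstance : Epi (((constantSheaf J (Type u)) ⋙ Et).map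
        ((forget AddCommGrpCat.{u}).map S.g)))
    have hF1 : Epi (((constantSheaf J AddCommGrpCat.{u} ⋙
        sheafCompose J (forget AddCommGrpCat.{u})) ⋙ Et).map S.g) := by
      have : ((constantSheaf J AddCommGrpCat.{u} ⋙
          sheafCompose J (forget AddCommGrpCat.{u})) ⋙ Et).map S.g =
          e.hom.app S.X₂ ≫ ((forget AddCommGrpCat.{u} ⋙ constantSheaf J (Type u)) ⋙ Et).map S.g ≫
            e.inv.app S.X₃ := by
        rw [← Category.assoc, ← hnat, Category.assoc, Iso.hom_inv_id_app, Category.comp_id]
      rw [this]
      infer_instance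
    apply (forget AddCommGrpCat.{u}).epi_of_epi_map
    exact hF1
  exact ShortComplex.ShortExact.mk' hex hmono hepi

end Groth.Agent.S9097
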