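import Groth.Statements.S9109
import Mathlib

set_option autoImplicit false
universe u
open CategoryTheory CategoryTheory.Limits
open CohSite

namespace Groth.Agent.S9109

/-- Part (1): on a small site (C, J) with a point p: the skyscraper functor p_* from abelian groups to
abelian sheaves on C (right adjoint to the stalk functor at p; its value on A is the sheaf U ↦ ∏_{x
∈ p⁻¹U} A) is exact. As a right adjoint it preserves limits; the statement here is that it also
preserves finite colimits. -/
theorem result {C : Type u} [SmallCategory C] {J : GrothendieckTopology C}
    (p : GrothendieckTopology.Point.{u} J) :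
    PreservesFiniteColimits (p.skyscraperSheafFunctor (A := AddCommGrpCat.{u})) := by
  set F := p.skyscraperSheafFunctor (A := AddCommGrpCat.{u}) with hF
  haveI : PreservesLimits F := p.skyscraperSheafAdjunction.rightAdjoint_preservesLimits
  haveI : PreservesFiniteLimits F := inferInstance
  haveI : F.Additive := Functor.additive_of_preserves_binary_products F
  rw [Functor.preservesFiniteColimits_iff_forall_exact_map_and_epi]
  intro S hS
  have hepi : Epi (F.map S.g) := by
    have : Epi S.g := hS.epi_g
    apply (sheafToPresheaf J AddCommGrpCat.{u}).epi_of_epi_map
    change Epi (p.skyscraperPresheafFunctor.map S.g)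
    apply +allowSynthFailures NatTrans.epi_of_epi_app
    intro X
    rw [GrothendieckTopology.Point.skyscraperPresheafFunctor_map_app]
    haveI : PreservesFiniteColimits (lim : (Discrete (p.fiber.obj X.unop) ⥤ AddCommGrpCat.{u}) ⥤
        AddCommGrpCat.{u}) := HasExactLimitsOfShape.preservesFiniteColimits
    let α : (Discrete.functor fun _ : p.fiber.obj X.unop => S.X₂) ⟶
        (Discrete.functor fun _ : p.fiber.obj X.unop => S.X₃) := Discrete.natTrans fun _ => S.g
    haveI : Epi α := by
      apply +allowSynthFailures NatTrans.epi_of_epi_app
      intro Y
      change Epi S.g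
      infer_instance
    have h3 : Epi ((lim : (Discrete (p.fiber.obj X.unop) ⥤ AddCommGrpCat.{u}) ⥤
        AddCommGrpCat.{u}).map α) := inferInstance
    exact h3
  refine ⟨?_, hepi⟩
  have hlim := (Functor.preservesFiniteLimits_tfae F).out 3 0
  have h4 : PreservesFiniteLimits F := inferInstance
  exact (hlim.mp h4 S hS).1

end Groth.Agent.S9109
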