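import Groth.Statements.S9121
import Mathlib

set_option autoImplicit false
universe u
open CategoryTheory CategoryTheory.Limits
open CohSite

namespace Groth.Agent.S9121

/-- Part (1): for the morphism of topoi f : Sh(C) → Sh(D) attached to a continuous functor u : D ⥤ C
between small sites whose induced pullback of sheaves of sets is exact (f_* is restriction along u):
if f_* transforms epimorphisms of sheaves of sets into epimorphisms, then f_* on abelian sheaves is
exact; being a right adjoint it preserves finite limits, and the statement is that it also preserves
finite colimits. -/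
theorem result {C D : Type u} [SmallCategory C] [SmallCategory D]
    (J : GrothendieckTopology C) (K : GrothendieckTopology D) (u : D ⥤ C) [u.IsContinuous K J]
    [PreservesFiniteLimits (u.sheafPullback (Type u) K J)]
    [(u.sheafPushforwardContinuous (Type u) K J).PreservesEpimorphisms] :
    PreservesFiniteColimits (u.sheafPushforwardContinuous AddCommGrpCat.{u} K J) := by
  set F := u.sheafPushforwardContinuous AddCommGrpCat.{u} K J with hF
  haveI : PreservesLimits F :=
    (u.sheafAdjunctionContinuous AddCommGrpCat.{u} K J).rightAdjoint_preservesLimits
  haveI : PreservesFiniteLimits F := inferInstance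
  haveI : F.Additive := Functor.additive_of_preserves_binary_products F
  rw [Functor.preservesFiniteColimits_iff_forall_exact_map_and_epi]
  intro S hS
  have hepi : Epi (F.map S.g) := by
    have h0 : Epi S.g := hS.epi_g
    have h1 : Sheaf.IsLocallySurjective S.g := (Sheaf.isLocallySurjective_iff_epi' AddCommGrpCat.{u} S.g).mpr h0
    let ψ := (sheafCompose J (forget AddCommGrpCat.{u})).map S.g
    have h2 : Sheaf.IsLocallySurjective ψ :=
      (Presheaf.isLocallySurjective_iff_whisker_forget J S.g.hom).mp h1
    have h3 : Epi ψ := (Sheaf.isLocallySurjective_iff_epi ψ).mp h2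
    have h4 : Epi ((u.sheafPushforwardContinuous (Type u) K J).map ψ) := inferInstance
    have h5 : Sheaf.IsLocallySurjective ((u.sheafPushforwardContinuous (Type u) K J).map ψ) :=
      (Sheaf.isLocallySurjective_iff_epi _).mpr h4
    have h6 : Sheaf.IsLocallySurjective (F.map S.g) := by
      refine (Presheaf.isLocallySurjective_iff_whisker_forget K (F.map S.g).hom).mpr ?_
      exact h5
    exact (Sheaf.isLocallySurjective_iff_epi' AddCommGrpCat.{u} (F.map S.g)).mp h6
  refine ⟨?_, hepi⟩
  have hlim := (Functor.preservesFiniteLimits_tfae F).out 3 0
  have h7 : PreservesFiniteLimits F := inferInstance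
  exact (hlim.mp h7 S hS).1

end Groth.Agent.S9121
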