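import Groth.Statements.S9135
import Mathlib
import Groth.Agent.Lib.helper5.GenFiniteAlg

set_option autoImplicit false
universe u
open CAlg

namespace Groth.Agent.S9135

open Polynomial in
lemma h5_integral_of_nil (A T : Type u) [CommRing A] [CommRing T] [Algebra A T]
    [Algebra.FiniteType A T] (m : Ideal A) [hm : m.IsMaximal] (hnil : m ≤ nilradical A)
    [Finite (PrimeSpectrum T)] : Algebra.IsIntegral A T := by
  classical
  letI : Field (A ⧸ m) := Ideal.Quotient.field m
  let mT : Ideal T := m.map (algebraMap A T)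
  haveI : Algebra.FiniteType A (T ⧸ mT) :=
    Algebra.FiniteType.of_surjective (Ideal.Quotient.mkₐ A mT) Ideal.Quotient.mk_surjective
  haveI : Algebra.FiniteType (A ⧸ m) (T ⧸ mT) :=
    Algebra.FiniteType.of_restrictScalars_finiteType A (A ⧸ m) (T ⧸ mT)
  haveI : Finite (PrimeSpectrum (T ⧸ mT)) :=
    Finite.of_injective _ (PrimeSpectrum.comap_injective_of_surjective (Ideal.Quotient.mk mT)
      Ideal.Quotient.mk_surjective)
  haveI : Algebra.QuasiFinite (A ⧸ m) (T ⧸ mT) := by
    rw [Algebra.QuasiFinite.iff_finite_primesOver]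
    intro I _
    refine (Set.finite_range (PrimeSpectrum.asIdeal (R := T ⧸ mT))).subset ?_
    intro J hJ
    exact ⟨⟨J, hJ.1⟩, rfl⟩
  haveI : Module.Finite (A ⧸ m) (T ⧸ mT) := Module.Finite.of_quasiFinite
  have hmT : mT ≤ nilradical T := by
    rw [Ideal.map_le_iff_le_comap]
    intro x hx
    have h1 : IsNilpotent x := hnil hx
    exact h1.map (algebraMap A T)
  refine ⟨fun y => ?_⟩
  have hy : IsIntegral (A ⧸ m) (Ideal.Quotient.mk mT y) := Algebra.IsIntegral.isIntegral _
  obtain ⟨Pbar, hPm, hPy⟩ := hy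
  have hlift : Pbar ∈ Polynomial.lifts (Ideal.Quotient.mk m) := by
    rw [Polynomial.mem_lifts]
    exact Polynomial.map_surjective _ Ideal.Quotient.mk_surjective Pbar
  obtain ⟨P, hPmap, -, hPmonic⟩ := Polynomial.lifts_and_natDegree_eq_and_monic hlift hPm
  have h2 : Ideal.Quotient.mk mT (Polynomial.eval₂ (algebraMap A T) y P) = 0 := by
    rw [← hPy, ← hPmap, Polynomial.eval₂_map, Polynomial.hom_eval₂]
    rfl
  have h3 : Polynomial.eval₂ (algebraMap A T) y P ∈ nilradical T :=
    hmT (Ideal.Quotient.eq_zero_iff_mem.mp h2)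
  obtain ⟨N, hN⟩ := h3
  refine ⟨P ^ N, hPmonic.pow N, ?_⟩
  rw [Polynomial.eval₂_pow, hN]

open TensorProduct in
attribute [local instance] Algebra.TensorProduct.rightAlgebra in
theorem h5_main (R S : Type u) [CommRing R] [CommRing S]
    [Algebra R S] [Algebra.FiniteType R S] (p : Ideal R) (hp : p ∈ minimalPrimes R)
    (hfin : (p.primesOver S).Finite) :
    ∃ g : R, g ∉ p ∧ (Localization.awayMap (algebraMap R S) g).Finite := by
  classical
  haveI : p.IsPrime := Ideal.minimalPrimes_isPrime hp
  let A := Localization.AtPrime p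
  let T := A ⊗[R] S
  let M₀ := Algebra.algebraMapSubmonoid S p.primeCompl
  haveI : IsLocalization M₀ T := IsLocalization.tensorRight A p.primeCompl
  haveI : Finite (PrimeSpectrum T) := by
    have hinj := PrimeSpectrum.localization_comap_injective T M₀
    haveI := hfin.to_subtype
    have hmem : ∀ q' : PrimeSpectrum T,
        (PrimeSpectrum.comap (algebraMap S T) q').asIdeal ∈ p.primesOver S := by
      intro q'
      refine ⟨(PrimeSpectrum.comap (algebraMap S T) q').2, ⟨?_⟩⟩
      have hdisj : Disjoint (M₀ : Set S) ((PrimeSpectrum.comap (algebraMap S T) q').asIdeal : Set S) :=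
        ((IsLocalization.isPrime_iff_isPrime_disjoint M₀ T q'.asIdeal).mp q'.2).2
      have hle : ((PrimeSpectrum.comap (algebraMap S T) q').asIdeal).under R ≤ p := by
        intro r hr
        by_contra hrp
        exact Set.disjoint_left.mp hdisj ⟨r, hrp, rfl⟩ hr
      exact le_antisymm (hp.2 ⟨inferInstance, bot_le⟩ hle) hle
    exact Finite.of_injective (fun q' => (⟨_, hmem q'⟩ : ↥(p.primesOver S))) (by
      intro q₁ q₂ h
      apply hinj
      ext1
      exact congrArg Subtype.val h)
  let m := IsLocalRing.maximalIdeal A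
  have hnil : m ≤ nilradical A := by
    have h1 := IsLocalization.AtPrime.radical_map_of_mem_minimalPrimes (A := A) p ⊥ hp
    rw [Ideal.map_bot, IsLocalization.AtPrime.map_eq_maximalIdeal] at h1
    exact h1.symm.le
  haveI : Algebra.IsIntegral A T := h5_integral_of_nil A T m hnil
  obtain ⟨t, ht⟩ := (Algebra.FiniteType.out : (⊤ : Subalgebra R S).FG)
  have key : ∀ a : S, ∃ s : R, s ∉ p ∧ IsIntegral R (s • a) := by
    intro a
    have h1 : IsIntegral A (algebraMap S T a) := Algebra.IsIntegral.isIntegral _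
    obtain ⟨m₁, hm₁⟩ := IsIntegral.exists_multiple_integral_of_isLocalization p.primeCompl _ h1
    have h2 : IsIntegral R (algebraMap S T ((m₁ : R) • a)) := by
      have h3 : algebraMap S T ((m₁ : R) • a) = m₁ • algebraMap S T a := by
        rw [Submonoid.smul_def]
        exact map_smul (IsScalarTower.toAlgHom R S T) (m₁ : R) a
      rw [h3]
      exact hm₁
    obtain ⟨m₂, hm₂, hm₂int⟩ :=
      IsLocalization.exists_isIntegral_smul_of_isIntegral_map (Sₘ := T) p.primeCompl h2
    exact ⟨m₂ * m₁, p.primeCompl.mul_mem hm₂ m₁.2, by rw [mul_smul]; exact hm₂int⟩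
  choose s hsp hsint using key
  refine ⟨∏ a ∈ t, s a, ?_, ?_⟩
  · intro h
    obtain ⟨a, _, ha⟩ := (Ideal.IsPrime.prod_mem_iff).mp h
    exact hsp a ha
  · exact H5GenFinite.finite_away_map (∏ a ∈ t, s a) t ht (fun a ha =>
      ⟨s a, Finset.dvd_prod_of_mem s ha, hsint a⟩)

/-- Let R → S be of finite type and p a minimal prime of R over which only finitely many primes of S
lie. Then for some g ∈ R outside p the localized map R_g → S_g is finite. -/
theorem result (R S : Type u) [CommRing R] [CommRing S]
    [Algebra R S] [Algebra.FiniteType R S] (p : Ideal R) (hp : p ∈ minimalPrimes R)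
    (hfin : (p.primesOver S).Finite) :
    ∃ g : R, g ∉ p ∧ (Localization.awayMap (algebraMap R S) g).Finite := by
  exact h5_main R S p hp hfin

end Groth.Agent.S9135
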