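import Groth.Statements.S9139
import Groth.Agent.Lib.helper5.NilSurj
import Mathlib

set_option autoImplicit false
universe u
open CAlg

namespace Groth.Agent.S9139

theorem result (R S S' : Type u) [CommRing R] [CommRing S]
    [CommRing S'] [Algebra R S] [Algebra R S'] [Algebra.FiniteType R S'] (I : Ideal R)
    (hI : ∀ x ∈ I, IsNilpotent x) (f : S →ₐ[R] S')
    (hf : Function.Surjective ((Ideal.Quotient.mk (I.map (algebraMap R S'))).comp f.toRingHom)) :
    Function.Surjective f :=
  Groth.Agent.Lib.helper5.h5_surjective_of_surjective_mod_nil R S S' I hI f hf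

end Groth.Agent.S9139
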