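import Groth.Statements.S9140
import Groth.Agent.Lib.helper5.NilSurj
import Mathlib

set_option autoImplicit false
universe u
open CAlg

namespace Groth.Agent.S9140

theorem ker_le {R S S' : Type u} [CommRing R] [CommRing S] [CommRing S'] [Algebra R S]
    [Algebra R S'] [Module.Flat R S'] (I : Ideal R) (f : S →ₐ[R] S')
    (hf : Function.Surjective f) (k : S) (hk : f k = 0)
    (hkI : k ∈ I.map (algebraMap R S)) :
    k ∈ I.map (algebraMap R S) * RingHom.ker f.toRingHom := by
  classical
  have h1 : k ∈ I • (⊤ : Submodule R S) := by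
    rw [Ideal.smul_top_eq_map]; exact hkI
  have h2 : (⊤ : Submodule R S) = Submodule.span R (Set.range (id : S → S)) := by
    rw [Set.range_id, Submodule.span_univ]
  rw [h2, Submodule.mem_ideal_smul_span_iff_exists_sum] at h1
  obtain ⟨a, ha, hak⟩ := h1
  simp only [id] at hak
  -- index type
  let c : a.support → R := fun i => a i.1
  let x : a.support → S' := fun i => f i.1
  have hsum : ∑ i : a.support, c i • (i.1 : S) = k := by
    rw [← hak, Finsupp.sum]
    exact Finset.sum_coe_sort a.support (fun s => a s • s)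
  have hrel : ∑ i, c i • x i = 0 := by
    have : f (∑ i : a.support, c i • (i.1 : S)) = ∑ i, c i • x i := by
      rw [map_sum]; exact Finset.sum_congr rfl fun i _ => map_smul _ _ _
    rw [← this, hsum, hk]
  obtain ⟨m, b, y, hxy, hcb⟩ :=
    Module.Flat.isTrivialRelation_of_sum_smul_eq_zero (R := R) (M := S') (f := c) (x := x) hrel
  choose w hw using fun j => hf (y j)
  have hdecomp : k = ∑ i : a.support, c i • ((i.1 : S) - ∑ j, b i j • w j) := by
    have e1 : ∑ i : a.support, c i • ((i.1 : S) - ∑ j, b i j • w j) =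
        ∑ i : a.support, c i • (i.1 : S) - ∑ i : a.support, c i • ∑ j, b i j • w j := by
      rw [← Finset.sum_sub_distrib]
      exact Finset.sum_congr rfl fun i _ => smul_sub _ _ _
    have e2 : ∑ i : a.support, c i • ∑ j, b i j • w j = 0 := by
      simp_rw [Finset.smul_sum, ← mul_smul]
      rw [Finset.sum_comm]
      apply Finset.sum_eq_zero
      intro j _
      rw [← Finset.sum_smul, hcb j, zero_smul]
    rw [e1, e2, sub_zero, hsum]
  rw [hdecomp]
  apply Ideal.sum_mem
  intro i _
  rw [Algebra.smul_def]
  apply Ideal.mul_mem_mul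
  · exact Ideal.mem_map_of_mem _ (ha i.1)
  · rw [RingHom.mem_ker]
    show f ((i.1 : S) - ∑ j, b i j • w j) = 0
    rw [map_sub, map_sum]
    have : ∀ j, f (b i j • w j) = b i j • y j := fun j => by rw [map_smul, hw j]
    simp_rw [this]
    rw [← hxy i, sub_self]

theorem result (R S S' : Type u)
    [CommRing R] [CommRing S] [CommRing S'] [Algebra R S] [Algebra R S'] [Algebra.FiniteType R S]
    [Algebra.FinitePresentation R S'] [Module.Flat R S'] (I : Ideal R) (hI : ∀ x ∈ I, IsNilpotent x)
    (f : S →ₐ[R] S')
    (hsurj : Function.Surjective ((Ideal.Quotient.mk (I.map (algebraMap R S'))).comp f.toRingHom))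
    (hker : ∀ s : S, f s ∈ I.map (algebraMap R S') → s ∈ I.map (algebraMap R S)) :
    Function.Bijective f := by
  have hsurj' : Function.Surjective f :=
    Groth.Agent.Lib.helper5.h5_surjective_of_surjective_mod_nil R S S' I hI f hsurj
  refine ⟨?_, hsurj'⟩
  set K : Ideal S := RingHom.ker f.toRingHom with hK
  have hKfg : K.FG := by
    obtain ⟨n, g, hg⟩ := Algebra.FiniteType.iff_quotient_mvPolynomial''.mp ‹Algebra.FiniteType R S›
    have h1 := (Algebra.FinitePresentation.ker_fg_of_mvPolynomial (f.comp g) (hsurj'.comp hg)).map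
      g.toRingHom
    convert h1
    simp_rw [hK, RingHom.ker_eq_comap_bot, AlgHom.toRingHom_eq_coe, AlgHom.comp_toRingHom]
    rw [← Ideal.comap_comap, Ideal.map_comap_of_surjective (g : MvPolynomial (Fin n) R →+* S) hg]
  have hKle : K ≤ I.map (algebraMap R S) • K := by
    intro k hk
    have hk0 : f k = 0 := hk
    have hkI : k ∈ I.map (algebraMap R S) := hker k (by rw [hk0]; exact zero_mem _)
    exact ker_le I f hsurj' k hk0 hkI
  have hJ : I.map (algebraMap R S) ≤ (⊥ : Ideal S).jacobson := by
    refine le_trans ?_ (Ideal.radical_le_jacobson (I := (⊥ : Ideal S)))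
    rw [Ideal.map_le_iff_le_comap]
    intro a ha
    rw [Ideal.mem_comap]
    have : IsNilpotent (algebraMap R S a) := (hI a ha).map _
    exact (mem_nilradical).mpr this
  have hbot : K = ⊥ := Submodule.eq_bot_of_le_smul_of_le_jacobson_bot _ K hKfg hKle hJ
  exact (RingHom.injective_iff_ker_eq_bot f.toRingHom).mpr hbot

end Groth.Agent.S9140
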