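import Groth.Statements.S9157
import Mathlib

set_option autoImplicit false
universe u
open CAlg

namespace Groth.Agent.S9157

open Submodule in
/-- a submodule whose localization is f.g. contains a f.g. submodule with the same localization -/
lemma h5_fg_sub (R : Type u) [CommRing R] (S : Submonoid R) (P : Type u) [AddCommGroup P]
    [Module R P] (N : Submodule R P)
    (hN : (N.localized' (Localization S) S (LocalizedModule.mkLinearMap S P)).FG) :
    ∃ N₀ : Submodule R P, N₀ ≤ N ∧ N₀.FG ∧
      N₀.localized' (Localization S) S (LocalizedModule.mkLinearMap S P) =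
        N.localized' (Localization S) S (LocalizedModule.mkLinearMap S P) := by
  classical
  obtain ⟨G, hG⟩ := hN
  have hmem : ∀ y ∈ G, ∃ m ∈ N, ∃ s : S,
      IsLocalizedModule.mk' (LocalizedModule.mkLinearMap S P) m s = y := by
    intro y hy
    have : y ∈ N.localized' (Localization S) S (LocalizedModule.mkLinearMap S P) := by
      rw [← hG]
      exact subset_span hy
    exact this
  choose! m hmN s hs using hmem
  refine ⟨span R (m '' (G : Set _)), ?_, ?_, ?_⟩
  · rw [span_le]
    rintro _ ⟨y, hy, rfl⟩
    exact hmN y hy
  · exact ⟨G.image m, by rw [Finset.coe_image]⟩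
  · apply le_antisymm
    · rw [localized'_span]
      rw [span_le]
      rintro _ ⟨_, ⟨y, hy, rfl⟩, rfl⟩
      exact ⟨m y, hmN y hy, 1, by simp⟩
    · rw [← hG, span_le]
      intro y hy
      rw [localized'_span]
      have h1 : (s y : R) • y = LocalizedModule.mkLinearMap S P (m y) := by
        have h0 := IsLocalizedModule.mk'_cancel' (LocalizedModule.mkLinearMap S P) (m y) (s y)
        rw [hs y hy] at h0
        exact h0
      have hu : IsUnit (algebraMap R (Localization S) (s y)) := IsLocalization.map_units _ (s y)
      have h2 : y = (↑hu.unit⁻¹ : Localization S) • (LocalizedModule.mkLinearMap S P (m y)) := by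
        rw [← h1, ← algebraMap_smul (Localization S) (s y : R) y, smul_smul, IsUnit.val_inv_mul,
          one_smul]
      rw [h2]
      exact smul_mem _ _ (subset_span ⟨m y, ⟨y, hy, rfl⟩, rfl⟩)

open Submodule in
theorem h5_main (R : Type u) [CommRing R] (S : Submonoid R)
    (M : Type u) [AddCommGroup M] [Module R M]
    [Module.FinitePresentation (Localization S) (LocalizedModule S M)] :
    ∃ (M' : Type u) (_ : AddCommGroup M') (_ : Module R M') (φ : M' →ₗ[R] M),
      Module.FinitePresentation R M' ∧ Function.Bijective (LocalizedModule.map S φ) := by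
  classical
  obtain ⟨n, s, hs⟩ := Module.Finite.exists_fin (R := Localization S) (M := LocalizedModule S M)
  have hx : ∀ i, ∃ (x : M) (t : S), LocalizedModule.mk x t = s i := fun i => by
    induction' h : s i using LocalizedModule.induction_on with x t
    exact ⟨x, t, rfl⟩
  choose x t hxt using hx
  have hspan : span (Localization S) (Set.range fun i => LocalizedModule.mk (x i) (1 : S)) = ⊤ := by
    rw [eq_top_iff, ← hs, span_le]
    rintro _ ⟨i, rfl⟩
    rw [← hxt i]
    have h1 : LocalizedModule.mk (x i) (t i) =
        (Localization.mk 1 (t i)) • LocalizedModule.mk (x i) (1 : S) := by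
      rw [LocalizedModule.mk_smul_mk, one_smul, mul_one]
    rw [h1]
    exact smul_mem _ _ (subset_span ⟨i, rfl⟩)
  let F := Fin n → R
  let π₀ : F →ₗ[R] M := Fintype.linearCombination R x
  let πS : LocalizedModule S F →ₗ[Localization S] LocalizedModule S M := LocalizedModule.map S π₀
  have hπS : Function.Surjective πS := by
    rw [← LinearMap.range_eq_top, eq_top_iff, ← hspan, span_le]
    rintro _ ⟨i, rfl⟩
    refine ⟨LocalizedModule.mk (Pi.single i 1) 1, ?_⟩
    change LocalizedModule.map S π₀ _ = _
    rw [LocalizedModule.map_mk]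
    congr 1
    change Fintype.linearCombination R x (Pi.single i 1) = x i
    rw [Fintype.linearCombination_apply_single, one_smul]
  have hker : (LinearMap.ker πS).FG := Module.FinitePresentation.fg_ker πS hπS
  let mkF := LocalizedModule.mkLinearMap S F
  have hker' : (LinearMap.ker π₀).localized' (Localization S) S mkF = LinearMap.ker πS :=
    LinearMap.localized'_ker_eq_ker_localizedMap (Localization S) S mkF
      (LocalizedModule.mkLinearMap S M) π₀
  obtain ⟨K₀, hK₀le, hK₀fg, hK₀eq⟩ := h5_fg_sub R S F (LinearMap.ker π₀) (by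
    rw [hker']
    exact hker)
  let φ : (F ⧸ K₀) →ₗ[R] M := K₀.liftQ π₀ hK₀le
  refine ⟨F ⧸ K₀, inferInstance, inferInstance, φ, ?_, ?_, ?_⟩
  · exact Module.finitePresentation_of_free_of_surjective K₀.mkQ K₀.mkQ_surjective (by
      rw [ker_mkQ]
      exact hK₀fg)
  · rw [injective_iff_map_eq_zero]
    intro z hz
    induction' z using LocalizedModule.induction_on with m' sd
    obtain ⟨v, rfl⟩ := K₀.mkQ_surjective m'
    rw [LocalizedModule.map_mk] at hz
    have hφ : φ (K₀.mkQ v) = π₀ v := rfl
    rw [hφ] at hz
    have h1 : LocalizedModule.mk v sd ∈ LinearMap.ker πS := by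
      rw [LinearMap.mem_ker]
      change LocalizedModule.map S π₀ _ = 0
      rw [LocalizedModule.map_mk]
      exact hz
    rw [← hker', ← hK₀eq] at h1
    obtain ⟨k, hk, td, hkt⟩ := h1
    rw [← IsLocalizedModule.mk_eq_mk'] at hkt
    obtain ⟨u, hu⟩ := LocalizedModule.mk_eq.mp hkt
    simp only [Submonoid.smul_def] at hu
    have h2 : ((u : R) * (td : R)) • K₀.mkQ v = 0 := by
      rw [← map_smul, mkQ_apply, Quotient.mk_eq_zero, mul_smul, ← hu]
      exact K₀.smul_mem _ (K₀.smul_mem _ hk)
    rw [← LocalizedModule.zero_mk 1, LocalizedModule.mk_eq]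
    refine ⟨u * td, ?_⟩
    simp only [Submonoid.smul_def, Submonoid.coe_mul, one_smul, smul_zero]
    exact h2
  · intro y
    obtain ⟨w, hw⟩ := hπS y
    induction' w using LocalizedModule.induction_on with v sd
    refine ⟨LocalizedModule.mk (K₀.mkQ v) sd, ?_⟩
    rw [LocalizedModule.map_mk, ← hw]
    change _ = LocalizedModule.map S π₀ _
    rw [LocalizedModule.map_mk]
    rfl

/-- If the localization S⁻¹M of an R-module M is finitely presented over S⁻¹R, then some finitely
presented R-module M' maps to M inducing an isomorphism S⁻¹M' → S⁻¹M. -/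
theorem result (R : Type u) [CommRing R] (S : Submonoid R)
    (M : Type u) [AddCommGroup M] [Module R M]
    [Module.FinitePresentation (Localization S) (LocalizedModule S M)] :
    ∃ (M' : Type u) (_ : AddCommGroup M') (_ : Module R M') (φ : M' →ₗ[R] M),
      Module.FinitePresentation R M' ∧ Function.Bijective (LocalizedModule.map S φ) := by
  exact h5_main R S M

end Groth.Agent.S9157
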