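import Groth.Statements.S9160
import Mathlib

set_option autoImplicit false
universe u
open CAlg

namespace Groth.Agent.S9160

/-- In a semi-local Noetherian ring of dimension one, for nonzerodivisors a and b the length of R/(ab)
is the sum of the lengths of R/(a) and R/(b), and these lengths are finite. -/
theorem result (R : Type u) [CommRing R] [IsNoetherianRing R]
    (hsemi : Finite (MaximalSpectrum R)) (hdim : ringKrullDim R = 1) (a b : R) (ha : IsRegular a)
    (hb : IsRegular b) :
    Module.length R (R ⧸ Ideal.span ({a * b} : Set R)) =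
        Module.length R (R ⧸ Ideal.span ({a} : Set R)) + Module.length R (R ⧸ Ideal.span ({b} : Set R)) ∧
      Module.length R (R ⧸ Ideal.span ({a} : Set R)) ≠ ⊤ ∧
      Module.length R (R ⧸ Ideal.span ({b} : Set R)) ≠ ⊤ := by
  have hab_le_a : Ideal.span ({a * b} : Set R) ≤ Ideal.span {a} := by
    rw [Ideal.span_le, Set.singleton_subset_iff]
    exact Ideal.mem_span_singleton'.mpr ⟨b, by ring⟩
  have hmap : Ideal.span ({b} : Set R) ≤
      Submodule.comap (LinearMap.mulLeft R a) (Ideal.span {a * b}) := by
    intro x hx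
    obtain ⟨c, rfl⟩ := Ideal.mem_span_singleton'.mp hx
    rw [Submodule.mem_comap, LinearMap.mulLeft_apply]
    exact Ideal.mem_span_singleton'.mpr ⟨c, by ring⟩
  obtain ⟨f, hf⟩ : ∃ f : (R ⧸ Ideal.span ({b} : Set R)) →ₗ[R] (R ⧸ Ideal.span ({a * b} : Set R)),
      ∀ x : R, f (Ideal.Quotient.mk _ x) = Ideal.Quotient.mk _ (a * x) :=
    ⟨Submodule.mapQ _ _ (LinearMap.mulLeft R a) hmap, fun x => rfl⟩
  have hfinj : Function.Injective f := by
    rw [← LinearMap.ker_eq_bot, eq_bot_iff]
    intro y hy
    obtain ⟨x, rfl⟩ := Ideal.Quotient.mk_surjective y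
    rw [LinearMap.mem_ker, hf x, Ideal.Quotient.eq_zero_iff_mem] at hy
    obtain ⟨c, hc⟩ := Ideal.mem_span_singleton'.mp hy
    have hxc : x = c * b := ha.left (by
      show a * x = a * (c * b)
      rw [← hc]; ring)
    rw [Submodule.mem_bot, Ideal.Quotient.eq_zero_iff_mem, hxc]
    exact Ideal.mem_span_singleton'.mpr ⟨c, rfl⟩
  have hexact : Function.Exact f (Submodule.factor hab_le_a) := by
    intro y
    obtain ⟨x, rfl⟩ := Ideal.Quotient.mk_surjective y
    have hgx : Submodule.factor hab_le_a (Ideal.Quotient.mk _ x) = Ideal.Quotient.mk _ x :=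
      Submodule.factor_mk hab_le_a x
    rw [hgx, Ideal.Quotient.eq_zero_iff_mem]
    constructor
    · intro hx
      obtain ⟨c, rfl⟩ := Ideal.mem_span_singleton'.mp hx
      exact ⟨Ideal.Quotient.mk _ c, by rw [hf c, mul_comm a c]⟩
    · rintro ⟨z, hz⟩
      obtain ⟨c, rfl⟩ := Ideal.Quotient.mk_surjective z
      rw [hf c] at hz
      have h1 : a * c - x ∈ Ideal.span ({a * b} : Set R) := (Ideal.Quotient.eq).mp hz
      have h2 := hab_le_a h1
      have h3 : a * c ∈ Ideal.span ({a} : Set R) :=
        Ideal.mem_span_singleton'.mpr ⟨c, mul_comm _ _⟩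
      have h4 := (Ideal.span ({a} : Set R)).sub_mem h3 h2
      simpa using h4
  have hadd := Module.length_eq_add_of_exact f (Submodule.factor hab_le_a) hfinj
    (Submodule.factor_surjective _) hexact
  have hfinite : ∀ c : R, IsRegular c →
      Module.length R (R ⧸ Ideal.span ({c} : Set R)) ≠ ⊤ := by
    intro c hc
    have hcnzd : c ∈ nonZeroDivisors R := hc.mem_nonZeroDivisors
    have hsurj : Function.Surjective (Ideal.Quotient.mk (Ideal.span ({c} : Set R))) :=
      Ideal.Quotient.mk_surjective
    have hdim0 : Ring.KrullDimLE 0 (R ⧸ Ideal.span ({c} : Set R)) := by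
      rw [Ring.krullDimLE_zero_iff]
      intro Q hQ
      have hqprime' : (Q.comap (Ideal.Quotient.mk (Ideal.span ({c} : Set R)))).IsPrime :=
        Ideal.comap_isPrime _ _
      obtain ⟨q, hq⟩ : ∃ q, q = Q.comap (Ideal.Quotient.mk (Ideal.span ({c} : Set R))) :=
        ⟨_, rfl⟩
      have hqprime : q.IsPrime := by rw [hq]; exact hqprime'
      have hcq : c ∈ q := by
        rw [hq, Ideal.mem_comap, Ideal.Quotient.eq_zero_iff_mem.mpr (Ideal.subset_span (Set.mem_singleton c))]
        exact Q.zero_mem
      have hqmax : q.IsMaximal := by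
        obtain ⟨m, hm, hqm⟩ := Ideal.exists_le_maximal q hqprime.ne_top
        by_contra hnot
        have hne : q ≠ m := fun h => hnot (h ▸ hm)
        have hlt : q < m := lt_of_le_of_ne hqm hne
        obtain ⟨p0, hp0, hp0q⟩ := Ideal.exists_minimalPrimes_le (bot_le : (⊥ : Ideal R) ≤ q)
        have hp0prime : p0.IsPrime := hp0.1.1
        have hcp0 : c ∉ p0 := fun h => Set.disjoint_left.mp
          (Ideal.disjoint_nonZeroDivisors_of_mem_minimalPrimes hp0) h hcnzd
        have hlt0 : p0 < q := lt_of_le_of_ne hp0q (fun h => hcp0 (h ▸ hcq))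
        have hmprime : m.IsPrime := hm.isPrime
        have h1 := Ideal.height_add_one_le_of_lt_of_isPrime hlt0
        have h2 := Ideal.height_add_one_le_of_lt_of_isPrime hlt
        have h3 : (m.height : WithBot ℕ∞) ≤ ringKrullDim R :=
          Ideal.height_le_ringKrullDim_of_ne_top hmprime.ne_top
        rw [hdim] at h3
        have h4 : m.height ≤ 1 := by exact_mod_cast h3
        have h5 : (2 : ℕ∞) ≤ m.height := by
          calc (2 : ℕ∞) = 0 + 1 + 1 := by norm_num
            _ ≤ p0.height + 1 + 1 := by gcongr; exact zero_le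
            _ ≤ q.height + 1 := by gcongr
            _ ≤ m.height := h2
        exact absurd (h5.trans h4) (by norm_num)
      have hQeq : Q = q.map (Ideal.Quotient.mk (Ideal.span ({c} : Set R))) := by
        rw [hq, Ideal.map_comap_of_surjective _ hsurj]
      rcases Ideal.map_eq_top_or_isMaximal_of_surjective _ hsurj hqmax with h | h
      · exact absurd (hQeq.trans h) hQ.ne_top
      · rw [hQeq]; exact h
    have hart : IsArtinianRing (R ⧸ Ideal.span ({c} : Set R)) :=
      isArtinianRing_iff_krullDimLE_zero.mpr hdim0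
    rw [Module.length_eq_of_surjective (S := R) (R := R ⧸ Ideal.span ({c} : Set R))
      Ideal.Quotient.mk_surjective]
    exact Module.length_ne_top
  refine ⟨?_, hfinite a ha, hfinite b hb⟩
  rw [hadd, add_comm]

end Groth.Agent.S9160
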