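import Groth.Statements.S9161
import Mathlib

set_option autoImplicit false
universe u

namespace Groth.Agent.S9161

theorem result (R : Type u) [CommRing R]
    (A₁ A₀ B₁ B₀ : Type u) [AddCommGroup A₁] [Module R A₁] [AddCommGroup A₀] [Module R A₀]
    [AddCommGroup B₁] [Module R B₁] [AddCommGroup B₀] [Module R B₀]
    (dA : A₁ →ₗ[R] A₀) (dB : B₁ →ₗ[R] B₀) (φ₁ : A₁ →ₗ[R] B₁) (φ₀ : A₀ →ₗ[R] B₀)
    (ψ₁ : B₁ →ₗ[R] A₁) (ψ₀ : B₀ →ₗ[R] A₀) (hφ : dB ∘ₗ φ₁ = φ₀ ∘ₗ dA) (hψ : dA ∘ₗ ψ₁ = ψ₀ ∘ₗ dB)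
    (h : A₀ →ₗ[R] A₁) (hh₁ : LinearMap.id - ψ₁ ∘ₗ φ₁ = h ∘ₗ dA) (hh₀ : LinearMap.id - ψ₀ ∘ₗ φ₀ = dA ∘ₗ h)
    (h' : B₀ →ₗ[R] B₁) (hh'₁ : LinearMap.id - φ₁ ∘ₗ ψ₁ = h' ∘ₗ dB)
    (hh'₀ : LinearMap.id - φ₀ ∘ₗ ψ₀ = dB ∘ₗ h') :
    Nonempty ((A₁ × B₀) ≃ₗ[R] (B₁ × A₀)) := by
  have e1 : ∀ a, dB (φ₁ a) = φ₀ (dA a) := fun a => LinearMap.congr_fun hφ a
  have e2 : ∀ b, dA (ψ₁ b) = ψ₀ (dB b) := fun b => LinearMap.congr_fun hψ b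
  have e3 : ∀ a, a - ψ₁ (φ₁ a) = h (dA a) := fun a => LinearMap.congr_fun hh₁ a
  have e4 : ∀ a, a - ψ₀ (φ₀ a) = dA (h a) := fun a => LinearMap.congr_fun hh₀ a
  have e5 : ∀ b, b - φ₁ (ψ₁ b) = h' (dB b) := fun b => LinearMap.congr_fun hh'₁ b
  have e6 : ∀ b, b - φ₀ (ψ₀ b) = dB (h' b) := fun b => LinearMap.congr_fun hh'₀ b
  -- the two maps
  let G : (A₁ × B₀) →ₗ[R] (B₁ × A₀) := (φ₁.prod (-dA)).coprod (h'.prod ψ₀)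
  let F : (B₁ × A₀) →ₗ[R] (A₁ × B₀) := (ψ₁.prod dB).coprod ((-h).prod φ₀)
  have hG : ∀ x : A₁ × B₀, G x = (φ₁ x.1 + h' x.2, -dA x.1 + ψ₀ x.2) := by
    intro x; simp [G]
  have hF : ∀ y : B₁ × A₀, F y = (ψ₁ y.1 - h y.2, dB y.1 + φ₀ y.2) := by
    intro y; simp [F, sub_eq_add_neg]
  have hFG : ∀ x : A₁ × B₀, F (G x) = (x.1 + (ψ₁ (h' x.2) - h (ψ₀ x.2)), x.2) := by
    intro x
    rw [hG, hF]
    ext
    · simp only [map_add, map_neg]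
      have := e3 x.1
      rw [← this]; abel
    · simp only [map_add, map_neg]
      have := e6 x.2
      rw [e1]
      have h2 : dB (h' x.2) = x.2 - φ₀ (ψ₀ x.2) := (e6 x.2).symm
      rw [h2]; abel
  have hGF : ∀ y : B₁ × A₀, G (F y) = (y.1 + (h' (φ₀ y.2) - φ₁ (h y.2)), y.2) := by
    intro y
    rw [hF, hG]
    ext
    · simp only [map_add, map_sub]
      have h2 : h' (dB y.1) = y.1 - φ₁ (ψ₁ y.1) := (e5 y.1).symm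
      rw [h2]; abel
    · simp only [map_add, map_sub]
      have h2 : dA (h y.2) = y.2 - ψ₀ (φ₀ y.2) := (e4 y.2).symm
      rw [h2, e2]; abel
  refine ⟨LinearEquiv.ofBijective G ⟨?_, ?_⟩⟩
  · rw [← LinearMap.ker_eq_bot, LinearMap.ker_eq_bot']
    intro x hx
    have := hFG x
    rw [hx, map_zero] at this
    have h2 : x.2 = 0 := (congrArg Prod.snd this).symm
    have h1 := (congrArg Prod.fst this).symm
    simp only [h2, map_zero, sub_self, add_zero] at h1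
    exact Prod.ext h1 h2
  · intro y
    refine ⟨F (y.1 - (h' (φ₀ y.2) - φ₁ (h y.2)), y.2), ?_⟩
    rw [hGF]
    ext <;> simp

end Groth.Agent.S9161
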