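import Groth.Statements.S9163
import Mathlib

set_option autoImplicit false
universe u
open CAlg

namespace Groth.Agent.S9163

/-- If S is integral over R, then any finitely many elements of R and of S lie in a pair R₀ ⊆ R, S₀ ⊆ S
with R₀ a finite type ℤ-subalgebra, S₀ an R₀-subalgebra of S, and S₀ finite as an R₀-module; so R →
S is the directed colimit of finite maps between finite type ℤ-algebras. -/
theorem result (R S : Type u) [CommRing R] [CommRing S] [Algebra R S]
    [Algebra.IsIntegral R S] (E : Finset R) (F : Finset S) :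
    ∃ (R₀ : Subalgebra ℤ R) (S₀ : Subalgebra R₀ S), Algebra.FiniteType ℤ R₀ ∧ (E : Set R) ⊆ R₀ ∧
      (F : Set S) ⊆ S₀ ∧ Module.Finite R₀ S₀ := by
  classical
  have hint : ∀ s : S, ∃ p : Polynomial R, p.Monic ∧ Polynomial.eval₂ (algebraMap R S) s p = 0 :=
    fun s => Algebra.IsIntegral.isIntegral s
  choose p hpm hp0 using hint
  let gens : Finset R := E ∪ F.biUnion (fun s => (p s).coeffs)
  let R₀ : Subalgebra ℤ R := Algebra.adjoin ℤ (gens : Set R)
  have hgens : ∀ x ∈ gens, x ∈ R₀ := fun x hx => Algebra.subset_adjoin (Finset.mem_coe.mpr hx)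
  refine ⟨R₀, Algebra.adjoin R₀ (F : Set S), ?_, ?_, Algebra.subset_adjoin, ?_⟩
  · exact (Subalgebra.fg_iff_finiteType _).mp (Subalgebra.fg_adjoin_finset gens)
  · intro x hx
    exact hgens x (Finset.mem_union_left _ (Finset.mem_coe.mp hx))
  · have hFint : ∀ s ∈ (F : Set S), IsIntegral R₀ s := by
      intro s hs
      have hl : p s ∈ Polynomial.lifts (algebraMap R₀ R) := by
        rw [Polynomial.lifts_iff_coeff_lifts]
        intro n
        by_cases hn : (p s).coeff n = 0
        · exact ⟨0, by rw [hn, map_zero]⟩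
        · have hmem : (p s).coeff n ∈ R₀ := hgens _ (Finset.mem_union_right _
            (Finset.mem_biUnion.mpr ⟨s, Finset.mem_coe.mp hs, Polynomial.coeff_mem_coeffs hn⟩))
          exact ⟨⟨_, hmem⟩, rfl⟩
      obtain ⟨q, hq1, -, hq2⟩ := Polynomial.lifts_and_natDegree_eq_and_monic hl (hpm s)
      refine ⟨q, hq2, ?_⟩
      rw [IsScalarTower.algebraMap_eq R₀ R S, ← Polynomial.eval₂_map, hq1]
      exact hp0 s
    exact Algebra.finite_adjoin_of_finite_of_isIntegral F.finite_toSet hFint

end Groth.Agent.S9163
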