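import Groth.Statements.S9177
import Mathlib
import Groth.Agent.Lib.helper5.ColimSysL

set_option autoImplicit false
universe u
open CAlg

namespace Groth.Agent.S9177


open TensorProduct in
theorem part1 {A R : Type u} [CommRing A] [CommRing R] [Algebra A R] (S : CAlg.H5Sys A R)
    (B C : Type u) [CommRing B] [CommRing C] [Algebra A B] [Algebra A C]
    (hB : Algebra.FiniteType A B) (u u' : B →ₐ[A] C)
    (huu' : Algebra.TensorProduct.map (AlgHom.id A R) u =
      Algebra.TensorProduct.map (AlgHom.id A R) u') :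
    ∃ i : S.ι, Algebra.TensorProduct.map (AlgHom.id A (S.G i)) u =
      Algebra.TensorProduct.map (AlgHom.id A (S.G i)) u' := by
  classical
  obtain ⟨s, hs⟩ := hB.out
  let l := S.ne.some
  let e : B → S.G l ⊗[A] C := fun b => (1 : S.G l) ⊗ₜ[A] (u b - u' b)
  have he : ∀ b, (S.g l).toLinearMap.rTensor C (e b) = 0 := by
    intro b
    show (S.g l).toLinearMap.rTensor C ((1 : S.G l) ⊗ₜ[A] (u b - u' b)) = 0
    rw [LinearMap.rTensor_tmul, AlgHom.toLinearMap_apply, map_one, TensorProduct.tmul_sub]
    have h1 := AlgHom.congr_fun huu' ((1 : R) ⊗ₜ[A] b)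
    simp only [Algebra.TensorProduct.map_tmul, AlgHom.coe_id, id_eq] at h1
    rw [h1, sub_self]
  obtain ⟨j, F, hF, hFe⟩ := S.L_kill_fin C l (s.image e) (by
    intro z hz
    obtain ⟨b, -, rfl⟩ := Finset.mem_image.mp hz
    exact he b)
  refine ⟨j, ?_⟩
  have hgen : ((Algebra.TensorProduct.includeRight : C →ₐ[A] S.G j ⊗[A] C).comp u) =
      (Algebra.TensorProduct.includeRight : C →ₐ[A] S.G j ⊗[A] C).comp u' := by
    apply AlgHom.ext_of_adjoin_eq_top hs
    intro b hb
    have h1 := hFe (e b) (Finset.mem_image_of_mem _ hb)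
    simp only [e, map_sub, LinearMap.rTensor_tmul, AlgHom.toLinearMap_apply, map_one,
      TensorProduct.tmul_sub, sub_eq_zero] at h1
    exact h1
  apply Algebra.TensorProduct.ext'
  intro x b
  have h2 := AlgHom.congr_fun hgen b
  simp only [AlgHom.comp_apply, Algebra.TensorProduct.includeRight_apply] at h2
  rw [Algebra.TensorProduct.map_tmul, Algebra.TensorProduct.map_tmul]
  simp only [AlgHom.coe_id, id_eq]
  calc x ⊗ₜ[A] u b = x • ((1 : S.G j) ⊗ₜ[A] u b) := by
        rw [TensorProduct.smul_tmul', smul_eq_mul, mul_one]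
    _ = x • ((1 : S.G j) ⊗ₜ[A] u' b) := by rw [h2]
    _ = x ⊗ₜ[A] u' b := by rw [TensorProduct.smul_tmul', smul_eq_mul, mul_one]

open TensorProduct in
theorem part2 {A R : Type u} [CommRing A] [CommRing R] [Algebra A R] (S : CAlg.H5Sys A R)
    (B C : Type u) [CommRing B] [CommRing C] [Algebra A B] [Algebra A C]
    (hC : Algebra.FiniteType A C) (u : B →ₐ[A] C)
    (hsurj : Function.Surjective (Algebra.TensorProduct.map (AlgHom.id A R) u)) :
    ∃ i : S.ι, Function.Surjective (Algebra.TensorProduct.map (AlgHom.id A (S.G i)) u) := by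
  classical
  obtain ⟨s, hs⟩ := hC.out
  choose z hz using fun c : C => hsurj ((1 : R) ⊗ₜ[A] c)
  obtain ⟨i, hi⟩ := S.L_lift_fin B (s.image z)
  let z' : C → S.G i ⊗[A] B := fun c =>
    if hc : c ∈ s then Classical.choose (hi (z c) (Finset.mem_image_of_mem _ hc)) else 0
  have hz' : ∀ c ∈ s, (S.g i).toLinearMap.rTensor B (z' c) = z c := by
    intro c hc
    simp only [z', dif_pos hc]
    exact Classical.choose_spec (hi (z c) (Finset.mem_image_of_mem _ hc))
  have hnat : ∀ {G G' : Type u} [CommRing G] [Algebra A G] [CommRing G'] [Algebra A G']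
      (α : G →ₐ[A] G') (w : G ⊗[A] B),
      α.toLinearMap.rTensor C (Algebra.TensorProduct.map (AlgHom.id A G) u w) =
        Algebra.TensorProduct.map (AlgHom.id A G') u (α.toLinearMap.rTensor B w) := by
    intro G G' _ _ _ _ α w
    induction w using TensorProduct.induction_on with
    | zero => simp
    | tmul x b => simp
    | add a b ha hb => simp only [map_add, ha, hb]
  let δ : C → S.G i ⊗[A] C := fun c =>
    Algebra.TensorProduct.map (AlgHom.id A (S.G i)) u (z' c) - (1 : S.G i) ⊗ₜ[A] c
  have hδ : ∀ c ∈ s, (S.g i).toLinearMap.rTensor C (δ c) = 0 := by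
    intro c hc
    simp only [δ, map_sub, hnat, hz' c hc, hz c, LinearMap.rTensor_tmul,
      AlgHom.toLinearMap_apply, map_one, sub_self]
  obtain ⟨j, F, hF, hFδ⟩ := S.L_kill_fin C i (s.image δ) (by
    intro w hw
    obtain ⟨c, hc, rfl⟩ := Finset.mem_image.mp hw
    exact hδ c hc)
  refine ⟨j, ?_⟩
  have hmem : ∀ c : C, (1 : S.G j) ⊗ₜ[A] c ∈
      (Algebra.TensorProduct.map (AlgHom.id A (S.G j)) u).range := by
    have hle : Algebra.adjoin A (s : Set C) ≤
        (Algebra.TensorProduct.map (AlgHom.id A (S.G j)) u).range.comap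
          (Algebra.TensorProduct.includeRight : C →ₐ[A] S.G j ⊗[A] C) := by
      apply Algebra.adjoin_le
      intro c hc
      have h1 := hFδ (δ c) (Finset.mem_image_of_mem _ hc)
      simp only [δ, map_sub, hnat, LinearMap.rTensor_tmul, AlgHom.toLinearMap_apply, map_one,
        sub_eq_zero] at h1
      exact ⟨_, h1⟩
    intro c
    exact hle (hs ▸ Algebra.mem_top)
  intro w
  induction w using TensorProduct.induction_on with
  | zero => exact ⟨0, map_zero _⟩
  | tmul x c =>
    obtain ⟨y, hy⟩ := hmem c
    refine ⟨(x ⊗ₜ[A] (1 : B)) * y, ?_⟩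
    rw [map_mul]
    erw [hy]
    simp
  | add a b ha hb =>
    obtain ⟨a', rfl⟩ := ha
    obtain ⟨b', rfl⟩ := hb
    exact ⟨a' + b', map_add _ _ _⟩

open TensorProduct in
/-- Let R = colim R_i be a directed colimit of A-algebras (compatible transition maps), B and C
A-algebras. (1) If B is of finite type over A, two A-algebra maps B → C whose base changes to R
coincide already have equal base changes to some R_i. (2) If C is of finite type over A and u : B →
C has surjective base change to R, then its base change to some R_i is surjective. (The A-algebra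
structure on R is through any stage R_l; it does not depend on l.) -/
theorem result {ι : Type u} [Preorder ι]
    [Nonempty ι] [IsDirectedOrder ι] (G : ι → Type u) [∀ i, CommRing (G i)]
    (f : ∀ i j, i ≤ j → G i →+* G j) [DirectedSystem G (fun i j h => f i j h)]
    (A : Type u) [CommRing A] [∀ i, Algebra A (G i)]
    (hf : ∀ i j (h : i ≤ j), (f i j h).comp (algebraMap A (G i)) = algebraMap A (G j)) (l : ι)
    (B C : Type u) [CommRing B] [CommRing C] [Algebra A B] [Algebra A C] :
    letI : Algebra A (Ring.DirectLimit G (fun i j h => f i j h)) :=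
      ((Ring.DirectLimit.of G (fun i j h => f i j h) l).comp (algebraMap A (G l))).toAlgebra
    (Algebra.FiniteType A B → ∀ u u' : B →ₐ[A] C,
        Algebra.TensorProduct.map (AlgHom.id A (Ring.DirectLimit G (fun i j h => f i j h))) u =
            Algebra.TensorProduct.map (AlgHom.id A (Ring.DirectLimit G (fun i j h => f i j h))) u' →
          ∃ i : ι, Algebra.TensorProduct.map (AlgHom.id A (G i)) u =
            Algebra.TensorProduct.map (AlgHom.id A (G i)) u') ∧
      (Algebra.FiniteType A C → ∀ u : B →ₐ[A] C,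
        Function.Surjective
            (Algebra.TensorProduct.map (AlgHom.id A (Ring.DirectLimit G (fun i j h => f i j h))) u) →
          ∃ i : ι, Function.Surjective (Algebra.TensorProduct.map (AlgHom.id A (G i)) u)) := by
  letI inst : Algebra A (Ring.DirectLimit G (fun i j h => f i j h)) :=
    ((Ring.DirectLimit.of G (fun i j h => f i j h) l).comp (algebraMap A (G l))).toAlgebra
  classical
  have hcomm : ∀ i (a : A), Ring.DirectLimit.of G (fun i j h => f i j h) i (algebraMap A (G i) a) =
      algebraMap A (Ring.DirectLimit G (fun i j h => f i j h)) a := by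
    intro i a
    obtain ⟨k, hik, hlk⟩ := exists_ge_ge i l
    have h1 : Ring.DirectLimit.of G (fun i j h => f i j h) i (algebraMap A (G i) a) =
        Ring.DirectLimit.of G (fun i j h => f i j h) k (algebraMap A (G k) a) := by
      rw [← RingHom.congr_fun (hf i k hik) a]
      exact (Ring.DirectLimit.of_f hik _).symm
    have h2 : Ring.DirectLimit.of G (fun i j h => f i j h) l (algebraMap A (G l) a) =
        Ring.DirectLimit.of G (fun i j h => f i j h) k (algebraMap A (G k) a) := by
      rw [← RingHom.congr_fun (hf l k hlk) a]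
      exact (Ring.DirectLimit.of_f hlk _).symm
    rw [h1, ← h2]
    rfl
  let gA : ∀ i, G i →ₐ[A] Ring.DirectLimit G (fun i j h => f i j h) := fun i =>
    { toRingHom := Ring.DirectLimit.of G (fun i j h => f i j h) i, commutes' := hcomm i }
  let fA : ∀ i j (_ : i ≤ j), G i →ₐ[A] G j := fun i j h =>
    { toRingHom := f i j h, commutes' := fun a => RingHom.congr_fun (hf i j h) a }
  have hgA : ∀ i j (h : i ≤ j), (gA j).comp (fA i j h) = gA i := by
    intro i j h
    ext x
    exact Ring.DirectLimit.of_f h x
  have hker : ∀ i (x : G i), gA i x = 0 → ∃ j, ∃ h : i ≤ j, fA i j h x = 0 := by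
    intro i x hx
    exact Ring.DirectLimit.of.zero_exact hx
  refine ⟨fun hB u u' huu' => ?_, fun hC u hs => ?_⟩
  · obtain ⟨j, hj⟩ := part1 (CAlg.H5Sys.ofDirected A G fA _ gA hgA
      (fun a => Ring.DirectLimit.exists_of a) hker) B C hB u u' huu'
    exact ⟨j, hj⟩
  · obtain ⟨j, hj⟩ := part2 (CAlg.H5Sys.ofDirected A G fA _ gA hgA
      (fun a => Ring.DirectLimit.exists_of a) hker) B C hC u hs
    exact ⟨j, hj⟩

end Groth.Agent.S9177
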