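import Groth.Statements.S9178
import Mathlib
import Groth.Agent.Lib.helper5.Conormal

set_option autoImplicit false
universe u
open CAlg

namespace Groth.Agent.S9178

/-- For ring maps A → B → C with A → C surjective, writing I = ker(A → C) and J = ker(B → C), the
sequence I/I² → J/J² → C ⊗_B Ω_{B/A} → 0 is exact. Stated: the image of I/I² in J/J² is exactly the
kernel of J/J² → C ⊗_B Ω_{B/A} (surjectivity of the latter map is the standard conormal sequence for
the surjection B → C). -/
theorem result (A B C : Type u) [CommRing A] [CommRing B]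
    [CommRing C] [Algebra A B] [Algebra B C] [Algebra A C] [IsScalarTower A B C]
    (hAC : Function.Surjective (algebraMap A C))
    (h : RingHom.ker (algebraMap A C) ≤ (RingHom.ker (algebraMap B C)).comap (Algebra.ofId A B)) :
    Function.Exact
      (Ideal.mapCotangent (RingHom.ker (algebraMap A C)) (RingHom.ker (algebraMap B C)) (Algebra.ofId A B) h)
      (KaehlerDifferential.kerCotangentToTensor A B C) := by
  intro y
  obtain ⟨x, rfl⟩ := Ideal.toCotangent_surjective _ y
  constructor
  · intro hy
    rw [KaehlerDifferential.kerCotangentToTensor_toCotangent] at hy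
    have hK := H5Conormal.mem_K_of_tmul_D_eq_zero hAC x.2 hy
    obtain ⟨u, hu, v, hv, huv⟩ := Submodule.mem_sup.mp hK
    obtain ⟨i, hi, hvi⟩ := H5Conormal.exists_sub_mem_sq hAC hv
    refine ⟨Ideal.toCotangent _ ⟨i, hi⟩, ?_⟩
    rw [Ideal.mapCotangent_toCotangent, Ideal.toCotangent_eq]
    have : ((Algebra.ofId A B) i - (x : B)) = - (u + (v - algebraMap A B i)) := by
      rw [← huv]
      change algebraMap A B i - (u + v) = _
      ring
    change (Algebra.ofId A B) i - (x : B) ∈ _
    rw [this]
    exact neg_mem (add_mem hu hvi)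
  · rintro ⟨z, hz⟩
    obtain ⟨i, rfl⟩ := Ideal.toCotangent_surjective _ z
    rw [Ideal.mapCotangent_toCotangent] at hz
    rw [← hz, KaehlerDifferential.kerCotangentToTensor_toCotangent]
    change (1 : C) ⊗ₜ[B] KaehlerDifferential.D A B (algebraMap A B i) = 0
    rw [Derivation.map_algebraMap, TensorProduct.tmul_zero]

end Groth.Agent.S9178
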