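import Groth.Statements.S9200
import Mathlib

set_option autoImplicit false
universe u
open CategoryTheory AlgebraicGeometry
open Lim

namespace Groth.Agent.S9200

/-- Let S be a scheme and X = lim X_i a cofiltered limit of S-schemes X_i (a diagram with a compatible
family of structure maps to S) with affine transition morphisms, every X_i quasi-compact and
quasi-separated; the structure map X → S is the composite X → X_{i₀} → S for any index i₀. Assume S
is quasi-compact and quasi-separated. If X → S is affine, then X_i → S is affine for all i beyond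
some index i₁. -/
theorem result {I : Type u} [SmallCategory I] [IsCofiltered I] (S : Scheme.{u}) [CompactSpace S] [QuasiSeparatedSpace S]
    (D : I ⥤ Scheme.{u}) (t : D ⟶ (Functor.const I).obj S) (c : Limits.Cone D) (hc : Limits.IsLimit c)
    [∀ (i j : I) (a : i ⟶ j), IsAffineHom (D.map a)]
    [∀ i, CompactSpace (D.obj i)] [∀ i, QuasiSeparatedSpace (D.obj i)] (i₀ : I)
    [IsAffineHom (c.π.app i₀ ≫ t.app i₀)] :
    ∃ i₁ : I, ∀ (i : I) (_ : i ⟶ i₁), IsAffineHom (t.app i) := by
  classical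
  -- Step A
  have stepA : ∀ W : S.Opens, IsAffineOpen W →
      ∃ j : Over i₀, IsAffineOpen (D.map j.hom ⁻¹ᵁ (t.app i₀ ⁻¹ᵁ W)) := by
    intro W hW
    let U : (D.obj i₀).Opens := t.app i₀ ⁻¹ᵁ W
    haveI : QuasiCompact (t.app i₀) := quasiCompact_of_compactSpace (Y := S) (t.app i₀)
    have hUc : IsCompact (U : Set (D.obj i₀)) :=
      QuasiCompact.isCompact_preimage (f := t.app i₀) _ W.2 hW.isCompact
    haveI : ∀ j, CompactSpace ((opensDiagram D i₀ U).obj j) := by
      intro j
      have h1 : IsCompact ((D.map j.hom ⁻¹ᵁ U : (D.obj j.left).Opens) : Set (D.obj j.left)) :=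
        QuasiCompact.isCompact_preimage (f := D.map j.hom) _ U.2 hUc
      exact isCompact_iff_compactSpace.mp h1
    haveI : ∀ j, QuasiSeparatedSpace ((opensDiagram D i₀ U).obj j) := by
      intro j
      change QuasiSeparatedSpace ↥(D.map j.hom ⁻¹ᵁ U)
      exact QuasiSeparatedSpace.of_isOpenEmbedding (D.map j.hom ⁻¹ᵁ U).isOpenEmbedding'
    haveI : IsAffine (opensCone D c i₀ U).pt := by
      change IsAffineOpen (c.π.app i₀ ⁻¹ᵁ (t.app i₀ ⁻¹ᵁ W))
      rw [← Scheme.Hom.comp_preimage]
      exact hW.preimage (c.π.app i₀ ≫ t.app i₀)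
    obtain ⟨j, hj⟩ := Scheme.exists_isAffine_of_isLimit (opensDiagram D i₀ U)
      (opensCone D c i₀ U) (isLimitOpensCone D c hc i₀ U)
    exact ⟨j, hj⟩
  -- Step B: a finite affine cover of S
  obtain ⟨s, hs⟩ := isCompact_univ.elim_finite_subcover (fun W : S.affineOpens => (W.1 : Set S))
    (fun W => W.1.2) (by
      intro x _
      obtain ⟨W, hW, hxW, -⟩ := exists_isAffineOpen_mem_and_subset
        (x := x) (U := (⊤ : S.Opens)) trivial
      exact Set.mem_iUnion.mpr ⟨⟨W, hW⟩, hxW⟩)
  choose j hj using fun W : S.affineOpens => stepA W.1 W.2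
  obtain ⟨k, hk⟩ := IsCofiltered.inf_objs_exists (s.image j)
  refine ⟨k.left, fun i a => ?_⟩
  have key : ∀ W ∈ s, IsAffineOpen (t.app i ⁻¹ᵁ W.1) := by
    intro W hW
    obtain ⟨ψ⟩ := hk (Finset.mem_image_of_mem j hW)
    have h1 : D.map (a ≫ ψ.left) ≫ D.map (j W).hom ≫ t.app i₀ = t.app i := by
      rw [← D.map_comp_assoc]
      have := t.naturality ((a ≫ ψ.left) ≫ (j W).hom)
      simpa using this
    have h2 := (hj W).preimage (D.map (a ≫ ψ.left))
    rw [← Scheme.Hom.comp_preimage, ← Scheme.Hom.comp_preimage] at h2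
    have h3 : t.app i ⁻¹ᵁ W.1 =
        (D.map (a ≫ ψ.left) ≫ D.map (j W).hom ≫ t.app i₀) ⁻¹ᵁ W.1 := by
      rw [h1]
    rw [h3]
    exact h2
  refine isAffineHom_of_forall_exists_isAffineOpen (f := t.app i) (Y := S) ?_
  intro x
  obtain ⟨W, hW⟩ := Set.mem_iUnion.mp (hs (Set.mem_univ x))
  obtain ⟨hWs, hxW⟩ := Set.mem_iUnion.mp hW
  exact ⟨W.1, hxW, W.2, key W hWs⟩

end Groth.Agent.S9200
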