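import Groth.Statements.S9186
import Mathlib
import Groth.Agent.Lib.helper5.LimPB
import Groth.Agent.S9200

set_option autoImplicit false
universe u
open CategoryTheory AlgebraicGeometry
open Lim

namespace Groth.Agent.S9186

open CategoryTheory.Limits in
theorem h5_main {I : Type u} [SmallCategory I] [IsCofiltered I]
    (D : I ⥤ Scheme.{u}) (c : Limits.Cone D) (hc : Limits.IsLimit c)
    [∀ (i j : I) (f : i ⟶ j), IsAffineHom (D.map f)] (i₀ : I) [CompactSpace (D.obj i₀)]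
    [QuasiSeparatedSpace (D.obj i₀)] {X₀ Y₀ : Scheme.{u}} (f₀ : X₀ ⟶ Y₀) (g₀ : Y₀ ⟶ D.obj i₀)
    [CompactSpace X₀] [QuasiSeparatedSpace X₀] [CompactSpace Y₀] [QuasiSeparatedSpace Y₀]
    {X Y : Scheme.{u}} (f : X ⟶ Y) (g : Y ⟶ c.pt) (qY : Y ⟶ Y₀) (qX : X ⟶ X₀)
    (hY : IsPullback qY g g₀ (c.π.app i₀)) (hX : IsPullback qX f f₀ qY) [IsAffineHom f] :
    ∃ (i : I) (φ : i ⟶ i₀) (Xi Yi : Scheme.{u}) (fi : Xi ⟶ Yi) (gi : Yi ⟶ D.obj i) (pY : Yi ⟶ Y₀)
      (pX : Xi ⟶ X₀), IsPullback pY gi g₀ (D.map φ) ∧ IsPullback pX fi f₀ pY ∧ IsAffineHom fi := by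
  classical
  haveI hπ : ∀ i, IsAffineHom (c.π.app i) := fun i => isAffineHom_π_app D c hc i
  -- the diagram of base changes of X₀
  let a : X₀ ⟶ D.obj i₀ := f₀ ≫ g₀
  let F := H5LimPB.F D i₀ a
  let cF := H5LimPB.cF D c i₀ a
  have hcF : IsLimit cF := H5LimPB.hcF D c i₀ a hc
  let t' : F ⟶ (Functor.const (Over i₀)).obj Y₀ :=
    H5LimPB.tT D i₀ a ≫ (Functor.const (Over i₀)).map f₀
  have ht' : ∀ j : Over i₀, t'.app j = pullback.snd (D.map j.hom) a ≫ f₀ := fun j => rfl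
  let j₀ : Over i₀ := Over.mk (𝟙 i₀)
  -- X is the limit
  have hXbig : IsPullback qX (f ≫ g) a (c.π.app i₀) := hX.paste_vert hY
  let eX : X ≅ pullback (c.π.app i₀) a := hXbig.flip.isoPullback
  have eX_snd : eX.hom ≫ pullback.snd (c.π.app i₀) a = qX := IsPullback.isoPullback_hom_snd _
  haveI : IsAffineHom qY := MorphismProperty.of_isPullback hY.flip (hπ i₀)
  haveI : IsAffineHom (cF.π.app j₀ ≫ t'.app j₀) := by
    have h0 : pullback.snd (c.π.app i₀) a ≫ f₀ = eX.inv ≫ f ≫ qY := by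
      rw [Iso.eq_inv_comp, reassoc_of% eX_snd, hX.w]
    have h1 : cF.π.app j₀ ≫ t'.app j₀ = eX.inv ≫ f ≫ qY :=
      (H5LimPB.cF_π_snd_assoc D c i₀ a j₀ f₀).trans h0
    have h3 : IsAffineHom (eX.inv ≫ f ≫ qY) := inferInstance
    rw [h1]
    exact h3
  obtain ⟨j₁, hj₁⟩ := Groth.Agent.S9200.result Y₀ F t' cF hcF j₀
  have haff := hj₁ j₁ (𝟙 _)
  rw [ht'] at haff
  -- now build the output at stage j₁
  let φ : j₁.left ⟶ i₀ := j₁.hom
  let pY := pullback.fst g₀ (D.map φ)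
  let gi := pullback.snd g₀ (D.map φ)
  let pX := pullback.fst f₀ pY
  let fi := pullback.snd f₀ pY
  have hYi : IsPullback pY gi g₀ (D.map φ) := IsPullback.of_hasPullback _ _
  have hXi : IsPullback pX fi f₀ pY := IsPullback.of_hasPullback _ _
  refine ⟨j₁.left, φ, _, _, fi, gi, pY, pX, hYi, hXi, ?_⟩
  have hbig : IsPullback pX (fi ≫ gi) a (D.map φ) := hXi.paste_vert hYi
  let e : pullback f₀ pY ≅ pullback (D.map φ) a := hbig.flip.isoPullback
  have e_snd : e.hom ≫ pullback.snd (D.map φ) a = pX := IsPullback.isoPullback_hom_snd _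
  haveI : IsAffineHom pY := MorphismProperty.pullback_fst _ _ inferInstance
  haveI : IsAffineHom (fi ≫ pY) := by
    have h2 : fi ≫ pY = e.hom ≫ pullback.snd (D.map φ) a ≫ f₀ := by
      rw [reassoc_of% e_snd]
      exact hXi.w.symm
    have h3 : IsAffineHom (pullback.snd (D.map φ) a ≫ f₀) := haff
    have h4 : IsAffineHom (e.hom ≫ pullback.snd (D.map φ) a ≫ f₀) := inferInstance
    rw [h2]
    exact h4
  exact IsAffineHom.of_comp fi pY

/-- Let S = lim S_i be a cofiltered limit of schemes with affine transition morphisms, S_{i₀} a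
quasi-compact quasi-separated stage, f₀ : X₀ → Y₀ a morphism of quasi-compact quasi-separated
schemes over S_{i₀}, and f : X → Y its base change along S → S_{i₀} (base changes expressed by
pullback squares). If f is affine, then for some index i over i₀ the base change f_i : X_i → Y_i of
f₀ along S_i → S_{i₀} is affine. No finiteness hypothesis on f₀ is needed. -/
theorem result {I : Type u} [SmallCategory I] [IsCofiltered I]
    (D : I ⥤ Scheme.{u}) (c : Limits.Cone D) (hc : Limits.IsLimit c)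
    [∀ (i j : I) (f : i ⟶ j), IsAffineHom (D.map f)] (i₀ : I) [CompactSpace (D.obj i₀)]
    [QuasiSeparatedSpace (D.obj i₀)] {X₀ Y₀ : Scheme.{u}} (f₀ : X₀ ⟶ Y₀) (g₀ : Y₀ ⟶ D.obj i₀)
    [CompactSpace X₀] [QuasiSeparatedSpace X₀] [CompactSpace Y₀] [QuasiSeparatedSpace Y₀]
    {X Y : Scheme.{u}} (f : X ⟶ Y) (g : Y ⟶ c.pt) (qY : Y ⟶ Y₀) (qX : X ⟶ X₀)
    (hY : IsPullback qY g g₀ (c.π.app i₀)) (hX : IsPullback qX f f₀ qY) [IsAffineHom f] :
    ∃ (i : I) (φ : i ⟶ i₀) (Xi Yi : Scheme.{u}) (fi : Xi ⟶ Yi) (gi : Yi ⟶ D.obj i) (pY : Yi ⟶ Y₀)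
      (pX : Xi ⟶ X₀), IsPullback pY gi g₀ (D.map φ) ∧ IsPullback pX fi f₀ pY ∧ IsAffineHom fi := by
  exact h5_main D c hc i₀ f₀ g₀ f g qY qX hY hX

end Groth.Agent.S9186
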