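import Groth.Statements.S9194
import Mathlib
import Groth.Agent.Lib.helper5.LimPB
import Groth.Agent.Lib.helper5.QFBC

set_option autoImplicit false
universe u
open CategoryTheory AlgebraicGeometry
open Lim

namespace Groth.Agent.S9194

open CategoryTheory.Limits in
theorem h5_main {I : Type u} [SmallCategory I] [IsCofiltered I]
    (D : I ⥤ Scheme.{u}) (c : Limits.Cone D) (hc : Limits.IsLimit c)
    [∀ (i j : I) (f : i ⟶ j), IsAffineHom (D.map f)] (i₀ : I) [CompactSpace (D.obj i₀)]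
    [QuasiSeparatedSpace (D.obj i₀)] {X₀ Y₀ : Scheme.{u}} (f₀ : X₀ ⟶ Y₀) (g₀ : Y₀ ⟶ D.obj i₀)
    [CompactSpace X₀] [QuasiSeparatedSpace X₀] [CompactSpace Y₀] [QuasiSeparatedSpace Y₀]
    [LocallyOfFiniteType f₀]
    {X Y : Scheme.{u}} (f : X ⟶ Y) (g : Y ⟶ c.pt) (qY : Y ⟶ Y₀) (qX : X ⟶ X₀)
    (hY : IsPullback qY g g₀ (c.π.app i₀)) (hX : IsPullback qX f f₀ qY) [LocallyQuasiFinite f] :
    ∃ (i : I) (φ : i ⟶ i₀) (Xi Yi : Scheme.{u}) (fi : Xi ⟶ Yi) (gi : Yi ⟶ D.obj i) (pY : Yi ⟶ Y₀)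
      (pX : Xi ⟶ X₀), IsPullback pY gi g₀ (D.map φ) ∧ IsPullback pX fi f₀ pY ∧
        LocallyQuasiFinite fi := by
  classical
  let a : X₀ ⟶ D.obj i₀ := f₀ ≫ g₀
  let F := H5LimPB.F D i₀ a
  let cF := H5LimPB.cF D c i₀ a
  have hcF : IsLimit cF := H5LimPB.hcF D c i₀ a hc
  let Z₀ : Set X₀ := {x | ¬ f₀.QuasiFiniteAt x}
  have hZ₀ : IsClosed Z₀ := by
    rw [← isOpen_compl_iff]
    have h1 : Z₀ᶜ = {x | f₀.QuasiFiniteAt x} := by
      ext x
      simp [Z₀]
    rw [h1]
    exact f₀.isOpen_quasiFiniteAt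
  let Z : ∀ j : Over i₀, Set (F.obj j) := fun j => (pullback.snd (D.map j.hom) a) ⁻¹' Z₀
  by_contra hcon
  have hne : ∀ j, (Z j).Nonempty := by
    intro j
    by_contra hempty
    rw [Set.not_nonempty_iff_eq_empty] at hempty
    apply hcon
    let φ : j.left ⟶ i₀ := j.hom
    let pY := pullback.fst g₀ (D.map φ)
    let gi := pullback.snd g₀ (D.map φ)
    let pX := pullback.fst f₀ pY
    let fi := pullback.snd f₀ pY
    have hYi : IsPullback pY gi g₀ (D.map φ) := IsPullback.of_hasPullback _ _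
    have hXi : IsPullback pX fi f₀ pY := IsPullback.of_hasPullback _ _
    refine ⟨j.left, φ, _, _, fi, gi, pY, pX, hYi, hXi, ?_⟩
    have hbig : IsPullback pX (fi ≫ gi) a (D.map φ) := hXi.paste_vert hYi
    let e : pullback f₀ pY ≅ pullback (D.map φ) a := hbig.flip.isoPullback
    have e_snd : e.hom ≫ pullback.snd (D.map φ) a = pX := IsPullback.isoPullback_hom_snd _
    haveI : LocallyOfFiniteType fi := MorphismProperty.of_isPullback hXi inferInstance
    rw [← Scheme.Hom.quasiFiniteLocus_eq_top_iff]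
    apply top_le_iff.mp
    intro x _
    change fi.QuasiFiniteAt x
    apply H5QFBC.quasiFiniteAt_snd_of_isPullback hXi x
    by_contra hram
    have hmem : e.hom x ∈ Z j := by
      change (pullback.snd (D.map φ) a) (e.hom x) ∈ Z₀
      have h1 : (pullback.snd (D.map φ) a) (e.hom x) = pX x :=
        congrArg (fun ψ : pullback f₀ pY ⟶ X₀ => ψ x) e_snd
      rw [h1]
      exact hram
    rw [hempty] at hmem
    exact hmem
  have hZc : ∀ j, IsClosed (Z j) := fun j =>
    hZ₀.preimage (pullback.snd (D.map j.hom) a).continuous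
  obtain ⟨s, hs⟩ := exists_mem_of_isClosed_of_nonempty F cF hcF Z hZc hne
    (fun j => (hZc j).isCompact) (by
      intro j j' ψ x hx
      change (pullback.snd (D.map j'.hom) a) ((F.map ψ) x) ∈ Z₀
      have h1 : (pullback.snd (D.map j'.hom) a) ((F.map ψ) x) =
          (pullback.snd (D.map j.hom) a) x :=
        congrArg (fun φ : F.obj j ⟶ X₀ => φ x) (H5LimPB.F_map_snd D i₀ a ψ)
      rw [h1]
      exact hx)
  let j₀ : Over i₀ := Over.mk (𝟙 i₀)
  have hs₀ : (pullback.snd (c.π.app i₀) a) s ∈ Z₀ := by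
    have h1 := hs j₀
    change (pullback.snd (D.map j₀.hom) a) ((cF.π.app j₀) s) ∈ Z₀ at h1
    have h2 : (pullback.snd (D.map j₀.hom) a) ((cF.π.app j₀) s) =
        (pullback.snd (c.π.app i₀) a) s :=
      congrArg (fun φ : cF.pt ⟶ X₀ => φ s) (H5LimPB.cF_π_snd D c i₀ a j₀)
    rw [h2] at h1
    exact h1
  have hXbig : IsPullback qX (f ≫ g) a (c.π.app i₀) := hX.paste_vert hY
  let eX : X ≅ pullback (c.π.app i₀) a := hXbig.flip.isoPullback
  have eX_snd : eX.hom ≫ pullback.snd (c.π.app i₀) a = qX := IsPullback.isoPullback_hom_snd _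
  let x : X := eX.inv s
  have h4 : f₀.QuasiFiniteAt (qX x) :=
    H5QFBC.quasiFiniteAt_of_isPullback hX x (Scheme.Hom.quasiFiniteAt f x)
  have h5 : qX x = (pullback.snd (c.π.app i₀) a) s := by
    change qX (eX.inv s) = _
    rw [← eX_snd, ← Scheme.Hom.comp_apply, Iso.inv_hom_id_assoc]
  rw [h5] at h4
  exact hs₀ h4

/-- Let S = lim S_i be a cofiltered limit of schemes with affine transition morphisms, S_{i₀} a
quasi-compact quasi-separated stage, f₀ : X₀ → Y₀ a morphism of quasi-compact quasi-separated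
schemes over S_{i₀}, and f : X → Y its base change along S → S_{i₀} (base changes expressed by
pullback squares). If f₀ is locally of finite type and f is quasi-finite (f is locally of finite
type and quasi-compact, being a base change of f₀; the hypothesis is that its fibres are discrete),
then for some index i over i₀ the base change f_i : X_i → Y_i of f₀ along S_i → S_{i₀} is
quasi-finite: locally quasi-finite, and it is locally of finite type and quasi-compact as a base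
change of f₀. -/
theorem result {I : Type u} [SmallCategory I] [IsCofiltered I]
    (D : I ⥤ Scheme.{u}) (c : Limits.Cone D) (hc : Limits.IsLimit c)
    [∀ (i j : I) (f : i ⟶ j), IsAffineHom (D.map f)] (i₀ : I) [CompactSpace (D.obj i₀)]
    [QuasiSeparatedSpace (D.obj i₀)] {X₀ Y₀ : Scheme.{u}} (f₀ : X₀ ⟶ Y₀) (g₀ : Y₀ ⟶ D.obj i₀)
    [CompactSpace X₀] [QuasiSeparatedSpace X₀] [CompactSpace Y₀] [QuasiSeparatedSpace Y₀]
    [LocallyOfFiniteType f₀]
    {X Y : Scheme.{u}} (f : X ⟶ Y) (g : Y ⟶ c.pt) (qY : Y ⟶ Y₀) (qX : X ⟶ X₀)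
    (hY : IsPullback qY g g₀ (c.π.app i₀)) (hX : IsPullback qX f f₀ qY) [LocallyQuasiFinite f] :
    ∃ (i : I) (φ : i ⟶ i₀) (Xi Yi : Scheme.{u}) (fi : Xi ⟶ Yi) (gi : Yi ⟶ D.obj i) (pY : Yi ⟶ Y₀)
      (pX : Xi ⟶ X₀), IsPullback pY gi g₀ (D.map φ) ∧ IsPullback pX fi f₀ pY ∧ LocallyQuasiFinite fi := by
  exact h5_main D c hc i₀ f₀ g₀ f g qY qX hY hX

end Groth.Agent.S9194
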