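import Groth.Statements.S9206
import Mathlib
import Groth.Agent.Lib.helper5.GenFinite

set_option autoImplicit false
universe u
open CategoryTheory AlgebraicGeometry
open Lim

namespace Groth.Agent.S9206

open CategoryTheory.Limits in
theorem h5_affine {I : Type u} [SmallCategory I] [IsCofiltered I]
    (D : I ⥤ Scheme.{u}) (c : Limits.Cone D) (hc : Limits.IsLimit c)
    [∀ i, IsAffine (D.obj i)] (s : c.pt) (a : c.pt.residueField s) :
    ∃ (i : I) (b : (D.obj i).residueField ((c.π.app i).base s)),
      ((c.π.app i).residueFieldMap s).hom b = a := by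
  classical
  haveI : IsAffine c.pt := Scheme.isAffine_of_isLimit c hc
  obtain ⟨α, rfl⟩ := Scheme.residue_surjective c.pt s a
  have hX := isAffineOpen_top c.pt
  let s' : (⊤ : c.pt.Opens) := ⟨s, trivial⟩
  letI := c.pt.presheaf.algebra_section_stalk s'
  haveI := hX.isLocalization_stalk s'
  obtain ⟨⟨f, g⟩, hfg⟩ := IsLocalization.surj (hX.primeIdealOf s').asIdeal.primeCompl α
  have hgu : IsUnit (algebraMap Γ(c.pt, ⊤) (c.pt.presheaf.stalk s) g.1) :=
    IsLocalization.map_units (M := (hX.primeIdealOf s').asIdeal.primeCompl) _ g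
  have h1 : (c.pt.residue s).hom α * (c.pt.Γevaluation s).hom g.1 = (c.pt.Γevaluation s).hom f := by
    have := congrArg (c.pt.residue s).hom hfg
    rw [map_mul] at this
    exact this
  have h2 : (c.pt.Γevaluation s).hom g.1 ≠ 0 := (hgu.map (c.pt.residue s).hom).ne_zero
  obtain ⟨i, fi, hfi⟩ := exists_appTop_π_eq_of_isAffine_of_isLimit D c hc f
  obtain ⟨j, gj, hgj⟩ := exists_appTop_π_eq_of_isAffine_of_isLimit D c hc g.1
  let k := IsCofiltered.min i j
  let u : k ⟶ i := IsCofiltered.minToLeft i j
  let v : k ⟶ j := IsCofiltered.minToRight i j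
  let fk := (D.map u).appTop fi
  let gk := (D.map v).appTop gj
  have hfk : (c.π.app k).appTop fk = f := by
    rw [← hfi, ← c.w u, Scheme.Hom.comp_appTop]
    rfl
  have hgk : (c.π.app k).appTop gk = g.1 := by
    rw [← hgj, ← c.w v, Scheme.Hom.comp_appTop]
    rfl
  have e1 := Scheme.Γevaluation_naturality_apply (c.π.app k) s fk
  have e2 := Scheme.Γevaluation_naturality_apply (c.π.app k) s gk
  rw [hfk] at e1
  rw [hgk] at e2
  refine ⟨k, ((D.obj k).Γevaluation ((c.π.app k) s)).hom fk *
    (((D.obj k).Γevaluation ((c.π.app k) s)).hom gk)⁻¹, ?_⟩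
  rw [map_mul, map_inv₀]
  have e1' : ((c.π.app k).residueFieldMap s).hom (((D.obj k).Γevaluation ((c.π.app k) s)).hom fk)
      = (c.pt.Γevaluation s).hom f := e1
  have e2' : ((c.π.app k).residueFieldMap s).hom (((D.obj k).Γevaluation ((c.π.app k) s)).hom gk)
      = (c.pt.Γevaluation s).hom g.1 := e2
  rw [e1', e2', ← h1]
  exact mul_inv_cancel_right₀ h2 _

open CategoryTheory.Limits in
theorem h5_main {I : Type u} [SmallCategory I] [IsCofiltered I]
    (D : I ⥤ Scheme.{u}) (c : Limits.Cone D) (hc : Limits.IsLimit c)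
    [∀ (i j : I) (f : i ⟶ j), IsAffineHom (D.map f)] (s : c.pt) (a : c.pt.residueField s) :
    ∃ (i : I) (b : (D.obj i).residueField ((c.π.app i).base s)),
      ((c.π.app i).residueFieldMap s).hom b = a := by
  classical
  obtain ⟨i⟩ := IsCofiltered.nonempty (C := I)
  obtain ⟨U, hU, hsU, -⟩ := exists_isAffineOpen_mem_and_subset (x := (c.π.app i) s)
    (U := (⊤ : (D.obj i).Opens)) trivial
  let T : c.pt.Opens := c.π.app i ⁻¹ᵁ U
  have hsT : s ∈ T := hsU
  let s' : T.toScheme := ⟨s, hsT⟩
  haveI : ∀ j : Over i, IsAffine ((opensDiagram D i U).obj j) := fun j => hU.preimage (D.map _)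
  let a' : T.toScheme.residueField s' := (T.ι.residueFieldMap s').hom a
  obtain ⟨j, b', hb'⟩ := h5_affine (opensDiagram D i U) (opensCone D c i U)
    (isLimitOpensCone D c hc i U) s' a'
  let V : (D.obj j.left).Opens := D.map j.hom ⁻¹ᵁ U
  let π' : T.toScheme ⟶ V.toScheme := (opensCone D c i U).π.app j
  have hcomm : π' ≫ V.ι = T.ι ≫ c.π.app j.left := Scheme.Hom.resLE_comp_ι _ _
  let y : V.toScheme := π' s'
  have hy : V.ι y = (c.π.app j.left) s := by
    have := congrArg (fun φ : T.toScheme ⟶ D.obj j.left => φ s') hcomm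
    exact this
  let b'' : (D.obj j.left).residueField (V.ι y) := (inv (V.ι.residueFieldMap y)).hom b'
  have hb'' : (V.ι.residueFieldMap y).hom b'' = b' := by
    change (inv (V.ι.residueFieldMap y) ≫ V.ι.residueFieldMap y).hom b' = b'
    rw [IsIso.inv_hom_id]
    rfl
  refine ⟨j.left, ((D.obj j.left).residueFieldCongr hy).hom.hom b'', ?_⟩
  apply (T.ι.residueFieldMap s').hom.injective
  have key : V.ι.residueFieldMap y ≫ π'.residueFieldMap s' =
      ((D.obj j.left).residueFieldCongr hy).hom ≫ (c.π.app j.left).residueFieldMap s ≫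
        T.ι.residueFieldMap s' := by
    have h1 := Scheme.residueFieldMap_comp π' V.ι s'
    have h2 := Scheme.residueFieldMap_comp T.ι (c.π.app j.left) s'
    have h3 := Scheme.Hom.residueFieldMap_congr hcomm s'
    rw [h1, h2] at h3
    exact h3
  have := congrArg (fun φ => φ.hom b'') key
  simp only [CommRingCat.hom_comp, RingHom.coe_comp, Function.comp_apply] at this
  rw [hb''] at this
  exact this.symm.trans hb'

/-- Let S = lim S_i be a cofiltered limit of schemes with affine transition morphisms and let s be a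
point of S with images s_i in S_i. Then the residue field κ(s) is the colimit of the residue fields
κ(s_i): every element of κ(s) is the image of an element of κ(s_i) for some i under the map of
residue fields induced by S → S_i (the maps κ(s_i) → κ(s) being injective, this says that the
canonical map from the colimit is an isomorphism). -/
theorem result {I : Type u} [SmallCategory I] [IsCofiltered I]
    (D : I ⥤ Scheme.{u}) (c : Limits.Cone D) (hc : Limits.IsLimit c)
    [∀ (i j : I) (f : i ⟶ j), IsAffineHom (D.map f)] (s : c.pt) (a : c.pt.residueField s) :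
    ∃ (i : I) (b : (D.obj i).residueField ((c.π.app i).base s)), ((c.π.app i).residueFieldMap s).hom b = a := by
  exact h5_main D c hc s a

end Groth.Agent.S9206
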