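import Groth.Statements.S9207
import Mathlib

set_option autoImplicit false
universe u
open CategoryTheory CategoryTheory.Limits AlgebraicGeometry
open Lim

namespace Groth.Agent.S9207

lemma h5_aux0 {A B C : Scheme.{u}} (p : A ⟶ C) (a : B ⟶ C) (h : Nonempty ↥(pullback a p)) :
    Nonempty ↥(pullback p a) := by
  obtain ⟨z⟩ := h
  exact ⟨(pullbackSymmetry a p).hom z⟩

lemma h5_aux1 {A B C : Scheme.{u}} (p : A ⟶ C) (a : B ⟶ C) [IsAffineHom p] [CompactSpace B] :
    CompactSpace ↥(pullback p a) := by
  haveI : IsAffineHom (pullback.snd p a) := MorphismProperty.pullback_snd _ _ inferInstance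
  exact QuasiCompact.compactSpace_of_compactSpace (pullback.snd p a)

lemma h5_aux2 {A A' B C : Scheme.{u}} (p : A ⟶ C) (p' : A' ⟶ C) (a : B ⟶ C) [IsAffineHom p]
    [IsAffineHom p'] (φ : pullback p a ⟶ pullback p' a)
    (h : φ ≫ pullback.snd p' a = pullback.snd p a) : IsAffineHom φ := by
  haveI : IsAffineHom (pullback.snd p a) := MorphismProperty.pullback_snd _ _ inferInstance
  haveI : IsAffineHom (pullback.snd p' a) := MorphismProperty.pullback_snd _ _ inferInstance
  haveI : IsAffineHom (φ ≫ pullback.snd p' a) := by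
    rw [h]
    infer_instance
  exact IsAffineHom.of_comp _ (pullback.snd p' a)

/-- Let S = lim S_i be a cofiltered limit of quasi-compact quasi-separated schemes with affine
transition morphisms, let i be an index and T → S_i a morphism of schemes with T quasi-compact. If
the fibre product T ×_{S_i} S is empty, then T ×_{S_i} S_{i'} is empty for some index i' over i (and
then for every index over i'). -/
theorem result {I : Type u} [SmallCategory I] [IsCofiltered I]
    (D : I ⥤ Scheme.{u}) (c : Limits.Cone D) (hc : Limits.IsLimit c)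
    [∀ (i j : I) (f : i ⟶ j), IsAffineHom (D.map f)] [∀ i, CompactSpace (D.obj i)]
    [∀ i, QuasiSeparatedSpace (D.obj i)] (i : I) {T : Scheme.{u}} (a : T ⟶ D.obj i) [CompactSpace T]
    (h : IsEmpty ↥(pullback a (c.π.app i))) :
    ∃ (i' : I) (φ : i' ⟶ i), IsEmpty ↥(pullback a (D.map φ)) := by
  by_contra! H
  let F : Over i ⥤ Scheme.{u} := Over.post D ⋙ Over.pullback a ⋙ Over.forget _
  have hne : ∀ j, Nonempty (F.obj j) := fun j => h5_aux0 (D.map j.hom) a (H j.left j.hom)
  have hcomp : ∀ j, CompactSpace (F.obj j) := fun j => h5_aux1 (D.map j.hom) a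
  have haff : ∀ {j j' : Over i} (φ : j ⟶ j'), IsAffineHom (F.map φ) := by
    intro j j' φ
    exact h5_aux2 (D.map j.hom) (D.map j'.hom) a (F.map φ) (pullback.lift_snd _ _ _)
  let cF : Cone F := (Over.pullback a ⋙ Over.forget _).mapCone ((Over.conePost _ _).obj c)
  haveI := IsCofiltered.isConnected (Over i)
  have hcF : IsLimit cF :=
    isLimitOfPreserves (Over.pullback a ⋙ Over.forget _) (Over.isLimitConePost _ hc)
  have h2 := Scheme.nonempty_of_isLimit F cF hcF
  have h3 : Nonempty ↥(pullback (c.π.app i) a) := h2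
  obtain ⟨z⟩ := h5_aux0 a (c.π.app i) h3
  exact h.elim z

end Groth.Agent.S9207
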