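import Groth.Statements.S9261
import Mathlib

set_option autoImplicit false
universe u
open CAlg

namespace Groth.Agent.S9261

/-- Let G be a finite group acting on a ring R, S = R^G its ring of invariants (here: S → R injective
with image the invariants) and A a flat S-algebra. Then the map A → A ⊗_S R is injective with image
the invariants of G acting on A ⊗_S R through the second factor; that is, A → (A ⊗_S R)^G is an
isomorphism. -/
theorem result (S R A G : Type u) [CommRing S] [CommRing R] [Algebra S R]
    [FaithfulSMul S R] [Group G] [Finite G] [MulSemiringAction G R] [SMulCommClass G S R]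
    [Algebra.IsInvariant S R G] [CommRing A] [Algebra S A] [Module.Flat S A] :
    Function.Injective (algebraMap A (TensorProduct S A R)) ∧
      ∀ x : TensorProduct S A R,
        (∀ σ : G, Algebra.TensorProduct.map (AlgHom.id S A) (MulSemiringAction.toAlgHom S R σ) x = x) →
          x ∈ Set.range (algebraMap A (TensorProduct S A R)) := by
  classical
  haveI : Fintype G := Fintype.ofFinite G
  let τ : G → (R →ₗ[S] R) := fun σ => (MulSemiringAction.toAlgHom S R σ).toLinearMap
  let φ : R →ₗ[S] (G → R) := LinearMap.pi (fun σ => τ σ - LinearMap.id)
  have hφ : ∀ (r : R) (σ : G), φ r σ = σ • r - r := fun r σ => rfl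
  have hex : Function.Exact (Algebra.linearMap S R) φ := by
    intro r
    constructor
    · intro h
      have h1 : ∀ σ : G, σ • r = r := fun σ => by
        have h2 := congrFun h σ
        rw [hφ] at h2
        exact sub_eq_zero.1 h2
      obtain ⟨s, hs⟩ := Algebra.IsInvariant.isInvariant (A := S) (B := R) (G := G) r h1
      exact ⟨s, hs⟩
    · rintro ⟨s, rfl⟩
      ext σ
      rw [hφ]
      simp
  have hexA := Module.Flat.lTensor_exact A hex
  have hinjS : Function.Injective (Algebra.linearMap S R) := FaithfulSMul.algebraMap_injective S R
  have hinjA := Module.Flat.lTensor_preserves_injective_linearMap (M := A)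
    (Algebra.linearMap S R) hinjS
  have hone : ∀ a : A, algebraMap A (TensorProduct S A R) a =
      (Algebra.linearMap S R).lTensor A (a ⊗ₜ[S] (1 : S)) := by
    intro a
    rw [LinearMap.lTensor_tmul, Algebra.linearMap_apply, map_one,
      Algebra.TensorProduct.algebraMap_apply]
    rfl
  have hcomp : ∀ (σ : G) (x : TensorProduct S A R),
      (TensorProduct.piRight S S A (fun _ : G => R)) (φ.lTensor A x) σ =
        (τ σ).lTensor A x - x := by
    intro σ x
    induction x using TensorProduct.induction_on with
    | zero => simp
    | tmul a r =>
      rw [LinearMap.lTensor_tmul, TensorProduct.piRight_apply, TensorProduct.piRightHom_tmul,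
        LinearMap.lTensor_tmul]
      show a ⊗ₜ[S] φ r σ = _
      rw [hφ, TensorProduct.tmul_sub]
      rfl
    | add x y hx hy =>
      rw [map_add, map_add, Pi.add_apply, hx, hy, map_add]
      abel
  have hmapσ : ∀ (σ : G) (x : TensorProduct S A R),
      Algebra.TensorProduct.map (AlgHom.id S A) (MulSemiringAction.toAlgHom S R σ) x =
        (τ σ).lTensor A x := by
    intro σ x
    induction x using TensorProduct.induction_on with
    | zero => simp
    | tmul a r => rfl
    | add x y hx hy => rw [map_add, map_add, hx, hy]
  refine ⟨?_, ?_⟩
  · intro a b hab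
    rw [hone, hone] at hab
    have h1 := hinjA hab
    have h2 := congrArg (TensorProduct.rid S A) h1
    simpa using h2
  · intro x hx
    have hφx : φ.lTensor A x = 0 := by
      apply (TensorProduct.piRight S S A (fun _ : G => R)).injective
      rw [map_zero]
      ext σ
      rw [hcomp, ← hmapσ, hx σ, sub_self]
      rfl
    obtain ⟨y, hy⟩ := (hexA x).1 hφx
    refine ⟨TensorProduct.rid S A y, ?_⟩
    rw [hone, ← hy]
    congr 1
    have h3 : (TensorProduct.rid S A).symm (TensorProduct.rid S A y) = y :=
      (TensorProduct.rid S A).symm_apply_apply y
    rw [TensorProduct.rid_symm_apply] at h3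
    exact h3

end Groth.Agent.S9261
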