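import Groth.Statements.S9273
import Mathlib

set_option autoImplicit false
universe u
open CAlgX

namespace Groth.Agent.S9273

theorem triv_rel_map {R R' : Type u} [CommRing R] [CommRing R'] (φ : R →+* R') {c : ℕ}
    (f : Fin c → R) (n : Fin c → R)
    (hn : n ∈ Submodule.span R {v : Fin c → R | ∃ i j : Fin c,
      v = Pi.single i (f j) - Pi.single j (f i)}) (y : R') :
    (fun i => y * φ (n i)) ∈ Submodule.span R' {v : Fin c → R' | ∃ i j : Fin c,
      v = Pi.single i (φ (f j)) - Pi.single j (φ (f i))} := by
  classical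
  induction hn using Submodule.span_induction generalizing y with
  | mem v hv =>
    obtain ⟨i, j, rfl⟩ := hv
    have e : (fun k => y * φ ((Pi.single i (f j) - Pi.single j (f i) : Fin c → R) k)) =
        y • (Pi.single i (φ (f j)) - Pi.single j (φ (f i)) : Fin c → R') := by
      funext k
      simp only [Pi.sub_apply, Pi.smul_apply, smul_eq_mul, Pi.single_apply, map_sub]
      congr 2 <;> split_ifs <;> simp
    rw [e]
    exact Submodule.smul_mem _ _ (Submodule.subset_span ⟨i, j, rfl⟩)
  | zero =>
    have e : (fun i => y * φ ((0 : Fin c → R) i)) = (0 : Fin c → R') := by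
      funext i; simp
    rw [e]; exact Submodule.zero_mem _
  | add n m _ _ hn hm =>
    have e : (fun i => y * φ ((n + m) i)) = (fun i => y * φ (n i)) + (fun i => y * φ (m i)) := by
      funext i; simp [mul_add]
    rw [e]; exact Submodule.add_mem _ (hn y) (hm y)
  | smul b n _ hn =>
    have e : (fun i => y * φ ((b • n) i)) = fun i => (y * φ b) * φ (n i) := by
      funext i; simp [mul_assoc]
    rw [e]; exact hn (y * φ b)


/-- Let A → B and A → A' be ring maps and B' = A' ⊗_A B. If f_1, ..., f_r is an H_1-regular sequence in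
B with B/(f_1, ..., f_r) flat over A, then the images of the f_i in B' form an H_1-regular sequence. -/
theorem result (A B A' : Type u) [CommRing A] [CommRing B]
    [CommRing A'] [Algebra A B] [Algebra A A'] (r : ℕ) (f : Fin r → B)
    (hflat : Module.Flat A (B ⧸ Ideal.span (Set.range f))) (hq : CAlgX.IsH1Regular f) :
    CAlgX.IsH1Regular (fun i => ((1 : A') ⊗ₜ[A] f i : TensorProduct A A' B)) := by
  classical
  intro a' ha'
  beta_reduce at ha' ⊢
  obtain ⟨α, rfl⟩ : ∃ α, TensorProduct.piRight A A A' (fun _ : Fin r => B) α = a' :=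
    ⟨(TensorProduct.piRight A A A' (fun _ : Fin r => B)).symm a', LinearEquiv.apply_symm_apply _ _⟩
  set I : Ideal B := Ideal.span (Set.range f) with hI
  let J : Submodule A B := I.restrictScalars A
  let g : J →ₗ[A] B := J.subtype
  let π : B →ₗ[A] (B ⧸ I) := (Ideal.Quotient.mkₐ A I).toLinearMap
  have hπ : Function.Surjective π := Ideal.Quotient.mk_surjective
  have hex : Function.Exact g π := by
    intro b
    constructor
    · intro hb
      have hbI : b ∈ I := Ideal.Quotient.eq_zero_iff_mem.mp hb
      exact ⟨⟨b, hbI⟩, rfl⟩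
    · rintro ⟨⟨c, hc⟩, rfl⟩
      exact Ideal.Quotient.eq_zero_iff_mem.mpr hc
  have hginj : Function.Injective (g.lTensor A') :=
    LinearMap.lTensor_injective_of_exact_of_flat π hπ g (Submodule.injective_subtype _) hex A'
  let d₁ : (Fin r → B) →ₗ[A] J :=
    { toFun := fun a => ⟨∑ i, a i * f i, by
          show ∑ i, a i * f i ∈ I
          exact Ideal.sum_mem _ (fun i _ => Ideal.mul_mem_left _ _ (Ideal.subset_span ⟨i, rfl⟩))⟩
      map_add' := fun a b => by
        apply Subtype.ext
        simp [add_mul, Finset.sum_add_distrib]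
      map_smul' := fun c a => by
        apply Subtype.ext
        simp [Finset.smul_sum, smul_mul_assoc] }
  have hd₁ : Function.Surjective d₁ := by
    rintro ⟨b, hb⟩
    obtain ⟨c, hc⟩ := (Ideal.mem_span_range_iff_exists_fun).mp hb
    exact ⟨c, Subtype.ext hc⟩
  let N : Submodule B (Fin r → B) := Submodule.span B
    {v | ∃ i j : Fin r, v = Pi.single i (f j) - Pi.single j (f i)}
  let NA : Submodule A (Fin r → B) := N.restrictScalars A
  have hN0 : ∀ n ∈ N, ∑ i, n i * f i = 0 := by
    intro n hn
    induction hn using Submodule.span_induction with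
    | mem v hv =>
      obtain ⟨i, j, rfl⟩ := hv
      simp only [Pi.sub_apply, Pi.single_apply, sub_mul, ite_mul, zero_mul,
        Finset.sum_sub_distrib, Finset.sum_ite_eq', Finset.mem_univ, if_true]
      ring
    | zero => simp
    | add x y _ _ hx hy =>
      simp only [Pi.add_apply, add_mul, Finset.sum_add_distrib, hx, hy, add_zero]
    | smul b x _ hx =>
      simp only [Pi.smul_apply, smul_eq_mul, mul_assoc, ← Finset.mul_sum, hx, mul_zero]
  have hex2 : Function.Exact NA.subtype d₁ := by
    intro a
    constructor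
    · intro ha
      have h0 : ∑ i, a i * f i = 0 := congrArg Subtype.val ha
      exact ⟨⟨a, hq a h0⟩, rfl⟩
    · rintro ⟨⟨n, hn⟩, rfl⟩
      apply Subtype.ext
      exact hN0 n hn
  have hex3 := lTensor_exact A' hex2 hd₁
  let Ψ : (Fin r → TensorProduct A A' B) →ₗ[A] TensorProduct A A' B :=
    { toFun := fun c => ∑ i, c i * ((1 : A') ⊗ₜ[A] f i)
      map_add' := fun a b => by simp [add_mul, Finset.sum_add_distrib]
      map_smul' := fun c a => by simp [Finset.smul_sum, smul_mul_assoc] }
  have hΨ : Ψ ∘ₗ (TensorProduct.piRight A A A' (fun _ : Fin r => B)).toLinearMap =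
      (g ∘ₗ d₁).lTensor A' := by
    apply TensorProduct.ext'
    intro x b
    simp [Ψ, d₁, g, J, TensorProduct.tmul_sum, Algebra.TensorProduct.tmul_mul_tmul]
  have h1 : (g.lTensor A') ((d₁.lTensor A') α) = 0 := by
    have h := LinearMap.congr_fun hΨ α
    rw [LinearMap.lTensor_comp] at h
    simp only [LinearMap.comp_apply, LinearEquiv.coe_coe] at h
    rw [← h]
    exact ha'
  have h2 : (d₁.lTensor A') α = 0 := hginj (by rw [h1, map_zero])
  obtain ⟨β, hβ⟩ := (hex3 α).mp h2
  rw [← hβ]
  clear hβ
  induction β using TensorProduct.induction_on with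
  | zero => simp
  | tmul x n =>
    rw [LinearMap.lTensor_tmul, TensorProduct.piRight_apply, TensorProduct.piRightHom_tmul]
    have e : (fun i => x ⊗ₜ[A] (NA.subtype n) i : Fin r → TensorProduct A A' B) =
        fun i => (x ⊗ₜ[A] (1 : B)) *
          (Algebra.TensorProduct.includeRight (R := A) (A := A') (B := B)).toRingHom
            ((NA.subtype n) i) := by
      funext i
      simp [Algebra.TensorProduct.tmul_mul_tmul]
    rw [e]
    exact triv_rel_map (Algebra.TensorProduct.includeRight (R := A) (A := A') (B := B)).toRingHom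
      f n.1 n.2 (x ⊗ₜ[A] (1 : B))
  | add β γ hβ' hγ' =>
    rw [map_add, map_add]
    exact Submodule.add_mem _ hβ' hγ'

end Groth.Agent.S9273
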