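import Groth.Statements.S9275
import Mathlib

set_option autoImplicit false
universe u
open EtAlg

namespace Groth.Agent.S9275

/-- Let A → B be a ring map and J an ideal of B such that A → B is étale at every prime of V(J), in the
sense that every prime q ⊇ J has some h ∉ q with A → B_h étale. Then there is g ∈ B mapping to a
unit of B/J such that A → B_g is étale. -/
theorem result (A B : Type u) [CommRing A] [CommRing B]
    [Algebra A B] (J : Ideal B)
    (h : ∀ (q : Ideal B) [q.IsPrime], J ≤ q → ∃ h : B, h ∉ q ∧ Algebra.Etale A (Localization.Away h)) :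
    ∃ g : B, IsUnit (Ideal.Quotient.mk J g) ∧ Algebra.Etale A (Localization.Away g) := by
  classical
  let T : Set B := {h | Algebra.Etale A (Localization.Away h)}
  have hT : Ideal.span T ⊔ J = ⊤ := by
    by_contra hne
    obtain ⟨m, hm, hle⟩ := Ideal.exists_le_maximal _ hne
    haveI := hm.isPrime
    obtain ⟨h₀, hh₀, het⟩ := h m (le_sup_right.trans hle)
    exact hh₀ (hle (Ideal.mem_sup_left (Ideal.subset_span het)))
  have h1 : (1 : B) ∈ Ideal.span T ⊔ J := by
    rw [hT]
    trivial
  obtain ⟨g, hg, j, hj, hgj⟩ := Submodule.mem_sup.mp h1
  refine ⟨g, ?_, ?_⟩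
  · have h2 : Ideal.Quotient.mk J g = 1 := by
      have h3 := congrArg (Ideal.Quotient.mk J) hgj
      rw [map_add, Ideal.Quotient.eq_zero_iff_mem.mpr hj, add_zero, map_one] at h3
      exact h3
    rw [h2]
    exact isUnit_one
  · rw [← RingHom.etale_algebraMap]
    apply RingHom.Etale.ofLocalizationSpanTarget (algebraMap A (Localization.Away g))
      (algebraMap B (Localization.Away g) '' T)
    · rw [← Ideal.map_span]
      exact Ideal.eq_top_of_isUnit_mem _ (Ideal.mem_map_of_mem _ hg)
        (IsLocalization.Away.algebraMap_isUnit g)
    · rintro ⟨_, h₀, hh₀, rfl⟩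
      have hh₀' : (algebraMap A (Localization.Away h₀)).Etale := RingHom.etale_algebraMap.mpr hh₀
      let C₁ := Localization.Away (algebraMap B (Localization.Away h₀) g)
      let C₂ := Localization.Away (algebraMap B (Localization.Away g) h₀)
      have hP1 : ((algebraMap (Localization.Away h₀) C₁).comp
          (algebraMap A (Localization.Away h₀))).Etale :=
        RingHom.Etale.propertyIsLocal.StableUnderCompositionWithLocalizationAwayTarget C₁
          (algebraMap B (Localization.Away h₀) g) _ hh₀'
      haveI i1 : IsLocalization.Away (g * h₀) C₁ := inferInstance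
      haveI i2 : IsLocalization.Away (g * h₀) C₂ := inferInstance
      let e : C₁ ≃ₐ[B] C₂ := IsLocalization.algEquiv (Submonoid.powers (g * h₀)) C₁ C₂
      have heq : (algebraMap (Localization.Away g) C₂).comp (algebraMap A (Localization.Away g)) =
          (e : C₁ ≃+* C₂).toRingHom.comp ((algebraMap (Localization.Away h₀) C₁).comp
            (algebraMap A (Localization.Away h₀))) := by
        ext a
        simp only [RingHom.coe_comp, Function.comp_apply, RingEquiv.toRingHom_eq_coe,
          RingHom.coe_coe]
        rw [IsScalarTower.algebraMap_apply A B (Localization.Away g),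
          ← IsScalarTower.algebraMap_apply B (Localization.Away g) C₂,
          IsScalarTower.algebraMap_apply A B (Localization.Away h₀),
          ← IsScalarTower.algebraMap_apply B (Localization.Away h₀) C₁]
        exact (e.commutes _).symm
      change ((algebraMap (Localization.Away g) C₂).comp (algebraMap A (Localization.Away g))).Etale
      rw [heq]
      exact RingHom.Etale.respectsIso.1 _ _ hP1

end Groth.Agent.S9275
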