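import Groth.Statements.S9283
import Mathlib

set_option autoImplicit false
universe u

namespace Groth.Agent.S9283

theorem result (R : Type u) [CommRing R] [IsLocalRing R]
    (h : ∃ x : R, x ≠ 0 ∧ ∀ f ∈ IsLocalRing.maximalIdeal R, ∃ n : ℕ, f ^ n * x = 0)
    (I : Ideal R) (hI : I.FG) (hI' : I ≠ ⊤) : I.annihilator ≠ ⊥ := by
  classical
  obtain ⟨x, hx0, hx⟩ := h
  obtain ⟨s, rfl⟩ := hI
  have hsm : ∀ f ∈ s, f ∈ IsLocalRing.maximalIdeal R := by
    intro f hf
    exact IsLocalRing.le_maximalIdeal hI' (Ideal.subset_span hf)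
  -- key claim
  have key : ∀ t : Finset R, (∀ f ∈ t, f ∈ IsLocalRing.maximalIdeal R) →
      ∃ y : R, y ≠ 0 ∧ (∃ r, y = r * x) ∧ ∀ f ∈ t, f * y = 0 := by
    intro t
    induction t using Finset.induction_on with
    | empty => intro _; exact ⟨x, hx0, ⟨1, by simp⟩, by simp⟩
    | insert g t hg ih =>
      intro ht
      obtain ⟨y', hy'0, ⟨r, hr⟩, hy'⟩ := ih (fun f hf => ht f (Finset.mem_insert_of_mem hf))
      have hgm : g ∈ IsLocalRing.maximalIdeal R := ht g (Finset.mem_insert_self _ _)
      have hex : ∃ n : ℕ, g ^ n * y' = 0 := by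
        obtain ⟨n, hn⟩ := hx g hgm
        exact ⟨n, by rw [hr]; calc g ^ n * (r * x) = r * (g ^ n * x) := by ring
          _ = 0 := by rw [hn, mul_zero]⟩
      let n := Nat.find hex
      have hn : g ^ n * y' = 0 := Nat.find_spec hex
      have hnpos : n ≠ 0 := by
        intro h0
        rw [h0, pow_zero, one_mul] at hn
        exact hy'0 hn
      obtain ⟨k, hk⟩ := Nat.exists_eq_succ_of_ne_zero hnpos
      have hkmin : g ^ k * y' ≠ 0 := Nat.find_min hex (by omega)
      refine ⟨g ^ k * y', hkmin, ⟨g ^ k * r, by rw [hr]; ring⟩, ?_⟩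
      intro f hf
      rcases Finset.mem_insert.mp hf with rfl | hf
      · rw [← mul_assoc, ← pow_succ', ← Nat.succ_eq_add_one, ← hk]; exact hn
      · calc f * (g ^ k * y') = g ^ k * (f * y') := by ring
          _ = 0 := by rw [hy' f hf, mul_zero]
  obtain ⟨y, hy0, -, hy⟩ := key s hsm
  intro hbot
  have hyann : y ∈ (Ideal.span (s : Set R)).annihilator := by
    rw [Submodule.mem_annihilator]
    intro z hz
    induction hz using Submodule.span_induction with
    | mem z hz => rw [smul_eq_mul, mul_comm]; exact hy z hz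
    | zero => simp
    | add a b _ _ ha hb => rw [smul_add, ha, hb, add_zero]
    | smul c a _ ha => rw [smul_comm, ha, smul_zero]
  rw [hbot] at hyann
  exact hy0 (by simpa using hyann)

end Groth.Agent.S9283
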