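import Groth.Statements.S9284
import Mathlib
import Groth.Agent.Lib.helper1.ProjSplit

set_option autoImplicit false
universe u
open CAlgX

namespace Groth.Agent.S9284

open TensorProduct


/-- Let R be a ring such that every proper finitely generated ideal of R has a nonzero annihilator, and
let u : N → M be an R-linear map between projective R-modules. Then u stays injective after
tensoring with every R-module exactly when u is injective. -/
theorem result (R : Type u) [CommRing R]
    (hP : (∀ I : Ideal R, I.FG → I ≠ ⊤ → I.annihilator ≠ ⊥))
    (N M : Type u) [AddCommGroup N] [Module R N] [Module.Projective R N] [AddCommGroup M]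
    [Module R M] [Module.Projective R M] (u : N →ₗ[R] M) :
    CAlgX.UniversallyInjective R u ↔ Function.Injective u := by
  constructor
  · intro hUI
    rw [injective_iff_map_eq_zero]
    intro x hx
    have h1 : u.rTensor R (x ⊗ₜ[R] (1 : R)) = 0 := by
      rw [LinearMap.rTensor_tmul, hx, TensorProduct.zero_tmul]
    have h2 : x ⊗ₜ[R] (1 : R) = 0 := (hUI R) (h1.trans (map_zero _).symm)
    have h3 := congrArg (TensorProduct.rid R N) h2
    rwa [TensorProduct.rid_tmul, one_smul, map_zero] at h3
  · intro hinj
    exact (Groth.Agent.S2057.result u hinj).mpr
      (Helper1.ProjSplit.ec_of_injective hP N M u hinj)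

end Groth.Agent.S9284
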