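import Groth.Statements.S9285
import Mathlib

set_option autoImplicit false
universe u

namespace Groth.Agent.S9285

theorem result (R : Type u) [CommRing R] :
    (∀ I : Ideal R, I.FG → I ≠ ⊤ → I.annihilator ≠ ⊥) ↔
      ∀ (n : ℕ) (u : R →ₗ[R] (Fin n → R)), Function.Injective u →
        ∃ v : (Fin n → R) →ₗ[R] R, v.comp u = LinearMap.id := by
  classical
  constructor
  · intro hP n u hu
    let a : Fin n → R := u 1
    have hua : ∀ r : R, u r = r • a := by
      intro r
      have : u (r • (1 : R)) = r • u 1 := u.map_smul r 1
      simpa using this
    have hann : (Ideal.span (Set.range a)).annihilator = ⊥ := by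
      rw [eq_bot_iff]
      intro y hy
      rw [Submodule.mem_annihilator] at hy
      have : u y = 0 := by
        rw [hua]
        ext i
        have := hy (a i) (Ideal.subset_span ⟨i, rfl⟩)
        simpa using this
      have : y = 0 := hu (by rw [this, map_zero])
      simpa using this
    have htop : Ideal.span (Set.range a) = ⊤ := by
      by_contra hne
      exact hP _ ⟨Finset.univ.image a, by simp⟩ hne hann
    have h1 : (1 : R) ∈ Ideal.span (Set.range a) := by rw [htop]; trivial
    rw [Ideal.mem_span_range_iff_exists_fun] at h1
    obtain ⟨b, hb⟩ := h1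
    refine ⟨∑ i, b i • LinearMap.proj i, ?_⟩
    ext
    simp only [LinearMap.coe_comp, Function.comp_apply, LinearMap.coe_sum, Finset.sum_apply,
      LinearMap.smul_apply, LinearMap.proj_apply, LinearMap.id_coe, id_eq]
    show ∑ i, b i • (u 1) i = 1
    simpa [a] using hb
  · intro hS I hI hItop hann
    obtain ⟨n, a, ha⟩ := Submodule.fg_iff_exists_fin_generating_family.mp hI
    let u : R →ₗ[R] (Fin n → R) := LinearMap.toSpanSingleton R (Fin n → R) a
    have hu : Function.Injective u := by
      rw [injective_iff_map_eq_zero]
      intro r hr
      have hr' : ∀ i, r * a i = 0 := by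
        intro i
        have := congrFun hr i
        simpa [u] using this
      have : r ∈ I.annihilator := by
        rw [Submodule.mem_annihilator]
        intro z hz
        rw [← ha] at hz
        induction hz using Submodule.span_induction with
        | mem z hz => obtain ⟨i, rfl⟩ := hz; exact hr' i
        | zero => simp
        | add x y _ _ hx hy => rw [smul_add, hx, hy, add_zero]
        | smul c x _ hx => rw [smul_comm, hx, smul_zero]
      rw [hann] at this
      simpa using this
    obtain ⟨v, hv⟩ := hS n u hu
    have h1 : v a = 1 := by
      have := LinearMap.congr_fun hv 1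
      simpa [u] using this
    have h2 : v a ∈ I := by
      rw [pi_eq_sum_univ' a, map_sum]
      refine Ideal.sum_mem _ fun i _ => ?_
      rw [map_smul, smul_eq_mul]
      refine Ideal.mul_mem_right _ _ ?_
      rw [← ha]
      exact Submodule.subset_span ⟨i, rfl⟩
    rw [h1] at h2
    exact hItop ((Ideal.eq_top_iff_one I).mpr h2)

end Groth.Agent.S9285
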