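import Groth.Statements.S9286
import Mathlib
import Groth.Agent.Lib.helper1.ProjSplit
import Groth.Agent.Lib.helper1.PureCover

set_option autoImplicit false
universe u
open CAlg

namespace Groth.Agent.S9286

/-- Let R be a ring in which every proper finitely generated ideal has a nonzero annihilator. Given an
injective R-linear map u : N → M, where both N and M are finite and projective over R, the quotient
Coker(u) = M/u(N) is again projective as an R-module. -/
theorem result (R : Type u) [CommRing R]
    (hP : (∀ I : Ideal R, I.FG → I ≠ ⊤ → I.annihilator ≠ ⊥))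
    (N M : Type u) [AddCommGroup N] [Module R N] [Module.Finite R N] [Module.Projective R N]
    [AddCommGroup M] [Module R M] [Module.Finite R M] [Module.Projective R M]
    (u : N →ₗ[R] M) (hu : Function.Injective u) :
    Module.Projective R (M ⧸ LinearMap.range u) := by
  classical
  have hEC := Helper1.ProjSplit.ec_of_injective hP N M u hu
  obtain ⟨g, hg⟩ : ∃ g : M →ₗ[R] (M ⧸ LinearMap.range u), g = (LinearMap.range u).mkQ :=
    ⟨_, rfl⟩
  have hgs : Function.Surjective g := by rw [hg]; exact Submodule.mkQ_surjective _
  have hker : LinearMap.ker g = LinearMap.range u := by rw [hg, Submodule.ker_mkQ]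
  have hui : CAlgX.UniversallyInjective R (LinearMap.ker g).subtype := by
    refine (Groth.Agent.S2057.result (LinearMap.ker g).subtype
      (Submodule.injective_subtype _)).mpr ?_
    intro n m x y a hxy
    have hx : ∀ i, ∃ ni : N, u ni = (x i : M) := fun i => by
      have h : (x i : M) ∈ LinearMap.range u := (SetLike.ext_iff.mp hker (x i : M)).mp (x i).2
      exact LinearMap.mem_range.mp h
    choose nn hnn using hx
    obtain ⟨z, hz⟩ := hEC n m nn y a (fun i => by rw [hnn i]; exact hxy i)
    refine ⟨fun j => ⟨u (z j), (SetLike.ext_iff.mp hker _).mpr (LinearMap.mem_range_self u (z j))⟩,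
      fun i => ?_⟩
    apply Subtype.ext
    rw [← hnn i, hz i, map_sum, Submodule.coe_sum]
    exact Finset.sum_congr rfl fun j _ => by rw [map_smul, Submodule.coe_smul]
  have hfgr : (LinearMap.range u).FG := by
    rw [LinearMap.range_eq_map]; exact Module.Finite.fg_top.map u
  have hfpM : Module.FinitePresentation R M := Module.finitePresentation_of_projective R M
  have hfpC : Module.FinitePresentation R (M ⧸ LinearMap.range u) :=
    Module.finitePresentation_of_surjective (LinearMap.range u).mkQ
      (Submodule.mkQ_surjective _) (by rw [Submodule.ker_mkQ]; exact hfgr)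
  obtain ⟨ψ, hψ⟩ := Helper1.PureCover.fp_lift R g hgs hui LinearMap.id
  exact Module.Projective.of_split ψ g hψ

end Groth.Agent.S9286
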