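import Groth.Statements.S9291
import Mathlib

set_option autoImplicit false
universe u
open EtAlg

namespace Groth.Agent.S9291

/-- Let A be a ring, I an ideal and u a unit of A/I. Then there is an étale ring map A → A' such that
A/I → A'/IA' is an isomorphism, together with a unit of A' mapping to the image of u. -/
theorem result (A : Type u) [CommRing A] (I : Ideal A) (u : (A ⧸ I)ˣ) :
    ∃ (A' : Type u) (_ : CommRing A') (_ : Algebra A A'), Algebra.Etale A A' ∧
      Function.Bijective (Ideal.quotientMap (Ideal.map (algebraMap A A') I) (algebraMap A A')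
        Ideal.le_comap_map) ∧
      ∃ u' : A'ˣ, Ideal.Quotient.mk (Ideal.map (algebraMap A A') I) (u' : A') =
        Ideal.quotientMap (Ideal.map (algebraMap A A') I) (algebraMap A A') Ideal.le_comap_map
          (u : A ⧸ I) := by
  classical
  obtain ⟨a, ha⟩ := Ideal.Quotient.mk_surjective (u : A ⧸ I)
  haveI : Algebra.Etale A (Localization.Away a) := Algebra.Etale.of_isLocalizationAway a
  have hfa : IsUnit (algebraMap A (Localization.Away a) a) :=
    IsLocalization.map_units (Localization.Away a) (⟨a, ⟨1, pow_one a⟩⟩ : Submonoid.powers a)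
  have hmka : IsUnit (Ideal.Quotient.mk I a) := by rw [ha]; exact u.isUnit
  refine ⟨Localization.Away a, inferInstance, inferInstance, inferInstance, ⟨?_, ?_⟩,
    ⟨hfa.unit, ?_⟩⟩
  · apply Ideal.quotientMap_injective'
    intro x hx
    rw [Ideal.mem_comap, IsLocalization.mem_map_algebraMap_iff (Submonoid.powers a)] at hx
    obtain ⟨⟨i, ⟨_, ⟨m, rfl⟩⟩⟩, hxi⟩ := hx
    simp only at hxi
    rw [← map_mul, IsLocalization.eq_iff_exists (Submonoid.powers a)] at hxi
    obtain ⟨⟨_, ⟨k, rfl⟩⟩, hk⟩ := hxi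
    simp only at hk
    have h1 : a ^ k * (x * a ^ m) ∈ I := by rw [hk]; exact I.mul_mem_left _ i.2
    have h2 : Ideal.Quotient.mk I (a ^ k * (x * a ^ m)) = 0 := Ideal.Quotient.eq_zero_iff_mem.2 h1
    rw [map_mul, map_mul, map_pow, map_pow] at h2
    have h3 : Ideal.Quotient.mk I x = 0 := by
      have hu1 : IsUnit ((Ideal.Quotient.mk I a) ^ k) := hmka.pow k
      have hu2 : IsUnit ((Ideal.Quotient.mk I a) ^ m) := hmka.pow m
      have h4 := (hu1.mul_right_eq_zero).1 h2
      exact (hu2.mul_left_eq_zero).1 h4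
    exact Ideal.Quotient.eq_zero_iff_mem.1 h3
  · intro y
    obtain ⟨s, rfl⟩ := Ideal.Quotient.mk_surjective y
    obtain ⟨⟨x, ⟨_, ⟨n, rfl⟩⟩⟩, hs⟩ := IsLocalization.surj (Submonoid.powers a) s
    simp only at hs
    set φ := Ideal.quotientMap (Ideal.map (algebraMap A (Localization.Away a)) I)
      (algebraMap A (Localization.Away a)) Ideal.le_comap_map with hφ
    have hφa : φ (Ideal.Quotient.mk I a) = Ideal.Quotient.mk _ (algebraMap A _ a) :=
      Ideal.quotientMap_mk
    refine ⟨((hmka.unit⁻¹ : (A ⧸ I)ˣ) : A ⧸ I) ^ n * Ideal.Quotient.mk I x, ?_⟩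
    have hunit : IsUnit ((Ideal.Quotient.mk (Ideal.map (algebraMap A (Localization.Away a)) I))
        (algebraMap A (Localization.Away a) a) ^ n) := (hfa.map _).pow n
    apply hunit.mul_left_injective
    show φ (((hmka.unit⁻¹ : (A ⧸ I)ˣ) : A ⧸ I) ^ n * Ideal.Quotient.mk I x) *
        (Ideal.Quotient.mk _ (algebraMap A (Localization.Away a) a)) ^ n =
      Ideal.Quotient.mk _ s * (Ideal.Quotient.mk _ (algebraMap A (Localization.Away a) a)) ^ n
    rw [← hφa, ← map_pow, ← map_mul, mul_right_comm, ← mul_pow, IsUnit.val_inv_mul, one_pow,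
      one_mul, ← map_pow, hφ, Ideal.quotientMap_mk, Ideal.quotientMap_mk, ← map_mul, ← hs,
      map_pow]
  · show Ideal.Quotient.mk _ (algebraMap A (Localization.Away a) a) = _
    rw [← ha, Ideal.quotientMap_mk]

end Groth.Agent.S9291
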