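import Groth.Statements.S9292
import Mathlib

set_option autoImplicit false
universe u
open EtAlg

namespace Groth.Agent.S9292

/-- Let A be a ring, I an ideal, and e_1, ..., e_n a complete system of orthogonal idempotents of A/I
(equivalently a finite disjoint open covering of Spec(A/I)). Then one can find an A-algebra A' that
is étale over A, such that the induced map A/I → A'/IA' is bijective, together with a complete
system of orthogonal idempotents of A' lifting the e_j. -/
theorem result (A : Type u) [CommRing A] (I : Ideal A)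
    (n : ℕ) (e : Fin n → A ⧸ I) (he : CompleteOrthogonalIdempotents e) :
    ∃ (A' : Type u) (_ : CommRing A') (_ : Algebra A A'), Algebra.Etale A A' ∧
      Function.Bijective (Ideal.quotientMap (Ideal.map (algebraMap A A') I) (algebraMap A A')
        Ideal.le_comap_map) ∧
      ∃ e' : Fin n → A', CompleteOrthogonalIdempotents e' ∧
        ∀ j, Ideal.Quotient.mk (Ideal.map (algebraMap A A') I) (e' j) =
          Ideal.quotientMap (Ideal.map (algebraMap A A') I) (algebraMap A A') Ideal.le_comap_map
            (e j) := by
  classical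
  choose x hx using fun i => Ideal.Quotient.mk_surjective (e i)
  let R : Fin n → Type u := fun i => Localization.Away (x i)
  let A' := Π i : Fin n, R i
  let J : ∀ i, Ideal (R i) := fun i => Ideal.map (algebraMap A (R i)) I
  have hxx : ∀ i j, i ≠ j → x i * x j ∈ I := by
    intro i j hij
    rw [← Ideal.Quotient.eq_zero_iff_mem, map_mul, hx, hx]
    exact he.ortho hij
  have hx1 : ∀ j, (1 - x j) * x j ∈ I := by
    intro j
    rw [← Ideal.Quotient.eq_zero_iff_mem, map_mul, map_sub, map_one, hx]
    rw [sub_mul, one_mul, (he.idem j).eq, sub_self]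
  have hu : ∀ j, IsUnit (algebraMap A (R j) (x j)) := fun j =>
    IsLocalization.Away.algebraMap_isUnit (x j)
  have F1 : ∀ i j, i ≠ j → algebraMap A (R j) (x i) ∈ J j := by
    intro i j hij
    rw [← Ideal.mul_unit_mem_iff_mem (J j) (hu j), ← map_mul]
    exact Ideal.mem_map_of_mem _ (hxx i j hij)
  have F2 : ∀ j, 1 - algebraMap A (R j) (x j) ∈ J j := by
    intro j
    rw [← Ideal.mul_unit_mem_iff_mem (J j) (hu j)]
    have h1 : (1 - algebraMap A (R j) (x j)) * algebraMap A (R j) (x j) =
        algebraMap A (R j) ((1 - x j) * x j) := by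
      rw [map_mul, map_sub, map_one]
    rw [h1]
    exact Ideal.mem_map_of_mem _ (hx1 j)
  let I' : Ideal A' := Ideal.map (algebraMap A A') I
  have F3 : ∀ w : A', (∀ i, w i ∈ J i) → w ∈ I' := by
    intro w hw
    rw [← Finset.univ_sum_single w]
    refine Ideal.sum_mem _ fun i _ => ?_
    have hwi := hw i
    refine Submodule.span_induction (p := fun v _ => (Pi.single i v : A') ∈ I') ?_ ?_ ?_ ?_ hwi
    · rintro _ ⟨b, hb, rfl⟩
      have h1 : (Pi.single i (algebraMap A (R i) b) : A') =
          algebraMap A A' b * Pi.single i 1 := by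
        ext k
        by_cases hk : k = i
        · subst hk
          rw [Pi.mul_apply, Pi.single_eq_same, Pi.single_eq_same, mul_one]
          rfl
        · rw [Pi.mul_apply, Pi.single_eq_of_ne hk, Pi.single_eq_of_ne hk, mul_zero]
      rw [h1]
      exact Ideal.mul_mem_right _ _ (Ideal.mem_map_of_mem _ hb)
    · rw [Pi.single_zero]
      exact Ideal.zero_mem _
    · intro v v' _ _ hv hv'
      rw [Pi.single_add]
      exact Ideal.add_mem _ hv hv'
    · intro c v _ hv
      rw [smul_eq_mul, Pi.single_mul]
      exact Ideal.mul_mem_left _ _ hv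
  have F3' : ∀ w ∈ I', ∀ i, w i ∈ J i := by
    intro w hw i
    have h1 : I' ≤ Ideal.pi J := by
      rw [Ideal.map_le_iff_le_comap]
      intro b hb
      rw [Ideal.mem_comap, Ideal.mem_pi]
      intro k
      exact Ideal.mem_map_of_mem _ hb
    exact (Ideal.mem_pi J w).mp (h1 hw) i
  refine ⟨A', inferInstance, inferInstance, inferInstance, ⟨?_, ?_⟩,
    fun j => Pi.single j 1, CompleteOrthogonalIdempotents.single R, ?_⟩
  · -- injectivity
    apply Ideal.quotientMap_injective'
    intro a ha
    rw [Ideal.mem_comap] at ha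
    have key : ∀ i, e i * Ideal.Quotient.mk I a = 0 := by
      intro i
      have h1 := F3' _ ha i
      have h1' : algebraMap A (R i) a ∈ J i := h1
      obtain ⟨⟨b, s⟩, hbs⟩ := (IsLocalization.mem_map_algebraMap_iff
        (Submonoid.powers (x i)) (R i)).mp h1'
      obtain ⟨k, hk⟩ := s.2
      rw [← map_mul] at hbs
      obtain ⟨⟨_, m, rfl⟩, hm⟩ := (IsLocalization.eq_iff_exists (Submonoid.powers (x i))
        (R i)).mp hbs
      simp only at hm
      have h2 : x i ^ m * (a * x i ^ k) ∈ I := by
        rw [← hk] at hm
        rw [hm]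
        exact Ideal.mul_mem_left _ _ b.2
      have h3 : e i ^ (m + k) * Ideal.Quotient.mk I a = 0 := by
        have := Ideal.Quotient.eq_zero_iff_mem.mpr h2
        rw [map_mul, map_mul, map_pow, map_pow, hx] at this
        rw [pow_add]
        linear_combination this
      rcases Nat.eq_zero_or_pos (m + k) with h0 | hpos
      · rw [h0, pow_zero, one_mul] at h3
        rw [h3, mul_zero]
      · obtain ⟨N, hN⟩ := Nat.exists_eq_succ_of_ne_zero hpos.ne'
        rw [hN, (he.idem i).pow_succ_eq] at h3
        exact h3
    rw [← Ideal.Quotient.eq_zero_iff_mem]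
    calc Ideal.Quotient.mk I a = (∑ i, e i) * Ideal.Quotient.mk I a := by
          rw [he.complete, one_mul]
      _ = 0 := by
          rw [Finset.sum_mul]
          exact Finset.sum_eq_zero fun i _ => key i
  · intro z'
    obtain ⟨z, rfl⟩ := Ideal.Quotient.mk_surjective z'
    have hz : ∀ i, ∃ (a : A) (k : ℕ),
        z i * algebraMap A (R i) (x i) ^ k = algebraMap A (R i) a := by
      intro i
      obtain ⟨⟨a, s⟩, hs⟩ := IsLocalization.surj (Submonoid.powers (x i)) (z i)
      obtain ⟨k, hk⟩ := s.2
      refine ⟨a, k, ?_⟩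
      have hk' : x i ^ k = (s : A) := hk
      rw [← map_pow, hk']
      exact hs
    choose a k hak using hz
    refine ⟨Ideal.Quotient.mk I (∑ i, x i * a i), ?_⟩
    rw [Ideal.quotientMap_mk, Ideal.Quotient.eq]
    apply F3
    intro j
    rw [← Ideal.Quotient.eq_zero_iff_mem]
    have hπ0 : ∀ i, i ≠ j → Ideal.Quotient.mk (J j) (algebraMap A (R j) (x i)) = 0 :=
      fun i hij => Ideal.Quotient.eq_zero_iff_mem.mpr (F1 i j hij)
    have hπ1 : Ideal.Quotient.mk (J j) (algebraMap A (R j) (x j)) = 1 := by
      have h1 := Ideal.Quotient.eq_zero_iff_mem.mpr (F2 j)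
      rw [map_sub, map_one, sub_eq_zero] at h1
      exact h1.symm
    have e1 : (algebraMap A A' (∑ i, x i * a i) - z) j =
        algebraMap A (R j) (∑ i, x i * a i) - z j := rfl
    have e2 : Ideal.Quotient.mk (J j) (algebraMap A (R j) (∑ i, x i * a i)) =
        Ideal.Quotient.mk (J j) (algebraMap A (R j) (a j)) := by
      rw [map_sum, map_sum, Finset.sum_eq_single j]
      · rw [map_mul, map_mul, hπ1, one_mul]
      · intro i _ hij
        rw [map_mul, map_mul, hπ0 i hij, zero_mul]
      · intro h
        exact absurd (Finset.mem_univ j) h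
    have e3 : Ideal.Quotient.mk (J j) (z j) =
        Ideal.Quotient.mk (J j) (algebraMap A (R j) (a j)) := by
      rw [← hak j, map_mul, map_pow, hπ1, one_pow, mul_one]
    rw [e1, map_sub, e2, e3, sub_self]
  · intro j
    rw [← hx j, Ideal.quotientMap_mk, Ideal.Quotient.eq]
    apply F3
    intro i
    by_cases hij : i = j
    · subst hij
      have h1 : ((Pi.single i 1 : A') - algebraMap A A' (x i)) i =
          1 - algebraMap A (R i) (x i) := by
        rw [Pi.sub_apply, Pi.single_eq_same]
        rfl
      rw [h1]
      exact F2 i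
    · have h1 : ((Pi.single j 1 : A') - algebraMap A A' (x j)) i =
          - algebraMap A (R i) (x j) := by
        rw [Pi.sub_apply, Pi.single_eq_of_ne hij, zero_sub]
        rfl
      rw [h1]
      exact (Ideal.neg_mem_iff _).mpr (F1 j i (Ne.symm hij))

end Groth.Agent.S9292
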