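import Groth.Statements.S9300
import Mathlib

set_option autoImplicit false
universe u

namespace Groth.Agent.S9300

theorem result (A B : Type u) [CommRing A] [IsDomain A]
    [CommRing B] [IsDomain B] (φ : A →+* B)
    (h : ∃! q : PrimeSpectrum B, Ideal.comap φ q.asIdeal = ⊥) (J : Ideal B) (hJ : J ≠ ⊥) :
    Ideal.comap φ J ≠ ⊥ := by
  obtain ⟨q₀, hq₀, huniq⟩ := h
  intro hcomap
  -- φ is injective
  have hinj : Function.Injective φ := by
    rw [injective_iff_map_eq_zero]
    intro a ha
    have : a ∈ Ideal.comap φ q₀.asIdeal := by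
      rw [Ideal.mem_comap, ha]; exact Ideal.zero_mem _
    rw [hq₀] at this
    simpa using this
  -- the multiplicative set φ(A \ 0)
  let S : Submonoid B := (nonZeroDivisors A).map φ
  have hdisj : Disjoint (J : Set B) (S : Set B) := by
    rw [Set.disjoint_left]
    rintro b hbJ ⟨a, ha, rfl⟩
    have : a ∈ Ideal.comap φ J := hbJ
    rw [hcomap] at this
    have ha0 : a = 0 := by simpa using this
    exact (nonZeroDivisors.ne_zero ha) ha0
  obtain ⟨q, hqprime, hJq, hqS⟩ := Ideal.exists_le_prime_disjoint J S hdisj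
  have hq : Ideal.comap φ q = ⊥ := by
    rw [eq_bot_iff]
    intro a ha
    by_contra ha0
    have ha0' : a ≠ 0 := by simpa using ha0
    have : φ a ∈ (S : Set B) := ⟨a, mem_nonZeroDivisors_of_ne_zero ha0', rfl⟩
    exact Set.disjoint_left.mp hqS ha this
  have hbot : Ideal.comap φ (⊥ : Ideal B) = ⊥ := by
    rw [eq_bot_iff]
    intro a ha
    have : φ a = 0 := by simpa using ha
    have : a = 0 := hinj (by simpa using this)
    simpa using this
  have e1 := huniq ⟨q, hqprime⟩ hq
  have e2 := huniq ⟨⊥, Ideal.isPrime_bot⟩ hbot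
  have : q = ⊥ := by
    have := e1.trans e2.symm
    exact congrArg PrimeSpectrum.asIdeal this
  apply hJ
  rw [eq_bot_iff]
  exact this ▸ hJq

end Groth.Agent.S9300
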