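import Groth.Statements.S9301
import Mathlib

set_option autoImplicit false
universe u
open CAlg

namespace Groth.Agent.S9301

/-- Let A and B be domains and A → B a flat ring map which is the localization of a quasi-finite ring
map A → B₀ (of finite type with finite fibres). Then every nonzero ideal of B has nonzero preimage
in A. -/
theorem result (A B₀ B : Type u) [CommRing A] [IsDomain A]
    [CommRing B₀] [CommRing B] [IsDomain B] [Algebra A B₀] [Algebra.FiniteType A B₀]
    [Algebra.QuasiFinite A B₀] (S : Submonoid B₀) [Algebra B₀ B] [IsLocalization S B] [Algebra A B]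
    [IsScalarTower A B₀ B] [Module.Flat A B] (J : Ideal B) (hJ : J ≠ ⊥) :
    Ideal.comap (algebraMap A B) J ≠ ⊥ := by
  classical
  haveI : Algebra.QuasiFinite A B :=
    Algebra.QuasiFinite.of_isLocalization (R := A) (S := B₀) (T := B) S
  have hinj : Function.Injective (algebraMap A B) := by
    rw [injective_iff_map_eq_zero]
    intro a ha
    by_contra hne
    have hreg : IsRegular a := isRegular_of_ne_zero hne
    have hsm : IsSMulRegular B a := Module.IsTorsionFree.isSMulRegular hreg
    have h1 : a • (1 : B) = a • (0 : B) := by rw [Algebra.smul_def, mul_one, ha, smul_zero]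
    exact one_ne_zero (hsm h1)
  have hinjL : Function.Injective (algebraMap A (FractionRing B)) := by
    rw [IsScalarTower.algebraMap_eq A B (FractionRing B)]
    exact (IsFractionRing.injective B (FractionRing B)).comp hinj
  haveI : FaithfulSMul A (FractionRing B) :=
    (faithfulSMul_iff_algebraMap_injective A (FractionRing B)).2 hinjL
  letI : Algebra (FractionRing A) (FractionRing B) := FractionRing.liftAlgebra A (FractionRing B)
  haveI : IsScalarTower A (FractionRing A) (FractionRing B) :=
    FractionRing.isScalarTower_liftAlgebra A (FractionRing B)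
  haveI : Module.Finite (FractionRing A) (TensorProduct A (FractionRing A) B) :=
    Module.Finite.of_quasiFinite
  let f : TensorProduct A (FractionRing A) B →ₐ[FractionRing A] FractionRing B :=
    Algebra.TensorProduct.lift (Algebra.ofId (FractionRing A) (FractionRing B))
      (IsScalarTower.toAlgHom A B (FractionRing B)) (fun _ _ => Commute.all _ _)
  have halg : ∀ b : B, IsAlgebraic A b := by
    intro b
    have h1 : IsIntegral (FractionRing A) ((1 : FractionRing A) ⊗ₜ[A] b) :=
      Algebra.IsIntegral.isIntegral _
    have h2 : IsIntegral (FractionRing A) (f ((1 : FractionRing A) ⊗ₜ[A] b)) := h1.map f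
    have h3 : f ((1 : FractionRing A) ⊗ₜ[A] b) = algebraMap B (FractionRing B) b := by
      simp [f]
    rw [h3] at h2
    have h4 : IsAlgebraic (FractionRing A) (algebraMap B (FractionRing B) b) := h2.isAlgebraic
    have h5 : IsAlgebraic A (algebraMap B (FractionRing B) b) :=
      (IsFractionRing.isAlgebraic_iff A (FractionRing A) (FractionRing B)).2 h4
    exact (isAlgebraic_algebraMap_iff (IsFractionRing.injective B (FractionRing B))).1 h5
  obtain ⟨b, hbJ, hb0⟩ : ∃ b ∈ J, b ≠ 0 := Submodule.exists_mem_ne_zero_of_ne_bot hJ
  obtain ⟨r, hr, hdvd⟩ := (halg b).exists_nonzero_dvd (mem_nonZeroDivisors_of_ne_zero hb0)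
  intro hbot
  apply hr
  have hmem : r ∈ Ideal.comap (algebraMap A B) J := by
    rw [Ideal.mem_comap]
    exact Ideal.mem_of_dvd J hdvd hbJ
  rw [hbot] at hmem
  exact hmem

end Groth.Agent.S9301
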