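import Groth.Statements.S9302
import Mathlib

set_option autoImplicit false
universe u
open CategoryTheory
open EtAlg

namespace Groth.Agent.S9302

open Polynomial in
lemma h5_root_unique {R : Type*} [CommRing R] (I : Ideal R) (hI : I ≤ Ideal.jacobson ⊥)
    (f : R[X]) (a b a₀ : R) (ha : f.IsRoot a) (hb : f.IsRoot b) (ha0 : a - a₀ ∈ I)
    (hb0 : b - a₀ ∈ I) (hu : IsUnit (Ideal.Quotient.mk I (f.derivative.eval a₀))) : a = b := by
  obtain ⟨k, hk⟩ := Polynomial.binomExpansion f b (a - b)
  rw [add_sub_cancel] at hk
  have ha' : f.eval a = 0 := ha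
  have hb' : f.eval b = 0 := hb
  rw [ha', hb', zero_add] at hk
  have hab : a - b ∈ I := by
    have : a - b = (a - a₀) - (b - a₀) := by ring
    rw [this]
    exact I.sub_mem ha0 hb0
  have hmk : Ideal.Quotient.mk I (f.derivative.eval b) =
      Ideal.Quotient.mk I (f.derivative.eval a₀) := by
    rw [← Polynomial.eval₂_at_apply, ← Polynomial.eval₂_at_apply]
    congr 1
    exact Ideal.Quotient.eq.mpr hb0
  have hunit : IsUnit (f.derivative.eval b + k * (a - b)) := by
    haveI := isLocalHom_of_le_jacobson_bot I hI
    apply isUnit_of_map_unit (Ideal.Quotient.mk I)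
    rw [map_add, (Ideal.Quotient.eq_zero_iff_mem.mpr (I.mul_mem_left k hab)), add_zero, hmk]
    exact hu
  have h0 : (f.derivative.eval b + k * (a - b)) * (a - b) = 0 := by
    rw [hk]
    ring
  have h1 := hunit.mul_right_eq_zero.mp h0
  exact sub_eq_zero.mp h1

lemma h5_exists_of_compatible {J : Type u} [Category.{u} J] (F : J ⥤ CommRingCat.{u})
    (b : ∀ j, F.obj j)
    (hb : ∀ (i j : J) (φ : i ⟶ j), (F.map φ).hom (b i) = b j) :
    ∃ a : (Limits.limit F : CommRingCat.{u}), ∀ j, (Limits.limit.π F j).hom a = b j := by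
  let P : CommRingCat.{u} := CommRingCat.of (Polynomial (ULift.{u} ℤ))
  let ψ : ∀ j, P ⟶ F.obj j := fun j => CommRingCat.ofHom (Polynomial.eval₂RingHom
    ((Int.castRingHom (F.obj j)).comp (ULift.ringEquiv : ULift.{u} ℤ ≃+* ℤ).toRingHom) (b j))
  let c : Limits.Cone F :=
    { pt := P
      π :=
        { app := ψ
          naturality := by
            intro i j φ
            apply CommRingCat.hom_ext
            apply Polynomial.ringHom_ext
            · intro n
              simp [ψ]
            · simp [ψ, hb i j φ] } }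
  refine ⟨(Limits.limit.lift F c).hom Polynomial.X, fun j => ?_⟩
  have h1 := Limits.limit.lift_π c j
  calc (Limits.limit.π F j).hom ((Limits.limit.lift F c).hom Polynomial.X)
      = (Limits.limit.lift F c ≫ Limits.limit.π F j).hom Polynomial.X := rfl
    _ = (ψ j).hom Polynomial.X := by rw [h1]
    _ = b j := by
      simp only [ψ, CommRingCat.hom_ofHom]
      exact Polynomial.eval₂_X _ _

/-- Henselian pairs are preserved under limits: for an inverse system (A_j, I_j) of henselian pairs over
a preordered set J, the limit A = lim A_j with the ideal I = lim I_j (elements all of whose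
projections lie in the I_j) is a henselian pair. -/
theorem result (J : Type u) [Preorder J] (F : J ⥤ CommRingCat.{u})
    (I : ∀ j : J, Ideal (F.obj j))
    (hI : ∀ (i j : J) (φ : i ⟶ j), Ideal.map (F.map φ).hom (I i) ≤ I j)
    (h : ∀ j : J, HenselianRing (F.obj j) (I j)) :
    HenselianRing ((Limits.limit F : CommRingCat.{u}) : Type u)
      (⨅ j : J, Ideal.comap (Limits.limit.π F j).hom (I j)) := by
  set A := (Limits.limit F : CommRingCat.{u}) with hA
  let π : ∀ j, A →+* F.obj j := fun j => (Limits.limit.π F j).hom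
  have hπ : ∀ (i j : J) (φ : i ⟶ j) (a : A), (F.map φ).hom (π i a) = π j a := by
    intro i j φ a
    have h1 := Limits.limit.w F φ
    calc (F.map φ).hom (π i a) = (Limits.limit.π F i ≫ F.map φ).hom a := rfl
      _ = π j a := by rw [h1]
  have hinj : ∀ a a' : A, (∀ j, π j a = π j a') → a = a' :=
    fun a a' => Limits.Concrete.limit_ext F a a'
  have hmemI : ∀ (x : A), x ∈ (⨅ j : J, Ideal.comap (Limits.limit.π F j).hom (I j)) →
      ∀ j, π j x ∈ I j := fun x hx j => Ideal.mem_iInf.mp hx j
  constructor
  · intro x hx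
    rw [Ideal.mem_jacobson_bot]
    intro y
    have hu : ∀ j, IsUnit (π j (x * y + 1)) := by
      intro j
      have h1 := (h j).jac (hmemI x hx j)
      rw [Ideal.mem_jacobson_bot] at h1
      simpa using h1 (π j y)
    choose v hv using fun j => (hu j).exists_right_inv
    have hcompat : ∀ (i j : J) (φ : i ⟶ j), (F.map φ).hom (v i) = v j := by
      intro i j φ
      have h1 : π j (x * y + 1) * (F.map φ).hom (v i) = 1 := by
        rw [← hπ i j φ, ← map_mul, hv, map_one]
      have h2 := (hu j).mul_right_inj.mp (h1.trans (hv j).symm)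
      exact h2
    obtain ⟨w, hw⟩ := h5_exists_of_compatible F v hcompat
    refine IsUnit.of_mul_eq_one w (hinj _ _ fun j => ?_)
    rw [map_mul, map_one]
    exact (congrArg (π j (x * y + 1) * ·) (hw j)).trans (hv j)
  · intro f hf a₀ h₁ h₂
    have hunit : ∀ j, IsUnit (Ideal.Quotient.mk (I j)
        ((Polynomial.derivative (f.map (π j))).eval (π j a₀))) := by
      intro j
      rw [Polynomial.derivative_map, Polynomial.eval_map, Polynomial.eval₂_at_apply]
      let q : (A ⧸ (⨅ j : J, Ideal.comap (Limits.limit.π F j).hom (I j))) →+* (F.obj j ⧸ I j) :=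
        Ideal.quotientMap (I j) (π j) (fun x hx => hmemI x hx j)
      have h3 := h₂.map q
      simpa [q] using h3
    have key : ∀ j, ∃ a : F.obj j, (f.map (π j)).IsRoot a ∧ a - π j a₀ ∈ I j := by
      intro j
      apply (h j).is_henselian (f.map (π j)) (hf.map _) (π j a₀)
      · rw [Polynomial.eval_map, Polynomial.eval₂_at_apply]
        exact hmemI _ h₁ j
      · exact hunit j
    choose r hr₁ hr₂ using key
    have hcompat : ∀ (i j : J) (φ : i ⟶ j), (F.map φ).hom (r i) = r j := by
      intro i j φ
      have hIij : ∀ z ∈ I i, (F.map φ).hom z ∈ I j := fun z hz =>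
        hI i j φ (Ideal.mem_map_of_mem _ hz)
      have hmap : (f.map (π i)).map (F.map φ).hom = f.map (π j) := by
        rw [Polynomial.map_map]
        congr 1
        ext a
        exact hπ i j φ a
      apply h5_root_unique (I j) (h j).jac (f.map (π j)) _ _ (π j a₀)
      · rw [Polynomial.IsRoot.def, ← hmap, Polynomial.eval_map, Polynomial.eval₂_at_apply]
        have h4 : (f.map (π i)).eval (r i) = 0 := hr₁ i
        rw [h4, map_zero]
      · exact hr₁ j
      · rw [← hπ i j φ, ← map_sub]
        exact hIij _ (hr₂ i)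
      · exact hr₂ j
      · exact hunit j
    obtain ⟨a, ha⟩ := h5_exists_of_compatible F r hcompat
    refine ⟨a, ?_, ?_⟩
    · apply hinj
      intro j
      rw [map_zero]
      have h5 : π j (f.eval a) = (f.map (π j)).eval (π j a) := by
        rw [Polynomial.eval_map, Polynomial.eval₂_at_apply]
      rw [h5]
      have h6 : π j a = r j := ha j
      rw [h6]
      exact hr₁ j
    · rw [Ideal.mem_iInf]
      intro j
      rw [Ideal.mem_comap, map_sub]
      have h6 : (Limits.limit.π F j).hom a = r j := ha j
      rw [h6]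
      exact hr₂ j

end Groth.Agent.S9302
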