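import Groth.Statements.S9331
import Mathlib
import Groth.Agent.Lib.helper5.FibreClosed

set_option autoImplicit false
universe u
open QFin

namespace Groth.Agent.S9331

open AlgebraicGeometry CategoryTheory in
/-- Let f : X → S be a morphism of schemes, x ∈ X, s = f x. If κ(x) is algebraic over κ(s) (through the
residue field map of f at x), then x is a closed point of the fibre X_s, and if in addition s is
closed in S then x is closed in X. -/
theorem result {X S : Scheme.{u}} (f : X ⟶ S) (x : X)
    (halg : @Algebra.IsAlgebraic (S.residueField (f.base x)) (X.residueField x) _ _ (f.residueFieldMap x).hom.toAlgebra) :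
    IsClosed ({f.asFiber x} : Set ↑(f.fiber (f.base x))) ∧
      (IsClosed ({f.base x} : Set ↑S) → IsClosed ({x} : Set ↑X)) := by
  constructor
  · rw [← closure_subset_iff_isClosed]
    intro z' hz'
    have hsp : f.asFiber x ⤳ z' := specializes_iff_mem_closure.mpr hz'
    have h1 : f.fiberι _ (f.asFiber x) ⤳ f.fiberι _ z' := hsp.map (f.fiberι _).continuous
    rw [f.fiberι_asFiber] at h1
    have h2 : f (f.fiberι _ z') = f x := by
      have h3 : f.fiberι _ z' ∈ f ⁻¹' {f x} := (f.range_fiberι (f x)) ▸ Set.mem_range_self z'
      exact h3
    have h3 := H5FibreClosed.eq_of_algebraic f h1 h2.symm halg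
    rw [Set.mem_singleton_iff]
    apply (f.fiberι (f x)).isEmbedding.injective
    rw [h3, f.fiberι_asFiber]
  · intro hs
    rw [← closure_subset_iff_isClosed]
    intro x' hx'
    have hsp : x ⤳ x' := specializes_iff_mem_closure.mpr hx'
    have h1 : f x ⤳ f x' := hsp.map f.continuous
    have h2 : f x' = f x := by
      have h3 : f x' ∈ closure {f x} := specializes_iff_mem_closure.mp h1
      rw [hs.closure_eq] at h3
      exact h3
    exact H5FibreClosed.eq_of_algebraic f hsp h2.symm halg

end Groth.Agent.S9331
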