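import Groth.Statements.S9332
import Mathlib
import Groth.Agent.S9331

set_option autoImplicit false
universe u
open QFin

namespace Groth.Agent.S9332

open AlgebraicGeometry CategoryTheory in
/-- Let f : X → S be locally of finite type and x ∈ X. Then x is closed in its fibre X_{f x} if and only
if κ(x) is a finite extension of κ(f x) (via the residue field map of f at x). -/
theorem result {X S : Scheme.{u}} (f : X ⟶ S) [LocallyOfFiniteType f] (x : X) :
    IsClosed ({f.asFiber x} : Set ↑(f.fiber (f.base x))) ↔ (f.residueFieldMap x).hom.Finite := by
  constructor
  · intro hcl
    haveI : IsClosedImmersion (f.asFiberHom x) := by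
      apply IsClosedImmersion.of_isPreimmersion
      rw [f.range_asFiberHom x]
      exact hcl
    haveI : LocallyOfFiniteType (f.fiberToSpecResidueField (f x)) := by
      unfold Scheme.Hom.fiberToSpecResidueField
      exact MorphismProperty.pullback_snd (P := @LocallyOfFiniteType) _ _ inferInstance
    haveI : LocallyOfFiniteType (Spec.map (f.residueFieldMap x)) := by
      rw [← f.asFiberHom_fiberToSpecResidueField x]
      infer_instance
    have hft : (f.residueFieldMap x).hom.FiniteType :=
      (HasRingHomProperty.Spec_iff (P := @LocallyOfFiniteType)).mp inferInstance
    letI := (f.residueFieldMap x).hom.toAlgebra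
    haveI : Algebra.FiniteType (S.residueField (f x)) (X.residueField x) := hft
    have := finite_of_finite_type_of_isJacobsonRing (S.residueField (f x)) (X.residueField x)
    exact this
  · intro hfin
    letI := (f.residueFieldMap x).hom.toAlgebra
    haveI : Module.Finite (S.residueField (f x)) (X.residueField x) := hfin
    have halg : Algebra.IsAlgebraic (S.residueField (f x)) (X.residueField x) :=
      Algebra.IsAlgebraic.of_finite _ _
    exact (Groth.Agent.S9331.result f x halg).1

end Groth.Agent.S9332
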