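import Groth.Statements.S9334
import Mathlib

set_option autoImplicit false
universe u
open QFin

namespace Groth.Agent.S9334

theorem h5_isOpen_singleton_of_noeth {T : Type*} [TopologicalSpace T] [QuasiSober T]
    (hfin : (irreducibleComponents T).Finite) (x : T) (hcl : IsClosed ({x} : Set T))
    (hgen : ∀ x' : T, x' ⤳ x → x' = x) : IsOpen ({x} : Set T) := by
  classical
  have hEq : ({x} : Set T) = (⋃₀ (irreducibleComponents T \ {{x}}))ᶜ := by
    ext y
    simp only [Set.mem_singleton_iff, Set.mem_compl_iff, Set.mem_sUnion, Set.mem_diff,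
      not_exists, not_and]
    constructor
    · intro hyx Z hZ hyZ
      rw [hyx] at hyZ
      apply hZ.2
      have hZirr : IsIrreducible Z := hZ.1.1
      have hZcl := isClosed_of_mem_irreducibleComponents Z hZ.1
      obtain ⟨η, hη⟩ := QuasiSober.sober hZirr hZcl
      have hηx : η ⤳ x := by rw [specializes_iff_mem_closure, hη.def]; exact hyZ
      have hηeq := hgen η hηx
      rw [← hη.def, hηeq, hcl.closure_eq]
    · intro hy
      by_contra hyx
      have hZ := irreducibleComponent_mem_irreducibleComponents y
      refine hy (irreducibleComponent y) ⟨hZ, ?_⟩ mem_irreducibleComponent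
      intro hZeq
      have h1 : y ∈ irreducibleComponent y := mem_irreducibleComponent
      rw [hZeq] at h1
      exact hyx h1
  rw [hEq, isOpen_compl_iff, Set.sUnion_eq_biUnion]
  apply Set.Finite.isClosed_biUnion (hfin.subset Set.diff_subset)
  intro W hW; exact isClosed_of_mem_irreducibleComponents W hW.1

open AlgebraicGeometry CategoryTheory in
/-- Let f : X → S be locally of finite type, x ∈ X, and write s = f x. The morphism f is quasi-finite at
x exactly when x is a closed point of the fibre X_s and no point x' ≠ x of X_s specializes to x. -/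
theorem result {X S : Scheme.{u}} (f : X ⟶ S) [LocallyOfFiniteType f] (x : X) :
    f.QuasiFiniteAt x ↔
      (IsClosed ({f.asFiber x} : Set ↑(f.fiber (f.base x))) ∧
        ∀ x' : ↑(f.fiber (f.base x)), x' ⤳ f.asFiber x → x' = f.asFiber x) := by
  constructor
  · intro hq
    have hclopen := hq.isClopen_singleton_asFiber
    refine ⟨hclopen.1, fun x' hx' => ?_⟩
    exact hx'.mem_open hclopen.2 (Set.mem_singleton _)
  · rintro ⟨hcl, hgen⟩
    rw [Scheme.Hom.quasiFiniteAt_iff_isOpen_singleton_asFiber]
    haveI : IsLocallyNoetherian (f.fiber (f.base x)) := by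
      unfold Scheme.Hom.fiber
      infer_instance
    obtain ⟨U, hUaff, haU, -⟩ :=
      exists_isAffineOpen_mem_and_subset (x := f.asFiber x) (U := ⊤) trivial
    haveI : IsNoetherianRing Γ(f.fiber (f.base x), U) :=
      IsLocallyNoetherian.component_noetherian ⟨U, hUaff⟩
    have hNoeth : TopologicalSpace.NoetherianSpace (U : Set (f.fiber (f.base x))) :=
      noetherianSpace_of_isAffineOpen U hUaff
    have hUopen : IsOpen (U : Set (f.fiber (f.base x))) := U.isOpen
    revert hNoeth hUopen
    have haV : f.asFiber x ∈ (U : Set (f.fiber (f.base x))) := haU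
    revert haV
    generalize (U : Set (f.fiber (f.base x))) = V
    intro haV hNoeth hVopen
    haveI := hNoeth
    haveI : QuasiSober V := hVopen.isOpenEmbedding_subtypeVal.quasiSober
    have hfin := TopologicalSpace.NoetherianSpace.finite_irreducibleComponents (α := V)
    have hcl' : IsClosed ({(⟨f.asFiber x, haV⟩ : V)} : Set V) := by
      have h1 : ({(⟨f.asFiber x, haV⟩ : V)} : Set V) = Subtype.val ⁻¹' {f.asFiber x} := by
        ext y
        simp only [Set.mem_singleton_iff, Set.mem_preimage]
        exact Subtype.ext_iff
      rw [h1]; exact hcl.preimage continuous_subtype_val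
    have hgen' : ∀ y : V, y ⤳ (⟨f.asFiber x, haV⟩ : V) → y = ⟨f.asFiber x, haV⟩ := by
      intro y hy
      rw [subtype_specializes_iff] at hy
      exact Subtype.ext (hgen y.1 hy)
    have hopen' := h5_isOpen_singleton_of_noeth hfin _ hcl' hgen'
    have h2 := hVopen.isOpenMap_subtype_val _ hopen'
    rw [Set.image_singleton] at h2
    exact h2

end Groth.Agent.S9334
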