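import Groth.Statements.S9335
import Mathlib

set_option autoImplicit false
universe u
open QFin

namespace Groth.Agent.S9335

theorem h5_finite_isolated {T : Type*} [TopologicalSpace T] [TopologicalSpace.NoetherianSpace T] :
    {t : T | IsOpen ({t} : Set T)}.Finite := by
  apply (TopologicalSpace.NoetherianSpace.isCompact _).finite
  refine ⟨discreteTopology_iff_isOpen_singleton.2 ?_⟩
  rintro ⟨t, ht⟩
  have h1 : ({(⟨t, ht⟩ : {t : T | IsOpen ({t} : Set T)})} : Set {t : T | IsOpen ({t} : Set T)}) =
      Subtype.val ⁻¹' {t} := by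
    ext y
    simp only [Set.mem_singleton_iff, Set.mem_preimage]
    exact Subtype.ext_iff
  rw [h1]
  exact ht.preimage continuous_subtype_val

open AlgebraicGeometry CategoryTheory in
/-- If f : X → S is of finite type and s ∈ S, then f is quasi-finite at only finitely many points of the
fibre over s. -/
theorem result {X S : Scheme.{u}} (f : X ⟶ S) [LocallyOfFiniteType f] [QuasiCompact f] (s : S) :
    {x : ↑X | f.base x = s ∧ f.QuasiFiniteAt x}.Finite := by
  classical
  haveI : IsLocallyNoetherian (f.fiber s) := by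
    unfold Scheme.Hom.fiber
    infer_instance
  haveI : IsNoetherian (f.fiber s) := {}
  haveI : TopologicalSpace.NoetherianSpace (f.fiber s) := inferInstance
  haveI : TopologicalSpace.NoetherianSpace (f ⁻¹' {s}) :=
    TopologicalSpace.noetherianSpace_of_surjective (f.fiberHomeo s) (f.fiberHomeo s).continuous
      (f.fiberHomeo s).surjective
  have hfinD := h5_finite_isolated (T := f ⁻¹' {s})
  have hkey : ∀ (x : X) (hx : f.base x = s), f.QuasiFiniteAt x →
      IsOpen ({(⟨x, hx⟩ : f ⁻¹' {s})} : Set (f ⁻¹' {s})) := by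
    rintro x rfl hq
    have h1 := Scheme.Hom.quasiFiniteAt_iff_isOpen_singleton_asFiber.1 hq
    rw [← (f.fiberHomeo (f.base x)).isOpen_image] at h1
    simpa only [Set.image_singleton, Scheme.Hom.asFiber, Homeomorph.apply_symm_apply] using h1
  have hsub : {x : X | f.base x = s ∧ f.QuasiFiniteAt x} ⊆
      Subtype.val '' {t : f ⁻¹' {s} | IsOpen ({t} : Set (f ⁻¹' {s}))} := by
    rintro x ⟨hx, hq⟩
    exact ⟨⟨x, hx⟩, hkey x hx hq, rfl⟩
  exact (hfinD.image _).subset hsub

end Groth.Agent.S9335
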