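import Groth.Statements.S9336
import Mathlib
import Groth.Agent.Lib.helper5.FibreClosed2

set_option autoImplicit false
universe u
open QFin

namespace Groth.Agent.S9336

open AlgebraicGeometry CategoryTheory in
/-- Let f : X → Y be surjective and g : Y → S locally of finite type. If g ∘ f is locally quasi-finite
(and locally of finite type), then g is locally quasi-finite. -/
theorem result {X Y S : Scheme.{u}} (f : X ⟶ Y) (g : Y ⟶ S) [Surjective f]
    [LocallyQuasiFinite (f ≫ g)] [LocallyOfFiniteType (f ≫ g)] [LocallyOfFiniteType g] :
    LocallyQuasiFinite g := by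
  rw [locallyQuasiFinite_iff_isDiscrete_preimage_singleton]
  intro s
  haveI : DiscreteTopology (g.fiber s) := by
    apply H5FibreClosed.discreteTopology_fiber_of_forall_algebraic g s
    intro y _
    obtain ⟨x, rfl⟩ := f.surjective y
    have hq : (f ≫ g).QuasiFiniteAt x := (f ≫ g).quasiFiniteAt x
    have hfin := H5FibreClosed.finite_residueFieldMap_of_quasiFiniteAt (f ≫ g) x hq
    rw [Scheme.residueFieldMap_comp] at hfin
    letI a1 : Algebra (S.residueField (g (f x))) (Y.residueField (f x)) :=
      (g.residueFieldMap (f x)).hom.toAlgebra
    letI a2 : Algebra (Y.residueField (f x)) (X.residueField x) :=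
      (f.residueFieldMap x).hom.toAlgebra
    letI a3 : Algebra (S.residueField (g (f x))) (X.residueField x) :=
      ((f.residueFieldMap x).hom.comp (g.residueFieldMap (f x)).hom).toAlgebra
    haveI : IsScalarTower (S.residueField (g (f x))) (Y.residueField (f x)) (X.residueField x) :=
      IsScalarTower.of_algebraMap_eq (fun _ => rfl)
    haveI : Module.Finite (S.residueField (g (f x))) (X.residueField x) := hfin
    haveI : Algebra.IsAlgebraic (S.residueField (g (f x))) (X.residueField x) :=
      Algebra.IsAlgebraic.of_finite _ _
    exact Algebra.IsAlgebraic.of_injective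
      (IsScalarTower.toAlgHom (S.residueField (g (f x))) (Y.residueField (f x)) (X.residueField x))
      (algebraMap (Y.residueField (f x)) (X.residueField x)).injective
  simpa [Scheme.Hom.range_fiberι] using
    (isDiscrete_univ_iff.mpr inferInstance).image (g.fiberι s).isEmbedding.toIsInducing

end Groth.Agent.S9336
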