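import Groth.Statements.S9337
import Mathlib
import Groth.Agent.Lib.helper5.FtPts

set_option autoImplicit false
universe u
open FtPts

namespace Groth.Agent.S9337

open AlgebraicGeometry CategoryTheory in
/-- Let k be a field and f : Spec k → S a morphism of schemes with image point u. Then f is locally of
finite type if and only if some affine open U ∋ u of S has u as a closed point and the residue field
of Spec k (that is, k) is finite over κ(u). -/
theorem result (S : Scheme.{u}) (k : Type u) [Field k] (f : Spec (CommRingCat.of k) ⟶ S) :
    LocallyOfFiniteType f ↔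
      ∃ U : S.Opens, IsAffineOpen U ∧ ∃ hu : f.base (IsLocalRing.closedPoint k) ∈ U,
        IsClosed ({⟨f.base (IsLocalRing.closedPoint k), hu⟩} : Set ↥U) ∧
          (f.residueFieldMap (IsLocalRing.closedPoint k)).hom.Finite := by
  classical
  have hcomm := Scheme.Hom.SpecMap_residueFieldMap_fromSpecResidueField (f := f)
    (IsLocalRing.closedPoint k)
  haveI hiso : IsIso ((Spec (CommRingCat.of k)).fromSpecResidueField (IsLocalRing.closedPoint k)) := by
    rw [← Scheme.Spec.map_residueFieldIso_inv_eq_fromSpecResidueField]
    have hbij : Function.Bijective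
        (algebraMap k (IsLocalRing.closedPoint k : PrimeSpectrum k).asIdeal.ResidueField) :=
      (Ideal.algEquivResidueFieldOfField
        (IsLocalRing.closedPoint k : PrimeSpectrum k).asIdeal).bijective
    haveI : IsIso (CommRingCat.ofHom
        (algebraMap k (IsLocalRing.closedPoint k : PrimeSpectrum k).asIdeal.ResidueField)) :=
      (ConcreteCategory.isIso_iff_bijective _).2 hbij
    infer_instance
  constructor
  · intro hf
    haveI := hf
    obtain ⟨V, hV, hs, hcl⟩ := H5FtPts.exists_isClosed_of_lft S k f
    refine ⟨V, hV, hs, hcl, ?_⟩
    haveI : LocallyOfFiniteType (S.fromSpecResidueField (f.base (IsLocalRing.closedPoint k))) :=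
      H5FtPts.lft_of_isClosed S _ V hV hs hcl
    haveI : LocallyOfFiniteType (Spec.map (f.residueFieldMap (IsLocalRing.closedPoint k)) ≫
        S.fromSpecResidueField (f.base (IsLocalRing.closedPoint k))) := by
      rw [hcomm]; infer_instance
    haveI : LocallyOfFiniteType (Spec.map (f.residueFieldMap (IsLocalRing.closedPoint k))) :=
      locallyOfFiniteType_of_comp _ (S.fromSpecResidueField (f.base (IsLocalRing.closedPoint k)))
    have hft : (f.residueFieldMap (IsLocalRing.closedPoint k)).hom.FiniteType :=
      (HasRingHomProperty.Spec_iff (P := @LocallyOfFiniteType)).1 inferInstance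
    letI := (f.residueFieldMap (IsLocalRing.closedPoint k)).hom.toAlgebra
    haveI : Algebra.FiniteType (S.residueField (f.base (IsLocalRing.closedPoint k)))
      ((Spec (CommRingCat.of k)).residueField (IsLocalRing.closedPoint k)) := hft
    exact finite_of_finite_type_of_isJacobsonRing _ _
  · rintro ⟨U, hU, hu, hcl, hfin⟩
    haveI : LocallyOfFiniteType (S.fromSpecResidueField (f.base (IsLocalRing.closedPoint k))) :=
      H5FtPts.lft_of_isClosed S _ U hU hu hcl
    haveI : LocallyOfFiniteType (Spec.map (f.residueFieldMap (IsLocalRing.closedPoint k))) := by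
      rw [HasRingHomProperty.Spec_iff (P := @LocallyOfFiniteType)]
      exact RingHom.FiniteType.of_finite hfin
    haveI : LocallyOfFiniteType
        ((Spec (CommRingCat.of k)).fromSpecResidueField (IsLocalRing.closedPoint k) ≫ f) := by
      rw [← hcomm]; infer_instance
    have hfeq : f = inv ((Spec (CommRingCat.of k)).fromSpecResidueField (IsLocalRing.closedPoint k)) ≫
        ((Spec (CommRingCat.of k)).fromSpecResidueField (IsLocalRing.closedPoint k) ≫ f) := by
      simp
    rw [hfeq]; infer_instance

end Groth.Agent.S9337
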