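import Groth.Statements.S9622
import Mathlib

set_option autoImplicit false
universe u
open CAlg

namespace Groth.Agent.S9622


theorem h5_finite_of_finiteLength (R S : Type u) [CommRing R] [CommRing S] [Algebra R S]
    [IsLocalRing S] (hres : Module.Finite R (S ⧸ IsLocalRing.maximalIdeal S))
    (M : Type u) [AddCommGroup M] [Module S M] (h : IsFiniteLength S M) :
    ∀ [Module R M] [IsScalarTower R S M], Module.Finite R M := by
  induction h with
  | of_subsingleton => intro _ _; infer_instance
  | of_simple_quotient hN ih =>
    rename_i M' _ _ N hs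
    intro _ _
    haveI : Module.Finite R N := ih
    obtain ⟨I, hI, ⟨e⟩⟩ := isSimpleModule_iff_quot_maximal.1 hs
    obtain rfl : I = IsLocalRing.maximalIdeal S := IsLocalRing.eq_maximalIdeal hI
    haveI : Module.Finite R (M' ⧸ N) := Module.Finite.equiv (e.restrictScalars R).symm
    haveI : Module.Finite R (N.restrictScalars R) :=
      Module.Finite.equiv ((Submodule.restrictScalarsEquiv R S M' N).restrictScalars R).symm
    haveI : Module.Finite R (M' ⧸ N.restrictScalars R) :=
      Module.Finite.equiv (Submodule.Quotient.restrictScalarsEquiv R N).symm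
    exact Module.Finite.of_submodule_quotient (N.restrictScalars R)

theorem h5_finite_iff (R S : Type u) [CommRing R] [CommRing S] [Algebra R S] [IsArtinianRing S]
    [IsLocalRing S] :
    Module.Finite R S ↔ Module.Finite R (S ⧸ IsLocalRing.maximalIdeal S) := by
  constructor
  · intro h
    exact Module.Finite.of_surjective
      (Ideal.Quotient.mkₐ R (IsLocalRing.maximalIdeal S)).toLinearMap Ideal.Quotient.mk_surjective
  · intro h
    exact h5_finite_of_finiteLength R S h S
      (isFiniteLength_iff_isNoetherian_isArtinian.2 ⟨inferInstance, inferInstance⟩)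

theorem h5_finiteType_aux (R S : Type u) [CommRing R] [CommRing S] [Algebra R S] [IsArtinianRing S]
    [IsLocalRing S] (h : Algebra.FiniteType R (S ⧸ IsLocalRing.maximalIdeal S)) :
    Algebra.FiniteType R S := by
  classical
  obtain ⟨t, ht⟩ := h.out
  have hsec : ∀ y : S ⧸ IsLocalRing.maximalIdeal S,
      Ideal.Quotient.mk (IsLocalRing.maximalIdeal S)
        (Function.surjInv Ideal.Quotient.mk_surjective y) = y :=
    Function.surjInv_eq _
  set sec : S ⧸ IsLocalRing.maximalIdeal S → S :=
    Function.surjInv Ideal.Quotient.mk_surjective with hsecdef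
  let R' : Subalgebra R S := Algebra.adjoin R ((t.image sec : Finset S) : Set S)
  have hrange : ((Ideal.Quotient.mkₐ R (IsLocalRing.maximalIdeal S)).comp R'.val).range = ⊤ := by
    rw [AlgHom.range_comp, Subalgebra.range_val, AlgHom.map_adjoin, ← ht]
    congr 1
    ext y
    simp only [Finset.coe_image, Set.mem_image, Finset.mem_coe, exists_exists_and_eq_and]
    constructor
    · rintro ⟨z, hz, rfl⟩
      rw [Ideal.Quotient.mkₐ_eq_mk, hsec]; exact hz
    · intro hy
      exact ⟨y, hy, by rw [Ideal.Quotient.mkₐ_eq_mk, hsec]⟩
  have hsurj : Function.Surjective (algebraMap R' (S ⧸ IsLocalRing.maximalIdeal S)) := by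
    intro y
    have hy : y ∈ ((Ideal.Quotient.mkₐ R (IsLocalRing.maximalIdeal S)).comp R'.val).range := by
      rw [hrange]; exact Algebra.mem_top
    obtain ⟨x, hx⟩ := hy
    exact ⟨x, hx⟩
  haveI : Module.Finite R' (S ⧸ IsLocalRing.maximalIdeal S) :=
    Module.Finite.of_surjective (Algebra.linearMap R' (S ⧸ IsLocalRing.maximalIdeal S)) hsurj
  haveI : Module.Finite R' S := (h5_finite_iff R' S).2 inferInstance
  have h1 : Algebra.FiniteType R R' :=
    (Subalgebra.fg_iff_finiteType R').1 (Subalgebra.fg_adjoin_finset _)
  exact Algebra.FiniteType.trans h1 inferInstance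

/-- Let R → S be a ring map whose target S is a local Artinian ring, and write m for the maximal ideal
of S. Then S is a finite R-module exactly when S/m is, and S is an R-algebra of finite type exactly
when S/m is. -/
theorem result {R S : Type u} [CommRing R] [CommRing S] [Algebra R S] [IsArtinianRing S] [IsLocalRing S] :
    (Module.Finite R S ↔ Module.Finite R (S ⧸ IsLocalRing.maximalIdeal S)) ∧
      (Algebra.FiniteType R S ↔ Algebra.FiniteType R (S ⧸ IsLocalRing.maximalIdeal S)) := by
  refine ⟨h5_finite_iff R S, ⟨fun h => ?_, h5_finiteType_aux R S⟩⟩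
  exact Algebra.FiniteType.of_surjective
    (Ideal.Quotient.mkₐ R (IsLocalRing.maximalIdeal S)) Ideal.Quotient.mk_surjective

end Groth.Agent.S9622
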