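import Groth.Statements.S9338
import Mathlib
import Groth.Agent.S9622

set_option autoImplicit false
universe u
open FtPts

namespace Groth.Agent.S9338

open AlgebraicGeometry CategoryTheory in
/-- For an Artinian local ring A with residue field κ, a morphism f : Spec A → S is (locally) of finite
type exactly when the composite Spec κ → Spec A → S is. -/
theorem result (S : Scheme.{u}) (A : Type u) [CommRing A] [IsArtinianRing A] [IsLocalRing A]
    (f : Spec (CommRingCat.of A) ⟶ S) :
    LocallyOfFiniteType f ↔
      LocallyOfFiniteType (Spec.map (CommRingCat.ofHom (IsLocalRing.residue A)) ≫ f) := by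
  classical
  haveI hres : LocallyOfFiniteType (Spec.map (CommRingCat.ofHom (IsLocalRing.residue A))) := by
    rw [HasRingHomProperty.Spec_iff (P := @LocallyOfFiniteType)]
    exact RingHom.FiniteType.of_surjective _ IsLocalRing.residue_surjective
  constructor
  · intro hf; haveI := hf; infer_instance
  · intro hcomp
    haveI := hcomp
    have hpt : ∀ z : Spec (CommRingCat.of A), z = IsLocalRing.closedPoint A := by
      intro z
      haveI : z.asIdeal.IsPrime := z.2
      exact PrimeSpectrum.ext
        (IsLocalRing.eq_maximalIdeal (IsArtinianRing.isMaximal_of_isPrime z.asIdeal))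
    obtain ⟨U, hU, hxU, -⟩ := exists_isAffineOpen_mem_and_subset
      (x := f.base (IsLocalRing.closedPoint A)) (U := ⊤) trivial
    have hrange : Set.range f ⊆ Set.range hU.fromSpec := by
      rintro _ ⟨z, rfl⟩
      rw [hU.range_fromSpec, hpt z]; exact hxU
    have hf' := IsOpenImmersion.lift_fac hU.fromSpec f hrange
    obtain ⟨ψ, hψ⟩ := Spec.map_surjective (IsOpenImmersion.lift hU.fromSpec f hrange)
    rw [← hψ] at hf'
    haveI : LocallyOfFiniteType
        (Spec.map (ψ ≫ CommRingCat.ofHom (IsLocalRing.residue A)) ≫ hU.fromSpec) := by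
      rw [Spec.map_comp, Category.assoc, hf']; infer_instance
    haveI : LocallyOfFiniteType (Spec.map (ψ ≫ CommRingCat.ofHom (IsLocalRing.residue A))) :=
      locallyOfFiniteType_of_comp _ hU.fromSpec
    have h1 : (ψ ≫ CommRingCat.ofHom (IsLocalRing.residue A)).hom.FiniteType :=
      (HasRingHomProperty.Spec_iff (P := @LocallyOfFiniteType)).1 inferInstance
    have h2 : ψ.hom.FiniteType := by
      letI : Algebra Γ(S, U) A := ψ.hom.toAlgebra
      have h3 := (Groth.Agent.S9622.result (R := Γ(S, U)) (S := A)).2
      refine h3.2 ?_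
      exact (RingHom.finiteType_algebraMap (A := Γ(S, U))
        (B := A ⧸ IsLocalRing.maximalIdeal A)).1 h1
    haveI : LocallyOfFiniteType (Spec.map ψ) :=
      (HasRingHomProperty.Spec_iff (P := @LocallyOfFiniteType)).2 h2
    rw [← hf']; infer_instance

end Groth.Agent.S9338
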