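import Groth.Statements.S9339
import Mathlib
import Groth.Agent.Lib.helper5.FtPts

set_option autoImplicit false
universe u
open FtPts

namespace Groth.Agent.S9339

open AlgebraicGeometry CategoryTheory in
/-- A morphism locally of finite type maps finite type points (points s whose canonical morphism Spec
κ(s) → S is locally of finite type) to finite type points. -/
theorem result {T S : Scheme.{u}} (f : T ⟶ S) [LocallyOfFiniteType f] :
    f.base '' {t : ↑T | LocallyOfFiniteType (T.fromSpecResidueField t)} ⊆
      {s : ↑S | LocallyOfFiniteType (S.fromSpecResidueField s)} := by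
  rintro _ ⟨t, ht, rfl⟩
  have ht' : LocallyOfFiniteType (T.fromSpecResidueField t) := ht
  haveI := ht'
  haveI : LocallyOfFiniteType (T.fromSpecResidueField t ≫ f) := inferInstance
  obtain ⟨V, hV, hs, hcl⟩ :=
    H5FtPts.exists_isClosed_of_lft S (T.residueField t) (T.fromSpecResidueField t ≫ f)
  have hpt : (T.fromSpecResidueField t ≫ f).base (IsLocalRing.closedPoint (T.residueField t)) =
      f.base t := by
    rw [Scheme.Hom.comp_apply, Scheme.fromSpecResidueField_apply]
  show LocallyOfFiniteType (S.fromSpecResidueField (f.base t))
  have key : ∀ (y : S) (hy : y ∈ V), y = f.base t → IsClosed ({(⟨y, hy⟩ : V)} : Set V) →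
      LocallyOfFiniteType (S.fromSpecResidueField (f.base t)) := by
    rintro y hy rfl h; exact H5FtPts.lft_of_isClosed S _ V hV hy h
  exact key _ hs hpt hcl

end Groth.Agent.S9339
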