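import Groth.Statements.S9341
import Mathlib
import Groth.Agent.Lib.helper5.FtPts

set_option autoImplicit false
universe u
open FtPts

namespace Groth.Agent.S9341

open AlgebraicGeometry CategoryTheory in
/-- Every nonempty locally closed subset of a scheme S contains a finite type point of S; in particular
for a closed subset Z the finite type points lying in Z are dense in Z. -/
theorem result (S : Scheme.{u}) :
    (∀ Z : Set ↑S, IsLocallyClosed Z → Z.Nonempty →
        (Z ∩ {s : ↑S | LocallyOfFiniteType (S.fromSpecResidueField s)}).Nonempty) ∧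
      ∀ Z : Set ↑S, IsClosed Z →
        Z ⊆ closure (Z ∩ {s : ↑S | LocallyOfFiniteType (S.fromSpecResidueField s)}) := by
  have part1 : ∀ Z : Set ↑S, IsLocallyClosed Z → Z.Nonempty →
      (Z ∩ {s : ↑S | LocallyOfFiniteType (S.fromSpecResidueField s)}).Nonempty := by
    rintro Z ⟨O, C, hO, hC, rfl⟩ ⟨z, hzO, hzC⟩
    obtain ⟨V, hV, hzV, hVO⟩ :=
      exists_isAffineOpen_mem_and_subset (x := z) (U := ⟨O, hO⟩) hzO
    haveI : CompactSpace V := isCompact_iff_compactSpace.1 hV.isCompact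
    have hC' : IsClosed (Subtype.val ⁻¹' C : Set V) := hC.preimage continuous_subtype_val
    have hne : (Subtype.val ⁻¹' C : Set V).Nonempty := ⟨⟨z, hzV⟩, hzC⟩
    obtain ⟨x, hxC, hxcl⟩ := IsClosed.exists_closed_singleton hC' hne
    refine ⟨x.1, ⟨hVO x.2, hxC⟩, ?_⟩
    exact H5FtPts.lft_of_isClosed S x.1 V hV x.2 hxcl
  refine ⟨part1, ?_⟩
  intro Z hZ z hz
  rw [mem_closure_iff]
  intro W hW hzW
  have h1 := part1 (W ∩ Z) (hW.isLocallyClosed.inter hZ.isLocallyClosed) ⟨z, hzW, hz⟩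
  obtain ⟨y, ⟨hyW, hyZ⟩, hyft⟩ := h1
  exact ⟨y, hyW, hyZ, hyft⟩

end Groth.Agent.S9341
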