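import Groth.Statements.S9340
import Mathlib
import Groth.Agent.Lib.helper5.FtPts
import Groth.Agent.S9339
import Groth.Agent.S9341

set_option autoImplicit false
universe u
open FtPts

namespace Groth.Agent.S9340

open AlgebraicGeometry CategoryTheory in
/-- A surjective morphism locally of finite type maps the set of finite type points of the source onto
the set of finite type points of the target. -/
theorem result {T S : Scheme.{u}} (f : T ⟶ S) [LocallyOfFiniteType f] [Surjective f] :
    f.base '' {t : ↑T | LocallyOfFiniteType (T.fromSpecResidueField t)} =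
      {s : ↑S | LocallyOfFiniteType (S.fromSpecResidueField s)} := by
  apply Set.Subset.antisymm
  · exact Groth.Agent.S9339.result f
  · intro s hs
    have hs' : LocallyOfFiniteType (S.fromSpecResidueField s) := hs
    haveI := hs'
    obtain ⟨t0, ht0⟩ := f.surjective s
    obtain ⟨a, -, ha⟩ := (Groth.Agent.S9341.result (f.fiber s)).1 Set.univ
      isOpen_univ.isLocallyClosed ⟨(f.fiberHomeo s).symm ⟨t0, ht0⟩, trivial⟩
    have ha' : LocallyOfFiniteType ((f.fiber s).fromSpecResidueField a) := ha
    haveI := ha'
    haveI : LocallyOfFiniteType (f.fiberι s) := by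
      unfold Scheme.Hom.fiberι
      exact MorphismProperty.pullback_fst (P := @LocallyOfFiniteType) _ _ inferInstance
    haveI : LocallyOfFiniteType ((f.fiber s).fromSpecResidueField a ≫ f.fiberι s) := inferInstance
    obtain ⟨V, hV, hmem, hcl⟩ := H5FtPts.exists_isClosed_of_lft T ((f.fiber s).residueField a)
      ((f.fiber s).fromSpecResidueField a ≫ f.fiberι s)
    have hpt : ((f.fiber s).fromSpecResidueField a ≫ f.fiberι s).base
        (IsLocalRing.closedPoint ((f.fiber s).residueField a)) = (f.fiberι s).base a := by
      rw [Scheme.Hom.comp_apply, Scheme.fromSpecResidueField_apply]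
    refine ⟨(f.fiberι s).base a, ?_, ?_⟩
    · show LocallyOfFiniteType (T.fromSpecResidueField ((f.fiberι s).base a))
      have key : ∀ (y : T) (hy : y ∈ V), y = (f.fiberι s).base a →
          IsClosed ({(⟨y, hy⟩ : V)} : Set V) →
          LocallyOfFiniteType (T.fromSpecResidueField ((f.fiberι s).base a)) := by
        rintro y hy rfl h; exact H5FtPts.lft_of_isClosed T _ V hV hy h
      exact key _ hmem hpt hcl
    · have h1 : (f.fiberι s).base a ∈ f ⁻¹' {s} := by
        rw [← f.range_fiberι s]; exact ⟨a, rfl⟩
      exact h1

end Groth.Agent.S9340
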