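import Groth.Statements.S9342
import Mathlib
import Groth.Agent.Lib.helper5.FtPts

set_option autoImplicit false
universe u
open FtPts

namespace Groth.Agent.S9342

open AlgebraicGeometry CategoryTheory in
/-- The finite type points of a scheme S are exactly the points that are closed in some affine open
neighbourhood. -/
theorem result (S : Scheme.{u}) (s : S) :
    LocallyOfFiniteType (S.fromSpecResidueField s) ↔
      ∃ U : S.Opens, IsAffineOpen U ∧ ∃ hs : s ∈ U, IsClosed ({⟨s, hs⟩} : Set ↥U) := by
  constructor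
  · intro h
    haveI := h
    obtain ⟨V, hV, hs, hcl⟩ :=
      H5FtPts.exists_isClosed_of_lft S (S.residueField s) (S.fromSpecResidueField s)
    have key : ∀ (y : S) (hy : y ∈ V), y = s → IsClosed ({(⟨y, hy⟩ : V)} : Set V) →
        ∃ hs : s ∈ V, IsClosed ({(⟨s, hs⟩ : V)} : Set V) := by
      rintro y hy rfl h; exact ⟨hy, h⟩
    exact ⟨V, hV, key _ hs (Scheme.fromSpecResidueField_apply _ _) hcl⟩
  · rintro ⟨U, hU, hs, hcl⟩
    exact H5FtPts.lft_of_isClosed S s U hU hs hcl

end Groth.Agent.S9342
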