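import Groth.Statements.S9344
import Mathlib

set_option autoImplicit false
universe u

namespace Groth.Agent.S9344

open AlgebraicGeometry CategoryTheory CategoryTheory.Limits in
/-- general topological core: base change of dominant along open map is dominant -/
theorem isDominant_snd_of_isOpenMap {X S S' : Scheme.{u}} (f : X ⟶ S) [IsDominant f]
    (g : S' ⟶ S) (hg : IsOpenMap g.base) : IsDominant (pullback.snd f g) := by
  rw [isDominant_iff, DenseRange, dense_iff_inter_open]
  intro V hV hVne
  have hgV : IsOpen (g.base '' V) := hg V hV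
  have hne : (g.base '' V).Nonempty := hVne.image _
  obtain ⟨s, hsV, x, hx⟩ := (dense_iff_inter_open.mp f.denseRange) _ hgV hne
  obtain ⟨v, hv, hvs⟩ := hsV
  obtain ⟨z, hz1, hz2⟩ := Scheme.Pullback.exists_preimage_pullback (f := f) (g := g) x v
    (by rw [hvs]; exact hx)
  exact ⟨v, hv, z, hz2⟩

open AlgebraicGeometry CategoryTheory in
theorem result {X S X' S' : Scheme.{u}} (f : X ⟶ S) [IsDominant f]
    (g : S' ⟶ S) (g' : X' ⟶ X) (f' : X' ⟶ S') (hsq : IsPullback g' f' f g) (hg : IsOpenMap g.base) :
    IsDominant f' := by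
  have h1 : IsDominant (Limits.pullback.snd f g) := isDominant_snd_of_isOpenMap f g hg
  have h2 : hsq.isoPullback.hom ≫ Limits.pullback.snd f g = f' := hsq.isoPullback_hom_snd
  rw [← h2]
  infer_instance

end Groth.Agent.S9344
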