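import Groth.Statements.S9345
import Mathlib

set_option autoImplicit false
universe u
open Dom

namespace Groth.Agent.S9345

open AlgebraicGeometry CategoryTheory in
/-- For a morphism f : X → S whose source has only finitely many irreducible components, the image of f
is dense exactly when it contains the generic point of each irreducible component of S, and then S
too has finitely many. -/
theorem result {X S : Scheme.{u}} (f : X ⟶ S)
    (hX : (irreducibleComponents (↑X : Type u)).Finite) :
    (IsDominant f ↔ ∀ s : ↑S, closure {s} ∈ irreducibleComponents (↑S : Type u) → s ∈ Set.range f.base) ∧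
      (IsDominant f → (irreducibleComponents (↑S : Type u)).Finite) := by

  classical
  -- key: under dominance every component of S is the closure of the image of a component of X
  have key : IsDominant f → ∀ Z ∈ irreducibleComponents (↑S : Type u),
      ∃ W ∈ irreducibleComponents (↑X : Type u), Z = closure (f.base '' W) := by
    intro hdom Z hZ
    have hdense : closure (Set.range f.base) = Set.univ := hdom.denseRange.closure_range
    have hunion : Set.range f.base = ⋃ W ∈ irreducibleComponents (↑X : Type u), f.base '' W := by
      ext y
      simp only [Set.mem_range, Set.mem_iUnion, Set.mem_image, exists_prop]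
      constructor
      · rintro ⟨x, rfl⟩
        exact ⟨irreducibleComponent x, irreducibleComponent_mem_irreducibleComponents x, x,
          mem_irreducibleComponent, rfl⟩
      · rintro ⟨W, -, x, -, rfl⟩
        exact ⟨x, rfl⟩
    rw [hunion, hX.closure_biUnion] at hdense
    -- Z is contained in the finite union of closed sets
    have hZirr : IsIrreducible Z := hZ.1
    let t : Finset (Set S) := hX.toFinset.image (fun W => closure (f.base '' W))
    have ht : ∀ z ∈ t, IsClosed z := by
      intro z hz
      obtain ⟨W, -, rfl⟩ := Finset.mem_image.1 hz
      exact isClosed_closure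
    have hsub : Z ⊆ ⋃₀ (↑t : Set (Set S)) := by
      intro z _
      have hz : z ∈ ⋃ W ∈ irreducibleComponents (↑X : Type u), closure (f.base '' W) := by
        rw [hdense]; exact Set.mem_univ z
      simp only [Set.mem_iUnion, exists_prop] at hz
      obtain ⟨W, hW, hzW⟩ := hz
      refine Set.mem_sUnion.2 ⟨closure (f.base '' W), ?_, hzW⟩
      exact Finset.mem_coe.2 (Finset.mem_image.2 ⟨W, hX.mem_toFinset.2 hW, rfl⟩)
    obtain ⟨z, hz, hZz⟩ := (isIrreducible_iff_sUnion_isClosed.1 hZirr) t ht hsub
    obtain ⟨W, hW, rfl⟩ := Finset.mem_image.1 hz
    have hW' : W ∈ irreducibleComponents (↑X : Type u) := hX.mem_toFinset.1 hW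
    have hirr : IsIrreducible (closure (f.base '' W)) :=
      (hW'.1.image f.base f.continuous.continuousOn).closure
    exact ⟨W, hW', le_antisymm hZz (hZ.2 hirr hZz)⟩
  refine ⟨⟨?_, ?_⟩, ?_⟩
  · intro hdom s hs
    obtain ⟨W, hW, hZW⟩ := key hdom _ hs
    obtain ⟨ξ, hξ⟩ := QuasiSober.sober hW.1 (isClosed_of_mem_irreducibleComponents W hW)
    have hWξ : W = closure {ξ} := hξ.def.symm
    have h1 : closure (f.base '' W) = closure {f.base ξ} := by
      rw [hWξ, closure_image_closure f.continuous, Set.image_singleton]
    rw [h1] at hZW
    have hins : Inseparable s (f.base ξ) := inseparable_iff_closure_eq.2 hZW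
    exact ⟨ξ, hins.eq.symm⟩
  · intro h
    rw [isDominant_iff, DenseRange, Dense]
    intro y
    have hZ := irreducibleComponent_mem_irreducibleComponents y
    obtain ⟨s, hs⟩ := QuasiSober.sober hZ.1 isClosed_irreducibleComponent
    have hs' : closure {s} = irreducibleComponent y := hs.def
    have hsr : s ∈ Set.range f.base := h s (by rw [hs']; exact hZ)
    have hy : y ∈ closure {s} := by rw [hs']; exact mem_irreducibleComponent
    exact closure_mono (Set.singleton_subset_iff.2 hsr) hy
  · intro hdom
    apply (hX.image (fun W => closure (f.base '' W))).subset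
    intro Z hZ
    obtain ⟨W, hW, hZW⟩ := key hdom Z hZ
    exact ⟨W, hW, hZW.symm⟩

end Groth.Agent.S9345
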