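import Groth.Statements.S9346
import Mathlib
import Groth.Agent.Lib.helper5.GenFinite

set_option autoImplicit false
universe u
open Dom

namespace Groth.Agent.S9346

open AlgebraicGeometry CategoryTheory in
/-- For a morphism f : X → Y between integral schemes, these six conditions coincide: (1) f is dominant;
(2) f sends the generic point of X to that of Y; (3) there exist affine opens U ⊆ X, V ⊆ Y with U
nonempty and U ⊆ f⁻¹V such that the induced ring map on sections is injective; (4) the same for all
such pairs; (5) for some x ∈ X the map of local rings O_{Y,f x} → O_{X,x} is injective; (6) the same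
for all x. -/
theorem result {X Y : Scheme.{u}} [AlgebraicGeometry.IsIntegral X] [AlgebraicGeometry.IsIntegral Y] (f : X ⟶ Y) :
    [IsDominant f,
      f.base (genericPoint ↑X) = genericPoint ↑Y,
      ∃ (U : X.Opens) (V : Y.Opens) (hUV : U ≤ f ⁻¹ᵁ V), IsAffineOpen U ∧ IsAffineOpen V ∧ (U : Set ↑X).Nonempty ∧
        Function.Injective (f.appLE V U hUV),
      ∀ (U : X.Opens) (V : Y.Opens) (hUV : U ≤ f ⁻¹ᵁ V), IsAffineOpen U → IsAffineOpen V → (U : Set ↑X).Nonempty →
        Function.Injective (f.appLE V U hUV),
      ∃ x : ↑X, Function.Injective (f.stalkMap x),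
      ∀ x : ↑X, Function.Injective (f.stalkMap x)].TFAE := by
  have happLE_germ : ∀ (U : X.Opens) (V : Y.Opens) (e : U ≤ f ⁻¹ᵁ V) (x : X) (hx : x ∈ U),
      f.appLE V U e ≫ X.presheaf.germ U x hx =
        Y.presheaf.germ V (f x) (e hx) ≫ f.stalkMap x := by
    intro U V e x hx
    rw [Scheme.Hom.germ_stalkMap, Scheme.Hom.appLE, Category.assoc]
    congr 1
    exact X.presheaf.germ_res (homOfLE e) x hx
  have hex : ∀ x : X, ∃ (U : X.Opens) (V : Y.Opens) (hUV : U ≤ f ⁻¹ᵁ V), IsAffineOpen U ∧
      IsAffineOpen V ∧ x ∈ U := by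
    intro x
    obtain ⟨_, ⟨V, hV, rfl⟩, hxV, -⟩ :=
      Y.isBasis_affineOpens.exists_subset_of_mem_open (Set.mem_univ (f x)) isOpen_univ
    obtain ⟨_, ⟨U, hU, rfl⟩, hxU, hUV⟩ :=
      X.isBasis_affineOpens.exists_subset_of_mem_open (show x ∈ (f ⁻¹ᵁ V : Set X)
        from hxV) (f ⁻¹ᵁ V).2
    exact ⟨U, V, hUV, hU, hV, hxU⟩
  tfae_have 1 → 2 := fun h => H5GenFinite.map_genericPoint_of_isDominant f
  tfae_have 2 → 1 := by
    intro h
    constructor
    have h1 : Dense ({genericPoint Y} : Set Y) := by
      rw [dense_iff_closure_eq]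
      exact genericPoint_spec Y
    exact h1.mono (by
      rintro _ rfl
      exact ⟨genericPoint X, h⟩)
  tfae_have 2 → 4 := by
    intro h U V e hU hV hne
    have hξU : genericPoint X ∈ U := H5GenFinite.mem_of_ne_bot U (by
      rintro rfl
      simpa using hne)
    have h1 := H5GenFinite.appLE_evaluation f e (genericPoint X) hξU
    have hinjY : Function.Injective (Y.evaluation V (f (genericPoint X)) (e hξU)).hom := by
      have h0 : ∀ (y : Y) (hy : y = genericPoint Y) (hyV : y ∈ V),
          Function.Injective (Y.evaluation V y hyV).hom := by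
        rintro _ rfl hyV
        exact H5GenFinite.evaluation_injective V hyV
      exact h0 _ h _
    have hinj2 : Function.Injective (f.residueFieldMap (genericPoint X)).hom :=
      RingHom.injective _
    have h2 : Function.Injective (f.appLE V U e ≫ X.evaluation U _ hξU).hom := by
      rw [h1, CommRingCat.hom_comp, RingHom.coe_comp]
      exact hinj2.comp hinjY
    rw [CommRingCat.hom_comp, RingHom.coe_comp] at h2
    exact Function.Injective.of_comp h2
  tfae_have 4 → 3 := by
    intro h
    obtain ⟨x⟩ : Nonempty X := inferInstance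
    obtain ⟨U, V, hUV, hU, hV, hxU⟩ := hex x
    exact ⟨U, V, hUV, hU, hV, ⟨x, hxU⟩, h U V hUV hU hV ⟨x, hxU⟩⟩
  tfae_have 3 → 2 := by
    rintro ⟨U, V, e, hU, hV, hne, hinj⟩
    have hξU : genericPoint X ∈ U := H5GenFinite.mem_of_ne_bot U (by
      rintro rfl
      simpa using hne)
    have hfξV : f (genericPoint X) ∈ V := e hξU
    have hmem : ∀ b : Γ(Y, V), b ≠ 0 → f (genericPoint X) ∈ Y.basicOpen b := by
      intro b hb
      have hφb : f.appLE V U e b ≠ 0 := by
        intro h0
        apply hb
        apply hinj
        rw [h0, map_zero]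
      have h1 := H5GenFinite.genericPoint_mem_basicOpen (f.appLE V U e b) hφb
      rw [Scheme.basicOpen_appLE] at h1
      exact h1.2
    have hsp : f (genericPoint X) ⤳ genericPoint Y := by
      rw [specializes_iff_forall_open]
      intro W hW hηW
      have hηV : genericPoint Y ∈ V :=
        H5GenFinite.mem_of_ne_bot V (by
          rintro rfl
          exact hfξV)
      obtain ⟨b, hb, hηb⟩ := hV.exists_basicOpen_le (V := ⟨W, hW⟩ ⊓ V) ⟨genericPoint Y, hηW, hηV⟩ hηV
      have hb0 : b ≠ 0 := by
        rintro rfl
        rw [Scheme.basicOpen_zero] at hηb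
        exact hηb
      exact (hb (hmem b hb0)).1
    exact (hsp.antisymm (genericPoint_specializes _)).eq
  tfae_have 2 → 6 := by
    intro h x
    have hsp : genericPoint X ⤳ x := genericPoint_specializes x
    have h1 := Scheme.Hom.stalkSpecializes_stalkMap f (genericPoint X) x hsp
    have hinjA : Function.Injective (f.stalkMap (genericPoint X)).hom := by
      have h0 : ∀ (y : Y) (hy : y = genericPoint Y) (g : Y.presheaf.stalk y ⟶
          X.presheaf.stalk (genericPoint X)), Function.Injective g.hom := by
        rintro _ rfl g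
        exact RingHom.injective g.hom
      exact h0 _ h _
    have hinjB : Function.Injective
        (Y.presheaf.stalkSpecializes (f.base.hom.map_specializes hsp)).hom := by
      have h0 : ∀ (y : Y) (hy : y = genericPoint Y) (hs : y ⤳ f x),
          Function.Injective (Y.presheaf.stalkSpecializes hs).hom := by
        rintro _ rfl hs
        exact IsFractionRing.injective (Y.presheaf.stalk (f x)) Y.functionField
      exact h0 _ h _
    have h2 : Function.Injective (f.stalkMap x ≫ X.presheaf.stalkSpecializes hsp).hom := by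
      rw [← h1, CommRingCat.hom_comp, RingHom.coe_comp]
      exact hinjA.comp hinjB
    rw [CommRingCat.hom_comp, RingHom.coe_comp] at h2
    exact Function.Injective.of_comp h2
  tfae_have 6 → 5 := by
    intro h
    obtain ⟨x⟩ : Nonempty X := inferInstance
    exact ⟨x, h x⟩
  tfae_have 5 → 3 := by
    rintro ⟨x, hx⟩
    obtain ⟨U, V, hUV, hU, hV, hxU⟩ := hex x
    refine ⟨U, V, hUV, hU, hV, ⟨x, hxU⟩, ?_⟩
    have h1 := happLE_germ U V hUV x hxU
    have hg : Function.Injective (Y.presheaf.germ V (f x) (hUV hxU)).hom :=
      germ_injective_of_isIntegral Y _ _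
    have h2 : Function.Injective (f.appLE V U hUV ≫ X.presheaf.germ U x hxU).hom := by
      rw [h1, CommRingCat.hom_comp, RingHom.coe_comp]
      exact Function.Injective.comp hx hg
    rw [CommRingCat.hom_comp, RingHom.coe_comp] at h2
    exact Function.Injective.of_comp h2
  tfae_finish

end Groth.Agent.S9346
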