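import Groth.Statements.S9348
import Mathlib

set_option autoImplicit false
universe u
open Dom

namespace Groth.Agent.S9348

open AlgebraicGeometry CategoryTheory in
/-- Let f : X → Y be a morphism and g : Y' → Y open and surjective. If the base change f' : X ×_Y Y' →
Y' of f is quasi-compact, then so is f. -/
theorem result {X Y X' Y' : Scheme.{u}} (f : X ⟶ Y) (g : Y' ⟶ Y) [Surjective g]
    (hg : IsOpenMap g.base) (g' : X' ⟶ X) (f' : X' ⟶ Y') (hsq : IsPullback g' f' f g) [QuasiCompact f'] :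
    QuasiCompact f := by

  rw [quasiCompact_iff_forall_isAffineOpen]
  intro V hV
  have hcov : (V : Set Y) ⊆ ⋃ W : {W : Y'.Opens // IsAffineOpen W ∧ (W : Set Y') ⊆ g ⁻¹' V},
      g '' (W.1 : Set Y') := by
    intro y hy
    obtain ⟨y', rfl⟩ := g.surjective y
    obtain ⟨_, ⟨W, hW, rfl⟩, hy'W, hWV⟩ := Y'.isBasis_affineOpens.exists_subset_of_mem_open
      (show y' ∈ g ⁻¹' V from hy) (V.2.preimage g.continuous)
    exact Set.mem_iUnion.2 ⟨⟨W, hW, hWV⟩, y', hy'W, rfl⟩
  obtain ⟨t, ht⟩ := hV.isCompact.elim_finite_subcover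
    (fun W : {W : Y'.Opens // IsAffineOpen W ∧ (W : Set Y') ⊆ g ⁻¹' V} => g '' (W.1 : Set Y'))
    (fun W => hg _ W.1.2) hcov
  let K : Set Y' := ⋃ W ∈ t, (W.1 : Set Y')
  have hK : IsCompact K := t.isCompact_biUnion (fun W _ => W.2.1.isCompact)
  have hKo : IsOpen K := isOpen_biUnion (fun W _ => W.1.2)
  have hKc : IsCompact (f' ⁻¹' K) := QuasiCompact.isCompact_preimage (f := f') K hKo hK
  have heq : (f ⁻¹ᵁ V : Set X) = g' '' (f' ⁻¹' K) := by
    ext x
    constructor
    · intro hx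
      have hx' : f x ∈ (V : Set Y) := hx
      obtain ⟨W, hWt, w, hwW, hw⟩ : ∃ W ∈ t, ∃ w ∈ (W.1 : Set Y'), g w = f x := by
        have := ht hx'
        simp only [Set.mem_iUnion, Set.mem_image] at this
        obtain ⟨W, hWt, w, hwW, hw⟩ := this
        exact ⟨W, hWt, w, hwW, hw⟩
      obtain ⟨z, hz1, hz2⟩ := Scheme.Pullback.exists_preimage_pullback x w hw.symm
      refine ⟨hsq.isoPullback.inv z, ?_, ?_⟩
      · show f' (hsq.isoPullback.inv z) ∈ K
        rw [← Scheme.Hom.comp_apply, hsq.isoPullback_inv_snd, hz2]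
        exact Set.mem_biUnion hWt hwW
      · rw [← Scheme.Hom.comp_apply, hsq.isoPullback_inv_fst, hz1]
    · rintro ⟨z, hz, rfl⟩
      show f (g' z) ∈ V
      rw [← Scheme.Hom.comp_apply, hsq.w, Scheme.Hom.comp_apply]
      have hz' : f' z ∈ K := hz
      simp only [K, Set.mem_iUnion] at hz'
      obtain ⟨W, -, hW⟩ := hz'
      exact W.2.2 hW
  rw [heq]
  exact hKc.image g'.continuous

end Groth.Agent.S9348
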