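import Groth.Statements.S9360
import Mathlib

set_option autoImplicit false
universe u
open SchDense

namespace Groth.Agent.S9360

open AlgebraicGeometry CategoryTheory TopologicalSpace in
lemma ker_eq_of_reduced {Y X : Scheme.{u}} (f : Y ⟶ X) [IsReduced Y] :
    f.ker = Scheme.IdealSheafData.vanishingIdeal ⟨closure (Set.range f), isClosed_closure⟩ := by
  have h1 : f.ker = Scheme.IdealSheafData.vanishingIdeal
      (.closure (f '' (⊤ : TopologicalSpace.Closeds Y))) := by
    rw [← Scheme.IdealSheafData.map_vanishingIdeal, Scheme.IdealSheafData.vanishingIdeal_top,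
      Scheme.nilradical_eq_bot, Scheme.IdealSheafData.map_bot]
  rw [h1]
  congr 1
  apply TopologicalSpace.Closeds.ext
  simp [TopologicalSpace.Closeds.closure]

open AlgebraicGeometry CategoryTheory TopologicalSpace in
lemma range_eq_preimage {B X : Scheme.{u}} (U : X.Opens) (b : B ⟶ U) :
    Set.range b = U.ι ⁻¹' Set.range (b ≫ U.ι) := by
  ext x
  constructor
  · rintro ⟨z, rfl⟩
    exact ⟨z, by rw [Scheme.Hom.comp_apply]⟩
  · rintro ⟨z, hz⟩
    rw [Scheme.Hom.comp_apply] at hz
    exact ⟨z, U.ι.isOpenEmbedding.injective hz⟩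

open AlgebraicGeometry CategoryTheory TopologicalSpace in
lemma isReduced_of_nilradical_eq_bot (X : Scheme.{u}) (h : X.nilradical = ⊥) : IsReduced X := by
  constructor
  intro U
  constructor
  intro s hs
  refine X.IsSheaf.section_ext fun x hx ↦ ?_
  obtain ⟨_, ⟨V, hV, rfl⟩, hxV, hVU : V ≤ U⟩ :=
    X.isBasis_affineOpens.exists_subset_of_mem_open hx U.isOpen
  refine ⟨V, hVU, hxV, ?_⟩
  rw [map_zero]
  have h1 : IsNilpotent (X.presheaf.map (homOfLE hVU).op s) := hs.map _
  have h2 : X.presheaf.map (homOfLE hVU).op s ∈ (X.nilradical).ideal ⟨V, hV⟩ := by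
    obtain ⟨n, hn⟩ := h1
    simp only [Scheme.nilradical, Scheme.IdealSheafData.radical_ideal]
    exact Ideal.mem_radical_iff.mpr ⟨n, by rw [hn]; exact Ideal.zero_mem _⟩
  rw [h] at h2
  simpa using h2

open AlgebraicGeometry CategoryTheory in
/-- Let U ⊆ X be a reduced open subscheme. Then the scheme-theoretic closure of U in X is X if and only
if U is scheme-theoretically dense in X (for every open W the scheme-theoretic closure of U ∩ W in W
is W); and in that case X is reduced. -/
theorem result (X : Scheme.{u}) (U : X.Opens) [IsReduced (↑U : Scheme.{u})] :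
    (IsSchemeTheoreticallyDominant U.ι ↔
        ∀ W : X.Opens, IsSchemeTheoreticallyDominant (X.homOfLE (inf_le_right : U ⊓ W ≤ W))) ∧
      (IsSchemeTheoreticallyDominant U.ι → IsReduced X) := by
  have key : IsSchemeTheoreticallyDominant U.ι → IsReduced X ∧ Dense (U : Set X) := by
    intro h
    have h1 : U.ι.ker = Scheme.IdealSheafData.vanishingIdeal
        ⟨closure (Set.range U.ι), isClosed_closure⟩ := ker_eq_of_reduced U.ι
    rw [U.ι.ker_eq_bot] at h1
    constructor
    · have h2 : Scheme.IdealSheafData.vanishingIdeal (⊤ : TopologicalSpace.Closeds X) ≤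
          Scheme.IdealSheafData.vanishingIdeal ⟨closure (Set.range U.ι), isClosed_closure⟩ :=
        Scheme.IdealSheafData.vanishingIdeal_antimono le_top
      rw [← h1, Scheme.IdealSheafData.vanishingIdeal_top, le_bot_iff] at h2
      exact isReduced_of_nilradical_eq_bot X h2
    · have h3 : ((Scheme.IdealSheafData.vanishingIdeal
          ⟨closure (Set.range U.ι), isClosed_closure⟩).support : Set X) = Set.univ := by
        rw [← h1, Scheme.IdealSheafData.support_bot, TopologicalSpace.Closeds.coe_top]
      rw [Scheme.IdealSheafData.coe_support_vanishingIdeal] at h3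
      have h4 : closure (Set.range U.ι) = Set.univ := h3
      rw [Scheme.Opens.range_ι] at h4
      exact dense_iff_closure_eq.mpr h4
  refine ⟨⟨?_, ?_⟩, fun h => (key h).1⟩
  · intro h W
    obtain ⟨hred, hdense⟩ := key h
    haveI : IsReduced (W : Scheme.{u}) := isReduced_of_isOpenImmersion W.ι
    haveI : IsDominant (X.homOfLE (inf_le_right : U ⊓ W ≤ W)) := by
      constructor
      rw [DenseRange, range_eq_preimage, Scheme.homOfLE_ι, Scheme.Opens.range_ι]
      have h5 : W.ι ⁻¹' ((U ⊓ W : X.Opens) : Set X) = W.ι ⁻¹' (U : Set X) := by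
        ext w
        constructor
        · intro hw
          exact hw.1
        · intro hw
          refine ⟨hw, ?_⟩
          have h6 : W.ι w ∈ Set.range W.ι := ⟨w, rfl⟩
          rwa [Scheme.Opens.range_ι] at h6
      rw [h5]
      exact hdense.preimage W.ι.isOpenEmbedding.isOpenMap
    exact IsSchemeTheoreticallyDominant.of_isDominant _
  · intro h
    haveI := h ⊤
    haveI : IsIso (⊤ : X.Opens).ι := by
      rw [← Scheme.topIso_hom]
      infer_instance
    have e : U = U ⊓ ⊤ := by simp
    have h7 : U.ι = (X.isoOfEq e).hom ≫ X.homOfLE (inf_le_right : U ⊓ ⊤ ≤ ⊤) ≫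
        (⊤ : X.Opens).ι := by
      rw [Scheme.homOfLE_ι, Scheme.isoOfEq_hom_ι]
    rw [h7]
    infer_instance

end Groth.Agent.S9360
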