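import Groth.Statements.S9389
import Mathlib

set_option autoImplicit false
universe u
open QFin

namespace Groth.Agent.S9389

open AlgebraicGeometry CategoryTheory in
lemma h5_bridge {X S : Scheme.{u}} (f : X ⟶ S) [LocallyOfFiniteType f] (x : X) (s : S)
    (hs : f x = s) (z : f.fiber s) (hz : f.fiberι s z = x) (hopen : IsOpen ({z} : Set ↑(f.fiber s))) :
    f.QuasiFiniteAt x := by
  subst hs
  rw [Scheme.Hom.quasiFiniteAt_iff_isOpen_singleton_asFiber]
  have h1 : z = f.asFiber x := by
    apply (f.fiberι (f x)).isEmbedding.injective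
    rw [hz, f.fiberι_asFiber]
  rw [← h1]
  exact hopen

open AlgebraicGeometry CategoryTheory in
/-- For f : X → S locally of finite type and a cartesian square with base change f' : X' → S', g' : X' →
X, the quasi-finite locus of f' is the inverse image under g' of the quasi-finite locus of f. -/
theorem result {X S X' S' : Scheme.{u}} (f : X ⟶ S) [LocallyOfFiniteType f] (g : S' ⟶ S)
    (g' : X' ⟶ X) (f' : X' ⟶ S') (hsq : IsPullback g' f' f g) :
    {x' : ↑X' | f'.QuasiFiniteAt x'} = g'.base ⁻¹' {x : ↑X | f.QuasiFiniteAt x} := by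
  ext x'
  simp only [Set.mem_setOf_eq, Set.mem_preimage]
  haveI : LocallyOfFiniteType f' :=
    MorphismProperty.of_isPullback (P := @LocallyOfFiniteType) hsq inferInstance
  constructor
  · intro hq
    set s' := f' x' with hs'
    have hP := isPullback_fiberToSpecResidueField_of_isPullback hsq s'
    set Q := Limits.pullback.map f' (S'.fromSpecResidueField s') f (S.fromSpecResidueField (g s')) g'
      (Spec.map (g.residueFieldMap s')) g hsq.w.symm (by simp) with hQ
    haveI : UniversallyOpen (Spec.map (g.residueFieldMap s')) := inferInstance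
    haveI : UniversallyOpen Q :=
      MorphismProperty.of_isPullback (P := @UniversallyOpen) hP.flip inferInstance
    have hopen : IsOpen ({f'.asFiber x'} : Set ↑(f'.fiber (f' x'))) :=
      Scheme.Hom.quasiFiniteAt_iff_isOpen_singleton_asFiber.mp hq
    have hopen2 : IsOpen ({Q (f'.asFiber x')} : Set ↑(f.fiber (g s'))) := by
      have h0 := Q.isOpenMap _ hopen
      have h00 : (Q '' {f'.asFiber x'} : Set _) = {Q (f'.asFiber x')} := Set.image_singleton
      exact Eq.mp (congrArg IsOpen h00) h0
    have h1 : Q ≫ f.fiberι (g s') = f'.fiberι s' ≫ g' := Limits.pullback.lift_fst _ _ _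
    have hz : f.fiberι (g s') (Q (f'.asFiber x')) = g' x' := by
      have h2 := congrArg (fun (φ : (f'.fiber s') ⟶ X) => φ (f'.asFiber x')) h1
      simp only [Scheme.Hom.comp_apply] at h2
      exact h2.trans (congrArg g' (f'.fiberι_asFiber x'))
    exact h5_bridge f (g' x') (g s') (congr($(hsq.w) x')) _ hz hopen2
  · intro hq
    set U := f.quasiFiniteLocus with hU
    have hxU : g' x' ∈ U := hq
    have h1 := (isPullback_morphismRestrict g' U).paste_vert hsq
    haveI : LocallyQuasiFinite ((g' ⁻¹ᵁ U).ι ≫ f') :=
      MorphismProperty.of_isPullback (P := @LocallyQuasiFinite) h1 inferInstance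
    have h2 := Scheme.Hom.quasiFiniteAt ((g' ⁻¹ᵁ U).ι ≫ f') ⟨x', hxU⟩
    rw [Scheme.Hom.quasiFiniteAt_comp_iff_of_isOpenImmersion] at h2
    exact h2

end Groth.Agent.S9389
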