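import Groth.Statements.S9397
import Mathlib

set_option autoImplicit false
universe u
open CAlg

namespace Groth.Agent.S9397

/-- A ring R is universally Japanese provided that each R-algebra of finite type which is a domain is
N-1. -/
theorem result (R : Type u) [CommRing R]
    (h : ∀ (S : Type u) [CommRing S] [IsDomain S] [Algebra R S], Algebra.FiniteType R S → CAlg.IsN1 S) :
    CAlg.IsUniversallyJapanese R := by
  intro S _ _ _ hft L _ _ _ _ hfd
  haveI : Algebra.FiniteType R S := hft
  haveI : FiniteDimensional (FractionRing S) L := hfd
  obtain ⟨s, b, hb⟩ := FiniteDimensional.exists_is_basis_integral S (FractionRing S) L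
  classical
  let S' : Subalgebra S L := Algebra.adjoin S (Set.range b)
  have hrange_fin : (Set.range b).Finite := Set.finite_range b
  have hS'fg : S'.toSubmodule.FG := fg_adjoin_of_finite hrange_fin (by
    rintro _ ⟨i, rfl⟩
    exact hb i)
  haveI hS'fin : Module.Finite S S' := Module.Finite.iff_fg.2 hS'fg
  have hS'ft : Algebra.FiniteType S S' := inferInstance
  letI : Algebra R S' := ((algebraMap S S').comp (algebraMap R S)).toAlgebra
  haveI : IsScalarTower R S S' := IsScalarTower.of_algebraMap_eq fun _ => rfl
  have hS'ftR : Algebra.FiniteType R S' := Algebra.FiniteType.trans hft hS'ft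
  have hN1 : CAlg.IsN1 S' := h S' hS'ftR
  have hinjSL : Function.Injective (algebraMap S L) := by
    rw [IsScalarTower.algebraMap_eq S (FractionRing S) L]
    exact (algebraMap (FractionRing S) L).injective.comp
      (IsFractionRing.injective S (FractionRing S))
  haveI : FaithfulSMul S' L :=
    (faithfulSMul_iff_algebraMap_injective S' L).2 Subtype.val_injective
  haveI : IsFractionRing S' L := by
    refine IsFractionRing.of_field S' L (fun z => ?_)
    obtain ⟨⟨t, ht⟩, htz⟩ := multiple_mem_span_of_mem_localization_span (nonZeroDivisors S)
      (FractionRing S) (Set.range b) z (by rw [b.span_eq]; trivial)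
    have h1 : t • z ∈ S' := by
      have hle : Submodule.span S (Set.range b) ≤ S'.toSubmodule :=
        Submodule.span_le.2 Algebra.subset_adjoin
      exact hle htz
    have ht0 : algebraMap S L t ≠ 0 := fun h0 =>
      (nonZeroDivisors.ne_zero ht) (hinjSL (by rw [h0, map_zero]))
    refine ⟨⟨t • z, h1⟩, algebraMap S S' t, ?_⟩
    show z = (t • z) / algebraMap S L t
    rw [Algebra.smul_def, mul_div_cancel_left₀ _ ht0]
  let e : FractionRing S' ≃ₐ[S'] L := FractionRing.algEquiv S' L
  haveI : Module.Finite S' (integralClosure S' (FractionRing S')) := hN1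
  have h2 : Module.Finite S' (integralClosure S' L) :=
    Module.Finite.equiv e.mapIntegralClosure.toLinearEquiv
  haveI : Algebra.IsIntegral S S' := Algebra.IsIntegral.of_finite S S'
  obtain ⟨Y, hY⟩ : ((integralClosure S' L).toSubmodule).FG := Module.Finite.iff_fg.1 h2
  obtain ⟨Z, hZ⟩ := hS'fin.fg_top
  have h3 : ((integralClosure S' L).toSubmodule.restrictScalars S).FG := by
    rw [← hY, ← Submodule.span_smul_of_span_eq_top hZ (Y : Set L)]
    exact Submodule.fg_span (Set.Finite.smul Z.finite_toSet Y.finite_toSet)
  have h4 : (integralClosure S' L).toSubmodule.restrictScalars S =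
      (integralClosure S L).toSubmodule := by
    ext x
    constructor
    · intro hx
      exact isIntegral_trans x (hx : IsIntegral S' x)
    · intro hx
      exact (IsIntegral.tower_top (hx : IsIntegral S x) : IsIntegral S' x)
  rw [h4] at h3
  exact Module.Finite.iff_fg.2 h3

end Groth.Agent.S9397
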