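import Groth.Statements.S9402
import Mathlib

set_option autoImplicit false
universe u

namespace Groth.Agent.S9402

theorem result (R : Type u) [CommRing R] (S : Type u)
    [CommRing S] [Nontrivial S] [Algebra R S] [Algebra ℚ S] (f : S)
    (θ : Ω[S⁄R] →ₗ[S] S) (hθ : θ (KaehlerDifferential.D R S f) = 1) : ¬ IsNilpotent f := by
  intro hnil
  classical
  let n := Nat.find hnil
  have hn : f ^ n = 0 := Nat.find_spec hnil
  have hnpos : n ≠ 0 := by
    intro h0
    rw [h0, pow_zero] at hn
    exact one_ne_zero hn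
  obtain ⟨k, hk⟩ := Nat.exists_eq_succ_of_ne_zero hnpos
  have hkmin : f ^ k ≠ 0 := Nat.find_min hnil (by omega)
  have hd : KaehlerDifferential.D R S (f ^ n) = 0 := by rw [hn, map_zero]
  rw [Derivation.leibniz_pow, hk] at hd
  have h2 := congrArg θ hd
  rw [map_nsmul, LinearMap.map_smul, hθ, map_zero, smul_eq_mul, mul_one, nsmul_eq_mul] at h2
  -- h2 : (k+1 : S) * f^k = 0
  have hunit : IsUnit ((k.succ : ℕ) : S) := by
    have : ((k.succ : ℕ) : S) = algebraMap ℚ S (k.succ : ℚ) := by simp
    rw [this]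
    exact (IsUnit.mk0 (k.succ : ℚ) (by positivity)).map (algebraMap ℚ S)
  exact hkmin (hunit.mul_right_eq_zero.mp h2)

end Groth.Agent.S9402
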