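import Groth.Statements.S9403
import Mathlib

set_option autoImplicit false
universe u

namespace Groth.Agent.S9403

theorem result (R : Type u) [CommRing R]
    (S : Type u) [CommRing S] [IsLocalRing S] [IsNoetherianRing S] [Algebra R S] [Algebra ℚ S]
    (f : S) (θ : Ω[S⁄R] →ₗ[S] S) (hθ : θ (KaehlerDifferential.D R S f) = 1) : f ∈ nonZeroDivisors S := by
  rw [mem_nonZeroDivisors_iff_right]
  intro x hx
  by_cases hf : IsUnit f
  · exact hf.mul_left_eq_zero.mp hx
  have hfm : Ideal.span {f} ≠ ⊤ := by
    rw [Ne, Ideal.span_singleton_eq_top]; exact hf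
  have hunit : ∀ k : ℕ, IsUnit ((k.succ : ℕ) : S) := by
    intro k
    have : ((k.succ : ℕ) : S) = algebraMap ℚ S (k.succ : ℚ) := by simp
    rw [this]
    exact (IsUnit.mk0 (k.succ : ℚ) (by positivity)).map (algebraMap ℚ S)
  -- Lemma A
  have A : ∀ n : ℕ, ∀ x : S, x * f ^ (n + 1) = 0 → x ∈ Ideal.span {f} := by
    intro n
    induction n with
    | zero =>
      intro x hx
      rw [zero_add, pow_one] at hx
      have hd : KaehlerDifferential.D R S (x * f) = 0 := by rw [hx, map_zero]
      rw [Derivation.leibniz] at hd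
      have h2 := congrArg θ hd
      rw [map_add, LinearMap.map_smul, LinearMap.map_smul, hθ, map_zero, smul_eq_mul, smul_eq_mul,
        mul_one] at h2
      rw [Ideal.mem_span_singleton']
      refine ⟨-θ (KaehlerDifferential.D R S x), ?_⟩
      linear_combination (-1 : S) * h2
    | succ n ih =>
      intro x hx
      have hd : KaehlerDifferential.D R S (x * f ^ (n + 1 + 1)) = 0 := by rw [hx, map_zero]
      rw [Derivation.leibniz, Derivation.leibniz_pow] at hd
      have h2 := congrArg θ hd
      rw [map_add, LinearMap.map_smul, LinearMap.map_smul, map_nsmul, LinearMap.map_smul, hθ,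
        map_zero, smul_eq_mul, smul_eq_mul, smul_eq_mul, mul_one, nsmul_eq_mul] at h2
      simp only [Nat.add_sub_cancel] at h2
      have h3 : (((n + 1).succ : ℕ) * x + f * θ (KaehlerDifferential.D R S x)) * f ^ (n + 1) = 0 := by
        have e : f ^ (n + 1 + 1) = f ^ (n + 1) * f := pow_succ f (n + 1)
        rw [e] at h2
        push_cast at h2 ⊢
        linear_combination h2
      have h4 := ih _ h3
      have h5 : ((n + 1).succ : ℕ) * x ∈ Ideal.span {f} := by
        have : f * θ (KaehlerDifferential.D R S x) ∈ Ideal.span {f} :=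
          Ideal.mul_mem_right _ _ (Ideal.mem_span_singleton_self f)
        have := (Ideal.span {f}).sub_mem h4 this
        simpa using this
      obtain ⟨u, hu⟩ := hunit (n + 1)
      have : x = (↑u⁻¹ : S) * (((n + 1).succ : ℕ) * x) := by
        rw [← hu, ← mul_assoc, Units.inv_mul, one_mul]
      rw [this]
      exact Ideal.mul_mem_left _ _ h5
  -- Lemma B
  have B : ∀ n : ℕ, ∃ y : S, x = f ^ n * y ∧ y * f ^ (n + 1) = 0 := by
    intro n
    induction n with
    | zero => exact ⟨x, by simp, by simpa using hx⟩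
    | succ n ih =>
      obtain ⟨y, hy1, hy2⟩ := ih
      have := A n y hy2
      rw [Ideal.mem_span_singleton'] at this
      obtain ⟨z, hz⟩ := this
      refine ⟨z, ?_, ?_⟩
      · rw [hy1, ← hz]; ring
      · rw [← hz] at hy2
        rw [← hy2]; ring
  have hmem : x ∈ ⨅ i : ℕ, (Ideal.span {f}) ^ i := by
    rw [Ideal.mem_iInf]
    intro n
    obtain ⟨y, hy1, -⟩ := B n
    rw [hy1, Ideal.span_singleton_pow]
    exact Ideal.mul_mem_right _ _ (Ideal.mem_span_singleton_self _)
  rw [Ideal.iInf_pow_eq_bot_of_isLocalRing _ hfm] at hmem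
  simpa using hmem

end Groth.Agent.S9403
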