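import Groth.Statements.S9424
import Mathlib

set_option autoImplicit false
universe u

namespace Groth.Agent.S9424

theorem result {ι : Type u} [Preorder ι] [IsDirected ι (· ≤ ·)] [Nonempty ι]
    (R : Type u) [CommRing R] (G : ι → Type u) [∀ i, CommRing (G i)] [∀ i, Algebra R (G i)]
    (f : ∀ i j, i ≤ j → (G i →ₐ[R] G j)) (S : Type u) [CommRing S] [Algebra R S]
    (g : ∀ i, G i →ₐ[R] S) (hg : ∀ i j (h : i ≤ j), (g j).comp (f i j h) = g i)
    (hsurj : ∀ s : S, ∃ i, ∃ x : G i, g i x = s)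
    (hker : ∀ i (x : G i), g i x = 0 → ∃ j, ∃ h : i ≤ j, f i j h x = 0)
    (h : ∀ i, Algebra.FormallyUnramified R (G i)) : Algebra.FormallyUnramified R S := by
  rw [Algebra.FormallyUnramified.iff_comp_injective]
  intro B _ _ I hI a₁ a₂ e
  ext s
  obtain ⟨i, x, rfl⟩ := hsurj s
  have hi := h i
  have := Algebra.FormallyUnramified.comp_injective (R := R) (A := G i) I hI
    (a₁ := a₁.comp (g i)) (a₂ := a₂.comp (g i)) (by
      rw [← AlgHom.comp_assoc, ← AlgHom.comp_assoc, e])
  exact AlgHom.congr_fun this x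

end Groth.Agent.S9424
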