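import Groth.Statements.S9425
import Mathlib

set_option autoImplicit false
universe u
open CAlg

namespace Groth.Agent.S9425

/-- A directed colimit of formally étale R-algebras is formally étale over R. The colimit is encoded by
compatible R-algebra maps S_i → S which are jointly surjective and whose kernels die further along
the system. -/
theorem result {ι : Type u} [Preorder ι] [IsDirected ι (· ≤ ·)] [Nonempty ι]
    (R : Type u) [CommRing R] (G : ι → Type u) [∀ i, CommRing (G i)] [∀ i, Algebra R (G i)]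
    (f : ∀ i j, i ≤ j → (G i →ₐ[R] G j)) (S : Type u) [CommRing S] [Algebra R S]
    (g : ∀ i, G i →ₐ[R] S) (hg : ∀ i j (h : i ≤ j), (g j).comp (f i j h) = g i)
    (hsurj : ∀ s : S, ∃ i, ∃ x : G i, g i x = s)
    (hker : ∀ i (x : G i), g i x = 0 → ∃ j, ∃ h : i ≤ j, f i j h x = 0)
    (h : ∀ i, Algebra.FormallyEtale R (G i)) : Algebra.FormallyEtale R S := by
  rw [Algebra.FormallyEtale.iff_comp_bijective]
  intro B _ _ I hI
  have hbij : ∀ i, Function.Bijective
      ((Ideal.Quotient.mkₐ R I).comp : (G i →ₐ[R] B) → G i →ₐ[R] B ⧸ I) :=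
    fun i => Algebra.FormallyEtale.comp_bijective R (G i) I hI
  constructor
  · intro a₁ a₂ e
    ext s
    obtain ⟨i, x, rfl⟩ := hsurj s
    have := (hbij i).1 (a₁ := a₁.comp (g i)) (a₂ := a₂.comp (g i)) (by
      simp only [← AlgHom.comp_assoc]
      exact congrArg (fun t => AlgHom.comp t (g i)) e)
    exact AlgHom.congr_fun this x
  · intro φ
    choose ψ hψ using fun i => (hbij i).2 (φ.comp (g i))
    have hcompat : ∀ i j (hij : i ≤ j), (ψ j).comp (f i j hij) = ψ i := by
      intro i j hij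
      apply (hbij i).1
      show (Ideal.Quotient.mkₐ R I).comp ((ψ j).comp (f i j hij)) = (Ideal.Quotient.mkₐ R I).comp (ψ i)
      rw [← AlgHom.comp_assoc, hψ, hψ, AlgHom.comp_assoc, hg]
    let Γi : ι → Subalgebra R (S × B) := fun i => ((g i).prod (ψ i)).range
    have hmono : ∀ i j, i ≤ j → Γi i ≤ Γi j := by
      rintro i j hij _ ⟨x, rfl⟩
      refine ⟨f i j hij x, ?_⟩
      have h1 : g j (f i j hij x) = g i x := AlgHom.congr_fun (hg i j hij) x
      have h2 : ψ j (f i j hij x) = ψ i x := AlgHom.congr_fun (hcompat i j hij) x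
      simp [h1, h2]
    have hdir : Directed (· ≤ ·) Γi := by
      intro i j
      obtain ⟨k, hik, hjk⟩ := exists_ge_ge i j
      exact ⟨k, hmono i k hik, hmono j k hjk⟩
    have hmem : ∀ z, z ∈ (⨆ i, Γi i) ↔ ∃ i, ∃ x : G i, (g i x, ψ i x) = z := by
      intro z
      rw [← SetLike.mem_coe, Subalgebra.coe_iSup_of_directed hdir, Set.mem_iUnion]
      constructor
      · rintro ⟨i, x, rfl⟩; exact ⟨i, x, rfl⟩
      · rintro ⟨i, x, rfl⟩; exact ⟨i, x, rfl⟩
    let π : (⨆ i, Γi i : Subalgebra R (S × B)) →ₐ[R] S :=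
      (AlgHom.fst R S B).comp (Subalgebra.val _)
    have hπ : Function.Bijective π := by
      constructor
      · rw [injective_iff_map_eq_zero]
        rintro ⟨z, hz⟩ hz0
        obtain ⟨i, x, rfl⟩ := (hmem z).mp hz
        have hgx : g i x = 0 := hz0
        obtain ⟨j, hij, hj⟩ := hker i x hgx
        have h2 : ψ j (f i j hij x) = ψ i x := AlgHom.congr_fun (hcompat i j hij) x
        rw [hj, map_zero] at h2
        ext
        · exact hgx
        · exact h2.symm
      · intro s
        obtain ⟨i, x, rfl⟩ := hsurj s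
        exact ⟨⟨(g i x, ψ i x), (hmem _).mpr ⟨i, x, rfl⟩⟩, rfl⟩
    let e := AlgEquiv.ofBijective π hπ
    refine ⟨((AlgHom.snd R S B).comp (Subalgebra.val _)).comp e.symm.toAlgHom, ?_⟩
    ext s
    obtain ⟨⟨z, hz⟩, rfl⟩ := e.surjective s
    obtain ⟨i, x, rfl⟩ := (hmem z).mp hz
    have := AlgHom.congr_fun (hψ i) x
    have he : e ⟨((g i) x, (ψ i) x), hz⟩ = g i x := rfl
    show (Ideal.Quotient.mkₐ R I) (((AlgHom.snd R S B).comp (Subalgebra.val _))
      (e.symm (e ⟨((g i) x, (ψ i) x), hz⟩))) = φ (e ⟨((g i) x, (ψ i) x), hz⟩)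
    rw [AlgEquiv.symm_apply_apply, he]
    simpa using this

end Groth.Agent.S9425
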