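import Groth.Statements.S9428
import Mathlib

set_option autoImplicit false
universe u
open CAlg

namespace Groth.Agent.S9428

/-- If R → S is formally étale and J ⊆ S is an ideal with R → S/J surjective, I ⊆ R its kernel (the
preimage of J), then R/I^n → S/J^n is bijective for all n. (The published statement adds that the
associated graded rings are then isomorphic, which follows from these bijections.) -/
theorem result (R : Type u) [CommRing R] (S : Type u)
    [CommRing S] [Algebra R S] [Algebra.FormallyEtale R S] (J : Ideal S)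
    (hJ : Function.Surjective (algebraMap R (S ⧸ J))) (n : ℕ) :
    Function.Bijective (Ideal.quotientMap (J ^ n) (algebraMap R S)
      (le_of_le_of_eq (Ideal.le_comap_pow (algebraMap R S) n) rfl :
        (J.comap (algebraMap R S)) ^ n ≤ (J ^ n).comap (algebraMap R S))) := by
  classical
  have nil : ∀ {A B : Type u} [CommRing A] [CommRing B] (K : Ideal A) (n : ℕ) (f : A ⧸ K ^ n →+* B)
      (hf : ∀ a, f (Ideal.Quotient.mk (K ^ n) a) = 0 → a ∈ K), RingHom.ker f ^ n = ⊥ := by
    intro A B _ _ K n f hf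
    rw [eq_bot_iff]
    have h1 : RingHom.ker f ≤ K.map (Ideal.Quotient.mk (K ^ n)) := by
      intro x hx
      obtain ⟨a, rfl⟩ := Ideal.Quotient.mk_surjective x
      exact Ideal.mem_map_of_mem _ (hf a ((RingHom.mem_ker).mp hx))
    calc RingHom.ker f ^ n ≤ (K.map (Ideal.Quotient.mk (K ^ n))) ^ n := Ideal.pow_right_mono h1 n
      _ = (K ^ n).map (Ideal.Quotient.mk (K ^ n)) := (Ideal.map_pow _ _ _).symm
      _ = ⊥ := Ideal.map_quotient_self _
  set I : Ideal R := J.comap (algebraMap R S) with hI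
  rcases Nat.eq_zero_or_pos n with rfl | hn
  · have h1 : Subsingleton (R ⧸ I ^ 0) := by
      rw [pow_zero, Ideal.one_eq_top]; exact Ideal.Quotient.subsingleton_iff.mpr rfl
    have h2 : Subsingleton (S ⧸ J ^ 0) := by
      rw [pow_zero, Ideal.one_eq_top]; exact Ideal.Quotient.subsingleton_iff.mpr rfl
    exact ⟨fun a b _ => Subsingleton.elim a b, fun y => ⟨0, Subsingleton.elim _ _⟩⟩
  · have hn0 : n ≠ 0 := Nat.pos_iff_ne_zero.mp hn
    have hle : I ^ n ≤ (J ^ n).comap (algebraMap R S) :=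
      le_of_le_of_eq (Ideal.le_comap_pow (algebraMap R S) n) rfl
    have hφ : ∀ r : R, Ideal.quotientMap (J ^ n) (algebraMap R S) hle (Ideal.Quotient.mk (I ^ n) r)
        = Ideal.Quotient.mk (J ^ n) (algebraMap R S r) := fun r => Ideal.quotientMap_mk
    generalize Ideal.quotientMap (J ^ n) (algebraMap R S) hle = φ at hφ ⊢
    have hmemI : ∀ r : R, algebraMap R (S ⧸ J) r = 0 ↔ r ∈ I := by
      intro r
      rw [IsScalarTower.algebraMap_apply R S (S ⧸ J), Ideal.Quotient.algebraMap_eq,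
        Ideal.Quotient.eq_zero_iff_mem]
      rfl
    let g : (R ⧸ I ^ n) →ₐ[R] (S ⧸ J) := Ideal.Quotient.liftₐ (I ^ n) (Algebra.ofId R (S ⧸ J))
      (fun a ha => (hmemI a).mpr (Ideal.pow_le_self hn0 ha))
    have hg_mk : ∀ r : R, g (Ideal.Quotient.mk (I ^ n) r) = algebraMap R (S ⧸ J) r := fun r => rfl
    have hg : Function.Surjective g := by
      intro y
      obtain ⟨r, rfl⟩ := hJ y
      exact ⟨Ideal.Quotient.mk (I ^ n) r, hg_mk r⟩
    have hker : RingHom.ker (g : (R ⧸ I ^ n) →+* (S ⧸ J)) ^ n = ⊥ :=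
      nil I n _ (fun a ha => (hmemI a).mp ((hg_mk a).symm.trans ha))
    have hg' : IsNilpotent (RingHom.ker (g : (R ⧸ I ^ n) →+* (S ⧸ J))) := ⟨n, hker⟩
    let ψ : S →ₐ[R] (R ⧸ I ^ n) :=
      Algebra.FormallySmooth.liftOfSurjective (Ideal.Quotient.mkₐ R J) g hg hg'
    have hψ : ∀ s : S, g (ψ s) = Ideal.Quotient.mk J s := fun s =>
      Algebra.FormallySmooth.liftOfSurjective_apply (Ideal.Quotient.mkₐ R J) g hg hg' s
    have hψJ : ∀ a ∈ J ^ n, (ψ : S →+* R ⧸ I ^ n) a = 0 := by
      have h1 : J ≤ (RingHom.ker (g : (R ⧸ I ^ n) →+* (S ⧸ J))).comap (ψ : S →+* R ⧸ I ^ n) := by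
        intro s hs
        rw [Ideal.mem_comap, RingHom.mem_ker]
        exact (hψ s).trans (Ideal.Quotient.eq_zero_iff_mem.mpr hs)
      have h2 : J ^ n ≤ (⊥ : Ideal (R ⧸ I ^ n)).comap (ψ : S →+* R ⧸ I ^ n) := by
        calc J ^ n ≤ ((RingHom.ker (g : (R ⧸ I ^ n) →+* (S ⧸ J))).comap
              (ψ : S →+* R ⧸ I ^ n)) ^ n := Ideal.pow_right_mono h1 n
          _ ≤ ((RingHom.ker (g : (R ⧸ I ^ n) →+* (S ⧸ J))) ^ n).comap
              (ψ : S →+* R ⧸ I ^ n) := Ideal.le_comap_pow _ n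
          _ = _ := by rw [hker]
      intro a ha
      have := h2 ha
      rwa [Ideal.mem_comap, Ideal.mem_bot] at this
    let ψb : (S ⧸ J ^ n) →+* (R ⧸ I ^ n) :=
      Ideal.Quotient.lift (J ^ n) (ψ : S →+* R ⧸ I ^ n) hψJ
    have hψb : ∀ s : S, ψb (Ideal.Quotient.mk (J ^ n) s) = ψ s :=
      fun s => Ideal.Quotient.lift_mk _ _ _
    refine ⟨?_, ?_⟩
    · apply Function.LeftInverse.injective (g := ψb)
      intro x
      obtain ⟨r, rfl⟩ := Ideal.Quotient.mk_surjective x
      rw [hφ, hψb]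
      exact ψ.commutes r
    · intro y
      obtain ⟨s, rfl⟩ := Ideal.Quotient.mk_surjective y
      let f : (S ⧸ J ^ n) →+* (S ⧸ J) := Ideal.Quotient.factor (Ideal.pow_le_self hn0)
      have hf_mk : ∀ s : S, f (Ideal.Quotient.mk (J ^ n) s) = Ideal.Quotient.mk J s :=
        fun s => Ideal.Quotient.factor_mk _ s
      have hf : IsNilpotent (RingHom.ker f) :=
        ⟨n, nil J n f (fun a ha => Ideal.Quotient.eq_zero_iff_mem.mp ((hf_mk a).symm.trans ha))⟩
      let g₂ : S →ₐ[R] (S ⧸ J ^ n) :=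
        { toRingHom := φ.comp (ψ : S →+* R ⧸ I ^ n)
          commutes' := fun r => by
            show φ (ψ (algebraMap R S r)) = algebraMap R (S ⧸ J ^ n) r
            rw [ψ.commutes r]
            exact hφ r }
      have hfφ : ∀ x : R ⧸ I ^ n, f (φ x) = g x := by
        intro x
        obtain ⟨r, rfl⟩ := Ideal.Quotient.mk_surjective x
        rw [hφ, hf_mk, hg_mk]
        rfl
      have key : Ideal.Quotient.mkₐ R (J ^ n) = g₂ := by
        apply Algebra.FormallyUnramified.lift_unique_of_ringHom f hf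
        ext s
        show f (Ideal.Quotient.mk (J ^ n) s) = f (φ (ψ s))
        rw [hf_mk, hfφ, hψ]
      refine ⟨ψ s, ?_⟩
      have := AlgHom.congr_fun key s
      exact this.symm

end Groth.Agent.S9428
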