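import Groth.Statements.S9435
import Mathlib

set_option autoImplicit false
universe u
open CAlg

namespace Groth.Agent.S9435

/-- Given a prime p of a ring R and a finite separable extension L of κ(p), there is an étale R-algebra
R' with a prime p' over p whose residue field is κ(p)-isomorphic to L. Stated through an R-algebra
map ψ : R' → L whose image generates the field L: its kernel is such a prime p' and the induced
κ(p') → L is then an isomorphism over κ(p). -/
theorem result (R : Type u) [CommRing R]
    (p : Ideal R) [p.IsPrime] (L : Type u) [Field L] [Algebra p.ResidueField L] [Algebra R L]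
    [IsScalarTower R p.ResidueField L] [Module.Finite p.ResidueField L]
    [Algebra.IsSeparable p.ResidueField L] :
    ∃ (R' : Type u) (_ : CommRing R') (_ : Algebra R R') (_ : Algebra.Etale R R') (ψ : R' →ₐ[R] L),
      Subfield.closure (Set.range ψ) = ⊤ := by
  classical
  obtain ⟨α, hα⟩ := Field.exists_primitive_element p.ResidueField L
  have hfrac : ∀ x : p.ResidueField, ∃ s : R, s ∉ p ∧ ∃ r : R,
      algebraMap R p.ResidueField s * x = algebraMap R p.ResidueField r := by
    intro x
    obtain ⟨y, rfl⟩ := IsLocalRing.residue_surjective x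
    obtain ⟨r, s, rfl⟩ := IsLocalization.exists_mk'_eq p.primeCompl y
    refine ⟨s, s.2, r, ?_⟩
    rw [IsScalarTower.algebraMap_apply R (Localization.AtPrime p) p.ResidueField,
      IsScalarTower.algebraMap_apply R (Localization.AtPrime p) p.ResidueField,
      IsLocalRing.ResidueField.algebraMap_eq, ← map_mul]
    congr 1
    rw [mul_comm]; exact IsLocalization.mk'_spec _ r s
  have hcommon : ∀ (t : Finset ℕ) (c : ℕ → p.ResidueField), ∃ b : R, b ∉ p ∧ ∀ i ∈ t, ∃ r : R,
      algebraMap R p.ResidueField b * c i = algebraMap R p.ResidueField r := by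
    intro t c
    induction t using Finset.induction_on with
    | empty =>
      exact ⟨1, fun h => (inferInstance : p.IsPrime).ne_top ((Ideal.eq_top_iff_one p).mpr h),
        by simp⟩
    | insert a t ha ih =>
      obtain ⟨b, hb, hbr⟩ := ih
      obtain ⟨s, hs, r, hr⟩ := hfrac (c a)
      refine ⟨b * s, fun h => ((inferInstance : p.IsPrime).mem_or_mem h).elim hb hs, ?_⟩
      intro i hi
      rcases Finset.mem_insert.mp hi with rfl | hi
      · exact ⟨b * r, by rw [map_mul, map_mul, mul_assoc, hr]⟩
      · obtain ⟨r', hr'⟩ := hbr i hi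
        exact ⟨s * r', by
          rw [map_mul, map_mul, mul_comm (algebraMap R p.ResidueField b), mul_assoc, hr']⟩
  have hzero : ∀ s : R, algebraMap R p.ResidueField s = 0 ↔ s ∈ p := fun s =>
    Ideal.algebraMap_residueField_eq_zero
  set m := minpoly p.ResidueField α with hm
  have hint : IsIntegral p.ResidueField α := Algebra.IsIntegral.isIntegral α
  have hmmonic : m.Monic := minpoly.monic hint
  obtain ⟨b, hb, hbr⟩ := hcommon (Finset.range (m.natDegree)) m.coeff
  set b' : p.ResidueField := algebraMap R p.ResidueField b with hb'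
  have hb'0 : b' ≠ 0 := fun h => hb ((hzero b).mp h)
  set m' := m.scaleRoots b' with hm'
  have hm'monic : m'.Monic := (Polynomial.monic_scaleRoots_iff b').mpr hmmonic
  have hm'lifts : m' ∈ Polynomial.lifts (algebraMap R p.ResidueField) := by
    rw [Polynomial.lifts_iff_coeff_lifts]
    intro i
    rw [hm', Polynomial.coeff_scaleRoots]
    rcases lt_trichotomy i m.natDegree with hi | hi | hi
    · obtain ⟨r, hr⟩ := hbr i (Finset.mem_range.mpr hi)
      refine ⟨r * b ^ (m.natDegree - i - 1), ?_⟩
      rw [map_mul, map_pow, ← hr, ← hb']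
      have : m.natDegree - i = (m.natDegree - i - 1) + 1 := by omega
      rw [this, pow_succ]
      simp only [Nat.add_sub_cancel]
      ring
    · subst hi
      exact ⟨1, by simp [hmmonic.coeff_natDegree]⟩
    · exact ⟨0, by rw [Polynomial.coeff_eq_zero_of_natDegree_lt hi]; simp⟩
  obtain ⟨f, hfmap, hfdeg, hfmonic⟩ :=
    Polynomial.lifts_and_natDegree_eq_and_monic hm'lifts hm'monic
  set β : L := algebraMap p.ResidueField L b' * α with hβ
  have hβroot : Polynomial.aeval β m' = 0 :=
    Polynomial.scaleRoots_aeval_eq_zero (minpoly.aeval _ _)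
  have hb'L : algebraMap p.ResidueField L b' ≠ 0 := by
    simpa using hb'0
  have hβtop : IntermediateField.adjoin p.ResidueField {β} = ⊤ := by
    rw [eq_top_iff, ← hα, IntermediateField.adjoin_simple_le_iff]
    have h1 : β ∈ IntermediateField.adjoin p.ResidueField {β} :=
      IntermediateField.mem_adjoin_simple_self _ _
    have h2 : algebraMap p.ResidueField L b' ∈ IntermediateField.adjoin p.ResidueField {β} :=
      IntermediateField.algebraMap_mem _ _
    have : α = (algebraMap p.ResidueField L b')⁻¹ * β := by
      rw [hβ, ← mul_assoc, inv_mul_cancel₀ hb'L, one_mul]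
    rw [this]
    exact mul_mem (inv_mem h2) h1
  have hintβ : IsIntegral p.ResidueField β := Algebra.IsIntegral.isIntegral β
  have hdegβ : (minpoly p.ResidueField β).natDegree = m'.natDegree := by
    rw [hm', Polynomial.natDegree_scaleRoots, ← IntermediateField.adjoin.finrank hintβ,
      ← IntermediateField.adjoin.finrank hint, hβtop, hα]
  have hm'eq : m' = minpoly p.ResidueField β :=
    Polynomial.eq_of_monic_of_dvd_of_natDegree_le (minpoly.monic hintβ) hm'monic
      (minpoly.dvd _ _ hβroot) hdegβ.ge
  have hsep : m'.Separable := hm'eq ▸ Algebra.IsSeparable.isSeparable p.ResidueField β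
  have hder : Polynomial.aeval β (Polynomial.derivative m') ≠ 0 :=
    hsep.aeval_derivative_ne_zero hβroot
  let P : StandardEtalePair R := ⟨f, hfmonic, Polynomial.derivative f, ⟨1, 0, 1, by simp⟩⟩
  have hmap : P.HasMap β := by
    refine ⟨?_, ?_⟩
    · change Polynomial.aeval β f = 0
      rw [← Polynomial.aeval_map_algebraMap p.ResidueField, hfmap]; exact hβroot
    · change IsUnit (Polynomial.aeval β (Polynomial.derivative f))
      rw [← Polynomial.aeval_map_algebraMap p.ResidueField, ← Polynomial.derivative_map, hfmap]
      exact IsUnit.mk0 _ hder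
  refine ⟨P.Ring, inferInstance, inferInstance, inferInstance, P.lift β hmap, ?_⟩
  rw [eq_top_iff]
  intro y _
  set K' := Subfield.closure (Set.range (P.lift β hmap)) with hK'
  have hR : ∀ r : R, algebraMap R L r ∈ K' := fun r =>
    Subfield.subset_closure ⟨algebraMap R P.Ring r, by simp⟩
  have hκ : ∀ x : p.ResidueField, algebraMap p.ResidueField L x ∈ K' := by
    intro x
    obtain ⟨s, hs, r, hr⟩ := hfrac x
    have hs0 : algebraMap R L s ≠ 0 := by
      rw [IsScalarTower.algebraMap_apply R p.ResidueField L]
      intro h
      exact hs ((hzero s).mp (by simpa using h))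
    have : algebraMap p.ResidueField L x = (algebraMap R L s)⁻¹ * algebraMap R L r := by
      rw [IsScalarTower.algebraMap_apply R p.ResidueField L r, ← hr, map_mul,
        ← IsScalarTower.algebraMap_apply, inv_mul_cancel_left₀ hs0]
    rw [this]; exact mul_mem (inv_mem (hR s)) (hR r)
  have hβK : β ∈ K' := Subfield.subset_closure ⟨P.X, P.lift_X β hmap⟩
  let K'' : IntermediateField p.ResidueField L := Subfield.toIntermediateField K' hκ
  have hle : IntermediateField.adjoin p.ResidueField {β} ≤ K'' := by
    rw [IntermediateField.adjoin_simple_le_iff]; exact hβK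
  have hy : y ∈ IntermediateField.adjoin p.ResidueField {β} := by rw [hβtop]; trivial
  exact hle hy

end Groth.Agent.S9435
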