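import Groth.Statements.S9436
import Mathlib

set_option autoImplicit false
universe u
open CAlg

namespace Groth.Agent.S9436

open TensorProduct in
/-- Étale algebras lift along surjections: for an ideal I of R and an étale (R/I)-algebra S̄ there is an
étale R-algebra S with (R/I) ⊗_R S ≅ S̄ over R/I. -/
theorem result (R : Type u) [CommRing R] (I : Ideal R) (Sb : Type u)
    [CommRing Sb] [Algebra (R ⧸ I) Sb] [Algebra.Etale (R ⧸ I) Sb] :
    ∃ (S : Type u) (_ : CommRing S) (_ : Algebra R S), Algebra.Etale R S ∧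
      Nonempty (((R ⧸ I) ⊗[R] S) ≃ₐ[R ⧸ I] Sb) := by
  classical
  have hss : Algebra.IsStandardSmoothOfRelativeDimension 0 (R ⧸ I) Sb :=
    Algebra.Etale.iff_isStandardSmoothOfRelativeDimension_zero.mp inferInstance
  obtain ⟨ι, σ, _, _, Pb, hPb⟩ := hss.out
  cases nonempty_fintype σ
  have hsurj : Function.Surjective (MvPolynomial.map (σ := ι) (algebraMap R (R ⧸ I))) :=
    MvPolynomial.map_surjective _ Ideal.Quotient.mk_surjective
  choose F hF using fun r : σ => hsurj (Pb.relation r)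
  let A := MvPolynomial ι R ⧸ Ideal.span (Set.range F)
  let P : Algebra.PreSubmersivePresentation R A ι σ :=
    Algebra.PreSubmersivePresentation.naive (v := F) Pb.map Pb.map_inj
  let Δ : A := P.jacobian
  let S := Localization.Away Δ
  let Q : Algebra.SubmersivePresentation A S Unit Unit :=
    Algebra.SubmersivePresentation.localizationAway S Δ
  let PS : Algebra.PreSubmersivePresentation R S (Unit ⊕ ι) (Unit ⊕ σ) :=
    Q.toPreSubmersivePresentation.comp P
  have hjac : IsUnit PS.jacobian := by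
    rw [Algebra.PreSubmersivePresentation.comp_jacobian_eq_jacobian_smul_jacobian,
      Algebra.smul_def]
    exact (IsLocalization.map_units S (⟨Δ, Submonoid.mem_powers _⟩ : Submonoid.powers Δ)).mul
      Q.jacobian_isUnit
  let PS' : Algebra.SubmersivePresentation R S (Unit ⊕ ι) (Unit ⊕ σ) :=
    { toPreSubmersivePresentation := PS, jacobian_isUnit := hjac }
  have hdim : PS'.dimension = 0 := by
    change PS.dimension = 0
    rw [Algebra.PreSubmersivePresentation.dimension_comp_eq_dimension_add_dimension]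
    have h1 : Q.dimension = 0 := Algebra.Presentation.localizationAway_dimension_zero Δ
    have h2 : P.dimension = Pb.dimension := rfl
    rw [h1, h2, hPb]
  haveI : Algebra.IsStandardSmoothOfRelativeDimension 0 R S :=
    PS'.isStandardSmoothOfRelativeDimension hdim
  refine ⟨S, inferInstance, inferInstance, inferInstance, ⟨?_⟩⟩
  let PB : Algebra.PreSubmersivePresentation (R ⧸ I) ((R ⧸ I) ⊗[R] A) ι σ :=
    P.baseChange (R ⧸ I)
  have hrel : ∀ r, PB.relation r = Pb.relation r := fun r => hF r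
  have hker : PB.ker = Pb.ker := by
    rw [← PB.span_range_relation_eq_ker, ← Pb.span_range_relation_eq_ker]
    congr 2
    funext r
    exact hrel r
  let e₁ : ((R ⧸ I) ⊗[R] A) ≃ₐ[R ⧸ I] Sb :=
    ((PB.quotientEquiv.symm.restrictScalars (R ⧸ I)).trans
      (Ideal.quotientEquivAlgOfEq (R ⧸ I) hker)).trans (Pb.quotientEquiv.restrictScalars (R ⧸ I))
  have he₁ : ∀ f : MvPolynomial ι (R ⧸ I),
      e₁ (MvPolynomial.aeval PB.val f) = MvPolynomial.aeval Pb.val f := by
    intro f
    simp only [e₁, AlgEquiv.trans_apply, AlgEquiv.restrictScalars_apply]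
    have h4 : MvPolynomial.aeval PB.val f = PB.quotientEquiv (Ideal.Quotient.mk PB.ker f) := rfl
    rw [h4, AlgEquiv.symm_apply_apply]
    rw [Ideal.quotientEquivAlgOfEq_mk]
    exact (Pb.quotientEquiv_mk f).trans (Pb.algebraMap_apply f)
  have hΔ : e₁ ((1 : R ⧸ I) ⊗ₜ[R] Δ) = Pb.jacobian := by
    rw [← P.baseChange_jacobian (R ⧸ I)]
    change e₁ PB.jacobian = Pb.jacobian
    rw [PB.jacobian_eq_jacobiMatrix_det, Pb.jacobian_eq_jacobiMatrix_det,
      Algebra.Generators.algebraMap_apply, Algebra.Generators.algebraMap_apply, he₁]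
    congr 2
    ext i j
    rw [Algebra.PreSubmersivePresentation.jacobiMatrix_apply,
      Algebra.PreSubmersivePresentation.jacobiMatrix_apply, hrel]
    rfl
  have hunit : IsUnit ((1 : R ⧸ I) ⊗ₜ[R] Δ) := by
    have h3 := Pb.jacobian_isUnit
    rw [← hΔ] at h3
    have h5 := h3.map e₁.symm
    rwa [AlgEquiv.symm_apply_apply] at h5
  let e₂ : (R ⧸ I) ⊗[R] S ≃ₐ[R ⧸ I] Localization.Away ((1 : R ⧸ I) ⊗ₜ[R] Δ) :=
    IsLocalization.Away.tensorProductEquivTMulRight R (R ⧸ I) Δ S
  let e₃ : Localization.Away ((1 : R ⧸ I) ⊗ₜ[R] Δ) ≃ₐ[R ⧸ I] (R ⧸ I) ⊗[R] A :=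
    ((IsLocalization.atUnit ((R ⧸ I) ⊗[R] A) (Localization.Away ((1 : R ⧸ I) ⊗ₜ[R] Δ))
      ((1 : R ⧸ I) ⊗ₜ[R] Δ) hunit).symm).restrictScalars (R ⧸ I)
  exact (e₂.trans e₃).trans e₁

end Groth.Agent.S9436
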