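import Groth.Statements.S9450
import Mathlib
import Groth.Agent.S9178

set_option autoImplicit false
universe u
open CAlg

namespace Groth.Agent.S9450

/-- For ring maps A → B → C with A → C surjective and A → B formally smooth, writing I = ker(A → C) and
J = ker(B → C), the sequence 0 → I/I² → J/J² → C ⊗_B Ω_{B/A} → 0 is split exact: the first map is
injective and admits an A-linear retraction, its range is the kernel of the second map (class of x ↦
1 ⊗ dx), and the second map is surjective. -/
theorem result (A : Type u) [CommRing A]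
    (B : Type u) [CommRing B] [Algebra A B] [Algebra.FormallySmooth A B] (C : Type u) [CommRing C]
    [Algebra B C] [Algebra A C] [IsScalarTower A B C] (hC : Function.Surjective (algebraMap A C)) :
    Function.Injective (Ideal.mapCotangent (RingHom.ker (algebraMap A C))
        (RingHom.ker (algebraMap B C)) (Algebra.ofId A B)
        (le_of_eq (congrArg RingHom.ker (IsScalarTower.algebraMap_eq A B C)))) ∧
      (∃ r : (RingHom.ker (algebraMap B C)).Cotangent →ₗ[A] (RingHom.ker (algebraMap A C)).Cotangent,
        r ∘ₗ (Ideal.mapCotangent (RingHom.ker (algebraMap A C)) (RingHom.ker (algebraMap B C))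
          (Algebra.ofId A B)
          (le_of_eq (congrArg RingHom.ker (IsScalarTower.algebraMap_eq A B C)))) = LinearMap.id) ∧
      LinearMap.range (Ideal.mapCotangent (RingHom.ker (algebraMap A C))
          (RingHom.ker (algebraMap B C)) (Algebra.ofId A B)
          (le_of_eq (congrArg RingHom.ker (IsScalarTower.algebraMap_eq A B C)))) =
        LinearMap.ker ((KaehlerDifferential.kerCotangentToTensor A B C).restrictScalars A) ∧
      Function.Surjective (KaehlerDifferential.kerCotangentToTensor A B C) := by
  classical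
  set I : Ideal A := RingHom.ker (algebraMap A C) with hI
  set J : Ideal B := RingHom.ker (algebraMap B C) with hJ
  have hIJ : I ≤ J.comap (Algebra.ofId A B) :=
    le_of_eq (congrArg RingHom.ker (IsScalarTower.algebraMap_eq A B C))
  have hc : Function.Surjective (algebraMap B C) := by
    intro c
    obtain ⟨a, rfl⟩ := hC c
    exact ⟨algebraMap A B a, (IsScalarTower.algebraMap_apply A B C a).symm⟩
  -- the surjection `A/I² → C`
  let g : (A ⧸ I ^ 2) →ₐ[A] C := Ideal.Quotient.liftₐ (I ^ 2) (Algebra.ofId A C) (by
    intro a ha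
    exact Ideal.pow_le_self two_ne_zero ha)
  have hg_mk : ∀ a : A, g (Ideal.Quotient.mk (I ^ 2) a) = algebraMap A C a := fun a => rfl
  have hg : Function.Surjective g := by
    intro c
    obtain ⟨a, rfl⟩ := hC c
    exact ⟨Ideal.Quotient.mk _ a, hg_mk a⟩
  have hker : RingHom.ker (g : (A ⧸ I ^ 2) →+* C) ≤ I.cotangentIdeal := by
    intro x hx
    obtain ⟨a, rfl⟩ := Ideal.Quotient.mk_surjective x
    rw [Ideal.mk_mem_cotangentIdeal]
    exact hx
  have hnil : IsNilpotent (RingHom.ker (g : (A ⧸ I ^ 2) →+* C)) := by
    refine ⟨2, ?_⟩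
    rw [Ideal.zero_eq_bot, eq_bot_iff, ← Ideal.cotangentIdeal_square I]
    exact Ideal.pow_right_mono hker 2
  let φ : B →ₐ[A] (A ⧸ I ^ 2) :=
    Algebra.FormallySmooth.liftOfSurjective (Algebra.ofId B C |>.restrictScalars A) g hg hnil
  have hφ : ∀ b : B, g (φ b) = algebraMap B C b := fun b =>
    Algebra.FormallySmooth.liftOfSurjective_apply _ g hg hnil b
  have hφJ : ∀ x : J, φ x ∈ I.cotangentIdeal.restrictScalars A := by
    intro x
    apply hker
    rw [RingHom.mem_ker]
    change g (φ x) = 0
    rw [hφ]
    exact x.2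
  let f₀ : J →ₗ[A] I.cotangentIdeal :=
    LinearMap.codRestrict (I.cotangentIdeal.restrictScalars A)
      (φ.toLinearMap ∘ₗ (J.subtype.restrictScalars A)) hφJ
  let f : J →ₗ[A] I.Cotangent := (I.cotangentEquivIdeal.symm : _ →ₗ[A] _) ∘ₗ f₀
  have hf : ∀ x y : J, f (x * y) = 0 := by
    intro x y
    change I.cotangentEquivIdeal.symm (f₀ (x * y)) = 0
    rw [LinearEquiv.map_eq_zero_iff]
    apply Subtype.ext
    change φ ((x : B) * (y : B)) = 0
    rw [map_mul]
    have : φ x * φ y ∈ I.cotangentIdeal ^ 2 := by
      rw [pow_two I.cotangentIdeal]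
      exact Ideal.mul_mem_mul (hφJ x) (hφJ y)
    rw [Ideal.cotangentIdeal_square] at this
    exact this
  let r : J.Cotangent →ₗ[A] I.Cotangent := Ideal.Cotangent.lift f hf
  have hr : r ∘ₗ (Ideal.mapCotangent I J (Algebra.ofId A B) hIJ) = LinearMap.id := by
    apply LinearMap.ext
    intro z
    obtain ⟨i, rfl⟩ := Ideal.toCotangent_surjective _ z
    rw [LinearMap.comp_apply, Ideal.mapCotangent_toCotangent, LinearMap.id_apply]
    change I.cotangentEquivIdeal.symm (f₀ _) = _
    rw [LinearEquiv.symm_apply_eq]
    apply Subtype.ext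
    rw [Ideal.cotangentEquivIdeal_apply, Ideal.toCotangent_to_quotient_square]
    change φ (algebraMap A B i) = _
    rw [AlgHom.commutes]
    rfl
  have hinj : Function.Injective (Ideal.mapCotangent I J (Algebra.ofId A B) hIJ) := by
    intro x y hxy
    have := congrArg r hxy
    have hx := LinearMap.congr_fun hr x
    have hy := LinearMap.congr_fun hr y
    simp only [LinearMap.comp_apply, LinearMap.id_apply] at hx hy
    rw [← hx, ← hy]
    exact this
  refine ⟨hinj, ⟨r, hr⟩, ?_, ?_⟩
  · have hex := Groth.Agent.S9178.result A B C hC hIJ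
    ext y
    rw [LinearMap.mem_range, LinearMap.mem_ker]
    exact (hex y).symm
  · have hex := KaehlerDifferential.exact_kerCotangentToTensor_mapBaseChange A B C hc
    have hsub : Subsingleton (Ω[C⁄A]) := KaehlerDifferential.subsingleton_of_surjective A C hC
    intro t
    exact (hex t).mp (Subsingleton.elim _ _)

end Groth.Agent.S9450
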