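import Groth.Statements.S9468
import Mathlib

set_option autoImplicit false
universe u
open Hensel

namespace Groth.Agent.S9468

/-- Let R be a ring and p a prime of R. Consider pairs (S, q) with S an étale R-algebra and q a prime of
S lying over p such that κ(p) → κ(q) is bijective; a morphism of pairs is an R-algebra map pulling
the second prime back to the first. Then any two pairs admit morphisms of pairs to a common third
pair. -/
theorem result (R : Type u) [CommRing R]
    (p : Ideal R) [p.IsPrime] (S₁ : Type u) [CommRing S₁] [Algebra R S₁] [Algebra.Etale R S₁] (q₁ : Ideal S₁) [q₁.IsPrime] (hq₁ : p = q₁.comap (algebraMap R S₁))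
    (hq₁κ : Function.Bijective (Ideal.ResidueField.map p q₁ (algebraMap R S₁) hq₁))
    (S₂ : Type u) [CommRing S₂] [Algebra R S₂] [Algebra.Etale R S₂] (q₂ : Ideal S₂) [q₂.IsPrime] (hq₂ : p = q₂.comap (algebraMap R S₂))
    (hq₂κ : Function.Bijective (Ideal.ResidueField.map p q₂ (algebraMap R S₂) hq₂)) :
    ∃ (S₃ : Type u) (_ : CommRing S₃) (_ : Algebra R S₃) (_ : Algebra.Etale R S₃) (q₃ : Ideal S₃)
      (_ : q₃.IsPrime) (hq₃ : p = q₃.comap (algebraMap R S₃)),
      Function.Bijective (Ideal.ResidueField.map p q₃ (algebraMap R S₃) hq₃) ∧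
        ∃ (φ₁ : S₁ →ₐ[R] S₃) (φ₂ : S₂ →ₐ[R] S₃),
          q₃.comap φ₁.toRingHom = q₁ ∧ q₃.comap φ₂.toRingHom = q₂ := by
  classical
  let K := q₂.ResidueField
  let e₁ := Ideal.ResidueField.map p q₁ (algebraMap R S₁) hq₁
  let e₂ := Ideal.ResidueField.map p q₂ (algebraMap R S₂) hq₂
  let E₁ : p.ResidueField ≃+* q₁.ResidueField := RingEquiv.ofBijective e₁ hq₁κ
  let g₁' : S₁ →+* K := e₂.comp ((E₁.symm : q₁.ResidueField →+* p.ResidueField).comp
    (algebraMap S₁ q₁.ResidueField))
  have hg₁' : ∀ r : R, g₁' (algebraMap R S₁ r) = algebraMap R K r := by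
    intro r
    have h1 : algebraMap S₁ q₁.ResidueField (algebraMap R S₁ r) =
        E₁ (algebraMap R p.ResidueField r) :=
      (Ideal.ResidueField.map_algebraMap p q₁ (algebraMap R S₁) hq₁ r).symm
    simp only [g₁', RingHom.comp_apply]
    rw [h1]
    simp only [RingHom.coe_coe, RingEquiv.symm_apply_apply]
    rw [Ideal.ResidueField.map_algebraMap p q₂ (algebraMap R S₂) hq₂ r]
    exact (IsScalarTower.algebraMap_apply R S₂ K r).symm
  let g₁ : S₁ →ₐ[R] K := { g₁' with commutes' := hg₁' }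
  let g₂ : S₂ →ₐ[R] K := IsScalarTower.toAlgHom R S₂ K
  let θ : TensorProduct R S₁ S₂ →ₐ[R] K :=
    Algebra.TensorProduct.lift g₁ g₂ (fun _ _ => Commute.all _ _)
  let q₃ : Ideal (TensorProduct R S₁ S₂) := RingHom.ker θ.toRingHom
  haveI hq₃prime : q₃.IsPrime := RingHom.ker_isPrime θ.toRingHom
  have hker₁ : ∀ s : S₁, g₁ s = 0 ↔ s ∈ q₁ := by
    intro s
    change e₂ ((E₁.symm : q₁.ResidueField →+* p.ResidueField)
      (algebraMap S₁ q₁.ResidueField s)) = 0 ↔ _
    rw [map_eq_zero_iff e₂ e₂.injective]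
    simp only [RingHom.coe_coe]
    rw [map_eq_zero_iff _ E₁.symm.injective, Ideal.algebraMap_residueField_eq_zero]
  have hker₂ : ∀ s : S₂, g₂ s = 0 ↔ s ∈ q₂ := by
    intro s
    change algebraMap S₂ K s = 0 ↔ _
    rw [Ideal.algebraMap_residueField_eq_zero]
  have hc₁ : q₃.comap (Algebra.TensorProduct.includeLeft (R := R) (S := R) (A := S₁) (B := S₂)).toRingHom
      = q₁ := by
    ext s
    rw [← hker₁ s]
    simp only [Ideal.mem_comap, q₃, RingHom.mem_ker]
    have h1 : θ (Algebra.TensorProduct.includeLeft (R := R) (S := R) (A := S₁) (B := S₂) s) =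
        g₁ s := by
      simp [θ]
    exact Iff.of_eq (congrArg (· = 0) h1)
  have hc₂ : q₃.comap (Algebra.TensorProduct.includeRight (R := R) (A := S₁) (B := S₂)).toRingHom
      = q₂ := by
    ext s
    rw [← hker₂ s]
    simp only [Ideal.mem_comap, q₃, RingHom.mem_ker]
    have h1 : θ (Algebra.TensorProduct.includeRight (R := R) (A := S₁) (B := S₂) s) = g₂ s := by
      simp [θ]
    exact Iff.of_eq (congrArg (· = 0) h1)
  have hq₃ : p = q₃.comap (algebraMap R (TensorProduct R S₁ S₂)) := by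
    rw [hq₁, ← hc₁, Ideal.comap_comap]
    congr 1
  haveI : Algebra.Etale R (TensorProduct R S₁ S₂) := Algebra.Etale.comp R S₁ _
  refine ⟨TensorProduct R S₁ S₂, inferInstance, inferInstance, inferInstance, q₃, hq₃prime, hq₃,
    ?_, Algebra.TensorProduct.includeLeft (R := R) (S := R) (A := S₁) (B := S₂),
    Algebra.TensorProduct.includeRight (R := R) (A := S₁) (B := S₂), hc₁, hc₂⟩
  let m₃ := Ideal.ResidueField.map p q₃ (algebraMap R (TensorProduct R S₁ S₂)) hq₃
  have hunits : q₃.primeCompl ≤ (IsUnit.submonoid K).comap θ.toRingHom := by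
    intro x hx
    simp only [Submonoid.mem_comap, IsUnit.mem_submonoid_iff]
    exact isUnit_iff_ne_zero.mpr (fun h => hx h)
  let lam : q₃.ResidueField →+* K := Ideal.ResidueField.lift q₃ θ.toRingHom le_rfl hunits
  have hcomp : lam.comp m₃ = e₂ := by
    apply Ideal.ResidueField.ringHom_ext
    ext r
    simp only [RingHom.comp_apply]
    rw [Ideal.ResidueField.map_algebraMap, Ideal.ResidueField.lift_algebraMap,
      Ideal.ResidueField.map_algebraMap]
    rw [AlgHom.toRingHom_eq_coe, RingHom.coe_coe, θ.commutes]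
    exact IsScalarTower.algebraMap_apply R S₂ K r
  refine ⟨m₃.injective, fun z => ?_⟩
  obtain ⟨w, hw⟩ := hq₂κ.2 (lam z)
  refine ⟨w, lam.injective ?_⟩
  rw [← hw]
  exact congr($hcomp w)

end Groth.Agent.S9468
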