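import Groth.Statements.S9469
import Mathlib

set_option autoImplicit false
universe u
open Hensel

namespace Groth.Agent.S9469

lemma h5_span_fg {R S₁ S₂ : Type u} [CommRing R] [CommRing S₁] [Algebra R S₁] [CommRing S₂]
    [Algebra R S₂] [Algebra.FiniteType R S₁] (φ ψ : S₁ →ₐ[R] S₂) :
    (Ideal.span (Set.range fun s : S₁ => φ s - ψ s)).FG := by
  classical
  obtain ⟨t, ht⟩ := (Algebra.FiniteType.out : (⊤ : Subalgebra R S₁).FG)
  refine ⟨t.image (fun s => φ s - ψ s), ?_⟩
  apply le_antisymm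
  · apply Ideal.span_mono
    intro x hx
    rw [Finset.coe_image] at hx
    obtain ⟨s, -, rfl⟩ := hx
    exact ⟨s, rfl⟩
  · rw [Ideal.span_le]
    rintro _ ⟨s, rfl⟩
    have hs : s ∈ Algebra.adjoin R (t : Set S₁) := by rw [ht]; trivial
    change φ s - ψ s ∈ Ideal.span _
    induction hs using Algebra.adjoin_induction with
    | mem x hx =>
      apply Ideal.subset_span
      rw [Finset.coe_image]
      exact ⟨x, hx, rfl⟩
    | algebraMap r =>
      rw [φ.commutes, ψ.commutes, sub_self]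
      exact Ideal.zero_mem _
    | add x y _ _ hx hy =>
      have : φ (x + y) - ψ (x + y) = (φ x - ψ x) + (φ y - ψ y) := by
        rw [map_add, map_add]; ring
      rw [this]
      exact Ideal.add_mem _ hx hy
    | mul x y _ _ hx hy =>
      have : φ (x * y) - ψ (x * y) = φ x * (φ y - ψ y) + (φ x - ψ x) * ψ y := by
        rw [map_mul, map_mul]; ring
      rw [this]
      exact Ideal.add_mem _ (Ideal.mul_mem_left _ _ hy) (Ideal.mul_mem_right _ _ hx)

lemma h5_etale_quotient {R S₁ S₂ : Type u} [CommRing R] [CommRing S₁] [Algebra R S₁] [CommRing S₂]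
    [Algebra R S₂] [Algebra.Etale R S₁] [Algebra.Etale R S₂] (φ ψ : S₁ →ₐ[R] S₂) :
    Algebra.Etale R (S₂ ⧸ Ideal.span (Set.range fun s : S₁ => φ s - ψ s)) := by
  set J := Ideal.span (Set.range fun s : S₁ => φ s - ψ s) with hJ
  have hφψ : (Ideal.Quotient.mkₐ R J).comp φ = (Ideal.Quotient.mkₐ R J).comp ψ := by
    ext s
    simp only [AlgHom.comp_apply, Ideal.Quotient.mkₐ_eq_mk]
    rw [Ideal.Quotient.eq]
    exact Ideal.subset_span ⟨s, rfl⟩
  haveI : Algebra.FormallyUnramified R (S₂ ⧸ J) :=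
    Algebra.FormallyUnramified.of_surjective (Ideal.Quotient.mkₐ R J)
      (Ideal.Quotient.mkₐ_surjective R J)
  haveI : Algebra.FormallySmooth R (S₂ ⧸ J) := by
    apply Algebra.FormallySmooth.of_comp_surjective
    intro B _ _ I hI g
    obtain ⟨h, hh⟩ := Algebra.FormallySmooth.comp_surjective R S₂ I hI
      (g.comp (Ideal.Quotient.mkₐ R J))
    have h1 : h.comp φ = h.comp ψ := by
      apply Algebra.FormallyUnramified.comp_injective I hI
      rw [← AlgHom.comp_assoc, ← AlgHom.comp_assoc, hh, AlgHom.comp_assoc, AlgHom.comp_assoc, hφψ]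
    have hker : ∀ a ∈ J, h a = 0 := by
      intro a ha
      have : J ≤ RingHom.ker h.toRingHom := by
        rw [hJ, Ideal.span_le]
        rintro _ ⟨s, rfl⟩
        change h (φ s - ψ s) = 0
        rw [map_sub, sub_eq_zero]
        exact congr($h1 s)
      exact this ha
    refine ⟨Ideal.Quotient.liftₐ J h hker, ?_⟩
    ext x
    obtain ⟨x, rfl⟩ := Ideal.Quotient.mk_surjective x
    have := congr($hh x)
    simpa using this
  haveI : Algebra.FormallyEtale R (S₂ ⧸ J) :=
    Algebra.FormallyEtale.iff_formallyUnramified_and_formallySmooth.mpr ⟨inferInstance, inferInstance⟩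
  haveI : Algebra.FinitePresentation R (S₂ ⧸ J) :=
    Algebra.FinitePresentation.quotient (h5_span_fg φ ψ)
  exact {}

/-- Let R be a ring and p a prime of R. Consider pairs (S, q) with S an étale R-algebra and q a prime of
S lying over p such that κ(p) → κ(q) is bijective; a morphism of pairs is an R-algebra map pulling
the second prime back to the first. Then any two parallel morphisms of pairs φ, ψ : (S₁, q₁) → (S₂,
q₂) are coequalized by a morphism of pairs (S₂, q₂) → (S₃, q₃). -/
theorem result (R : Type u) [CommRing R]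
    (p : Ideal R) [p.IsPrime] (S₁ : Type u) [CommRing S₁] [Algebra R S₁] [Algebra.Etale R S₁] (q₁ : Ideal S₁) [q₁.IsPrime] (hq₁ : p = q₁.comap (algebraMap R S₁))
    (hq₁κ : Function.Bijective (Ideal.ResidueField.map p q₁ (algebraMap R S₁) hq₁))
    (S₂ : Type u) [CommRing S₂] [Algebra R S₂] [Algebra.Etale R S₂] (q₂ : Ideal S₂) [q₂.IsPrime] (hq₂ : p = q₂.comap (algebraMap R S₂))
    (hq₂κ : Function.Bijective (Ideal.ResidueField.map p q₂ (algebraMap R S₂) hq₂))
    (φ ψ : S₁ →ₐ[R] S₂) (hφ : q₂.comap φ.toRingHom = q₁) (hψ : q₂.comap ψ.toRingHom = q₁) :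
    ∃ (S₃ : Type u) (_ : CommRing S₃) (_ : Algebra R S₃) (_ : Algebra.Etale R S₃) (q₃ : Ideal S₃)
      (_ : q₃.IsPrime) (hq₃ : p = q₃.comap (algebraMap R S₃)),
      Function.Bijective (Ideal.ResidueField.map p q₃ (algebraMap R S₃) hq₃) ∧
        ∃ χ : S₂ →ₐ[R] S₃, q₃.comap χ.toRingHom = q₂ ∧ χ.comp φ = χ.comp ψ := by
  classical
  set J := Ideal.span (Set.range fun s : S₁ => φ s - ψ s) with hJ
  let e₁ := Ideal.ResidueField.map p q₁ (algebraMap R S₁) hq₁
  let aφ := Ideal.ResidueField.map q₁ q₂ φ.toRingHom hφ.symm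
  let aψ := Ideal.ResidueField.map q₁ q₂ ψ.toRingHom hψ.symm
  have h1 : aφ.comp e₁ = aψ.comp e₁ := by
    apply Ideal.ResidueField.ringHom_ext
    ext r
    simp only [RingHom.comp_apply, aφ, aψ, e₁]
    rw [Ideal.ResidueField.map_algebraMap, Ideal.ResidueField.map_algebraMap,
      Ideal.ResidueField.map_algebraMap]
    simp
  have h2 : aφ = aψ := by
    apply RingHom.ext
    intro z
    obtain ⟨w, rfl⟩ := hq₁κ.2 z
    exact congr($h1 w)
  have hJq : J ≤ q₂ := by
    rw [hJ, Ideal.span_le]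
    rintro _ ⟨s, rfl⟩
    change φ s - ψ s ∈ q₂
    rw [← Ideal.algebraMap_residueField_eq_zero, map_sub, sub_eq_zero]
    have h3 := congr($h2 (algebraMap S₁ q₁.ResidueField s))
    simp only [aφ, aψ] at h3
    rwa [Ideal.ResidueField.map_algebraMap, Ideal.ResidueField.map_algebraMap] at h3
  haveI := h5_etale_quotient φ ψ
  let χ : S₂ →ₐ[R] S₂ ⧸ J := Ideal.Quotient.mkₐ R J
  let q₃ : Ideal (S₂ ⧸ J) := q₂.map (Ideal.Quotient.mk J)
  have hcomap : q₃.comap (Ideal.Quotient.mk J) = q₂ := by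
    rw [Ideal.comap_map_of_surjective _ Ideal.Quotient.mk_surjective, ← RingHom.ker_eq_comap_bot,
      Ideal.mk_ker, sup_eq_left.mpr hJq]
  haveI : q₃.IsPrime := Ideal.map_isPrime_of_surjective Ideal.Quotient.mk_surjective
    (by rw [Ideal.mk_ker]; exact hJq)
  have hq₃ : p = q₃.comap (algebraMap R (S₂ ⧸ J)) := by
    rw [hq₂, ← hcomap, Ideal.comap_comap]
    rfl
  refine ⟨S₂ ⧸ J, inferInstance, inferInstance, inferInstance, q₃, inferInstance, hq₃, ?_, χ,
    hcomap, ?_⟩
  · let m := Ideal.ResidueField.map q₂ q₃ (Ideal.Quotient.mk J) hcomap.symm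
    have hm : Function.Bijective m :=
      (RingHom.surjectiveOnStalks_of_surjective
        Ideal.Quotient.mk_surjective).residueFieldMap_bijective q₂ q₃ hcomap.symm
    have hcomp : Ideal.ResidueField.map p q₃ (algebraMap R (S₂ ⧸ J)) hq₃ =
        m.comp (Ideal.ResidueField.map p q₂ (algebraMap R S₂) hq₂) := by
      apply Ideal.ResidueField.ringHom_ext
      ext r
      simp only [RingHom.comp_apply, m]
      rw [Ideal.ResidueField.map_algebraMap, Ideal.ResidueField.map_algebraMap,
        Ideal.ResidueField.map_algebraMap]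
      rfl
    rw [hcomp]
    exact hm.comp hq₂κ
  · ext s
    simp only [AlgHom.comp_apply, χ, Ideal.Quotient.mkₐ_eq_mk]
    rw [Ideal.Quotient.eq]
    exact Ideal.subset_span ⟨s, rfl⟩

end Groth.Agent.S9469
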