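import Groth.Statements.S9495
import Mathlib

set_option autoImplicit false
universe u
open SchMor

namespace Groth.Agent.S9495

open AlgebraicGeometry in
open CategoryTheory in
/-- For a quasi-compact morphism of schemes f : X → S, the image f(X) is closed in S if and only if it
is stable under specialization. -/
theorem result
    {X S : Scheme.{u}} (f : X ⟶ S) [QuasiCompact f] :
    IsClosed (Set.range f) ↔ StableUnderSpecialization (Set.range f) := by
  refine ⟨fun h => h.stableUnderSpecialization, fun H => ?_⟩
  have key : ∀ (A : CommRingCat.{u}) (g : Spec A ⟶ S), IsClosed (g ⁻¹' Set.range f) := by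
    intro A g
    have hqc : QuasiCompact (Limits.pullback.snd f g) := MorphismProperty.pullback_snd _ _ ‹_›
    obtain ⟨R, h, hh⟩ := compactSpace_iff_exists.mp
      (QuasiCompact.compactSpace_of_compactSpace (Limits.pullback.snd f g))
    have hrange : Set.range (h ≫ Limits.pullback.snd f g) = g ⁻¹' Set.range f := by
      rw [Scheme.Hom.comp_base, TopCat.coe_comp, Set.range_comp, hh.range_eq, Set.image_univ,
        Scheme.Pullback.range_snd]
    have hst : StableUnderSpecialization (g ⁻¹' Set.range f) := H.preimage g.continuous
    rw [← hrange] at hst ⊢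
    obtain ⟨φ, hφ⟩ := Spec.homEquiv.symm.surjective (h ≫ Limits.pullback.snd f g)
    rw [← hφ] at hst ⊢
    exact PrimeSpectrum.isClosed_range_of_stableUnderSpecialization φ.hom hst
  rw [← closure_subset_iff_isClosed]
  intro y hy
  obtain ⟨y', hy'⟩ := S.affineCover.covers y
  have hcl := key _ (S.affineCover.f (S.affineCover.idx y))
  have : y' ∈ (S.affineCover.f (S.affineCover.idx y)) ⁻¹' closure (Set.range f) := by
    rw [Set.mem_preimage, hy']; exact hy
  rw [(S.affineCover.f (S.affineCover.idx y)).isOpenEmbedding.isOpenMap.preimage_closure_eq_closure_preimage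
    (S.affineCover.f (S.affineCover.idx y)).continuous] at this
  rw [← hy']
  exact hcl.closure_subset this

end Groth.Agent.S9495
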