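import Groth.Statements.S9498
import Mathlib

set_option autoImplicit false
universe u
open AffSch

namespace Groth.Agent.S9498

open AlgebraicGeometry CategoryTheory Limits TopologicalSpace Opposite

theorem mk_eq_zero_iff' {R : Type u} [CommRing R] {M : Type u} [AddCommGroup M] [Module R M]
    (S : Submonoid R) (m : M) (s : S) :
    LocalizedModule.mk m s = 0 ↔ ∃ c : S, c • m = 0 := by
  rw [← LocalizedModule.zero_mk (1 : S), LocalizedModule.mk_eq]
  constructor
  · rintro ⟨u, hu⟩
    refine ⟨u, ?_⟩
    simpa using hu
  · rintro ⟨c, hc⟩
    exact ⟨c, by simp [hc]⟩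

theorem comapFun_injective {R : Type u} [CommRing R] {M N : Type u} [AddCommGroup M] [Module R M]
    [AddCommGroup N] [Module R N] (f : M →ₗ[R] N) (hf : Function.Injective f)
    (y : PrimeSpectrum.Top R) :
    Function.Injective (StructureSheaf.Localizations.comapFun (σ := RingHom.id R) f y) := by
  rw [injective_iff_map_eq_zero]
  intro a ha
  induction a using LocalizedModule.induction_on with | h m s =>
  rw [StructureSheaf.Localizations.comapFun_mk] at ha
  rw [mk_eq_zero_iff'] at ha ⊢
  obtain ⟨c, hc⟩ := ha
  refine ⟨c, hf ?_⟩
  rw [map_zero, ← hc]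
  exact (map_smul f _ _)

theorem comapₗ_injective {R : Type u} [CommRing R] {M N : Type u} [AddCommGroup M] [Module R M]
    [AddCommGroup N] [Module R N] (f : M →ₗ[R] N) (hf : Function.Injective f)
    (U : Opens (PrimeSpectrum.Top R)) (h : U.1 ⊆ PrimeSpectrum.comap (RingHom.id R) ⁻¹' U.1) :
    Function.Injective (StructureSheaf.comapₗ (σ := RingHom.id R) f U U h) := by
  intro s t hst
  apply Subtype.ext
  funext y
  have h1 := congrArg (fun z => z.1 y) hst
  simp only [StructureSheaf.comapₗ] at h1
  exact comapFun_injective f hf y.1 h1

theorem tilde_map_mono {R : CommRingCat.{u}} {M N : ModuleCat.{u} R} (f : M ⟶ N) [Mono f] :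
    Mono (tilde.map f) := by
  have hf : Function.Injective f.hom := (ModuleCat.mono_iff_injective f).mp inferInstance
  apply (modulesSpecToSheaf (R := R)).mono_of_mono_map
  let mid : structurePresheafInModuleCat R M ⟶ structurePresheafInModuleCat R N :=
    { app U := ModuleCat.ofHom (StructureSheaf.comapₗ f.hom _ _ .rfl) }
  have hmid : Mono mid := by
    apply (config := {allowSynthFailures := true}) NatTrans.mono_of_mono_app
    intro U
    rw [ModuleCat.mono_iff_injective]
    exact comapₗ_injective f.hom hf _ _
  have : Mono (modulesSpecToSheaf.map (tilde.map f)).1 := by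
    show Mono ((tilde.modulesSpecToSheafIso M).hom ≫ mid ≫ (tilde.modulesSpecToSheafIso N).inv)
    exact mono_comp' inferInstance (mono_comp' hmid inferInstance)
  exact Sheaf.Hom.mono_of_presheaf_mono _ _ _


open AlgebraicGeometry in
open CategoryTheory Limits in
/-- For a commutative ring A, the functor M ↦ M~ from the category of A-modules to the category of
O-modules on Spec A is exact, i.e. it preserves finite limits and finite colimits. -/
theorem result
    (A : Type u) [CommRing A] :
    PreservesFiniteLimits (tilde.functor (CommRingCat.of A)) ∧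
      PreservesFiniteColimits (tilde.functor (CommRingCat.of A)) := by
  have key : ∀ R : CommRingCat.{u}, PreservesFiniteLimits (tilde.functor R) ∧
      PreservesFiniteColimits (tilde.functor R) := by
    intro R
    have hcolim : PreservesFiniteColimits (tilde.functor R) := inferInstance
    refine ⟨?_, hcolim⟩
    rw [Functor.preservesFiniteLimits_iff_forall_exact_map_and_mono]
    intro S hS
    have h := (Functor.preservesFiniteColimits_iff_forall_exact_map_and_epi
      (tilde.functor R)).mp hcolim S hS
    refine ⟨h.1, ?_⟩
    have := hS.mono_f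
    exact tilde_map_mono S.f
  exact key (CommRingCat.of A)

end Groth.Agent.S9498
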