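import Groth.Statements.S9496
import Mathlib
import Groth.Agent.S9498

set_option autoImplicit false
universe u
open AffSch

namespace Groth.Agent.S9496

open AlgebraicGeometry in
open CategoryTheory Limits in
/-- Let X = Spec A be an affine scheme and φ : M → N a morphism of quasi-coherent O_X-modules. Then the
kernel and the cokernel of φ, computed in the category of all O_X-modules, are quasi-coherent. -/
theorem result
    (A : Type u) [CommRing A] {M N : (Spec (CommRingCat.of A)).Modules}
    [Coh.IsQCoh M] [Coh.IsQCoh N] (φ : M ⟶ N) :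
    Coh.IsQCoh (kernel φ) ∧ Coh.IsQCoh (cokernel φ) := by
  have key : ∀ (R : CommRingCat.{u}) {M N : (Spec R).Modules} (hMq : Coh.IsQCoh M)
      (hNq : Coh.IsQCoh N) (φ : M ⟶ N), Coh.IsQCoh (kernel φ) ∧ Coh.IsQCoh (cokernel φ) := by
    intro R M N hMq hNq φ
    obtain ⟨hlim, hcolim⟩ :
        PreservesFiniteLimits (tilde.functor R) ∧ PreservesFiniteColimits (tilde.functor R) :=
      Groth.Agent.S9498.result (↑R)
    have hM : (tilde.functor R).essImage M := by
      rw [essImage_tilde]; exact hMq
    have hN : (tilde.functor R).essImage N := by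
      rw [essImage_tilde]; exact hNq
    obtain ⟨M₀, ⟨eM⟩⟩ := hM
    obtain ⟨N₀, ⟨eN⟩⟩ := hN
    let f : M₀ ⟶ N₀ := (tilde.functor R).preimage (eM.hom ≫ φ ≫ eN.inv)
    have hf : (tilde.functor R).map f = eM.hom ≫ φ ≫ eN.inv :=
      Functor.map_preimage _ _
    constructor
    · have e1 : kernel φ ≅ kernel ((tilde.functor R).map f) :=
        kernel.mapIso φ _ eM.symm eN.symm (by rw [hf]; simp)
      have e2 : (tilde.functor R).obj (kernel f) ≅ kernel ((tilde.functor R).map f) :=
        PreservesKernel.iso (tilde.functor R) f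
      have : (tilde.functor R).essImage (kernel φ) := ⟨kernel f, ⟨e2 ≪≫ e1.symm⟩⟩
      rw [essImage_tilde] at this
      exact this
    · have e1 : cokernel φ ≅ cokernel ((tilde.functor R).map f) :=
        cokernel.mapIso φ _ eM.symm eN.symm (by rw [hf]; simp)
      have e2 : (tilde.functor R).obj (cokernel f) ≅ cokernel ((tilde.functor R).map f) :=
        PreservesCokernel.iso (tilde.functor R) f
      have : (tilde.functor R).essImage (cokernel φ) := ⟨cokernel f, ⟨e2 ≪≫ e1.symm⟩⟩
      rw [essImage_tilde] at this
      exact this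
  exact key (CommRingCat.of A) ‹_› ‹_› φ

end Groth.Agent.S9496
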