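import Groth.Statements.S9499
import Mathlib

set_option autoImplicit false
universe u
open SchMor

namespace Groth.Agent.S9499

open AlgebraicGeometry in
open CategoryTheory Limits in
theorem epi_field_bij {K : Type u} [Field K] {A : CommRingCat.{u}} [Nontrivial A]
    (φ : CommRingCat.of K ⟶ A) [Epi φ] : Function.Bijective φ.hom := by
  letI := φ.hom.toAlgebra
  have h1 : Epi (CommRingCat.ofHom (algebraMap K A)) := by
    have : CommRingCat.ofHom (algebraMap K A) = φ := rfl
    rw [this]; infer_instance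
  have h2 : Algebra.IsEpi K A := CommRingCat.epi_iff_epi.mp h1
  have hinj : Function.Injective (algebraMap K A) := (algebraMap K A).injective
  refine ⟨hinj, fun a => ?_⟩
  obtain ⟨ψ, hψ⟩ := LinearMap.exists_leftInverse_of_injective (Algebra.linearMap K A)
    (LinearMap.ker_eq_bot.mpr hinj)
  have h3 := (Algebra.isEpi_iff_forall_one_tmul_eq K A).mp h2 a
  have h4 := congrArg (TensorProduct.lift ((LinearMap.lsmul K A).comp ψ)) h3
  simp only [TensorProduct.lift.tmul, LinearMap.comp_apply, LinearMap.lsmul_apply] at h4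
  have h5 : ψ 1 = 1 := by
    have := LinearMap.congr_fun hψ 1
    simpa using this
  rw [h5, one_smul] at h4
  refine ⟨ψ a, ?_⟩
  show algebraMap K A (ψ a) = a
  rw [Algebra.algebraMap_eq_smul_one]; exact h4.symm

open AlgebraicGeometry in
open CategoryTheory Limits in
theorem isIso_of_mono_field {K : Type u} [Field K] {Z : Scheme.{u}}
    (g : Z ⟶ Spec (CommRingCat.of K)) [Mono g] [Nonempty Z] : IsIso g := by
  have hinj : Function.Injective g := g.injective
  have hsub : Subsingleton Z := ⟨fun a b => hinj (Subsingleton.elim _ _)⟩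
  obtain ⟨z⟩ := ‹Nonempty Z›
  obtain ⟨W, hW, hzW, -⟩ := exists_isAffineOpen_mem_and_subset (x := z) (U := (⊤ : Z.Opens)) trivial
  have hWtop : W = ⊤ := by
    ext y
    simp only [TopologicalSpace.Opens.coe_top, Set.mem_univ, iff_true]
    rw [Subsingleton.elim y z]; exact hzW
  subst hWtop
  haveI : IsAffine ↑(⊤ : Z.Opens) := hW
  haveI : IsAffine Z := IsAffine.of_isIso (Scheme.topIso Z).inv
  haveI : Nonempty (⊤ : Z.Opens) := ⟨⟨z, trivial⟩⟩
  haveI : Nontrivial Γ(Z, ⊤) := Scheme.component_nontrivial Z ⊤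
  have hmono : Mono (Spec.map g.appTop) :=
    ((MorphismProperty.monomorphisms Scheme).arrow_mk_iso_iff (arrowIsoSpecΓOfIsAffine g)).mp
      (MorphismProperty.monomorphisms.infer_property g)
  haveI hepi : Epi g.appTop := ⟨fun α β h => Spec.map_injective (by
    rw [← cancel_mono (Spec.map g.appTop), ← Spec.map_comp, ← Spec.map_comp, h])⟩
  let φ : CommRingCat.of K ⟶ Γ(Z, ⊤) := (Scheme.ΓSpecIso (CommRingCat.of K)).inv ≫ g.appTop
  haveI : Epi φ := epi_comp _ _
  have hb := epi_field_bij φ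
  haveI : IsIso φ := (ConcreteCategory.isIso_iff_bijective φ).mpr hb
  have hφ : g.appTop = (Scheme.ΓSpecIso (CommRingCat.of K)).hom ≫ φ := by simp [φ]
  have h3 : IsIso g.appTop := by rw [hφ]; infer_instance
  have := (HasAffineProperty.iff_of_isAffine (P := MorphismProperty.isomorphisms Scheme)
    (f := g)).mpr ⟨inferInstance, h3⟩
  exact this


open AlgebraicGeometry in
open CategoryTheory Limits in
theorem sigma_case
    {ι : Type u} (k : ι → Type u) [∀ i, Field (k i)]
    {Y : Scheme.{u}} (f : Y ⟶ ∐ fun i => Spec (CommRingCat.of (k i))) [Mono f] :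
    ∃ (J : Set ι) (e : Y ≅ ∐ fun j : J => Spec (CommRingCat.of (k j.1))),
      e.hom ≫ Sigma.desc (fun j : J => Sigma.ι (fun i => Spec (CommRingCat.of (k i))) j.1) = f := by
  classical
  let g : ι → Scheme.{u} := fun i => Spec (CommRingCat.of (k i))
  let J : Set ι := {i | Nonempty ↥(pullback f (Sigma.ι g i))}
  have hiso : ∀ j : J, IsIso (pullback.snd f (Sigma.ι g j.1)) := fun j => by
    haveI : Nonempty ↥(pullback f (Sigma.ι g j.1)) := j.2
    exact isIso_of_mono_field (K := k j.1) (pullback.snd f (Sigma.ι g j.1))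
  let hc : ∀ j : J, g j.1 ⟶ Y := fun j =>
    haveI := hiso j
    inv (pullback.snd f (Sigma.ι g j.1)) ≫ pullback.fst f (Sigma.ι g j.1)
  have hcf : ∀ j : J, hc j ≫ f = Sigma.ι g j.1 := fun j => by
    haveI := hiso j
    simp only [hc, Category.assoc, pullback.condition, IsIso.inv_hom_id_assoc]
  have hoi : ∀ j : J, IsOpenImmersion (hc j) := fun j => by
    haveI := hiso j
    dsimp only [hc]; infer_instance
  let h : (∐ fun j : J => g j.1) ⟶ Y := Sigma.desc hc
  have hdisj : Pairwise (Function.onFun Disjoint (fun j : J => Set.range (hc j))) := by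
    intro j j' hjj'
    rw [Function.onFun, Set.disjoint_left]
    rintro y ⟨a, ha⟩ ⟨b, hb⟩
    have e1 : Sigma.ι g j.1 a = f y := by rw [← hcf j, Scheme.Hom.comp_apply, ha]
    have e2 : Sigma.ι g j'.1 b = f y := by rw [← hcf j', Scheme.Hom.comp_apply, hb]
    have h1 := e1.trans e2.symm
    have h2 := (sigmaι_eq_iff g _ _ _ _).mp h1
    exact hjj' (Subtype.ext (congrArg Sigma.fst h2))
  haveI : IsOpenImmersion h := isOpenImmersion_sigmaDesc (fun j : J => g j.1) hc hdisj
  have hsurj : Function.Surjective h := by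
    intro y
    obtain ⟨⟨i, a⟩, hia⟩ := (sigmaMk g).surjective (f y)
    rw [sigmaMk_mk] at hia
    obtain ⟨p, hp1, hp2⟩ := Scheme.Pullback.exists_preimage_pullback (f := f)
      (g := Sigma.ι g i) y a hia.symm
    have hi : i ∈ J := ⟨p⟩
    haveI := hiso ⟨i, hi⟩
    refine ⟨Sigma.ι (fun j : J => g j.1) ⟨i, hi⟩ (pullback.snd f (Sigma.ι g i) p), ?_⟩
    rw [← Scheme.Hom.comp_apply, Sigma.ι_desc]
    show (inv (pullback.snd f (Sigma.ι g i)) ≫ pullback.fst f (Sigma.ι g i)) _ = y
    rw [← Scheme.Hom.comp_apply, IsIso.hom_inv_id_assoc, hp1]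
  haveI : IsIso h := (isIso_iff_isOpenImmersion_and_surjective h).mpr ⟨inferInstance, ⟨hsurj⟩⟩
  refine ⟨J, (asIso h).symm, ?_⟩
  have hd : h ≫ f = Sigma.desc (fun j : J => Sigma.ι g j.1) := by
    apply Sigma.hom_ext
    intro j
    simp only [h, Sigma.ι_desc_assoc, Sigma.ι_desc, hcf]
  show inv h ≫ _ = f
  rw [← hd, IsIso.inv_hom_id_assoc]


open AlgebraicGeometry in
open CategoryTheory in
/-- Let (k_i) be a finite family of fields and f : X → Spec(∏_i k_i) a monomorphism of schemes. Then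
there are a subset I of the index set and an isomorphism X ≅ Spec(∏_{i∈I} k_i) over Spec(∏_i k_i),
where Spec(∏_{i∈I} k_i) maps to Spec(∏_i k_i) through the projection ring homomorphism ∏_i k_i →
∏_{i∈I} k_i. -/
theorem result
    {ι : Type u} [Finite ι] (k : ι → Type u) [∀ i, Field (k i)]
    {X : Scheme.{u}} (f : X ⟶ Spec (CommRingCat.of (Π i, k i))) [Mono f] :
    ∃ (I : Set ι) (e : X ≅ Spec (CommRingCat.of (Π i : I, k i))),
      e.hom ≫ Spec.map (CommRingCat.ofHom (Pi.ringHom fun i : I => Pi.evalRingHom k i.1)) = f := by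
  let R : ι → CommRingCat.{u} := fun i => CommRingCat.of (k i)
  let σ : (∐ fun i => Spec (R i)) ⟶ Spec (CommRingCat.of (Π i, k i)) := sigmaSpec R
  haveI : IsIso σ := inferInstanceAs (IsIso (sigmaSpec R))
  let f' : X ⟶ ∐ fun i => Spec (CommRingCat.of (k i)) := f ≫ inv σ
  haveI : Mono f' := mono_comp _ _
  obtain ⟨J, e', he'⟩ := sigma_case k f'
  let RJ : J → CommRingCat.{u} := fun j => CommRingCat.of (k j.1)
  let σJ : (∐ fun j : J => Spec (RJ j)) ⟶ Spec (CommRingCat.of (Π j : J, k j.1)) := sigmaSpec RJ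
  haveI : IsIso σJ := inferInstanceAs (IsIso (sigmaSpec RJ))
  refine ⟨J, e' ≪≫ asIso σJ, ?_⟩
  have key : σJ ≫ Spec.map (CommRingCat.ofHom (Pi.ringHom fun i : J => Pi.evalRingHom k i.1))
      = Limits.Sigma.desc (fun j : J => Limits.Sigma.ι (fun i => Spec (CommRingCat.of (k i))) j.1) ≫ σ := by
    apply Limits.Sigma.hom_ext
    intro j
    have e1 : Limits.Sigma.ι (fun j : J => Spec (RJ j)) j ≫ σJ
        = Spec.map (CommRingCat.ofHom (Pi.evalRingHom _ j)) := ι_sigmaSpec RJ j
    have e2 : Limits.Sigma.ι (fun i => Spec (R i)) j.1 ≫ σ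
        = Spec.map (CommRingCat.ofHom (Pi.evalRingHom _ j.1)) := ι_sigmaSpec R j.1
    rw [← Category.assoc, e1, ← Category.assoc, Limits.Sigma.ι_desc]
    erw [e2]
    rw [← Spec.map_comp]
    rfl
  show (e'.hom ≫ σJ) ≫ _ = f
  rw [Category.assoc, key, ← Category.assoc, he']
  simp [f']

end Groth.Agent.S9499
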