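import Groth.Statements.S9508
import Groth.Agent.Lib.helper5.QSep
import Mathlib

set_option autoImplicit false
universe u
open SchMor

namespace Groth.Agent.S9508

open AlgebraicGeometry in
open CategoryTheory in
theorem result
    {X S : Scheme.{u}} (f : X ⟶ S) :
    QuasiSeparated f ↔
      ∀ (U V : X.affineOpens) (W : S.affineOpens),
        (U : X.Opens) ≤ f ⁻¹ᵁ (W : S.Opens) → (V : X.Opens) ≤ f ⁻¹ᵁ (W : S.Opens) →
          IsCompact ((U : Set X) ∩ (V : Set X)) := by
  constructor
  · intro h U V W hU hV
    have := f.isQuasiSeparated_preimage W.2.isQuasiSeparated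
    exact this _ _ hU U.1.2 U.2.isCompact hV V.1.2 V.2.isCompact
  · intro H
    apply Groth.Agent.Lib.helper5.h5_quasiSeparated_of_iSup_eq_top f (fun W : S.affineOpens => W)
      (iSup_affineOpens_eq_top S)
    intro W
    apply Groth.Agent.Lib.helper5.h5_isQuasiSeparated_of_affine_inter
    intro U V hU hV
    exact H U V W hU hV

end Groth.Agent.S9508
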