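import Groth.Statements.S9512
import Mathlib

set_option autoImplicit false
universe u
open LRSImm

namespace Groth.Agent.S9512

open AlgebraicGeometry in
open CategoryTheory Opposite in
theorem result
    (X : LocallyRingedSpace.{u}) (R : CommRingCat.{u})
    (f : X ⟶ (Spec R).toLocallyRingedSpace) (x : X.toTopCat) :
    f.base x = PrimeSpectrum.comap
      ((Scheme.ΓSpecIso R).inv ≫ f.c.app (op ⊤) ≫ X.presheaf.germ ⊤ x trivial).hom
      (IsLocalRing.closedPoint (X.presheaf.stalk x)) := by
  let e := ΓSpec.locallyRingedSpaceAdjunction.homEquiv X (op R)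
  have hf : f = e (e.symm f) := (e.apply_symm_apply f).symm
  have hα : (e.symm f).unop = (Scheme.ΓSpecIso R).inv ≫ f.c.app (op ⊤) := by
    rw [Adjunction.homEquiv_counit]
    rfl
  have h2 : e (e.symm f) = X.toΓSpec ≫ Spec.locallyRingedSpaceMap (e.symm f).unop := rfl
  rw [hα] at h2
  have h3 := congrArg (fun g : X ⟶ Spec.toLocallyRingedSpace.obj (op R) => g.base x) (hf.trans h2)
  refine h3.trans ?_
  rfl

end Groth.Agent.S9512
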