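import Groth.Statements.S9563
import Mathlib

set_option autoImplicit false
universe u
open EtLocal

namespace Groth.Agent.S9563

/-- Let A → B be an étale homomorphism of Noetherian local rings, i.e. a local homomorphism with B
essentially of finite type and flat over A, m_A B = m_B, and residue field of B finite separable
over that of A. Then there are a standard étale A-algebra B' = A[t]_g/(f) (f monic and f' invertible
in B') and a prime 𝔮 of B' such that B is isomorphic as an A-algebra to the localization of B' at 𝔮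
(existence of an isomorphism). -/
theorem result (A B : Type u) [CommRing A] [CommRing B]
    [IsLocalRing A] [IsLocalRing B] [IsNoetherianRing A] [IsNoetherianRing B] [Algebra A B]
    [IsLocalHom (algebraMap A B)] [Algebra.EssFiniteType A B] [Module.Flat A B]
    (hm : (IsLocalRing.maximalIdeal A).map (algebraMap A B) = IsLocalRing.maximalIdeal B)
    [Module.Finite (IsLocalRing.ResidueField A) (IsLocalRing.ResidueField B)]
    [Algebra.IsSeparable (IsLocalRing.ResidueField A) (IsLocalRing.ResidueField B)] :
    ∃ (P : StandardEtalePair A) (𝔮 : Ideal P.Ring) (_ : 𝔮.IsPrime),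
      Nonempty (B ≃ₐ[A] Localization.AtPrime 𝔮) := by
  classical
  haveI hunr : Algebra.FormallyUnramified A B :=
    Algebra.FormallyUnramified.of_map_maximalIdeal hm
  let S₀ : Subalgebra A B := Algebra.EssFiniteType.subalgebra A B
  let M : Submonoid S₀ := Algebra.EssFiniteType.submonoid A B
  haveI hloc : IsLocalization M B := Algebra.EssFiniteType.isLocalization A B
  haveI hfp : Algebra.FinitePresentation A S₀ :=
    Algebra.FinitePresentation.of_finiteType.mp inferInstance
  -- formal smoothness from the fibre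
  haveI hsm : Algebra.FormallySmooth A B := by
    haveI : Algebra.FormallyUnramified (IsLocalRing.ResidueField A)
        (TensorProduct A (IsLocalRing.ResidueField A) B) := inferInstance
    haveI : Algebra.EssFiniteType (IsLocalRing.ResidueField A)
        (TensorProduct A (IsLocalRing.ResidueField A) B) := inferInstance
    haveI : Algebra.FormallyEtale (IsLocalRing.ResidueField A)
        (TensorProduct A (IsLocalRing.ResidueField A) B) :=
      Algebra.FormallyEtale.of_formallyUnramified_of_field _ _
    haveI : Algebra.FormallySmooth (IsLocalRing.ResidueField A)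
        (TensorProduct A (IsLocalRing.ResidueField A) B) := inferInstance
    exact Algebra.FormallySmooth.of_formallySmooth_residueField_tensor (R := A) (S := B) (P := S₀) M
  haveI het : Algebra.FormallyEtale A B :=
    Algebra.FormallyEtale.iff_formallyUnramified_and_formallySmooth.mpr ⟨hunr, hsm⟩
  let Q : Ideal S₀ := (IsLocalRing.maximalIdeal B).comap (algebraMap S₀ B)
  haveI hQ : Q.IsPrime := Ideal.comap_isPrime _ _
  have hM : M = Q.primeCompl := by
    ext x
    change IsUnit (algebraMap S₀ B x) ↔ ¬ (algebraMap S₀ B x ∈ IsLocalRing.maximalIdeal B)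
    rw [IsLocalRing.mem_maximalIdeal, mem_nonunits_iff, not_not]
  haveI hlocQ : IsLocalization Q.primeCompl B := hM ▸ hloc
  haveI : Algebra.IsEtaleAt A Q :=
    Algebra.FormallyEtale.of_equiv
      ((IsLocalization.algEquiv Q.primeCompl B (Localization.AtPrime Q)).restrictScalars A)
  obtain ⟨f, hfQ, hstd⟩ := Algebra.IsEtaleAt.exists_isStandardEtale (R := A) Q
  let Pr : StandardEtalePresentation A (Localization.Away f) := hstd.1.some
  let φ : Pr.P.Ring →ₐ[A] Localization.Away f := Pr.equivRing.symm.toAlgHom
  have hφ : Function.Surjective φ := Pr.equivRing.symm.surjective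
  have hφi : Function.Injective φ := Pr.equivRing.symm.injective
  have hfu : ∀ y : Submonoid.powers f, IsUnit (S₀.val y) := by
    rintro ⟨_, n, rfl⟩
    have : IsUnit (algebraMap S₀ B f) := by
      have : f ∈ M := by rw [hM]; exact hfQ
      exact this
    simpa using this.pow n
  let g : Localization.Away f →ₐ[A] B := IsLocalization.liftAlgHom (M := Submonoid.powers f) hfu
  have hg : ∀ s : S₀, g (algebraMap S₀ (Localization.Away f) s) = (s : B) := fun s =>
    IsLocalization.lift_eq _ s
  -- kernel-type property of g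
  have hgker : ∀ u v : Localization.Away f, g u = g v →
      ∃ t : M, algebraMap S₀ (Localization.Away f) t * u =
        algebraMap S₀ (Localization.Away f) t * v := by
    intro u v huv
    obtain ⟨s₁, d₁, rfl⟩ := IsLocalization.exists_mk'_eq (Submonoid.powers f) u
    obtain ⟨s₂, d₂, rfl⟩ := IsLocalization.exists_mk'_eq (Submonoid.powers f) v
    have h1 : (S₀.val s₁ : B) = S₀.val d₁ * g (IsLocalization.mk' _ s₁ d₁) :=
      (IsLocalization.lift_mk'_spec (hg := hfu) s₁ _ d₁).mp rfl
    have h2 : (S₀.val s₂ : B) = S₀.val d₂ * g (IsLocalization.mk' _ s₂ d₂) :=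
      (IsLocalization.lift_mk'_spec (hg := hfu) s₂ _ d₂).mp rfl
    have h3 : algebraMap S₀ B ((d₂ : S₀) * s₁) = algebraMap S₀ B ((d₁ : S₀) * s₂) := by
      change S₀.val _ = S₀.val _
      rw [map_mul, map_mul, h1, h2, huv]
      ring
    obtain ⟨t, ht⟩ := (IsLocalization.eq_iff_exists M B).mp h3
    refine ⟨t, ?_⟩
    rw [IsLocalization.mul_mk'_eq_mk'_of_mul, IsLocalization.mul_mk'_eq_mk'_of_mul]
    apply IsLocalization.mk'_eq_of_eq
    calc (d₁ : S₀) * ((t : S₀) * s₂) = t * (d₁ * s₂) := by ring
      _ = t * (d₂ * s₁) := ht.symm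
      _ = (d₂ : S₀) * ((t : S₀) * s₁) := by ring
  let ψ : Pr.P.Ring →ₐ[A] B := g.comp φ
  let 𝔮 : Ideal Pr.P.Ring := (IsLocalRing.maximalIdeal B).comap ψ
  haveI h𝔮 : 𝔮.IsPrime := Ideal.comap_isPrime _ _
  have hψu : ∀ y : 𝔮.primeCompl, IsUnit (ψ y) := by
    rintro ⟨y, hy⟩
    have : ¬ (ψ y ∈ IsLocalRing.maximalIdeal B) := hy
    rwa [IsLocalRing.mem_maximalIdeal, mem_nonunits_iff, not_not] at this
  let ψ' : Localization.AtPrime 𝔮 →ₐ[A] B := IsLocalization.liftAlgHom (M := 𝔮.primeCompl) hψu
  have hmem : ∀ (c : Pr.P.Ring) (t : M), φ c = algebraMap S₀ (Localization.Away f) t →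
      c ∈ 𝔮.primeCompl := by
    intro c t hc
    have hψc : ψ c = ((t : S₀) : B) := by
      change g (φ c) = _
      rw [hc, hg]
    change ¬ (ψ c ∈ IsLocalRing.maximalIdeal B)
    rw [hψc, IsLocalRing.mem_maximalIdeal, mem_nonunits_iff, not_not]
    exact t.2
  have hsurj : Function.Surjective ψ' := by
    intro b
    obtain ⟨s, t, rfl⟩ := IsLocalization.exists_mk'_eq M b
    obtain ⟨a, ha⟩ := hφ (algebraMap S₀ (Localization.Away f) s)
    obtain ⟨c, hc⟩ := hφ (algebraMap S₀ (Localization.Away f) t)
    have hψa : ψ a = (s : B) := by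
      change g (φ a) = _
      rw [ha, hg]
    have hψc : ψ c = ((t : S₀) : B) := by
      change g (φ c) = _
      rw [hc, hg]
    refine ⟨IsLocalization.mk' _ a ⟨c, hmem c t hc⟩, ?_⟩
    change IsLocalization.lift hψu _ = _
    rw [IsLocalization.lift_mk'_spec]
    change ψ a = ψ c * _
    rw [hψa, hψc, mul_comm]
    exact (IsLocalization.mk'_spec B s t).symm
  have hinj : Function.Injective ψ' := by
    change Function.Injective (IsLocalization.lift hψu)
    rw [IsLocalization.lift_injective_iff]
    intro x y
    constructor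
    · intro hxy
      have := congrArg (IsLocalization.lift hψu) hxy
      rwa [IsLocalization.lift_eq, IsLocalization.lift_eq] at this
    · intro hxy
      obtain ⟨t, ht⟩ := hgker (φ x) (φ y) hxy
      obtain ⟨c, hc⟩ := hφ (algebraMap S₀ (Localization.Away f) t)
      refine (IsLocalization.eq_iff_exists 𝔮.primeCompl _).mpr ⟨⟨c, hmem c t hc⟩, ?_⟩
      apply hφi
      change φ (c * x) = φ (c * y)
      rw [map_mul, map_mul, hc, ht]
  exact ⟨Pr.P, 𝔮, h𝔮, ⟨(AlgEquiv.ofBijective ψ' ⟨hinj, hsurj⟩).symm⟩⟩

end Groth.Agent.S9563
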