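import Groth.Statements.S9564
import Mathlib

set_option autoImplicit false
universe u
open EtLocal

namespace Groth.Agent.S9564

/-- Let A → B be an unramified homomorphism of Noetherian local rings, i.e. a local homomorphism with B
essentially of finite type over A, m_A B = m_B, and residue field of B finite separable over that of
A. Then there are a standard étale A-algebra B' = A[t]_g/(f) (f monic and f' invertible in B'), a
prime 𝔮 of B' and an ideal I of the localization of B' at 𝔮 such that B is isomorphic as an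
A-algebra to the quotient of that localization by I (existence of an isomorphism). -/
theorem result (A B : Type u) [CommRing A] [CommRing B]
    [IsLocalRing A] [IsLocalRing B] [IsNoetherianRing A] [IsNoetherianRing B] [Algebra A B]
    [IsLocalHom (algebraMap A B)] [Algebra.EssFiniteType A B]
    (hm : (IsLocalRing.maximalIdeal A).map (algebraMap A B) = IsLocalRing.maximalIdeal B)
    [Module.Finite (IsLocalRing.ResidueField A) (IsLocalRing.ResidueField B)]
    [Algebra.IsSeparable (IsLocalRing.ResidueField A) (IsLocalRing.ResidueField B)] :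
    ∃ (P : StandardEtalePair A) (𝔮 : Ideal P.Ring) (_ : 𝔮.IsPrime) (I : Ideal (Localization.AtPrime 𝔮)),
      Nonempty (B ≃ₐ[A] (Localization.AtPrime 𝔮 ⧸ I)) := by
  classical
  haveI hunr : Algebra.FormallyUnramified A B :=
    Algebra.FormallyUnramified.of_map_maximalIdeal hm
  let S₀ : Subalgebra A B := Algebra.EssFiniteType.subalgebra A B
  let M : Submonoid S₀ := Algebra.EssFiniteType.submonoid A B
  haveI hloc : IsLocalization M B := Algebra.EssFiniteType.isLocalization A B
  let Q : Ideal S₀ := (IsLocalRing.maximalIdeal B).comap (algebraMap S₀ B)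
  haveI hQ : Q.IsPrime := Ideal.comap_isPrime _ _
  have hM : M = Q.primeCompl := by
    ext x
    change IsUnit (algebraMap S₀ B x) ↔ ¬ (algebraMap S₀ B x ∈ IsLocalRing.maximalIdeal B)
    rw [IsLocalRing.mem_maximalIdeal, mem_nonunits_iff, not_not]
  haveI hlocQ : IsLocalization Q.primeCompl B := hM ▸ hloc
  haveI : Algebra.IsUnramifiedAt A Q :=
    Algebra.FormallyUnramified.of_equiv
      ((IsLocalization.algEquiv Q.primeCompl B (Localization.AtPrime Q)).restrictScalars A)
  obtain ⟨f, hfQ, P, φ, hφ⟩ :=
    Algebra.IsUnramifiedAt.exists_hasStandardEtaleSurjectionOn (R := A) Q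
  have hfu : ∀ y : Submonoid.powers f, IsUnit (S₀.val y) := by
    rintro ⟨_, n, rfl⟩
    have : IsUnit (algebraMap S₀ B f) := by
      have : f ∈ M := by rw [hM]; exact hfQ
      exact this
    simpa using this.pow n
  let g : Localization.Away f →ₐ[A] B := IsLocalization.liftAlgHom (M := Submonoid.powers f) hfu
  have hg : ∀ s : S₀, g (algebraMap S₀ (Localization.Away f) s) = (s : B) := fun s =>
    IsLocalization.lift_eq _ s
  let ψ : P.Ring →ₐ[A] B := g.comp φ
  let 𝔮 : Ideal P.Ring := (IsLocalRing.maximalIdeal B).comap ψ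
  haveI h𝔮 : 𝔮.IsPrime := Ideal.comap_isPrime _ _
  have hψu : ∀ y : 𝔮.primeCompl, IsUnit (ψ y) := by
    rintro ⟨y, hy⟩
    have : ¬ (ψ y ∈ IsLocalRing.maximalIdeal B) := hy
    rwa [IsLocalRing.mem_maximalIdeal, mem_nonunits_iff, not_not] at this
  let ψ' : Localization.AtPrime 𝔮 →ₐ[A] B := IsLocalization.liftAlgHom (M := 𝔮.primeCompl) hψu
  have hsurj : Function.Surjective ψ' := by
    intro b
    obtain ⟨s, t, rfl⟩ := IsLocalization.exists_mk'_eq M b
    obtain ⟨a, ha⟩ := hφ (algebraMap S₀ (Localization.Away f) s)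
    obtain ⟨c, hc⟩ := hφ (algebraMap S₀ (Localization.Away f) t)
    have hψa : ψ a = (s : B) := by
      change g (φ a) = _
      rw [ha, hg]
    have hψc : ψ c = ((t : S₀) : B) := by
      change g (φ c) = _
      rw [hc, hg]
    have hc𝔮 : c ∈ 𝔮.primeCompl := by
      change ¬ (ψ c ∈ IsLocalRing.maximalIdeal B)
      rw [hψc, IsLocalRing.mem_maximalIdeal, mem_nonunits_iff, not_not]
      exact t.2
    refine ⟨IsLocalization.mk' _ a ⟨c, hc𝔮⟩, ?_⟩
    change IsLocalization.lift hψu _ = _
    rw [IsLocalization.lift_mk'_spec]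
    change ψ a = ψ c * _
    rw [hψa, hψc, mul_comm]
    exact (IsLocalization.mk'_spec B s t).symm
  exact ⟨P, 𝔮, h𝔮, RingHom.ker ψ', ⟨(Ideal.quotientKerAlgEquivOfSurjective hsurj).symm⟩⟩

end Groth.Agent.S9564
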