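import Groth.Statements.S9566
import Mathlib
import Groth.Agent.Lib.helper5.StalkDict

set_option autoImplicit false
universe u
open EtLocal

namespace Groth.Agent.S9566

open AlgebraicGeometry CategoryTheory in
/-- Let Y be a locally Noetherian scheme, f : X ⟶ Y locally of finite type and x a point of X with image
y. Then f is étale on some open neighbourhood of x if and only if the map of local rings O_{Y,y} →
O_{X,x} is an étale homomorphism of local rings: it is flat, the maximal ideal of O_{Y,y} generates
that of O_{X,x}, and the residue field of x is a finite separable extension of that of y (O_{X,x} is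
automatically essentially of finite type over O_{Y,y}). -/
theorem result {X Y : Scheme.{u}} (f : X ⟶ Y)
    [LocallyOfFiniteType f] [IsLocallyNoetherian Y] (x : X) :
    (∃ U : X.Opens, x ∈ U ∧ Etale (U.ι ≫ f)) ↔
      ((f.stalkMap x).hom.Flat ∧
        (IsLocalRing.maximalIdeal (Y.presheaf.stalk (f.base x))).map (f.stalkMap x).hom =
          IsLocalRing.maximalIdeal (X.presheaf.stalk x) ∧
        letI := (f.residueFieldMap x).hom.toAlgebra
        Module.Finite (Y.residueField (f.base x)) (X.residueField x) ∧
          Algebra.IsSeparable (Y.residueField (f.base x)) (X.residueField x)) := by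
  have key := and_congr (Iff.rfl : (f.stalkMap x).hom.Flat ↔ (f.stalkMap x).hom.Flat)
    (H5Stalk.unramified_localHom_iff f x)
  rw [key]
  constructor
  · rintro ⟨U, hxU, hU⟩
    haveI := hU
    exact ⟨H5Stalk.stalkMap_of_restrict RingHom.Flat.respectsIso f U x hxU
        (Flat.stalkMap (U.ι ≫ f) ⟨x, hxU⟩),
      H5Stalk.stalkMap_of_restrict RingHom.FormallyUnramified.respectsIso f U x hxU
        (FormallyUnramified.stalkMap (U.ι ≫ f) ⟨x, hxU⟩)⟩
  · rintro ⟨hflat, hunr⟩
    obtain ⟨V, hV, hfx, -⟩ := TopologicalSpace.Opens.isBasis_iff_nbhd.mp Y.isBasis_affineOpens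
      (TopologicalSpace.Opens.mem_top (f x))
    obtain ⟨U, hU, hx, e⟩ := TopologicalSpace.Opens.isBasis_iff_nbhd.mp X.isBasis_affineOpens
      (show x ∈ f ⁻¹ᵁ V from hfx)
    letI alg := (f.appLE V U e).hom.toAlgebra
    haveI : IsNoetherianRing Γ(Y, V) := IsLocallyNoetherian.component_noetherian ⟨V, hV⟩
    haveI : Algebra.FiniteType Γ(Y, V) Γ(X, U) := by
      have := LocallyOfFiniteType.finiteType_appLE (f := f) hV hU e
      exact (RingHom.finiteType_algebraMap (A := Γ(Y, V)) (B := Γ(X, U))).mp this
    have het : Algebra.IsEtaleAt Γ(Y, V) (hU.primeIdealOf ⟨x, hx⟩).asIdeal :=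
      (H5Stalk.isEtaleAt_iff_flat_unramified Γ(Y, V) Γ(X, U) _).mpr
        ⟨(H5Stalk.flat_iff f V hV U hU e hx).mpr hflat,
          (H5Stalk.isUnramifiedAt_iff f V hV U hU e hx).mpr hunr⟩
    exact H5Stalk.exists_nhd_etale f V hV U hU e hx
      (Algebra.FinitePresentation.of_finiteType.mp inferInstance) het

end Groth.Agent.S9566
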