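import Groth.Statements.S9567
import Mathlib
import Groth.Agent.Lib.helper5.StalkDict

set_option autoImplicit false
universe u
open EtLocal

namespace Groth.Agent.S9567

open AlgebraicGeometry CategoryTheory Polynomial in
private theorem ring_part (R B : Type u) [CommRing R] [CommRing B] [Algebra R B]
    (Pres : StandardEtalePresentation R B) :
    ∃ θ : Localization.Away (AdjoinRoot.mk Pres.f (derivative Pres.f)) →ₐ[R] B,
      IsOpenImmersion (Spec.map (CommRingCat.ofHom θ.toRingHom)) := by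
  let A := AdjoinRoot Pres.f
  let S := Localization.Away (AdjoinRoot.mk Pres.f (derivative Pres.f))
  let T := Localization.Away (AdjoinRoot.mk Pres.f Pres.g)
  have hunit : IsUnit ((IsScalarTower.toAlgHom R A T) (AdjoinRoot.mk Pres.f (derivative Pres.f))) := by
    obtain ⟨p₁, p₂, n, hn⟩ := Pres.cond
    have h1 : AdjoinRoot.mk Pres.f (derivative Pres.f) * AdjoinRoot.mk Pres.f p₁ =
        (AdjoinRoot.mk Pres.f Pres.g) ^ n := by
      rw [← map_mul, ← map_pow, ← hn, map_add, map_mul (AdjoinRoot.mk Pres.f) Pres.f,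
        AdjoinRoot.mk_self, zero_mul, add_zero]
    have h2 : IsUnit (algebraMap A T ((AdjoinRoot.mk Pres.f Pres.g) ^ n)) := by
      rw [map_pow]
      exact (IsLocalization.Away.algebraMap_isUnit _).pow n
    rw [← h1, map_mul] at h2
    exact isUnit_of_mul_isUnit_left h2
  let ψ : S →ₐ[R] T := IsLocalization.Away.liftAlgHom
    (AdjoinRoot.mk Pres.f (derivative Pres.f)) (f := IsScalarTower.toAlgHom R A T) hunit
  have hψ : ψ.toRingHom.comp (algebraMap A S) = algebraMap A T := by
    refine RingHom.ext fun a => ?_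
    show IsLocalization.Away.lift _ hunit (algebraMap A S a) = algebraMap A T a
    rw [IsLocalization.Away.lift_eq]
    rfl
  have hoi : IsOpenImmersion (Spec.map (CommRingCat.ofHom ψ.toRingHom)) := by
    haveI h1 : IsOpenImmersion (Spec.map (CommRingCat.ofHom ψ.toRingHom) ≫
        Spec.map (CommRingCat.ofHom (algebraMap A S))) := by
      rw [← Spec.map_comp, ← CommRingCat.ofHom_comp, hψ]
      infer_instance
    exact IsOpenImmersion.of_comp _ (Spec.map (CommRingCat.ofHom (algebraMap A S)))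
  let eB : B ≃ₐ[R] T := Pres.equivRing.trans Pres.equivAwayAdjoinRoot
  refine ⟨eB.symm.toAlgHom.comp ψ, ?_⟩
  have : (eB.symm.toAlgHom.comp ψ).toRingHom =
      (eB.symm.toAlgHom.toRingHom).comp ψ.toRingHom := rfl
  rw [this, CommRingCat.ofHom_comp, Spec.map_comp]
  haveI : IsIso (CommRingCat.ofHom eB.symm.toAlgHom.toRingHom) :=
    (eB.symm.toRingEquiv.toCommRingCatIso).isIso_hom
  infer_instance

open AlgebraicGeometry CategoryTheory in
/-- Let φ : X ⟶ Y be any morphism of schemes, x a point of X and V an affine open neighbourhood of φ(x),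
with ring R = Γ(Y, V). If φ is étale on some open neighbourhood of x, then there are an affine open
neighbourhood U of x with φ(U) ⊆ V, a monic polynomial p over R and an open immersion j of U into
Spec of (R[t]/(p))[1/p′] (the localization of R[t]/(p) away from the image of the derivative of p)
such that j followed by the projection to Spec R is the morphism U → Spec R induced by φ. -/
theorem result {X Y : Scheme.{u}} (φ : X ⟶ Y) (x : X)
    (V : Y.Opens) (hV : IsAffineOpen V) (hxV : φ.base x ∈ V)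
    (hφ : ∃ W : X.Opens, x ∈ W ∧ Etale (W.ι ≫ φ)) :
    ∃ (U : X.Opens) (hU : IsAffineOpen U) (_ : x ∈ U) (e : U ≤ φ ⁻¹ᵁ V)
      (p : Polynomial Γ(Y, V)) (_ : p.Monic)
      (j : U.toScheme ⟶ Spec (CommRingCat.of (Localization.Away (AdjoinRoot.mk p (Polynomial.derivative p))))),
      IsOpenImmersion j ∧
        j ≫ Spec.map (CommRingCat.ofHom
            (algebraMap Γ(Y, V) (Localization.Away (AdjoinRoot.mk p (Polynomial.derivative p))))) =
          hU.isoSpec.hom ≫ Spec.map (φ.appLE V U e) := by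
  classical
  obtain ⟨W, hxW, hW⟩ := hφ
  obtain ⟨U₀, hU₀', hxU₀, hU₀le⟩ := TopologicalSpace.Opens.isBasis_iff_nbhd.mp
    X.isBasis_affineOpens (show x ∈ W ⊓ φ ⁻¹ᵁ V from ⟨hxW, hxV⟩)
  have hU₀ : IsAffineOpen U₀ := hU₀'
  have e₀ : U₀ ≤ φ ⁻¹ᵁ V := hU₀le.trans inf_le_right
  have hW₀ : U₀ ≤ W := hU₀le.trans inf_le_left
  have h1 : Etale (φ.resLE V U₀ e₀) := by
    have h2 : Etale (φ.resLE V U₀ e₀ ≫ V.ι) := by
      rw [Scheme.Hom.resLE_comp_ι]
      have : Scheme.Opens.ι U₀ = X.homOfLE hW₀ ≫ W.ι := (X.homOfLE_ι hW₀).symm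
      rw [this, Category.assoc]
      infer_instance
    exact MorphismProperty.of_postcomp (W := @Etale) (W' := @IsOpenImmersion)
      (φ.resLE V U₀ e₀) V.ι inferInstance h2
  have h3 : RingHom.Etale (φ.appLE V U₀ e₀).hom :=
    (H5Stalk.resLE_iff (P := @Etale) φ V hV U₀ hU₀ e₀).mp h1
  letI alg₀ := (φ.appLE V U₀ e₀).hom.toAlgebra
  haveI : Algebra.Etale Γ(Y, V) Γ(X, U₀) := RingHom.etale_algebraMap.mp h3
  let q := (hU₀.primeIdealOf ⟨x, hxU₀⟩).asIdeal
  haveI : q.IsPrime := (hU₀.primeIdealOf ⟨x, hxU₀⟩).isPrime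
  haveI : Algebra.IsEtaleAt Γ(Y, V) q :=
    Algebra.FormallyEtale.comp Γ(Y, V) Γ(X, U₀) (Localization.AtPrime q)
  obtain ⟨h, hhq, hstd⟩ := Algebra.IsEtaleAt.exists_isStandardEtale (R := Γ(Y, V)) q
  have hUaff : IsAffineOpen (X.basicOpen h) := hU₀.basicOpen h
  have eU : X.basicOpen h ≤ φ ⁻¹ᵁ V := (X.basicOpen_le h).trans e₀
  letI alg := (φ.appLE V (X.basicOpen h) eU).hom.toAlgebra
  haveI : IsLocalization.Away h Γ(X, X.basicOpen h) := hU₀.isLocalization_basicOpen h
  haveI : IsScalarTower Γ(Y, V) Γ(X, U₀) Γ(X, X.basicOpen h) :=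
    IsScalarTower.of_algebraMap_eq' (by
      simp only [RingHom.algebraMap_toAlgebra]
      rw [← CommRingCat.hom_comp, Scheme.Hom.appLE_map])
  haveI : Algebra.IsStandardEtale Γ(Y, V) Γ(X, X.basicOpen h) :=
    Algebra.IsStandardEtale.of_equiv
      ((IsLocalization.algEquiv (Submonoid.powers h) (Localization.Away h)
        Γ(X, X.basicOpen h)).restrictScalars Γ(Y, V))
  obtain ⟨Pres⟩ := Algebra.IsStandardEtale.nonempty_standardEtalePresentation
    (R := Γ(Y, V)) (S := Γ(X, X.basicOpen h))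
  obtain ⟨θ, hθ⟩ := ring_part Γ(Y, V) Γ(X, X.basicOpen h) Pres
  refine ⟨X.basicOpen h, hUaff,
    H5Stalk.mem_basicOpen_of_notMem_primeIdealOf U₀ hU₀ hxU₀ h hhq, eU, Pres.f, Pres.monic_f,
    hUaff.isoSpec.hom ≫ Spec.map (CommRingCat.ofHom θ.toRingHom), inferInstance, ?_⟩
  rw [Category.assoc, ← Spec.map_comp]
  congr 2
  ext a
  exact θ.commutes a

end Groth.Agent.S9567
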