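import Groth.Statements.S9568
import Mathlib
import Groth.Agent.Lib.helper5.LocSpan

set_option autoImplicit false
universe u
open EtLocal

namespace Groth.Agent.S9568

/-- Let A be a ring, φ a surjection from the polynomial ring P = A[x_1, …, x_n] onto an A-algebra B with
kernel I, q a prime of B and 𝔮 its preimage in P. Then the localization at q of the module of
differentials Ω_{B/A} vanishes if and only if the images of the differentials dg, g ∈ I, span the
localization of Ω_{P/A} at 𝔮 over P_𝔮. (Geometrically: for f locally of finite type, the stalk of
Ω_{X/Y} at x vanishes iff near x the scheme X is a closed subscheme of an affine space over the base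
cut out by an ideal whose germs at the point have differentials generating the stalk of Ω of the
affine space; the published statement also lists the equivalence with f being unramified at x and
with the diagonal being a local isomorphism at x, which this row does not restate. The published
statement asks for one such presentation near the point; this row states the equivalence for every
presentation, which is what the published proof shows and which implies the existential form.) -/
theorem result {A B : Type u} [CommRing A] [CommRing B]
    [Algebra A B] (n : ℕ) (φ : MvPolynomial (Fin n) A →ₐ[A] B) (hφ : Function.Surjective φ)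
    (q : Ideal B) [q.IsPrime] :
    Subsingleton (LocalizedModule q.primeCompl (KaehlerDifferential A B)) ↔
      Submodule.span (Localization.AtPrime (q.comap φ.toRingHom))
        ((LocalizedModule.mkLinearMap (q.comap φ.toRingHom).primeCompl
            (KaehlerDifferential A (MvPolynomial (Fin n) A))) ''
          ((KaehlerDifferential.D A (MvPolynomial (Fin n) A)) '' (RingHom.ker φ.toRingHom : Set (MvPolynomial (Fin n) A)))) = ⊤ := by
  classical
  letI : Algebra (MvPolynomial (Fin n) A) B := φ.toRingHom.toAlgebra
  haveI : IsScalarTower A (MvPolynomial (Fin n) A) B :=
    IsScalarTower.of_algebraMap_eq (fun a => (φ.commutes a).symm)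
  have hsurj : Function.Surjective (algebraMap (MvPolynomial (Fin n) A) B) := hφ
  have hI𝔮 : RingHom.ker (algebraMap (MvPolynomial (Fin n) A) B) ≤
      q.comap (algebraMap (MvPolynomial (Fin n) A) B) := by
    intro x hx
    rw [Ideal.mem_comap, show algebraMap (MvPolynomial (Fin n) A) B x = 0 from hx]
    exact zero_mem _
  have h1 := H5LocSpan.subsingleton_localized_iff hsurj q
    (KaehlerDifferential.map A A (MvPolynomial (Fin n) A) B)
    (KaehlerDifferential.map_surjective_of_surjective A A (MvPolynomial (Fin n) A) B hsurj)
  rw [H5LocSpan.ker_map_eq hsurj] at h1
  have h2 := H5LocSpan.localized_sup_smul_eq_top_iff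
    (q.comap (algebraMap (MvPolynomial (Fin n) A) B))
    ((KaehlerDifferential.D A (MvPolynomial (Fin n) A)) ''
      (RingHom.ker (algebraMap (MvPolynomial (Fin n) A) B) : Set (MvPolynomial (Fin n) A)))
    (RingHom.ker (algebraMap (MvPolynomial (Fin n) A) B)) hI𝔮
  exact h1.trans h2

end Groth.Agent.S9568
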