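import Groth.Statements.S9581
import Mathlib
import Groth.Agent.Lib.helper5.WeakAss2

set_option autoImplicit false
universe u
open FlatCA

namespace Groth.Agent.S9581

/-- (1) ⇔ (3): for a ring R, an R-module M and a prime p of R, the prime p is weakly associated to M
(minimal among the primes containing the annihilator of some element of M) if and only if the
localization M_p contains an element whose annihilator in R_p has radical equal to the maximal ideal
p R_p. -/
theorem result {R : Type u} [CommRing R] (M : Type u) [AddCommGroup M] [Module R M] (p : Ideal R) [p.IsPrime] :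
    p ∈ FlatCA.weakAss R M ↔ IsAssociatedPrime (IsLocalRing.maximalIdeal (Localization.AtPrime p)) (LocalizedModule p.primeCompl M) := by
  have hdisj : Disjoint (p.primeCompl : Set R) (p : Set R) := by
    rw [Set.disjoint_left]
    intro a ha hap
    exact ha hap
  rw [h5_weakAss_localization_iff p.primeCompl p hdisj]
  have hmap : Ideal.map (algebraMap R (Localization p.primeCompl)) p =
      IsLocalRing.maximalIdeal (Localization.AtPrime p) :=
    IsLocalization.AtPrime.map_eq_maximalIdeal p (Localization.AtPrime p)
  rw [hmap]
  have hcolon : ∀ x : LocalizedModule p.primeCompl M,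
      (⊥ : Submodule (Localization.AtPrime p) (LocalizedModule p.primeCompl M)).colon {x} =
        (Submodule.span (Localization.AtPrime p) {x}).annihilator := fun x =>
    Submodule.bot_colon'
  constructor
  · rintro ⟨x, hx⟩
    refine ⟨inferInstance, x, ?_⟩
    rw [hcolon]
    apply le_antisymm
    · rw [Ideal.radical_eq_sInf, le_sInf_iff]
      rintro q ⟨hJq, hq⟩
      have hqm : q ≤ IsLocalRing.maximalIdeal (Localization.AtPrime p) :=
        IsLocalRing.le_maximalIdeal hq.ne_top
      exact hx.2 ⟨hq, hJq⟩ hqm
    · exact (Ideal.IsPrime.radical_le_iff hx.1.1).2 hx.1.2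
  · rintro ⟨hprime, x, hx⟩
    refine ⟨x, ?_⟩
    rw [hcolon] at hx
    refine ⟨⟨hprime, ?_⟩, fun q hq hqm => ?_⟩
    · rw [hx]
      exact Ideal.le_radical
    · rw [hx]
      exact (hq.1.radical_le_iff).2 hq.2

end Groth.Agent.S9581
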