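import Groth.Statements.S9582
import Mathlib
import Groth.Agent.Lib.helper5.WeakAss

set_option autoImplicit false
universe u
open FlatCA

namespace Groth.Agent.S9582

/-- For a reduced ring R, the primes weakly associated to the R-module R (primes minimal over the
annihilator of some element) are exactly the minimal primes of R. -/
theorem result {R : Type u} [CommRing R] [IsReduced R] :
    FlatCA.weakAss R R = minimalPrimes R := by
  ext p
  constructor
  · rintro ⟨x, hp⟩
    haveI := hp.1.1
    have hann : (Submodule.span R {x}).annihilator ≤ p := hp.1.2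
    have hxp : x ∉ p := by
      intro hx
      obtain ⟨s, hs, n, hn⟩ := h5_exists_mul_pow_mem hp hx
      rw [h5_mem_ann, smul_eq_mul] at hn
      have h1 : (x * s) ^ (n + 1) = 0 := by
        rw [pow_succ, ← mul_assoc, hn, zero_mul]
      have h2 : x * s = 0 := IsReduced.eq_zero _ ⟨n + 1, h1⟩
      exact hs (hann (by rw [h5_mem_ann, smul_eq_mul, mul_comm]; exact h2))
    refine ⟨⟨hp.1.1, bot_le⟩, fun q hq hqp y hy => ?_⟩
    obtain ⟨s, hs, n, hn⟩ := h5_exists_mul_pow_mem hp hy
    rw [h5_mem_ann, smul_eq_mul] at hn
    have h0 : (y * s) ^ n * x ∈ q := by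
      rw [hn]
      exact q.zero_mem
    have h1 : (y * s) ^ n ∈ q :=
      (hq.1.mem_or_mem h0).resolve_right (fun hxq => hxp (hqp hxq))
    have h2 : y * s ∈ q := hq.1.mem_of_pow_mem n h1
    exact (hq.1.mem_or_mem h2).resolve_right (fun hsq => hs (hqp hsq))
  · intro hp
    refine ⟨1, ?_⟩
    have : (Submodule.span R {(1 : R)}).annihilator = ⊥ := by
      ext a
      rw [h5_mem_ann, smul_eq_mul, mul_one, Ideal.mem_bot]
    rw [this]
    exact hp

end Groth.Agent.S9582
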