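import Groth.Statements.S9583
import Mathlib
import Groth.Agent.Lib.helper5.WeakAss

set_option autoImplicit false
universe u
open FlatCA

namespace Groth.Agent.S9583

/-- For a ring R and a short exact sequence 0 → M' → M → M'' → 0 of R-modules, every prime weakly
associated to M' is weakly associated to M, and every prime weakly associated to M is weakly
associated to M' or to M''. -/
theorem result {R : Type u} [CommRing R] {M' M M'' : Type u} [AddCommGroup M'] [Module R M'] [AddCommGroup M] [Module R M] [AddCommGroup M''] [Module R M''] (f : M' →ₗ[R] M) (g : M →ₗ[R] M'') (hf : Function.Injective f) (hg : Function.Surjective g) (hfg : Function.Exact f g) :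
    FlatCA.weakAss R M' ⊆ FlatCA.weakAss R M ∧ FlatCA.weakAss R M ⊆ FlatCA.weakAss R M' ∪ FlatCA.weakAss R M'' := by
  constructor
  · rintro p ⟨m', hp⟩
    refine h5_mem_weakAss_of_ann_eq hp (m' := f m') (fun a => ⟨fun h => ?_, fun h => ?_⟩)
    · rw [← map_smul, h, map_zero]
    · exact hf (by rw [map_smul, h, map_zero])
  · rintro p ⟨m, hp⟩
    haveI := hp.1.1
    by_cases hle : (Submodule.span R {g m}).annihilator ≤ p
    · right
      refine ⟨g m, h5_minimalPrimes_of_le hp ?_ hle⟩
      intro a ha
      rw [h5_mem_ann] at ha ⊢
      rw [← map_smul, ha, map_zero]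
    · left
      obtain ⟨a, ha, hap⟩ := SetLike.not_le_iff_exists.1 hle
      rw [h5_mem_ann, ← map_smul] at ha
      obtain ⟨m', hm'⟩ := (hfg (a • m)).1 ha
      refine ⟨m', h5_minimalPrimes_of_le hp ?_ ?_⟩
      · intro b hb
        rw [h5_mem_ann] at hb ⊢
        apply hf
        rw [map_smul, hm', smul_comm, hb, smul_zero, map_zero]
      · intro b hb
        rw [h5_mem_ann] at hb
        have h1 : b • a • m = 0 := by
          rw [← hm', ← map_smul, hb, map_zero]
        have h2 : b * a ∈ p := hp.1.2 (by rw [h5_mem_ann, mul_smul]; exact h1)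
        exact (hp.1.1.mem_or_mem h2).resolve_right hap

end Groth.Agent.S9583
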