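import Groth.Statements.S9584
import Mathlib
import Groth.Agent.Lib.helper5.WeakAss

set_option autoImplicit false
universe u
open FlatCA

namespace Groth.Agent.S9584

/-- For a ring R and an R-module M, M has no weakly associated prime (no prime minimal over the
annihilator of an element) if and only if M = 0. -/
theorem result {R : Type u} [CommRing R] (M : Type u) [AddCommGroup M] [Module R M] :
    FlatCA.weakAss R M = ∅ ↔ Subsingleton M := by
  constructor
  · intro h
    by_contra hns
    rw [not_subsingleton_iff_nontrivial] at hns
    haveI := hns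
    obtain ⟨m, hm⟩ := exists_ne (0 : M)
    obtain ⟨p, hp⟩ := h5_exists_minimalPrimes_of_ne_top (h5_ann_ne_top (R := R) hm)
    have : p ∈ FlatCA.weakAss R M := ⟨m, hp⟩
    rw [h] at this
    exact this
  · intro h
    rw [Set.eq_empty_iff_forall_notMem]
    rintro p ⟨m, hp⟩
    have hm : m = 0 := Subsingleton.elim _ _
    have htop : (Submodule.span R {m}).annihilator = ⊤ := by
      rw [Ideal.eq_top_iff_one, h5_mem_ann, hm, smul_zero]
    rw [htop] at hp
    exact hp.1.1.ne_top (top_le_iff.1 hp.1.2)

end Groth.Agent.S9584
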