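import Groth.Statements.S9585
import Mathlib
import Groth.Agent.Lib.helper5.WeakAss

set_option autoImplicit false
universe u
open FlatCA

namespace Groth.Agent.S9585

/-- For a ring R and an R-module M, an element of R lies in some weakly associated prime of M exactly
when multiplication by it on M is not injective; in other words the union of the weakly associated
primes of M equals the set of zerodivisors on M. -/
theorem result {R : Type u} [CommRing R] (M : Type u) [AddCommGroup M] [Module R M] :
    ⋃ q ∈ FlatCA.weakAss R M, (q : Set R) = {f : R | ¬ IsSMulRegular M f} := by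
  ext f
  simp only [Set.mem_iUnion, SetLike.mem_coe, Set.mem_setOf_eq, exists_prop]
  constructor
  · rintro ⟨p, ⟨m, hp⟩, hfp⟩
    obtain ⟨y, hy, hfy⟩ := Ideal.exists_mul_mem_of_mem_minimalPrimes hp hfp
    rw [h5_mem_ann] at hy hfy
    intro hreg
    apply hy
    apply hreg
    show f • y • m = f • 0
    rw [smul_zero, ← mul_smul]
    exact hfy
  · intro hf
    have : ∃ m : M, m ≠ 0 ∧ f • m = 0 := by
      by_contra hcon
      push_neg at hcon
      apply hf
      intro a b hab
      have hab' : f • a = f • b := hab
      have h1 : f • (a - b) = 0 := by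
        rw [smul_sub]
        exact sub_eq_zero.2 hab'
      by_contra hne
      exact hcon (a - b) (sub_ne_zero.2 hne) h1
    obtain ⟨m, hm, hfm⟩ := this
    obtain ⟨p, hp⟩ := h5_exists_minimalPrimes_of_ne_top (h5_ann_ne_top (R := R) hm)
    exact ⟨p, ⟨m, hp⟩, hp.1.2 (h5_mem_ann.2 hfm)⟩

end Groth.Agent.S9585
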