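import Groth.Statements.S9594
import Mathlib
import Groth.Agent.Lib.helper5.WeakAss

set_option autoImplicit false
universe u
open FlatCA

namespace Groth.Agent.S9594

/-- For a ring R, an R-module M and a multiplicative subset S of R, (1) the primes of R associated to
the R-module S⁻¹M are the inverse images of the primes of S⁻¹R associated to S⁻¹M, and (2) a prime
of R associated to M which does not meet S is associated to the R-module S⁻¹M. Here a prime is
associated to a module when it equals the annihilator of some element. -/
theorem result {R : Type u} [CommRing R] (S : Submonoid R) (M : Type u) [AddCommGroup M] [Module R M] :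
    FlatCA.ass R (LocalizedModule S M) = Ideal.comap (algebraMap R (Localization S)) '' FlatCA.ass (Localization S) (LocalizedModule S M) ∧
      ∀ p ∈ FlatCA.ass R M, Disjoint (S : Set R) (p : Set R) → p ∈ FlatCA.ass R (LocalizedModule S M) := by
  have hann : ∀ x : LocalizedModule S M, (Submodule.span R {x}).annihilator =
      ((Submodule.span (Localization S) {x}).annihilator).comap
        (algebraMap R (Localization S)) := by
    intro x
    ext a
    rw [Ideal.mem_comap, h5_mem_ann, h5_mem_ann, algebraMap_smul]
  refine ⟨?_, ?_⟩
  · ext p
    constructor
    · rintro ⟨hp, x, hpx⟩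
      have hdisj : Disjoint (S : Set R) (p : Set R) := by
        rw [Set.disjoint_left]
        intro s hs hsp
        rw [hpx, SetLike.mem_coe, h5_mem_ann] at hsp
        obtain ⟨m, t, rfl⟩ : ∃ m t, x = LocalizedModule.mk m t := by
          induction x using LocalizedModule.induction_on with
          | h m t => exact ⟨m, t, rfl⟩
        rw [h5_smul_mk_eq_zero_iff] at hsp
        obtain ⟨u, hu⟩ := hsp
        have hx0 : LocalizedModule.mk m t = 0 := by
          rw [← LocalizedModule.zero_mk t, LocalizedModule.mk_eq]
          refine ⟨u * ⟨s, hs⟩, ?_⟩
          rw [smul_zero, smul_zero, smul_comm, mul_smul]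
          show t • u • s • m = 0
          rw [hu, smul_zero]
        have h1 : (1 : R) ∈ p := by
          rw [hpx, h5_mem_ann, hx0, smul_zero]
        exact hp.ne_top ((Ideal.eq_top_iff_one p).2 h1)
      have hq : ((Submodule.span (Localization S) {x}).annihilator).comap
          (algebraMap R (Localization S)) = p := by
        rw [← hann, hpx]
      refine ⟨(Submodule.span (Localization S) {x}).annihilator, ⟨?_, x, rfl⟩, hq⟩
      have h2 := IsLocalization.map_under S (Localization S)
        (Submodule.span (Localization S) {x}).annihilator
      rw [Ideal.under_def, hq] at h2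
      rw [← h2]
      exact IsLocalization.isPrime_of_isPrime_disjoint S (Localization S) p hp hdisj
    · rintro ⟨q, ⟨hq, x, rfl⟩, rfl⟩
      haveI := hq
      exact ⟨Ideal.comap_isPrime _ _, x, (hann x).symm⟩
  · rintro p ⟨hp, m, rfl⟩ hdisj
    refine ⟨hp, LocalizedModule.mk m (1 : S), ?_⟩
    ext a
    rw [h5_mem_ann, h5_mem_ann, h5_smul_mk_eq_zero_iff]
    constructor
    · intro h
      exact ⟨1, by rw [h, smul_zero]⟩
    · rintro ⟨t, ht⟩
      have h1 : (t : R) * a ∈ (Submodule.span R {m}).annihilator := by
        rw [h5_mem_ann, mul_smul]
        exact ht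
      have h2 := (hp.mem_or_mem h1).resolve_left
        (fun htp => Set.disjoint_left.1 hdisj t.2 htp)
      exact h5_mem_ann.1 h2

end Groth.Agent.S9594
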