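import Groth.Statements.S9595
import Mathlib
import Groth.Agent.Lib.helper5.WeakAss

set_option autoImplicit false
universe u
open FlatCA

namespace Groth.Agent.S9595

/-- For a ring R, an R-module M and a multiplicative subset S of R whose elements are all
nonzerodivisors on M, a prime of R is the annihilator of an element of M if and only if it is the
annihilator in R of an element of S⁻¹M. -/
theorem result {R : Type u} [CommRing R] (S : Submonoid R) (M : Type u) [AddCommGroup M] [Module R M] (hS : ∀ s ∈ S, IsSMulRegular M s) :
    FlatCA.ass R M = FlatCA.ass R (LocalizedModule S M) := by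
  have hreg : ∀ (a : R) (m : M) (s : S), a • LocalizedModule.mk m s = 0 ↔ a • m = 0 := by
    intro a m s
    rw [h5_smul_mk_eq_zero_iff]
    constructor
    · rintro ⟨t, ht⟩
      refine hS t t.2 ?_
      show (t : R) • (a • m) = (t : R) • 0
      rw [smul_zero, ← Submonoid.smul_def]
      exact ht
    · intro h
      exact ⟨1, by rw [h, smul_zero]⟩

  ext p
  constructor
  · rintro ⟨hp, m, rfl⟩
    refine ⟨hp, LocalizedModule.mk m (1 : S), ?_⟩
    ext a
    rw [h5_mem_ann, h5_mem_ann, hreg]
  · rintro ⟨hp, x, rfl⟩
    obtain ⟨m, s, rfl⟩ : ∃ m s, x = LocalizedModule.mk m s := by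
      induction x using LocalizedModule.induction_on with
      | h m s => exact ⟨m, s, rfl⟩
    refine ⟨hp, m, ?_⟩
    ext a
    rw [h5_mem_ann, h5_mem_ann, hreg]

end Groth.Agent.S9595
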