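import Groth.Statements.S9597
import Mathlib

set_option autoImplicit false
universe u
open CAlg

namespace Groth.Agent.S9597

theorem aux {R : Type u} [CommRing R] [IsNoetherianRing R] (M : Type u) [AddCommGroup M]
    [Module R M] [Module.Finite R M]
    (p : Ideal (R ⧸ Module.annihilator R M))
    (hp : p ∈ associatedPrimes (R ⧸ Module.annihilator R M) (R ⧸ Module.annihilator R M)) :
    p.comap (Ideal.Quotient.mk (Module.annihilator R M)) ∈ associatedPrimes R M := by
  obtain ⟨hprime, xbar, hx⟩ := (isAssociatedPrime_iff).mp hp
  obtain ⟨x, rfl⟩ := Ideal.Quotient.mk_surjective xbar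
  let N : Submodule R M := LinearMap.range (LinearMap.lsmul R M x)
  have hann : Module.annihilator R N = p.comap (Ideal.Quotient.mk (Module.annihilator R M)) := by
    ext r
    rw [Ideal.mem_comap, hx, Submodule.mem_colon_singleton, Submodule.mem_bot,
      Module.mem_annihilator]
    constructor
    · intro h
      rw [smul_eq_mul, ← map_mul, Ideal.Quotient.eq_zero_iff_mem, Module.mem_annihilator]
      intro m
      have := h ⟨x • m, ⟨m, rfl⟩⟩
      rw [mul_smul]
      exact congrArg Subtype.val this
    · intro h
      rw [smul_eq_mul, ← map_mul, Ideal.Quotient.eq_zero_iff_mem, Module.mem_annihilator] at h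
      rintro ⟨_, m, rfl⟩
      ext
      have := h m
      rw [mul_smul] at this
      exact this
  have hprime' : (Module.annihilator R N).IsPrime := by
    rw [hann]; exact Ideal.comap_isPrime _ _
  have hmem : Module.annihilator R N ∈ associatedPrimes R N := by
    apply Module.associatedPrimes.minimalPrimes_annihilator_subset_associatedPrimes R N
    rw [Ideal.minimalPrimes_eq_subsingleton_self]
    rfl
  rw [← hann]
  exact associatedPrimes.subset_of_injective N.injective_subtype hmem

theorem result {R : Type u} [CommRing R] [IsNoetherianRing R] (M : Type u) [AddCommGroup M] [Module R M] [Module.Finite R M] (hM : ∀ p ∈ associatedPrimes R M, ∀ q ∈ associatedPrimes R M, p ≤ q → p = q) :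
    ∀ p ∈ associatedPrimes (R ⧸ Module.annihilator R M) (R ⧸ Module.annihilator R M), ∀ q ∈ associatedPrimes (R ⧸ Module.annihilator R M) (R ⧸ Module.annihilator R M), p ≤ q → p = q := by
  intro p hp q hq hpq
  have h1 := aux M p hp
  have h2 := aux M q hq
  have := hM _ h1 _ h2 (Ideal.comap_mono hpq)
  exact Ideal.comap_injective_of_surjective _ Ideal.Quotient.mk_surjective this

end Groth.Agent.S9597
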