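import Groth.Statements.S9598
import Mathlib

set_option autoImplicit false
universe u
open CAlg

namespace Groth.Agent.S9598

/-- For a field k and a finite type k-algebra S with dim S > 0, some element of S is a nonzerodivisor
and a nonunit. -/
theorem result {k S : Type u} [Field k] [CommRing S] [Algebra k S] [Algebra.FiniteType k S] (hdim : 0 < ringKrullDim S) :
    ∃ f : S, f ∈ nonZeroDivisors S ∧ ¬ IsUnit f := by
  by_contra hcon
  push Not at hcon
  have hN : IsNoetherianRing S := Algebra.FiniteType.isNoetherianRing k S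
  have hJ : IsJacobsonRing S := isJacobsonRing_of_finiteType (A := k)
  have hfin : (associatedPrimes S S).Finite := associatedPrimes.finite S S
  have hmax : ∀ m : Ideal S, m.IsMaximal → m ∈ associatedPrimes S S := by
    intro m hm
    have hsub : (m : Set S) ⊆ ⋃ p ∈ associatedPrimes S S, (p : Set S) := by
      rw [biUnion_associatedPrimes_eq_compl_nonZeroDivisors]
      intro x hx hnz
      exact hm.ne_top (Ideal.eq_top_of_isUnit_mem _ hx (hcon x hnz))
    have hsub' : (m : Set S) ⊆ ⋃ p ∈ (↑hfin.toFinset : Set (Ideal S)), ((id p : Ideal S) : Set S) := by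
      rw [Set.Finite.coe_toFinset]; exact hsub
    obtain ⟨p, hp, hmp⟩ := (Ideal.subset_union_prime (s := hfin.toFinset) (f := id) m m
      (fun i hi _ _ => by
        rw [Set.Finite.mem_toFinset] at hi
        exact hi.isPrime)).mp hsub'
    rw [Set.Finite.mem_toFinset] at hp
    have hpprime : p.IsPrime := hp.isPrime
    have : m = p := hm.eq_of_le hpprime.ne_top hmp
    rw [this]; exact hp
  have hKD : Ring.KrullDimLE 0 S := by
    rw [Ring.krullDimLE_zero_iff]
    intro P hP
    have hjac : P.jacobson = P := IsJacobsonRing.out hJ hP.isRadical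
    have hTfin : ({J : Ideal S | P ≤ J ∧ J.IsMaximal}).Finite :=
      hfin.subset fun J hJ' => hmax J hJ'.2
    have hle : sInf {J : Ideal S | P ≤ J ∧ J.IsMaximal} ≤ P := hjac.le
    rw [← hTfin.coe_toFinset, ← Finset.inf_id_eq_sInf, hP.inf_le'] at hle
    obtain ⟨m, hm, hmP⟩ := hle
    rw [Set.Finite.mem_toFinset] at hm
    have : P = m := le_antisymm hm.1 hmP
    rw [this]; exact hm.2
  have := Ring.krullDimLE_iff.mp hKD
  exact absurd hdim (not_lt.mpr this)

end Groth.Agent.S9598
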