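import Groth.Statements.S9599
import Mathlib

set_option autoImplicit false
universe u
open CAlg

namespace Groth.Agent.S9599

/-- For a ring R, an ideal I of R and a short exact sequence 0 → K → M → N → 0 of R-modules with N flat
over R, the induced sequence of I-adic completions 0 → K^ → M^ → N^ → 0 is again short exact. -/
theorem result {R : Type u} [CommRing R] (I : Ideal R) {K M N : Type u} [AddCommGroup K] [Module R K] [AddCommGroup M] [Module R M] [AddCommGroup N] [Module R N] [Module.Flat R N] (i : K →ₗ[R] M) (g : M →ₗ[R] N) (hi : Function.Injective i) (hg : Function.Surjective g) (hig : Function.Exact i g) :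
    Function.Injective (AdicCompletion.map I i) ∧ Function.Exact (AdicCompletion.map I i) (AdicCompletion.map I g) ∧ Function.Surjective (AdicCompletion.map I g) := by
  classical
  have hflat : ∀ (J : Ideal R) (k : K), i k ∈ (J • ⊤ : Submodule R M) →
      k ∈ (J • ⊤ : Submodule R K) := by
    intro J k hk
    have inj := LinearMap.lTensor_injective_of_exact_of_flat g hg i hi hig (R ⧸ J)
    have h1 : (i.lTensor (R ⧸ J)) ((1 : R ⧸ J) ⊗ₜ[R] k) = 0 := by
      rw [LinearMap.lTensor_tmul]
      apply (TensorProduct.quotTensorEquivQuotSMul M J).injective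
      rw [TensorProduct.quotTensorEquivQuotSMul_mk_one_tmul, map_zero]
      exact (Submodule.Quotient.mk_eq_zero _).mpr hk
    have h2 : ((1 : R ⧸ J) ⊗ₜ[R] k) = 0 := inj (by rw [h1, map_zero])
    have h3 := congrArg (TensorProduct.quotTensorEquivQuotSMul K J) h2
    rw [TensorProduct.quotTensorEquivQuotSMul_mk_one_tmul, map_zero] at h3
    exact (Submodule.Quotient.mk_eq_zero _).mp h3
  have hinj : Function.Injective (AdicCompletion.map I i) := by
    rw [injective_iff_map_eq_zero]
    intro x hx
    apply AdicCompletion.ext
    intro n
    obtain ⟨k, hk⟩ := Submodule.Quotient.mk_surjective _ (x.val n)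
    have h1 : (AdicCompletion.map I i x).val n = 0 := by rw [hx]; rfl
    rw [AdicCompletion.map_val_apply, ← hk, LinearMap.reduceModIdeal_apply] at h1
    have h2 := (Submodule.Quotient.mk_eq_zero _).mp h1
    rw [← hk]
    exact (Submodule.Quotient.mk_eq_zero _).mpr (hflat _ k h2)
  have hexact : Function.Exact (AdicCompletion.map I i) (AdicCompletion.map I g) := by
    intro y
    constructor
    · intro hy
      have hk : ∀ n, ∃ k : K,
          Submodule.Quotient.mk (p := (I ^ n • ⊤ : Submodule R M)) (i k) = y.val n := by
        intro n
        obtain ⟨m, hm⟩ := Submodule.Quotient.mk_surjective _ (y.val n)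
        have h1 : (AdicCompletion.map I g y).val n = 0 := by rw [hy]; rfl
        rw [AdicCompletion.map_val_apply, ← hm, LinearMap.reduceModIdeal_apply] at h1
        have h2 : g m ∈ (I ^ n • ⊤ : Submodule R N) := (Submodule.Quotient.mk_eq_zero _).mp h1
        have h3 : g m ∈ Submodule.map g (I ^ n • ⊤ : Submodule R M) := by
          rw [Submodule.map_smul'', Submodule.map_top, LinearMap.range_eq_top.mpr hg]
          exact h2
        obtain ⟨m', hm', hgm'⟩ := h3
        have h4 : g (m - m') = 0 := by rw [map_sub, hgm', sub_self]
        obtain ⟨k, hk⟩ := (hig (m - m')).mp h4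
        refine ⟨k, ?_⟩
        rw [hk, ← hm, Submodule.Quotient.eq]
        have : m - m' - m = -m' := by abel
        rw [this]
        exact Submodule.neg_mem _ hm'
      choose kk hkk using hk
      have hcompat : ∀ {a b : ℕ} (hab : a ≤ b),
          AdicCompletion.transitionMap I K hab
            (Submodule.Quotient.mk (p := (I ^ b • ⊤ : Submodule R K)) (kk b)) =
          Submodule.Quotient.mk (p := (I ^ a • ⊤ : Submodule R K)) (kk a) := by
        intro a b hab
        change Submodule.Quotient.mk (p := (I ^ a • ⊤ : Submodule R K)) (kk b) =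
          Submodule.Quotient.mk (p := (I ^ a • ⊤ : Submodule R K)) (kk a)
        rw [Submodule.Quotient.eq]
        apply hflat
        rw [map_sub, ← Submodule.Quotient.eq]
        have := y.property hab
        rw [← hkk b, ← hkk a] at this
        exact this
      refine ⟨⟨fun n => Submodule.Quotient.mk (kk n), hcompat⟩, ?_⟩
      apply AdicCompletion.ext
      intro n
      rw [AdicCompletion.map_val_apply]
      exact hkk n
    · rintro ⟨x, rfl⟩
      rw [AdicCompletion.map_comp_apply, hig.linearMap_comp_eq_zero, AdicCompletion.map_zero]
      rfl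
  exact ⟨hinj, hexact, AdicCompletion.map_surjective I hg⟩

end Groth.Agent.S9599
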