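import Groth.Statements.S9600
import Mathlib

set_option autoImplicit false
universe u
open CAlg

namespace Groth.Agent.S9600

/-- Let R be a ring, I an ideal of R and 0 → M → N → Q → 0 a short exact sequence of R-modules in which
Q is killed by some power I^c of I. Then on I-adic completions the map M^ → N^ is injective, N^ → Q^
is surjective with kernel equal to the image of M^, and the canonical map Q → Q^ is bijective; so 0
→ M^ → N^ → Q → 0 is again short exact. -/
theorem result {R : Type u} [CommRing R] (I : Ideal R) {M N Q : Type u} [AddCommGroup M] [Module R M] [AddCommGroup N] [Module R N] [AddCommGroup Q] [Module R Q] (i : M →ₗ[R] N) (g : N →ₗ[R] Q) (hi : Function.Injective i) (hg : Function.Surjective g) (hig : Function.Exact i g) (c : ℕ) (hc : ∀ x ∈ I ^ c, ∀ q : Q, x • q = 0) :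
    Function.Injective (AdicCompletion.map I i) ∧ Function.Exact (AdicCompletion.map I i) (AdicCompletion.map I g) ∧ Function.Surjective (AdicCompletion.map I g) ∧ Function.Bijective (AdicCompletion.of I Q) := by
  classical
  have hQbot : ∀ n, c ≤ n → (I ^ n • ⊤ : Submodule R Q) = ⊥ := by
    intro n hcn
    rw [eq_bot_iff, Submodule.smul_le]
    intro r hr q _
    rw [Submodule.mem_bot]
    exact hc r (Ideal.pow_le_pow_right hcn hr) q
  have hIc : (I ^ c • ⊤ : Submodule R N) ≤ LinearMap.range i := by
    rw [Submodule.smul_le]
    intro r hr b _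
    have : g (r • b) = 0 := by rw [map_smul]; exact hc r hr _
    exact (hig _).mp this
  have hA : ∀ (n : ℕ) (b : N), b ∈ (I ^ (n + c) • ⊤ : Submodule R N) →
      ∃ a ∈ (I ^ n • ⊤ : Submodule R M), i a = b := by
    intro n b hb
    have h1 : (I ^ (n + c) • ⊤ : Submodule R N) ≤ Submodule.map i (I ^ n • ⊤ : Submodule R M) := by
      rw [pow_add, mul_smul, Submodule.map_smul'', Submodule.map_top]
      exact smul_mono_right _ hIc
    exact h1 hb
  have hinj : Function.Injective (AdicCompletion.map I i) := by
    rw [injective_iff_map_eq_zero]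
    intro x hx
    apply AdicCompletion.ext
    intro n
    obtain ⟨a, ha⟩ := Submodule.Quotient.mk_surjective _ (x.val (n + c))
    have h1 : (AdicCompletion.map I i x).val (n + c) = 0 := by rw [hx]; rfl
    rw [AdicCompletion.map_val_apply, ← ha, LinearMap.reduceModIdeal_apply] at h1
    have h2 := (Submodule.Quotient.mk_eq_zero _).mp h1
    obtain ⟨a', ha', hia'⟩ := hA n _ h2
    have haa' : a = a' := (hi hia').symm
    have h3 := x.property (show n ≤ n + c from Nat.le_add_right n c)
    rw [← h3, ← ha]
    change Submodule.Quotient.mk (p := (I ^ n • ⊤ : Submodule R M)) a = 0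
    rw [haa']
    exact (Submodule.Quotient.mk_eq_zero _).mpr ha'
  have hexact : Function.Exact (AdicCompletion.map I i) (AdicCompletion.map I g) := by
    intro y
    constructor
    · intro hy
      have hk : ∀ n, ∃ a : M,
          Submodule.Quotient.mk (p := (I ^ (n + c) • ⊤ : Submodule R N)) (i a) = y.val (n + c) := by
        intro n
        obtain ⟨b, hb⟩ := Submodule.Quotient.mk_surjective _ (y.val (n + c))
        have h1 : (AdicCompletion.map I g y).val (n + c) = 0 := by rw [hy]; rfl
        rw [AdicCompletion.map_val_apply, ← hb, LinearMap.reduceModIdeal_apply] at h1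
        have h2 : g b ∈ (I ^ (n + c) • ⊤ : Submodule R Q) := (Submodule.Quotient.mk_eq_zero _).mp h1
        rw [hQbot (n + c) (Nat.le_add_left c n), Submodule.mem_bot] at h2
        obtain ⟨a, ha⟩ := (hig b).mp h2
        exact ⟨a, by rw [ha, hb]⟩
      choose aa haa using hk
      have hlow : ∀ n, Submodule.Quotient.mk (p := (I ^ n • ⊤ : Submodule R N)) (i (aa n)) =
          y.val n := by
        intro n
        have h3 := y.property (show n ≤ n + c from Nat.le_add_right n c)
        rw [← h3, ← haa n]
        rfl
      have hcompat : ∀ {a b : ℕ} (hab : a ≤ b),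
          AdicCompletion.transitionMap I M hab
            (Submodule.Quotient.mk (p := (I ^ b • ⊤ : Submodule R M)) (aa b)) =
          Submodule.Quotient.mk (p := (I ^ a • ⊤ : Submodule R M)) (aa a) := by
        intro a b hab
        change Submodule.Quotient.mk (p := (I ^ a • ⊤ : Submodule R M)) (aa b) =
          Submodule.Quotient.mk (p := (I ^ a • ⊤ : Submodule R M)) (aa a)
        rw [Submodule.Quotient.eq]
        have h4 : i (aa b - aa a) ∈ (I ^ (a + c) • ⊤ : Submodule R N) := by
          rw [map_sub, ← Submodule.Quotient.eq]
          have h5 := y.property (show a + c ≤ b + c from Nat.add_le_add_right hab c)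
          rw [← haa b, ← haa a] at h5
          exact h5
        obtain ⟨a', ha', hia'⟩ := hA a _ h4
        rw [← hi hia']
        exact ha'
      refine ⟨⟨fun n => Submodule.Quotient.mk (aa n), hcompat⟩, ?_⟩
      apply AdicCompletion.ext
      intro n
      rw [AdicCompletion.map_val_apply]
      exact hlow n
    · rintro ⟨x, rfl⟩
      rw [AdicCompletion.map_comp_apply, hig.linearMap_comp_eq_zero, AdicCompletion.map_zero]
      rfl
  refine ⟨hinj, hexact, AdicCompletion.map_surjective I hg, ?_, ?_⟩
  · rw [injective_iff_map_eq_zero]
    intro q hq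
    have h1 : (AdicCompletion.of I Q q).val c = 0 := by rw [hq]; rfl
    rw [AdicCompletion.of_apply, Submodule.mkQ_apply, Submodule.Quotient.mk_eq_zero,
      hQbot c le_rfl, Submodule.mem_bot] at h1
    exact h1
  · intro z
    obtain ⟨q, hq⟩ := Submodule.Quotient.mk_surjective _ (z.val c)
    refine ⟨q, ?_⟩
    apply AdicCompletion.ext
    intro n
    rw [AdicCompletion.of_apply, Submodule.mkQ_apply]
    rcases le_total n c with hnc | hcn
    · have h3 := z.property hnc
      rw [← h3, ← hq]
      rfl
    · obtain ⟨q', hq'⟩ := Submodule.Quotient.mk_surjective _ (z.val n)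
      have h3 := z.property hcn
      rw [← hq', ← hq] at h3
      have h4 : Submodule.Quotient.mk (p := (I ^ c • ⊤ : Submodule R Q)) q' =
          Submodule.Quotient.mk (p := (I ^ c • ⊤ : Submodule R Q)) q := h3
      rw [Submodule.Quotient.eq, hQbot c le_rfl, Submodule.mem_bot, sub_eq_zero] at h4
      rw [← hq', h4]

end Groth.Agent.S9600
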