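import Groth.Statements.S9601
import Mathlib

set_option autoImplicit false
universe u
open CAlg

namespace Groth.Agent.S9601

/-- For a ring R, an ideal I of R and an R-module M, let M^ be the I-adic completion and K_n the kernel
of the projection M^ → M/IⁿM. The completion M^ is I-adically complete exactly when K_n = Iⁿ M^
holds for every n ≥ 1. -/
theorem result {R : Type u} [CommRing R] (I : Ideal R) (M : Type u) [AddCommGroup M] [Module R M] :
    IsAdicComplete I (AdicCompletion I M) ↔ ∀ n : ℕ, 1 ≤ n → LinearMap.ker (AdicCompletion.eval I M n) = I ^ n • (⊤ : Submodule R (AdicCompletion I M)) := by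
  classical
  have hF1 : ∀ n, (I ^ n • ⊤ : Submodule R (AdicCompletion I M)) ≤
      LinearMap.ker (AdicCompletion.eval I M n) := fun n =>
    AdicCompletion.pow_smul_top_le_ker_eval I n
  have hF1' : ∀ n (z : AdicCompletion I M),
      z ∈ (I ^ n • ⊤ : Submodule R (AdicCompletion I M)) → z.val n = 0 := fun n z hz => hF1 n hz
  have hKmono : ∀ {a b : ℕ}, a ≤ b → ∀ z : AdicCompletion I M, z.val b = 0 → z.val a = 0 := by
    intro a b hab z hz
    rw [← z.property hab, hz, map_zero]
  have hImono : ∀ {a b : ℕ}, a ≤ b →
      (I ^ b • ⊤ : Submodule R (AdicCompletion I M)) ≤ I ^ a • ⊤ := fun hab =>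
    Submodule.smul_mono_left (Ideal.pow_le_pow_right hab)
  constructor
  · intro hcomp n hn
    apply le_antisymm _ (hF1 n)
    intro x hx
    have hx0 : x.val n = 0 := hx
    have hF2 : ∀ k (z : AdicCompletion I M), z.val k = 0 →
        ∃ e ∈ (I ^ k • ⊤ : Submodule R (AdicCompletion I M)), (z - e).val (k + 1) = 0 := by
      intro k z hz
      obtain ⟨m, hm⟩ := Submodule.Quotient.mk_surjective _ (z.val (k + 1))
      have h1 : m ∈ (I ^ k • ⊤ : Submodule R M) := by
        rw [← Submodule.Quotient.mk_eq_zero]
        have := z.property (Nat.le_succ k)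
        rw [hz, ← hm] at this
        exact this
      refine ⟨AdicCompletion.of I M m, ?_, ?_⟩
      · have : Submodule.map (AdicCompletion.of I M) (I ^ k • ⊤ : Submodule R M) ≤ I ^ k • ⊤ := by
          rw [Submodule.map_smul'']
          exact smul_mono_right _ le_top
        exact this (Submodule.mem_map_of_mem h1)
      · rw [AdicCompletion.val_sub_apply, AdicCompletion.of_apply, Submodule.mkQ_apply, hm, sub_self]
    choose! ee hee1 hee2 using hF2
    let F : ℕ → AdicCompletion I M := fun j =>
      Nat.rec x (fun j z => z - ee (n + j) z) j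
    have hFs : ∀ j, F (j + 1) = F j - ee (n + j) (F j) := fun j => rfl
    have hFK : ∀ j, (F j).val (n + j) = 0 := by
      intro j
      induction j with
      | zero => exact hx0
      | succ j ih =>
        rw [hFs]
        exact hee2 (n + j) (F j) ih
    have hFstep : ∀ j, F j - F (j + 1) ∈ (I ^ (n + j) • ⊤ : Submodule R (AdicCompletion I M)) := by
      intro j
      rw [hFs, sub_sub_cancel]
      exact hee1 (n + j) (F j) (hFK j)
    have hFab : ∀ a b, a ≤ b →
        F a - F b ∈ (I ^ (n + a) • ⊤ : Submodule R (AdicCompletion I M)) := by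
      intro a b hab
      induction b, hab using Nat.le_induction with
      | base => rw [sub_self]; exact Submodule.zero_mem _
      | succ b hab ih =>
        have : F a - F (b + 1) = (F a - F b) + (F b - F (b + 1)) := by abel
        rw [this]
        exact Submodule.add_mem _ ih (hImono (Nat.add_le_add_left hab n) (hFstep b))
    obtain ⟨L, hL⟩ := hcomp.toIsPrecomplete.prec' (fun j => x - F j) (by
      intro a b hab
      rw [SModEq.sub_mem]
      have : x - F a - (x - F b) = -(F a - F b) := by abel
      rw [this]
      exact Submodule.neg_mem _ (hImono (Nat.le_add_left a n) (hFab a b hab)))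
    have hxL : x = L := by
      rw [← sub_eq_zero]
      apply AdicCompletion.ext
      intro j
      have h1 : ((x - F j) - L).val j = 0 := hF1' j _ (SModEq.sub_mem.mp (hL j))
      have h2 : (F j).val j = 0 := hKmono (Nat.le_add_left j n) _ (hFK j)
      have : x - L = ((x - F j) - L) + F j := by abel
      rw [this, AdicCompletion.val_add_apply, h1, h2, add_zero]
      rfl
    rw [hxL]
    have h3 : (x - F n) - L ∈ (I ^ n • ⊤ : Submodule R (AdicCompletion I M)) :=
      SModEq.sub_mem.mp (hL n)
    have h4 : x - F n ∈ (I ^ n • ⊤ : Submodule R (AdicCompletion I M)) := by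
      have := hFab 0 n (Nat.zero_le n)
      rw [Nat.add_zero] at this
      exact this
    have : L = (x - F n) - ((x - F n) - L) := by abel
    rw [this]
    exact Submodule.sub_mem _ h4 h3
  · intro h
    have h' : ∀ n (z : AdicCompletion I M), z.val n = 0 →
        z ∈ (I ^ n • ⊤ : Submodule R (AdicCompletion I M)) := by
      intro n z hz
      rcases Nat.eq_zero_or_pos n with rfl | hn
      · simp
      · rw [← h n hn]
        exact hz
    refine { haus' := ?_, prec' := ?_ }
    · intro x hx
      apply AdicCompletion.ext
      intro n
      have := SModEq.sub_mem.mp (hx n)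
      rw [sub_zero] at this
      exact hF1' n x this
    · intro f hf
      have hcompat : ∀ {a b : ℕ} (hab : a ≤ b),
          AdicCompletion.transitionMap I M hab ((f b).val b) = (f a).val a := by
        intro a b hab
        rw [(f b).property hab]
        have h1 := hF1' a _ (SModEq.sub_mem.mp (hf hab))
        rw [AdicCompletion.val_sub_apply, sub_eq_zero] at h1
        exact h1.symm
      refine ⟨⟨fun n => (f n).val n, hcompat⟩, ?_⟩
      intro n
      rw [SModEq.sub_mem]
      apply h'
      rw [AdicCompletion.val_sub_apply, sub_self]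

end Groth.Agent.S9601
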