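import Groth.Statements.S9602
import Mathlib

set_option autoImplicit false
universe u
open CAlg

namespace Groth.Agent.S9602

theorem key {R : Type u} [CommRing R] (I J : Ideal R) (n : ℕ) (hn : n ≠ 0) (hJ : J = I ^ n) (r : R) :
    IsUnit (Ideal.Quotient.mk J r) ↔ IsUnit (Ideal.Quotient.mk I r) := by
  subst hJ
  exact Ideal.Quotient.isUnit_mk_pow_iff_isUnit_mk I hn

theorem unit_of_vals {R : Type u} [CommRing R] (I : Ideal R) (x : AdicCompletion I R)
    (hu : ∀ n, IsUnit (x.val n)) : IsUnit x := by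
  have hcompat : ∀ {m n : ℕ} (hmn : m ≤ n),
      AdicCompletion.transitionMap I R hmn (((hu n).unit⁻¹ : (R ⧸ (I ^ n • ⊤ : Ideal R))ˣ) :
        R ⧸ (I ^ n • ⊤ : Ideal R)) = (((hu m).unit⁻¹ : (R ⧸ (I ^ m • ⊤ : Ideal R))ˣ) :
        R ⧸ (I ^ m • ⊤ : Ideal R)) := by
    intro m n hmn
    apply (hu m).mul_left_cancel
    have h1 : x.val m = AdicCompletion.transitionMapₐ I hmn (x.val n) := (x.property hmn).symm
    have h2 : x.val m * (((hu m).unit⁻¹ : (R ⧸ (I ^ m • ⊤ : Ideal R))ˣ) :
        R ⧸ (I ^ m • ⊤ : Ideal R)) = 1 := (hu m).mul_val_inv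
    rw [h2, h1]
    change AdicCompletion.transitionMapₐ I hmn (x.val n) * AdicCompletion.transitionMapₐ I hmn _ = 1
    rw [← map_mul, (hu n).mul_val_inv, map_one]
  let y : AdicCompletion I R := ⟨fun n => (((hu n).unit⁻¹ : (R ⧸ (I ^ n • ⊤ : Ideal R))ˣ) :
        R ⧸ (I ^ n • ⊤ : Ideal R)), fun hmn => hcompat hmn⟩
  refine IsUnit.of_mul_eq_one y ?_
  apply AdicCompletion.ext
  intro n
  exact (hu n).mul_val_inv

theorem part1 {R : Type u} [CommRing R] (I : Ideal R) (x : AdicCompletion I R)
    (hx : IsUnit (AdicCompletion.evalOneₐ I x)) : IsUnit x := by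
  apply unit_of_vals
  obtain ⟨a, rfl⟩ := AdicCompletion.mk_surjective I R x
  have h1 : AdicCompletion.evalOneₐ I (AdicCompletion.mk I R a) = Ideal.Quotient.mk I (a 1) := by
    rw [← AdicCompletion.factorₐ_evalₐ_one, AdicCompletion.evalₐ_mk]
    rfl
  rw [h1] at hx
  intro n
  rcases Nat.eq_zero_or_pos n with rfl | hn
  · have : Subsingleton (R ⧸ (I ^ 0 • ⊤ : Ideal R)) := by
      rw [Ideal.Quotient.subsingleton_iff]
      simp
    exact isUnit_of_subsingleton _
  · have h2 : (AdicCompletion.mk I R a).val n = Ideal.Quotient.mk (I ^ n • ⊤ : Ideal R) (a n) := rfl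
    rw [h2, key I (I ^ n • ⊤ : Ideal R) n hn.ne' (by simp) (a n)]
    have h3 : Ideal.Quotient.mk I (a n) = Ideal.Quotient.mk I (a 1) := by
      rw [Ideal.Quotient.eq]
      have := a.property (show 1 ≤ n from hn)
      rw [SModEq.sub_mem] at this
      have h4 : a n - a 1 ∈ (I ^ 1 • ⊤ : Submodule R R) := by
        rw [← neg_sub]; exact neg_mem this
      simpa using h4
    rw [h3]; exact hx

/-- Let R be a ring, I an ideal of R and R^ = lim R/Iⁿ the I-adic completion. An element of R^ whose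
image in R/I is invertible is itself invertible in R^; and the kernel of R^ → R/I as well as the
extended ideal I R^ both lie inside the Jacobson radical of R^. -/
theorem result {R : Type u} [CommRing R] (I : Ideal R) :
    (∀ x : AdicCompletion I R, IsUnit (AdicCompletion.evalOneₐ I x) → IsUnit x) ∧
      RingHom.ker (AdicCompletion.evalOneₐ I).toRingHom ≤ (⊥ : Ideal (AdicCompletion I R)).jacobson ∧
      I.map (algebraMap R (AdicCompletion I R)) ≤ (⊥ : Ideal (AdicCompletion I R)).jacobson := by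
  have hker : RingHom.ker (AdicCompletion.evalOneₐ I).toRingHom ≤
      (⊥ : Ideal (AdicCompletion I R)).jacobson := by
    intro z hz
    rw [Ideal.mem_jacobson_bot]
    intro y
    apply part1
    have hz' : AdicCompletion.evalOneₐ I z = 0 := hz
    rw [map_add, map_mul, hz', zero_mul, zero_add, map_one]
    exact isUnit_one
  refine ⟨part1 I, hker, le_trans ?_ hker⟩
  rw [Ideal.map_le_iff_le_comap]
  intro r hr
  rw [Ideal.mem_comap, RingHom.mem_ker]
  have := RingHom.congr_fun (AdicCompletion.evalOneₐ_comp_algebraMap_eq_mk I) r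
  simp only [RingHom.comp_apply] at this
  rw [this]
  exact Ideal.Quotient.eq_zero_iff_mem.mpr hr

end Groth.Agent.S9602
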