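import Groth.Statements.S9603
import Mathlib

set_option autoImplicit false
universe u
open CAlg

namespace Groth.Agent.S9603

/-- For a ring A, elements f_1, …, f_r generating an ideal I and an A-module M, if the canonical map
from M to its (f_i)-adic completion is surjective for every i, then the canonical map from M to its
I-adic completion is surjective. -/
theorem result {A : Type u} [CommRing A] {r : ℕ} (f : Fin r → A) (M : Type u) [AddCommGroup M] [Module A M] (h : ∀ i, Function.Surjective (AdicCompletion.of (Ideal.span {f i}) M)) :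
    Function.Surjective (AdicCompletion.of (Ideal.span (Set.range f)) M) := by
  classical
  have two : ∀ I J : Ideal A, Function.Surjective (AdicCompletion.of I M) →
      Function.Surjective (AdicCompletion.of J M) →
      Function.Surjective (AdicCompletion.of (I ⊔ J) M) := by
    intro I J hI hJ z
    obtain ⟨s, rfl⟩ := AdicCompletion.mk_surjective (I ⊔ J) M z
    have hs : ∀ {a b : ℕ}, a ≤ b → s a - s b ∈ ((I ⊔ J) ^ a • ⊤ : Submodule A M) := fun hab =>
      SModEq.sub_mem.mp (s.property hab)
    have hd : ∀ n, ∃ a ∈ (I ^ n • ⊤ : Submodule A M), ∃ b ∈ (J ^ n • ⊤ : Submodule A M),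
        a + b = s (2 * (n + 1)) - s (2 * n) := by
      intro n
      have h1 : s (2 * (n + 1)) - s (2 * n) ∈ ((I ⊔ J) ^ (2 * n) • ⊤ : Submodule A M) := by
        have := hs (show 2 * n ≤ 2 * (n + 1) by omega)
        have h2 : s (2 * (n + 1)) - s (2 * n) = -(s (2 * n) - s (2 * (n + 1))) := by abel
        rw [h2]; exact Submodule.neg_mem _ this
      have h3 : ((I ⊔ J) ^ (2 * n) • ⊤ : Submodule A M) ≤ I ^ n • ⊤ ⊔ J ^ n • ⊤ := by
        rw [← Submodule.sup_smul, two_mul]
        exact Submodule.smul_mono_left Ideal.sup_pow_add_le_pow_sup_pow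
      exact Submodule.mem_sup.mp (h3 h1)
    choose a ha b hb hab using hd
    let SA : ℕ → M := fun N => ∑ n ∈ Finset.range N, a n
    let SB : ℕ → M := fun N => ∑ n ∈ Finset.range N, b n
    have hSA : ∀ n, SA n ≡ SA (n + 1) [SMOD (I ^ n • ⊤ : Submodule A M)] := by
      intro n
      rw [SModEq.sub_mem]
      have : SA n - SA (n + 1) = - a n := by
        simp only [SA, Finset.sum_range_succ]; abel
      rw [this]; exact Submodule.neg_mem _ (ha n)
    have hSB : ∀ n, SB n ≡ SB (n + 1) [SMOD (J ^ n • ⊤ : Submodule A M)] := by
      intro n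
      rw [SModEq.sub_mem]
      have : SB n - SB (n + 1) = - b n := by
        simp only [SB, Finset.sum_range_succ]; abel
      rw [this]; exact Submodule.neg_mem _ (hb n)
    obtain ⟨α, hα⟩ := hI (AdicCompletion.mk I M (AdicCompletion.AdicCauchySequence.mk I M SA hSA))
    obtain ⟨β, hβ⟩ := hJ (AdicCompletion.mk J M (AdicCompletion.AdicCauchySequence.mk J M SB hSB))
    have hα' : ∀ N, α - SA N ∈ (I ^ N • ⊤ : Submodule A M) := by
      intro N
      have := congrArg (fun w => w.val N) hα
      simp only [AdicCompletion.of_apply, AdicCompletion.mk_apply_coe, Submodule.mkQ_apply] at this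
      exact (Submodule.Quotient.eq _).mp this
    have hβ' : ∀ N, β - SB N ∈ (J ^ N • ⊤ : Submodule A M) := by
      intro N
      have := congrArg (fun w => w.val N) hβ
      simp only [AdicCompletion.of_apply, AdicCompletion.mk_apply_coe, Submodule.mkQ_apply] at this
      exact (Submodule.Quotient.eq _).mp this
    have htel : ∀ N, s (2 * N) = s 0 + SA N + SB N := by
      intro N
      induction N with
      | zero => simp [SA, SB]
      | succ N ih =>
        have h2 : s (2 * (N + 1)) = s (2 * N) + (a N + b N) := by rw [hab N]; abel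
        rw [h2, ih]
        simp only [SA, SB, Finset.sum_range_succ]
        abel
    refine ⟨s 0 + α + β, ?_⟩
    apply AdicCompletion.ext
    intro N
    rw [AdicCompletion.of_apply, AdicCompletion.mk_apply_coe, Submodule.mkQ_apply,
      Submodule.mkQ_apply, Submodule.Quotient.eq]
    have h1 : s 0 + α + β - s N = (α - SA N) + (β - SB N) + (s (2 * N) - s N) := by
      rw [htel N]; abel
    rw [h1]
    refine Submodule.add_mem _ (Submodule.add_mem _ ?_ ?_) ?_
    · exact Submodule.smul_mono_left (Ideal.pow_right_mono le_sup_left N) (hα' N)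
    · exact Submodule.smul_mono_left (Ideal.pow_right_mono le_sup_right N) (hβ' N)
    · have := hs (show N ≤ 2 * N by omega)
      have h2 : s (2 * N) - s N = -(s N - s (2 * N)) := by abel
      rw [h2]; exact Submodule.neg_mem _ this
  have base : Function.Surjective (AdicCompletion.of (⊥ : Ideal A) M) := by
    intro z
    obtain ⟨s, rfl⟩ := AdicCompletion.mk_surjective ⊥ M z
    refine ⟨s 1, ?_⟩
    apply AdicCompletion.ext
    intro N
    rw [AdicCompletion.of_apply, AdicCompletion.mk_apply_coe, Submodule.mkQ_apply,
      Submodule.mkQ_apply, Submodule.Quotient.eq]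
    rcases Nat.eq_zero_or_pos N with rfl | hN
    · simp
    · have := SModEq.sub_mem.mp (s.property (show 1 ≤ N from hN))
      have h2 : ((⊥ : Ideal A) ^ 1 • ⊤ : Submodule A M) = ⊥ := by simp
      rw [h2, Submodule.mem_bot] at this
      rw [this]
      exact Submodule.zero_mem _
  have hspan : Ideal.span (Set.range f) = Finset.univ.sup (fun i => Ideal.span {f i}) := by
    rw [Finset.sup_univ_eq_iSup, Ideal.span, Submodule.span_range_eq_iSup]
  rw [hspan]
  exact Finset.sup_induction (p := fun I : Ideal A => Function.Surjective (AdicCompletion.of I M))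
    base (fun I hI J hJ => two I J hI hJ) (fun i _ => h i)

end Groth.Agent.S9603
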