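import Groth.Statements.S9605
import Mathlib

set_option autoImplicit false
universe u
open CAlg

namespace Groth.Agent.S9605

theorem precomplete_quot {R : Type u} [CommRing R] (I : Ideal R) (M : Type u) [AddCommGroup M]
    [Module R M] [IsPrecomplete I M] (K : Submodule R M) : IsPrecomplete I (M ⧸ K) := by
  rw [← AdicCompletion.of_surjective_iff]
  intro y
  obtain ⟨z, rfl⟩ := AdicCompletion.map_surjective I (Submodule.mkQ_surjective K) y
  obtain ⟨m, rfl⟩ := AdicCompletion.of_surjective I M z
  exact ⟨K.mkQ m, (AdicCompletion.map_of I K.mkQ m).symm⟩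

theorem mem_iff {R : Type u} [CommRing R] (I : Ideal R) (M : Type u) [AddCommGroup M]
    [Module R M] (K : Submodule R M) (n : ℕ) (x : M) :
    K.mkQ x ∈ (I ^ n • ⊤ : Submodule R (M ⧸ K)) ↔ x ∈ K ⊔ I ^ n • (⊤ : Submodule R M) := by
  have h1 : (I ^ n • ⊤ : Submodule R (M ⧸ K)) = Submodule.map K.mkQ (I ^ n • ⊤) := by
    rw [Submodule.map_smul'', Submodule.map_top, Submodule.range_mkQ]
  rw [h1]
  constructor
  · rintro ⟨y, hy, hxy⟩
    have : x - y ∈ K := by
      rw [← Submodule.Quotient.mk_eq_zero, Submodule.Quotient.mk_sub]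
      exact sub_eq_zero.mpr hxy.symm
    have hx : x = (x - y) + y := by abel
    rw [hx]
    exact Submodule.add_mem_sup this hy
  · intro hx
    obtain ⟨k, hk, y, hy, rfl⟩ := Submodule.mem_sup.mp hx
    refine ⟨y, hy, ?_⟩
    have hk0 : K.mkQ k = 0 := (Submodule.Quotient.mk_eq_zero K).mpr hk
    rw [map_add, hk0, zero_add]

/-- For a ring R, an ideal I of R, an I-adically complete R-module M and a submodule K of M, the
quotient M/K is I-adically complete if and only if K = ⋂ₙ (K + IⁿM). -/
theorem result {R : Type u} [CommRing R] (I : Ideal R) (M : Type u) [AddCommGroup M] [Module R M] [IsAdicComplete I M] (K : Submodule R M) :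
    IsAdicComplete I (M ⧸ K) ↔ K = ⨅ n : ℕ, K ⊔ I ^ n • (⊤ : Submodule R M) := by
  constructor
  · intro h
    apply le_antisymm
    · exact le_iInf fun n => le_sup_left
    · intro x hx
      rw [Submodule.mem_iInf] at hx
      rw [← Submodule.Quotient.mk_eq_zero]
      apply h.toIsHausdorff.haus
      intro n
      rw [SModEq.zero]
      exact (mem_iff I M K n x).mpr (hx n)
  · intro h
    have hP : IsPrecomplete I (M ⧸ K) := precomplete_quot I M K
    have hH : IsHausdorff I (M ⧸ K) := by
      refine ⟨fun y hy => ?_⟩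
      obtain ⟨x, rfl⟩ := Submodule.mkQ_surjective K y
      rw [Submodule.mkQ_apply, Submodule.Quotient.mk_eq_zero, h, Submodule.mem_iInf]
      intro n
      have := hy n
      rw [SModEq.zero] at this
      exact (mem_iff I M K n x).mp this
    exact { toIsHausdorff := hH, toIsPrecomplete := hP }

end Groth.Agent.S9605
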