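import Groth.Statements.S9606
import Mathlib

set_option autoImplicit false
universe u
open CAlg

namespace Groth.Agent.S9606

/-- Let R → S be a ring map with locally nilpotent kernel such that S is generated over R by elements x
with x² and x³ in the image of R. Then the induced map on spectra is a homeomorphism and every
residue field map κ(p) → κ(q), for q a prime of S with inverse image p, is bijective. -/
theorem result {R S : Type u} [CommRing R] [CommRing S] [Algebra R S]
    (hgen : Algebra.adjoin R {x : S | x ^ 2 ∈ Set.range (algebraMap R S) ∧ x ^ 3 ∈ Set.range (algebraMap R S)} = ⊤)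
    (hker : ∀ r : R, algebraMap R S r = 0 → IsNilpotent r) :
    IsHomeomorph (PrimeSpectrum.comap (algebraMap R S)) ∧
      ∀ (q : Ideal S) [q.IsPrime], Function.Bijective (Ideal.ResidueField.map (q.comap (algebraMap R S)) q (algebraMap R S) rfl) := by
  classical
  -- the key approximation property
  have key : ∀ (p : Ideal R) [p.IsPrime] (J : Ideal S),
      (∀ x : S, ∀ a' : R, x ^ 2 = algebraMap R S a' → a' ∈ p → x ∈ J) →
      ∀ s : S, ∃ a : R, a ∉ p ∧ ∃ r : R, algebraMap R S a * s - algebraMap R S r ∈ J := by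
    intro p hp J hJ s
    have hs : s ∈ Algebra.adjoin R {x : S | x ^ 2 ∈ Set.range (algebraMap R S) ∧
        x ^ 3 ∈ Set.range (algebraMap R S)} := by rw [hgen]; trivial
    induction hs using Algebra.adjoin_induction with
    | mem x hx =>
      obtain ⟨⟨a', ha'⟩, ⟨b', hb'⟩⟩ := hx
      by_cases hap : a' ∈ p
      · refine ⟨1, fun h => hp.ne_top ((Ideal.eq_top_iff_one p).mpr h), 0, ?_⟩
        simpa using hJ x a' ha'.symm hap
      · refine ⟨a', hap, b', ?_⟩
        rw [ha', hb']
        have : x ^ 2 * x - x ^ 3 = 0 := by ring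
        rw [this]; exact J.zero_mem
    | algebraMap r₀ =>
      refine ⟨1, fun h => hp.ne_top ((Ideal.eq_top_iff_one p).mpr h), r₀, ?_⟩
      simp
    | add s₁ s₂ _ _ h₁ h₂ =>
      obtain ⟨a₁, ha₁, r₁, hr₁⟩ := h₁
      obtain ⟨a₂, ha₂, r₂, hr₂⟩ := h₂
      refine ⟨a₁ * a₂, fun h => (hp.mem_or_mem h).elim ha₁ ha₂, a₂ * r₁ + a₁ * r₂, ?_⟩
      have : algebraMap R S (a₁ * a₂) * (s₁ + s₂) - algebraMap R S (a₂ * r₁ + a₁ * r₂) =
          algebraMap R S a₂ * (algebraMap R S a₁ * s₁ - algebraMap R S r₁) +
          algebraMap R S a₁ * (algebraMap R S a₂ * s₂ - algebraMap R S r₂) := by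
        simp only [map_mul, map_add]; ring
      rw [this]
      exact J.add_mem (J.mul_mem_left _ hr₁) (J.mul_mem_left _ hr₂)
    | mul s₁ s₂ _ _ h₁ h₂ =>
      obtain ⟨a₁, ha₁, r₁, hr₁⟩ := h₁
      obtain ⟨a₂, ha₂, r₂, hr₂⟩ := h₂
      refine ⟨a₁ * a₂, fun h => (hp.mem_or_mem h).elim ha₁ ha₂, r₁ * r₂, ?_⟩
      have : algebraMap R S (a₁ * a₂) * (s₁ * s₂) - algebraMap R S (r₁ * r₂) =
          (algebraMap R S a₂ * s₂) * (algebraMap R S a₁ * s₁ - algebraMap R S r₁) +
          algebraMap R S r₁ * (algebraMap R S a₂ * s₂ - algebraMap R S r₂) := by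
        simp only [map_mul]; ring
      rw [this]
      exact J.add_mem (J.mul_mem_left _ hr₁) (J.mul_mem_left _ hr₂)
  -- integrality
  haveI hint : Algebra.IsIntegral R S := by
    refine ⟨fun s => ?_⟩
    have hle : Algebra.adjoin R {x : S | x ^ 2 ∈ Set.range (algebraMap R S) ∧
        x ^ 3 ∈ Set.range (algebraMap R S)} ≤ integralClosure R S := by
      apply Algebra.adjoin_le
      rintro x ⟨⟨a', ha'⟩, _⟩
      exact IsIntegral.of_pow (n := 2) (by norm_num) (ha' ▸ isIntegral_algebraMap)
    rw [hgen] at hle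
    exact hle trivial
  -- key consequence for a single prime
  have hq_key : ∀ (q : Ideal S) [q.IsPrime], ∀ s : S, ∃ a : R, a ∉ q.comap (algebraMap R S) ∧
      ∃ r : R, algebraMap R S a * s - algebraMap R S r ∈ q := by
    intro q hq s
    refine key (q.comap (algebraMap R S)) q ?_ s
    intro x a' hx ha'
    have : x ^ 2 ∈ q := by rw [hx]; exact ha'
    exact hq.mem_of_pow_mem 2 this
  refine ⟨?_, ?_⟩
  · rw [isHomeomorph_iff_continuous_isClosedMap_bijective]
    refine ⟨PrimeSpectrum.continuous_comap (algebraMap R S),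
      PrimeSpectrum.isClosedMap_comap_of_isIntegral _ (algebraMap_isIntegral_iff.mpr hint), ?_, ?_⟩
    · -- injective
      intro q q' hqq'
      have hcomap : q.asIdeal.comap (algebraMap R S) = q'.asIdeal.comap (algebraMap R S) :=
        congrArg PrimeSpectrum.asIdeal hqq'
      have hsub : ∀ (q₁ q₂ : PrimeSpectrum S),
          q₁.asIdeal.comap (algebraMap R S) = q₂.asIdeal.comap (algebraMap R S) →
          q₁.asIdeal ≤ q₂.asIdeal := by
        intro q₁ q₂ h12 s hs
        haveI := q₁.isPrime
        haveI := q₂.isPrime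
        obtain ⟨a, ha, r, hr⟩ := key (q₁.asIdeal.comap (algebraMap R S)) (q₁.asIdeal ⊓ q₂.asIdeal)
          (by
            intro x a' hx ha'
            have h1 : x ^ 2 ∈ q₁.asIdeal := by rw [hx]; exact ha'
            have h2 : x ^ 2 ∈ q₂.asIdeal := by
              rw [hx]
              have : a' ∈ q₂.asIdeal.comap (algebraMap R S) := h12 ▸ ha'
              exact this
            exact ⟨q₁.isPrime.mem_of_pow_mem 2 h1, q₂.isPrime.mem_of_pow_mem 2 h2⟩) s
        have hr1 : algebraMap R S r ∈ q₁.asIdeal := by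
          have := q₁.asIdeal.sub_mem (q₁.asIdeal.mul_mem_left (algebraMap R S a) hs) hr.1
          simpa using this
        have hr2 : algebraMap R S r ∈ q₂.asIdeal := by
          have : r ∈ q₂.asIdeal.comap (algebraMap R S) := h12 ▸ hr1
          exact this
        have has : algebraMap R S a * s ∈ q₂.asIdeal := by
          have := q₂.asIdeal.add_mem hr.2 hr2
          simpa using this
        rcases q₂.isPrime.mem_or_mem has with h | h
        · exact absurd (show a ∈ q₁.asIdeal.comap (algebraMap R S) from h12 ▸ h) ha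
        · exact h
      exact PrimeSpectrum.ext (le_antisymm (hsub q q' hcomap) (hsub q' q hcomap.symm))
    · -- surjective
      intro p
      haveI := p.isPrime
      obtain ⟨Q, -, hQ, hQp⟩ := Ideal.exists_ideal_over_prime_of_isIntegral p.asIdeal (⊥ : Ideal S)
        (by
          intro r hr
          have : algebraMap R S r = 0 := by simpa [Ideal.mem_comap] using hr
          obtain ⟨k, hk⟩ := hker r this
          exact p.isPrime.mem_of_pow_mem k (hk ▸ p.asIdeal.zero_mem))
      exact ⟨⟨Q, hQ⟩, PrimeSpectrum.ext hQp⟩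
  · intro q hq
    refine ⟨RingHom.injective _, ?_⟩
    intro z
    obtain ⟨y, rfl⟩ := IsLocalRing.residue_surjective z
    obtain ⟨s, t, rfl⟩ := IsLocalization.exists_mk'_eq q.primeCompl y
    obtain ⟨a₁, ha₁, r₁, hr₁⟩ := hq_key q s
    obtain ⟨a₂, ha₂, r₂, hr₂⟩ := hq_key q (t : S)
    set ι := algebraMap S q.ResidueField with hι
    set ρ := algebraMap R (q.comap (algebraMap R S)).ResidueField with hρ
    have hιzero : ∀ u : S, ι u = 0 ↔ u ∈ q := fun u => Ideal.algebraMap_residueField_eq_zero
    have hmapρ : ∀ r : R, Ideal.ResidueField.map (q.comap (algebraMap R S)) q (algebraMap R S) rfl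
        (ρ r) = ι (algebraMap R S r) := fun r => Ideal.ResidueField.map_algebraMap _ _ _ _ r
    have hz : IsLocalRing.residue _ (IsLocalization.mk' (Localization.AtPrime q) s t) * ι t =
        ι s := by
      rw [hι, IsScalarTower.algebraMap_apply S (Localization.AtPrime q) q.ResidueField,
        IsScalarTower.algebraMap_apply S (Localization.AtPrime q) q.ResidueField,
        IsLocalRing.ResidueField.algebraMap_eq, ← map_mul, IsLocalization.mk'_spec]
    have hιt : ι t ≠ 0 := fun h => t.2 ((hιzero _).mp h)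
    have hιa₁ : ι (algebraMap R S a₁) ≠ 0 := fun h => ha₁ ((hιzero _).mp h)
    have hιa₂ : ι (algebraMap R S a₂) ≠ 0 := fun h => ha₂ ((hιzero _).mp h)
    have h1 : ι (algebraMap R S a₁) * ι s = ι (algebraMap R S r₁) := by
      have := (hιzero _).mpr hr₁
      rw [map_sub, map_mul, sub_eq_zero] at this
      exact this
    have h2 : ι (algebraMap R S a₂) * ι t = ι (algebraMap R S r₂) := by
      have := (hιzero _).mpr hr₂
      rw [map_sub, map_mul, sub_eq_zero] at this
      exact this
    have hιr₂ : ι (algebraMap R S r₂) ≠ 0 := by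
      rw [← h2]; exact mul_ne_zero hιa₂ hιt
    refine ⟨(ρ r₁ * ρ a₂) / (ρ a₁ * ρ r₂), ?_⟩
    rw [map_div₀, map_mul, map_mul, hmapρ, hmapρ, hmapρ, hmapρ]
    rw [div_eq_iff (mul_ne_zero hιa₁ hιr₂)]
    have : IsLocalRing.residue _ (IsLocalization.mk' (Localization.AtPrime q) s t) =
        ι s / ι t := by
      rw [eq_div_iff hιt]; exact hz
    rw [this, ← h1, ← h2]
    field_simp

end Groth.Agent.S9606
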