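import Groth.Statements.S9607
import Mathlib

set_option autoImplicit false
universe u
open CAlg

namespace Groth.Agent.S9607

/-- For a prime number p and integers n, m > 0 there exists an integer a such that (x + y)^(p^a) and p^a
(x + y) both belong to the subring ℤ[x^(p^n), p^n x, y^(p^m), p^m y] of the polynomial ring ℤ[x, y]. -/
theorem result (p : ℕ) (hp : p.Prime) (n m : ℕ) (hn : 0 < n) (hm : 0 < m) :
    ∃ a : ℕ, ((MvPolynomial.X 0 + MvPolynomial.X 1 : MvPolynomial (Fin 2) ℤ) ^ (p ^ a) ∈ Algebra.adjoin ℤ ({MvPolynomial.X 0 ^ (p ^ n), (p : MvPolynomial (Fin 2) ℤ) ^ n * MvPolynomial.X 0, MvPolynomial.X 1 ^ (p ^ m), (p : MvPolynomial (Fin 2) ℤ) ^ m * MvPolynomial.X 1} : Set (MvPolynomial (Fin 2) ℤ)) ∧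
      (p : MvPolynomial (Fin 2) ℤ) ^ a * (MvPolynomial.X 0 + MvPolynomial.X 1) ∈ Algebra.adjoin ℤ ({MvPolynomial.X 0 ^ (p ^ n), (p : MvPolynomial (Fin 2) ℤ) ^ n * MvPolynomial.X 0, MvPolynomial.X 1 ^ (p ^ m), (p : MvPolynomial (Fin 2) ℤ) ^ m * MvPolynomial.X 1} : Set (MvPolynomial (Fin 2) ℤ))) := by
  classical
  set C := MvPolynomial (Fin 2) ℤ with hC
  set x : C := MvPolynomial.X 0 with hx
  set y : C := MvPolynomial.X 1 with hy
  set P : C := (p : C) with hPdef
  set B : Subalgebra ℤ C := Algebra.adjoin ℤ ({x ^ (p ^ n), P ^ n * x, y ^ (p ^ m), P ^ m * y} : Set C)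
    with hB
  have hg1 : x ^ (p ^ n) ∈ B := Algebra.subset_adjoin (by simp)
  have hg2 : P ^ n * x ∈ B := Algebra.subset_adjoin (by simp)
  have hg3 : y ^ (p ^ m) ∈ B := Algebra.subset_adjoin (by simp)
  have hg4 : P ^ m * y ∈ B := Algebra.subset_adjoin (by simp)
  have hPB : P ∈ B := by
    have : P = algebraMap ℤ C (p : ℤ) := by simp [hPdef]
    rw [this]
    exact Subalgebra.algebraMap_mem B _
  -- generic step
  have stepA : ∀ (z : C) (t : ℕ), 0 < t → z ^ (p ^ t) ∈ B → P ^ t * z ∈ B →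
      ∀ k : ℕ, P ^ (t * p ^ t) * z ^ k ∈ B := by
    intro z t ht h1 h2 k
    have hpt : 0 < p ^ t := pow_pos hp.pos t
    have hr : k % p ^ t < p ^ t := Nat.mod_lt _ hpt
    have hle : t * (k % p ^ t) ≤ t * p ^ t := Nat.mul_le_mul_left t hr.le
    have hk : k = p ^ t * (k / p ^ t) + k % p ^ t := (Nat.div_add_mod k (p ^ t)).symm
    have : P ^ (t * p ^ t) * z ^ k =
        P ^ (t * p ^ t - t * (k % p ^ t)) * (z ^ (p ^ t)) ^ (k / p ^ t) * (P ^ t * z) ^ (k % p ^ t) := by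
      conv_lhs => rw [hk, ← Nat.sub_add_cancel hle]
      rw [pow_add, pow_add, pow_mul, mul_pow, pow_mul]
      ring
    rw [this]
    exact B.mul_mem (B.mul_mem (B.pow_mem hPB _) (B.pow_mem h1 _)) (B.pow_mem h2 _)
  set N₁ := n * p ^ n with hN₁
  set N₂ := m * p ^ m with hN₂
  set N := N₁ + N₂ with hN
  have hA : ∀ k, P ^ N₁ * x ^ k ∈ B := stepA x n hn hg1 hg2
  have hA' : ∀ k, P ^ N₂ * y ^ k ∈ B := stepA y m hm hg3 hg4
  have stepC : ∀ c : C, P ^ N * c ∈ B := by
    intro c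
    induction c using MvPolynomial.induction_on' with
    | monomial u a =>
      have h1 : (MvPolynomial.monomial u a : C) = MvPolynomial.C a * (x ^ u 0 * y ^ u 1) := by
        rw [MvPolynomial.monomial_eq, Finsupp.prod_fintype _ _ (fun i => pow_zero _),
          Fin.prod_univ_two]
      have h2 : (MvPolynomial.C a : C) ∈ B := by
        rw [← MvPolynomial.algebraMap_eq]
        exact Subalgebra.algebraMap_mem B _
      have h3 : P ^ N * (MvPolynomial.monomial u a : C) =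
          MvPolynomial.C a * ((P ^ N₁ * x ^ u 0) * (P ^ N₂ * y ^ u 1)) := by
        rw [h1, hN, pow_add]; ring
      rw [h3]
      exact B.mul_mem h2 (B.mul_mem (hA _) (hA' _))
    | add f g hf hg =>
      rw [mul_add]
      exact B.add_mem hf hg
  set e := max n m with he
  have hxe : x ^ (p ^ e) ∈ B := by
    have : x ^ (p ^ e) = (x ^ (p ^ n)) ^ (p ^ (e - n)) := by
      rw [← pow_mul, ← pow_add, Nat.add_sub_cancel' (le_max_left n m)]
    rw [this]; exact B.pow_mem hg1 _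
  have hye : y ^ (p ^ e) ∈ B := by
    have : y ^ (p ^ e) = (y ^ (p ^ m)) ^ (p ^ (e - m)) := by
      rw [← pow_mul, ← pow_add, Nat.add_sub_cancel' (le_max_right n m)]
    rw [this]; exact B.pow_mem hg3 _
  refine ⟨e + N, ?_, ?_⟩
  · obtain ⟨w, hw⟩ := exists_add_pow_prime_pow_eq hp x y e
    have hdvd : (p : C) ∣ (x + y) ^ p ^ e - (x ^ p ^ e + y ^ p ^ e) := by
      refine ⟨x * y * w, ?_⟩
      rw [hw]; ring
    obtain ⟨w', hw'⟩ := dvd_sub_pow_of_dvd_sub hdvd N
    have h1 : (x + y) ^ p ^ (e + N) = (x ^ p ^ e + y ^ p ^ e) ^ p ^ N + P ^ N * (P * w') := by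
      rw [pow_add, pow_mul]
      have : ((x + y) ^ p ^ e) ^ p ^ N =
          (x ^ p ^ e + y ^ p ^ e) ^ p ^ N + (p : C) ^ (N + 1) * w' := by
        rw [← hw']; ring
      rw [this, pow_succ]
      ring
    rw [h1]
    exact B.add_mem (B.pow_mem (B.add_mem hxe hye) _) (stepC _)
  · have : P ^ (e + N) * (x + y) = P ^ N * (P ^ e * (x + y)) := by
      rw [pow_add]; ring
    rw [this]
    exact stepC _

end Groth.Agent.S9607
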