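import Groth.Statements.S9608
import Mathlib

set_option autoImplicit false
universe u
open CAlg

namespace Groth.Agent.S9608

/-- Let k'/k be a field extension and p a prime number. Then k' is generated over k by elements x for
which some n > 0 has x^(p^n) ∈ k and p^n x ∈ k, if and only if either k' = k, or k has
characteristic p and k'/k is purely inseparable. -/
theorem result {k k' : Type u} [Field k] [Field k'] [Algebra k k'] (p : ℕ) (hp : p.Prime) :
    IntermediateField.adjoin k {x : k' | ∃ n : ℕ, 0 < n ∧ x ^ (p ^ n) ∈ Set.range (algebraMap k k') ∧ (p : k') ^ n * x ∈ Set.range (algebraMap k k')} = ⊤ ↔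
      (Function.Surjective (algebraMap k k') ∨ (CharP k p ∧ IsPurelyInseparable k k')) := by
  constructor
  · intro h
    by_cases hp0 : (p : k) = 0
    · right
      have hchar : CharP k p := by
        haveI := ringChar.charP k
        have hdvd : ringChar k ∣ p := (CharP.cast_eq_zero_iff k (ringChar k) p).1 hp0
        rcases (Nat.dvd_prime hp).1 hdvd with h1 | h1
        · exact absurd h1 (CharP.ringChar_ne_one)
        · rw [← h1]; infer_instance
      haveI := hchar
      haveI : ExpChar k p := ExpChar.prime hp
      refine ⟨hchar, ?_⟩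
      rw [isPurelyInseparable_iff_perfectClosure_eq_top, eq_top_iff, ← h, IntermediateField.adjoin_le_iff]
      rintro x ⟨n, -, hx, -⟩
      exact (mem_perfectClosure_iff_pow_mem p).2 ⟨n, hx⟩
    · left
      have hsub : IntermediateField.adjoin k {x : k' | ∃ n : ℕ, 0 < n ∧
          x ^ (p ^ n) ∈ Set.range (algebraMap k k') ∧
          (p : k') ^ n * x ∈ Set.range (algebraMap k k')} ≤ ⊥ := by
        rw [IntermediateField.adjoin_le_iff]
        rintro x ⟨n, -, -, ⟨c, hc⟩⟩
        rw [SetLike.mem_coe, IntermediateField.mem_bot]
        refine ⟨((p : k) ^ n)⁻¹ * c, ?_⟩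
        have hne : ((p : k') ^ n) ≠ 0 := by
          apply pow_ne_zero
          intro h0
          apply hp0
          apply (algebraMap k k').injective
          rw [map_natCast, h0, map_zero]
        rw [map_mul, hc, map_inv₀, map_pow, map_natCast, ← mul_assoc, inv_mul_cancel₀ hne, one_mul]
      rw [h] at hsub
      intro x
      have hx : x ∈ (⊥ : IntermediateField k k') := hsub IntermediateField.mem_top
      exact IntermediateField.mem_bot.1 hx
  · rintro (hsurj | ⟨hchar, hpi⟩)
    · have hU : {x : k' | ∃ n : ℕ, 0 < n ∧ x ^ (p ^ n) ∈ Set.range (algebraMap k k') ∧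
          (p : k') ^ n * x ∈ Set.range (algebraMap k k')} = Set.univ := by
        ext x
        simp only [Set.mem_setOf_eq, Set.mem_univ, iff_true]
        exact ⟨1, one_pos, hsurj _, hsurj _⟩
      rw [hU, IntermediateField.adjoin_univ]
    · haveI := hchar
      haveI : ExpChar k p := ExpChar.prime hp
      have hU : {x : k' | ∃ n : ℕ, 0 < n ∧ x ^ (p ^ n) ∈ Set.range (algebraMap k k') ∧
          (p : k') ^ n * x ∈ Set.range (algebraMap k k')} = Set.univ := by
        ext x
        simp only [Set.mem_setOf_eq, Set.mem_univ, iff_true]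
        obtain ⟨n, hn⟩ := IsPurelyInseparable.pow_mem k p x
        refine ⟨n + 1, Nat.succ_pos n, ?_, ?_⟩
        · obtain ⟨c, hc⟩ := hn
          refine ⟨c ^ p, ?_⟩
          rw [map_pow, hc, pow_succ, pow_mul]
        · refine ⟨0, ?_⟩
          have h0 : (p : k') = 0 := by
            rw [← map_natCast (algebraMap k k'), CharP.cast_eq_zero, map_zero]
          rw [h0, zero_pow (Nat.succ_ne_zero n), zero_mul, map_zero]
      rw [hU, IntermediateField.adjoin_univ]

end Groth.Agent.S9608
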