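import Groth.Statements.S9610
import Mathlib

set_option autoImplicit false
universe u
open CAlg

namespace Groth.Agent.S9610

/-- Let k be a field and V a nonzero k-vector space with dim_k V < #k as cardinals. Then every k-linear
endomorphism T of V admits a monic polynomial P over k for which P(T) is not invertible. -/
theorem result {k V : Type u} [Field k] [AddCommGroup V] [Module k V] [Nontrivial V] (hV : Module.rank k V < Cardinal.mk k) (T : Module.End k V) :
    ∃ P : Polynomial k, P.Monic ∧ ¬ IsUnit (Polynomial.aeval T P) := by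
  classical
  by_contra hcon
  simp only [not_exists, not_and, not_not] at hcon
  obtain ⟨v, hv⟩ := exists_ne (0 : V)
  have hu : ∀ c : k, IsUnit (Polynomial.aeval T (Polynomial.X - Polynomial.C c)) :=
    fun c => hcon _ (Polynomial.monic_X_sub_C c)
  let w : k → V := fun c => ((hu c).unit⁻¹ : (Module.End k V)ˣ).1 v
  have hw : ∀ c, Polynomial.aeval T (Polynomial.X - Polynomial.C c) (w c) = v := by
    intro c
    show (Polynomial.aeval T (Polynomial.X - Polynomial.C c) *
      ((hu c).unit⁻¹ : (Module.End k V)ˣ).1) v = v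
    rw [IsUnit.mul_val_inv]; rfl
  have hnli : ¬ LinearIndependent k w := by
    intro hli
    have h1 := hli.cardinal_le_rank
    exact absurd (lt_of_le_of_lt h1 hV) (lt_irrefl _)
  rw [not_linearIndependent_iff] at hnli
  obtain ⟨s, g, hsum, i₀, hi₀s, hgi₀⟩ := hnli
  let Pe : k → Polynomial k := fun i => ∏ j ∈ s.erase i, (Polynomial.X - Polynomial.C j)
  let Q : Polynomial k := ∑ i ∈ s, Polynomial.C (g i) * Pe i
  have hQne : Q ≠ 0 := by
    intro hQ0
    have h1 : Polynomial.eval i₀ Q = 0 := by rw [hQ0, Polynomial.eval_zero]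
    simp only [Q, Pe, Polynomial.eval_finset_sum, Polynomial.eval_mul, Polynomial.eval_C,
      Polynomial.eval_prod, Polynomial.eval_sub, Polynomial.eval_X] at h1
    rw [Finset.sum_eq_single i₀] at h1
    · rcases mul_eq_zero.1 h1 with h2 | h2
      · exact hgi₀ h2
      · rw [Finset.prod_eq_zero_iff] at h2
        obtain ⟨j, hj, hj0⟩ := h2
        exact (Finset.ne_of_mem_erase hj) (sub_eq_zero.1 hj0).symm
    · intro i his hii₀
      apply mul_eq_zero_of_right
      apply Finset.prod_eq_zero (i := i₀) (Finset.mem_erase.2 ⟨hii₀.symm, hi₀s⟩)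
      exact sub_self _
    · intro h; exact absurd hi₀s h
  have hQv : Polynomial.aeval T Q v = 0 := by
    have hPe : ∀ i ∈ s, Polynomial.aeval T (∏ j ∈ s, (Polynomial.X - Polynomial.C j)) (w i) =
        Polynomial.aeval T (Pe i) v := by
      intro i his
      rw [← Finset.mul_prod_erase s _ his, mul_comm, map_mul, Module.End.mul_apply, hw]
    have h1 := congrArg (Polynomial.aeval T (∏ j ∈ s, (Polynomial.X - Polynomial.C j))) hsum
    rw [map_sum, map_zero] at h1
    rw [← h1]
    simp only [Q, map_sum, LinearMap.sum_apply]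
    apply Finset.sum_congr rfl
    intro i his
    rw [map_smul, hPe i his, map_mul, Polynomial.aeval_C, Module.End.mul_apply]
    rfl
  refine absurd (hcon (Q * Polynomial.C Q.leadingCoeff⁻¹)
    (Polynomial.monic_mul_leadingCoeff_inv hQne)) ?_
  intro hunit
  have hinj : Function.Injective (Polynomial.aeval T (Q * Polynomial.C Q.leadingCoeff⁻¹)) :=
    ((Module.End.isUnit_iff _).1 hunit).1
  apply hv
  apply hinj
  rw [map_zero, mul_comm, map_mul, Module.End.mul_apply, hQv, map_zero]

end Groth.Agent.S9610
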