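import Groth.Statements.S9611
import Mathlib

set_option autoImplicit false
universe u

namespace Groth.Agent.S9611

theorem result {R : Type u} [CommRing R] [IsJacobsonRing R] (p : Ideal R) [p.IsPrime] (hp : ¬ p.IsMaximal) (f : R) (hf : f ∉ p) :
    {q : PrimeSpectrum R | p ≤ q.asIdeal ∧ f ∉ q.asIdeal}.Infinite := by
  classical
  intro hfin
  let G : PrimeSpectrum R → R := fun q =>
    if h : ∃ x, x ∈ q.asIdeal ∧ x ∉ p then h.choose else 1
  have hG1 : ∀ q, G q ∉ p := by
    intro q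
    by_cases h : ∃ x, x ∈ q.asIdeal ∧ x ∉ p
    · simp only [G, dif_pos h]; exact h.choose_spec.2
    · simp only [G, dif_neg h]
      exact fun h1 => (inferInstance : p.IsPrime).ne_top ((Ideal.eq_top_iff_one p).mpr h1)
  have hG2 : ∀ q : PrimeSpectrum R, p ≤ q.asIdeal → q.asIdeal ≠ p → G q ∈ q.asIdeal := by
    intro q hpq hne
    have h : ∃ x, x ∈ q.asIdeal ∧ x ∉ p := by
      by_contra hcon
      push Not at hcon
      exact hne (le_antisymm hcon hpq)
    simp only [G, dif_pos h]; exact h.choose_spec.1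
  let g : R := f * ∏ q ∈ hfin.toFinset, G q
  have hg : g ∉ p := by
    intro hmem
    rcases (inferInstance : p.IsPrime).mem_or_mem hmem with h1 | h1
    · exact hf h1
    · rw [Ideal.IsPrime.prod_mem_iff] at h1
      obtain ⟨q, -, hq⟩ := h1
      exact hG1 q hq
  have hjac : p.jacobson = p := IsJacobsonRing.out inferInstance (inferInstance : p.IsPrime).isRadical
  have hg' : g ∉ p.jacobson := by rw [hjac]; exact hg
  rw [Ideal.jacobson, Ideal.mem_sInf] at hg'
  push Not at hg'
  obtain ⟨m, ⟨hpm, hmax⟩, hgm⟩ := hg'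
  have hfm : f ∉ m := fun h => hgm (Ideal.mul_mem_right _ _ h)
  have hmT : (⟨m, hmax.isPrime⟩ : PrimeSpectrum R) ∈ hfin.toFinset := by
    rw [Set.Finite.mem_toFinset]; exact ⟨hpm, hfm⟩
  by_cases hmp : m = p
  · exact hp (hmp ▸ hmax)
  · have h1 : G ⟨m, hmax.isPrime⟩ ∈ m := hG2 ⟨m, hmax.isPrime⟩ hpm hmp
    apply hgm
    apply Ideal.mul_mem_left
    rw [← Finset.mul_prod_erase _ _ hmT]
    exact Ideal.mul_mem_right _ _ h1

end Groth.Agent.S9611
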