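import Groth.Statements.S9612
import Mathlib

set_option autoImplicit false
universe u

namespace Groth.Agent.S9612

theorem result {S : Type u} [CommRing S] [Algebra.FiniteType ℤ S] :
    IsJacobsonRing S := by
  have : IsJacobsonRing ℤ := by
    rw [isJacobsonRing_iff_prime_eq]
    intro P hP
    by_cases hbot : P = ⊥
    · subst hbot
      -- jacobson ⊥ = ⊥ in ℤ
      rw [eq_bot_iff]
      intro x hx
      by_contra hx0
      have hx0' : x ≠ 0 := by simpa using hx0
      -- pick a prime p not dividing x
      obtain ⟨p, hp, hpx⟩ := Nat.exists_infinite_primes (x.natAbs + 1)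
      have hmax : (Ideal.span {(p : ℤ)}).IsMaximal :=
        PrincipalIdealRing.isMaximal_of_irreducible
          (Nat.prime_iff_prime_int.mp hpx).irreducible
      have hmem : x ∈ Ideal.span {(p : ℤ)} := by
        have := Ideal.mem_sInf.mp hx (I := Ideal.span {(p : ℤ)}) ⟨bot_le, hmax⟩
        exact this
      rw [Ideal.mem_span_singleton] at hmem
      have h1 : (p : ℤ).natAbs ∣ x.natAbs := Int.natAbs_dvd_natAbs.mpr hmem
      simp only [Int.natAbs_natCast] at h1
      have h2 : p ≤ x.natAbs := Nat.le_of_dvd (Int.natAbs_pos.mpr hx0') h1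
      omega
    · have : P.IsMaximal := Ideal.IsPrime.isMaximal hP hbot
      exact Ideal.jacobson_eq_self_of_isMaximal
  exact isJacobsonRing_of_finiteType (A := ℤ)

end Groth.Agent.S9612
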