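import Groth.Statements.S9614
import Mathlib

set_option autoImplicit false
universe u
open CAlg

namespace Groth.Agent.S9614

/-- Let S be an ℕ-graded ring and M a finitely generated graded S-module, graded in nonnegative degrees
(the source allows all integer degrees). If x_1, …, x_n are homogeneous elements of M which generate
M modulo S₊ M (S₊ the irrelevant ideal), then x_1, …, x_n generate M. -/
theorem result {R S : Type u} [CommRing R] [CommRing S] [Algebra R S] (𝒜 : ℕ → Submodule R S) [GradedAlgebra 𝒜]
    (M : Type u) [AddCommGroup M] [Module R M] [Module S M] [IsScalarTower R S M] [Module.Finite S M] (ℳ : ℕ → Submodule R M) [DirectSum.Decomposition ℳ] [SetLike.GradedSMul 𝒜 ℳ]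
    {n : ℕ} (x : Fin n → M) (hx : ∀ i, SetLike.IsHomogeneousElem ℳ (x i))
    (h : Submodule.span S (Set.range x) ⊔ (HomogeneousIdeal.irrelevant 𝒜).toIdeal • (⊤ : Submodule S M) = ⊤) :
    Submodule.span S (Set.range x) = ⊤ := by
  classical
  set N := Submodule.span S (Set.range x) with hN
  have hπadd : ∀ (d : ℕ) (m m' : M), ((DirectSum.decompose ℳ (m + m') d : ℳ d) : M) =
      (DirectSum.decompose ℳ m d : M) + (DirectSum.decompose ℳ m' d : M) := by
    intro d m m'; rw [DirectSum.decompose_add, DirectSum.add_apply, Submodule.coe_add]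
  have hπzero : ∀ d : ℕ, ((DirectSum.decompose ℳ (0 : M) d : ℳ d) : M) = 0 := by
    intro d; rw [DirectSum.decompose_zero, DirectSum.zero_apply, Submodule.coe_zero]
  have hπhom : ∀ (d e : ℕ) (m : M), m ∈ ℳ e →
      (e = d ∧ ((DirectSum.decompose ℳ m d : ℳ d) : M) = m) ∨
        ((DirectSum.decompose ℳ m d : ℳ d) : M) = 0 := by
    intro d e m hm
    by_cases hde : e = d
    · subst hde; left; exact ⟨rfl, DirectSum.decompose_of_mem_same ℳ hm⟩
    · right; exact DirectSum.decompose_of_mem_ne ℳ hm hde
  have hsmul : ∀ {j e : ℕ} {a : S} {m : M}, a ∈ 𝒜 j → m ∈ ℳ e → a • m ∈ ℳ (j + e) := by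
    intro j e a m ha hm
    have h1 := SetLike.GradedSMul.smul_mem (A := 𝒜) (B := ℳ) ha hm
    simpa [vadd_eq_add] using h1
  have ha : ∀ (d : ℕ) (n' : M), n' ∈ N → ((DirectSum.decompose ℳ n' d : ℳ d) : M) ∈ N := by
    intro d n' hn
    rw [hN, Submodule.mem_span_range_iff_exists_fun] at hn
    obtain ⟨c, rfl⟩ := hn
    have hsum : ∀ (t : Finset (Fin n)),
        ((DirectSum.decompose ℳ (∑ i ∈ t, c i • x i) d : ℳ d) : M) ∈ N := by
      intro t
      induction t using Finset.induction_on with
      | empty => rw [Finset.sum_empty, hπzero]; exact N.zero_mem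
      | insert i t hi ih =>
        rw [Finset.sum_insert hi, hπadd]
        refine N.add_mem ?_ ih
        obtain ⟨e, he⟩ := hx i
        have h2 : ∀ s : S, ((DirectSum.decompose ℳ (s • x i) d : ℳ d) : M) ∈ N := by
          intro s
          induction s using DirectSum.Decomposition.inductionOn 𝒜 with
          | zero => rw [zero_smul, hπzero]; exact N.zero_mem
          | @homogeneous j a =>
            have hmem : (a : S) • x i ∈ ℳ (j + e) := hsmul a.2 he
            rcases hπhom d (j + e) _ hmem with h1 | h1
            · rw [h1.2]; exact N.smul_mem _ (Submodule.subset_span ⟨i, rfl⟩)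
            · rw [h1]; exact N.zero_mem
          | add a b iha ihb =>
            rw [add_smul, hπadd]; exact N.add_mem iha ihb
        exact h2 (c i)
    exact hsum Finset.univ
  have hb : ∀ d : ℕ, (∀ f < d, ∀ m ∈ ℳ f, m ∈ N) →
      ∀ a ∈ (HomogeneousIdeal.irrelevant 𝒜).toIdeal, ∀ m : M,
        ((DirectSum.decompose ℳ (a • m) d : ℳ d) : M) ∈ N := by
    intro d IH a haI m
    have hgen : ∀ a : S, ∀ m : M,
        ((DirectSum.decompose ℳ ((a - ((DirectSum.decompose 𝒜 a 0 : 𝒜 0) : S)) • m) d : ℳ d) : M)
          ∈ N := by
      intro a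
      induction a using DirectSum.Decomposition.inductionOn 𝒜 with
      | zero =>
        intro m
        rw [DirectSum.decompose_zero, DirectSum.zero_apply, Submodule.coe_zero, sub_zero,
          zero_smul, hπzero]
        exact N.zero_mem
      | @homogeneous e a =>
        intro m
        by_cases he0 : e = 0
        · subst he0
          rw [DirectSum.decompose_of_mem_same 𝒜 a.2, sub_self, zero_smul, hπzero]
          exact N.zero_mem
        · rw [DirectSum.decompose_of_mem_ne 𝒜 a.2 he0, sub_zero]
          induction m using DirectSum.Decomposition.inductionOn ℳ with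
          | zero => rw [smul_zero, hπzero]; exact N.zero_mem
          | @homogeneous f m =>
            have hmem : (a : S) • (m : M) ∈ ℳ (e + f) := hsmul a.2 m.2
            rcases hπhom d (e + f) _ hmem with h1 | h1
            · rw [h1.2]
              have hfd : f < d := by
                have := h1.1
                omega
              exact N.smul_mem _ (IH f hfd m m.2)
            · rw [h1]; exact N.zero_mem
          | add m m' hm hm' =>
            rw [smul_add, hπadd]; exact N.add_mem hm hm'
      | add a b iha ihb =>
        intro m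
        have h3 : (a + b - ((DirectSum.decompose 𝒜 (a + b) 0 : 𝒜 0) : S)) • m =
            (a - ((DirectSum.decompose 𝒜 a 0 : 𝒜 0) : S)) • m +
              (b - ((DirectSum.decompose 𝒜 b 0 : 𝒜 0) : S)) • m := by
          rw [DirectSum.decompose_add, DirectSum.add_apply, Submodule.coe_add, ← add_smul]
          congr 1
          ring
        rw [h3, hπadd]
        exact N.add_mem (iha m) (ihb m)
    have h0 : ((DirectSum.decompose 𝒜 a 0 : 𝒜 0) : S) = 0 :=
      (HomogeneousIdeal.mem_irrelevant_iff 𝒜 a).1 haI
    have h4 := hgen a m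
    rwa [h0, sub_zero] at h4
  have hP : ∀ d : ℕ, ∀ m ∈ ℳ d, m ∈ N := by
    intro d
    induction d using Nat.strong_induction_on with
    | _ d IH =>
      intro m hm
      have hmtop : m ∈ N ⊔ (HomogeneousIdeal.irrelevant 𝒜).toIdeal • (⊤ : Submodule S M) := by
        rw [h]; trivial
      obtain ⟨n', hn', z, hz, rfl⟩ := Submodule.mem_sup.1 hmtop
      have hzN : ((DirectSum.decompose ℳ z d : ℳ d) : M) ∈ N := by
        refine Submodule.smul_induction_on hz ?_ ?_
        · intro a haI m' _; exact hb d IH a haI m'
        · intro y y' hy hy'; rw [hπadd]; exact N.add_mem hy hy'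
      have h5 := DirectSum.decompose_of_mem_same ℳ hm
      rw [← h5, hπadd]
      exact N.add_mem (ha d n' hn') hzN
  have hall : ∀ m : M, m ∈ N := by
    intro m
    induction m using DirectSum.Decomposition.inductionOn ℳ with
    | zero => exact N.zero_mem
    | @homogeneous d m => exact hP d m m.2
    | add m m' hm hm' => exact N.add_mem hm hm'
  rw [eq_top_iff]
  intro m _
  exact hall m

end Groth.Agent.S9614
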