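import Groth.Statements.S9615
import Mathlib

set_option autoImplicit false
universe u
open CAlg

namespace Groth.Agent.S9615


section h5aux
open Polynomial DirectSum

/-- The family of maps `Sᵢ → S[X]`, `a ↦ a Xⁱ`. -/
noncomputable def h5f {S : Type*} [CommRing S] (𝒮 : ℕ → AddSubgroup S) (i : ℕ) : 𝒮 i →+ S[X] :=
  (Polynomial.monomial i : S →ₗ[S] S[X]).toAddMonoidHom.comp (𝒮 i).subtype

theorem h5f_apply {S : Type*} [CommRing S] (𝒮 : ℕ → AddSubgroup S) (i : ℕ) (a : 𝒮 i) :
    h5f 𝒮 i a = Polynomial.monomial i (a : S) := rfl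

theorem h5f_one {S : Type*} [CommRing S] (𝒮 : ℕ → AddSubgroup S) [GradedRing 𝒮] :
    h5f 𝒮 0 (GradedMonoid.GOne.one (A := fun i => 𝒮 i)) = 1 := by
  rw [h5f_apply, SetLike.coe_gOne]; rfl

theorem h5f_mul {S : Type*} [CommRing S] (𝒮 : ℕ → AddSubgroup S) [GradedRing 𝒮]
    {i j : ℕ} (ai : 𝒮 i) (aj : 𝒮 j) :
    h5f 𝒮 (i + j) (GradedMonoid.GMul.mul (A := fun i => 𝒮 i) ai aj) = h5f 𝒮 i ai * h5f 𝒮 j aj := by
  rw [h5f_apply, h5f_apply, h5f_apply, SetLike.coe_gMul, Polynomial.monomial_mul_monomial]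

/-- Coaction `S → S[X]`, `s ↦ Σ sᵢ Xⁱ` of an `ℕ`-graded ring. -/
noncomputable def h5coact {S : Type*} [CommRing S] (𝒮 : ℕ → AddSubgroup S) [GradedRing 𝒮] :
    S →+* S[X] :=
  (DirectSum.toSemiring (A := fun i => 𝒮 i) (h5f 𝒮) (h5f_one 𝒮) (h5f_mul 𝒮)).comp
  (DirectSum.decomposeRingEquiv 𝒮).toRingHom

theorem h5coact_coeff {S : Type*} [CommRing S] (𝒮 : ℕ → AddSubgroup S) [GradedRing 𝒮] (s : S)
    (i : ℕ) : (h5coact 𝒮 s).coeff i = ((DirectSum.decompose 𝒮 s i : 𝒮 i) : S) := by
  classical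
  have key : ∀ x : ⨁ j, 𝒮 j,
      ((DirectSum.toSemiring (A := fun i => 𝒮 i) (h5f 𝒮) (h5f_one 𝒮) (h5f_mul 𝒮)) x).coeff i
        = ((x i : 𝒮 i) : S) := by
    intro x
    induction x using DirectSum.induction_on with
    | zero => simp
    | of j a =>
      rw [DirectSum.toSemiring_of, h5f_apply, Polynomial.coeff_monomial]
      by_cases hji : j = i
      · subst hji
        rw [if_pos rfl, DirectSum.of_eq_same]
      · rw [if_neg hji, DirectSum.of_eq_of_ne _ _ _ (fun h => hji h.symm)]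
        rfl
    | add x y hx hy =>
      rw [map_add, Polynomial.coeff_add, hx, hy, DirectSum.add_apply]
      rfl
  exact key (DirectSum.decompose 𝒮 s)

theorem h5_decompose_algebraMap {R S : Type*} [CommRing R] [CommRing S] [Algebra R S]
    (ℛ : ℕ → AddSubgroup R) [GradedRing ℛ] (𝒮 : ℕ → AddSubgroup S) [GradedRing 𝒮]
    (hmap : ∀ i : ℕ, ∀ r ∈ ℛ i, algebraMap R S r ∈ 𝒮 i) (r : R) (i : ℕ) :
    ((DirectSum.decompose 𝒮 (algebraMap R S r) i : 𝒮 i) : S) =
      algebraMap R S ((DirectSum.decompose ℛ r i : ℛ i) : R) := by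
  classical
  revert i
  induction r using DirectSum.Decomposition.inductionOn ℛ with
  | zero => intro i; simp
  | @homogeneous j m =>
    intro i
    by_cases hji : j = i
    · subst hji
      rw [DirectSum.decompose_of_mem_same 𝒮 (hmap j m m.2),
        DirectSum.decompose_of_mem_same ℛ m.2]
    · rw [DirectSum.decompose_of_mem_ne 𝒮 (hmap j m m.2) hji,
        DirectSum.decompose_of_mem_ne ℛ m.2 hji, map_zero]
  | add m m' hm hm' =>
    intro i
    rw [map_add, DirectSum.decompose_add, DirectSum.decompose_add, DirectSum.add_apply,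
      DirectSum.add_apply, AddSubgroup.coe_add, AddSubgroup.coe_add, hm, hm', map_add]

end h5aux

attribute [local instance] Polynomial.algebra

/-- Let R → S be a homomorphism of ℕ-graded rings, i.e. the structure map carries each graded piece R_i
into S_i. If an element s of S is integral over R, then each homogeneous component of s is integral
over R; so the integral closure of R in S is a graded subring of S. -/
theorem result {R S : Type u} [CommRing R] [CommRing S] [Algebra R S] (ℛ : ℕ → AddSubgroup R) [GradedRing ℛ] (𝒮 : ℕ → AddSubgroup S) [GradedRing 𝒮]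
    (hmap : ∀ i : ℕ, ∀ r ∈ ℛ i, algebraMap R S r ∈ 𝒮 i) (s : S) (hs : IsIntegral R s) (i : ℕ) :
    IsIntegral R ((DirectSum.decompose 𝒮 s i : 𝒮 i) : S) := by
  classical
  obtain ⟨p, hpm, hp⟩ := hs
  have hcompat : (algebraMap (Polynomial R) (Polynomial S)).comp (h5coact ℛ) =
      (h5coact 𝒮).comp (algebraMap R S) := by
    ext r n
    · simp only [RingHom.comp_apply, Polynomial.algebraMap_def, Polynomial.coe_mapRingHom,
        Polynomial.coeff_map, h5coact_coeff]
      exact (h5_decompose_algebraMap ℛ 𝒮 hmap r n).symm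
  have hint : IsIntegral (Polynomial R) (h5coact 𝒮 s) := by
    refine ⟨p.map (h5coact ℛ), hpm.map _, ?_⟩
    rw [Polynomial.eval₂_map, hcompat, ← Polynomial.hom_eval₂, hp, map_zero]
  have := Polynomial.isIntegral_iff_isIntegral_coeff.1 hint i
  rwa [h5coact_coeff] at this

end Groth.Agent.S9615
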