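import Groth.Statements.S9616
import Mathlib

set_option autoImplicit false
universe u
open CAlg

namespace Groth.Agent.S9616


theorem h5_exists_homog_not_mem {R S : Type*} [CommRing R] [CommRing S] [Algebra R S]
    (𝒜 : ℕ → Submodule R S) [GradedAlgebra 𝒜]
    (J P : Ideal S) (hJ : J.IsHomogeneous 𝒜) (h : ¬ J ≤ P) :
    ∃ (y : S) (e : ℕ), y ∈ 𝒜 e ∧ y ∈ J ∧ y ∉ P := by
  classical
  obtain ⟨r, hrJ, hrP⟩ := SetLike.not_le_iff_exists.1 h
  by_contra hcon
  simp only [not_exists, not_and, not_not] at hcon
  apply hrP
  rw [← DirectSum.sum_support_decompose 𝒜 r]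
  apply Ideal.sum_mem
  intro i _
  exact hcon _ i (SetLike.coe_mem _) (hJ i hrJ)

/-- Let S be an ℕ-graded ring, p_1, …, p_r homogeneous prime ideals of S and I ⊆ S₊ a homogeneous ideal
not contained in any p_i. Then there is a homogeneous element x ∈ I of positive degree with x ∉ p_i
for all i. -/
theorem result {R S : Type u} [CommRing R] [CommRing S] [Algebra R S] (𝒜 : ℕ → Submodule R S) [GradedAlgebra 𝒜]
    {r : ℕ} (p : Fin r → HomogeneousIdeal 𝒜) (hp : ∀ i, (p i).toIdeal.IsPrime) (I : HomogeneousIdeal 𝒜) (hI : I ≤ HomogeneousIdeal.irrelevant 𝒜) (h : ∀ i, ¬ I ≤ p i) :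
    ∃ x : S, ∃ d : ℕ, 0 < d ∧ x ∈ 𝒜 d ∧ x ∈ I ∧ ∀ i, x ∉ p i := by
  classical
  set J : Ideal S := I.toIdeal with hJdef
  set P : Fin r → Ideal S := fun i => (p i).toIdeal with hPdef
  have hJP : ∀ i, ¬ J ≤ P i := fun i hle => h i hle
  have hJirr : J ≤ (HomogeneousIdeal.irrelevant 𝒜).toIdeal := hI
  have key : ∀ T : Finset (Fin r), ∃ x : S, ∃ d : ℕ, 0 < d ∧ x ∈ 𝒜 d ∧ x ∈ J ∧
      ∀ i ∈ T, x ∉ P i := by
    intro T
    induction T using Finset.strongInduction with
    | H T IH =>
      rcases T.eq_empty_or_nonempty with rfl | ⟨k, hk⟩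
      · exact ⟨0, 1, one_pos, zero_mem _, zero_mem _, by simp⟩
      · obtain ⟨x, d, hd, hxd, hxJ, hxT⟩ := IH (T.erase k) (Finset.erase_ssubset hk)
        by_cases hxk : x ∉ P k
        · refine ⟨x, d, hd, hxd, hxJ, fun i hi => ?_⟩
          by_cases hik : i = k
          · subst hik; exact hxk
          · exact hxT i (Finset.mem_erase.2 ⟨hik, hi⟩)
        · rw [not_not] at hxk
          by_cases hincl : ∃ j ∈ T.erase k, P j ≤ P k
          · obtain ⟨j, hj, hjk⟩ := hincl
            have hjT : j ∈ T := Finset.mem_of_mem_erase hj
            have hjk' : j ≠ k := Finset.ne_of_mem_erase hj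
            obtain ⟨x', d', hd', hxd', hxJ', hxT'⟩ := IH (T.erase j) (Finset.erase_ssubset hjT)
            refine ⟨x', d', hd', hxd', hxJ', fun i hi => ?_⟩
            by_cases hij : i = j
            · subst hij
              intro hmem
              exact hxT' k (Finset.mem_erase.2 ⟨hjk'.symm, hk⟩) (hjk hmem)
            · exact hxT' i (Finset.mem_erase.2 ⟨hij, hi⟩)
          · simp only [not_exists, not_and] at hincl
            have hy : ∀ T' : Finset (Fin r), T' ⊆ T.erase k → ∃ y : S, ∃ e : ℕ, y ∈ 𝒜 e ∧
                y ∉ P k ∧ ∀ j ∈ T', y ∈ P j := by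
              intro T'
              induction T' using Finset.induction_on with
              | empty =>
                intro _
                exact ⟨1, 0, SetLike.one_mem_graded 𝒜,
                  (Ideal.ne_top_iff_one _).1 (hp k).ne_top, by simp⟩
              | insert j T'' hj ih =>
                intro hsub
                obtain ⟨y, e, hye, hyk, hyT⟩ :=
                  ih (fun a ha => hsub (Finset.mem_insert_of_mem ha))
                have hjT0 : j ∈ T.erase k := hsub (Finset.mem_insert_self _ _)
                obtain ⟨yj, ej, hyje, hyjJ, hyjP⟩ :=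
                  h5_exists_homog_not_mem 𝒜 (P j) (P k) (p j).isHomogeneous (hincl j hjT0)
                refine ⟨y * yj, e + ej, SetLike.mul_mem_graded hye hyje, ?_, ?_⟩
                · intro hmem
                  rcases (hp k).mem_or_mem hmem with h1 | h1
                  · exact hyk h1
                  · exact hyjP h1
                · intro i hi
                  rcases Finset.mem_insert.1 hi with rfl | hi'
                  · exact (P i).mul_mem_left _ hyjJ
                  · exact (P i).mul_mem_right _ (hyT i hi')
            obtain ⟨y1, e1, hy1e, hy1k, hy1T⟩ := hy (T.erase k) subset_rfl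
            obtain ⟨y0, e0, hy0e, hy0J, hy0k⟩ :=
              h5_exists_homog_not_mem 𝒜 J (P k) I.isHomogeneous (hJP k)
            have he0 : 0 < e0 := by
              by_contra hcon
              have he00 : e0 = 0 := by omega
              subst he00
              have hirr : y0 ∈ (HomogeneousIdeal.irrelevant 𝒜).toIdeal := hJirr hy0J
              have h1 := (HomogeneousIdeal.mem_irrelevant_iff 𝒜 y0).1 hirr
              rw [GradedRing.proj_apply, DirectSum.decompose_of_mem_same 𝒜 hy0e] at h1
              exact hy0k (h1 ▸ (P k).zero_mem)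
            have hye : y0 * y1 ∈ 𝒜 (e0 + e1) := SetLike.mul_mem_graded hy0e hy1e
            have hyJ : y0 * y1 ∈ J := J.mul_mem_right _ hy0J
            have hyk : y0 * y1 ∉ P k := fun hmem => ((hp k).mem_or_mem hmem).elim hy0k hy1k
            have hyT : ∀ j ∈ T.erase k, y0 * y1 ∈ P j :=
              fun j hj => (P j).mul_mem_left _ (hy1T j hj)
            have hepos : 0 < e0 + e1 := by omega
            refine ⟨x ^ (e0 + e1) + (y0 * y1) ^ d, d * (e0 + e1), Nat.mul_pos hd hepos, ?_, ?_, ?_⟩
            · apply Submodule.add_mem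
              · have h1 := SetLike.pow_mem_graded (e0 + e1) hxd
                rwa [smul_eq_mul, mul_comm] at h1
              · have h1 := SetLike.pow_mem_graded d hye
                rwa [smul_eq_mul] at h1
            · exact J.add_mem (J.pow_mem_of_mem hxJ _ hepos) (J.pow_mem_of_mem hyJ d hd)
            · intro i hi
              by_cases hik : i = k
              · subst hik
                intro hmem
                have h1 : x ^ (e0 + e1) ∈ P i := (P i).pow_mem_of_mem hxk _ hepos
                have h2 : (y0 * y1) ^ d ∈ P i := by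
                  have h3 := (P i).sub_mem hmem h1
                  simpa using h3
                exact hyk ((hp i).mem_of_pow_mem d h2)
              · have hiT0 : i ∈ T.erase k := Finset.mem_erase.2 ⟨hik, hi⟩
                intro hmem
                have h1 : (y0 * y1) ^ d ∈ P i := (P i).pow_mem_of_mem (hyT i hiT0) d hd
                have h2 : x ^ (e0 + e1) ∈ P i := by
                  have h3 := (P i).sub_mem hmem h1
                  simpa using h3
                exact hxT i hiT0 ((hp i).mem_of_pow_mem _ h2)
  obtain ⟨x, d, hd, hxd, hxJ, hxT⟩ := key Finset.univ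
  exact ⟨x, d, hd, hxd, hxJ, fun i => hxT i (Finset.mem_univ i)⟩

end Groth.Agent.S9616
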