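import Groth.Statements.S9617
import Mathlib

set_option autoImplicit false
universe u
open CAlg

namespace Groth.Agent.S9617


section h5aux
open DirectSum

variable {A S : Type*} [CommRing A] [CommRing S] [Algebra A S] (𝒜 : ℕ → Submodule A S)
  [GradedAlgebra 𝒜]

theorem h5_L (k : ℕ) (t : S) (ht : ∀ d < k, ((decompose 𝒜 t d : 𝒜 d) : S) = 0) (u : S) (d : ℕ)
    (hd : d ≤ k) :
    ((decompose 𝒜 (u * t) d : 𝒜 d) : S) =
      ((decompose 𝒜 u 0 : 𝒜 0) : S) * ((decompose 𝒜 t d : 𝒜 d) : S) := by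
  classical
  induction u using DirectSum.Decomposition.inductionOn 𝒜 with
  | zero => simp
  | @homogeneous i u =>
    by_cases hid : i ≤ d
    · rw [DirectSum.coe_decompose_mul_of_left_mem_of_le 𝒜 u.2 hid]
      by_cases hi0 : i = 0
      · subst hi0
        rw [DirectSum.decompose_of_mem_same 𝒜 u.2, Nat.sub_zero]
      · rw [DirectSum.decompose_of_mem_ne 𝒜 u.2 hi0, zero_mul, ht (d - i) (by omega), mul_zero]
    · rw [DirectSum.coe_decompose_mul_of_left_mem_of_not_le 𝒜 u.2 hid]
      have hi0 : i ≠ 0 := by omega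
      rw [DirectSum.decompose_of_mem_ne 𝒜 u.2 hi0, zero_mul]
  | add u u' hu hu' =>
    rw [add_mul, DirectSum.decompose_add, DirectSum.add_apply, Submodule.coe_add, hu, hu',
      DirectSum.decompose_add, DirectSum.add_apply, Submodule.coe_add, add_mul]

/-- The ideal of elements with vanishing components in degrees `< k`. -/
def h5F (k : ℕ) : Ideal S where
  carrier := {t | ∀ d < k, ((decompose 𝒜 t d : 𝒜 d) : S) = 0}
  add_mem' := by
    intro a b ha hb d hd
    rw [decompose_add, DirectSum.add_apply, Submodule.coe_add, ha d hd, hb d hd, add_zero]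
  zero_mem' := by
    intro d hd
    rw [decompose_zero, DirectSum.zero_apply, Submodule.coe_zero]
  smul_mem' := by
    intro c t ht d hd
    rw [smul_eq_mul, h5_L 𝒜 k t ht c d hd.le, ht d hd, mul_zero]

theorem h5_mem_F (k : ℕ) (t : S) :
    t ∈ h5F 𝒜 k ↔ ∀ d < k, ((decompose 𝒜 t d : 𝒜 d) : S) = 0 := Iff.rfl

theorem h5_pow_mem_F (u : S) (hu : ((decompose 𝒜 u 0 : 𝒜 0) : S) = 0) (k : ℕ) :
    u ^ k ∈ h5F 𝒜 k := by
  induction k with
  | zero => intro d hd; exact absurd hd (Nat.not_lt_zero d)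
  | succ k ih =>
    intro d hd
    rw [pow_succ', h5_L 𝒜 k (u ^ k) ih u d (by omega), hu, zero_mul]

theorem h5_isIntegral_quot (h0 : ∀ s ∈ 𝒜 0, s ∈ Set.range (algebraMap A S)) (k : ℕ) :
    Algebra.IsIntegral A (S ⧸ h5F 𝒜 k) := by
  constructor
  intro s'
  obtain ⟨s, rfl⟩ := Ideal.Quotient.mk_surjective s'
  have hs : s = ((decompose 𝒜 s 0 : 𝒜 0) : S) + (s - ((decompose 𝒜 s 0 : 𝒜 0) : S)) := by ring
  rw [hs, map_add]
  apply IsIntegral.add
  · obtain ⟨a, ha⟩ := h0 _ (SetLike.coe_mem (decompose 𝒜 s 0))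
    rw [← ha]
    exact isIntegral_algebraMap (x := a)
  · have hu : ((decompose 𝒜 (s - ((decompose 𝒜 s 0 : 𝒜 0) : S)) 0 : 𝒜 0) : S) = 0 := by
      rw [decompose_sub, DirectSum.sub_apply, AddSubgroupClass.coe_sub,
        decompose_of_mem_same 𝒜 (SetLike.coe_mem (decompose 𝒜 s 0)), sub_self]
    have hpow := h5_pow_mem_F 𝒜 _ hu (k + 1)
    apply IsIntegral.of_pow (Nat.succ_pos k)
    rw [← map_pow, pow_succ', Ideal.Quotient.eq_zero_iff_mem.2
      ((h5F 𝒜 k).mul_mem_left _ (h5_pow_mem_F 𝒜 _ hu k))]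
    exact isIntegral_zero

variable {M : Type*} [AddCommGroup M] [Module A M] [Module S M] [IsScalarTower A S M]
  (ℳ : ℕ → Submodule A M) [DirectSum.Decomposition ℳ] [SetLike.GradedSMul 𝒜 ℳ]

theorem h5_smul_comp (s : S) (j : ℕ) (m : M) (hm : m ∈ ℳ j) (d : ℕ) :
    ((decompose ℳ (s • m) d : ℳ d) : M) =
      if j ≤ d then ((decompose 𝒜 s (d - j) : 𝒜 (d - j)) : S) • m else 0 := by
  classical
  induction s using DirectSum.Decomposition.inductionOn 𝒜 with
  | zero => simp
  | @homogeneous i s =>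
    have hmem : (s : S) • m ∈ ℳ (i + j) := by
      have h1 := SetLike.GradedSMul.smul_mem (A := 𝒜) (B := ℳ) s.2 hm
      simpa [vadd_eq_add] using h1
    by_cases hij : i + j = d
    · subst hij
      rw [decompose_of_mem_same ℳ hmem, if_pos (Nat.le_add_left j i), Nat.add_sub_cancel,
        decompose_of_mem_same 𝒜 s.2]
    · rw [decompose_of_mem_ne ℳ hmem hij]
      split_ifs with hjd
      · have hne : i ≠ d - j := by omega
        rw [decompose_of_mem_ne 𝒜 s.2 hne, zero_smul]
      · rfl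
  | add s s' hs hs' =>
    rw [add_smul, decompose_add, DirectSum.add_apply, Submodule.coe_add, hs, hs']
    split_ifs with hjd
    · rw [decompose_add, DirectSum.add_apply, Submodule.coe_add, add_smul]
    · rw [add_zero]

theorem h5_comp_smul_eq_zero (n : ℕ) (s : S) (hs : s ∈ h5F 𝒜 (n + 1)) (m : M) :
    ((decompose ℳ (s • m) n : ℳ n) : M) = 0 := by
  classical
  induction m using DirectSum.Decomposition.inductionOn ℳ with
  | zero => simp
  | @homogeneous j m =>
    rw [h5_smul_comp 𝒜 ℳ s j m m.2 n]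
    split_ifs with hjn
    · rw [hs (n - j) (by omega), zero_smul]
    · rfl
  | add m m' hm hm' =>
    rw [smul_add, decompose_add, DirectSum.add_apply, Submodule.coe_add, hm, hm', add_zero]

end h5aux

/-- Let S be an ℕ-graded ring, presented as a graded algebra over a ring A mapping onto S₀, such that S
is of finite type over A, i.e. over S₀. If M is a finitely generated graded S-module, graded in
nonnegative degrees (the source allows all integer degrees), then each graded piece M_n is a finite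
module over A, i.e. over S₀. -/
theorem result {A S : Type u} [CommRing A] [CommRing S] [Algebra A S] (𝒜 : ℕ → Submodule A S) [GradedAlgebra 𝒜]
    (h0 : ∀ s ∈ 𝒜 0, s ∈ Set.range (algebraMap A S)) [Algebra.FiniteType A S]
    (M : Type u) [AddCommGroup M] [Module A M] [Module S M] [IsScalarTower A S M] [Module.Finite S M] (ℳ : ℕ → Submodule A M) [DirectSum.Decomposition ℳ] [SetLike.GradedSMul 𝒜 ℳ] (n : ℕ) :
    Module.Finite A (ℳ n) := by
  classical
  haveI : Algebra.IsIntegral A (S ⧸ h5F 𝒜 (n + 1)) := h5_isIntegral_quot 𝒜 h0 (n + 1)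
  haveI : Algebra.FiniteType A (S ⧸ h5F 𝒜 (n + 1)) :=
    Algebra.FiniteType.of_surjective (Ideal.Quotient.mkₐ A (h5F 𝒜 (n + 1)))
      Ideal.Quotient.mk_surjective
  haveI : Module.Finite A (S ⧸ h5F 𝒜 (n + 1)) := Algebra.IsIntegral.finite
  obtain ⟨l, g, hg⟩ := Module.Finite.exists_fin (R := S) (M := M)
  let πn : M →ₗ[A] ℳ n :=
    { toFun := fun m => DirectSum.decompose ℳ m n
      map_add' := fun a b => by rw [DirectSum.decompose_add, DirectSum.add_apply]
      map_smul' := fun a b => by rw [DirectSum.decompose_smul]; rfl }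
  let Θ : Fin l → (S →ₗ[A] ℳ n) := fun j =>
    πn ∘ₗ ((LinearMap.toSpanSingleton S M (g j)).restrictScalars A)
  have hΘ : ∀ j, (h5F 𝒜 (n + 1)).restrictScalars A ≤ LinearMap.ker (Θ j) := by
    intro j s hs
    rw [LinearMap.mem_ker]
    apply Subtype.ext
    exact h5_comp_smul_eq_zero 𝒜 ℳ n s hs (g j)
  let Θ' : Fin l → ((S ⧸ (h5F 𝒜 (n + 1)).restrictScalars A) →ₗ[A] ℳ n) := fun j =>
    ((h5F 𝒜 (n + 1)).restrictScalars A).liftQ (Θ j) (hΘ j)
  haveI : Module.Finite A (S ⧸ (h5F 𝒜 (n + 1)).restrictScalars A) :=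
    Module.Finite.equiv (Submodule.Quotient.restrictScalarsEquiv A (h5F 𝒜 (n + 1))).symm
  let Φ : (Fin l → (S ⧸ (h5F 𝒜 (n + 1)).restrictScalars A)) →ₗ[A] ℳ n :=
    ∑ j, (Θ' j) ∘ₗ LinearMap.proj j
  apply Module.Finite.of_surjective Φ
  rintro ⟨m, hm⟩
  have hmtop : m ∈ Submodule.span S (Set.range g) := by rw [hg]; trivial
  obtain ⟨c, hc⟩ := (Submodule.mem_span_range_iff_exists_fun S).1 hmtop
  refine ⟨fun j => Submodule.Quotient.mk (c j), ?_⟩
  have h1 : Φ (fun j => Submodule.Quotient.mk (c j)) = πn m := by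
    rw [← hc, map_sum]
    simp only [Φ, LinearMap.sum_apply, LinearMap.comp_apply, LinearMap.proj_apply]
    apply Finset.sum_congr rfl
    intro j _
    rfl
  rw [h1]
  apply Subtype.ext
  exact DirectSum.decompose_of_mem_same ℳ hm

end Groth.Agent.S9617
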