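import Groth.Statements.S9618
import Groth.Agent.Lib.helper5.SpecComp
import Mathlib

set_option autoImplicit false
universe u
open CAlg

namespace Groth.Agent.S9618

open PrimeSpectrum Groth.Agent.Lib.helper5 in
theorem result {R : Type u} [CommRing R] (T : Set (PrimeSpectrum R)) :
    [IsClosed T ∧ ∀ x ∈ T, connectedComponent x ⊆ T,
      ∃ U : Set (Set (PrimeSpectrum R)), (∀ u ∈ U, IsClopen u) ∧ T = ⋂₀ U,
      ∃ E : Set R, (∀ e ∈ E, IsIdempotentElem e) ∧ T = PrimeSpectrum.zeroLocus E].TFAE := by
  tfae_have 3 → 2 := by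
    rintro ⟨E, hE, rfl⟩
    refine ⟨(fun e : R => zeroLocus ({e} : Set R)) '' E, ?_, ?_⟩
    · rintro _ ⟨e, he, rfl⟩
      exact h5_isClopen_zeroLocus_idem e (hE e he)
    · ext q
      simp only [mem_zeroLocus, Set.sInter_image, Set.mem_iInter, Set.singleton_subset_iff]
      exact ⟨fun h e he => h he, fun h e he => h e he⟩
  tfae_have 2 → 1 := by
    rintro ⟨U, hU, rfl⟩
    refine ⟨isClosed_sInter fun u hu => (hU u hu).1, ?_⟩
    intro x hx
    apply Set.subset_sInter
    intro u hu
    exact (hU u hu).connectedComponent_subset (hx u hu)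
  tfae_have 1 → 3 := by
    rintro ⟨hcl, hT⟩
    refine ⟨{e : R | IsIdempotentElem e ∧ T ⊆ zeroLocus ({e} : Set R)}, fun e he => he.1, ?_⟩
    apply Set.Subset.antisymm
    · intro x hx
      rw [mem_zeroLocus]
      intro e he
      have := he.2 hx
      rw [mem_zeroLocus, Set.singleton_subset_iff] at this
      exact this
    · intro q hq
      by_contra hqT
      -- for each x ∈ T choose an idempotent in x not in q
      have hex : ∀ x ∈ T, ∃ e : R, IsIdempotentElem e ∧ e ∈ x.asIdeal ∧ e ∉ q.asIdeal := by
        intro x hx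
        have hq' : q ∉ connectedComponent x := fun h => hqT (hT x hx h)
        rw [h5_connectedComponent_eq, mem_zeroLocus, Set.not_subset] at hq'
        obtain ⟨e, he, heq⟩ := hq'
        exact ⟨e, he.1, he.2, heq⟩
      choose! e he hex heq using hex
      have hcomp : IsCompact T := hcl.isCompact
      have hcover : T ⊆ ⋃ x ∈ T, zeroLocus ({e x} : Set R) := by
        intro x hx
        simp only [Set.mem_iUnion]
        refine ⟨x, hx, ?_⟩
        rw [mem_zeroLocus, Set.singleton_subset_iff]; exact hex x hx
      obtain ⟨t, htT, htfin, htcover⟩ := hcomp.elim_finite_subcover_image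
        (b := T) (c := fun x => zeroLocus ({e x} : Set R))
        (fun x hx => (h5_isClopen_zeroLocus_idem (e x) (he x hx)).2) hcover
      -- the product of the e x for x in t
      classical
      let E : R := ∏ x ∈ htfin.toFinset, e x
      have hEidem : IsIdempotentElem E := by
        show (∏ x ∈ htfin.toFinset, e x) * (∏ x ∈ htfin.toFinset, e x) = ∏ x ∈ htfin.toFinset, e x
        rw [← Finset.prod_mul_distrib]
        apply Finset.prod_congr rfl
        intro x hx
        exact (he x (htT (htfin.mem_toFinset.mp hx))).eq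
      have hET : T ⊆ zeroLocus ({E} : Set R) := by
        intro y hy
        obtain ⟨x, hxt, hyx⟩ := Set.mem_iUnion₂.mp (htcover hy)
        rw [mem_zeroLocus, Set.singleton_subset_iff] at hyx ⊢
        have hxt' : x ∈ htfin.toFinset := htfin.mem_toFinset.mpr hxt
        show (∏ x ∈ htfin.toFinset, e x) ∈ y.asIdeal
        rw [← Finset.mul_prod_erase _ _ hxt']
        exact Ideal.mul_mem_right _ _ hyx
      have hEq : E ∈ q.asIdeal := by
        rw [mem_zeroLocus] at hq
        exact hq ⟨hEidem, hET⟩
      have : ∃ x ∈ htfin.toFinset, e x ∈ q.asIdeal := (q.isPrime.prod_mem_iff).mp hEq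
      obtain ⟨x, hx, hxq⟩ := this
      exact heq x (htT (htfin.mem_toFinset.mp hx)) hxq
  tfae_finish

end Groth.Agent.S9618
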