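import Groth.Statements.S9620
import Groth.Agent.Lib.helper5.SpecComp
import Mathlib

set_option autoImplicit false
universe u
open CAlg

namespace Groth.Agent.S9620

theorem result {R : Type u} [CommRing R] (p : PrimeSpectrum R) :
    connectedComponent p = PrimeSpectrum.zeroLocus {e : R | IsIdempotentElem e ∧ e ∈ p.asIdeal} ∧
      ∀ e : R, IsIdempotentElem e → (e ∈ Ideal.span {e : R | IsIdempotentElem e ∧ e ∈ p.asIdeal} ∨ 1 - e ∈ Ideal.span {e : R | IsIdempotentElem e ∧ e ∈ p.asIdeal}) :=
  ⟨Groth.Agent.Lib.helper5.h5_connectedComponent_eq p,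
    fun e he => Groth.Agent.Lib.helper5.h5_idem_dichotomy p e he⟩

end Groth.Agent.S9620
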