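import Groth.Statements.S9621
import Mathlib

set_option autoImplicit false
universe u

namespace Groth.Agent.S9621

theorem key {R : Type u} [CommRing R] (p : Ideal R) (hp : p ∈ minimalPrimes R) (x : R) (hx : x ∈ p) :
    ∃ s : R, s ∉ p ∧ IsNilpotent (x * s) := by
  have hprime : p.IsPrime := Ideal.minimalPrimes_isPrime hp
  have h1 := IsLocalization.AtPrime.radical_map_of_mem_minimalPrimes
    (A := Localization.AtPrime p) p (⊥ : Ideal R) hp
  have h2 : algebraMap R (Localization.AtPrime p) x ∈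
      ((⊥ : Ideal R).map (algebraMap R (Localization.AtPrime p))).radical := by
    rw [h1]; exact Ideal.mem_map_of_mem _ hx
  obtain ⟨n, hn⟩ := h2
  rw [Ideal.map_bot, Ideal.mem_bot, ← map_pow, IsLocalization.map_eq_zero_iff p.primeCompl] at hn
  obtain ⟨s, hs⟩ := hn
  refine ⟨s.1, s.2, n, ?_⟩
  rcases Nat.eq_zero_or_pos n with rfl | hpos
  · rw [pow_zero, mul_one] at hs
    rw [hs, mul_zero, pow_zero]
    -- 1 = 0 case: s = 0 ∈ p contradiction
    exact absurd (hs ▸ p.zero_mem) s.2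
  · rw [mul_pow]
    obtain ⟨k, rfl⟩ : ∃ k, n = k + 1 := ⟨n - 1, by omega⟩
    calc x ^ (k + 1) * (s : R) ^ (k + 1) = (s : R) ^ k * ((s : R) * x ^ (k + 1)) := by ring
      _ = 0 := by rw [hs, mul_zero]

theorem result {R : Type u} [CommRing R] (p : PrimeSpectrum R) (hp : p.asIdeal ∈ minimalPrimes R) (W : Set (PrimeSpectrum R)) (hWo : IsOpen W) (hWc : IsCompact W) (hpW : p ∉ W) :
    ∃ f : R, f ∉ p.asIdeal ∧ Disjoint (PrimeSpectrum.basicOpen f : Set (PrimeSpectrum R)) W := by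
  classical
  obtain ⟨t, rfl⟩ := PrimeSpectrum.isCompact_isOpen_iff.mp ⟨hWc, hWo⟩
  have htp : ∀ x ∈ t, x ∈ p.asIdeal := by
    intro x hx
    simp only [Set.mem_compl_iff, not_not, PrimeSpectrum.mem_zeroLocus] at hpW
    exact hpW hx
  choose! s hs1 hs2 using fun x (hx : x ∈ t) => key p.asIdeal hp x (htp x hx)
  refine ⟨∏ x ∈ t, s x, ?_, ?_⟩
  · intro hmem
    rw [Ideal.IsPrime.prod_mem_iff] at hmem
    obtain ⟨x, hx, hsx⟩ := hmem
    exact hs1 x hx hsx
  · rw [Set.disjoint_left]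
    intro q hq hqW
    simp only [Set.mem_compl_iff, PrimeSpectrum.mem_zeroLocus, Set.not_subset] at hqW
    obtain ⟨x, hxt, hxq⟩ := hqW
    have hq' : ∏ x ∈ t, s x ∉ q.asIdeal := hq
    have hsq : s x ∉ q.asIdeal := by
      intro h
      apply hq'
      rw [← Finset.mul_prod_erase _ _ hxt]
      exact Ideal.mul_mem_right _ _ h
    have hnil : x * s x ∈ q.asIdeal := by
      obtain ⟨n, hn⟩ := hs2 x hxt
      exact q.isPrime.mem_of_pow_mem n (hn ▸ q.asIdeal.zero_mem)
    rcases q.isPrime.mem_or_mem hnil with h | h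
    · exact hxq h
    · exact hsq h

end Groth.Agent.S9621
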