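import Groth.Statements.S9627
import Mathlib

set_option autoImplicit false
universe u
open CAlg

namespace Groth.Agent.S9627

theorem isPrime_nilradical_of_reflects {A B : Type*} [CommRing A] [CommRing B] (f : A →+* B)
    (hf : ∀ x, IsNilpotent (f x) → IsNilpotent x) (h : (nilradical B).IsPrime) :
    (nilradical A).IsPrime := by
  have e : nilradical A = (nilradical B).comap f := by
    ext x
    simp only [mem_nilradical, Ideal.mem_comap]
    exact ⟨fun hx => hx.map f, hf x⟩
  rw [e]
  haveI := h
  exact Ideal.comap_isPrime f _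

theorem irr_of_reflects {A B : Type*} [CommRing A] [CommRing B] (f : A →+* B)
    (hf : ∀ x, IsNilpotent (f x) → IsNilpotent x) (h : IrreducibleSpace (PrimeSpectrum B)) :
    IrreducibleSpace (PrimeSpectrum A) := by
  rw [PrimeSpectrum.irreducibleSpace_iff_isPrime_nilradical] at h ⊢
  exact isPrime_nilradical_of_reflects f hf h

theorem refl_of_inj {A B : Type*} [CommRing A] [CommRing B] (f : A →+* B)
    (hf : Function.Injective f) : ∀ x, IsNilpotent (f x) → IsNilpotent x :=
  fun _ hx => (IsNilpotent.map_iff hf).mp hx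


open TensorProduct in
/-- Let K/k be a field extension such that Spec(k' ⊗_k K) is irreducible for every field extension k'/k,
and let S be a K-algebra such that Spec(K' ⊗_K S) is irreducible for every field extension K'/K.
Then Spec(k' ⊗_k S) is irreducible for every field extension k'/k: S is geometrically irreducible
over k. Here the test fields k'/k and K'/K range over field extensions in the common universe of k
and K; this is equivalent to the unrestricted notions, since an algebraic closure of the base field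
suffices as a test. -/
theorem result {k K S : Type u} [Field k] [Field K] [Algebra k K] [CommRing S] [Algebra K S] [Algebra k S] [IsScalarTower k K S]
    (hK : ∀ (k' : Type u) [Field k'] [Algebra k k'], IrreducibleSpace (PrimeSpectrum (k' ⊗[k] K)))
    (hS : ∀ (K' : Type u) [Field K'] [Algebra K K'], IrreducibleSpace (PrimeSpectrum (K' ⊗[K] S))) :
    ∀ (k' : Type u) [Field k'] [Algebra k k'], IrreducibleSpace (PrimeSpectrum (k' ⊗[k] S)) := by
  intro k' _ _
  have hB : IrreducibleSpace (PrimeSpectrum (K ⊗[k] k')) :=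
    irr_of_reflects (Algebra.TensorProduct.comm k K k').toAlgHom.toRingHom
      (refl_of_inj _ (Algebra.TensorProduct.comm k K k').injective) (hK k')
  have hN : (nilradical (K ⊗[k] k')).IsPrime :=
    PrimeSpectrum.irreducibleSpace_iff_isPrime_nilradical.mp hB
  obtain ⟨N, hNdef⟩ : ∃ N : Ideal (K ⊗[k] k'), N = nilradical (K ⊗[k] k') := ⟨_, rfl⟩
  haveI : N.IsPrime := hNdef ▸ hN
  have hL : IrreducibleSpace (PrimeSpectrum (FractionRing ((K ⊗[k] k') ⧸ N) ⊗[K] S)) :=
    hS (FractionRing ((K ⊗[k] k') ⧸ N))
  -- the five maps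
  have h1 : ∀ x : k' ⊗[k] S, IsNilpotent ((Algebra.TensorProduct.comm k k' S).toAlgHom.toRingHom x) →
      IsNilpotent x := refl_of_inj _ (Algebra.TensorProduct.comm k k' S).injective
  have h2 : ∀ x : S ⊗[k] k',
      IsNilpotent ((Algebra.TensorProduct.cancelBaseChange k K K S k').symm.toAlgHom.toRingHom x) →
      IsNilpotent x := refl_of_inj _ (Algebra.TensorProduct.cancelBaseChange k K K S k').symm.injective
  have h3 : ∀ x : S ⊗[K] (K ⊗[k] k'),
      IsNilpotent ((Algebra.TensorProduct.map (AlgHom.id K S) (Ideal.Quotient.mkₐ K N)).toRingHom x) →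
      IsNilpotent x := by
    intro x hx
    obtain ⟨n, hn⟩ := hx
    have hker : RingHom.ker (Algebra.TensorProduct.map (AlgHom.id K S) (Ideal.Quotient.mkₐ K N)) ≤
        nilradical (S ⊗[K] (K ⊗[k] k')) := by
      rw [Algebra.TensorProduct.lTensor_ker _ (Ideal.Quotient.mkₐ_surjective K N),
        Ideal.map_le_iff_le_comap]
      intro a ha
      rw [Ideal.mem_comap, mem_nilradical]
      have ha' : a ∈ N := by
        rw [RingHom.mem_ker] at ha
        exact Ideal.Quotient.eq_zero_iff_mem.mp ha
      rw [hNdef, mem_nilradical] at ha'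
      exact ha'.map _
    have hxn : x ^ n ∈ RingHom.ker (Algebra.TensorProduct.map (AlgHom.id K S)
        (Ideal.Quotient.mkₐ K N)) := by
      rw [RingHom.mem_ker, map_pow]
      exact hn
    have h := hker hxn
    rw [mem_nilradical] at h
    obtain ⟨m, hm⟩ := h
    exact ⟨n * m, by rw [pow_mul]; exact hm⟩
  have h4 : ∀ x : S ⊗[K] ((K ⊗[k] k') ⧸ N),
      IsNilpotent ((Algebra.TensorProduct.map (AlgHom.id K S)
        (IsScalarTower.toAlgHom K ((K ⊗[k] k') ⧸ N) (FractionRing ((K ⊗[k] k') ⧸ N)))).toRingHom x) →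
      IsNilpotent x := by
    have hinj : Function.Injective (IsScalarTower.toAlgHom K ((K ⊗[k] k') ⧸ N)
        (FractionRing ((K ⊗[k] k') ⧸ N))).toLinearMap := by
      intro a b hab
      exact IsFractionRing.injective ((K ⊗[k] k') ⧸ N) (FractionRing ((K ⊗[k] k') ⧸ N)) hab
    have h4inj : Function.Injective ((Algebra.TensorProduct.map (AlgHom.id K S)
        (IsScalarTower.toAlgHom K ((K ⊗[k] k') ⧸ N)
          (FractionRing ((K ⊗[k] k') ⧸ N)))).toRingHom) :=
      Module.Flat.lTensor_preserves_injective_linearMap (M := S) _ hinj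
    exact refl_of_inj _ h4inj
  have h5 : ∀ x : S ⊗[K] (FractionRing ((K ⊗[k] k') ⧸ N)),
      IsNilpotent ((Algebra.TensorProduct.comm K S
        (FractionRing ((K ⊗[k] k') ⧸ N))).toAlgHom.toRingHom x) → IsNilpotent x :=
    refl_of_inj _ (Algebra.TensorProduct.comm K S (FractionRing ((K ⊗[k] k') ⧸ N))).injective
  exact irr_of_reflects
    ((Algebra.TensorProduct.comm K S (FractionRing ((K ⊗[k] k') ⧸ N))).toAlgHom.toRingHom.comp
      ((Algebra.TensorProduct.map (AlgHom.id K S)
        (IsScalarTower.toAlgHom K ((K ⊗[k] k') ⧸ N)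
          (FractionRing ((K ⊗[k] k') ⧸ N)))).toRingHom.comp
        ((Algebra.TensorProduct.map (AlgHom.id K S) (Ideal.Quotient.mkₐ K N)).toRingHom.comp
          ((Algebra.TensorProduct.cancelBaseChange k K K S k').symm.toAlgHom.toRingHom.comp
            (Algebra.TensorProduct.comm k k' S).toAlgHom.toRingHom))))
    (fun x hx => h1 x (h2 _ (h3 _ (h4 _ (h5 _ hx))))) hL

end Groth.Agent.S9627
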