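import Groth.Statements.S9629
import Mathlib
import Groth.Agent.Lib.helper5.GeomIrr

set_option autoImplicit false
universe u
open CAlg

namespace Groth.Agent.S9629

open scoped TensorProduct

theorem two_to_three_dom {k S : Type u} [Field k] [CommRing S] [Algebra k S]
    (h2 : ∀ (k' : Type u) [Field k'] [Algebra k k'] [Module.Finite k k'], IsDomain (k' ⊗[k] S)) :
    IsDomain (AlgebraicClosure k ⊗[k] S) := by
  haveI : Nontrivial (AlgebraicClosure k ⊗[k] S) := by
    haveI := h2 (⊥ : IntermediateField k (AlgebraicClosure k))
    exact (H5GI.incl_injective (R := S) (L := AlgebraicClosure k)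
      (⊥ : IntermediateField k (AlgebraicClosure k)).val).nontrivial
  haveI : NoZeroDivisors (AlgebraicClosure k ⊗[k] S) := by
    refine ⟨fun {a b} hab => ?_⟩
    obtain ⟨F, hFin, a', b', rfl, rfl⟩ := H5GI.exists_finite_mem_range₂ (R := S) a b
    have hd : IsDomain (↥F ⊗[k] S) := h2 F
    rw [← map_mul] at hab
    have h0 : a' * b' = 0 := H5GI.incl_injective F.val (hab.trans (map_zero _).symm)
    have h4 := @IsLeftCancelMulZero.to_noZeroDivisors _ _ hd.toIsCancelMulZero.toIsLeftCancelMulZero
    rcases (@mul_eq_zero _ _ h4 a' b').mp h0 with h | h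
    · left; rw [h, map_zero]
    · right; rw [h, map_zero]
  exact NoZeroDivisors.to_isDomain _

theorem three_to_one_dom {k S : Type u} [Field k] [CommRing S] [Algebra k S]
    (h3 : IsDomain (AlgebraicClosure k ⊗[k] S)) (k' : Type u) [Field k'] [Algebra k k'] :
    IsDomain (k' ⊗[k] S) := by
  let lift : AlgebraicClosure k →ₐ[k] AlgebraicClosure k' := IsAlgClosed.lift
  letI : Algebra (AlgebraicClosure k) (AlgebraicClosure k') := lift.toRingHom.toAlgebra
  haveI : IsScalarTower k (AlgebraicClosure k) (AlgebraicClosure k') :=
    IsScalarTower.of_algebraMap_eq (fun x => (lift.commutes x).symm)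
  haveI := h3
  haveI h1 : IsDomain (AlgebraicClosure k' ⊗[AlgebraicClosure k] (AlgebraicClosure k ⊗[k] S)) :=
    H5GI.isDomain_tensor
  let e := Algebra.TensorProduct.cancelBaseChange k (AlgebraicClosure k) (AlgebraicClosure k')
    (AlgebraicClosure k') S
  let ι : k' ⊗[k] S →ₐ[k] AlgebraicClosure k' ⊗[k] S :=
    Algebra.TensorProduct.map (IsScalarTower.toAlgHom k k' (AlgebraicClosure k')) (AlgHom.id k S)
  have hι : Function.Injective ι :=
    Module.Flat.rTensor_preserves_injective_linearMap (M := S)
      (IsScalarTower.toAlgHom k k' (AlgebraicClosure k')).toLinearMap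
      (algebraMap k' (AlgebraicClosure k')).injective
  have hinj : Function.Injective (RingHom.comp (e.symm.toRingEquiv.toRingHom) ι.toRingHom) := by
    intro x y hxy
    exact hι (e.symm.injective hxy)
  exact hinj.isDomain _


open TensorProduct in
/-- For a field k and a k-algebra S the following are equivalent: (1) S is geometrically integral, i.e.
k' ⊗_k S is an integral domain for every field extension k'/k; (2) k' ⊗_k S is an integral domain
for every finite field extension k'/k; (3) k̄ ⊗_k S is an integral domain for the algebraic closure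
k̄ of k. Here the test fields range over field extensions in the universe of k; this is equivalent
to the unrestricted notion, since an algebraic closure of k suffices as a test. -/
theorem result {k S : Type u} [Field k] [CommRing S] [Algebra k S] :
    [∀ (k' : Type u) [Field k'] [Algebra k k'], IsDomain (k' ⊗[k] S),
      ∀ (k' : Type u) [Field k'] [Algebra k k'] [Module.Finite k k'], IsDomain (k' ⊗[k] S),
      IsDomain (AlgebraicClosure k ⊗[k] S)].TFAE := by
  tfae_have 1 → 2 := fun h k' _ _ _ => h k'
  tfae_have 2 → 3 := two_to_three_dom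
  tfae_have 3 → 1 := fun h k' _ _ => three_to_one_dom h k'
  tfae_finish

end Groth.Agent.S9629
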