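import Groth.Statements.S9631
import Mathlib

set_option autoImplicit false
universe u

namespace Groth.Agent.S9631

theorem result {R S : Type u} [CommRing R] [CommRing S] (φ : R →+* S) :
    [Function.Surjective (PrimeSpectrum.comap φ),
      ∀ I : Ideal R, ((I.map φ).radical).comap φ = I.radical,
      ∀ I : Ideal R, I.IsRadical → (I.map φ).comap φ = I,
      ∀ p : Ideal R, p.IsPrime → (p.map φ).comap φ = p].TFAE := by
  tfae_have 1 → 2 := by
    intro hsurj I
    apply le_antisymm
    · intro x hx
      rw [Ideal.radical_eq_sInf, Ideal.mem_sInf]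
      rintro p ⟨hIp, hp⟩
      obtain ⟨q, hq⟩ := hsurj ⟨p, hp⟩
      have hq' : q.asIdeal.comap φ = p := congrArg PrimeSpectrum.asIdeal hq
      rw [← hq']
      rw [Ideal.mem_comap] at hx ⊢
      have : (I.map φ).radical ≤ q.asIdeal := by
        rw [Ideal.IsPrime.radical_le_iff q.isPrime, Ideal.map_le_iff_le_comap, hq']
        exact hIp
      exact this hx
    · rw [← Ideal.map_le_iff_le_comap]
      refine le_trans (Ideal.map_radical_le φ) ?_
      exact le_rfl
  tfae_have 2 → 3 := by
    intro h I hI
    apply le_antisymm
    · calc (I.map φ).comap φ ≤ ((I.map φ).radical).comap φ := Ideal.comap_mono Ideal.le_radical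
        _ = I.radical := h I
        _ = I := hI.radical
    · exact Ideal.le_comap_map
  tfae_have 3 → 4 := by
    intro h p hp
    exact h p hp.isRadical
  tfae_have 4 → 1 := by
    intro h p
    have := PrimeSpectrum.mem_range_comap_iff (f := φ) (p := p) |>.mpr (h p.asIdeal p.isPrime)
    exact this
  tfae_finish

end Groth.Agent.S9631
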