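import Groth.Statements.S9633
import Mathlib

set_option autoImplicit false
universe u
open CAlg

namespace Groth.Agent.S9633

open PrimeSpectrum in
theorem result {R : Type u} [CommRing R] :
    [CompactSpace (PrimeSpectrum R) ∧ T2Space (PrimeSpectrum R) ∧ TotallyDisconnectedSpace (PrimeSpectrum R),
      T2Space (PrimeSpectrum R),
      TotallyDisconnectedSpace (PrimeSpectrum R),
      ∀ W : Set (PrimeSpectrum R), IsOpen W → IsCompact W → IsClosed W,
      ∀ p q : PrimeSpectrum R, p ≤ q → p = q,
      ∀ p : Ideal R, p.IsPrime → p.IsMaximal,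
      ∀ p : Ideal R, p.IsPrime → p ∈ minimalPrimes R,
      ∀ f : R, IsClosed (PrimeSpectrum.basicOpen f : Set (PrimeSpectrum R))].TFAE := by
  tfae_have 1 → 2 := fun h => h.2.1
  tfae_have 1 → 3 := fun h => h.2.2
  tfae_have 2 → 5 := by
    intro h p q hpq
    exact ((le_iff_specializes p q).mp hpq).eq
  tfae_have 3 → 5 := by
    intro h p q hpq
    have hspec : p ⤳ q := (le_iff_specializes p q).mp hpq
    have hq : q ∈ closure ({p} : Set (PrimeSpectrum R)) := hspec.mem_closure
    have hp : p ∈ closure ({p} : Set (PrimeSpectrum R)) := subset_closure rfl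
    have hconn : IsPreconnected (closure ({p} : Set (PrimeSpectrum R))) :=
      (isIrreducible_singleton.closure).isConnected.isPreconnected
    exact (isTotallyDisconnected_of_totallyDisconnectedSpace _ _ subset_rfl hconn) hp hq
  tfae_have 5 → 6 := by
    intro h p hp
    obtain ⟨m, hm, hpm⟩ := Ideal.exists_le_maximal p hp.ne_top
    have := h ⟨p, hp⟩ ⟨m, hm.isPrime⟩ hpm
    have e : p = m := congrArg PrimeSpectrum.asIdeal this
    rw [e]; exact hm
  tfae_have 6 → 5 := by
    intro h p q hpq
    have hp := h p.asIdeal p.isPrime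
    exact PrimeSpectrum.ext (hp.eq_of_le q.isPrime.ne_top hpq)
  tfae_have 5 → 7 := by
    intro h p hp
    obtain ⟨q, hq, hqp⟩ := Ideal.exists_minimalPrimes_le (I := (⊥ : Ideal R)) (J := p) bot_le
    have hqprime : q.IsPrime := hq.1.1
    have := h ⟨q, hqprime⟩ ⟨p, hp⟩ hqp
    have e : q = p := congrArg PrimeSpectrum.asIdeal this
    rw [← e]; exact hq
  tfae_have 7 → 5 := by
    intro h p q hpq
    have hq := h q.asIdeal q.isPrime
    have hle : q.asIdeal ≤ p.asIdeal := hq.2 ⟨p.isPrime, bot_le⟩ hpq
    exact PrimeSpectrum.ext (le_antisymm hpq hle)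
  tfae_have 5 → 8 := by
    intro h f
    rw [← localization_away_comap_range (Localization.Away f) f]
    apply isClosed_range_of_stableUnderSpecialization
    intro x y hxy hx
    have : x = y := h x y ((le_iff_specializes x y).mpr hxy)
    rw [← this]; exact hx
  tfae_have 8 → 4 := by
    intro h W hWo hWc
    obtain ⟨t, rfl⟩ := isCompact_isOpen_iff.mp ⟨hWc, hWo⟩
    have : (zeroLocus (t : Set R))ᶜ = ⋃ f ∈ t, (basicOpen f : Set (PrimeSpectrum R)) := by
      ext x
      simp only [Set.mem_compl_iff, mem_zeroLocus, Set.not_subset, Set.mem_iUnion,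
        SetLike.mem_coe, mem_basicOpen, exists_prop]
    rw [this]
    exact t.finite_toSet.isClosed_biUnion fun f _ => h f
  tfae_have 4 → 8 := by
    intro h f
    exact h _ (basicOpen f).2 (isCompact_basicOpen f)
  tfae_have 8 → 1 := by
    intro h
    have hTS : TotallySeparatedSpace (PrimeSpectrum R) := by
      rw [totallySeparatedSpace_iff_exists_isClopen]
      intro p q hpq
      by_cases hle : p.asIdeal ≤ q.asIdeal
      · have hnle : ¬ q.asIdeal ≤ p.asIdeal := fun h' => hpq (PrimeSpectrum.ext (le_antisymm hle h'))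
        obtain ⟨f, hfq, hfp⟩ := Set.not_subset.mp hnle
        exact ⟨basicOpen f, ⟨h f, (basicOpen f).2⟩, hfp, fun hq => hq hfq⟩
      · obtain ⟨f, hfp, hfq⟩ := Set.not_subset.mp hle
        have hclopen : IsClopen (basicOpen f : Set (PrimeSpectrum R)) := ⟨h f, (basicOpen f).2⟩
        refine ⟨(basicOpen f : Set (PrimeSpectrum R))ᶜ, hclopen.compl, ?_, ?_⟩
        · exact fun hp => hp hfp
        · rw [compl_compl]; exact hfq
    exact ⟨inferInstance, inferInstance, inferInstance⟩
  tfae_finish

end Groth.Agent.S9633
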