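import Groth.Statements.S9636
import Mathlib

set_option autoImplicit false
universe u
open CAlg

namespace Groth.Agent.S9636

open TensorProduct in
theorem key_S9636 {k k' : Type u} [Field k] [Field k'] [Algebra k k'] [Algebra.IsSeparable k k']
    (x : k' ⊗[k] k') (hx : x ∈ KaehlerDifferential.ideal k k') :
    ∃ c : k' ⊗[k] k', Algebra.TensorProduct.lmul' (S := k') k c = 1 ∧ c * x = 0 := by
  rw [← KaehlerDifferential.span_range_eq_ideal] at hx
  induction hx using Submodule.span_induction with
  | mem x hx =>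
    obtain ⟨s, rfl⟩ := hx
    let F : IntermediateField k k' := IntermediateField.adjoin k {s}
    haveI : FiniteDimensional k F :=
      IntermediateField.adjoin.finiteDimensional (Algebra.IsIntegral.isIntegral (R := k) s)
    haveI : Algebra.IsSeparable k F := Algebra.isSeparable_tower_bot_of_isSeparable k F k'
    haveI : Algebra.FormallyUnramified k F := Algebra.FormallyUnramified.of_isSeparable k F
    let t : F ⊗[k] F := Algebra.FormallyUnramified.elem k F
    let φ : F ⊗[k] F →ₐ[k] k' ⊗[k] k' := Algebra.TensorProduct.map F.val F.val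
    have hcomm : ∀ y : F ⊗[k] F, Algebra.TensorProduct.lmul' (S := k') k (φ y) =
        F.val (Algebra.TensorProduct.lmul' (S := F) k y) := by
      intro y
      induction y using TensorProduct.induction_on with
      | zero => simp
      | tmul a b => simp [φ]
      | add x y hx hy => simp only [map_add, hx, hy]
    let s' : F := ⟨s, IntermediateField.mem_adjoin_simple_self k s⟩
    have hs' : φ ((1 : F) ⊗ₜ[k] s' - s' ⊗ₜ[k] (1 : F)) = (1 : k') ⊗ₜ[k] s - s ⊗ₜ[k] (1 : k') := by
      simp [φ, s']
    refine ⟨φ t, ?_, ?_⟩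
    · rw [hcomm, Algebra.FormallyUnramified.lmul_elem, map_one]
    · show φ t * ((1 : k') ⊗ₜ[k] s - s ⊗ₜ[k] (1 : k')) = 0
      rw [← hs', ← map_mul, mul_comm t, Algebra.FormallyUnramified.one_tmul_sub_tmul_one_mul_elem,
        map_zero]
  | zero => exact ⟨1, map_one _, mul_zero _⟩
  | add x y _ _ hx hy =>
    obtain ⟨c, hc1, hc2⟩ := hx
    obtain ⟨d, hd1, hd2⟩ := hy
    refine ⟨c * d, by rw [map_mul, hc1, hd1, one_mul], ?_⟩
    have e1 : c * d * x = d * (c * x) := by ring
    have e2 : c * d * y = c * (d * y) := by ring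
    rw [mul_add, e1, e2, hc2, hd2, mul_zero, mul_zero, add_zero]
  | smul a x _ hx =>
    obtain ⟨c, hc1, hc2⟩ := hx
    exact ⟨c, hc1, by rw [smul_eq_mul, mul_left_comm, hc2, mul_zero]⟩

open TensorProduct in
/-- Let k'/k be a separable algebraic field extension. Then for some multiplicative subset S of k' ⊗_k
k' the multiplication map k' ⊗_k k' → k' is a localization at S: there is a ring isomorphism S⁻¹(k'
⊗_k k') ≅ k' carrying the localization map to the multiplication map. -/
theorem result {k k' : Type u} [Field k] [Field k'] [Algebra k k'] [Algebra.IsSeparable k k'] :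
    ∃ (S : Submonoid (k' ⊗[k] k')) (e : Localization S ≃+* k'), ∀ x : k' ⊗[k] k', e (algebraMap (k' ⊗[k] k') (Localization S) x) = Algebra.TensorProduct.lmul' (S := k') k x := by
  classical
  let m : k' ⊗[k] k' →ₐ[k] k' := Algebra.TensorProduct.lmul' (S := k') k
  let S : Submonoid (k' ⊗[k] k') := (⊥ : Submonoid k').comap (m : k' ⊗[k] k' →* k')
  have hS : ∀ y, y ∈ S ↔ m y = 1 := by
    intro y
    simp [S, Submonoid.mem_comap, Submonoid.mem_bot]
  letI : Algebra (k' ⊗[k] k') k' := m.toRingHom.toAlgebra
  have halg : ∀ x, algebraMap (k' ⊗[k] k') k' x = m x := fun x => rfl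
  haveI : IsLocalization S k' := by
    rw [isLocalization_iff]
    refine ⟨?_, ?_, ?_⟩
    · rintro ⟨y, hy⟩
      rw [halg, (hS y).1 hy]
      exact isUnit_one
    · intro z
      refine ⟨(z ⊗ₜ[k] (1 : k'), 1), ?_⟩
      simp [halg, m]
    · intro x y hxy
      have hmem : x - y ∈ KaehlerDifferential.ideal k k' := by
        show x - y ∈ RingHom.ker _
        rw [RingHom.mem_ker, map_sub, sub_eq_zero]
        exact hxy
      obtain ⟨c, hc1, hc2⟩ := key_S9636 _ hmem
      refine ⟨⟨c, (hS c).2 hc1⟩, ?_⟩
      rw [mul_sub, sub_eq_zero] at hc2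
      exact hc2
  refine ⟨S, (IsLocalization.algEquiv S (Localization S) k').toRingEquiv, fun x => ?_⟩
  exact (IsLocalization.algEquiv S (Localization S) k').commutes x

end Groth.Agent.S9636
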