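import Groth.Statements.S9637
import Mathlib

set_option autoImplicit false
universe u

namespace Groth.Agent.S9637

theorem result {R : Type u} [CommRing R] [IsNoetherianRing R] [IsLocalRing R] (I : Ideal R) (hI : I ≤ IsLocalRing.maximalIdeal R) (M : Type u) [AddCommGroup M] [Module R M] [Module.Finite R M] :
    (∃ x ∈ I, IsSMulRegular M x) ↔ ∀ q ∈ associatedPrimes R M, ¬ I ≤ q := by
  classical
  constructor
  · rintro ⟨x, hxI, hx⟩ q hq hIq
    have h1 : x ∈ ⋃ p ∈ associatedPrimes R M, (p : Set R) :=
      Set.mem_biUnion hq (hIq hxI)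
    rw [biUnion_associatedPrimes_eq_compl_regular R M] at h1
    exact h1 hx
  · intro h
    by_contra hcon
    push Not at hcon
    have hfin : (associatedPrimes R M).Finite := associatedPrimes.finite R M
    have hsub : (I : Set R) ⊆ ⋃ p ∈ (hfin.toFinset : Set (Ideal R)), (p : Set R) := by
      intro x hx
      have : x ∈ { r : R | IsSMulRegular M r }ᶜ := hcon x hx
      rw [← biUnion_associatedPrimes_eq_compl_regular R M] at this
      simpa using this
    have hp : ∀ i ∈ hfin.toFinset, i ≠ (⊥ : Ideal R) → i ≠ (⊥ : Ideal R) → Ideal.IsPrime ((fun p : Ideal R => p) i) := by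
      intro i hi _ _
      rw [Set.Finite.mem_toFinset] at hi
      exact IsAssociatedPrime.isPrime hi
    obtain ⟨q, hq, hIq⟩ := (Ideal.subset_union_prime (s := hfin.toFinset) (f := fun p : Ideal R => p) ⊥ ⊥ hp).mp hsub
    rw [Set.Finite.mem_toFinset] at hq
    exact h q hq hIq

end Groth.Agent.S9637
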