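import Groth.Statements.S9639
import Groth.Agent.Lib.helper5.SpecConn
import Mathlib

set_option autoImplicit false
universe u

namespace Groth.Agent.S9639

open TensorProduct in
theorem result {k S : Type u} [Field k] [CommRing S] [Algebra k S]
    (hS : ∀ (k' : Type u) [Field k'] [Algebra k k'], ConnectedSpace (PrimeSpectrum (k' ⊗[k] S))) (S' : Subalgebra k S) :
    ∀ (k' : Type u) [Field k'] [Algebra k k'], ConnectedSpace (PrimeSpectrum (k' ⊗[k] S')) := by
  intro k' _ _
  have := hS k'
  let f : k' ⊗[k] S' →ₐ[k] k' ⊗[k] S := Algebra.TensorProduct.map (AlgHom.id k k') S'.val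
  have hf : Function.Injective f := by
    have h1 : Function.Injective (LinearMap.lTensor k' S'.val.toLinearMap) :=
      Module.Flat.lTensor_preserves_injective_linearMap _ Subtype.val_injective
    have h2 : ⇑f = ⇑(LinearMap.lTensor k' S'.val.toLinearMap) := by
      funext x
      induction x using TensorProduct.induction_on with
      | zero => simp
      | tmul a b => simp [f]
      | add a b ha hb => simp only [map_add, ha, hb]
    rw [h2]; exact h1
  exact Groth.Agent.Lib.helper5.h5_connectedSpace_of_injective f.toRingHom hf

end Groth.Agent.S9639
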