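import Groth.Statements.S9641
import Mathlib

set_option autoImplicit false
universe u

namespace Groth.Agent.S9641

open TensorProduct

/-- the comparison map for subalgebras -/
noncomputable def cmp {k R S : Type u} [Field k] [CommRing R] [CommRing S] [Algebra k R] [Algebra k S]
    (R' : Subalgebra k R) (S' : Subalgebra k S) : R' ⊗[k] S' →ₐ[k] R ⊗[k] S :=
  Algebra.TensorProduct.map R'.val S'.val

theorem cmp_injective {k R S : Type u} [Field k] [CommRing R] [CommRing S] [Algebra k R] [Algebra k S]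
    (R' : Subalgebra k R) (S' : Subalgebra k S) : Function.Injective (cmp R' S') := by
  have h1 : Function.Injective (TensorProduct.map R'.val.toLinearMap S'.val.toLinearMap) :=
    TensorProduct.map_injective_of_flat_flat _ _ Subtype.val_injective Subtype.val_injective
  have h2 : ⇑(cmp R' S') = ⇑(TensorProduct.map R'.val.toLinearMap S'.val.toLinearMap) := by
    funext x
    induction x using TensorProduct.induction_on with
    | zero => simp
    | tmul a b => simp [cmp]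
    | add a b ha hb => simp only [map_add, ha, hb]
  rw [h2]; exact h1

theorem mem_range {k R S : Type u} [Field k] [CommRing R] [CommRing S] [Algebra k R] [Algebra k S]
    (z : R ⊗[k] S) : ∃ (R' : Subalgebra k R) (S' : Subalgebra k S), R'.FG ∧ S'.FG ∧
      z ∈ Set.range (cmp R' S') := by
  have mono : ∀ (R₁ R₂ : Subalgebra k R) (S₁ S₂ : Subalgebra k S), R₁ ≤ R₂ → S₁ ≤ S₂ →
      Set.range (cmp R₁ S₁) ⊆ Set.range (cmp R₂ S₂) := by
    rintro R₁ R₂ S₁ S₂ hR hS _ ⟨x, rfl⟩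
    refine ⟨Algebra.TensorProduct.map (Subalgebra.inclusion hR) (Subalgebra.inclusion hS) x, ?_⟩
    induction x using TensorProduct.induction_on with
    | zero => simp
    | tmul a b => simp [cmp]
    | add a b ha hb => simp only [map_add, ha, hb]
  induction z using TensorProduct.induction_on with
  | zero => exact ⟨⊥, ⊥, Subalgebra.fg_bot, Subalgebra.fg_bot, 0, map_zero _⟩
  | tmul r s =>
    refine ⟨Algebra.adjoin k {r}, Algebra.adjoin k {s}, ?_, ?_, ?_⟩
    · simpa using Subalgebra.fg_adjoin_finset (R := k) ({r} : Finset R)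
    · simpa using Subalgebra.fg_adjoin_finset (R := k) ({s} : Finset S)
    · refine ⟨(⟨r, Algebra.subset_adjoin rfl⟩ : Algebra.adjoin k {r}) ⊗ₜ
        (⟨s, Algebra.subset_adjoin rfl⟩ : Algebra.adjoin k {s}), ?_⟩
      simp [cmp]
  | add a b ha hb =>
    obtain ⟨R₁, S₁, hR₁, hS₁, h₁⟩ := ha
    obtain ⟨R₂, S₂, hR₂, hS₂, h₂⟩ := hb
    refine ⟨R₁ ⊔ R₂, S₁ ⊔ S₂, hR₁.sup hR₂, hS₁.sup hS₂, ?_⟩
    obtain ⟨x₁, hx₁⟩ := mono R₁ (R₁ ⊔ R₂) S₁ (S₁ ⊔ S₂) le_sup_left le_sup_left h₁
    obtain ⟨x₂, hx₂⟩ := mono R₂ (R₁ ⊔ R₂) S₂ (S₁ ⊔ S₂) le_sup_right le_sup_right h₂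
    exact ⟨x₁ + x₂, by rw [map_add, hx₁, hx₂]⟩

theorem result {k R S : Type u} [Field k] [CommRing R] [CommRing S] [Algebra k R] [Algebra k S] (h : ¬ IsReduced (R ⊗[k] S)) :
    ∃ (R' : Subalgebra k R) (S' : Subalgebra k S), R'.FG ∧ S'.FG ∧ ¬ IsReduced (R' ⊗[k] S') := by
  have : ∃ z : R ⊗[k] S, IsNilpotent z ∧ z ≠ 0 := by
    by_contra hcon
    push Not at hcon
    exact h ⟨hcon⟩
  obtain ⟨z, ⟨n, hn⟩, hz0⟩ := this
  obtain ⟨R', S', hR', hS', z', rfl⟩ := mem_range z
  refine ⟨R', S', hR', hS', ?_⟩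
  intro hred
  have hz' : z' ^ n = 0 := cmp_injective R' S' (by rw [map_pow, hn, map_zero])
  have : z' = 0 := hred.eq_zero z' ⟨n, hz'⟩
  exact hz0 (by rw [this, map_zero])

end Groth.Agent.S9641
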