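import Groth.Statements.S9642
import Mathlib

set_option autoImplicit false
universe u
open CAlg

namespace Groth.Agent.S9642

/-- In the general form stated there: let R → S be a ring map inducing an open map Spec(S) → Spec(R),
with Spec(R) irreducible, such that for a dense set of primes p of R the fibre ring κ(p) ⊗_R S has
irreducible spectrum. Then Spec(S) is irreducible. The flat and finitely presented case is the
special case in which the map on spectra is open by fppf-openness. -/
theorem result {R S : Type u} [CommRing R] [CommRing S] [Algebra R S]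
    (hopen : IsOpenMap (PrimeSpectrum.comap (algebraMap R S))) [IrreducibleSpace (PrimeSpectrum R)]
    (D : Set (PrimeSpectrum R)) (hD : Dense D) (hfib : ∀ p ∈ D, IrreducibleSpace (PrimeSpectrum (p.asIdeal.Fiber S))) :
    IrreducibleSpace (PrimeSpectrum S) := by
  classical
  have hfc : Continuous (PrimeSpectrum.comap (algebraMap R S)) :=
    PrimeSpectrum.continuous_comap _
  have hfibirr : ∀ p ∈ D, IsIrreducible (PrimeSpectrum.comap (algebraMap R S) ⁻¹' {p}) := by
    intro p hp
    haveI := hfib p hp
    let e := PrimeSpectrum.preimageHomeomorphFiber R S p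
    have h1 := (IrreducibleSpace.isIrreducible_univ (PrimeSpectrum (p.asIdeal.Fiber S))).image
      e.symm e.symm.continuous.continuousOn
    rw [Set.image_univ, e.symm.surjective.range_eq] at h1
    haveI : IrreducibleSpace (PrimeSpectrum.comap (algebraMap R S) ⁻¹' {p}) :=
      (irreducibleSpace_def _).2 h1
    exact IsIrreducible.of_subtype
  obtain ⟨p0, hp0⟩ : D.Nonempty := hD.nonempty
  obtain ⟨x0, hx0⟩ := (hfibirr p0 hp0).nonempty
  haveI : Nonempty (PrimeSpectrum S) := ⟨x0⟩
  haveI : PreirreducibleSpace (PrimeSpectrum S) := by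
    apply PreirreducibleSpace.of_forall_nonempty_inter
    intro U V hU hV hUne hVne
    have hfU : IsOpen (PrimeSpectrum.comap (algebraMap R S) '' U) := hopen U hU
    have hfV : IsOpen (PrimeSpectrum.comap (algebraMap R S) '' V) := hopen V hV
    have hne : ((PrimeSpectrum.comap (algebraMap R S) '' U) ∩
        (PrimeSpectrum.comap (algebraMap R S) '' V)).Nonempty :=
      nonempty_preirreducible_inter hfU hfV (hUne.image _) (hVne.image _)
    obtain ⟨p, ⟨hpU, hpV⟩, hpD⟩ := hD.inter_open_nonempty _ (hfU.inter hfV) hne
    obtain ⟨u, huU, hup⟩ := hpU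
    obtain ⟨v, hvV, hvp⟩ := hpV
    have hirr := (hfibirr p hpD).isPreirreducible
    obtain ⟨z, -, hzU, hzV⟩ := hirr U V hU hV ⟨u, hup, huU⟩ ⟨v, hvp, hvV⟩
    exact ⟨z, hzU, hzV⟩
  exact { toNonempty := inferInstance }

end Groth.Agent.S9642
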