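import Groth.Statements.S9643
import Mathlib

set_option autoImplicit false
universe u
open CAlg

namespace Groth.Agent.S9643

/-- Let R be a Noetherian ring, M a finite R-module and 0 = M_0 ⊆ M_1 ⊆ ⋯ ⊆ M_n = M a chain of
submodules whose successive quotients M_i/M_{i-1} are isomorphic to R/p_i for prime ideals p_i. Then
the primes minimal among p_1, …, p_n are exactly the primes minimal in the support of M. -/
theorem result {R : Type u} [CommRing R] [IsNoetherianRing R] (M : Type u) [AddCommGroup M] [Module R M] [Module.Finite R M]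
    {n : ℕ} (N : Fin (n + 1) → Submodule R M) (hN : Monotone N) (h0 : N 0 = ⊥) (hlast : N (Fin.last n) = ⊤)
    (p : Fin n → PrimeSpectrum R)
    (hquot : ∀ i : Fin n, Nonempty ((↥(N i.succ) ⧸ Submodule.comap (N i.succ).subtype (N i.castSucc)) ≃ₗ[R] (R ⧸ (p i).asIdeal))) :
    {q : PrimeSpectrum R | Minimal (fun x => x ∈ Set.range p) q} = {q : PrimeSpectrum R | Minimal (fun x => x ∈ Module.support R M) q} := by
  classical
  have hsupp : ∀ i : Fin (n + 1), Module.support R (N i) =
      ⋃ j : {j : Fin n // j.castSucc < i}, PrimeSpectrum.zeroLocus ((p j.1).asIdeal : Set R) := by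
    intro i
    induction i using Fin.induction with
    | zero =>
      rw [h0, Module.support_eq_empty]
      symm
      rw [Set.iUnion_eq_empty]
      rintro ⟨j, hj⟩
      exact absurd hj (Fin.not_lt_zero _)
    | succ i ih =>
      have hle : N i.castSucc ≤ N i.succ := hN (le_of_lt (Fin.castSucc_lt_succ))
      have hfg : Function.Exact (Submodule.inclusion hle)
          (Submodule.comap (N i.succ).subtype (N i.castSucc)).mkQ := by
        intro x
        rw [Submodule.mkQ_apply, Submodule.Quotient.mk_eq_zero, Submodule.mem_comap]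
        constructor
        · intro hx; exact ⟨⟨x.1, hx⟩, Subtype.ext rfl⟩
        · rintro ⟨y, rfl⟩; exact y.2
      rw [Module.support_of_exact hfg (Submodule.inclusion_injective hle)
        (Submodule.mkQ_surjective _), ih]
      obtain ⟨e⟩ := hquot i
      rw [e.support_eq, Module.support_eq_zeroLocus, Ideal.annihilator_quotient]
      ext q
      simp only [Set.mem_union, Set.mem_iUnion, Subtype.exists, exists_prop]
      constructor
      · rintro (⟨j, hj, hq⟩ | hq)
        · exact ⟨j, lt_trans hj (Fin.castSucc_lt_succ), hq⟩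
        · exact ⟨i, Fin.castSucc_lt_succ, hq⟩
      · rintro ⟨j, hj, hq⟩
        have hj' : (j : ℕ) < (i : ℕ) + 1 := by
          have := Fin.lt_iff_val_lt_val.1 hj
          simpa using this
        by_cases hji : (j : ℕ) < i
        · left
          exact ⟨j, Fin.lt_iff_val_lt_val.2 (by simpa using hji), hq⟩
        · right
          have hjeq : j = i := Fin.ext (by omega)
          subst hjeq; exact hq
  have hM : Module.support R M =
      ⋃ j : Fin n, PrimeSpectrum.zeroLocus ((p j).asIdeal : Set R) := by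
    rw [← (Submodule.topEquiv (R := R) (M := M)).support_eq, ← hlast, hsupp]
    ext q
    simp only [Set.mem_iUnion, Subtype.exists, exists_prop]
    constructor
    · rintro ⟨j, -, hq⟩; exact ⟨j, hq⟩
    · rintro ⟨j, hq⟩; exact ⟨j, Fin.castSucc_lt_last j, hq⟩
  rw [hM]
  ext q
  simp only [Set.mem_setOf_eq]
  constructor
  · rintro ⟨⟨j, rfl⟩, hmin⟩
    refine ⟨Set.mem_iUnion.2 ⟨j, ?_⟩, ?_⟩
    · rw [PrimeSpectrum.mem_zeroLocus]
    · intro y hy hyq
      obtain ⟨j', hj'⟩ := Set.mem_iUnion.1 hy
      rw [PrimeSpectrum.mem_zeroLocus, SetLike.coe_subset_coe] at hj'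
      have h1 : p j' ≤ p j := le_trans (show p j' ≤ y from hj') hyq
      have h2 : p j ≤ p j' := hmin ⟨j', rfl⟩ h1
      exact le_trans h2 (show p j' ≤ y from hj')
  · rintro ⟨hq, hmin⟩
    obtain ⟨j, hj⟩ := Set.mem_iUnion.1 hq
    rw [PrimeSpectrum.mem_zeroLocus, SetLike.coe_subset_coe] at hj
    have hmem : ∀ j', p j' ∈ ⋃ j, PrimeSpectrum.zeroLocus ((p j).asIdeal : Set R) :=
      fun j' => Set.mem_iUnion.2 ⟨j', by rw [PrimeSpectrum.mem_zeroLocus]⟩
    have h1 : q ≤ p j := hmin (hmem j) (show p j ≤ q from hj)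
    have hq_eq : q = p j := le_antisymm h1 (show p j ≤ q from hj)
    refine ⟨⟨j, hq_eq.symm⟩, ?_⟩
    rintro y ⟨j', rfl⟩ hyq
    exact hmin (hmem j') hyq

end Groth.Agent.S9643
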