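import Groth.Statements.S9645
import Mathlib

set_option autoImplicit false
universe u
open CAlg

namespace Groth.Agent.S9645

theorem result {A B As Bs : Type u} [CommRing A] [CommRing B] [CommRing As] [CommRing Bs] [Algebra A B] [Algebra A As] [Algebra B Bs] [Algebra As Bs] [Algebra A Bs] [IsScalarTower A B Bs] [IsScalarTower A As Bs]
    (S : Submonoid A) [IsLocalization S As] [IsLocalization (Algebra.algebraMapSubmonoid B S) Bs] (x : Bs) :
    IsIntegral As x ↔ ∃ b : B, IsIntegral A b ∧ ∃ s ∈ S, x * algebraMap A Bs s = algebraMap B Bs b := by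
  constructor
  · intro hx
    obtain ⟨⟨m, hm⟩, hmx⟩ := IsIntegral.exists_multiple_integral_of_isLocalization S x hx
    -- y = m • x is integral over A
    obtain ⟨⟨b', ⟨t, ht⟩⟩, hb'⟩ := IsLocalization.surj (Algebra.algebraMapSubmonoid B S) (m • x)
    obtain ⟨t0, ht0, rfl⟩ := ht
    -- (m • x) * algebraMap B Bs (algebraMap A B t0) = algebraMap B Bs b'
    have hint : IsIntegral A (algebraMap B Bs b') := by
      rw [← hb']
      exact hmx.mul (by
        simp only
        rw [← IsScalarTower.algebraMap_apply A B Bs]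
        exact isIntegral_algebraMap)
    obtain ⟨m', hm', hm'b⟩ := IsLocalization.exists_isIntegral_smul_of_isIntegral_map S hint
    refine ⟨m' • b', hm'b, m' * t0 * m, S.mul_mem (S.mul_mem hm' ht0) hm, ?_⟩
    simp only at hb'
    rw [← IsScalarTower.algebraMap_apply A B Bs] at hb'
    have e1 : algebraMap B Bs (m' • b') = algebraMap A Bs m' * algebraMap B Bs b' := by
      rw [Algebra.smul_def, map_mul, ← IsScalarTower.algebraMap_apply A B Bs]
    have e2 : m • x = algebraMap A Bs m * x := Algebra.smul_def m x
    rw [e1, ← hb', e2, map_mul, map_mul]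
    ring
  · rintro ⟨b, hb, s, hs, hxs⟩
    obtain ⟨u, hu⟩ := IsLocalization.map_units As (⟨s, hs⟩ : S)
    have h1 : IsIntegral As (algebraMap B Bs b) := (hb.map (IsScalarTower.toAlgHom A B Bs)).tower_top
    have h2 : x = algebraMap B Bs b * algebraMap As Bs (↑u⁻¹ : As) := by
      rw [← hxs, IsScalarTower.algebraMap_apply A As Bs, mul_assoc, ← map_mul]
      simp only at hu
      rw [← hu, Units.mul_inv, map_one, mul_one]
    rw [h2]
    exact h1.mul isIntegral_algebraMap

end Groth.Agent.S9645
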