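import Groth.Statements.S9646
import Mathlib

set_option autoImplicit false
universe u
open CAlg

namespace Groth.Agent.S9646

theorem result {R S : Type u} [CommRing R] [CommRing S] [Algebra R S] (x : S)
    (h : ∀ (p : Ideal R) [p.IsPrime] (Rp Sp : Type u) [CommRing Rp] [CommRing Sp] [Algebra R Rp] [Algebra S Sp] [Algebra Rp Sp] [Algebra R Sp] [IsScalarTower R S Sp] [IsScalarTower R Rp Sp] [IsLocalization.AtPrime Rp p] [IsLocalization (Algebra.algebraMapSubmonoid S p.primeCompl) Sp], IsIntegral Rp (algebraMap S Sp x)) :
    IsIntegral R x := by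
  let J : Ideal R :=
    { carrier := {r | IsIntegral R (r • x)}
      add_mem' := fun {a b} ha hb => by
        show IsIntegral R ((a + b) • x)
        rw [add_smul]; exact ha.add hb
      zero_mem' := by
        show IsIntegral R ((0 : R) • x)
        rw [zero_smul]; exact isIntegral_zero
      smul_mem' := fun c r hr => by
        show IsIntegral R ((c • r) • x)
        rw [smul_assoc]
        exact hr.smul c }
  by_cases hJ : J = ⊤
  · have : (1 : R) ∈ J := by rw [hJ]; trivial
    have h1 : IsIntegral R ((1 : R) • x) := this
    rwa [one_smul] at h1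
  · exfalso
    obtain ⟨p, hp, hJp⟩ := Ideal.exists_le_maximal J hJ
    have hpp : p.IsPrime := hp.isPrime
    have hint := h p (Localization.AtPrime p)
      (Localization (Algebra.algebraMapSubmonoid S p.primeCompl))
    obtain ⟨⟨m, hm⟩, hmx⟩ := IsIntegral.exists_multiple_integral_of_isLocalization p.primeCompl _ hint
    have e : (⟨m, hm⟩ : p.primeCompl) • algebraMap S
        (Localization (Algebra.algebraMapSubmonoid S p.primeCompl)) x =
        algebraMap S (Localization (Algebra.algebraMapSubmonoid S p.primeCompl)) (m • x) := by
      rw [Submonoid.smul_def, Algebra.smul_def, Algebra.smul_def, map_mul,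
        ← IsScalarTower.algebraMap_apply R S]
    rw [e] at hmx
    obtain ⟨m', hm', hm'x⟩ := IsLocalization.exists_isIntegral_smul_of_isIntegral_map p.primeCompl hmx
    have hmem : m' * m ∈ J := by
      show IsIntegral R ((m' * m) • x)
      rw [mul_smul]; exact hm'x
    exact (p.primeCompl.mul_mem hm' hm) (hJp hmem)

end Groth.Agent.S9646
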