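import Groth.Statements.S9656
import Mathlib

set_option autoImplicit false
universe u
open CAlg

namespace Groth.Agent.S9656

open Polynomial in
theorem result {ι : Type u} [Fintype ι] {R S : ι → Type u} [∀ i, CommRing (R i)] [∀ i, CommRing (S i)] (f : ∀ i, R i →+* S i) (s : ∀ i, S i) :
    (RingHom.pi fun i => (f i).comp (Pi.evalRingHom R i)).IsIntegralElem s ↔ ∀ i, (f i).IsIntegralElem (s i) := by
  set F := (RingHom.pi fun i => (f i).comp (Pi.evalRingHom R i)) with hF
  have hcomp : ∀ i, (Pi.evalRingHom S i).comp F = (f i).comp (Pi.evalRingHom R i) := fun i => rfl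
  constructor
  · rintro ⟨p, hp, hps⟩ i
    refine ⟨p.map (Pi.evalRingHom R i), hp.map _, ?_⟩
    rw [eval₂_map, ← hcomp i]
    have := congrArg (Pi.evalRingHom S i) hps
    rw [hom_eval₂, map_zero] at this
    exact this
  · intro h
    choose p hp hps using h
    classical
    set d := ∑ i, (p i).natDegree with hd
    have hle : ∀ i, (p i).natDegree ≤ d := fun i =>
      Finset.single_le_sum (f := fun i => (p i).natDegree) (fun _ _ => Nat.zero_le _) (Finset.mem_univ i)
    let q : ∀ i, (R i)[X] := fun i => p i * X ^ (d - (p i).natDegree)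
    have hqm : ∀ i, (q i).Monic := fun i => (hp i).mul (monic_X_pow _)
    have hqd : ∀ i, (q i).natDegree ≤ d := fun i => by
      refine (natDegree_mul_le).trans ?_
      refine (Nat.add_le_add_left (natDegree_X_pow_le _) _).trans ?_
      exact (Nat.add_sub_cancel' (hle i)).le
    have hqc : ∀ i, (q i).coeff d = 1 := fun i => by
      show (p i * X ^ (d - (p i).natDegree)).coeff d = 1
      rw [coeff_mul_X_pow', if_pos (Nat.sub_le _ _), Nat.sub_sub_self (hle i)]
      exact (hp i).coeff_natDegree
    have hqs : ∀ i, eval₂ (f i) (s i) (q i) = 0 := fun i => by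
      rw [eval₂_mul, hps i, zero_mul]
    let P : (∀ i, R i)[X] := ∑ k ∈ Finset.range (d + 1), monomial k (fun i => (q i).coeff k)
    have hPcoeff : ∀ k, P.coeff k = if k ≤ d then (fun i => (q i).coeff k) else 0 := by
      intro k
      simp only [P, finsetSum_coeff, coeff_monomial]
      rw [Finset.sum_ite_eq' (Finset.range (d + 1)) k]
      simp only [Finset.mem_range, Nat.lt_succ_iff]
    have hPmap : ∀ i, P.map (Pi.evalRingHom R i) = q i := by
      intro i
      ext k
      rw [coeff_map, hPcoeff]
      split_ifs with hk
      · rfl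
      · rw [map_zero]
        symm
        apply coeff_eq_zero_of_natDegree_lt
        have := hqd i; omega
    refine ⟨P, ?_, ?_⟩
    · apply monic_of_natDegree_le_of_coeff_eq_one d
      · apply natDegree_sum_le_of_forall_le
        intro k hk
        exact (natDegree_monomial_le _).trans (Nat.lt_succ_iff.mp (Finset.mem_range.mp hk))
      · rw [hPcoeff, if_pos le_rfl]
        funext i
        exact hqc i
    · funext i
      have : (eval₂ F s P) i = Pi.evalRingHom S i (eval₂ F s P) := rfl
      rw [this, hom_eval₂, hcomp i, ← eval₂_map, hPmap]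
      exact hqs i

end Groth.Agent.S9656
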