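import Groth.Statements.S9658
import Mathlib

set_option autoImplicit false
universe u
open CAlg

namespace Groth.Agent.S9658

theorem partition {R : Type u} [CommRing R] {ι : Type u} [Fintype ι] (f : ι → R)
    (hf : Ideal.span (Set.range f) = ⊤) (N : ℕ) : ∃ a : ι → R, ∑ i, a i * f i ^ N = 1 := by
  have h := Ideal.span_pow_eq_top (Set.range f) hf N
  have h2 : (fun x : R => x ^ N) '' Set.range f = Set.range (fun i => f i ^ N) := by
    rw [← Set.range_comp]; rfl
  rw [h2] at h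
  have : (1 : R) ∈ Ideal.span (Set.range fun i => f i ^ N) := by rw [h]; trivial
  exact (Ideal.mem_span_range_iff_exists_fun).mp this

theorem result {R : Type u} [CommRing R] {ι : Type u} [Fintype ι] (f : ι → R) (hf : Ideal.span (Set.range f) = ⊤)
    (M : Type u) [AddCommGroup M] [Module R M]
    (Mi : ι → Type u) [∀ i, AddCommGroup (Mi i)] [∀ i, Module R (Mi i)] (g : ∀ i, M →ₗ[R] Mi i) [∀ i, IsLocalizedModule (Submonoid.powers (f i)) (g i)]
    (Mij : ι → ι → Type u) [∀ i j, AddCommGroup (Mij i j)] [∀ i j, Module R (Mij i j)] (gij : ∀ i j, M →ₗ[R] Mij i j) [∀ i j, IsLocalizedModule (Submonoid.powers (f i * f j)) (gij i j)]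
    (ρ₁ : ∀ i j, Mi i →ₗ[R] Mij i j) (hρ₁ : ∀ i j, ρ₁ i j ∘ₗ g i = gij i j) (ρ₂ : ∀ i j, Mi j →ₗ[R] Mij i j) (hρ₂ : ∀ i j, ρ₂ i j ∘ₗ g j = gij i j) :
    (∀ m : M, (∀ i, g i m = 0) → m = 0) ∧
      ∀ s : ∀ i, Mi i, (∀ i j, ρ₁ i j (s i) = ρ₂ i j (s j)) → ∃ m : M, ∀ i, g i m = s i := by
  classical
  -- smul by powers of f i is injective on Mi i
  have hinj : ∀ i (n : ℕ) (x y : Mi i), f i ^ n • x = f i ^ n • y → x = y := by
    intro i n x y h
    exact (IsLocalizedModule.smul_inj (g i) (⟨f i ^ n, n, rfl⟩ : Submonoid.powers (f i)) x y).mp h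
  constructor
  · intro m hm
    have h1 : ∀ i, ∃ n : ℕ, f i ^ n • m = 0 := by
      intro i
      obtain ⟨⟨_, n, rfl⟩, hn⟩ := (IsLocalizedModule.eq_zero_iff (Submonoid.powers (f i)) (g i)).mp (hm i)
      exact ⟨n, hn⟩
    choose n hn using h1
    set N := Finset.univ.sup n with hN
    have h2 : ∀ i, f i ^ N • m = 0 := by
      intro i
      have hle : n i ≤ N := Finset.le_sup (Finset.mem_univ i)
      rw [← Nat.sub_add_cancel hle, pow_add, mul_smul, hn i, smul_zero]
    obtain ⟨a, ha⟩ := partition f hf N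
    calc m = (1 : R) • m := (one_smul _ _).symm
      _ = (∑ i, a i * f i ^ N) • m := by rw [ha]
      _ = ∑ i, (a i * f i ^ N) • m := Finset.sum_smul
      _ = 0 := Finset.sum_eq_zero fun i _ => by rw [mul_smul, h2 i, smul_zero]
  · intro s hs
    -- step 1: common denominators
    have h1 : ∀ i, ∃ (n : ℕ) (m : M), f i ^ n • s i = g i m := by
      intro i
      obtain ⟨⟨m, ⟨_, n, rfl⟩⟩, hm⟩ := IsLocalizedModule.surj (Submonoid.powers (f i)) (g i) (s i)
      exact ⟨n, m, hm⟩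
    choose n m0 hm0 using h1
    set N₀ := Finset.univ.sup n with hN₀
    obtain ⟨m1, hm1⟩ : ∃ m1 : ι → M, ∀ i, f i ^ N₀ • s i = g i (m1 i) := by
      refine ⟨fun i => f i ^ (N₀ - n i) • m0 i, fun i => ?_⟩
      have hle : n i ≤ N₀ := Finset.le_sup (Finset.mem_univ i)
      show f i ^ N₀ • s i = g i (f i ^ (N₀ - n i) • m0 i)
      rw [map_smul, ← hm0 i, ← mul_smul, ← pow_add, Nat.sub_add_cancel hle]
    -- step 2: compatibility
    have h2 : ∀ i j, ∃ k : ℕ, (f i * f j) ^ k • (f j ^ N₀ • m1 i) = (f i * f j) ^ k • (f i ^ N₀ • m1 j) := by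
      intro i j
      have e1 : gij i j (f j ^ N₀ • m1 i) = gij i j (f i ^ N₀ • m1 j) := by
        have a1 : gij i j (m1 i) = ρ₁ i j (g i (m1 i)) := by rw [← hρ₁ i j]; rfl
        have a2 : gij i j (m1 j) = ρ₂ i j (g j (m1 j)) := by rw [← hρ₂ i j]; rfl
        rw [map_smul, map_smul, a1, a2, ← hm1 i, ← hm1 j, map_smul, map_smul, hs i j, smul_comm]
      obtain ⟨⟨_, k, rfl⟩, hk⟩ := IsLocalizedModule.exists_of_eq (S := Submonoid.powers (f i * f j)) e1
      exact ⟨k, hk⟩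
    choose k hk using h2
    set K := Finset.univ.sup (fun i => Finset.univ.sup (k i)) with hK
    have hkK : ∀ i j, k i j ≤ K := fun i j =>
      (Finset.le_sup (f := k i) (Finset.mem_univ j)).trans
        (Finset.le_sup (f := fun i => Finset.univ.sup (k i)) (Finset.mem_univ i))
    have h3 : ∀ i j, (f i * f j) ^ K • (f j ^ N₀ • m1 i) = (f i * f j) ^ K • (f i ^ N₀ • m1 j) := by
      intro i j
      rw [← Nat.sub_add_cancel (hkK i j), pow_add, mul_smul, mul_smul, hk i j]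
    set N := N₀ + K with hN
    obtain ⟨m2, hm2, hcompat⟩ : ∃ m2 : ι → M, (∀ i, f i ^ N • s i = g i (m2 i)) ∧
        ∀ i j, f j ^ N • m2 i = f i ^ N • m2 j := by
      refine ⟨fun i => f i ^ K • m1 i, fun i => ?_, fun i j => ?_⟩
      · show f i ^ (N₀ + K) • s i = g i (f i ^ K • m1 i)
        rw [map_smul, ← hm1 i, ← mul_smul, ← pow_add, add_comm]
      show f j ^ (N₀ + K) • (f i ^ K • m1 i) = f i ^ (N₀ + K) • (f j ^ K • m1 j)
      have e1 : f j ^ (N₀ + K) • (f i ^ K • m1 i) = (f i * f j) ^ K • (f j ^ N₀ • m1 i) := by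
        rw [← mul_smul, ← mul_smul, mul_pow, pow_add]; congr 1; ring
      have e2 : f i ^ (N₀ + K) • (f j ^ K • m1 j) = (f i * f j) ^ K • (f i ^ N₀ • m1 j) := by
        rw [← mul_smul, ← mul_smul, mul_pow, pow_add]; congr 1; ring
      rw [e1, e2, h3 i j]
    obtain ⟨a, ha⟩ := partition f hf N
    refine ⟨∑ j, a j • m2 j, fun i => ?_⟩
    apply hinj i N
    rw [hm2 i, ← map_smul]
    congr 1
    calc f i ^ N • ∑ j, a j • m2 j = ∑ j, a j • (f i ^ N • m2 j) := by
          rw [Finset.smul_sum]; exact Finset.sum_congr rfl fun j _ => smul_comm _ _ _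
      _ = ∑ j, a j • (f j ^ N • m2 i) := Finset.sum_congr rfl fun j _ => by rw [hcompat i j]
      _ = ∑ j, (a j * f j ^ N) • m2 i := Finset.sum_congr rfl fun j _ => (mul_smul _ _ _).symm
      _ = (∑ j, a j * f j ^ N) • m2 i := Finset.sum_smul.symm
      _ = m2 i := by rw [ha, one_smul]

end Groth.Agent.S9658
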