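import Groth.Statements.S9664
import Mathlib

set_option autoImplicit false
universe u
open CAlg

namespace Groth.Agent.S9664

/-- Let R → S be a ring map, N an S-module, q a prime of S and p the prime of R below q; an associated
prime of a module is a prime ideal equal to the annihilator of some element. Then q is an associated
prime of the S-module N ⊗_R κ(p) (the fibre module of N over p, an S-module by restriction of
scalars along S → S ⊗_R κ(p)) if and only if q is the inverse image in S of an associated prime of N
⊗_R κ(p) regarded as a module over the fibre ring S ⊗_R κ(p). -/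
theorem result {R S : Type u} [CommRing R] [CommRing S] [Algebra R S] (N : Type u) [AddCommGroup N] [Module S N] [Module R N] [IsScalarTower R S N]
    (p : Ideal R) [p.IsPrime] (q : Ideal S) [q.IsPrime] (hq : q.comap (algebraMap R S) = p) :
    q ∈ FlatCA.ass S (FlatCA.fiberMod p S N) ↔
      ∃ Q ∈ FlatCA.ass (p.Fiber S) (FlatCA.fiberMod p S N),
        Q.comap (Algebra.TensorProduct.includeRight (R := R) (A := p.ResidueField) (B := S)).toRingHom = q := by
  have hsm : ∀ (s : S) (x : FlatCA.fiberMod p S N), s • x =
      ((Algebra.TensorProduct.includeRight (R := R) (A := p.ResidueField) (B := S)) s) • x := by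
    intro s x
    letI : Algebra S (p.Fiber S) := Algebra.TensorProduct.rightAlgebra
    have key : ∀ (s : S) (x : TensorProduct S (p.Fiber S) N), s • x =
        ((Algebra.TensorProduct.includeRight (R := R) (A := p.ResidueField) (B := S)) s) • x := by
      intro s x
      rw [← algebraMap_smul (p.Fiber S) s x]
      rfl
    exact key s x
  have hann : ∀ x : FlatCA.fiberMod p S N, (Submodule.span S {x}).annihilator =
      ((Submodule.span (p.Fiber S) {x}).annihilator).comap
        (Algebra.TensorProduct.includeRight (R := R) (A := p.ResidueField) (B := S)).toRingHom := by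
    intro x
    ext s
    rw [Ideal.mem_comap, Submodule.mem_annihilator_span_singleton,
      Submodule.mem_annihilator_span_singleton, hsm]
    rfl
  constructor
  · rintro ⟨hqp, x, hx⟩
    refine ⟨(Submodule.span (p.Fiber S) {x}).annihilator, ⟨?_, x, rfl⟩, ?_⟩
    · rw [hann] at hx
      set Q := (Submodule.span (p.Fiber S) {x}).annihilator with hQ
      have hunit : ∀ r : R, r ∉ p → IsUnit (algebraMap R (p.Fiber S) r) := by
        intro r hr
        rw [IsScalarTower.algebraMap_apply R p.ResidueField (p.Fiber S)]
        refine IsUnit.map _ ?_
        rw [isUnit_iff_ne_zero, Ne, Ideal.algebraMap_residueField_eq_zero]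
        exact hr
      refine ⟨?_, ?_⟩
      · intro htop
        rw [htop, Ideal.comap_top] at hx
        exact hqp.ne_top hx
      · intro z z' hzz'
        obtain ⟨r, hr, s, e⟩ := Ideal.Fiber.exists_smul_eq_one_tmul p z
        obtain ⟨r', hr', s', e'⟩ := Ideal.Fiber.exists_smul_eq_one_tmul p z'
        have h1 : (Algebra.TensorProduct.includeRight (R := R) (A := p.ResidueField) (B := S))
            (s * s') ∈ Q := by
          rw [map_mul, Algebra.TensorProduct.includeRight_apply,
            Algebra.TensorProduct.includeRight_apply, ← e, ← e', Algebra.smul_def, Algebra.smul_def]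
          have : algebraMap R (p.Fiber S) r * z * (algebraMap R (p.Fiber S) r' * z') =
              (algebraMap R (p.Fiber S) r * algebraMap R (p.Fiber S) r') * (z * z') := by ring
          rw [this]
          exact Ideal.mul_mem_left _ _ hzz'
        have h2 : s * s' ∈ q := by
          rw [hx]
          exact h1
        rcases hqp.mem_or_mem h2 with h3 | h3
        · left
          rw [hx, Ideal.mem_comap] at h3
          have h4 : TensorProduct.tmul R (1 : p.ResidueField) s ∈ Q := h3
          rw [← e, Algebra.smul_def] at h4
          exact (Ideal.unit_mul_mem_iff_mem _ (hunit r hr)).1 h4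
        · right
          rw [hx, Ideal.mem_comap] at h3
          have h4 : TensorProduct.tmul R (1 : p.ResidueField) s' ∈ Q := h3
          rw [← e', Algebra.smul_def] at h4
          exact (Ideal.unit_mul_mem_iff_mem _ (hunit r' hr')).1 h4
    · rw [hann] at hx
      exact hx.symm
  · rintro ⟨Q, ⟨_, x, hQx⟩, hQq⟩
    refine ⟨inferInstance, x, ?_⟩
    rw [hann, ← hQx, hQq]

end Groth.Agent.S9664
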