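import Groth.Statements.S9667
import Mathlib

set_option autoImplicit false
universe u
open CAlg

namespace Groth.Agent.S9667

open TensorProduct in
/-- Part (3): (B = B_fin): let R → S be a ring map with S Noetherian, N an S-module, M an R-module and q
a prime of S; an associated prime of a module is a prime ideal equal to the annihilator of some
element. If q is an associated prime of the S-module N ⊗_R M, then there is a finitely generated
R-submodule M' ⊆ M such that q is an associated prime of the S-module N ⊗_R M'. -/
theorem result {R S : Type u} [CommRing R] [CommRing S] [Algebra R S] (N : Type u) [AddCommGroup N] [Module S N] [Module R N] [IsScalarTower R S N] [IsNoetherianRing S]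
    (M : Type u) [AddCommGroup M] [Module R M] (q : Ideal S) [q.IsPrime] (h : q ∈ FlatCA.ass S (N ⊗[R] M)) :
    ∃ M' : Submodule R M, M'.FG ∧ q ∈ FlatCA.ass S (N ⊗[R] ↥M') := by
  classical
  obtain ⟨hq, x, hx⟩ := h
  obtain ⟨T, hT⟩ := (isNoetherianRing_iff_ideal_fg S).1 inferInstance q
  obtain ⟨M₀, hfin, hsub⟩ := TensorProduct.exists_finite_submodule_right_of_setFinite
    ({x} : Set (N ⊗[R] M)) (Set.finite_singleton x)
  obtain ⟨y, hy⟩ := hsub (Set.mem_singleton x)
  have hM₀ : M₀.FG := Module.Finite.iff_fg.1 hfin
  have hlin : ∀ {P P' : Type u} [AddCommGroup P] [AddCommGroup P'] [Module R P] [Module R P']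
      (f : P →ₗ[R] P') (s : S) (y : N ⊗[R] P), LinearMap.lTensor N f (s • y) =
      s • LinearMap.lTensor N f y := fun f s y =>
    map_smul (TensorProduct.AlgebraTensorModule.lTensor S N f) s y
  have hcomm : ∀ {P P' : Type u} [AddCommGroup P] [AddCommGroup P'] [Module R P] [Module R P']
      (f : P →ₗ[R] P') (t : N ⊗[R] P), TensorProduct.comm R N P' (LinearMap.lTensor N f t) =
        LinearMap.rTensor N f (TensorProduct.comm R N P t) := by
    intro P P' _ _ _ _ f t
    induction t using TensorProduct.induction_on with
    | zero => simp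
    | tmul n m => simp
    | add a b ha hb => simp only [map_add, ha, hb]
  have hvanish : ∀ (P : Submodule R M) (hP : P.FG) (t : N ⊗[R] P),
      LinearMap.lTensor N P.subtype t = 0 →
      ∃ (Q : Submodule R M) (hPQ : P ≤ Q), Q.FG ∧
        LinearMap.lTensor N (Submodule.inclusion hPQ) t = 0 := by
    intro P hP t ht
    have h1 : LinearMap.rTensor N P.subtype (TensorProduct.comm R N P t) = 0 := by
      rw [← hcomm, ht, map_zero]
    obtain ⟨Q, hPQ, hQ, h2⟩ := TensorProduct.eq_zero_of_fg_of_subtype_eq_zero hP h1
    refine ⟨Q, hPQ, hQ, ?_⟩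
    rw [← hcomm] at h2
    exact (TensorProduct.comm R N Q).injective (by rw [h2, map_zero])
  have hxq : ∀ s : S, s ∈ q ↔ s • x = 0 := by
    intro s
    rw [hx, Submodule.mem_annihilator_span_singleton]
  have key : ∀ F : Finset S, (∀ s ∈ F, s ∈ q) → ∃ (Q : Submodule R M) (hle : M₀ ≤ Q), Q.FG ∧
      ∀ s ∈ F, s • (LinearMap.lTensor N (Submodule.inclusion hle) y) = 0 := by
    intro F
    induction F using Finset.induction_on with
    | empty =>
      intro _
      exact ⟨M₀, le_rfl, hM₀, fun s hs => absurd hs (Finset.notMem_empty s)⟩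
    | insert a F ha ih =>
      intro hF
      obtain ⟨Q, hle, hQ, hz⟩ := ih fun s hs => hF s (Finset.mem_insert_of_mem hs)
      have h1 : LinearMap.lTensor N Q.subtype
          (a • LinearMap.lTensor N (Submodule.inclusion hle) y) = 0 := by
        rw [hlin, ← LinearMap.comp_apply, ← LinearMap.lTensor_comp,
          Submodule.subtype_comp_inclusion, hy]
        exact (hxq a).1 (hF a (Finset.mem_insert_self a F))
      obtain ⟨Q', hQQ', hQ', h2⟩ := hvanish Q hQ _ h1
      have hcomp : ∀ s : S, s • LinearMap.lTensor N (Submodule.inclusion (hle.trans hQQ')) y =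
          LinearMap.lTensor N (Submodule.inclusion hQQ')
            (s • LinearMap.lTensor N (Submodule.inclusion hle) y) := by
        intro s
        rw [hlin, ← LinearMap.comp_apply, ← LinearMap.lTensor_comp]
        rfl
      refine ⟨Q', hle.trans hQQ', hQ', fun s hs => ?_⟩
      rw [hcomp]
      rcases Finset.mem_insert.1 hs with rfl | hs
      · exact h2
      · rw [hz s hs, map_zero]
  obtain ⟨Q, hle, hQ, hz⟩ := key T (fun s hs => by
    rw [← hT]
    exact Ideal.subset_span hs)
  refine ⟨Q, hQ, hq, LinearMap.lTensor N (Submodule.inclusion hle) y, ?_⟩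
  refine le_antisymm ?_ ?_
  · rw [← hT]
    refine Ideal.span_le.2 fun s hs => ?_
    rw [SetLike.mem_coe, Submodule.mem_annihilator_span_singleton]
    exact hz s hs
  · intro s hs
    rw [Submodule.mem_annihilator_span_singleton] at hs
    rw [hxq, ← hy, ← Submodule.subtype_comp_inclusion _ _ hle, LinearMap.lTensor_comp,
      LinearMap.comp_apply, ← hlin, hs, map_zero]

end Groth.Agent.S9667
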