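import Groth.Statements.S9669
import Mathlib
import Groth.Agent.Lib.helper5.FiberMod

set_option autoImplicit false
universe u
open CAlg

namespace Groth.Agent.S9669

/-- Part (4): (A = A_fin = A'_fin): let R → S be a ring map, N an S-module flat over R and p a prime of
R; an associated prime of a module is a prime ideal equal to the annihilator of some element. Then
the set of associated primes of the S-module N/pN equals the set of associated primes of the
S-module N ⊗_R κ(p) (the fibre module over p, an S-module by restriction of scalars), and every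
prime in this set lies over p. -/
theorem result {R S : Type u} [CommRing R] [CommRing S] [Algebra R S] (N : Type u) [AddCommGroup N] [Module S N] [Module R N] [IsScalarTower R S N] [Module.Flat R N] (p : Ideal R) [p.IsPrime] :
    FlatCA.ass S (N ⧸ (p.map (algebraMap R S)) • (⊤ : Submodule S N)) = FlatCA.ass S (FlatCA.fiberMod p S N) ∧
      ∀ q ∈ FlatCA.ass S (N ⧸ (p.map (algebraMap R S)) • (⊤ : Submodule S N)), q.comap (algebraMap R S) = p := by
  rw [FlatCA.h5_ass_congr (FlatCA.h5Theta p S N)]
  refine ⟨Set.ext fun q => ⟨?_, ?_⟩, ?_⟩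
  · rintro ⟨hqp, nbar, hn⟩
    obtain ⟨n, rfl⟩ := Submodule.Quotient.mk_surjective _ nbar
    exact ⟨hqp, _, hn.trans (FlatCA.h5_ann_rho_eq_of_flat p S N n)⟩
  · rintro ⟨hqp, x, hx⟩
    obtain ⟨n₀, hn₀⟩ := FlatCA.h5_G_ann_exists p S N x
    exact ⟨hqp, _, (hx.trans hn₀).trans (FlatCA.h5_ann_rho_eq_of_flat p S N n₀).symm⟩
  · rintro q ⟨hqp, nbar, hn⟩
    obtain ⟨n, rfl⟩ := Submodule.Quotient.mk_surjective _ nbar
    haveI := hqp
    exact FlatCA.h5_comap_eq_of_flat p S N q n hn

end Groth.Agent.S9669
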