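import Groth.Statements.S9672
import Mathlib
import Groth.Agent.Lib.helper5.QCClosure
import Groth.Agent.S9677

set_option autoImplicit false
universe u
open CategoryTheory CategoryTheory.Limits AlgebraicGeometry
open Mor

namespace Groth.Agent.S9672

/-- Let f : Y ⟶ X be quasi-compact and quasi-separated, and write X' for the normalization of X relative
to Y. If x' ∈ X' is the generic point of some irreducible component of X', then there is a point y ∈
Y that is generic in an irreducible component of Y and is sent to x' by the canonical morphism Y ⟶
X'. -/
theorem result {X Y : Scheme.{u}} (f : Y ⟶ X)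
    [QuasiCompact f] [QuasiSeparated f] (x' : ↥f.normalization)
    (hx' : closure {x'} ∈ irreducibleComponents ↥f.normalization) :
    ∃ y : Y, closure {y} ∈ irreducibleComponents ↥Y ∧ f.toNormalization.base y = x' := by
  set g := f.toNormalization with hg
  have hcl : x' ∈ closure (g '' Set.univ) := by
    rw [Set.image_univ, g.denseRange.closure_range]
    trivial
  obtain ⟨t, -, hts⟩ := H5QC.exists_specializes_of_mem_closure_image g Set.univ isClosed_univ x' hcl
  have h1 : g t = x' := Groth.Agent.S9677.h5_generic_eq hx' hts
  have hirr : IsIrreducible (irreducibleComponent t) := isIrreducible_irreducibleComponent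
  have hclosed : IsClosed (irreducibleComponent t) := isClosed_irreducibleComponent
  obtain ⟨y, hy⟩ := QuasiSober.sober hirr hclosed
  refine ⟨y, ?_, ?_⟩
  · rw [hy.def]
    exact irreducibleComponent_mem_irreducibleComponents t
  · have hyt : y ⤳ t := hy.specializes mem_irreducibleComponent
    have h2 : g y ⤳ g t := hyt.map g.continuous
    rw [h1] at h2
    exact Groth.Agent.S9677.h5_generic_eq hx' h2

end Groth.Agent.S9672
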