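import Groth.Statements.S9679
import Mathlib
import Groth.Agent.S9677
import Groth.Agent.S9678
import Groth.Agent.Lib.helper5.FibreClosed
import Groth.Agent.Lib.helper5.QCClosure

set_option autoImplicit false
universe u
open CategoryTheory CategoryTheory.Limits AlgebraicGeometry
open Mor

namespace Groth.Agent.S9679

open Groth.Agent.S9678 in
lemma generic_mem_of_dense_open {T : Type*} [TopologicalSpace T]
    (hfin : (irreducibleComponents T).Finite) (W : Set T) (hW : IsOpen W) (hd : Dense W) {η : T}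
    (hη : closure {η} ∈ irreducibleComponents T) : η ∈ W := by
  have hN : IsOpen (others (closure {η}))ᶜ := (isClosed_others hfin _).isOpen_compl
  obtain ⟨z, hzN, hzW⟩ := hd.inter_open_nonempty _ hN ⟨η, generic_notMem_others hη⟩
  have h1 : z ∈ closure {η} := compl_others_subset hzN
  exact (specializes_iff_mem_closure.mpr h1).mem_open hW hzW

lemma fibre_generic_singleton {X Y : Scheme.{u}} (f : X ⟶ Y)
    (hbij : Set.BijOn (fun x : X => f.base x) {x : X | closure {x} ∈ irreducibleComponents ↥X}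
      {y : Y | closure {y} ∈ irreducibleComponents ↥Y})
    (hiso : ∀ x : X, closure {x} ∈ irreducibleComponents ↥X → IsIso (f.stalkMap x))
    {x : X} (hx : closure {x} ∈ irreducibleComponents ↥X) (x' : X) (h2 : f x' = f x) :
    x' = x := by
  have hy : closure {f x} ∈ irreducibleComponents ↥Y := hbij.mapsTo hx
  haveI := hiso x hx
  have halg := Groth.Agent.S9677.h5_algebraic_of_isIso_stalkMap f x
  have hZ := irreducibleComponent_mem_irreducibleComponents x'
  obtain ⟨ξ, hξ⟩ := QuasiSober.sober hZ.1 (isClosed_of_mem_irreducibleComponents _ hZ)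
  have hξcl : closure {ξ} = irreducibleComponent x' := hξ.def
  have hξgen : closure {ξ} ∈ irreducibleComponents X := hξcl ▸ hZ
  have hξx' : ξ ⤳ x' := specializes_iff_mem_closure.mpr (hξcl ▸ mem_irreducibleComponent)
  have h3 : f ξ ⤳ f x' := hξx'.map f.continuous
  have h4 : f ξ = f x := Groth.Agent.S9677.h5_generic_eq hy (h2 ▸ h3)
  have h5 : ξ = x := hbij.injOn hξgen hx h4
  rw [h5] at hξx'
  exact H5FibreClosed.eq_of_algebraic f hξx' h2.symm halg

lemma isIso_restrict {X Y : Scheme.{u}} (f : X ⟶ Y) (U : X.Opens) (V₀ : Y.Opens)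
    (hUV : U ≤ f ⁻¹ᵁ V₀) [IsIso (f.resLE V₀ U hUV)] (V : Y.Opens) (hV : V ≤ V₀)
    (hVU : f ⁻¹ᵁ V ≤ U) : IsIso (f ∣_ V) := by
  rw [isIso_iff_isOpenImmersion_and_surjective]
  haveI : IsOpenImmersion (U.ι ≫ f) := by
    rw [← f.resLE_comp_ι hUV]
    infer_instance
  constructor
  · have h1 : (f ∣_ V) ≫ V.ι = X.homOfLE hVU ≫ U.ι ≫ f := by
      rw [morphismRestrict_ι, ← Category.assoc, Scheme.homOfLE_ι]
    haveI : IsOpenImmersion ((f ∣_ V) ≫ V.ι) := by
      rw [h1]
      infer_instance
    exact IsOpenImmersion.of_comp (f ∣_ V) V.ι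
  · refine ⟨fun v => ?_⟩
    obtain ⟨u, hu⟩ := (f.resLE V₀ U hUV).surjective ⟨v.1, hV v.2⟩
    have hfu : f u.1 = v.1 := by
      have h2 := congr($(f.resLE_comp_ι hUV) u)
      rw [Scheme.Hom.comp_apply, Scheme.Hom.comp_apply, hu] at h2
      exact h2.symm
    have huV : u.1 ∈ f ⁻¹ᵁ V := by
      change f u.1 ∈ V
      rw [hfu]
      exact v.2
    refine ⟨⟨u.1, huV⟩, ?_⟩
    apply Subtype.ext
    have h3 := congr($(morphismRestrict_ι f V) ⟨u.1, huV⟩)
    rw [Scheme.Hom.comp_apply, Scheme.Hom.comp_apply] at h3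
    exact h3.trans hfu

/-- Suppose X and Y have finitely many irreducible components and f : X ⟶ Y is birational, i.e. f
restricts to a bijection between the generic points of the irreducible components of X and those of
Y and induces an isomorphism of local rings at every generic point of an irreducible component of X.
Assume that f is quasi-compact or separated, and moreover that f is locally of finite presentation,
or else Y is reduced and f is locally of finite type. Under these hypotheses, some dense open V ⊆ Y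
has the property that the restriction f⁻¹(V) ⟶ V of f is an isomorphism. -/
theorem result {X Y : Scheme.{u}} (f : X ⟶ Y)
    (hXfin : (irreducibleComponents ↥X).Finite) (hYfin : (irreducibleComponents ↥Y).Finite)
    (hbij : Set.BijOn (fun x : X => f.base x) {x : X | closure {x} ∈ irreducibleComponents ↥X}
      {y : Y | closure {y} ∈ irreducibleComponents ↥Y})
    (hiso : ∀ x : X, closure {x} ∈ irreducibleComponents ↥X → IsIso (f.stalkMap x))
    (hf₁ : QuasiCompact f ∨ IsSeparated f)
    (hf₂ : (LocallyOfFiniteType f ∧ IsReduced Y) ∨ LocallyOfFinitePresentation f) :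
    ∃ V : Y.Opens, Dense (V : Set ↥Y) ∧ IsIso (f ∣_ V) := by
  obtain ⟨U, V₀, hUV, hUd, hVd, hIso⟩ := Groth.Agent.S9678.result f hXfin hYfin hbij hiso hf₂
  haveI := hIso
  have hgenU : ∀ x : X, closure {x} ∈ irreducibleComponents ↥X → x ∈ U := fun x hx =>
    generic_mem_of_dense_open hXfin (U : Set X) U.2 hUd hx
  have hgenV : ∀ y : Y, closure {y} ∈ irreducibleComponents ↥Y → y ∈ V₀ := fun y hy =>
    generic_mem_of_dense_open hYfin (V₀ : Set Y) V₀.2 hVd hy
  rcases hf₁ with hqc | hsep
  · haveI := hqc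
    let T : Set X := (U : Set X)ᶜ
    have hT : IsClosed T := U.2.isClosed_compl
    let V : Y.Opens := V₀ ⊓ ⟨(closure (f '' T))ᶜ, isClosed_closure.isOpen_compl⟩
    have hVU : f ⁻¹ᵁ V ≤ U := by
      intro x' hx'
      by_contra hn
      exact hx'.2 (subset_closure ⟨x', hn, rfl⟩)
    refine ⟨V, ?_, isIso_restrict f U V₀ hUV V inf_le_left hVU⟩
    apply Groth.Agent.S9678.dense_of_generic_mem
    intro η hη
    refine ⟨hgenV η hη, ?_⟩
    intro hcl
    obtain ⟨t, htT, hts⟩ := H5QC.exists_specializes_of_mem_closure_image f T hT η hcl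
    have h1 : f t = η := Groth.Agent.S9677.h5_generic_eq hη hts
    obtain ⟨x, hx, hxη⟩ := hbij.surjOn hη
    have hxη' : f x = η := hxη
    have h2 : t = x := fibre_generic_singleton f hbij hiso hx t (h1.trans hxη'.symm)
    exact htT (h2 ▸ hgenU x hx)
  · haveI := hsep
    have hVU : f ⁻¹ᵁ V₀ ≤ U := by
      let e := f.resLE V₀ U hUV
      let s : V₀.toScheme ⟶ X := inv e ≫ U.ι
      have hsf : s ≫ f = V₀.ι := by
        rw [Category.assoc, ← f.resLE_comp_ι hUV, IsIso.inv_hom_id_assoc]
      have hsr : Set.range s ⊆ Set.range (f ⁻¹ᵁ V₀).ι := by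
        rw [Scheme.Opens.range_ι]
        rintro _ ⟨v, rfl⟩
        change f (s v) ∈ V₀
        rw [← Scheme.Hom.comp_apply, hsf]
        exact v.2
      let s' : V₀.toScheme ⟶ (f ⁻¹ᵁ V₀).toScheme := IsOpenImmersion.lift (f ⁻¹ᵁ V₀).ι s hsr
      have hs' : s' ≫ (f ⁻¹ᵁ V₀).ι = s := IsOpenImmersion.lift_fac _ _ _
      have hs'f : s' ≫ (f ∣_ V₀) = 𝟙 _ := by
        rw [← cancel_mono V₀.ι, Category.assoc, morphismRestrict_ι, ← Category.assoc, hs', hsf,
          Category.id_comp]
      haveI : IsSeparated (f ∣_ V₀) := IsZariskiLocalAtTarget.restrict hsep V₀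
      haveI : IsClosedImmersion (s' ≫ (f ∣_ V₀)) := by
        rw [hs'f]
        infer_instance
      haveI : IsClosedImmersion s' := IsClosedImmersion.of_comp s' (f ∣_ V₀)
      have hclosed : IsClosed (Set.range s') := s'.isClosedEmbedding.isClosed_range
      have hrange_s : Set.range s = (U : Set X) := by
        ext z
        constructor
        · rintro ⟨v, rfl⟩
          change U.ι ((inv e) v) ∈ U
          exact ((inv e) v).2
        · intro hz
          refine ⟨e ⟨z, hz⟩, ?_⟩
          change (inv e ≫ U.ι) (e ⟨z, hz⟩) = z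
          rw [← Scheme.Hom.comp_apply, IsIso.hom_inv_id_assoc]
          rfl
      have hrs : (f ⁻¹ᵁ V₀).ι '' Set.range s' = (U : Set X) := by
        rw [← Set.range_comp, ← hrange_s, ← hs']
        rfl
      intro x' hx'
      have hz : (⟨x', hx'⟩ : (f ⁻¹ᵁ V₀).toScheme) ∈ closure (Set.range s') := by
        rw [(f ⁻¹ᵁ V₀).ι.isOpenEmbedding.isEmbedding.closure_eq_preimage_closure_image, hrs,
          hUd.closure_eq]
        trivial
      rw [hclosed.closure_eq] at hz
      have h2 : (f ⁻¹ᵁ V₀).ι ⟨x', hx'⟩ ∈ (f ⁻¹ᵁ V₀).ι '' Set.range s' := ⟨_, hz, rfl⟩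
      rw [hrs] at h2
      exact h2
    exact ⟨V₀, hVd, isIso_restrict f U V₀ hUV V₀ le_rfl hVU⟩

end Groth.Agent.S9679
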