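import Groth.Statements.S9680
import Mathlib
import Groth.Agent.Lib.helper5.SpreadOutFP3

set_option autoImplicit false
universe u
open CategoryTheory CategoryTheory.Limits AlgebraicGeometry
open Mor

namespace Groth.Agent.S9680

open CategoryTheory in
theorem h5_stalkCongr_hom_eq_eqToHom (S : Scheme.{u}) {s s' : S} (p : s = s') :
    (S.presheaf.stalkCongr (.of_eq p)).hom = eqToHom (congrArg S.presheaf.stalk p) := by
  subst p
  simp [TopCat.Presheaf.stalkCongr]

open CategoryTheory in
theorem h5_stalkSpecializes_eq_eqToHom (S : Scheme.{u}) {s s' : S} (p : s = s') :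
    S.presheaf.stalkSpecializes (Inseparable.of_eq p).specializes =
      eqToHom (congrArg S.presheaf.stalk p.symm) := by
  subst p
  simp

open CategoryTheory in
theorem h5_stalk_iso_of_common_open {S X Y : Scheme.{u}} (sX : X ⟶ S) (sY : Y ⟶ S)
    {U : Scheme.{u}} (k : U ⟶ X) (h : U ⟶ Y) [IsOpenImmersion k] [IsOpenImmersion h]
    (hkh : h ≫ sY = k ≫ sX) (u : U) (x : X) (y : Y) (hx : k u = x) (hy : h u = y) :
    ∃ (hs : sX.base x = sY.base y) (e : X.presheaf.stalk x ≅ Y.presheaf.stalk y),
      sX.stalkMap x ≫ e.hom = eqToHom (congrArg S.presheaf.stalk hs) ≫ sY.stalkMap y := by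
  subst hx hy
  have hs : sX (k u) = sY (h u) := by
    have := congr($hkh u)
    simp only [Scheme.Hom.comp_apply] at this
    exact this.symm
  refine ⟨hs, asIso (k.stalkMap u) ≪≫ (asIso (h.stalkMap u)).symm, ?_⟩
  simp only [Iso.trans_hom, asIso_hom, Iso.symm_hom, asIso_inv]
  rw [← Category.assoc, IsIso.comp_inv_eq, Category.assoc,
    ← Scheme.Hom.stalkMap_comp, ← Scheme.Hom.stalkMap_comp,
    Scheme.Hom.stalkMap_congr_hom (k ≫ sX) (h ≫ sY) hkh.symm u,
    h5_stalkCongr_hom_eq_eqToHom S (show (k ≫ sX) u = (h ≫ sY) u from hs)]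
  rfl

/-- Suppose X and Y are irreducible S-schemes, each locally of finite presentation over S, with generic
points x and y. Then X and Y are S-birational (they admit S-isomorphic nonempty opens) if and only
if x and y map to the same point s of S and the local rings of X at x and of Y at y are isomorphic
as algebras over the local ring of S at s. -/
theorem result {S X Y : Scheme.{u}}
    [IrreducibleSpace ↥X] [IrreducibleSpace ↥Y] (sX : X ⟶ S) (sY : Y ⟶ S)
    [LocallyOfFinitePresentation sX] [LocallyOfFinitePresentation sY] :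
    Scheme.BirationalOver sX sY ↔
      ∃ (hs : sX.base (genericPoint ↥X) = sY.base (genericPoint ↥Y))
        (e : X.presheaf.stalk (genericPoint ↥X) ≅ Y.presheaf.stalk (genericPoint ↥Y)),
        sX.stalkMap (genericPoint ↥X) ≫ e.hom =
          eqToHom (congrArg S.presheaf.stalk hs) ≫ sY.stalkMap (genericPoint ↥Y) := by
  constructor
  · rintro ⟨P, hP⟩
    haveI : Nonempty ↥(Scheme.Opens.toScheme P.source) := by
      obtain ⟨x, hx⟩ := P.dense_source.nonempty
      exact ⟨⟨x, hx⟩⟩
    haveI : IrreducibleSpace ↥(Scheme.Opens.toScheme P.source) :=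
      P.source.ι.isOpenEmbedding.irreducibleSpace
    exact h5_stalk_iso_of_common_open sX sY P.source.ι (P.iso.hom ≫ P.target.ι)
      (by rw [Category.assoc]; exact hP) (genericPoint ↥(Scheme.Opens.toScheme P.source)) _ _
      (genericPoint_eq_of_isOpenImmersion P.source.ι)
      (genericPoint_eq_of_isOpenImmersion (P.iso.hom ≫ P.target.ι))
  · rintro ⟨hs, e, he⟩
    have h1 : sY.stalkMap (genericPoint ↥Y) ≫ e.inv =
        S.presheaf.stalkSpecializes (Inseparable.of_eq hs).specializes ≫
          sX.stalkMap (genericPoint ↥X) := by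
      rw [h5_stalkSpecializes_eq_eqToHom S hs, Iso.comp_inv_eq, Category.assoc, he,
        ← Category.assoc, eqToHom_trans, eqToHom_refl, Category.id_comp]
    have h2 : sX.stalkMap (genericPoint ↥X) ≫ e.hom =
        S.presheaf.stalkSpecializes (Inseparable.of_eq hs.symm).specializes ≫
          sY.stalkMap (genericPoint ↥Y) := by
      rw [h5_stalkSpecializes_eq_eqToHom S hs.symm, he]
    obtain ⟨U₀, hxU₀, f, hf₁, hf₂⟩ := H5Spread.spread_out_of_lfp sX sY hs e.inv h1
    obtain ⟨V₀, hyV₀, g, hg₁, hg₂⟩ := H5Spread.spread_out_of_lfp sY sX hs.symm e.hom h2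
    obtain ⟨U, V, hxU, hyV, ι, hι⟩ := H5Spread.exists_iso_opens sX sY U₀ hxU₀ V₀ hyV₀ f g hf₂ hg₂
      e.symm hf₁.symm hg₁.symm
    exact ⟨⟨U, U.2.dense ⟨_, hxU⟩, V, V.2.dense ⟨_, hyV⟩, ι⟩, hι⟩

end Groth.Agent.S9680
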