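import Groth.Statements.S9681
import Mathlib
import Groth.Agent.S9680

set_option autoImplicit false
universe u
open CategoryTheory CategoryTheory.Limits AlgebraicGeometry
open Mor

namespace Groth.Agent.S9681

open CategoryTheory in
theorem h5_isIso_residue_genericPoint (X : Scheme.{u}) [IsIntegral X] :
    IsIso (X.residue (genericPoint ↥X)) := by
  rw [ConcreteCategory.isIso_iff_bijective]
  refine ⟨?_, X.residue_surjective _⟩
  letI : Field (X.presheaf.stalk (genericPoint ↥X)) :=
    inferInstanceAs (Field X.functionField)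
  exact (X.residue (genericPoint ↥X)).hom.injective

open CategoryTheory in
theorem h5_residue_eqToHom (S : Scheme.{u}) {s s' : S} (p : s = s') :
    S.residue s ≫ eqToHom (congrArg S.residueField p) =
      eqToHom (congrArg S.presheaf.stalk p) ≫ S.residue s' := by
  subst p
  simp

open CategoryTheory in
theorem h5_iso_stalk_iff_iso_residue {S X Y : Scheme.{u}} (sX : X ⟶ S) (sY : Y ⟶ S)
    (x : X) (y : Y) (hs : sX.base x = sY.base y) [IsIso (X.residue x)] [IsIso (Y.residue y)] :
    (∃ e : X.presheaf.stalk x ≅ Y.presheaf.stalk y,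
      sX.stalkMap x ≫ e.hom = eqToHom (congrArg S.presheaf.stalk hs) ≫ sY.stalkMap y) ↔
    (∃ e : X.residueField x ≅ Y.residueField y,
      sX.residueFieldMap x ≫ e.hom = eqToHom (congrArg S.residueField hs) ≫ sY.residueFieldMap y) := by
  constructor
  · rintro ⟨e, he⟩
    refine ⟨(asIso (X.residue x)).symm ≪≫ e ≪≫ asIso (Y.residue y), ?_⟩
    simp only [Iso.trans_hom, Iso.symm_hom, asIso_inv, asIso_hom]
    rw [← cancel_epi (S.residue (sX x))]
    rw [Scheme.residue_residueFieldMap_assoc, IsIso.hom_inv_id_assoc, ← Category.assoc, he,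
      Category.assoc, ← Scheme.residue_residueFieldMap, ← Category.assoc, ← Category.assoc,
      h5_residue_eqToHom S hs]
  · rintro ⟨e, he⟩
    refine ⟨asIso (X.residue x) ≪≫ e ≪≫ (asIso (Y.residue y)).symm, ?_⟩
    simp only [Iso.trans_hom, Iso.symm_hom, asIso_inv, asIso_hom]
    rw [← cancel_mono (Y.residue y)]
    simp only [Category.assoc, IsIso.inv_hom_id, Category.comp_id]
    rw [← Scheme.residue_residueFieldMap_assoc, he, ← Category.assoc, h5_residue_eqToHom S hs,
      Category.assoc, Scheme.residue_residueFieldMap]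

/-- Suppose X and Y are integral S-schemes, each locally of finite type over S, with generic points x
and y. Then X and Y are S-birational (they admit S-isomorphic nonempty opens) if and only if x and y
map to the same point s of S and the residue fields of x and y are isomorphic as extensions of the
residue field of s. -/
theorem result {S X Y : Scheme.{u}}
    [IsIntegral X] [IsIntegral Y] (sX : X ⟶ S) (sY : Y ⟶ S)
    [LocallyOfFiniteType sX] [LocallyOfFiniteType sY] :
    Scheme.BirationalOver sX sY ↔
      ∃ (hs : sX.base (genericPoint ↥X) = sY.base (genericPoint ↥Y))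
        (e : X.residueField (genericPoint ↥X) ≅ Y.residueField (genericPoint ↥Y)),
        sX.residueFieldMap (genericPoint ↥X) ≫ e.hom =
          eqToHom (congrArg S.residueField hs) ≫ sY.residueFieldMap (genericPoint ↥Y) := by
  haveI : IsIso (X.residue (genericPoint ↥X)) := h5_isIso_residue_genericPoint X
  haveI : IsIso (Y.residue (genericPoint ↥Y)) := h5_isIso_residue_genericPoint Y
  constructor
  · rintro ⟨P, hP⟩
    haveI : Nonempty ↥(Scheme.Opens.toScheme P.source) := by
      obtain ⟨x, hx⟩ := P.dense_source.nonempty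
      exact ⟨⟨x, hx⟩⟩
    haveI : IrreducibleSpace ↥(Scheme.Opens.toScheme P.source) :=
      P.source.ι.isOpenEmbedding.irreducibleSpace
    obtain ⟨hs, e, he⟩ := Groth.Agent.S9680.h5_stalk_iso_of_common_open sX sY P.source.ι
      (P.iso.hom ≫ P.target.ι)
      (by rw [Category.assoc]; exact hP) (genericPoint ↥(Scheme.Opens.toScheme P.source)) _ _
      (genericPoint_eq_of_isOpenImmersion P.source.ι)
      (genericPoint_eq_of_isOpenImmersion (P.iso.hom ≫ P.target.ι))
    exact ⟨hs, (h5_iso_stalk_iff_iso_residue sX sY _ _ hs).mp ⟨e, he⟩⟩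
  · rintro ⟨hs, eκ, heκ⟩
    obtain ⟨e, he⟩ := (h5_iso_stalk_iff_iso_residue sX sY _ _ hs).mpr ⟨eκ, heκ⟩
    have h1 : sY.stalkMap (genericPoint ↥Y) ≫ e.inv =
        S.presheaf.stalkSpecializes (Inseparable.of_eq hs).specializes ≫
          sX.stalkMap (genericPoint ↥X) := by
      rw [Groth.Agent.S9680.h5_stalkSpecializes_eq_eqToHom S hs, Iso.comp_inv_eq, Category.assoc, he,
        ← Category.assoc, eqToHom_trans, eqToHom_refl, Category.id_comp]
    have h2 : sX.stalkMap (genericPoint ↥X) ≫ e.hom =
        S.presheaf.stalkSpecializes (Inseparable.of_eq hs.symm).specializes ≫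
          sY.stalkMap (genericPoint ↥Y) := by
      rw [Groth.Agent.S9680.h5_stalkSpecializes_eq_eqToHom S hs.symm, he]
    obtain ⟨U₀, hxU₀, f, hf₁, hf₂⟩ := spread_out_of_isGermInjective sX sY hs e.inv h1
    obtain ⟨V₀, hyV₀, g, hg₁, hg₂⟩ := spread_out_of_isGermInjective sY sX hs.symm e.hom h2
    obtain ⟨U, V, hxU, hyV, ι, hι⟩ := H5Spread.exists_iso_opens sX sY U₀ hxU₀ V₀ hyV₀ f g hf₂ hg₂
      e.symm hf₁.symm hg₁.symm
    exact ⟨⟨U, U.2.dense ⟨_, hxU⟩, V, V.2.dense ⟨_, hyV⟩, ι⟩, hι⟩

end Groth.Agent.S9681
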