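import Groth.Statements.S9682
import Mathlib
import Groth.Agent.S9677
import Groth.Agent.Lib.helper5.FibreClosed

set_option autoImplicit false
universe u
open CategoryTheory CategoryTheory.Limits AlgebraicGeometry
open Mor

namespace Groth.Agent.S9682

lemma h5_dim_le_zero_of_t1 (Z : Type*) [TopologicalSpace Z] [QuasiSober Z]
    (hT1 : ∀ z z' : Z, z ⤳ z' → z = z') : topologicalKrullDim Z ≤ 0 := by
  unfold topologicalKrullDim
  rw [Order.krullDim_nonpos_iff_forall_isMax]
  intro a b hab
  obtain ⟨x, hx⟩ := QuasiSober.sober a.isIrreducible' a.isClosed'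
  obtain ⟨y, hy⟩ := QuasiSober.sober b.isIrreducible' b.isClosed'
  have hxa : closure {x} = a.carrier := hx.def
  have hyb : closure {y} = b.carrier := hy.def
  have hxa' : x ∈ a.carrier := by
    rw [← hxa]
    exact subset_closure (Set.mem_singleton x)
  have hxb : x ∈ b.carrier := hab hxa'
  rw [← hyb] at hxb
  have h1 : y = x := hT1 y x (specializes_iff_mem_closure.mpr hxb)
  intro z hz
  have hz' : z ∈ b.carrier := hz
  rw [← hyb, h1, hxa] at hz'
  exact hz'

lemma h5_eq_of_isClosed_asFiber {X Y : Scheme.{u}} (f : X ⟶ Y) {ξ x : X} (h : ξ ⤳ x)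
    (hf : f x = f ξ) (hcl : IsClosed ({f.asFiber ξ} : Set ↑(f.fiber (f ξ)))) : x = ξ := by
  let z : f.fiber (f ξ) := (f.fiberHomeo (f ξ)).symm ⟨x, hf⟩
  have hz : f.fiberι (f ξ) z = x := f.fiberι_fiberHomeo_symm _ _
  have hsp : f.asFiber ξ ⤳ z := by
    rw [← (f.fiberι (f ξ)).isEmbedding.isInducing.specializes_iff, hz, f.fiberι_asFiber]
    exact h
  have h1 : z ∈ closure {f.asFiber ξ} := specializes_iff_mem_closure.mp hsp
  rw [hcl.closure_eq, Set.mem_singleton_iff] at h1
  rw [← hz, h1, f.fiberι_asFiber]

/-- Take f : X ⟶ Y locally of finite type and η the generic point of some irreducible component of Y.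
Three conditions turn out to coincide: (1) each point of X mapping to η is the generic point of some
irreducible component of X; (2) f is quasi-finite at every point over η; (3) f is quasi-finite at
each point over η that is generic in some irreducible component of X. Stated as (1) iff (2) together
with (1) iff (3). -/
theorem result {X Y : Scheme.{u}} (f : X ⟶ Y)
    [LocallyOfFiniteType f] (η : Y) (hη : closure {η} ∈ irreducibleComponents ↥Y) :
    ((∀ x : X, f.base x = η → closure {x} ∈ irreducibleComponents ↥X) ↔
      (∀ x : X, f.base x = η → f.QuasiFiniteAt x)) ∧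
    ((∀ x : X, f.base x = η → closure {x} ∈ irreducibleComponents ↥X) ↔
      (∀ x : X, f.base x = η → closure {x} ∈ irreducibleComponents ↥X → f.QuasiFiniteAt x)) := by
  have h31 : (∀ x : X, f.base x = η → closure {x} ∈ irreducibleComponents ↥X → f.QuasiFiniteAt x) →
      ∀ x : X, f.base x = η → closure {x} ∈ irreducibleComponents ↥X := by
    intro h3 x hx
    have hx' : f x = η := hx
    have hZ := irreducibleComponent_mem_irreducibleComponents x
    obtain ⟨ξ, hξ⟩ := QuasiSober.sober hZ.1 (isClosed_of_mem_irreducibleComponents _ hZ)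
    have hξcl : closure {ξ} = irreducibleComponent x := hξ.def
    have hξgen : closure {ξ} ∈ irreducibleComponents X := hξcl ▸ hZ
    have hξx : ξ ⤳ x := specializes_iff_mem_closure.mpr (hξcl ▸ mem_irreducibleComponent)
    have h3' : f ξ ⤳ f x := hξx.map f.continuous
    have hfξ : f ξ = η := by
      rw [hx'] at h3'
      exact Groth.Agent.S9677.h5_generic_eq hη h3'
    have hq := h3 ξ hfξ hξgen
    have hcl := hq.isClopen_singleton_asFiber.1
    have h4 : x = ξ := h5_eq_of_isClosed_asFiber f hξx (hx'.trans hfξ.symm) hcl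
    rw [h4]
    exact hξgen
  have h12 : (∀ x : X, f.base x = η → closure {x} ∈ irreducibleComponents ↥X) →
      ∀ x : X, f.base x = η → f.QuasiFiniteAt x := by
    intro h1 x hx
    have hx' : f x = η := hx
    rw [Scheme.Hom.quasiFiniteAt_iff_isOpen_singleton_asFiber]
    have hT1 : ∀ z z' : f.fiber (f x), z ⤳ z' → z = z' := by
      intro z z' hzz
      have hs : f.fiberι (f x) z ⤳ f.fiberι (f x) z' := hzz.map (f.fiberι _).continuous
      have hmem : ∀ w : f.fiber (f x), f (f.fiberι (f x) w) = η := by
        intro w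
        have h5 : f.fiberι (f x) w ∈ f ⁻¹' {f x} := f.range_fiberι (f x) ▸ Set.mem_range_self w
        exact Eq.trans h5 hx'
      have hg' := h1 _ (hmem z')
      have h6 := Groth.Agent.S9677.h5_generic_eq hg' hs
      exact (f.fiberι (f x)).isEmbedding.injective h6
    haveI : LocallyOfFiniteType (f.fiberToSpecResidueField (f x)) := by
      unfold Scheme.Hom.fiberToSpecResidueField
      exact MorphismProperty.pullback_snd (P := @LocallyOfFiniteType) _ _ inferInstance
    haveI : IsLocallyNoetherian (f.fiber (f x)) :=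
      LocallyOfFiniteType.isLocallyNoetherian (f.fiberToSpecResidueField (f x))
    haveI : IsLocallyArtinian (f.fiber (f x)) :=
      IsLocallyArtinian.of_topologicalKrullDim_le_zero (h5_dim_le_zero_of_t1 _ hT1)
    exact isOpen_discrete _
  exact ⟨⟨h12, fun h2 => h31 (fun x hx _ => h2 x hx)⟩, ⟨fun h1 x hx _ => h12 h1 x hx, h31⟩⟩

end Groth.Agent.S9682
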