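import Groth.Statements.S9683
import Mathlib
import Groth.Agent.Lib.helper5.TopDim2

set_option autoImplicit false
universe u
open CategoryTheory CategoryTheory.Limits AlgebraicGeometry
open Mor

namespace Groth.Agent.S9683

/-- For any integral morphism of schemes f : X ⟶ Y, the dimension of X is at most that of Y, and if f is
surjective then dim X = dim Y (dimensions of the underlying topological spaces). -/
theorem result {X Y : Scheme.{u}} (f : X ⟶ Y) [IsIntegralHom f] :
    topologicalKrullDim ↥X ≤ topologicalKrullDim ↥Y ∧
      (Surjective f → topologicalKrullDim ↥X = topologicalKrullDim ↥Y) := by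
  refine ⟨?_, fun hsurj => le_antisymm ?_ ?_⟩
  · exact Groth.Agent.Lib.helper5.h5_dim_le_of_incomparable f f.continuous
      (fun x x' hsp hf =>
        (Groth.Agent.Lib.helper5.h5_incomparable_of_isIntegralHom f x x' hsp hf) ▸ specializes_rfl)
  · exact Groth.Agent.Lib.helper5.h5_dim_le_of_incomparable f f.continuous
      (fun x x' hsp hf =>
        (Groth.Agent.Lib.helper5.h5_incomparable_of_isIntegralHom f x x' hsp hf) ▸ specializes_rfl)
  · haveI := hsurj
    exact Groth.Agent.Lib.helper5.h5_dim_le_of_specializing f f.surjective
      f.isClosedMap.specializingMap f.continuous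

end Groth.Agent.S9683
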