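import Groth.Statements.S9693
import Mathlib

set_option autoImplicit false
universe u
open CategoryTheory CategoryTheory.Limits AlgebraicGeometry
open Mor

namespace Groth.Agent.S9693

/-- A base change of an H-projective morphism (a closed immersion into some P^n over the base followed
by the projection) is H-projective. -/
theorem result {X S S' : Scheme.{u}} (f : X ⟶ S) (hf : RelProj.IsHProjective f)
    (g : S' ⟶ S) : RelProj.IsHProjective (pullback.snd f g) := by
  obtain ⟨n, i, hi, hif⟩ := hf
  refine ⟨n, ?_⟩
  set π := CohB1.ProjSpace.toSpec n (ULift.{u} ℤ) with hπ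
  have hterm : g ≫ specULiftZIsTerminal.from S = specULiftZIsTerminal.from S' :=
    specULiftZIsTerminal.hom_ext _ _
  have sqR : IsPullback (pullback.fst π (specULiftZIsTerminal.from S))
      (CohB1.ProjSpaceOver.toBase n S) π (specULiftZIsTerminal.from S) :=
    IsPullback.of_hasPullback _ _
  have sqBig : IsPullback (pullback.fst π (specULiftZIsTerminal.from S'))
      (CohB1.ProjSpaceOver.toBase n S') π (specULiftZIsTerminal.from S') :=
    IsPullback.of_hasPullback _ _
  let b : CohB1.ProjSpaceOver n S' ⟶ CohB1.ProjSpaceOver n S :=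
    sqR.lift (pullback.fst π (specULiftZIsTerminal.from S'))
      (CohB1.ProjSpaceOver.toBase n S' ≫ g) (by rw [Category.assoc, hterm]; exact sqBig.w)
  have hb1 : b ≫ pullback.fst π (specULiftZIsTerminal.from S) =
      pullback.fst π (specULiftZIsTerminal.from S') := sqR.lift_fst _ _ _
  have hb2 : b ≫ CohB1.ProjSpaceOver.toBase n S = CohB1.ProjSpaceOver.toBase n S' ≫ g :=
    sqR.lift_snd _ _ _
  have sqL : IsPullback b (CohB1.ProjSpaceOver.toBase n S') (CohB1.ProjSpaceOver.toBase n S) g := by
    refine IsPullback.of_right ?_ hb2 sqR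
    rw [hb1, hterm]; exact sqBig
  have sqX := IsPullback.of_hasPullback f g
  have hcomp : (pullback.fst f g ≫ i) ≫ CohB1.ProjSpaceOver.toBase n S = pullback.snd f g ≫ g := by
    rw [Category.assoc, hif]; exact sqX.w
  let i' := sqL.lift (pullback.fst f g ≫ i) (pullback.snd f g) hcomp
  have hi'1 : i' ≫ b = pullback.fst f g ≫ i := sqL.lift_fst _ _ _
  have hi'2 : i' ≫ CohB1.ProjSpaceOver.toBase n S' = pullback.snd f g := sqL.lift_snd _ _ _
  refine ⟨i', ?_, hi'2⟩
  have sqT : IsPullback (pullback.fst f g) i' i b := by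
    refine IsPullback.of_bot ?_ hi'1.symm sqL
    rw [hi'2, hif]; exact sqX
  exact MorphismProperty.of_isPullback (P := @IsClosedImmersion) sqT hi

end Groth.Agent.S9693
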