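import Groth.Statements.S9701
import Mathlib
import Groth.Agent.Lib.helper5.ValExt

set_option autoImplicit false
universe u
open CategoryTheory CategoryTheory.Limits AlgebraicGeometry
open Mor

namespace Groth.Agent.S9701

/-- Let p : X ⟶ S and q : Y ⟶ S with q proper, let x be a point of X whose local ring is a valuation
ring, U ⊆ X an open with x in the closure of U, and f : U ⟶ Y a morphism over S. Assume that X is
Noetherian, or else that X is reduced and has only finitely many irreducible components. Then there
are an open U' of X containing U and x and a morphism f' : U' ⟶ Y over S extending f. -/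
theorem result {X Y S : Scheme.{u}} (p : X ⟶ S) (q : Y ⟶ S)
    [IsProper q] (x : X) (U : X.Opens) (f : (U : Scheme.{u}) ⟶ Y) (hf : f ≫ q = U.ι ≫ p)
    (hx : x ∈ closure (U : Set ↥X))
    (hX : (IsReduced X ∧ (irreducibleComponents ↥X).Finite) ∨ IsNoetherian X)
    (hdom : IsDomain (X.presheaf.stalk x)) (hval : @ValuationRing (X.presheaf.stalk x) _ hdom) :
    ∃ (U' : X.Opens) (hUU' : U ≤ U'), x ∈ U' ∧
      ∃ f' : (U' : Scheme.{u}) ⟶ Y, f' ≫ q = U'.ι ≫ p ∧ X.homOfLE hUU' ≫ f' = f := by
  haveI := hdom
  haveI := hval
  have hfin : (irreducibleComponents X).Finite := by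
    rcases hX with ⟨_, h⟩ | h
    · exact h
    · haveI := h
      exact TopologicalSpace.NoetherianSpace.finite_irreducibleComponents
  haveI : X.IsGermInjectiveAt x := by
    rcases hX with ⟨hred, h⟩ | h
    · haveI := hred
      exact H5ValExt.isGermInjectiveAt_of_reduced h x
    · haveI := h
      infer_instance
  exact H5ValExt.main p q x U f hf hx hfin

end Groth.Agent.S9701
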