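import Groth.Statements.S9702
import Mathlib
import Groth.Agent.Lib.helper5.GenFinite

set_option autoImplicit false
universe u
open CategoryTheory CategoryTheory.Limits AlgebraicGeometry
open Mor

namespace Groth.Agent.S9702

/-- Let X, Y be integral and f : X ⟶ Y dominant and locally of finite type, with ξ the generic point of
X (so f ξ is the generic point of Y). Then the following are equivalent: the residue field of ξ is
finite over that of f ξ; some nonempty affine opens U ⊆ X and V ⊆ Y with f(U) ⊆ V have U ⟶ V finite;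
every point of X that f sends to the generic point of Y equals ξ. Under the extra assumption that f
is quasi-compact or separated, these are also equivalent to: f⁻¹(V) ⟶ V is finite for some nonempty
affine open V ⊆ Y. (The published statement also lists transcendence degree 0 of the function field
extension, which for this finitely generated extension is equivalent to finiteness; this row omits
it.) -/
theorem result {X Y : Scheme.{u}} [IsIntegral X] [IsIntegral Y] (f : X ⟶ Y)
    [IsDominant f] [LocallyOfFiniteType f] :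
    let ξ := genericPoint ↥X
    let A := letI := (f.residueFieldMap ξ).hom.toAlgebra
      Module.Finite (Y.residueField (f.base ξ)) (X.residueField ξ)
    let B := ∃ (U : X.Opens) (V : Y.Opens) (hUV : U ≤ f ⁻¹ᵁ V), IsAffineOpen U ∧ IsAffineOpen V ∧
      Nonempty ↥U ∧ IsFinite (f.resLE V U hUV)
    let C := ∀ x : X, f.base x = genericPoint ↥Y → x = ξ
    let D := ∃ V : Y.Opens, IsAffineOpen V ∧ Nonempty ↥V ∧ IsFinite (f ∣_ V)
    (A ↔ B) ∧ (A ↔ C) ∧ (IsSeparated f ∨ QuasiCompact f → (A ↔ D)) := by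
  intro ξ A B C D
  have hfξ : f ξ = genericPoint Y := H5GenFinite.map_genericPoint_of_isDominant f
  have hAC : A → C := by
    intro hA x hx
    have hx' : f x = genericPoint Y := hx
    have hsp : ξ ⤳ x := genericPoint_specializes x
    refine H5FibreClosed.eq_of_algebraic f hsp (hfξ.trans hx'.symm) ?_
    letI := (f.residueFieldMap ξ).hom.toAlgebra
    haveI : Module.Finite (Y.residueField (f ξ)) (X.residueField ξ) := hA
    exact Algebra.IsAlgebraic.of_finite _ _
  have hCA : C → A := by
    intro hC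
    have hcl : IsClosed ({f.asFiber ξ} : Set ↑(f.fiber (f ξ))) := by
      have h0 : ({f.asFiber ξ} : Set ↑(f.fiber (f ξ))) = Set.univ := by
        ext z
        simp only [Set.mem_singleton_iff, Set.mem_univ, iff_true]
        have h5 : f.fiberι (f ξ) z ∈ f ⁻¹' {f ξ} := f.range_fiberι (f ξ) ▸ Set.mem_range_self z
        have h6 : f (f.fiberι (f ξ) z) = genericPoint Y := Eq.trans h5 hfξ
        have h7 := hC _ h6
        apply (f.fiberι (f ξ)).isEmbedding.injective
        rw [h7, f.fiberι_asFiber]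
      rw [h0]
      exact isClosed_univ
    exact H5FibreClosed.finite_residueFieldMap_of_isClosed f ξ hcl
  have hBA : B → A := by
    rintro ⟨U, V, hUV, hU, hV, ⟨⟨u, hu⟩⟩, hfin⟩
    have hξU : ξ ∈ U := H5GenFinite.mem_of_ne_bot U (by
      intro h
      rw [h] at hu
      exact hu)
    exact H5GenFinite.finite_residueFieldMap_of_isFinite f U.ι V.ι (f.resLE V U hUV)
      (Scheme.Hom.resLE_comp_ι f hUV) ⟨ξ, hξU⟩
  have hDA : D → A := by
    rintro ⟨V, hV, ⟨⟨v, hv⟩⟩, hfin⟩
    have hηV : genericPoint Y ∈ V := H5GenFinite.mem_of_ne_bot V (by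
      intro h
      rw [h] at hv
      exact hv)
    have hξ : ξ ∈ f ⁻¹ᵁ V := by
      change f ξ ∈ V
      rw [hfξ]
      exact hηV
    exact H5GenFinite.finite_residueFieldMap_of_isFinite f (f ⁻¹ᵁ V).ι V.ι (f ∣_ V)
      (morphismRestrict_ι f V) ⟨ξ, hξ⟩
  have hAB : A → B := by
    intro hA
    obtain ⟨U, V, e, hU, hV, hξU, b₀, hb₀, H⟩ := H5GenFinite.core f hA
    have hη : genericPoint Y ∈ Y.basicOpen b₀ := H5GenFinite.genericPoint_mem_basicOpen b₀ hb₀
    refine ⟨X.basicOpen (f.appLE V U e b₀), Y.basicOpen b₀, by simp [Scheme.Hom.appLE],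
      hU.basicOpen _, hV.basicOpen _, ⟨⟨ξ, ?_⟩⟩, H b₀ dvd_rfl⟩
    rw [Scheme.basicOpen_appLE]
    refine ⟨hξU, ?_⟩
    change f ξ ∈ Y.basicOpen b₀
    rw [hfξ]
    exact hη
  have hAD : (IsSeparated f ∨ QuasiCompact f) → A → D := by
    intro hsq hA
    obtain ⟨U, V, e, hU, hV, hξU, b₀, hb₀, H⟩ := H5GenFinite.core f hA
    have hη₀ : genericPoint Y ∈ Y.basicOpen b₀ := H5GenFinite.genericPoint_mem_basicOpen b₀ hb₀
    have hηV : genericPoint Y ∈ V := Y.basicOpen_le b₀ hη₀
    have key : ∃ b : Γ(Y, V), b₀ ∣ b ∧ genericPoint Y ∈ Y.basicOpen b ∧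
        f ⁻¹ᵁ (Y.basicOpen b) ≤ U := by
      rcases hsq with hsep | hqc
      · refine ⟨b₀, dvd_rfl, hη₀, ?_⟩
        have hne : ((X.basicOpen (f.appLE V U e b₀) : X.Opens) : Set X).Nonempty := by
          refine ⟨ξ, ?_⟩
          rw [Scheme.basicOpen_appLE]
          refine ⟨hξU, ?_⟩
          change f ξ ∈ Y.basicOpen b₀
          rw [hfξ]
          exact hη₀
        have h1 := H5GenFinite.preimage_le_of_isFinite_resLE f (Y.basicOpen b₀)
          (X.basicOpen (f.appLE V U e b₀)) (by simp [Scheme.Hom.appLE]) hne (H b₀ dvd_rfl)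
        exact h1.trans (X.basicOpen_le _)
      · obtain ⟨b₁, hb₁, hle⟩ := H5GenFinite.exists_basicOpen_preimage_le f (hAC hA) hV hξU hηV
        refine ⟨b₀ * b₁, dvd_mul_right _ _, ?_, ?_⟩
        · rw [Scheme.basicOpen_mul]
          exact ⟨hη₀, hb₁⟩
        · rw [Scheme.basicOpen_mul]
          intro x hx
          exact hle hx.2
    obtain ⟨b, hb, hηb, hle⟩ := key
    refine ⟨Y.basicOpen b, hV.basicOpen b, ⟨⟨_, hηb⟩⟩, ?_⟩
    refine H5GenFinite.isFinite_morphismRestrict_of_resLE f (Y.basicOpen b)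
      (X.basicOpen (f.appLE V U e b)) ?_ (by simp [Scheme.Hom.appLE]) (H b hb)
    rw [Scheme.basicOpen_appLE]
    exact inf_eq_right.mpr hle
  exact ⟨⟨hAB, hBA⟩, ⟨hAC, hCA⟩, fun h => ⟨hAD h, hDA⟩⟩

end Groth.Agent.S9702
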