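import Groth.Statements.S9709
import Mathlib

set_option autoImplicit false
universe u
open CategoryTheory CategoryTheory.Limits AlgebraicGeometry
open Mor

namespace Groth.Agent.S9709

/-- Let f : X ⟶ S be an integral morphism. Then every point x of X is closed in its fibre: a point of
f⁻¹(f x) specialising from x equals x. -/
theorem result {X S : Scheme.{u}} (f : X ⟶ S) [IsIntegralHom f] (x : X) :
    closure {x} ∩ f.base ⁻¹' {f.base x} = {x} := by
  apply Set.Subset.antisymm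
  · rintro x' ⟨hcl, hfx⟩
    have hfx' : f.base x' = f.base x := hfx
    rw [Set.mem_singleton_iff]
    have hsp : x ⤳ x' := specializes_iff_mem_closure.2 hcl
    obtain ⟨V, hV, hsV, -⟩ :=
      exists_isAffineOpen_mem_and_subset (x := f.base x) (U := ⊤) trivial
    have hU : IsAffineOpen (f ⁻¹ᵁ V) := hV.preimage f
    have hxU : x ∈ f ⁻¹ᵁ V := hsV
    have hx'U : x' ∈ f ⁻¹ᵁ V := by
      show f.base x' ∈ V
      rw [hfx']; exact hsV
    have hint : (f.appLE V (f ⁻¹ᵁ V) le_rfl).hom.IsIntegral := by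
      rw [← Scheme.Hom.app_eq_appLE]; exact f.isIntegral_app V hV
    have hsp' : (⟨x, hxU⟩ : (f ⁻¹ᵁ V)) ⤳ ⟨x', hx'U⟩ := (subtype_specializes_iff _ _).2 hsp
    have hq : hU.primeIdealOf ⟨x, hxU⟩ ⤳ hU.primeIdealOf ⟨x', hx'U⟩ :=
      hsp'.map hU.isoSpec.hom.continuous
    have hle : (hU.primeIdealOf ⟨x, hxU⟩).asIdeal ≤ (hU.primeIdealOf ⟨x', hx'U⟩).asIdeal :=
      (PrimeSpectrum.le_iff_specializes _ _).2 hq
    have hc1 := IsAffineOpen.comap_primeIdealOf_appLE (f := f) V hV (f ⁻¹ᵁ V) hU le_rfl hxU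
    have hc2 := IsAffineOpen.comap_primeIdealOf_appLE (f := f) V hV (f ⁻¹ᵁ V) hU le_rfl hx'U
    have hcomap : (hU.primeIdealOf ⟨x, hxU⟩).comap (f.appLE V _ le_rfl).hom =
        (hU.primeIdealOf ⟨x', hx'U⟩).comap (f.appLE V _ le_rfl).hom := by
      rw [hc1, hc2]; congr 1; exact Subtype.ext hfx'.symm
    by_contra hne
    have hneq : (hU.primeIdealOf ⟨x, hxU⟩).asIdeal ≠ (hU.primeIdealOf ⟨x', hx'U⟩).asIdeal := by
      intro h
      have h1 : hU.primeIdealOf ⟨x, hxU⟩ = hU.primeIdealOf ⟨x', hx'U⟩ := PrimeSpectrum.ext h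
      have h2 := congrArg (fun p => hU.fromSpec.base p) h1
      simp only [hU.fromSpec_primeIdealOf] at h2
      exact hne h2.symm
    have hlt := lt_of_le_of_ne hle hneq
    letI := (f.appLE V (f ⁻¹ᵁ V) le_rfl).hom.toAlgebra
    haveI : Algebra.IsIntegral Γ(S, V) Γ(X, f ⁻¹ᵁ V) := ⟨hint⟩
    have h3 := Ideal.IsIntegral.comap_lt_comap (R := Γ(S, V)) hlt
    have h4 := congrArg PrimeSpectrum.asIdeal hcomap
    exact absurd h4 (ne_of_lt h3)
  · rintro _ rfl
    exact ⟨subset_closure rfl, rfl⟩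

end Groth.Agent.S9709
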