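import Groth.Statements.S9714
import Mathlib

set_option autoImplicit false
universe u
open CategoryTheory CategoryTheory.Limits AlgebraicGeometry
open Mor

namespace Groth.Agent.S9714

open AlgebraicGeometry CategoryTheory in
private theorem aux_ring (k A : Type u) [Field k] [CommRing A] [Algebra k A]
    [Algebra.FiniteType k A] [Algebra.FormallyUnramified k A] :
    Module.Finite k A ∧ IsReduced A :=
  ⟨Algebra.FormallyUnramified.finite_of_free k A,
    Algebra.FormallyUnramified.isReduced_of_field k A⟩

private theorem aux_field (k A : Type u) [Field k] [CommRing A] [Algebra k A]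
    [Algebra.FiniteType k A] [Algebra.FormallyUnramified k A]
    (h1 : Subsingleton (PrimeSpectrum A)) (h2 : Nonempty (PrimeSpectrum A)) : IsField A := by
  obtain ⟨hfin, hred⟩ := aux_ring k A
  haveI : IsArtinianRing A := IsArtinianRing.of_finite k A
  obtain ⟨p⟩ := h2
  have hp : p.asIdeal = ⊥ := by
    have h3 : nilradical A = p.asIdeal := by
      rw [nilradical_eq_sInf]
      apply le_antisymm
      · exact sInf_le p.isPrime
      · refine le_sInf fun J hJ => ?_
        have : (⟨J, hJ⟩ : PrimeSpectrum A) = p := Subsingleton.elim _ _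
        rw [← this]
    rw [← h3]
    exact nilradical_eq_zero A
  haveI : IsDomain A := by
    haveI : (⊥ : Ideal A).IsPrime := hp ▸ p.isPrime
    exact IsDomain.of_bot_isPrime A
  exact IsArtinianRing.isField_of_isDomain A

/-- Let k be a field and X a scheme over k. The structure morphism X ⟶ Spec k is unramified (formally
unramified and locally of finite type) if and only if X is isomorphic over k to a disjoint union of
spectra of finite separable field extensions of k. -/
theorem result (k : Type u) [Field k] {X : Scheme.{u}}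
    (f : X ⟶ Spec (CommRingCat.of k)) :
    (FormallyUnramified f ∧ LocallyOfFiniteType f) ↔
      ∃ (ι : Type u) (K : ι → Type u) (_ : ∀ i, Field (K i)) (_ : ∀ i, Algebra k (K i)),
        (∀ i, FiniteDimensional k (K i) ∧ Algebra.IsSeparable k (K i)) ∧
        ∃ e : X ≅ ∐ (fun i => Spec (CommRingCat.of (K i))),
          e.hom ≫ Sigma.desc (fun i => Spec.map (CommRingCat.ofHom (algebraMap k (K i)))) = f := by
  constructor
  · rintro ⟨hFU, hLFT⟩
    have hψ : ∀ (U : X.Opens) (hU : IsAffineOpen U), ∃ ψ : CommRingCat.of k ⟶ Γ(X, U),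
        Spec.map ψ = hU.fromSpec ≫ f ∧ ψ.hom.FormallyUnramified ∧ ψ.hom.FiniteType := by
      intro U hU
      refine ⟨Spec.preimage (hU.fromSpec ≫ f), Spec.map_preimage _, ?_, ?_⟩
      · have : FormallyUnramified (Spec.map (Spec.preimage (hU.fromSpec ≫ f))) := by
          rw [Spec.map_preimage]
          exact IsZariskiLocalAtSource.comp (P := @FormallyUnramified) hFU _
        exact (HasRingHomProperty.Spec_iff (P := @FormallyUnramified)).mp this
      · have : LocallyOfFiniteType (Spec.map (Spec.preimage (hU.fromSpec ≫ f))) := by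
          rw [Spec.map_preimage]; infer_instance
        exact (HasRingHomProperty.Spec_iff (P := @LocallyOfFiniteType)).mp this
    have hopen : ∀ x : X, IsOpen ({x} : Set X) := by
      intro x
      obtain ⟨U, hU', hxU, -⟩ := TopologicalSpace.Opens.isBasis_iff_nbhd.mp X.isBasis_affineOpens
        (TopologicalSpace.Opens.mem_top x)
      have hU : IsAffineOpen U := hU'
      obtain ⟨ψ, -, h1, h2⟩ := hψ U hU
      letI := ψ.hom.toAlgebra
      haveI : Algebra.FormallyUnramified k Γ(X, U) := RingHom.formallyUnramified_algebraMap.mp h1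
      haveI : Algebra.FiniteType k Γ(X, U) := RingHom.finiteType_algebraMap.mp h2
      obtain ⟨hfin, -⟩ := aux_ring k Γ(X, U)
      haveI : IsArtinianRing Γ(X, U) := .of_finite k _
      haveI : DiscreteTopology ↥(Spec Γ(X, U)) :=
        inferInstanceAs (DiscreteTopology (PrimeSpectrum Γ(X, U)))
      have h3 : ({x} : Set X) ⊆ Set.range hU.fromSpec := by
        rw [hU.range_fromSpec]; exact Set.singleton_subset_iff.mpr hxU
      rw [← Set.image_preimage_eq_of_subset h3]
      exact hU.fromSpec.isOpenEmbedding.isOpenMap _ (isOpen_discrete _)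
    let U : X → X.Opens := fun x => ⟨{x}, hopen x⟩
    have hmemU : ∀ x y : X, y ∈ U x ↔ y = x := fun x y => Iff.rfl
    have haff : ∀ x : X, IsAffineOpen (U x) := by
      intro x
      obtain ⟨W, hW, hxW, hle⟩ := TopologicalSpace.Opens.isBasis_iff_nbhd.mp
        X.isBasis_affineOpens ((hmemU x x).mpr rfl)
      have : W = U x := le_antisymm hle (fun y hy => by
        rw [(hmemU x y).mp hy]; exact hxW)
      exact this ▸ hW
    choose ψ hψ1 hψ2 hψ3 using fun x => hψ (U x) (haff x)
    have hfield : ∀ x : X, IsField Γ(X, U x) := by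
      intro x
      letI := (ψ x).hom.toAlgebra
      haveI : Algebra.FormallyUnramified k Γ(X, U x) :=
        RingHom.formallyUnramified_algebraMap.mp (hψ2 x)
      haveI : Algebra.FiniteType k Γ(X, U x) := RingHom.finiteType_algebraMap.mp (hψ3 x)
      refine aux_field k Γ(X, U x) ⟨fun p q => ?_⟩ ⟨(haff x).primeIdealOf ⟨x, rfl⟩⟩
      have hp : (haff x).fromSpec p ∈ (U x : Set X) := by
        rw [← (haff x).range_fromSpec]; exact Set.mem_range_self p
      have hq : (haff x).fromSpec q ∈ (U x : Set X) := by
        rw [← (haff x).range_fromSpec]; exact Set.mem_range_self q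
      exact (haff x).fromSpec.isOpenEmbedding.injective
        (((hmemU x _).mp hp).trans ((hmemU x _).mp hq).symm)
    refine ⟨X, fun x => Γ(X, U x), fun x => (hfield x).toField, fun x => (ψ x).hom.toAlgebra,
      fun x => ?_, ?_⟩
    · letI := (hfield x).toField
      letI := (ψ x).hom.toAlgebra
      haveI : Algebra.FormallyUnramified k Γ(X, U x) :=
        RingHom.formallyUnramified_algebraMap.mp (hψ2 x)
      haveI : Algebra.FiniteType k Γ(X, U x) := RingHom.finiteType_algebraMap.mp (hψ3 x)
      exact ⟨(aux_ring k Γ(X, U x)).1, Algebra.FormallyUnramified.isSeparable k Γ(X, U x)⟩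
    · have hcov : ⨆ x, ((haff x).fromSpec).opensRange = ⊤ := by
        simp only [IsAffineOpen.opensRange_fromSpec]
        exact top_le_iff.mp fun x _ => TopologicalSpace.Opens.mem_iSup.mpr ⟨x, rfl⟩
      have hdisj : Pairwise (Function.onFun Disjoint fun x => ((haff x).fromSpec).opensRange) := by
        intro x y hxy
        simp only [Function.onFun, IsAffineOpen.opensRange_fromSpec]
        rw [disjoint_iff]
        ext z
        simp only [TopologicalSpace.Opens.coe_inf, Set.mem_inter_iff, SetLike.mem_coe,
          TopologicalSpace.Opens.coe_bot, Set.mem_empty_iff_false, iff_false, not_and]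
        intro h1 h2
        exact hxy (((hmemU x z).mp h1).symm.trans ((hmemU y z).mp h2))
      obtain ⟨hc⟩ := nonempty_isColimit_cofanMk_of (fun x => (haff x).fromSpec) hcov hdisj
      let e' : (∐ fun x => Spec Γ(X, U x)) ≅ X :=
        (colimit.isColimit _).coconePointUniqueUpToIso hc
      have he' : ∀ x, Sigma.ι (fun x => Spec Γ(X, U x)) x ≫ e'.hom = (haff x).fromSpec :=
        fun x => (colimit.isColimit _).comp_coconePointUniqueUpToIso_hom hc ⟨x⟩
      refine ⟨e'.symm, ?_⟩
      rw [Iso.symm_hom, Iso.inv_comp_eq]
      refine Sigma.hom_ext _ _ fun x => ?_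
      rw [Sigma.ι_desc, ← Category.assoc]
      refine Eq.trans ?_ (congrArg (· ≫ f) (he' x)).symm
      rw [← hψ1 x]
      rfl
  · rintro ⟨ι, K, hF, hA, hK, e, he⟩
    have h1 : FormallyUnramified (Sigma.desc fun i =>
        Spec.map (CommRingCat.ofHom (algebraMap k (K i)))) := by
      refine IsZariskiLocalAtSource.sigmaDesc (fun i => ?_)
      rw [HasRingHomProperty.Spec_iff (P := @FormallyUnramified)]
      haveI := (hK i).2
      exact RingHom.formallyUnramified_algebraMap.mpr
        (Algebra.FormallyUnramified.of_isSeparable _ _)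
    have h2 : LocallyOfFiniteType (Sigma.desc fun i =>
        Spec.map (CommRingCat.ofHom (algebraMap k (K i)))) := by
      refine IsZariskiLocalAtSource.sigmaDesc (fun i => ?_)
      rw [HasRingHomProperty.Spec_iff (P := @LocallyOfFiniteType)]
      haveI := (hK i).1
      exact RingHom.finiteType_algebraMap.mpr inferInstance
    rw [← he]
    exact ⟨(MorphismProperty.cancel_left_of_respectsIso @FormallyUnramified e.hom _).mpr h1,
      (MorphismProperty.cancel_left_of_respectsIso @LocallyOfFiniteType e.hom _).mpr h2⟩

end Groth.Agent.S9714
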