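import Groth.Statements.S9720
import Mathlib
import Groth.Agent.Lib.helper5.BaseChangeLocus2

set_option autoImplicit false
universe u
open CategoryTheory CategoryTheory.Limits AlgebraicGeometry
open Mor

namespace Groth.Agent.S9720

/-- Let f : X ⟶ S be locally of finite type such that for every point s of S the fibre X_s is isomorphic
over κ(s) to a coproduct of schemes Spec K_i, each K_i a finite separable extension field of κ(s).
In that case f is formally unramified (so unramified, being locally of finite type). -/
theorem result {X S : Scheme.{u}} (f : X ⟶ S) [LocallyOfFiniteType f]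
    (H : ∀ s : S, ∃ (ι : Type u) (K : ι → Type u) (_ : ∀ i, Field (K i))
      (_ : ∀ i, Algebra (S.residueField s) (K i)),
      (∀ i, FiniteDimensional (S.residueField s) (K i) ∧ Algebra.IsSeparable (S.residueField s) (K i)) ∧
        ∃ e : f.fiber s ≅ ∐ (fun i => Spec (CommRingCat.of (K i))),
          e.hom ≫ Sigma.desc (fun i => Spec.map (CommRingCat.ofHom (algebraMap (S.residueField s) (K i)))) =
            f.fiberToSpecResidueField s) :
    FormallyUnramified f := by
  have key : ∀ x : X, ∃ U : X.Opens, x ∈ U ∧ FormallyUnramified (U.ι ≫ f) := by
    intro x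
    obtain ⟨ι, K, hF, hA, hK, e, he⟩ := H (f x)
    have hFU : FormallyUnramified (f.fiberToSpecResidueField (f x)) := by
      rw [← he]
      haveI : FormallyUnramified (Sigma.desc fun i =>
          Spec.map (CommRingCat.ofHom (algebraMap (S.residueField (f x)) (K i)))) := by
        refine IsZariskiLocalAtSource.sigmaDesc (fun i => ?_)
        rw [HasRingHomProperty.Spec_iff (P := @FormallyUnramified)]
        haveI := (hK i).2
        haveI := (hK i).1
        exact RingHom.formallyUnramified_algebraMap.mpr
          (Algebra.FormallyUnramified.of_isSeparable _ _)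
      exact (MorphismProperty.cancel_left_of_respectsIso @FormallyUnramified e.hom _).mpr this
    haveI := hFU
    have h1 : ((pullback.snd f (S.fromSpecResidueField (f x))).stalkMap
        (f.asFiber x)).hom.FormallyUnramified :=
      FormallyUnramified.stalkMap (f.fiberToSpecResidueField (f x)) (f.asFiber x)
    have h2 := (H5BC.formallyUnramified_stalkMap_baseChange_iff f
      (S.fromSpecResidueField (f x)) (f.asFiber x)).mp h1
    have h3 : (pullback.fst f (S.fromSpecResidueField (f x))) (f.asFiber x) = x :=
      f.fiberι_asFiber x
    rw [h3] at h2
    exact (H5BC.exists_nhd_formallyUnramified_iff_stalk f x).mpr h2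
  choose U hxU hU using key
  refine IsZariskiLocalAtSource.of_iSup_eq_top (P := @FormallyUnramified) U ?_ hU
  exact top_le_iff.mp fun x _ => TopologicalSpace.Opens.mem_iSup.mpr ⟨x, hxU x⟩

end Groth.Agent.S9720
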