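import Groth.Statements.S9721
import Mathlib
import Groth.Agent.Lib.helper5.StalkDict

set_option autoImplicit false
universe u
open CategoryTheory AlgebraicGeometry
open Mor

namespace Groth.Agent.S9721

/-- Let f : X ⟶ S be a morphism, x a point of X and V an affine open neighbourhood of f(x) in S. Then f
is smooth on some open neighbourhood of x if and only if there is an affine open neighbourhood U of
x with f(U) ⊆ V such that the induced ring map Γ(S, V) ⟶ Γ(X, U) is standard smooth. -/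
theorem result {X S : Scheme.{u}} (f : X ⟶ S) (x : X)
    (V : S.Opens) (hV : IsAffineOpen V) (hxV : f x ∈ V) :
    (∃ W : X.Opens, x ∈ W ∧ Smooth (W.ι ≫ f)) ↔
      ∃ (U : X.Opens) (_ : IsAffineOpen U) (_ : x ∈ U) (e : U ≤ f ⁻¹ᵁ V),
        (f.appLE V U e).hom.IsStandardSmooth := by
  classical
  constructor
  · rintro ⟨W, hxW, hW⟩
    obtain ⟨U₀, hU₀, hxU₀, hU₀le⟩ := TopologicalSpace.Opens.isBasis_iff_nbhd.mp
      X.isBasis_affineOpens (show x ∈ W ⊓ f ⁻¹ᵁ V from ⟨hxW, hxV⟩)
    have e₀ : U₀ ≤ f ⁻¹ᵁ V := hU₀le.trans inf_le_right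
    have hW₀ : U₀ ≤ W := hU₀le.trans inf_le_left
    have h1 : Smooth (f.resLE V U₀ e₀) := by
      have h2 : Smooth (f.resLE V U₀ e₀ ≫ V.ι) := by
        rw [Scheme.Hom.resLE_comp_ι]
        have : Scheme.Opens.ι U₀ = X.homOfLE hW₀ ≫ W.ι := (X.homOfLE_ι hW₀).symm
        rw [this, Category.assoc]
        infer_instance
      exact MorphismProperty.of_postcomp (W := @Smooth) (W' := @IsOpenImmersion)
        (f.resLE V U₀ e₀) V.ι inferInstance h2
    have h3 : RingHom.Smooth (f.appLE V U₀ e₀).hom :=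
      (H5Stalk.resLE_iff (P := @Smooth) f V hV U₀ hU₀ e₀).mp h1
    letI alg₀ := (f.appLE V U₀ e₀).hom.toAlgebra
    haveI : Algebra.Smooth Γ(S, V) Γ(X, U₀) := RingHom.smooth_algebraMap.mp h3
    let q := (hU₀.primeIdealOf ⟨x, hxU₀⟩).asIdeal
    haveI : q.IsPrime := (hU₀.primeIdealOf ⟨x, hxU₀⟩).isPrime
    haveI : Algebra.IsSmoothAt Γ(S, V) q :=
      Algebra.FormallySmooth.comp Γ(S, V) Γ(X, U₀) (Localization.AtPrime q)
    obtain ⟨g, hgq, hstd⟩ := Algebra.IsSmoothAt.exists_notMem_isStandardSmooth Γ(S, V) q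
    refine ⟨X.basicOpen g, hU₀.basicOpen g,
      H5Stalk.mem_basicOpen_of_notMem_primeIdealOf U₀ hU₀ hxU₀ g hgq,
      (X.basicOpen_le g).trans e₀, ?_⟩
    letI alg := (f.appLE V (X.basicOpen g) ((X.basicOpen_le g).trans e₀)).hom.toAlgebra
    haveI : IsLocalization.Away g Γ(X, X.basicOpen g) := hU₀.isLocalization_basicOpen g
    haveI : IsScalarTower Γ(S, V) Γ(X, U₀) Γ(X, X.basicOpen g) :=
      IsScalarTower.of_algebraMap_eq' (by
        simp only [RingHom.algebraMap_toAlgebra]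
        rw [← CommRingCat.hom_comp, Scheme.Hom.appLE_map])
    haveI : Algebra.IsStandardSmooth Γ(S, V) Γ(X, X.basicOpen g) :=
      Algebra.IsStandardSmooth.of_algEquiv
        ((IsLocalization.algEquiv (Submonoid.powers g) (Localization.Away g)
          Γ(X, X.basicOpen g)).restrictScalars Γ(S, V))
    exact (RingHom.isStandardSmooth_algebraMap (R := Γ(S, V)) (S := Γ(X, X.basicOpen g))).mpr
      inferInstance
  · rintro ⟨U, hU, hxU, e, hstd⟩
    refine ⟨U, hxU, ?_⟩
    have h2 : Smooth (f.resLE V U e) :=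
      (H5Stalk.resLE_iff (P := @Smooth) f V hV U hU e).mpr hstd.smooth
    rw [← Scheme.Hom.resLE_comp_ι f e]
    infer_instance

end Groth.Agent.S9721
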