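import Groth.Statements.S9722
import Mathlib

set_option autoImplicit false
universe u
open CategoryTheory AlgebraicGeometry
open Mor

namespace Groth.Agent.S9722

theorem h5_etale_resLE_iff {X S : AlgebraicGeometry.Scheme.{u}} (f : X ⟶ S) (V : S.Opens)
    (hV : AlgebraicGeometry.IsAffineOpen V)
    (U : X.Opens) (hU : AlgebraicGeometry.IsAffineOpen U) (e : U ≤ f ⁻¹ᵁ V) :
    AlgebraicGeometry.Etale (f.resLE V U e) ↔ RingHom.Etale (f.appLE V U e).hom := by
  haveI : AlgebraicGeometry.IsAffine V.toScheme := hV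
  haveI : AlgebraicGeometry.IsAffine U.toScheme := hU
  rw [AlgebraicGeometry.HasRingHomProperty.iff_of_isAffine (P := @AlgebraicGeometry.Etale)]
  have hri : (RingHom.toMorphismProperty RingHom.Etale).RespectsIso :=
    RingHom.toMorphismProperty_respectsIso_iff.mp RingHom.Etale.respectsIso
  exact CategoryTheory.MorphismProperty.arrow_mk_iso_iff (RingHom.toMorphismProperty RingHom.Etale)
    (AlgebraicGeometry.arrowResLEAppIso f V U e)

/-- Let f : X ⟶ S be a morphism, x a point of X and V an affine open neighbourhood of f(x) in S. Then f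
is étale on some open neighbourhood of x if and only if there is an affine open neighbourhood U of x
with f(U) ⊆ V such that Γ(X, U) is a standard étale algebra over Γ(S, V) through the induced ring
map. -/
theorem result {X S : Scheme.{u}} (f : X ⟶ S) (x : X)
    (V : S.Opens) (hV : IsAffineOpen V) (hxV : f x ∈ V) :
    (∃ W : X.Opens, x ∈ W ∧ Etale (W.ι ≫ f)) ↔
      ∃ (U : X.Opens) (_ : IsAffineOpen U) (_ : x ∈ U) (e : U ≤ f ⁻¹ᵁ V),
        letI := (f.appLE V U e).hom.toAlgebra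
        Algebra.IsStandardEtale Γ(S, V) Γ(X, U) := by
  classical
  constructor
  · rintro ⟨W, hxW, hW⟩
    obtain ⟨U₀, hU₀, hxU₀, hU₀le⟩ := TopologicalSpace.Opens.isBasis_iff_nbhd.mp
      X.isBasis_affineOpens (show x ∈ W ⊓ f ⁻¹ᵁ V from ⟨hxW, hxV⟩)
    have e₀ : U₀ ≤ f ⁻¹ᵁ V := hU₀le.trans inf_le_right
    have hW₀ : U₀ ≤ W := hU₀le.trans inf_le_left
    have h1 : Etale (f.resLE V U₀ e₀) := by
      have h2 : Etale (f.resLE V U₀ e₀ ≫ V.ι) := by
        rw [Scheme.Hom.resLE_comp_ι]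
        have : Scheme.Opens.ι U₀ = X.homOfLE hW₀ ≫ W.ι := (X.homOfLE_ι hW₀).symm
        rw [this, Category.assoc]
        infer_instance
      exact MorphismProperty.of_postcomp (W := @Etale) (W' := @Etale) (f.resLE V U₀ e₀) V.ι
        inferInstance h2
    have h3 : RingHom.Etale (f.appLE V U₀ e₀).hom := (h5_etale_resLE_iff f V hV U₀ hU₀ e₀).mp h1
    letI alg₀ := (f.appLE V U₀ e₀).hom.toAlgebra
    haveI : Algebra.Etale Γ(S, V) Γ(X, U₀) := RingHom.etale_algebraMap.mp h3
    let q := (hU₀.primeIdealOf ⟨x, hxU₀⟩).asIdeal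
    haveI : q.IsPrime := (hU₀.primeIdealOf ⟨x, hxU₀⟩).isPrime
    haveI : Algebra.IsEtaleAt Γ(S, V) q :=
      Algebra.FormallyEtale.comp Γ(S, V) Γ(X, U₀) (Localization.AtPrime q)
    obtain ⟨g, hgq, hstd⟩ := Algebra.IsEtaleAt.exists_isStandardEtale (R := Γ(S, V)) q
    refine ⟨X.basicOpen g, hU₀.basicOpen g, ?_, (X.basicOpen_le g).trans e₀, ?_⟩
    · have h4 : hU₀.primeIdealOf ⟨x, hxU₀⟩ ∈ hU₀.fromSpec ⁻¹ᵁ X.basicOpen g := by
        rw [hU₀.fromSpec_preimage_basicOpen]; exact hgq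
      have h5 := hU₀.fromSpec_primeIdealOf ⟨x, hxU₀⟩
      change hU₀.fromSpec (hU₀.primeIdealOf ⟨x, hxU₀⟩) ∈ X.basicOpen g at h4
      rwa [h5] at h4
    · letI alg := (f.appLE V (X.basicOpen g) ((X.basicOpen_le g).trans e₀)).hom.toAlgebra
      haveI : IsLocalization.Away g Γ(X, X.basicOpen g) := hU₀.isLocalization_basicOpen g
      haveI : IsScalarTower Γ(S, V) Γ(X, U₀) Γ(X, X.basicOpen g) :=
        IsScalarTower.of_algebraMap_eq' (by
          simp only [RingHom.algebraMap_toAlgebra]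
          rw [← CommRingCat.hom_comp, Scheme.Hom.appLE_map])
      exact Algebra.IsStandardEtale.of_equiv
        ((IsLocalization.algEquiv (Submonoid.powers g) (Localization.Away g)
          Γ(X, X.basicOpen g)).restrictScalars Γ(S, V))
  · rintro ⟨U, hU, hxU, e, hstd⟩
    refine ⟨U, hxU, ?_⟩
    letI := (f.appLE V U e).hom.toAlgebra
    haveI : Algebra.Etale Γ(S, V) Γ(X, U) := inferInstance
    have h1 : RingHom.Etale (f.appLE V U e).hom :=
      (RingHom.etale_algebraMap (R := Γ(S, V)) (S := Γ(X, U))).mpr inferInstance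
    have h2 : Etale (f.resLE V U e) := (h5_etale_resLE_iff f V hV U hU e).mpr h1
    rw [← Scheme.Hom.resLE_comp_ι f e]
    infer_instance

end Groth.Agent.S9722
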