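import Groth.Statements.S9723
import Mathlib

set_option autoImplicit false
universe u
open FlatMor

namespace Groth.Agent.S9723

open AlgebraicGeometry CategoryTheory in
private theorem aux_surj (A : Type u) [CommRing A] (I : Ideal A) (hI : I ^ 2 = ⊥) :
    Function.Surjective (Spec.map (CommRingCat.ofHom (Ideal.Quotient.mk I))) := by
  intro p
  have key : ∀ p' : PrimeSpectrum A,
      p' ∈ Set.range (PrimeSpectrum.comap (Ideal.Quotient.mk I)) := by
    intro p'
    rw [range_comap_of_surjective _ _ Ideal.Quotient.mk_surjective,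
      Ideal.mk_ker, PrimeSpectrum.mem_zeroLocus]
    intro x hx
    have h2 : x ^ 2 ∈ I ^ 2 := Ideal.pow_mem_pow hx 2
    rw [hI, Ideal.mem_bot] at h2
    have : x ^ 2 ∈ p'.asIdeal := h2 ▸ p'.asIdeal.zero_mem
    exact p'.isPrime.mem_of_pow_mem 2 this
  obtain ⟨q, hq⟩ := key p
  exact ⟨q, hq⟩

open AlgebraicGeometry CategoryTheory in
private theorem aux_lift {X S : Scheme.{u}} (f : X ⟶ S) (U : X.Opens) (V : S.Opens)
    (h : U ≤ f ⁻¹ᵁ V) (A : Type u) [CommRing A] (I : Ideal A) (hI : I ^ 2 = ⊥)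
    (a : Spec (CommRingCat.of (A ⧸ I)) ⟶ U.toScheme) (b : Spec (CommRingCat.of A) ⟶ V.toScheme)
    (l : Spec (CommRingCat.of A) ⟶ X)
    (hl1 : Spec.map (CommRingCat.ofHom (Ideal.Quotient.mk I)) ≫ l = a ≫ U.ι)
    (hl2 : l ≫ f = b ≫ V.ι) :
    ∃ l' : Spec (CommRingCat.of A) ⟶ U.toScheme, l' ≫ U.ι = l ∧
      Spec.map (CommRingCat.ofHom (Ideal.Quotient.mk I)) ≫ l' = a ∧ l' ≫ f.resLE V U h = b := by
  have hrange : Set.range l ⊆ Set.range U.ι := by
    rintro _ ⟨p, rfl⟩
    obtain ⟨q, rfl⟩ := aux_surj A I hI p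
    rw [← Scheme.Hom.comp_apply, hl1, Scheme.Hom.comp_apply]
    exact Set.mem_range_self _
  refine ⟨IsOpenImmersion.lift U.ι l hrange, IsOpenImmersion.lift_fac _ _ _, ?_, ?_⟩
  · rw [← cancel_mono U.ι, Category.assoc, IsOpenImmersion.lift_fac, hl1]
  · rw [← cancel_mono V.ι, Category.assoc, Scheme.Hom.resLE_comp_ι, ← Category.assoc,
      IsOpenImmersion.lift_fac, hl2]

open AlgebraicGeometry CategoryTheory Limits in

open AlgebraicGeometry CategoryTheory in
/-- Let f : X ⟶ S be formally étale (unique infinitesimal lifting against square-zero thickenings of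
affine schemes), and let U be an open subscheme of X and V an open subscheme of S such that f maps U
into V. Then the restricted morphism U ⟶ V is formally étale. -/
theorem result {X S : Scheme.{u}} (f : X ⟶ S) (hf : MoreMor.IsFormallyEtaleHom f)
    (U : X.Opens) (V : S.Opens) (h : U ≤ f ⁻¹ᵁ V) : MoreMor.IsFormallyEtaleHom (f.resLE V U h) := by
  intro A _ I hI a b hab
  have hab' : Spec.map (CommRingCat.ofHom (Ideal.Quotient.mk I)) ≫ (b ≫ V.ι) =
      (a ≫ U.ι) ≫ f := by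
    rw [← Category.assoc, hab, Category.assoc, Category.assoc, Scheme.Hom.resLE_comp_ι]
  obtain ⟨l, ⟨hl1, hl2⟩, huniq⟩ := hf A I hI (a ≫ U.ι) (b ≫ V.ι) hab'
  obtain ⟨l', hl', h1, h2⟩ := aux_lift f U V h A I hI a b l hl1 hl2
  refine ⟨l', ⟨h1, h2⟩, ?_⟩
  rintro l'' ⟨h1', h2'⟩
  have : l'' ≫ U.ι = l := by
    apply huniq
    refine ⟨?_, ?_⟩
    · rw [← Category.assoc, h1']
    · rw [Category.assoc, ← Scheme.Hom.resLE_comp_ι f h, ← Category.assoc, h2']
  rw [← cancel_mono U.ι, this, hl']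

end Groth.Agent.S9723
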