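import Groth.Statements.S9734
import Mathlib
import Groth.Agent.Lib.helper5.EtRes

set_option autoImplicit false
universe u
open FlatMor

namespace Groth.Agent.S9734

open AlgebraicGeometry CategoryTheory Limits in
/-- Let S be a scheme, s a point of S and k a finite separable field extension of the residue field
κ(s). Then there is an étale neighbourhood (U, u) ⟶ (S, s) whose residue field extension κ(u)/κ(s)
is isomorphic to k/κ(s). -/
theorem result (S : Scheme.{u}) (s : S) (k : Type u) [Field k]
    [Algebra (S.residueField s) k] [FiniteDimensional (S.residueField s) k] [Algebra.IsSeparable (S.residueField s) k] :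
    ∃ (U : Scheme.{u}) (g : U ⟶ S) (u : U) (hu : g u = s), Etale g ∧
      letI := ((S.residueFieldCongr hu).inv ≫ g.residueFieldMap u).hom.toAlgebra
      Nonempty (k ≃ₐ[S.residueField s] U.residueField u) := by
  obtain ⟨_, ⟨V, hV, rfl⟩, hsV, -⟩ :=
    S.isBasis_affineOpens.exists_subset_of_mem_open (Set.mem_univ s) isOpen_univ
  have hV' : IsAffineOpen V := hV
  letI algAκ : Algebra Γ(S, V) (S.residueField s) := (S.evaluation V s hsV).hom.toAlgebra
  letI algAk : Algebra Γ(S, V) k :=
    ((algebraMap (S.residueField s) k).comp (algebraMap Γ(S, V) (S.residueField s))).toAlgebra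
  haveI : IsScalarTower Γ(S, V) (S.residueField s) k :=
    IsScalarTower.of_algebraMap_eq (fun _ => rfl)
  have hfrac : ∀ x : S.residueField s, ∃ t : Γ(S, V),
      algebraMap Γ(S, V) (S.residueField s) t ≠ 0 ∧ ∃ r : Γ(S, V),
        algebraMap Γ(S, V) (S.residueField s) t * x = algebraMap Γ(S, V) (S.residueField s) r := by
    intro x
    obtain ⟨y, rfl⟩ := S.residue_surjective s x
    letI algAst : Algebra Γ(S, V) (S.presheaf.stalk s) :=
      S.presheaf.algebra_section_stalk ⟨s, hsV⟩
    haveI := hV'.isLocalization_stalk ⟨s, hsV⟩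
    obtain ⟨⟨r, t⟩, hrt⟩ :=
      IsLocalization.surj (hV'.primeIdealOf ⟨s, hsV⟩).asIdeal.primeCompl y
    have hu : IsUnit (algebraMap Γ(S, V) (S.presheaf.stalk s) t) :=
      IsLocalization.map_units (S.presheaf.stalk s) t
    have hev : ∀ a : Γ(S, V), algebraMap Γ(S, V) (S.residueField s) a =
        (S.residue s).hom (algebraMap Γ(S, V) (S.presheaf.stalk s) a) := fun a => rfl
    refine ⟨t, ?_, r, ?_⟩
    · rw [hev]
      exact (hu.map (S.residue s).hom).ne_zero
    · rw [hev, hev, ← hrt, map_mul, mul_comm]
  obtain ⟨R', _, _, hEt, ψ, hψ⟩ := H5EtRes.etale_lift_field Γ(S, V) (S.residueField s) hfrac k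
  -- the étale neighbourhood
  let φ : Γ(S, V) ⟶ CommRingCat.of R' := CommRingCat.ofHom (algebraMap Γ(S, V) R')
  let g : Spec (CommRingCat.of R') ⟶ S := Spec.map φ ≫ hV'.fromSpec
  haveI : Etale (Spec.map φ) := by
    rw [HasRingHomProperty.Spec_iff (P := @Etale)]
    exact RingHom.etale_algebraMap.mpr hEt
  haveI : Etale g := by
    dsimp only [g]
    infer_instance
  let t : Spec (CommRingCat.of k) ⟶ Spec (CommRingCat.of R') :=
    Spec.map (CommRingCat.ofHom ψ.toRingHom)
  let u : Spec (CommRingCat.of R') := t (IsLocalRing.closedPoint k)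
  -- the key identity
  have hkey : t ≫ g = Spec.map (CommRingCat.ofHom (algebraMap (S.residueField s) k)) ≫
      S.fromSpecResidueField s := by
    have h1 : φ ≫ CommRingCat.ofHom ψ.toRingHom =
        S.evaluation V s hsV ≫ CommRingCat.ofHom (algebraMap (S.residueField s) k) := by
      ext a
      change ψ (algebraMap Γ(S, V) R' a) = algebraMap Γ(S, V) k a
      exact ψ.commutes a
    have h2 : Spec.map (S.evaluation V s hsV) ≫ hV'.fromSpec = S.fromSpecResidueField s := by
      rw [← Scheme.germ_residue, Spec.map_comp, Category.assoc, Scheme.fromSpecResidueField]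
      congr 1
      exact hV'.fromSpecStalk_eq_fromSpecStalk hsV
    dsimp only [t, g]
    rw [← Category.assoc, ← Spec.map_comp, h1, Spec.map_comp, Category.assoc, h2]
    rfl
  have hu : g u = s := by
    change (t ≫ g) (IsLocalRing.closedPoint k) = s
    rw [hkey, Scheme.Hom.comp_apply, Scheme.fromSpecResidueField_apply]
  -- the induced map on residue fields
  let θ : (Spec (CommRingCat.of R')).residueField u ⟶ CommRingCat.of k :=
    Scheme.descResidueField (Scheme.stalkClosedPointTo t)
  have hθ : Spec.map θ ≫ (Spec (CommRingCat.of R')).fromSpecResidueField u = t :=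
    Scheme.descResidueField_stalkClosedPointTo_fromSpecResidueField k _ t
  have hθinj : Function.Injective θ.hom := RingHom.injective θ.hom
  have hθsurj : Function.Surjective θ.hom := by
    have h3 : CommRingCat.ofHom ψ.toRingHom =
        CommRingCat.ofHom (algebraMap R' u.asIdeal.ResidueField) ≫
          (Scheme.Spec.residueFieldIso (CommRingCat.of R') u).inv ≫ θ := by
      apply Spec.map_injective
      rw [Spec.map_comp, Spec.map_comp, Category.assoc,
        Scheme.Spec.map_residueFieldIso_inv_eq_fromSpecResidueField]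
      exact hθ.symm
    have hrange : Set.range ψ ⊆ (θ.hom.fieldRange : Set k) := by
      rintro _ ⟨r', rfl⟩
      have h4 := congrArg (fun c => c.hom r') h3
      refine ⟨(Scheme.Spec.residueFieldIso (CommRingCat.of R') u).inv.hom
        (algebraMap R' u.asIdeal.ResidueField r'), ?_⟩
      exact h4.symm
    have h5 : Subfield.closure (Set.range ψ) ≤ θ.hom.fieldRange :=
      Subfield.closure_le.mpr hrange
    rw [hψ] at h5
    intro y
    exact h5 (Subfield.mem_top y)
  refine ⟨Spec (CommRingCat.of R'), g, u, hu, inferInstance, ?_⟩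
  letI := ((S.residueFieldCongr hu).inv ≫ g.residueFieldMap u).hom.toAlgebra
  have hcomm : ((S.residueFieldCongr hu).inv ≫ g.residueFieldMap u) ≫ θ =
      CommRingCat.ofHom (algebraMap (S.residueField s) k) := by
    apply Spec.map_injective
    rw [← cancel_mono (S.fromSpecResidueField s), ← hkey, ← hθ]
    simp only [Spec.map_comp, Category.assoc]
    rw [Scheme.residueFieldCongr_inv, Scheme.residueFieldCongr_fromSpecResidueField,
      Scheme.Hom.SpecMap_residueFieldMap_fromSpecResidueField]
  let e : (Spec (CommRingCat.of R')).residueField u ≃+* k :=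
    RingEquiv.ofBijective θ.hom ⟨hθinj, hθsurj⟩
  refine ⟨AlgEquiv.symm { e with commutes' := fun c => ?_ }⟩
  exact congrArg (fun m => m.hom c) hcomm

end Groth.Agent.S9734
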