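import Groth.Statements.S9793
import Mathlib

set_option autoImplicit false
universe u
open CategoryTheory AlgebraicGeometry TopologicalSpace
open Props

namespace Groth.Agent.S9793

/-- Let S be a Noetherian scheme and T a set of points of S. Every point of T is a specialization of
some point of T which admits no non-trivial generization lying in T. -/
theorem result (S : Scheme.{u}) [IsNoetherian S]
    (T : Set S) (t : S) (ht : t ∈ T) :
    ∃ t₀ ∈ T, (∀ t' ∈ T, t' ⤳ t₀ → t' = t₀) ∧ t₀ ⤳ t := by

  let R := S.presheaf.stalk t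
  haveI : IsNoetherianRing R := inferInstance
  let g : Spec R ⟶ S := S.fromSpecStalk t
  have hrange : Set.range g = {y | y ⤳ t} := Scheme.range_fromSpecStalk
  let T' : Set (PrimeSpectrum R) := {p | g p ∈ T}
  have hne : T'.Nonempty := by
    obtain ⟨p, hp⟩ : t ∈ Set.range g := by rw [hrange]; exact specializes_rfl
    exact ⟨p, by show g p ∈ T; rw [hp]; exact ht⟩
  obtain ⟨p, hpT, hmin⟩ := WellFounded.has_min
    (InvImage.wf (fun p : PrimeSpectrum R => p.asIdeal.height) wellFounded_lt) T' hne
  refine ⟨g p, hpT, ?_, ?_⟩
  · intro t' ht' hsp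
    have hgp : g p ⤳ t := by
      have : g p ∈ Set.range g := ⟨p, rfl⟩
      rw [hrange] at this
      exact this
    have ht't : t' ∈ Set.range g := by
      rw [hrange]
      exact hsp.trans hgp
    obtain ⟨p', rfl⟩ := ht't
    have hp'p : p' ⤳ p := (g.isEmbedding.isInducing.specializes_iff).1 hsp
    have hle : PrimeSpectrum.asIdeal p' ≤ PrimeSpectrum.asIdeal p :=
      (PrimeSpectrum.le_iff_specializes (R := R) p' p).2 hp'p
    by_contra hne'
    have hne'' : p' ≠ p := fun h => hne' (by rw [h])
    have hlt : p'.asIdeal < p.asIdeal := lt_of_le_of_ne hle (fun h => hne'' (PrimeSpectrum.ext h))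
    have := Ideal.height_strict_mono_of_isPrime_of_isPrime hlt
    exact hmin p' ht' this
  · have : g p ∈ Set.range g := ⟨p, rfl⟩
    rw [hrange] at this
    exact this

end Groth.Agent.S9793
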