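import Groth.Statements.S9796
import Mathlib
import Groth.Agent.Lib.helper5.ZeroDim2

set_option autoImplicit false
universe u
open CategoryTheory AlgebraicGeometry TopologicalSpace
open Props

namespace Groth.Agent.S9796

/-- (2) implies (3) with the complement on connected components: a separated scheme of dimension at most
zero is Hausdorff and totally disconnected. -/
theorem result (X : Scheme.{u}) [X.IsSeparated]
    (h : topologicalKrullDim X ≤ 0) : T2Space X ∧ TotallyDisconnectedSpace X := by

  haveI := Groth.Agent.Lib.helper5.h5_t1Space_of_dim_le_zero X h
  haveI := Groth.Agent.Lib.helper5.h5_totallySeparatedSpace_of_t1 X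
  exact ⟨Groth.Agent.Lib.helper5.h5_t2Space_of_t1 X, inferInstance⟩

end Groth.Agent.S9796
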