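import Groth.Statements.S9798
import Mathlib

set_option autoImplicit false
universe u
open CategoryTheory AlgebraicGeometry TopologicalSpace
open Props

namespace Groth.Agent.S9798

/-- A point of a locally Noetherian scheme has local dimension zero exactly when it is isolated. -/
theorem result (X : Scheme.{u}) [IsLocallyNoetherian X] (x : X) :
    FlatMor.localDim X x = 0 ↔ IsOpen ({x} : Set X) := by
  classical
  unfold FlatMor.localDim
  constructor
  · intro h0
    haveI : Nonempty {U : TopologicalSpace.Opens X // x ∈ U} := ⟨⟨⊤, trivial⟩⟩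
    obtain ⟨⟨U, hxU⟩, hU⟩ := ciInf_mem (fun U : {U : TopologicalSpace.Opens X // x ∈ U} =>
      topologicalKrullDim (U.1 : Set X))
    rw [h0] at hU
    let U' : X.Opens := U
    have hU' : topologicalKrullDim ↥U'.toScheme ≤ 0 := le_of_eq hU
    haveI : IsLocallyArtinian U'.toScheme :=
      IsLocallyArtinian.of_topologicalKrullDim_le_zero hU'
    have hd : DiscreteTopology ↥U'.toScheme := inferInstance
    have ho : IsOpen ({⟨x, hxU⟩} : Set ↥U'.toScheme) := isOpen_discrete _
    have h1 := (U'.isOpenEmbedding'.isOpen_iff_image_isOpen).mp ho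
    have h2 : (Subtype.val '' ({⟨x, hxU⟩} : Set ↥U'.toScheme) : Set X) = {x} := by
      ext z
      constructor
      · rintro ⟨w, hw, rfl⟩
        have : w = ⟨x, hxU⟩ := hw
        rw [this]
        rfl
      · intro hz
        have hz' : z = x := hz
        exact ⟨⟨x, hxU⟩, rfl, hz'.symm⟩
    rw [← h2]
    exact h1
  · intro hx
    apply le_antisymm
    · refine (iInf_le _ (⟨⟨{x}, hx⟩, rfl⟩ : {U : TopologicalSpace.Opens X // x ∈ U})).trans ?_
      haveI : DiscreteTopology ↥({x} : Set X) := inferInstance
      exact topologicalKrullDim_zero_of_discreteTopology _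
    · refine le_iInf fun U => ?_
      haveI : Nonempty ↥(U.1 : Set X) := ⟨⟨x, U.2⟩⟩
      unfold topologicalKrullDim
      haveI : Nonempty (TopologicalSpace.IrreducibleCloseds ↥(U.1 : Set X)) :=
        ⟨⟨closure {⟨x, U.2⟩}, isIrreducible_singleton.closure, isClosed_closure⟩⟩
      exact Order.krullDim_nonneg

end Groth.Agent.S9798
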