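import Groth.Statements.S9799
import Mathlib

set_option autoImplicit false
universe u
open CategoryTheory AlgebraicGeometry TopologicalSpace
open Props

namespace Groth.Agent.S9799


theorem h5_irred_eq {T : Type*} [TopologicalSpace T] [QuasiSober T]
    (hP : ∀ x : T, ∃ b : T, b ⤳ x ∧ ∀ η : T, η ⤳ x → b ⤳ η)
    (Z Z' : Set T) (hZ : Z ∈ irreducibleComponents T) (hZ' : Z' ∈ irreducibleComponents T)
    (x : T) (hx : x ∈ Z) (hx' : x ∈ Z') : Z = Z' := by
  obtain ⟨b, hb, hbη⟩ := hP x
  have key : ∀ W ∈ irreducibleComponents T, x ∈ W → W = closure {b} := by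
    intro W hW hxW
    have hWirr : IsIrreducible W := hW.1
    have hWcl : IsClosed W := isClosed_of_mem_irreducibleComponents W hW
    obtain ⟨η, hη⟩ := QuasiSober.sober hWirr hWcl
    have hηx : η ⤳ x := by
      rw [specializes_iff_mem_closure, hη.def]; exact hxW
    have hbη' := hbη η hηx
    have hsub : W ⊆ closure {b} := by
      rw [← hη.def]
      exact specializes_iff_closure_subset.1 hbη'
    have hirr : IsIrreducible (closure ({b} : Set T)) := isIrreducible_singleton.closure
    exact le_antisymm hsub (hW.2 hirr hsub)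
  rw [key Z hZ hx, key Z' hZ' hx']

theorem h5_P_open {T : Type*} [TopologicalSpace T]
    (hP : ∀ x : T, ∃ b : T, b ⤳ x ∧ ∀ η : T, η ⤳ x → b ⤳ η)
    (U : Set T) (hU : IsOpen U) :
    ∀ x : U, ∃ b : U, b ⤳ x ∧ ∀ η : U, η ⤳ x → b ⤳ η := by
  intro x
  obtain ⟨b, hb, hbη⟩ := hP x.1
  have hbU : b ∈ U := hb.mem_open hU x.2
  refine ⟨⟨b, hbU⟩, ?_, ?_⟩
  · rw [subtype_specializes_iff]; exact hb
  · intro η hη
    rw [subtype_specializes_iff] at hη ⊢
    exact hbη _ hη

theorem h5_irred_open {T : Type*} [TopologicalSpace T] (hfin : (irreducibleComponents T).Finite)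
    (hdisj : ∀ Z ∈ irreducibleComponents T, ∀ Z' ∈ irreducibleComponents T,
      ∀ x, x ∈ Z → x ∈ Z' → Z = Z')
    (Z : Set T) (hZ : Z ∈ irreducibleComponents T) : IsOpen Z := by
  have hEq : Z = (⋃₀ (irreducibleComponents T \ {Z}))ᶜ := by
    ext x; constructor
    · intro hx hx'
      obtain ⟨Z', ⟨hZ', hne⟩, hxZ'⟩ := hx'
      exact hne (hdisj Z hZ Z' hZ' x hx hxZ').symm
    · intro hx
      have hZ'0 : irreducibleComponent x ∈ irreducibleComponents T :=
        irreducibleComponent_mem_irreducibleComponents x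
      have hxZ' : x ∈ irreducibleComponent x := mem_irreducibleComponent
      by_contra hxZ
      apply hx
      exact ⟨irreducibleComponent x, ⟨hZ'0, fun h => hxZ (by
        have h' : irreducibleComponent x = Z := h
        rw [← h']; exact hxZ')⟩, hxZ'⟩
  rw [hEq, isOpen_compl_iff, Set.sUnion_eq_biUnion]
  apply Set.Finite.isClosed_biUnion (hfin.subset Set.diff_subset)
  intro W hW; exact isClosed_of_mem_irreducibleComponents W hW.1

/-- Let X be a normal scheme (all local rings are integrally closed domains) such that every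
quasi-compact open subset has finitely many irreducible components. Then the irreducible components
of X are open and pairwise disjoint; hence X is the disjoint union of its irreducible components,
each an open subscheme which is normal and integral. -/
theorem result (X : Scheme.{u})
    (hfin : ∀ U : X.Opens, IsCompact (U : Set X) → (irreducibleComponents ↥U).Finite)
    (hN : Pi1.IsNormalScheme X) :
    (∀ Z ∈ irreducibleComponents X, IsOpen Z) ∧
      ∀ Z ∈ irreducibleComponents X, ∀ Z' ∈ irreducibleComponents X, Z ≠ Z' → Disjoint Z Z' := by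
  classical
  have hP : ∀ x : X, ∃ b : X, b ⤳ x ∧ ∀ η : X, η ⤳ x → b ⤳ η := by
    intro x
    obtain ⟨hdom, -⟩ := hN x
    haveI := hdom
    let f := X.fromSpecStalk x
    let b0 : PrimeSpectrum (X.presheaf.stalk x) := ⟨⊥, Ideal.isPrime_bot⟩
    refine ⟨f b0, ?_, ?_⟩
    · have h1 : f b0 ∈ Set.range f := ⟨b0, rfl⟩
      rw [Scheme.range_fromSpecStalk] at h1
      exact h1
    · intro η hη
      have h1 : η ∈ Set.range f := by rw [Scheme.range_fromSpecStalk]; exact hη
      obtain ⟨q, rfl⟩ := h1
      apply Specializes.map _ f.continuous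
      exact (PrimeSpectrum.le_iff_specializes b0 q).1 (bot_le (a := q.asIdeal))
  have hEqX := h5_irred_eq hP
  refine ⟨?_, ?_⟩
  · intro Z hZ
    rw [isOpen_iff_forall_mem_open]
    intro x hxZ
    obtain ⟨V, hVaff, hxV, -⟩ := exists_isAffineOpen_mem_and_subset (x := x) (U := ⊤) trivial
    have hVc : IsCompact (V : Set X) := hVaff.isCompact
    have hfinV := hfin V hVc
    have hPV := h5_P_open hP (V : Set X) V.isOpen
    haveI : QuasiSober (V : Set X) := V.isOpenEmbedding'.quasiSober
    have hEqV := h5_irred_eq hPV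
    let x' : (V : Set X) := ⟨x, hxV⟩
    have hWmem : irreducibleComponent x' ∈ irreducibleComponents (V : Set X) :=
      irreducibleComponent_mem_irreducibleComponents x'
    have hWopen : IsOpen (irreducibleComponent x') :=
      h5_irred_open hfinV (fun Z1 h1 Z2 h2 y hy1 hy2 => hEqV Z1 Z2 h1 h2 y hy1 hy2) _ hWmem
    have hWirr : IsIrreducible (irreducibleComponent x') := hWmem.1
    set t : Set X := Subtype.val '' (irreducibleComponent x') with ht
    have htopen : IsOpen t := V.isOpen.isOpenMap_subtype_val _ hWopen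
    have htirr : IsIrreducible t := hWirr.image _ continuous_subtype_val.continuousOn
    have hxt : x ∈ t := ⟨x', mem_irreducibleComponent, rfl⟩
    obtain ⟨u, hu, htu, humax⟩ := exists_preirreducible t htirr.isPreirreducible
    have huirr : IsIrreducible u := ⟨⟨x, htu hxt⟩, hu⟩
    have humem : u ∈ irreducibleComponents X :=
      ⟨huirr, fun v hv huv => (humax v hv.isPreirreducible huv).le⟩
    have huZ : u = Z := hEqX u Z humem hZ x (htu hxt) hxZ
    exact ⟨t, huZ ▸ htu, htopen, hxt⟩
  · intro Z hZ Z' hZ' hne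
    rw [Set.disjoint_left]
    intro x hx hx'
    exact hne (hEqX Z Z' hZ hZ' x hx hx')

end Groth.Agent.S9799
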