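import Groth.Statements.S9800
import Mathlib

set_option autoImplicit false
universe u
open CategoryTheory AlgebraicGeometry TopologicalSpace
open Props

namespace Groth.Agent.S9800

/-- A locally Noetherian normal scheme of dimension at most one is regular, that is, all of its local
rings are regular local rings. -/
theorem result (X : Scheme.{u})
    [IsLocallyNoetherian X] (hN : Pi1.IsNormalScheme X) (hd : topologicalKrullDim X ≤ 1) (x : X) :
    IsRegularLocalRing (X.presheaf.stalk x) := by
  obtain ⟨hdom, hic⟩ := hN x
  haveI := hdom
  haveI := hic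
  set A := X.presheaf.stalk x with hA
  haveI : IsNoetherianRing A := inferInstance
  haveI : IsLocalRing A := inferInstance
  -- dimension bound
  have hdim : ringKrullDim A ≤ 1 := by
    rw [← PrimeSpectrum.topologicalKrullDim_eq_ringKrullDim]
    refine le_trans ?_ hd
    have hemb : Topology.IsEmbedding (X.fromSpecStalk x).base :=
      (inferInstance : IsPreimmersion (X.fromSpecStalk x)).base_embedding
    exact Topology.IsInducing.topologicalKrullDim_le hemb.isInducing
  haveI : Ring.KrullDimLE 1 A := (Ring.krullDimLE_iff).2 hdim
  have hprime : ∀ P : Ideal A, P ≠ ⊥ → P.IsPrime → P = IsLocalRing.maximalIdeal A := by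
    intro P hP hPp
    have hmax : P.IsMaximal :=
      (Ring.krullDimLE_one_iff_of_noZeroDivisors.1 inferInstance) P hP hPp
    exact IsLocalRing.eq_maximalIdeal hmax
  have htfae := tfae_of_isNoetherianRing_of_isLocalRing_of_isDomain (R := A)
  have h30 : (IsIntegrallyClosed A ∧ ∀ P : Ideal A, P ≠ ⊥ → P.IsPrime → P = IsLocalRing.maximalIdeal A) ↔
      IsPrincipalIdealRing A := htfae.out 3 0
  have hpid : IsPrincipalIdealRing A := h30.1 ⟨inferInstance, hprime⟩
  haveI := hpid
  infer_instance

end Groth.Agent.S9800
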