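import Groth.Statements.S9821
import Mathlib

set_option autoImplicit false
universe u
open CategoryTheory CategoryTheory.Limits AlgebraicGeometry TopologicalSpace Opposite
open Props

namespace Groth.Agent.S9821

/-- An integral scheme is normal if and only if the coordinate ring of every nonempty affine open is an
integrally closed domain. -/
theorem result (X : Scheme.{u}) [IsIntegral X] :
    Pi1.IsNormalScheme X ↔ ∀ (U : X.Opens) [Nonempty U], IsAffineOpen U → IsIntegrallyClosed Γ(X, U) := by
  constructor
  · intro h U _ hU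
    let (x : _) : Algebra Γ(X, U) (X.presheaf.stalk (hU.fromSpec x)) :=
      TopCat.Presheaf.algebra_section_stalk X.presheaf _
    have (P : Ideal Γ(X, U)) [hP : P.IsPrime] : IsLocalization.AtPrime _ P :=
      hU.isLocalization_stalk' ⟨P, hP⟩ (hU.isoSpec.inv _).2
    exact IsIntegrallyClosed.of_isLocalization_maximal
      (fun P hP => X.presheaf.stalk (hU.fromSpec ⟨P, hP.isPrime⟩)) (fun P hP => (h _).2)
  · intro h x
    obtain ⟨U, hU, hxU, -⟩ := exists_isAffineOpen_mem_and_subset (X := X) (x := x) (U := ⊤) trivial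
    haveI : Nonempty U := ⟨⟨x, hxU⟩⟩
    letI : Algebra Γ(X, U) (X.presheaf.stalk x) :=
      TopCat.Presheaf.algebra_section_stalk X.presheaf ⟨x, hxU⟩
    haveI := hU.isLocalization_stalk ⟨x, hxU⟩
    haveI : IsIntegrallyClosed Γ(X, U) := h U hU
    have hdom : IsDomain (X.presheaf.stalk x) :=
      IsLocalization.isDomain_of_le_nonZeroDivisors (X.presheaf.stalk x)
        (Ideal.primeCompl_le_nonZeroDivisors (hU.primeIdealOf ⟨x, hxU⟩).asIdeal)
    exact ⟨hdom, isIntegrallyClosed_of_isLocalization (X.presheaf.stalk x)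
      (hU.primeIdealOf ⟨x, hxU⟩).asIdeal.primeCompl (Ideal.primeCompl_le_nonZeroDivisors _)⟩

end Groth.Agent.S9821
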