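import Groth.Statements.S9822
import Mathlib

set_option autoImplicit false
universe u
open CategoryTheory CategoryTheory.Limits AlgebraicGeometry TopologicalSpace Opposite
open Props

namespace Groth.Agent.S9822

/-- A scheme is irreducible if and only if it is nonempty and every nonempty affine open subset is
irreducible. -/
theorem result (X : Scheme.{u}) :
    IrreducibleSpace X ↔ Nonempty X ∧ ∀ U : X.Opens, IsAffineOpen U → (U : Set X).Nonempty → IsIrreducible (U : Set X) := by

  constructor
  · intro h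
    refine ⟨inferInstance, fun U _ hne => ⟨hne, ?_⟩⟩
    exact (IrreducibleSpace.isIrreducible_univ X).isPreirreducible.open_subset U.2 (Set.subset_univ _)
  · rintro ⟨hne, h⟩
    haveI : Nonempty X := hne
    suffices hpre : PreirreducibleSpace X from { toPreirreducibleSpace := hpre, toNonempty := hne }
    constructor
    rintro U V hU hV ⟨x, -, hx⟩ ⟨y, -, hy⟩
    obtain ⟨_, ⟨A : X.Opens, hA, rfl⟩, hxA, hAU⟩ :=
      X.isBasis_affineOpens.exists_subset_of_mem_open hx hU
    obtain ⟨_, ⟨B : X.Opens, hB, rfl⟩, hyB, hBV⟩ :=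
      X.isBasis_affineOpens.exists_subset_of_mem_open hy hV
    by_cases hAB : ((A : Set X) ∩ (B : Set X)).Nonempty
    · obtain ⟨z, hzA, hzB⟩ := hAB
      exact ⟨z, Set.mem_univ _, hAU hzA, hBV hzB⟩
    · exfalso
      have hdis : Disjoint A B := by
        rw [← TopologicalSpace.Opens.coe_disjoint, Set.disjoint_iff_inter_eq_empty]
        exact Set.not_nonempty_iff_eq_empty.1 hAB
      have haff : IsAffineOpen (A ⊔ B) := hA.sup_of_disjoint hB hdis
      have hirr := h (A ⊔ B) haff ⟨x, Or.inl hxA⟩
      obtain ⟨z, -, hzA, hzB⟩ := hirr.isPreirreducible A B A.2 B.2 ⟨x, Or.inl hxA, hxA⟩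
        ⟨y, Or.inr hyB, hyB⟩
      exact hAB ⟨z, hzA, hzB⟩

end Groth.Agent.S9822
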