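import Groth.Statements.S9830
import Mathlib
import Groth.Agent.Lib.helper5.ZeroDim2

set_option autoImplicit false
universe u
open CategoryTheory AlgebraicGeometry TopologicalSpace
open Props

namespace Groth.Agent.S9830

/-- A scheme whose underlying space is Hausdorff is separated. (The published statement assumes X of
dimension zero; a Hausdorff scheme always has dimension at most zero, so this row omits that
hypothesis.) -/
theorem result (X : Scheme.{u}) [T2Space X] : X.IsSeparated := by

  haveI : QuasiSeparatedSpace X := ⟨fun U V hU hUc hV hVc => hUc.inter_right hVc.isClosed⟩
  exact Groth.Agent.Lib.helper5.h5_isSeparated_of_t1 X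

end Groth.Agent.S9830
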