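import Groth.Statements.S9833
import Mathlib
import Groth.Agent.Lib.helper5.Japanese4

set_option autoImplicit false
universe u
open CategoryTheory AlgebraicGeometry TopologicalSpace
open Props

namespace Groth.Agent.S9833

/-- If a scheme has an affine open covering by spectra of Nagata rings, then the coordinate ring of
every affine open is Nagata. -/
theorem result (X : Scheme.{u}) {ι : Type u} (U : ι → X.Opens)
    (hU : iSup U = ⊤) (haff : ∀ i, IsAffineOpen (U i)) (hN : ∀ i, CAlg.IsNagata Γ(X, U i))
    (V : X.Opens) (hV : IsAffineOpen V) : CAlg.IsNagata Γ(X, V) := by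
  refine CAlg.h5_affine_cover_induction (fun R _ => CAlg.IsNagata R) ?_ ?_ X U hU haff hN V hV
  · intro R S _ _ _ f _ h
    exact CAlg.h5_isNagata_of_isLocalization R (Submonoid.powers f) S h
  · intro R _ s hs Rf _ _ _ h
    refine CAlg.h5_isNagata_of_cover' R (fun i : s => (i : R)) ?_ Rf h
    rw [Subtype.range_coe_subtype]
    exact hs

end Groth.Agent.S9833
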