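import Groth.Statements.S9835
import Mathlib
import Groth.Agent.Lib.helper5.Japanese4

set_option autoImplicit false
universe u
open CategoryTheory AlgebraicGeometry TopologicalSpace
open Props

namespace Groth.Agent.S9835

/-- If an integral scheme has an affine open covering by spectra of Japanese (N-2) domains, then the
coordinate ring of every nonempty affine open is a Japanese domain. -/
theorem result (X : Scheme.{u}) [IsIntegral X] {ι : Type u}
    (U : ι → X.Opens) [∀ i, Nonempty (U i)] (hU : iSup U = ⊤) (haff : ∀ i, IsAffineOpen (U i))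
    (hJ : ∀ i, CAlg.IsN2 Γ(X, U i)) (V : X.Opens) [Nonempty V] (hV : IsAffineOpen V) :
    CAlg.IsN2 Γ(X, V) := by
  have main : ∀ W : X.affineOpens, ∀ (hne : Nonempty W.1),
      @CAlg.IsN2 Γ(X, W.1) _ (IsIntegral.component_integral W.1) := by
    intro W
    refine of_affine_open_cover (P := fun W => ∀ (hne : Nonempty W.1),
      @CAlg.IsN2 Γ(X, W.1) _ (IsIntegral.component_integral W.1)) (fun i => ⟨U i, haff i⟩)
      (by simpa using hU) W ?_ ?_ (fun i hne => hJ i)
    · intro W f hW hne
      have hneW : Nonempty W.1 := by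
        obtain ⟨x, hx⟩ := hne
        exact ⟨⟨x, X.basicOpen_le f hx⟩⟩
      haveI := W.2.isLocalization_basicOpen f
      haveI : IsDomain Γ(X, W.1) := IsIntegral.component_integral W.1
      haveI : IsDomain Γ(X, X.basicOpen f) := @IsIntegral.component_integral _ _ _ hne
      exact CAlg.h5_isN2_of_isLocalization Γ(X, W.1) (Submonoid.powers f) Γ(X, X.basicOpen f)
        (hW hneW)
    · intro W s hs hW hne
      classical
      haveI : IsDomain Γ(X, W.1) := IsIntegral.component_integral W.1
      let ι' := {i : s // (i : Γ(X, W.1)) ≠ 0}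
      have hne' : ∀ i : ι', Nonempty (X.basicOpen i.1.1) := fun i => by
        have h1 : X.basicOpen i.1.1 ≠ ⊥ := fun h => i.2 ((basicOpen_eq_bot_iff _).mp h)
        exact Set.nonempty_coe_sort.mpr ((TopologicalSpace.Opens.ne_bot_iff_nonempty _).mp h1)
      haveI : ∀ i : ι', IsDomain Γ(X, X.basicOpen i.1.1) := fun i =>
        @IsIntegral.component_integral _ _ _ (hne' i)
      haveI : ∀ i : ι', IsLocalization.Away (i.1 : Γ(X, W.1)) Γ(X, X.basicOpen i.1.1) :=
        fun i => W.2.isLocalization_basicOpen i.1.1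
      refine CAlg.h5_isN2_of_cover Γ(X, W.1) (fun i : ι' => (i.1 : Γ(X, W.1))) ?_
        (fun i => Γ(X, X.basicOpen i.1.1)) (fun i => hW i.1 (hne' i))
      rw [eq_top_iff, ← hs]
      refine Ideal.span_le.2 ?_
      intro x hx
      by_cases hx0 : x = 0
      · rw [hx0]
        exact Ideal.zero_mem _
      · exact Ideal.subset_span ⟨⟨⟨x, hx⟩, hx0⟩, rfl⟩
  exact main ⟨V, hV⟩ inferInstance

end Groth.Agent.S9835
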