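import Groth.Statements.S9839
import Mathlib
import Groth.Agent.Lib.helper5.SchFpqc

set_option autoImplicit false
open CategoryTheory CategoryTheory.Limits AlgebraicGeometry Opposite
universe u
open Desc

namespace Groth.Agent.S9839

/-- Let f i : T i ⟶ T be an fpqc covering family of a scheme T (a family in the fpqc precoverage) and W
i ⊆ T i open subsets such that for all i, j the inverse images of W i and W j under the two
projections of T i ×_T T j coincide. Then there is a unique open subset W ⊆ T with (f i)⁻¹(W) = W i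
for every i. -/
theorem result {ι : Type u} {T : Scheme.{u}} {Ti : ι → Scheme.{u}}
    (f : ∀ i, Ti i ⟶ T) (hf : Presieve.ofArrows Ti f ∈ Scheme.fpqcPrecoverage T)
    (W : ∀ i, (Ti i).Opens)
    (hW : ∀ i j, (pullback.fst (f i) (f j)) ⁻¹ᵁ (W i) = (pullback.snd (f i) (f j)) ⁻¹ᵁ (W j)) :
    ∃! V : T.Opens, ∀ i, (f i) ⁻¹ᵁ V = W i := by

  obtain ⟨hsurj, hflat, hqc⟩ := Groth.Agent.Lib.helper5.h5_fpqc_unpack f hf
  let B : Set T := ⋃ i, (f i) '' (W i : Set (Ti i))
  have hpre : ∀ i, (f i) ⁻¹' B = (W i : Set (Ti i)) := by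
    intro i
    ext x
    constructor
    · intro hx
      obtain ⟨j, w, hw, hwx⟩ := Set.mem_iUnion.1 hx
      obtain ⟨z, hz1, hz2⟩ := Scheme.Pullback.exists_preimage_pullback x w hwx.symm
      have h1 : z ∈ (pullback.snd (f i) (f j)) ⁻¹ᵁ (W j) := by
        show (pullback.snd (f i) (f j)) z ∈ W j
        rw [hz2]; exact hw
      rw [← hW i j] at h1
      have h2 : (pullback.fst (f i) (f j)) z ∈ W i := h1
      rw [hz1] at h2
      exact h2
    · intro hx
      exact Set.mem_iUnion.2 ⟨i, x, hx, rfl⟩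
  have hBopen : IsOpen B := by
    apply Groth.Agent.Lib.helper5.h5_isOpen_of_mem_fpqcPrecoverage f hf
    intro i
    rw [hpre]
    exact (W i).2
  refine ⟨⟨B, hBopen⟩, ?_, ?_⟩
  · intro i
    ext x
    show x ∈ (f i) ⁻¹' B ↔ x ∈ (W i : Set (Ti i))
    rw [hpre]
  · intro V' hV'
    ext y
    obtain ⟨i, x, rfl⟩ := hsurj y
    have h1 : (f i) x ∈ V' ↔ x ∈ (f i) ⁻¹ᵁ V' := Iff.rfl
    have h2 : (f i) x ∈ B ↔ x ∈ (f i) ⁻¹' B := Iff.rfl
    show (f i) x ∈ V' ↔ (f i) x ∈ B
    rw [h1, h2, hV' i, hpre]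
    rfl

end Groth.Agent.S9839
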