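import Groth.Statements.S9841
import Mathlib
import Groth.Agent.Lib.helper5.SmoothReduced

set_option autoImplicit false
open CategoryTheory CategoryTheory.Limits AlgebraicGeometry Opposite
universe u
open Desc

namespace Groth.Agent.S9841

/-- Being reduced is local in the smooth topology: for a jointly surjective family of smooth morphisms f
i : X i ⟶ S, the scheme S is reduced if and only if every X i is reduced. -/
theorem result {ι : Type u} {S : Scheme.{u}} {X : ι → Scheme.{u}} (f : ∀ i, X i ⟶ S)
    (hf : Presieve.ofArrows X f ∈ Scheme.precoverage @Smooth S) :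
    IsReduced S ↔ ∀ i, IsReduced (X i) := by

  rw [Scheme.ofArrows_mem_precoverage_iff] at hf
  obtain ⟨hsurj, hsm⟩ := hf
  constructor
  · intro hS i
    haveI : Smooth (f i) := hsm i
    have hst : ∀ x : X i, _root_.IsReduced ((X i).presheaf.stalk x) := by
      intro x
      obtain ⟨_, ⟨U, hU, rfl⟩, hxU, -⟩ :=
        S.isBasis_affineOpens.exists_subset_of_mem_open (Set.mem_univ (f i x)) isOpen_univ
      obtain ⟨_, ⟨V, hV, rfl⟩, hxV, hVU⟩ :=
        (X i).isBasis_affineOpens.exists_subset_of_mem_open hxU (U.2.preimage (f i).continuous)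
      have hsmooth := (f i).smooth_appLE hU hV hVU
      algebraize [((f i).appLE U V hVU).hom]
      haveI : Algebra.Smooth Γ(S, U) Γ(X i, V) := hsmooth
      haveI hred : _root_.IsReduced Γ(X i, V) :=
        Groth.Agent.Lib.helper5.h5_isReduced_of_smooth Γ(S, U) Γ(X i, V)
      letI : Algebra Γ(X i, V) ((X i).presheaf.stalk x) :=
        TopCat.Presheaf.algebra_section_stalk (X i).presheaf ⟨x, hxV⟩
      haveI := hV.isLocalization_stalk ⟨x, hxV⟩
      exact isReduced_localizationPreserves (hV.primeIdealOf ⟨x, hxV⟩).asIdeal.primeCompl _ hred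
    exact isReduced_of_isReduced_stalk (X i)
  · intro hX
    have hst : ∀ y : S, _root_.IsReduced (S.presheaf.stalk y) := by
      intro y
      obtain ⟨i, x, rfl⟩ := hsurj y
      haveI : Smooth (f i) := hsm i
      haveI := hX i
      have hinj : Function.Injective ((f i).stalkMap x).hom := by
        algebraize [((f i).stalkMap x).hom]
        have : Module.FaithfullyFlat (S.presheaf.stalk (f i x)) ((X i).presheaf.stalk x) :=
          @Module.FaithfullyFlat.of_flat_of_isLocalHom _ _ _ _ _ _ _
            (Flat.stalkMap (f i) x) ((f i).toLRSHom.prop x)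
        exact (FaithfulSMul.algebraMap_injective _ _)
      exact isReduced_of_injective _ hinj
    exact isReduced_of_isReduced_stalk S

end Groth.Agent.S9841
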