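import Groth.Statements.S9842
import Mathlib

set_option autoImplicit false
open CategoryTheory CategoryTheory.Limits AlgebraicGeometry Opposite
universe u
open Desc

namespace Groth.Agent.S9842

/-- Let E/k be a field extension, Y a scheme over k and f : X ⟶ Y a morphism. Writing Y_E = Y ×_k Spec
E, the morphism f is dominant if and only if its base change X ×_Y Y_E ⟶ Y_E is dominant. -/
theorem result {k E : Type u} [Field k] [Field E] [Algebra k E]
    {X Y : Scheme.{u}} (f : X ⟶ Y) (q : Y ⟶ Spec (.of k)) :
    IsDominant f ↔
      IsDominant (pullback.snd f (pullback.fst q (Spec.map (CommRingCat.ofHom (algebraMap k E))))) := by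

  set g := pullback.fst q (Spec.map (CommRingCat.ofHom (algebraMap k E))) with hg
  haveI hsE : Surjective (Spec.map (CommRingCat.ofHom (algebraMap k E))) := by
    constructor
    intro y
    haveI : Nonempty (Spec (CommRingCat.of E)) := inferInstance
    obtain ⟨x⟩ := ‹Nonempty (Spec (CommRingCat.of E))›
    exact ⟨x, Subsingleton.elim _ _⟩
  haveI : UniversallyOpen (Spec.map (CommRingCat.ofHom (algebraMap k E))) := inferInstance
  haveI : Surjective g := by rw [hg]; infer_instance
  haveI : UniversallyOpen g := by rw [hg]; infer_instance
  have hopen : IsOpenMap g := g.isOpenMap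
  constructor
  · intro hf
    rw [isDominant_iff, DenseRange, Scheme.Pullback.range_snd]
    exact (hf.denseRange).preimage hopen
  · intro h
    rw [isDominant_iff, DenseRange, Dense]
    intro y
    obtain ⟨z, rfl⟩ := g.surjective y
    have hz : z ∈ closure (Set.range (pullback.snd f g)) := h.denseRange z
    rw [Scheme.Pullback.range_snd] at hz
    exact g.continuous.closure_preimage_subset _ hz

end Groth.Agent.S9842
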