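import Groth.Statements.S9843
import Mathlib

set_option autoImplicit false
open CategoryTheory CategoryTheory.Limits AlgebraicGeometry Opposite
universe u
open Desc

namespace Groth.Agent.S9843

/-- Being dominant is fppf local on the base: for every fppf covering family Y i ⟶ Y (flat, locally of
finite presentation, jointly surjective), a morphism X ⟶ Y is dominant if and only if all its base
changes X ×_Y Y i ⟶ Y i are. -/
theorem result :
    MorphismProperty.IsLocalAtTarget (@IsDominant : MorphismProperty Scheme.{u}) Scheme.fppfPrecoverage := by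
  refine MorphismProperty.IsLocalAtTarget.mk_of_iff_of_zeroHypercover ?_
  intro X Y f 𝒰
  have hmem : Presieve.ofArrows 𝒰.X 𝒰.f ∈ Scheme.precoverage (@Flat ⊓ @LocallyOfFinitePresentation) Y := 𝒰.mem₀
  rw [Scheme.ofArrows_mem_precoverage_iff] at hmem
  obtain ⟨hsurj, hP⟩ := hmem
  constructor
  · intro hf i
    haveI : Flat (𝒰.f i) := (hP i).1
    haveI : LocallyOfFinitePresentation (𝒰.f i) := (hP i).2
    rw [isDominant_iff, DenseRange, Scheme.Pullback.range_snd]
    exact (hf.denseRange).preimage (𝒰.f i).isOpenMap
  · intro h
    rw [isDominant_iff, DenseRange, Dense]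
    intro y
    obtain ⟨i, z, rfl⟩ := hsurj y
    have hz : z ∈ closure (Set.range (pullback.snd f (𝒰.f i))) := (h i).denseRange z
    rw [Scheme.Pullback.range_snd] at hz
    exact (𝒰.f i).continuous.closure_preimage_subset _ hz

end Groth.Agent.S9843
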