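import Groth.Statements.S9845
import Mathlib

set_option autoImplicit false
universe u
open CategoryTheory CategoryTheory.Limits AlgebraicGeometry Opposite

namespace Groth.Agent.S9845

theorem result :
    MorphismProperty.IsLocalAtSource (topologically (fun f => IsOpenMap f) : MorphismProperty Scheme.{u})
      Scheme.fppfPrecoverage := by
  have : (topologically (fun f => IsOpenMap f) : MorphismProperty Scheme.{u}).RespectsIso := by
    apply topologically_respectsIso
    · intro α β _ _ e; exact e.isOpenMap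
    · intro α β γ _ _ _ f g hf hg; exact hg.comp hf
  refine MorphismProperty.IsLocalAtSource.mk_of_iff_of_zeroHypercover ?_
  intro X Y f 𝒰
  have hmem : Presieve.ofArrows 𝒰.X 𝒰.f ∈ Scheme.precoverage (@Flat ⊓ @LocallyOfFinitePresentation) X := 𝒰.mem₀
  rw [Scheme.ofArrows_mem_precoverage_iff] at hmem
  obtain ⟨hsurj, hP⟩ := hmem
  constructor
  · intro hf i
    haveI : Flat (𝒰.f i) := (hP i).1
    haveI : LocallyOfFinitePresentation (𝒰.f i) := (hP i).2
    show IsOpenMap (𝒰.f i ≫ f).base
    have h1 : IsOpenMap (𝒰.f i).base := (𝒰.f i).isOpenMap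
    have : (𝒰.f i ≫ f).base = (𝒰.f i).base ≫ f.base := rfl
    rw [this]
    exact (show IsOpenMap f.base from hf).comp h1
  · intro h
    show IsOpenMap f.base
    intro U hU
    have : f.base '' U = ⋃ i, (𝒰.f i ≫ f).base '' ((𝒰.f i).base ⁻¹' U) := by
      ext y
      simp only [Set.mem_image, Set.mem_iUnion, Set.mem_preimage]
      constructor
      · rintro ⟨x, hxU, rfl⟩
        obtain ⟨i, z, rfl⟩ := hsurj x
        exact ⟨i, z, hxU, rfl⟩
      · rintro ⟨i, z, hz, rfl⟩
        exact ⟨(𝒰.f i).base z, hz, rfl⟩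
    rw [this]
    exact isOpen_iUnion fun i => (show IsOpenMap (𝒰.f i ≫ f).base from h i) _
      (hU.preimage (𝒰.f i).continuous)

end Groth.Agent.S9845
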