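import Groth.Statements.S9846
import Groth.Agent.S9845
import Groth.Agent.Lib.helper5.LocalSource
import Mathlib

set_option autoImplicit false
universe u
open CategoryTheory CategoryTheory.Limits AlgebraicGeometry Opposite

namespace Groth.Agent.S9846

theorem result :
    MorphismProperty.IsLocalAtSource (@UniversallyOpen : MorphismProperty Scheme.{u}) Scheme.fppfPrecoverage := by
  have h1 := Groth.Agent.S9845.result.{u}
  have h2 : (topologically (fun f => IsOpenMap f) : MorphismProperty Scheme.{u}) =
      topologically @IsOpenMap := rfl
  rw [UniversallyOpen.eq]
  rw [h2] at h1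
  exact Groth.Agent.Lib.helper5.h5_universally_isLocalAtSource _ _

end Groth.Agent.S9846
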