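import Groth.Statements.S9859
import Mathlib

set_option autoImplicit false
open CategoryTheory CategoryTheory.Limits AlgebraicGeometry Opposite
universe u
open Desc

namespace Groth.Agent.S9859


theorem L1 (P : MorphismProperty Scheme.{u})
    [MorphismProperty.IsLocalAtTarget P Scheme.fppfPrecoverage] {A B B' A' : Scheme.{u}}
    (p : A ⟶ B) (q : B' ⟶ B) (fst : A' ⟶ A) (snd : A' ⟶ B')
    (hq1 : Flat q) (hq2 : LocallyOfFinitePresentation q) (h : IsPullback fst snd p q) (hp : P p) :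
    P snd := by
  let Xs : Bool → Scheme.{u} := fun b => Bool.rec B B' b
  let fs : ∀ b, Xs b ⟶ B := fun b => Bool.rec (motive := fun b => Xs b ⟶ B) (𝟙 B) q b
  have hR : Presieve.ofArrows Xs fs ∈ Scheme.fppfPrecoverage B := by
    show Presieve.ofArrows Xs fs ∈ Scheme.precoverage (@Flat ⊓ @LocallyOfFinitePresentation) B
    rw [Scheme.ofArrows_mem_precoverage_iff]
    refine ⟨fun x => ⟨false, x, rfl⟩, ?_⟩
    rintro (_ | _)
    · exact ⟨(inferInstance : Flat (𝟙 B)), (inferInstance : LocallyOfFinitePresentation (𝟙 B))⟩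
    · exact ⟨hq1, hq2⟩
  have : HasPullback p q := h.hasPullback
  have h1 : P (pullback.snd p q) :=
    MorphismProperty.IsLocalAtTarget.pullbackSnd (P := P) hR (Presieve.ofArrows.mk true) hp
  rw [← P.cancel_left_of_respectsIso h.isoPullback.hom, h.isoPullback_hom_snd] at h1
  exact h1

theorem L2 (P : MorphismProperty Scheme.{u})
    [MorphismProperty.IsLocalAtTarget P Scheme.fppfPrecoverage] {A B B' A' : Scheme.{u}}
    (p : A ⟶ B) (q : B' ⟶ B) (fst : A' ⟶ A) (snd : A' ⟶ B')
    (hq1 : Flat q) (hq2 : LocallyOfFinitePresentation q) (hq3 : Surjective q)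
    (h : IsPullback fst snd p q) (hp : P snd) : P p := by
  have hR : Presieve.singleton q ∈ Scheme.fppfPrecoverage B := q.singleton_mem_fppfPrecoverage
  refine MorphismProperty.IsLocalAtTarget.of_forall_pullbackSnd (P := P) hR ?_
  rintro U g' _ ⟨⟩
  rw [← P.cancel_left_of_respectsIso h.isoPullback.hom, h.isoPullback_hom_snd]
  exact hp

theorem L3 {X Y Y' X' : Scheme.{u}} (f : X ⟶ Y) (g : Y' ⟶ Y) (fst : X' ⟶ X) (snd : X' ⟶ Y')
    (h : IsPullback fst snd f g) (W₀ : Y.Opens) (g' : Y' ⟶ W₀.toScheme) (hg' : g' ≫ W₀.ι = g) :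
    ∃ l : X' ⟶ (f ⁻¹ᵁ W₀).toScheme, IsPullback l snd (f ∣_ W₀) g' := by
  subst hg'
  exact ⟨_, IsPullback.of_right' h (isPullback_morphismRestrict f W₀).flip⟩

/-- Case τ = fppf: let P be a property of morphisms of schemes which is fppf local on the base and f : X
⟶ Y a morphism. There is a largest open W of Y such that the restriction of f over W has P;
moreover, first, if g : Y' ⟶ Y is flat and locally of finite presentation and the base change of f
to Y' has P, then the image of g lies in W; and second, for such g the largest open of Y' over which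
the base change of f has P is exactly g⁻¹(W). -/
theorem result (P : MorphismProperty Scheme.{u})
    [MorphismProperty.IsLocalAtTarget P Scheme.fppfPrecoverage] {X Y : Scheme.{u}} (f : X ⟶ Y) :
    ∃ W : Y.Opens, P (f ∣_ W) ∧ (∀ W₀ : Y.Opens, P (f ∣_ W₀) → W₀ ≤ W) ∧
      (∀ (Y' : Scheme.{u}) (g : Y' ⟶ Y), Flat g → LocallyOfFinitePresentation g →
        P (pullback.snd f g) → Set.range g.base ⊆ (W : Set Y)) ∧
      (∀ (Y' : Scheme.{u}) (g : Y' ⟶ Y), Flat g → LocallyOfFinitePresentation g →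
        ∀ W' : Y'.Opens, P (pullback.snd f g ∣_ W') → (∀ W₀ : Y'.Opens, P (pullback.snd f g ∣_ W₀) → W₀ ≤ W') →
          W' = g ⁻¹ᵁ W) := by

  haveI hZ : IsZariskiLocalAtTarget P :=
    MorphismProperty.IsLocalAtTarget.of_le Scheme.zariskiPrecoverage_le_fppfPrecoverage
  let W : Y.Opens := ⨆ (W₀ : {W₀ : Y.Opens // P (f ∣_ W₀)}), W₀.1
  have hWle : ∀ W₀ : Y.Opens, P (f ∣_ W₀) → W₀ ≤ W := fun W₀ h =>
    le_iSup (fun W₀ : {W₀ : Y.Opens // P (f ∣_ W₀)} => W₀.1) ⟨W₀, h⟩
  have hPW : P (f ∣_ W) := by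
    let Us : {W₀ : Y.Opens // P (f ∣_ W₀)} → Scheme.{u} := fun W₀ => W₀.1.toScheme
    let js : ∀ W₀, Us W₀ ⟶ W.toScheme := fun W₀ => Y.homOfLE (hWle W₀.1 W₀.2)
    have hR : Presieve.ofArrows Us js ∈ Scheme.zariskiPrecoverage W.toScheme := by
      show Presieve.ofArrows Us js ∈ Scheme.precoverage @IsOpenImmersion W.toScheme
      rw [Scheme.ofArrows_mem_precoverage_iff]
      refine ⟨?_, fun i => inferInstance⟩
      intro x
      have hx : x.1 ∈ W := x.2
      obtain ⟨W₀, hxW₀⟩ := TopologicalSpace.Opens.mem_iSup.1 hx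
      refine ⟨W₀, ⟨x.1, hxW₀⟩, ?_⟩
      apply W.ι.injective
      rw [← Scheme.Hom.comp_apply, Scheme.homOfLE_ι]
      rfl
    refine MorphismProperty.IsLocalAtTarget.of_forall_pullbackSnd (P := P) hR ?_
    rintro U g' _ ⟨W₀⟩
    obtain ⟨l, sq⟩ := L3 f W₀.1.ι (f ⁻¹ᵁ W₀.1).ι (f ∣_ W₀.1)
      (isPullback_morphismRestrict f W₀.1).flip W (js W₀) (Scheme.homOfLE_ι _ _)
    rw [← P.cancel_left_of_respectsIso sq.isoPullback.hom, sq.isoPullback_hom_snd]
    exact W₀.2
  -- general form of the third claim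
  have key3 : ∀ {Y' X' : Scheme.{u}} (g : Y' ⟶ Y) (fst : X' ⟶ X) (snd : X' ⟶ Y'),
      Flat g → LocallyOfFinitePresentation g → IsPullback fst snd f g → P snd →
      Set.range g.base ⊆ (W : Set Y) := by
    intro Y' X' g fst snd hg1 hg2 hsq hsnd
    let W₀ : Y.Opens := ⟨Set.range g, g.isOpenMap.isOpen_range⟩
    have hrange : Set.range g ⊆ Set.range W₀.ι := by
      rw [Scheme.Opens.range_ι]; exact subset_rfl
    let g' : Y' ⟶ W₀.toScheme := IsOpenImmersion.lift W₀.ι g hrange
    have hg' : g' ≫ W₀.ι = g := IsOpenImmersion.lift_fac _ _ _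
    have hg'1 : Flat g' := by
      have : Flat (g' ≫ W₀.ι) := by rw [hg']; exact hg1
      exact MorphismProperty.of_postcomp (W := @Flat) (W' := @IsOpenImmersion) g' W₀.ι
        inferInstance this
    have hg'2 : LocallyOfFinitePresentation g' := by
      have : LocallyOfFinitePresentation (g' ≫ W₀.ι) := by rw [hg']; exact hg2
      exact MorphismProperty.of_postcomp (W := @LocallyOfFinitePresentation)
        (W' := @IsOpenImmersion) g' W₀.ι inferInstance this
    have hg'3 : Surjective g' := by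
      constructor
      intro z
      obtain ⟨y', hy'⟩ : z.1 ∈ Set.range g := z.2
      refine ⟨y', ?_⟩
      apply W₀.ι.injective
      rw [← Scheme.Hom.comp_apply, hg']
      exact hy'
    obtain ⟨l, sq⟩ := L3 f g fst snd hsq W₀ g' hg'
    have hP0 : P (f ∣_ W₀) := L2 P _ g' l snd hg'1 hg'2 hg'3 sq hsnd
    exact hWle W₀ hP0
  refine ⟨W, hPW, hWle, ?_, ?_⟩
  · intro Y' g hg1 hg2 hP
    exact key3 g (pullback.fst f g) (pullback.snd f g) hg1 hg2 (IsPullback.of_hasPullback f g) hP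
  · intro Y' g hg1 hg2 W' hW' hmax
    apply le_antisymm
    · -- W' ≤ g⁻¹ W
      have big : IsPullback ((pullback.snd f g ⁻¹ᵁ W').ι ≫ pullback.fst f g)
          (pullback.snd f g ∣_ W') f (W'.ι ≫ g) :=
        (isPullback_morphismRestrict (pullback.snd f g) W').flip.paste_horiz
          (IsPullback.of_hasPullback f g)
      have hfl : Flat (W'.ι ≫ g) := by haveI := hg1; infer_instance
      have hlfp : LocallyOfFinitePresentation (W'.ι ≫ g) := by haveI := hg2; infer_instance
      have h3 := key3 (W'.ι ≫ g) _ _ hfl hlfp big hW'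
      intro y hy
      show g y ∈ W
      apply h3
      exact ⟨⟨y, hy⟩, rfl⟩
    · -- g⁻¹ W ≤ W'
      apply hmax
      have big : IsPullback ((pullback.snd f g ⁻¹ᵁ (g ⁻¹ᵁ W)).ι ≫ pullback.fst f g)
          (pullback.snd f g ∣_ (g ⁻¹ᵁ W)) f ((g ⁻¹ᵁ W).ι ≫ g) :=
        (isPullback_morphismRestrict (pullback.snd f g) (g ⁻¹ᵁ W)).flip.paste_horiz
          (IsPullback.of_hasPullback f g)
      have hgW : (g ∣_ W) ≫ W.ι = (g ⁻¹ᵁ W).ι ≫ g := (isPullback_morphismRestrict g W).w
      obtain ⟨l, sq⟩ := L3 f ((g ⁻¹ᵁ W).ι ≫ g) _ _ big W (g ∣_ W) hgW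
      have hfl : Flat (g ∣_ W) := by haveI := hg1; infer_instance
      have hlfp : LocallyOfFinitePresentation (g ∣_ W) := by haveI := hg2; infer_instance
      exact L1 P _ (g ∣_ W) l _ hfl hlfp sq hPW

end Groth.Agent.S9859
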