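import Groth.Statements.S9867
import Mathlib
import Groth.Agent.Lib.helper1.AffineDescent2
import Groth.Agent.Lib.helper5.SchFlatSrc

set_option autoImplicit false
open CategoryTheory CategoryTheory.Limits AlgebraicGeometry Opposite
universe u
open Desc

namespace Groth.Agent.S9867

/-- Being finite locally free (finite, flat and locally of finite presentation), and being finite
locally free of a given degree d, are fpqc local on the base; the descent directions, stated as
descent along surjective flat quasi-compact morphisms: if the base change of f along such a morphism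
is finite locally free then so is f, and if moreover that base change has constant rank d (Mathlib's
rank function of a finite flat morphism) then f has constant rank d. (With Zariski-locality on the
target these give the statements for arbitrary fpqc coverings; stability under base change is the
other direction.) -/
theorem result :
    MorphismProperty.DescendsAlong (fun _ _ f => Mor2.IsFinLocFree f : MorphismProperty Scheme.{u})
      (@Surjective ⊓ @Flat ⊓ @QuasiCompact : MorphismProperty Scheme.{u}) ∧
    ∀ d : ℕ, MorphismProperty.DescendsAlong (fun _ _ f => Mor2.IsFinLocFreeOfDeg d f : MorphismProperty Scheme.{u})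
      (@Surjective ⊓ @Flat ⊓ @QuasiCompact : MorphismProperty Scheme.{u}) := by
  have key : ∀ {A X Y Z : Scheme.{u}} {fst : A ⟶ X} {snd : A ⟶ Y} {f : X ⟶ Z} {g : Y ⟶ Z},
      IsPullback fst snd f g →
      (@Surjective ⊓ @Flat ⊓ @QuasiCompact : MorphismProperty Scheme.{u}) f →
      Mor2.IsFinLocFree fst → Mor2.IsFinLocFree g := by
    intro A X Y Z fst snd f g h hf hfst
    obtain ⟨hfin, hflat, hfp⟩ := hfst
    have hsurj : Surjective f := hf.1.1
    have hfl : Flat f := hf.1.2
    refine ⟨?_, ?_, ?_⟩
    · haveI := Helper1.descendsAlong_isFinite.{u}
      exact MorphismProperty.of_isPullback_of_descendsAlong (P := @IsFinite)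
        (Q := (@Surjective ⊓ @Flat ⊓ @QuasiCompact : MorphismProperty Scheme.{u})) h hf hfin
    · haveI : Flat snd := MorphismProperty.of_isPullback (P := @Flat) h hfl
      haveI : Surjective snd := MorphismProperty.of_isPullback (P := @Surjective) h hsurj
      haveI : Flat (snd ≫ g) := by
        rw [← h.w]
        infer_instance
      exact Groth.Agent.Lib.helper5.h5_flat_of_flat_surjective_comp snd g
    · exact MorphismProperty.of_isPullback_of_descendsAlong (P := @LocallyOfFinitePresentation)
        (Q := (@Surjective ⊓ @Flat ⊓ @QuasiCompact : MorphismProperty Scheme.{u})) h hf hfp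
  refine ⟨⟨fun h hf hfst => key h hf hfst⟩, fun d => ⟨fun {A X Y Z fst snd f g} h hf hfst => ?_⟩⟩
  obtain ⟨hlf, hdeg⟩ := hfst
  have hg := key h hf hlf
  refine ⟨hg, fun z => ?_⟩
  have hsurj : Surjective f := hf.1.1
  obtain ⟨x, rfl⟩ := f.surjective z
  haveI : IsFinite g := hg.1
  haveI : Flat g := hg.2.1
  rw [← Scheme.Hom.finrank_of_isPullback snd fst g f h.flip x]
  exact hdeg x

end Groth.Agent.S9867
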