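import Groth.Statements.S9871
import Mathlib
import Groth.Agent.Lib.helper5.AlgSpDiag

set_option autoImplicit false
universe u
open CategoryTheory CategoryTheory.Limits AlgebraicGeometry
open AlgSp

namespace Groth.Agent.S9871

/-- Let `s, t : R ⟶ U` be an etale equivalence relation on a scheme `U` over `S` and let `g : U' ⟶ U` be
an etale morphism over `S`. Let `s', t' : R' ⟶ U'` be the restriction to `U'`: `R'`, with `(t', s')`
and `R' ⟶ R`, is the fibre product of `U' ×_S U'` and `R` over `U ×_S U`. Then `s', t'` is again an
etale equivalence relation. -/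
theorem result (S : Scheme.{u}) {R U R' U' : Over S} (s t : R ⟶ U)
    (g : U' ⟶ U) (s' t' : R' ⟶ U') (r : R' ⟶ R)
    (hsq : IsPullback (prod.lift t' s') r (prod.map g g) (prod.lift t s))
    (h : AlgSp.IsEtaleEqvRel s t) [Etale g.left] :
    AlgSp.IsEtaleEqvRel s' t' := by
  have wt : t' ≫ g = r ≫ t := by
    have := congrArg (· ≫ prod.fst) hsq.w
    simp only [Category.assoc, prod.map_fst, prod.lift_fst] at this
    rw [← Category.assoc, prod.lift_fst] at this
    exact this
  have ws : s' ≫ g = r ≫ s := by
    have := congrArg (· ≫ prod.snd) hsq.w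
    simp only [Category.assoc, prod.map_snd, prod.lift_snd] at this
    rw [← Category.assoc, prod.lift_snd] at this
    exact this
  have hiff : ∀ (T : Over S) (a b : T ⟶ U'),
      (∃ r' : T ⟶ R', r' ≫ t' = a ∧ r' ≫ s' = b) ↔
        (∃ ρ : T ⟶ R, ρ ≫ t = a ≫ g ∧ ρ ≫ s = b ≫ g) := by
    intro T a b
    constructor
    · rintro ⟨r', rfl, rfl⟩
      exact ⟨r' ≫ r, by rw [Category.assoc, ← wt, Category.assoc],
        by rw [Category.assoc, ← ws, Category.assoc]⟩
    · rintro ⟨ρ, h1, h2⟩
      have hw : prod.lift a b ≫ prod.map g g = ρ ≫ prod.lift t s := by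
        apply prod.hom_ext
        · rw [Category.assoc, prod.map_fst, ← Category.assoc, prod.lift_fst, Category.assoc,
            prod.lift_fst, h1]
        · rw [Category.assoc, prod.map_snd, ← Category.assoc, prod.lift_snd, Category.assoc,
            prod.lift_snd, h2]
      refine ⟨hsq.lift (prod.lift a b) ρ hw, ?_, ?_⟩
      · have := congrArg (· ≫ prod.fst) (hsq.lift_fst (prod.lift a b) ρ hw)
        simpa only [Category.assoc, prod.lift_fst] using this
      · have := congrArg (· ≫ prod.snd) (hsq.lift_fst (prod.lift a b) ρ hw)
        simpa only [Category.assoc, prod.lift_snd] using this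
  have hg1 : Etale (prod.map g (𝟙 U')).left :=
    MorphismProperty.of_isPullback (P := @Etale)
      ((AlgSp.h5_isPullback_prod_map_fst g U').map (Over.forget S)) (inferInstance : Etale g.left)
  have hg2 : Etale (prod.map (𝟙 U) g).left :=
    MorphismProperty.of_isPullback (P := @Etale)
      ((AlgSp.h5_isPullback_prod_map_snd U g).map (Over.forget S)) (inferInstance : Etale g.left)
  have hgg : Etale (prod.map g g).left := by
    have e : prod.map g g = prod.map g (𝟙 U') ≫ prod.map (𝟙 U) g := by
      rw [prod.map_map, Category.comp_id, Category.id_comp]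
    rw [e, Over.comp_left]
    infer_instance
  have hr : Etale r.left :=
    MorphismProperty.of_isPullback (P := @Etale) (hsq.map (Over.forget S)) hgg
  haveI := h.etale_left
  haveI := h.etale_right
  refine ⟨⟨?_, ?_⟩, ?_, ?_⟩
  · intro T r1 r2 h1 h2
    have hr12 : r1 ≫ r = r2 ≫ r := by
      apply h.injective
      · rw [Category.assoc, Category.assoc, ← wt, ← Category.assoc, ← Category.assoc, h1]
      · rw [Category.assoc, Category.assoc, ← ws, ← Category.assoc, ← Category.assoc, h2]
    apply hsq.hom_ext
    · apply prod.hom_ext
      · rw [Category.assoc, Category.assoc, prod.lift_fst, h1]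
      · rw [Category.assoc, Category.assoc, prod.lift_snd, h2]
    · exact hr12
  · intro T
    have hE := h.equivalence T
    constructor
    · intro a
      rw [hiff]
      exact hE.refl (a ≫ g)
    · intro a b hab
      rw [hiff] at hab ⊢
      exact hE.symm hab
    · intro a b c hab hbc
      rw [hiff] at hab hbc ⊢
      exact hE.trans hab hbc
  · have : Etale (s'.left ≫ g.left) := by
      rw [← Over.comp_left, ws, Over.comp_left]
      infer_instance
    exact Etale.of_comp s'.left g.left
  · have : Etale (t'.left ≫ g.left) := by
      rw [← Over.comp_left, wt, Over.comp_left]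
      infer_instance
    exact Etale.of_comp t'.left g.left

end Groth.Agent.S9871
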