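import Groth.Statements.S9886
import Mathlib
import Groth.Agent.Lib.helper5.AlgSpGraph

set_option autoImplicit false
universe u
open CategoryTheory CategoryTheory.Limits AlgebraicGeometry
open AlgSp

namespace Groth.Agent.S9886

/-- Let `F` be an fppf sheaf of sets over `S` and `P` a property of morphisms of schemes stable under
base change. Assume that for all schemes `U`, `V` over `S` and all `a : h_U ⟶ F`, `b : h_V ⟶ F` the
fibre product `h_U ×_F h_V` is represented by some scheme `W` over `S` with its projections induced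
by morphisms `W ⟶ U`, `W ⟶ V`, and that for every such represented fibre product the morphism `W ⟶ U
×_S V` has `P`. Then the diagonal `F ⟶ F × F` is representable by schemes and has `P`. (The
published statement is for a presheaf of sets `F` and a property `P` that is also fppf local on the
base; this row takes `F` an fppf sheaf and `P` only stable under base change.) -/
theorem result (S : Scheme.{u}) (F : AlgSp.Sp S) (P : MorphismProperty Scheme.{u})
    [P.IsStableUnderBaseChange]
    (h₁ : ∀ ⦃U V : Over S⦄ (a : (AlgSp.yon S).obj U ⟶ F) (b : (AlgSp.yon S).obj V ⟶ F),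
      ∃ (W : Over S) (fst : W ⟶ U) (snd : W ⟶ V), IsPullback ((AlgSp.yon S).map fst) ((AlgSp.yon S).map snd) a b)
    (h₂ : ∀ ⦃U V W : Over S⦄ (a : (AlgSp.yon S).obj U ⟶ F) (b : (AlgSp.yon S).obj V ⟶ F) (fst : W ⟶ U)
      (snd : W ⟶ V), IsPullback ((AlgSp.yon S).map fst) ((AlgSp.yon S).map snd) a b → P (prod.lift fst snd).left) :
    AlgSp.RepWith P (Limits.diag F) := by
  apply MorphismProperty.relative.of_exists
  intro T g
  have hg : g = prod.lift (g ≫ prod.fst) (g ≫ prod.snd) := by
    apply prod.hom_ext
    · rw [prod.lift_fst]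
    · rw [prod.lift_snd]
  obtain ⟨W, p1, p2, sq⟩ := h₁ (g ≫ prod.fst) (g ≫ prod.snd)
  have hP : P (prod.lift p1 p2).left := h₂ _ _ p1 p2 sq
  have sqO := IsPullback.of_hasPullback (prod.lift p1 p2) (Limits.diag T)
  have sqM := IsPullback.map (AlgSp.yon S) sqO
  have sqM' := AlgSp.h5_isPullback_comp_mono (prodComparison (AlgSp.yon S) T T) sqM
  have e1 : (AlgSp.yon S).map (prod.lift p1 p2) ≫ prodComparison (AlgSp.yon S) T T =
      prod.lift ((AlgSp.yon S).map p1) ((AlgSp.yon S).map p2) := by
    apply prod.hom_ext
    · rw [Category.assoc, prodComparison_fst, ← Functor.map_comp, prod.lift_fst, prod.lift_fst]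
    · rw [Category.assoc, prodComparison_snd, ← Functor.map_comp, prod.lift_snd, prod.lift_snd]
  rw [e1, ← AlgSp.diag_yon_obj] at sqM'
  have key := AlgSp.h5_isPullback_magic_conv sq sqM'
  rw [← hg] at key
  refine ⟨_, _, _, key, ?_⟩
  have sqS := sqO.map (Over.forget S)
  exact P.of_isPullback sqS hP

end Groth.Agent.S9886
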