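import Groth.Statements.S9891
import Mathlib
import Groth.Agent.Lib.helper5.AlgSpGraph

set_option autoImplicit false
universe u
open CategoryTheory CategoryTheory.Limits AlgebraicGeometry
open AlgSp

namespace Groth.Agent.S9891

/-- Let `a : F ⟶ G` be a map of presheaves of sets on schemes over `S` which is representable by
schemes. Then the relative diagonal `F ⟶ F ×_G F` is representable by schemes. -/
theorem result (S : Scheme.{u}) (F G : AlgSp.PSp S) (a : F ⟶ G)
    (ha : (AlgSp.pyon S).relativelyRepresentable a) :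
    (AlgSp.pyon S).relativelyRepresentable (pullback.diagonal a) := by
  intro T t
  have sq := ha.isPullback (t ≫ pullback.fst a a ≫ a)
  obtain ⟨s1, hs1⟩ := (AlgSp.pyon S).map_surjective
    (sq.lift (t ≫ pullback.fst a a) (𝟙 _) (by simp))
  obtain ⟨s2, hs2⟩ := (AlgSp.pyon S).map_surjective
    (sq.lift (t ≫ pullback.snd a a) (𝟙 _) (by simp [pullback.condition]))
  have sqE := IsPullback.map (AlgSp.pyon S) (IsPullback.of_hasPullback s1 s2)
  have key := AlgSp.h5_isPullback_diagonal_sections t sq ((AlgSp.pyon S).map s1)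
    ((AlgSp.pyon S).map s2) (by rw [hs1, sq.lift_fst]) (by rw [hs1, sq.lift_snd])
    (by rw [hs2, sq.lift_fst]) (by rw [hs2, sq.lift_snd]) sqE
  exact ⟨_, pullback.fst s1 s2, _, key⟩

end Groth.Agent.S9891
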