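import Groth.Statements.S9905
import Mathlib
import Groth.Agent.Lib.helper5.AlgSpDiag

set_option autoImplicit false
universe u
open CategoryTheory CategoryTheory.Limits AlgebraicGeometry
open AlgSp

namespace Groth.Agent.S9905

/-- For a morphism of algebraic spaces representable by schemes, separated in the diagonal sense agrees
with separated in the representable sense, and likewise for quasi-separated. -/
theorem result {S : Scheme.{u}} {X Y : AlgSp.Space S} (f : X ⟶ Y)
    (hf : AlgSp.Representable f.hom) :
    (AlgSp.IsSeparatedMor f.hom ↔ AlgSp.RepWith @IsSeparated f.hom) ∧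
    (AlgSp.IsQuasiSeparatedMor f.hom ↔ AlgSp.RepWith @QuasiSeparated f.hom) := by
  have hd := AlgSp.h5_diagonal_props X.property f.hom
  have key : ∀ (P0 : MorphismProperty Scheme.{u}) [P0.IsStableUnderBaseChange],
      (AlgSp.RepWith P0 (pullback.diagonal f.hom) ↔ AlgSp.RepWith P0.diagonal f.hom) := by
    intro P0 _
    constructor
    · intro h
      refine ⟨hf, fun T V g fst v sq => ?_⟩
      show P0 (pullback.diagonal v.left)
      refine (AlgSp.repWith_diagonal_yon_map_iff P0 v).1 ?_
      exact MorphismProperty.of_isPullback (P := AlgSp.RepWith P0)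
        (AlgSp.h5_isPullback_diagonal_baseChange sq) h
    · intro h
      refine ⟨hd.1, fun T E t e1 e sqE => ?_⟩
      show P0 e.left
      have sq := h.rep.isPullback (t ≫ pullback.fst f.hom f.hom ≫ f.hom)
      have hv : P0 (pullback.diagonal (h.rep.snd (t ≫ pullback.fst f.hom f.hom ≫ f.hom)).left) :=
        h.property_snd _
      replace hv := (AlgSp.repWith_diagonal_yon_map_iff P0 _).2 hv
      obtain ⟨c, e1', sq'⟩ := AlgSp.h5_diag_probe t sq sqE
      exact hv.property c e1' e sq'
  constructor
  · refine (key @IsClosedImmersion).trans ?_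
    rw [← IsSeparated.isSeparated_eq_diagonal_isClosedImmersion]
  · refine (key @QuasiCompact).trans ?_
    rw [← quasiSeparated_eq_diagonal_is_quasiCompact]

end Groth.Agent.S9905
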