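import Groth.Statements.S9915
import Mathlib
import Groth.Agent.Lib.helper5.AlgSpQc2

set_option autoImplicit false
universe u
open CategoryTheory CategoryTheory.Limits AlgebraicGeometry
open AlgSp

namespace Groth.Agent.S9915

/-- In a commutative triangle of algebraic spaces with f : X -> Y surjective, if X -> Z is quasi-compact
then Y -> Z is quasi-compact. -/
theorem result {S : Scheme.{u}} {X Y Z : AlgSp.Space S} (f : X ⟶ Y)
    (p : X ⟶ Z) (q : Y ⟶ Z) (comm : f ≫ q = p) (hf : AlgSp.IsSurjectiveMor f.hom)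
    (hp : AlgSp.IsQuasiCompactMor p.hom) : AlgSp.IsQuasiCompactMor q.hom := by
  intro W W' hW hWqc g fst snd sq
  have hW' : AlgSp.IsAlgSpace W' :=
    AlgSp.h5_isAlgSpace_of_isPullback Z.property.diag Y.property hW sq
  have sq2 : IsPullback (pullback.snd fst f.hom) (pullback.fst fst f.hom) f.hom fst :=
    (IsPullback.of_hasPullback fst f.hom).flip
  have sq3 := sq2.paste_vert sq
  have hp' : p.hom = f.hom ≫ q.hom := by rw [← comm]; rfl
  rw [← hp'] at sq3
  have hqc'' := hp hW hWqc g _ _ sq3
  exact AlgSp.h5_isQuasiCompactSp_of_surjective hW' _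
    (AlgSp.h5_surjective_of_isPullback sq2 hf) hqc''

end Groth.Agent.S9915
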