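import Groth.Statements.S9919
import Mathlib
import Groth.Agent.Lib.helper5.AlgSpQc2

set_option autoImplicit false
universe u
open CategoryTheory CategoryTheory.Limits AlgebraicGeometry
open AlgSp

namespace Groth.Agent.S9919

/-- For morphisms f : X -> Y and g : Y -> Z of algebraic spaces, quasi-compactness of the composite
together with quasi-separatedness of g forces f to be quasi-compact. -/
theorem result {S : Scheme.{u}} {X Y Z : AlgSp.Space S} (f : X ⟶ Y)
    (g : Y ⟶ Z) (hgf : AlgSp.IsQuasiCompactMor (f ≫ g).hom) (hg : AlgSp.IsQuasiSeparatedMor g.hom) :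
    AlgSp.IsQuasiCompactMor f.hom := by
  intro W W' hW hWqc h fst snd sq
  -- the graph of f
  have hΓ := pullback_lift_diagonal_isPullback f.hom g.hom
  have hΓqc : AlgSp.RepWith @QuasiCompact (pullback.lift (𝟙 X.obj) f.hom (by simp) :
      X.obj ⟶ pullback (f.hom ≫ g.hom) g.hom) :=
    MorphismProperty.of_isPullback (P := AlgSp.RepWith @QuasiCompact) hΓ hg
  set Γ : X.obj ⟶ pullback (f.hom ≫ g.hom) g.hom := pullback.lift (𝟙 X.obj) f.hom (by simp) with hΓdef
  have hΓ2 : Γ ≫ pullback.snd (f.hom ≫ g.hom) g.hom = f.hom := pullback.lift_snd _ _ _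
  -- W₂ = W ×_Y E
  have sqE : IsPullback (pullback.fst (f.hom ≫ g.hom) g.hom) (pullback.snd (f.hom ≫ g.hom) g.hom)
      (f.hom ≫ g.hom) g.hom := IsPullback.of_hasPullback _ _
  have sqW : IsPullback (pullback.fst (pullback.snd (f.hom ≫ g.hom) g.hom) h)
      (pullback.snd (pullback.snd (f.hom ≫ g.hom) g.hom) h)
      (pullback.snd (f.hom ≫ g.hom) g.hom) h := IsPullback.of_hasPullback _ _
  have sq2 := sqW.paste_horiz sqE
  have hW2 : AlgSp.IsQuasiCompactSp (pullback (pullback.snd (f.hom ≫ g.hom) g.hom) h) :=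
    hgf hW hWqc (h ≫ g.hom) _ _ sq2
  -- the comparison map
  have hk : (fst ≫ Γ) ≫ pullback.snd (f.hom ≫ g.hom) g.hom = snd ≫ h := by
    rw [Category.assoc, hΓ2, sq.w]
  let k : W' ⟶ pullback (pullback.snd (f.hom ≫ g.hom) g.hom) h := pullback.lift (fst ≫ Γ) snd hk
  have hk1 : k ≫ pullback.fst (pullback.snd (f.hom ≫ g.hom) g.hom) h = fst ≫ Γ :=
    pullback.lift_fst _ _ _
  have hk2 : k ≫ pullback.snd (pullback.snd (f.hom ≫ g.hom) g.hom) h = snd :=
    pullback.lift_snd _ _ _
  have sq3 : IsPullback k fst (pullback.fst (pullback.snd (f.hom ≫ g.hom) g.hom) h) Γ := by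
    refine IsPullback.of_right ?_ hk1 sqW.flip
    rw [hk2, hΓ2]
    exact sq.flip
  have hkqc : AlgSp.RepWith @QuasiCompact k :=
    MorphismProperty.of_isPullback (P := AlgSp.RepWith @QuasiCompact) sq3.flip hΓqc
  exact AlgSp.h5_isQuasiCompactSp_of_repWith_quasiCompact k hkqc hW2

end Groth.Agent.S9919
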