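import Groth.Statements.S9920
import Mathlib
import Groth.Agent.Lib.helper5.AlgSpFib
import Groth.Agent.S10185

set_option autoImplicit false
universe u
open CategoryTheory CategoryTheory.Limits AlgebraicGeometry
open AlgSp

namespace Groth.Agent.S9920

/-- Over a base scheme S with quasi-separated underlying space, a morphism from a quasi-compact
algebraic space to an algebraic space quasi-separated over S is quasi-compact. (The published
statement takes the target quasi-separated in the absolute sense; this row takes it quasi-separated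
over S and S quasi-separated. With quasi-separatedness over S the hypothesis on S is needed: for S
quasi-compact but not quasi-separated, an affine chart of h_S is not quasi-compact over h_S.) -/
theorem result {S : Scheme.{u}} [QuasiSeparatedSpace ↥S]
    {X Y : AlgSp.Space S} (f : X ⟶ Y) (hX : AlgSp.IsQuasiCompactSp X.obj) (hY : AlgSp.IsQuasiSeparatedSp Y.obj) :
    AlgSp.IsQuasiCompactMor f.hom := by
  intro Z Z' hZ hZqc g fst snd sq
  obtain ⟨V, pX, heX, hsX, hV⟩ := hX
  obtain ⟨W, pZ, heZ, hsZ, hW⟩ := hZqc
  haveI hV' : CompactSpace ↥V.left := hV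
  haveI hW' : CompactSpace ↥W.left := hW
  have hrep := Y.property.representable_from_yon (pX ≫ f.hom)
  have sqP := hrep.isPullback (pZ ≫ g)
  obtain ⟨p1, hp1⟩ := (AlgSp.yon S).map_surjective (hrep.fst (pZ ≫ g))
  rw [← hp1] at sqP
  have hPc : CompactSpace ↥(hrep.pullback (pZ ≫ g)).left :=
    Groth.Agent.S10185.result Y hY V W _ (pX ≫ f.hom) (pZ ≫ g) p1 (hrep.snd (pZ ≫ g)) sqP
  exact ⟨hrep.pullback (pZ ≫ g), _,
    AlgSp.h5_repWith_fib_lift @Etale sq pX pZ heX heZ sqP,
    AlgSp.h5_repWith_fib_lift @Surjective sq pX pZ hsX hsZ sqP, hPc⟩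

end Groth.Agent.S9920
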