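import Groth.Statements.S9927
import Mathlib
import Groth.Agent.Lib.helper5.AlgSpMono
import Groth.Agent.Lib.helper5.AlgSpQc

set_option autoImplicit false
universe u
open CategoryTheory CategoryTheory.Limits AlgebraicGeometry
open AlgSp

namespace Groth.Agent.S9927

/-- (4) ⇒ (1): being a monomorphism descends along a surjective etale base change from a scheme. -/
theorem result {S : Scheme.{u}} {X Y : AlgSp.Space S} (f : X ⟶ Y) (V : Over S)
    (p : (AlgSp.yon S).obj V ⟶ Y.obj) (hp : AlgSp.RepWith @Etale p) (hps : AlgSp.RepWith @Surjective p)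
    {P : AlgSp.Sp S} (fst : P ⟶ X.obj) (snd : P ⟶ (AlgSp.yon S).obj V) (sq : IsPullback fst snd f.hom p)
    [Mono snd] : Mono f.hom := by
  have hepi : ∀ {Q : AlgSp.Sp S} (c : Q ⟶ Y.obj), Epi (pullback.fst c p) := by
    intro Q c
    have sq' := (IsPullback.of_hasPullback c p).flip
    exact AlgSp.h5_epi_of_repWith_etale_surjective _
      (MorphismProperty.of_isPullback (P := AlgSp.RepWith @Etale) sq' hp)
      (MorphismProperty.of_isPullback (P := AlgSp.RepWith @Surjective) sq' hps)
  constructor
  intro Q a b hab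
  have := hepi (a ≫ f.hom)
  rw [← cancel_epi (pullback.fst (a ≫ f.hom) p)]
  have e : sq.lift (pullback.fst (a ≫ f.hom) p ≫ a) (pullback.snd (a ≫ f.hom) p)
      (by rw [Category.assoc, pullback.condition]) =
      sq.lift (pullback.fst (a ≫ f.hom) p ≫ b) (pullback.snd (a ≫ f.hom) p)
      (by rw [Category.assoc, ← hab, pullback.condition]) := by
    rw [← cancel_mono snd, sq.lift_snd, sq.lift_snd]
  have := congrArg (· ≫ fst) e
  simpa using this

end Groth.Agent.S9927
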