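import Groth.Statements.S9934
import Mathlib
import Groth.Agent.Lib.helper5.AlgSpImm

set_option autoImplicit false
universe u
open CategoryTheory CategoryTheory.Limits AlgebraicGeometry
open AlgSp

namespace Groth.Agent.S9934

/-- An immersion of algebraic spaces is a closed immersion exactly when its image on points is closed. -/
theorem result {S : Scheme.{u}} {Z X : AlgSp.Space S} (i : Z ⟶ X)
    (hi : AlgSp.RepWith @IsImmersion i.hom) :
    AlgSp.RepWith @IsClosedImmersion i.hom ↔ IsClosed (Set.range (AlgSp.Points.map i.hom)) := by
  constructor
  · intro hc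
    obtain ⟨U, q, he, hs⟩ := X.property.atlas
    have hquot := AlgSp.h5_isQuotientMap_map_of_etale_surjective (AlgSp.IsAlgSpace.yon_obj U) q he hs
    have sq := hc.rep.isPullback q
    have himm : IsClosedImmersion (hc.rep.snd q).left := hc.property_snd q
    rw [← hquot.isClosed_preimage, ← AlgSp.h5_range_snd_of_isPullback sq,
      AlgSp.h5_isClosed_range_map_yon_map_iff]
    exact (hc.rep.snd q).left.isClosedEmbedding.isClosed_range
  · intro hc
    refine ⟨hi.rep, fun U V g fst snd sq => ?_⟩
    have himm : IsImmersion snd.left := hi.property g fst snd sq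
    show IsClosedImmersion snd.left
    apply IsClosedImmersion.of_isPreimmersion
    rw [← AlgSp.h5_isClosed_range_map_yon_map_iff, AlgSp.h5_range_snd_of_isPullback sq]
    exact hc.preimage (AlgSp.Points.continuous_map g)

end Groth.Agent.S9934
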