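import Groth.Statements.S9939
import Mathlib
import Groth.Agent.Lib.helper5.AlgSpPts

set_option autoImplicit false
universe u
open CategoryTheory CategoryTheory.Limits AlgebraicGeometry
open AlgSp

namespace Groth.Agent.S9939

/-- For a morphism of algebraic spaces representable by schemes, representable universal injectivity is
equivalent to injectivity on K-valued points for every field K. -/
theorem result {S : Scheme.{u}} {X Y : AlgSp.Space S} (f : X ⟶ Y)
    (hf : AlgSp.Representable f.hom) :
    AlgSp.RepWith @UniversallyInjective f.hom ↔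
      ∀ (K : Type u) [Field K] (str : Spec (CommRingCat.of K) ⟶ S),
        Function.Injective (fun a : (AlgSp.yon S).obj (Over.mk str) ⟶ X.obj => a ≫ f.hom) := by
  constructor
  · intro h K _ str a a' haa'
    have haa : a ≫ f.hom = a' ≫ f.hom := haa'
    have sq := h.rep.isPullback (a ≫ f.hom)
    have hui : UniversallyInjective (h.rep.snd (a ≫ f.hom)).left := h.property_snd (a ≫ f.hom)
    obtain ⟨s, hs⟩ := (AlgSp.yon S).map_surjective (sq.lift a (𝟙 _) (by rw [Category.id_comp]))
    obtain ⟨s', hs'⟩ := (AlgSp.yon S).map_surjective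
      (sq.lift a' (𝟙 _) (by rw [Category.id_comp, haa]))
    have h1 : s ≫ h.rep.snd (a ≫ f.hom) = 𝟙 _ := by
      apply (AlgSp.yon S).map_injective
      rw [Functor.map_comp, hs, sq.lift_snd, (AlgSp.yon S).map_id]
    have h1' : s' ≫ h.rep.snd (a ≫ f.hom) = 𝟙 _ := by
      apply (AlgSp.yon S).map_injective
      rw [Functor.map_comp, hs', sq.lift_snd, (AlgSp.yon S).map_id]
    have hinj0 : ∀ (K : Type u) [Field K], Function.Injective
        (fun g : Spec (.of K) ⟶ _ ↦ g ≫ (h.rep.snd (a ≫ f.hom)).left) :=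
      ((tfae_universallyInjective (h.rep.snd (a ≫ f.hom)).left).out 0 1).1 hui
    have hinj := hinj0 K
    have h2 : s.left = s'.left := by
      apply hinj
      show s.left ≫ (h.rep.snd (a ≫ f.hom)).left = s'.left ≫ (h.rep.snd (a ≫ f.hom)).left
      rw [← Over.comp_left, ← Over.comp_left, h1, h1']
    have h3 : s = s' := Over.OverMorphism.ext h2
    have e1 : a = (AlgSp.yon S).map s ≫ h.rep.fst (a ≫ f.hom) := by rw [hs, sq.lift_fst]
    have e2 : a' = (AlgSp.yon S).map s' ≫ h.rep.fst (a ≫ f.hom) := by rw [hs', sq.lift_fst]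
    rw [e1, e2, h3]
  · intro h
    refine ⟨hf, fun T E b fst snd sq => ?_⟩
    show UniversallyInjective snd.left
    refine ((tfae_universallyInjective snd.left).out 0 1).2 ?_
    intro K _ g1 g2 hg
    have hg' : g1 ≫ snd.left = g2 ≫ snd.left := hg
    let str : Spec (CommRingCat.of K) ⟶ S := (g1 ≫ snd.left) ≫ T.hom
    let G1 : Over.mk str ⟶ E := Over.homMk g1 (by
      show g1 ≫ E.hom = (g1 ≫ snd.left) ≫ T.hom
      rw [Category.assoc, Over.w snd])
    let G2 : Over.mk str ⟶ E := Over.homMk g2 (by
      show g2 ≫ E.hom = (g1 ≫ snd.left) ≫ T.hom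
      rw [hg', Category.assoc, Over.w snd])
    have hG : G1 ≫ snd = G2 ≫ snd := Over.OverMorphism.ext hg'
    have hsnd : (AlgSp.yon S).map G1 ≫ (AlgSp.yon S).map snd =
        (AlgSp.yon S).map G2 ≫ (AlgSp.yon S).map snd := by
      rw [← Functor.map_comp, ← Functor.map_comp, hG]
    have hfst : (AlgSp.yon S).map G1 ≫ fst = (AlgSp.yon S).map G2 ≫ fst := by
      apply h K str
      show ((AlgSp.yon S).map G1 ≫ fst) ≫ f.hom = ((AlgSp.yon S).map G2 ≫ fst) ≫ f.hom
      rw [Category.assoc, Category.assoc, sq.w, ← Category.assoc, ← Category.assoc, hsnd]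
    have hGG : (AlgSp.yon S).map G1 = (AlgSp.yon S).map G2 := sq.hom_ext hfst hsnd
    have := (AlgSp.yon S).map_injective hGG
    exact congrArg (fun m => m.left) this

end Groth.Agent.S9939
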