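import Groth.Statements.S9940
import Mathlib
import Groth.Agent.Lib.helper5.AlgSpUniv2

set_option autoImplicit false
universe u
open CategoryTheory CategoryTheory.Limits AlgebraicGeometry
open AlgSp

namespace Groth.Agent.S9940

/-- (4) ⇒ (1): universal injectivity of a morphism of algebraic spaces descends along a surjective base
change from a scheme. -/
theorem result {S : Scheme.{u}} {X Y : AlgSp.Space S} (f : X ⟶ Y)
    (Z : Over S) (g : (AlgSp.yon S).obj Z ⟶ Y.obj) (hg : AlgSp.IsSurjectiveMor g) {P : AlgSp.Sp S}
    (fst : P ⟶ X.obj) (snd : P ⟶ (AlgSp.yon S).obj Z) (sq : IsPullback fst snd f.hom g)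
    (h : AlgSp.IsUnivInjectiveMor snd) : AlgSp.IsUnivInjectiveMor f.hom := by
  exact AlgSp.h5_univSp_descend_gen (fun _ _ f => Function.Injective (Points.map f))
    (fun _ _ q => Function.Surjective (Points.map q))
    (fun sq hq h => AlgSp.h5_injective_of_surjective_base_change sq hq h)
    Y.property (AlgSp.IsAlgSpace.yon_obj Z) f.hom g
    (fun W _ k => AlgSp.h5_surjective_of_isPullback (IsPullback.of_hasPullback k g).flip hg)
    fst snd sq h

end Groth.Agent.S9940
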