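import Groth.Statements.S9944
import Mathlib
import Groth.Agent.Lib.helper5.AlgSpGraph

set_option autoImplicit false
universe u
open CategoryTheory CategoryTheory.Limits AlgebraicGeometry
open AlgSp

namespace Groth.Agent.S9944

/-- Let g : X -> Y be a morphism over a base algebraic space B with X affine over B. Then g is affine as
soon as the diagonal of Y over B is affine, and in particular as soon as Y is B-separated. (The
published lemma also has two versions with the absolute diagonal of Y; this row states the versions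
over B.) -/
theorem result {S : Scheme.{u}} {X Y B : AlgSp.Space S} (g : X ⟶ Y) (p : X ⟶ B)
    (q : Y ⟶ B) (comm : g ≫ q = p) (hp : AlgSp.IsAffineMor p.hom) :
    (AlgSp.IsAffineMor (pullback.diagonal q.hom) → AlgSp.IsAffineMor g.hom) ∧
    (AlgSp.IsSeparatedMor q.hom → AlgSp.IsAffineMor g.hom) := by
  have hp' : AlgSp.IsAffineMor (g.hom ≫ q.hom) := by
    have : (g ≫ q).hom = p.hom := by rw [comm]
    rw [← this] at hp
    exact hp
  have key : AlgSp.IsAffineMor (pullback.diagonal q.hom) → AlgSp.IsAffineMor g.hom := by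
    intro hΔ T hT t
    obtain ⟨W1, i1, fst1, sq1, hW1⟩ := hp' hT (t ≫ q.hom)
    obtain ⟨W, i, fst, sq2, hW⟩ := hΔ hW1 (pullback.lift (fst1 ≫ g.hom) ((AlgSp.yon S).map i1 ≫ t)
      (by simpa using sq1.w))
    have sq3 := AlgSp.h5_isPullback_graph sq1 sq2
    rw [← (AlgSp.yon S).map_comp] at sq3
    exact ⟨W, _, _, sq3, hW⟩
  refine ⟨key, fun hsep => key ?_⟩
  intro T hT t
  have sq := hsep.rep.isPullback t
  have hci : IsClosedImmersion (hsep.rep.snd t).left := hsep.property_snd t
  refine ⟨_, _, _, sq, ?_⟩
  haveI := hT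
  exact isAffine_of_isAffineHom (hsep.rep.snd t).left

end Groth.Agent.S9944
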