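import Groth.Statements.S9948
import Mathlib
import Groth.Agent.Lib.helper5.AlgSpCancel
import Groth.Agent.Lib.helper5.AlgSpLocPInst
import Groth.Agent.Lib.helper5.AlgSpLocPInst2
import Groth.Agent.Lib.helper5.SchLqfDesc
import Groth.Agent.Lib.helper5.SchFlatDesc

set_option autoImplicit false
universe u
open CategoryTheory CategoryTheory.Limits AlgebraicGeometry
open AlgSp

namespace Groth.Agent.S9948

open Groth.Agent.Lib.helper5 in
theorem h5_repWith_of_locP {S : Scheme.{u}} (P : MorphismProperty Scheme.{u})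
    [P.IsStableUnderBaseChange] [P.DescendsAlong h5Fppf.{u}]
    {X Y : AlgSp.Sp S} (hY : AlgSp.IsAlgSpace Y) (f : X ⟶ Y) (hf : AlgSp.Representable f)
    (h : AlgSp.LocP P f) : AlgSp.RepWith P f := by
  refine ⟨hf, fun T V g fst v sq => ?_⟩
  show P v.left
  obtain ⟨W, c, hc, hcs⟩ := hY.atlas
  obtain ⟨T', fst1, s1, sq1, he1, hs1⟩ : ∃ (T' : Over S)
      (fst1 : (yon S).obj T' ⟶ (yon S).obj W) (s1 : T' ⟶ T),
      IsPullback fst1 ((yon S).map s1) c g ∧ Etale s1.left ∧ Surjective s1.left :=
    ⟨_, _, _, hc.rep.isPullback g, hc.property_snd _, hcs.property_snd _⟩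
  obtain ⟨k, rfl⟩ := (yon S).map_surjective fst1
  have sqC := hf.isPullback c
  have hae : AlgSp.RepWith @Etale (hf.fst c) :=
    MorphismProperty.of_isPullback (P := AlgSp.RepWith @Etale) sqC.flip hc
  have hP0 : P (hf.snd c).left := h (hf.fst c) c (hf.snd c) hae hc sqC.w
  have sqO := IsPullback.of_hasPullback v s1
  have sqB := IsPullback.map (yon S) sqO
  have sqS := IsPullback.map (Over.forget S) sqO
  have sqS' : IsPullback (pullback.fst v s1).left (pullback.snd v s1).left v.left s1.left := sqS
  have big : IsPullback ((yon S).map (pullback.fst v s1) ≫ fst) ((yon S).map (pullback.snd v s1))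
      f ((yon S).map k ≫ c) := by
    have := sqB.paste_horiz sq
    rw [sq1.w]
    exact this
  have hw : ((yon S).map (pullback.fst v s1) ≫ fst) ≫ f =
      ((yon S).map (pullback.snd v s1) ≫ (yon S).map k) ≫ c := by
    rw [Category.assoc]; exact big.w
  obtain ⟨l, hl⟩ := (yon S).map_surjective
    (sqC.lift ((yon S).map (pullback.fst v s1) ≫ fst)
      ((yon S).map (pullback.snd v s1) ≫ (yon S).map k) hw)
  have e1 : (yon S).map l ≫ hf.fst c = (yon S).map (pullback.fst v s1) ≫ fst := by
    rw [hl]; exact sqC.lift_fst _ _ _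
  have e2 : (yon S).map l ≫ (yon S).map (hf.snd c) =
      (yon S).map (pullback.snd v s1) ≫ (yon S).map k := by
    rw [hl]; exact sqC.lift_snd _ _ _
  have big' : IsPullback ((yon S).map l ≫ hf.fst c) ((yon S).map (pullback.snd v s1))
      f ((yon S).map k ≫ c) := by
    rw [e1]; exact big
  have left := IsPullback.of_right big' e2 sqC
  have h1 : AlgSp.RepWith P ((yon S).map (pullback.snd v s1)) :=
    MorphismProperty.of_isPullback (P := AlgSp.RepWith P) left
      ((AlgSp.repWith_yon_map_iff P _).2 hP0)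
  have hP1 : P (pullback.snd v s1).left := (AlgSp.repWith_yon_map_iff P _).1 h1
  haveI := he1
  exact MorphismProperty.of_isPullback_of_descendsAlong (P := P) (Q := h5Fppf.{u}) sqS'.flip
    ⟨⟨hs1, inferInstance⟩, inferInstance⟩ hP1


/-- Representable clause, for the listed classes P: for f representable by schemes, P etale locally on
the source-and-target agrees with P in the representable sense. -/
theorem result {S : Scheme.{u}} (P : MorphismProperty Scheme.{u})
    (hP : P = @LocallyOfFiniteType ∨ P = @LocallyOfFinitePresentation ∨ P = @Flat ∨ P = @Smooth ∨ P = @Etale ∨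
      (∀ ⦃A B : Scheme.{u}⦄ (g : A ⟶ B), P g ↔ (LocallyQuasiFinite g ∧ LocallyOfFiniteType g)) ∨
      (∀ ⦃A B : Scheme.{u}⦄ (g : A ⟶ B), P g ↔ (LocallyOfFiniteType g ∧ FormallyUnramified g)))
    {X Y : AlgSp.Space S} (f : X ⟶ Y) (hf : AlgSp.Representable f.hom) :
    AlgSp.LocP P f.hom ↔ AlgSp.RepWith P f.hom := by
  have hY := Y.property
  have key : ∀ (Q : MorphismProperty Scheme.{u}) [Q.IsStableUnderBaseChange]
      [Q.IsStableUnderComposition] [Q.DescendsAlong Groth.Agent.Lib.helper5.h5Fppf.{u}],
      (@Etale : MorphismProperty Scheme.{u}) ≤ Q →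
      (AlgSp.LocP Q f.hom ↔ AlgSp.RepWith Q f.hom) := by
    intro Q _ _ _ hEQ
    exact ⟨fun h => h5_repWith_of_locP Q hY f.hom hf h,
      fun h => AlgSp.h5_locP_of_repWith Q hEQ f.hom h⟩
  rcases hP with rfl | rfl | rfl | rfl | rfl | h6 | h7
  · exact key _ (fun _ _ g hg => by haveI : Etale g := hg; infer_instance)
  · exact key _ (fun _ _ g hg => by haveI : Etale g := hg; infer_instance)
  · exact key _ (fun _ _ g hg => by haveI : Etale g := hg; infer_instance)
  · exact key _ (fun _ _ g hg => by haveI : Etale g := hg; infer_instance)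
  · exact key _ (fun _ _ g hg => hg)
  · have hPe : P = (@LocallyQuasiFinite ⊓ @LocallyOfFiniteType : MorphismProperty Scheme.{u}) := by
      ext A B g; exact h6 g
    subst hPe
    haveI : MorphismProperty.DescendsAlong
        (@LocallyQuasiFinite ⊓ @LocallyOfFiniteType : MorphismProperty Scheme.{u})
        (@Surjective ⊓ @Flat ⊓ @QuasiCompact) := inferInstance
    haveI : IsZariskiLocalAtTarget
        (@LocallyQuasiFinite ⊓ @LocallyOfFiniteType : MorphismProperty Scheme.{u}) := inferInstance
    exact key _ (fun _ _ g hg => AlgSp.h5_good_lqf.etale_le g hg)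
  · have hPe : P = (@LocallyOfFiniteType ⊓ @FormallyUnramified : MorphismProperty Scheme.{u}) := by
      ext A B g; exact h7 g
    subst hPe
    haveI : MorphismProperty.DescendsAlong
        (@LocallyOfFiniteType ⊓ @FormallyUnramified : MorphismProperty Scheme.{u})
        (@Surjective ⊓ @Flat ⊓ @QuasiCompact) := inferInstance
    haveI : IsZariskiLocalAtTarget
        (@LocallyOfFiniteType ⊓ @FormallyUnramified : MorphismProperty Scheme.{u}) := inferInstance
    exact key _ (fun _ _ g hg => AlgSp.h5_good_unram.etale_le g hg)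

end Groth.Agent.S9948
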