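import Groth.Statements.S9951
import Mathlib
import Groth.Agent.Lib.helper5.AlgSpEt
import Groth.Agent.Lib.helper5.AlgSpPb

set_option autoImplicit false
universe u
open CategoryTheory CategoryTheory.Limits AlgebraicGeometry
open AlgSp

namespace Groth.Agent.S9951

/-- The source of a morphism locally of finite type with locally Noetherian target is locally
Noetherian. -/
theorem result {S : Scheme.{u}} {X Y : AlgSp.Space S} (f : X ⟶ Y)
    (hf : AlgSp.LocP @LocallyOfFiniteType f.hom) (hY : AlgSp.IsLocNoethSp Y.obj) : AlgSp.IsLocNoethSp X.obj := by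
  obtain ⟨V₀, p₀, hp₀e, hp₀s, hV₀⟩ := hY
  obtain ⟨U, a, hae, has⟩ := X.property.atlas
  have sq := hp₀e.rep.isPullback (a ≫ f.hom)
  have hsnd_e : Etale (hp₀e.rep.snd (a ≫ f.hom)).left := hp₀e.property_snd _
  have hsnd_s : Surjective (hp₀e.rep.snd (a ≫ f.hom)).left := hp₀s.property_snd _
  obtain ⟨h, hh⟩ := (AlgSp.yon S).map_surjective (hp₀e.rep.fst (a ≫ f.hom))
  have hce : AlgSp.RepWith @Etale ((AlgSp.yon S).map (hp₀e.rep.snd (a ≫ f.hom)) ≫ a) :=
    (AlgSp.RepWith @Etale).comp_mem _ _ ((AlgSp.repWith_yon_map_iff _ _).2 hsnd_e) hae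
  have hcs : AlgSp.RepWith @Surjective ((AlgSp.yon S).map (hp₀e.rep.snd (a ≫ f.hom)) ≫ a) :=
    (AlgSp.RepWith @Surjective).comp_mem _ _ ((AlgSp.repWith_yon_map_iff _ _).2 hsnd_s) has
  have hcomm : ((AlgSp.yon S).map (hp₀e.rep.snd (a ≫ f.hom)) ≫ a) ≫ f.hom =
      (AlgSp.yon S).map h ≫ p₀ := by
    rw [hh, Category.assoc, sq.w]
  haveI : LocallyOfFiniteType h.left := hf _ p₀ h hce hp₀e hcomm
  haveI : IsLocallyNoetherian V₀.left := hV₀
  exact ⟨_, _, hce, hcs, LocallyOfFiniteType.isLocallyNoetherian h.left⟩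

end Groth.Agent.S9951
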