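import Groth.Statements.S9954
import Mathlib
import Groth.Agent.Lib.helper5.SchAlgClosedPt
import Groth.Agent.Lib.helper5.AlgSpFieldPt
import Groth.Agent.Lib.helper5.AlgSpLocPInst
import Groth.Agent.Lib.helper5.AlgSpSubm
import Groth.Agent.Lib.helper5.AlgSpPts2

set_option autoImplicit false
universe u
open CategoryTheory CategoryTheory.Limits AlgebraicGeometry
open AlgSp

namespace Groth.Agent.S9954

/-- A morphism locally of finite type is surjective if and only if it is surjective on k-valued points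
for every algebraically closed field k over the base. -/
theorem result {S : Scheme.{u}} {X Y : AlgSp.Space S} (f : X ⟶ Y)
    (hf : AlgSp.LocP @LocallyOfFiniteType f.hom) :
    AlgSp.IsSurjectiveMor f.hom ↔
      ∀ (k : Type u) [Field k] [IsAlgClosed k] (str : Spec (CommRingCat.of k) ⟶ S)
        (y : (AlgSp.yon S).obj (Over.mk str) ⟶ Y.obj),
        ∃ x : (AlgSp.yon S).obj (Over.mk str) ⟶ X.obj, x ≫ f.hom = y := by
  constructor
  · intro hs k _ _ str y
    have sq := IsPullback.of_hasPullback f.hom y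
    have hP : AlgSp.IsAlgSpace (pullback f.hom y) :=
      AlgSp.h5_isAlgSpace_of_isPullback Y.property.diag X.property (AlgSp.IsAlgSpace.yon_obj _) sq
    have hsnd : AlgSp.LocP @LocallyOfFiniteType (pullback.snd f.hom y) :=
      AlgSp.h5_locP_baseChange AlgSp.h5_good_lft X.property Y.property
        (AlgSp.IsAlgSpace.yon_obj _) sq hf
    have hss : AlgSp.IsSurjectiveMor (pullback.snd f.hom y) :=
      AlgSp.h5_isSurjectiveMor_baseChange sq hs
    obtain ⟨U, a, hae, has⟩ := hP.atlas
    obtain ⟨x0⟩ := AlgSp.h5_nonempty_points_field k str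
    obtain ⟨z, hz⟩ := hss x0
    obtain ⟨u, hu⟩ := AlgSp.h5_surjective_ofPt a has z
    obtain ⟨γ, hγ⟩ := (AlgSp.yon S).map_surjective (a ≫ pullback.snd f.hom y)
    haveI : LocallyOfFiniteType γ.left :=
      hsnd a (𝟙 _) γ hae (AlgSp.repWith_id _ _) (by rw [hγ, Category.comp_id])
    obtain ⟨σ, hσ⟩ := Groth.Agent.Lib.helper5.h5_exists_section_of_lft_algClosed k γ.left u
    have hσ' : σ ≫ U.hom = str := by
      have h1 : γ.left ≫ str = U.hom := Over.w γ
      rw [← h1, ← Category.assoc, hσ, Category.id_comp]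
    let σ' : Over.mk str ⟶ U := Over.homMk σ hσ'
    have hσγ : σ' ≫ γ = 𝟙 _ := Over.OverMorphism.ext hσ
    refine ⟨(AlgSp.yon S).map σ' ≫ a ≫ pullback.fst f.hom y, ?_⟩
    rw [Category.assoc, Category.assoc, sq.w, ← Category.assoc a, ← hγ, ← Category.assoc,
      ← Functor.map_comp, hσγ, CategoryTheory.Functor.map_id, Category.id_comp]
  · intro H z
    obtain ⟨K, _, str, a, rfl⟩ := AlgSp.h5_exists_eq_mkHom z
    let α : Over.mk (Spec.map (CommRingCat.ofHom (algebraMap K (AlgebraicClosure K))) ≫ str) ⟶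
        Over.mk str :=
      Over.homMk (Spec.map (CommRingCat.ofHom (algebraMap K (AlgebraicClosure K)))) rfl
    obtain ⟨x, hx⟩ := H (AlgebraicClosure K) _ ((AlgSp.yon S).map α ≫ a)
    refine ⟨AlgSp.h5_mkHom (AlgebraicClosure K) _ x, ?_⟩
    rw [AlgSp.h5_map_mkHom, hx, AlgSp.h5_mkHom_comp]

end Groth.Agent.S9954
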