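import Groth.Statements.S9956
import Mathlib
import Groth.Agent.Lib.helper5.SchSrcDesc5

set_option autoImplicit false
universe u
open CategoryTheory CategoryTheory.Limits AlgebraicGeometry
open AlgSp

namespace Groth.Agent.S9956

/-- For morphisms X -> Y -> Z of algebraic spaces, local quasi-finiteness of the composite implies that
of the first map (locally quasi-finite includes locally of finite type, etale locally on source and
target). -/
theorem result {S : Scheme.{u}} {X Y Z : AlgSp.Space S} (f : X ⟶ Y) (g : Y ⟶ Z)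
    (h : AlgSp.LocP ((@LocallyQuasiFinite : MorphismProperty Scheme.{u}) ⊓ @LocallyOfFiniteType) (f ≫ g).hom) :
    AlgSp.LocP ((@LocallyQuasiFinite : MorphismProperty Scheme.{u}) ⊓ @LocallyOfFiniteType) f.hom := by
  intro U V a b h' ha hb comm
  obtain ⟨W, c, hce, hcs⟩ := Z.property.atlas
  have sq1 := hce.rep.isPullback (b ≫ g.hom)
  haveI e1 : Etale (hce.rep.snd (b ≫ g.hom)).left := hce.property_snd _
  haveI s1 : Surjective (hce.rep.snd (b ≫ g.hom)).left := hcs.property_snd _
  obtain ⟨v, hv⟩ := (AlgSp.yon S).map_surjective (hce.rep.fst (b ≫ g.hom))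
  have sq2 : IsPullback (pullback.fst h' (hce.rep.snd (b ≫ g.hom)))
      (pullback.snd h' (hce.rep.snd (b ≫ g.hom))) h' (hce.rep.snd (b ≫ g.hom)) :=
    IsPullback.of_hasPullback _ _
  have sqL := sq2.map (Over.forget S)
  haveI ee : Etale (pullback.fst h' (hce.rep.snd (b ≫ g.hom))).left :=
    MorphismProperty.of_isPullback (P := @Etale) sqL.flip e1
  haveI es : Surjective (pullback.fst h' (hce.rep.snd (b ≫ g.hom))).left :=
    MorphismProperty.of_isPullback (P := @Surjective) sqL.flip s1
  have comm' : ((AlgSp.yon S).map (pullback.fst h' (hce.rep.snd (b ≫ g.hom))) ≫ a) ≫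
      (f ≫ g).hom = (AlgSp.yon S).map (pullback.snd h' (hce.rep.snd (b ≫ g.hom)) ≫ v) ≫ c := by
    change ((AlgSp.yon S).map _ ≫ a) ≫ f.hom ≫ g.hom = _
    rw [Category.assoc, ← Category.assoc a, comm, Category.assoc, ← Category.assoc,
      ← Functor.map_comp, sq2.w, Functor.map_comp, Functor.map_comp, hv, Category.assoc,
      Category.assoc, sq1.w]
  have hP := h _ c _ ((AlgSp.RepWith @Etale).comp_mem _ _
    ((AlgSp.repWith_yon_map_iff _ _).2 ee) ha) hce comm'
  rw [Over.comp_left] at hP
  haveI : LocallyQuasiFinite ((pullback.snd h' (hce.rep.snd (b ≫ g.hom))).left ≫ v.left) := hP.1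
  haveI : LocallyOfFiniteType ((pullback.snd h' (hce.rep.snd (b ≫ g.hom))).left ≫ v.left) := hP.2
  haveI : LocallyQuasiFinite (pullback.snd h' (hce.rep.snd (b ≫ g.hom))).left :=
    LocallyQuasiFinite.of_comp _ v.left
  haveI : LocallyOfFiniteType (pullback.snd h' (hce.rep.snd (b ≫ g.hom))).left :=
    locallyOfFiniteType_of_comp _ v.left
  haveI : LocallyQuasiFinite (hce.rep.snd (b ≫ g.hom)).left :=
    Groth.Agent.Lib.helper5.h5_lqf_of_etale _
  have hcomp : ((@LocallyQuasiFinite ⊓ @LocallyOfFiniteType : MorphismProperty Scheme.{u}))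
      ((pullback.fst h' (hce.rep.snd (b ≫ g.hom))).left ≫ h'.left) := by
    rw [← Over.comp_left, sq2.w, Over.comp_left]
    exact ⟨inferInstance, inferInstance⟩
  have hmem : Presieve.singleton (pullback.fst h' (hce.rep.snd (b ≫ g.hom))).left ∈
      Scheme.etalePrecoverage U.left := by
    rw [Scheme.etalePrecoverage, Scheme.singleton_mem_precoverage_iff]
    exact ⟨es.surj, ee⟩
  refine MorphismProperty.IsLocalAtSource.of_forall_comp hmem ?_
  rintro _ _ ⟨⟩
  exact hcomp

end Groth.Agent.S9956
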