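import Groth.Statements.S9957
import Mathlib
import Groth.Agent.Lib.helper5.AlgSpDiag
import Groth.Agent.S9951

set_option autoImplicit false
universe u
open CategoryTheory CategoryTheory.Limits AlgebraicGeometry
open AlgSp

namespace Groth.Agent.S9957

/-- The source of a morphism of finite presentation whose target is Noetherian is itself Noetherian,
Noetherian meaning quasi-compact, quasi-separated over S and locally Noetherian. (The published
statement uses quasi-separatedness in the absolute sense; this row uses quasi-separatedness over S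
in hypothesis and conclusion.) -/
theorem result {S : Scheme.{u}} {X Y : AlgSp.Space S} (f : X ⟶ Y)
    (hf : AlgSp.IsFinitePresentationMor f.hom)
    (hY : AlgSp.IsQuasiCompactSp Y.obj ∧ AlgSp.IsQuasiSeparatedSp Y.obj ∧ AlgSp.IsLocNoethSp Y.obj) :
    AlgSp.IsQuasiCompactSp X.obj ∧ AlgSp.IsQuasiSeparatedSp X.obj ∧ AlgSp.IsLocNoethSp X.obj := by
  obtain ⟨hlfp, hqc, hqs⟩ := hf
  obtain ⟨hYqc, hYqs, hYn⟩ := hY
  refine ⟨?_, ?_, ?_⟩
  · exact hqc Y.property hYqc (𝟙 _) (𝟙 _) f.hom (IsPullback.id_horiz f.hom)
  · have sq := AlgSp.h5_isPullback_diag (IsPullback.of_hasPullback f.hom f.hom)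
    have h1 : AlgSp.RepWith @QuasiCompact
        (prod.lift (pullback.fst f.hom f.hom) (pullback.snd f.hom f.hom)) :=
      MorphismProperty.of_isPullback (P := AlgSp.RepWith @QuasiCompact) sq hYqs
    change AlgSp.RepWith @QuasiCompact (Limits.diag X.obj)
    rw [AlgSp.h5_diag_eq_diagonal_comp f.hom]
    exact (AlgSp.RepWith @QuasiCompact).comp_mem _ _ hqs h1
  · refine Groth.Agent.S9951.result f (fun U V a b h ha hb comm => ?_) hYn
    haveI : LocallyOfFinitePresentation h.left := hlfp a b h ha hb comm
    infer_instance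

end Groth.Agent.S9957
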