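import Groth.Statements.S9958
import Mathlib
import Groth.Agent.Lib.helper5.AlgSpEt
import Groth.Agent.Lib.helper5.SchSrcDesc

set_option autoImplicit false
universe u
open CategoryTheory CategoryTheory.Limits AlgebraicGeometry
open AlgSp

namespace Groth.Agent.S9958

/-- Over a locally Noetherian algebraic space, locally of finite type implies locally of finite
presentation. -/
theorem result {S : Scheme.{u}} {X Y : AlgSp.Space S} (f : X ⟶ Y)
    (hY : AlgSp.IsLocNoethSp Y.obj) (hf : AlgSp.LocP @LocallyOfFiniteType f.hom) :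
    AlgSp.LocP @LocallyOfFinitePresentation f.hom := by
  intro U V a b h ha hb comm
  haveI hLFT : LocallyOfFiniteType h.left := hf a b h ha hb comm
  obtain ⟨V₀, p₀, hp₀e, hp₀s, hV₀⟩ := hY
  haveI : IsLocallyNoetherian V₀.left := hV₀
  have sq1 := hp₀e.rep.isPullback b
  haveI e1 : Etale (hp₀e.rep.snd b).left := hp₀e.property_snd b
  haveI s1 : Surjective (hp₀e.rep.snd b).left := hp₀s.property_snd b
  obtain ⟨v, hv⟩ := (AlgSp.yon S).map_surjective (hp₀e.rep.fst b)
  have hfe : AlgSp.RepWith @Etale (hp₀e.rep.fst b) :=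
    MorphismProperty.of_isPullback (P := AlgSp.RepWith @Etale) sq1.flip hb
  rw [← hv] at hfe
  haveI ev : Etale v.left := (AlgSp.repWith_yon_map_iff _ _).1 hfe
  haveI : IsLocallyNoetherian (hp₀e.rep.pullback b).left :=
    LocallyOfFiniteType.isLocallyNoetherian v.left
  haveI : IsLocallyNoetherian V.left :=
    Groth.Agent.Lib.helper5.h5_isLocallyNoetherian_of_flat_surjective (hp₀e.rep.snd b).left
      (hp₀e.rep.snd b).left.isOpenMap
  exact LocallyOfFinitePresentation.iff_locallyOfFiniteType.2 hLFT

end Groth.Agent.S9958
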