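import Groth.Statements.S9960
import Mathlib
import Groth.Agent.Lib.helper5.AlgSpDiagGen
import Groth.Agent.Lib.helper5.AlgSpQc2

set_option autoImplicit false
universe u
open CategoryTheory CategoryTheory.Limits AlgebraicGeometry
open AlgSp

namespace Groth.Agent.S9960

/-- The diagonal of a morphism locally of finite type is locally of finite presentation, and of finite
presentation when the morphism is also quasi-separated. -/
theorem result {S : Scheme.{u}} {X Y : AlgSp.Space S} (f : X ⟶ Y)
    (hf : AlgSp.LocP @LocallyOfFiniteType f.hom) :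
    AlgSp.LocP @LocallyOfFinitePresentation (pullback.diagonal f.hom) ∧
    (AlgSp.IsQuasiSeparatedMor f.hom → AlgSp.IsFinitePresentationMor (pullback.diagonal f.hom)) := by
  have hrep := AlgSp.h5_repWith_lfp_diagonal X.property Y.property f.hom hf
  have hloc : AlgSp.LocP @LocallyOfFinitePresentation (pullback.diagonal f.hom) :=
    AlgSp.h5_locP_of_repWith _ AlgSp.h5_etale_le_lfp _ hrep
  refine ⟨hloc, fun hqs => ⟨hloc, ?_, ?_⟩⟩
  · intro Z Z' hZ hZq g fst snd sq
    exact AlgSp.h5_isQuasiCompactSp_of_repWith_quasiCompact snd
      (MorphismProperty.of_isPullback (P := AlgSp.RepWith @QuasiCompact) sq hqs) hZq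
  · haveI : Mono (pullback.diagonal f.hom) := inferInstance
    haveI : IsIso (pullback.diagonal (pullback.diagonal f.hom)) :=
      (pullback.isIso_diagonal_iff _).2 inferInstance
    exact AlgSp.h5_repWith_of_isIso _ _

end Groth.Agent.S9960
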