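import Groth.Statements.S9972
import Mathlib
import Groth.Agent.Lib.helper5.AlgSpPb

set_option autoImplicit false
universe u
open CategoryTheory CategoryTheory.Limits AlgebraicGeometry
open AlgSp

namespace Groth.Agent.S9972

/-- Two morphisms to an algebraic space separated over B that agree on an open subspace whose scheme
theoretic closure is everything are equal. -/
theorem result {S : Scheme.{u}} {U X Y B : AlgSp.Space S} (q : Y ⟶ B)
    (hq : AlgSp.IsSeparatedMor q.hom) (f g : X ⟶ Y) (hfg : f ≫ q = g ≫ q) (j : U ⟶ X)
    (hj : AlgSp.RepWith @IsOpenImmersion j.hom) (hcl : AlgSp.IsSchImage j.hom (𝟙 X.obj)) (heq : j ≫ f = j ≫ g) :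
    f = g := by
  have hfg' : f.hom ≫ q.hom = g.hom ≫ q.hom := congrArg (fun k => k.hom) hfg
  have heq' : j.hom ≫ f.hom = j.hom ≫ g.hom := congrArg (fun k => k.hom) heq
  have sqYY : IsPullback (pullback.fst q.hom q.hom) (pullback.snd q.hom q.hom) q.hom q.hom :=
    IsPullback.of_hasPullback _ _
  have hYY : AlgSp.IsAlgSpace (pullback q.hom q.hom) :=
    AlgSp.h5_isAlgSpace_of_isPullback B.property.diag Y.property Y.property sqYY
  have sq := IsPullback.of_hasPullback (pullback.diagonal q.hom)
    (pullback.lift f.hom g.hom hfg')
  have hE : AlgSp.IsAlgSpace (pullback (pullback.diagonal q.hom) (pullback.lift f.hom g.hom hfg')) :=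
    AlgSp.h5_isAlgSpace_of_isPullback hYY.diag Y.property X.property sq
  have he : AlgSp.RepWith @IsClosedImmersion
      (pullback.snd (pullback.diagonal q.hom) (pullback.lift f.hom g.hom hfg')) :=
    MorphismProperty.of_isPullback (P := AlgSp.RepWith @IsClosedImmersion) sq hq
  have h1 : pullback.fst (pullback.diagonal q.hom) (pullback.lift f.hom g.hom hfg') =
      pullback.snd (pullback.diagonal q.hom) (pullback.lift f.hom g.hom hfg') ≫ f.hom := by
    have := congrArg (· ≫ pullback.fst q.hom q.hom) sq.w
    simp only [Category.assoc] at this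
    rw [pullback.diagonal_fst, pullback.lift_fst, Category.comp_id] at this
    exact this
  have h2 : pullback.fst (pullback.diagonal q.hom) (pullback.lift f.hom g.hom hfg') =
      pullback.snd (pullback.diagonal q.hom) (pullback.lift f.hom g.hom hfg') ≫ g.hom := by
    have := congrArg (· ≫ pullback.snd q.hom q.hom) sq.w
    simp only [Category.assoc] at this
    rw [pullback.diagonal_snd, pullback.lift_snd, Category.comp_id] at this
    exact this
  have hlift : (j.hom ≫ f.hom) ≫ pullback.diagonal q.hom =
      j.hom ≫ pullback.lift f.hom g.hom hfg' := by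
    apply pullback.hom_ext
    · rw [Category.assoc, pullback.diagonal_fst, Category.comp_id, Category.assoc,
        pullback.lift_fst]
    · rw [Category.assoc, pullback.diagonal_snd, Category.comp_id, Category.assoc,
        pullback.lift_snd, heq']
  obtain ⟨k, hk⟩ := hcl.2.2 _ hE he ⟨sq.lift _ _ hlift, sq.lift_snd _ _ _⟩
  apply ObjectProperty.hom_ext
  show f.hom = g.hom
  have hk' : k ≫ pullback.snd (pullback.diagonal q.hom) (pullback.lift f.hom g.hom hfg') =
      𝟙 X.obj := hk
  calc f.hom = (k ≫ pullback.snd (pullback.diagonal q.hom) (pullback.lift f.hom g.hom hfg')) ≫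
        f.hom := by rw [hk', Category.id_comp]
    _ = (k ≫ pullback.snd (pullback.diagonal q.hom) (pullback.lift f.hom g.hom hfg')) ≫
        g.hom := by rw [Category.assoc, ← h1, h2, Category.assoc]
    _ = g.hom := by rw [hk', Category.id_comp]

end Groth.Agent.S9972
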