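import Groth.Statements.S9981
import Mathlib
import Groth.Agent.Lib.helper5.SchLocConstr
import Groth.Agent.Lib.helper5.AlgSpPts

set_option autoImplicit false
universe u
open CategoryTheory CategoryTheory.Limits AlgebraicGeometry
open AlgSp

namespace Groth.Agent.S9981

/-- The inverse image of an etale locally constructible subset under a morphism of algebraic spaces is
etale locally constructible. -/
theorem result {S : Scheme.{u}} {X Y : AlgSp.Space S} (f : X ⟶ Y)
    (E : Set (AlgSp.Points Y.obj))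
    (hE : (∀ (U : Over S) (φ : (AlgSp.yon S).obj U ⟶ Y.obj), AlgSp.RepWith @Etale φ →
        Topology.IsLocallyConstructible (AlgSp.Points.ofPt φ ⁻¹' E))) :
    (∀ (U : Over S) (φ : (AlgSp.yon S).obj U ⟶ X.obj), AlgSp.RepWith @Etale φ →
        Topology.IsLocallyConstructible (AlgSp.Points.ofPt φ ⁻¹' (AlgSp.Points.map f.hom ⁻¹' E))) := by
  intro U φ hφ
  obtain ⟨V, b, hbe, hbs⟩ := Y.property.atlas
  have sq := hbe.rep.isPullback' (φ ≫ f.hom)
  haveI h1 : Etale (hbe.rep.snd (φ ≫ f.hom)).left := hbe.property_snd (φ ≫ f.hom)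
  haveI h2 : Surjective (hbe.rep.snd (φ ≫ f.hom)).left :=
    hbs.property (φ ≫ f.hom) _ _ (hbe.rep.isPullback (φ ≫ f.hom))
  have hset : (hbe.rep.snd (φ ≫ f.hom)).left ⁻¹'
      (AlgSp.Points.ofPt φ ⁻¹' (AlgSp.Points.map f.hom ⁻¹' E)) =
      (hbe.rep.fst' (φ ≫ f.hom)).left ⁻¹' (AlgSp.Points.ofPt b ⁻¹' E) := by
    ext t
    simp only [Set.mem_preimage]
    rw [AlgSp.Points.map_ofPt, ← AlgSp.h5_ofPt_map_comp, ← AlgSp.h5_ofPt_map_comp, sq.w]
  refine Groth.Agent.Lib.helper5.h5_isLocallyConstructible_of_etale_surjective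
    (hbe.rep.snd (φ ≫ f.hom)).left _ ?_
  rw [hset]
  exact Groth.Agent.Lib.helper7.isLocallyConstructible_preimage (hbe.rep.fst' (φ ≫ f.hom)).left
    (hE V b hbe)

end Groth.Agent.S9981
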