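import Groth.Statements.S9982
import Mathlib
import Groth.Agent.Lib.helper5.SchLocConstr
import Groth.Agent.Lib.helper5.AlgSpPts
import Groth.Agent.Lib.helper5.AlgSpFpqc

set_option autoImplicit false
universe u
open CategoryTheory CategoryTheory.Limits AlgebraicGeometry
open AlgSp

namespace Groth.Agent.S9982

theorem h5_chevalley_qcqs {S : Scheme.{u}} {X Y : AlgSp.Space S} (f : X ⟶ Y)
    (hq : AlgSp.IsQuasiCompactMor f.hom) (hfp : AlgSp.LocP @LocallyOfFinitePresentation f.hom)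
    (E : Set (AlgSp.Points X.obj))
    (hE : ∀ (U : Over S) (φ : (AlgSp.yon S).obj U ⟶ X.obj), AlgSp.RepWith @Etale φ →
        Topology.IsLocallyConstructible (AlgSp.Points.ofPt φ ⁻¹' E))
    (V : Over S) [CompactSpace V.left] [QuasiSeparatedSpace V.left]
    (φ : (AlgSp.yon S).obj V ⟶ Y.obj) (hφ : AlgSp.RepWith @Etale φ) :
    Topology.IsLocallyConstructible
      (AlgSp.Points.ofPt φ ⁻¹' (AlgSp.Points.map f.hom '' E)) := by
  have sqX := IsPullback.of_hasPullback f.hom φ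
  have hqc : AlgSp.IsQuasiCompactSp (pullback f.hom φ) :=
    hq (AlgSp.IsAlgSpace.yon_obj V) (AlgSp.h5_isQuasiCompactSp_yon V inferInstance) φ _ _ sqX
  obtain ⟨W, ψ, hψe, hψs, hWc⟩ := hqc
  haveI : CompactSpace W.left := hWc
  obtain ⟨g, hg⟩ := (AlgSp.yon S).map_surjective (ψ ≫ pullback.snd f.hom φ)
  have ha : AlgSp.RepWith @Etale (pullback.fst f.hom φ) :=
    MorphismProperty.of_isPullback (P := AlgSp.RepWith @Etale) sqX.flip hφ
  have hψa : AlgSp.RepWith @Etale (ψ ≫ pullback.fst f.hom φ) :=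
    (AlgSp.RepWith @Etale).comp_mem _ _ hψe ha
  have hcomm : (ψ ≫ pullback.fst f.hom φ) ≫ f.hom = (AlgSp.yon S).map g ≫ φ := by
    rw [hg, Category.assoc, Category.assoc, pullback.condition]
  haveI : LocallyOfFinitePresentation g.left := hfp _ φ g hψa hφ hcomm
  haveI : QuasiCompact g.left := inferInstance
  have hEW := hE W _ hψa
  have himg := g.left.isLocallyConstructible_image hEW
  convert himg using 1
  ext v
  simp only [Set.mem_preimage, Set.mem_image]
  constructor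
  · rintro ⟨x, hxE, hx⟩
    rw [AlgSp.Points.ofPt_eq_map_ofScheme] at hx
    obtain ⟨z, hz1, hz2⟩ :=
      AlgSp.h5_points_exists_of_isPullback sqX x (AlgSp.Points.ofScheme V v) hx
    obtain ⟨w, rfl⟩ := AlgSp.h5_surjective_ofPt ψ hψs z
    refine ⟨w, ?_, ?_⟩
    · show AlgSp.Points.ofPt (ψ ≫ pullback.fst f.hom φ) w ∈ E
      rw [← AlgSp.Points.map_ofPt, hz1]; exact hxE
    · apply (AlgSp.Points.schemeEquiv V).injective
      show AlgSp.Points.ofScheme V _ = AlgSp.Points.ofScheme V _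
      rw [← AlgSp.h5_map_ofScheme, hg, AlgSp.Points.map_comp,
        ← AlgSp.Points.ofPt_eq_map_ofScheme, hz2]
  · rintro ⟨w, hwE, rfl⟩
    refine ⟨AlgSp.Points.ofPt (ψ ≫ pullback.fst f.hom φ) w, hwE, ?_⟩
    rw [AlgSp.Points.map_ofPt, hcomm, AlgSp.h5_ofPt_map_comp]

/-- A quasi-compact morphism locally of finite presentation between algebraic spaces maps etale locally
constructible sets to etale locally constructible sets. -/
theorem result {S : Scheme.{u}} {X Y : AlgSp.Space S} (f : X ⟶ Y)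
    (hq : AlgSp.IsQuasiCompactMor f.hom) (hfp : AlgSp.LocP @LocallyOfFinitePresentation f.hom)
    (E : Set (AlgSp.Points X.obj))
    (hE : (∀ (U : Over S) (φ : (AlgSp.yon S).obj U ⟶ X.obj), AlgSp.RepWith @Etale φ →
        Topology.IsLocallyConstructible (AlgSp.Points.ofPt φ ⁻¹' E))) :
    (∀ (U : Over S) (φ : (AlgSp.yon S).obj U ⟶ Y.obj), AlgSp.RepWith @Etale φ →
        Topology.IsLocallyConstructible (AlgSp.Points.ofPt φ ⁻¹' (AlgSp.Points.map f.hom '' E))) := by
  intro V φ hφ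
  refine Topology.IsLocallyConstructible.of_isOpenCover
    (U := fun i : V.left.affineOpens => (i.1 : V.left.Opens)) ?_ (fun i => ?_)
  · rw [TopologicalSpace.IsOpenCover, eq_top_iff]
    intro x _
    obtain ⟨U, hU, hxU, -⟩ := TopologicalSpace.Opens.isBasis_iff_nbhd.mp
      V.left.isBasis_affineOpens (show x ∈ (⊤ : V.left.Opens) from trivial)
    exact TopologicalSpace.Opens.mem_iSup.mpr ⟨⟨U, hU⟩, hxU⟩
  · haveI : IsAffine (Over.mk (i.1.ι ≫ V.hom)).left := i.2
    have hι : AlgSp.RepWith @Etale ((AlgSp.yon S).map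
        (Over.homMk i.1.ι rfl : Over.mk (i.1.ι ≫ V.hom) ⟶ V)) :=
      (AlgSp.repWith_yon_map_iff _ _).2 (inferInstance : Etale i.1.ι)
    have hφ' : AlgSp.RepWith @Etale ((AlgSp.yon S).map
        (Over.homMk i.1.ι rfl : Over.mk (i.1.ι ≫ V.hom) ⟶ V) ≫ φ) :=
      (AlgSp.RepWith @Etale).comp_mem _ _ hι hφ
    have h1 := h5_chevalley_qcqs f hq hfp E hE (Over.mk (i.1.ι ≫ V.hom)) _ hφ'
    have h2 : (AlgSp.Points.ofPt ((AlgSp.yon S).map
        (Over.homMk i.1.ι rfl : Over.mk (i.1.ι ≫ V.hom) ⟶ V) ≫ φ) ⁻¹'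
          (AlgSp.Points.map f.hom '' E)) =
        (fun v : ↥(Over.mk (i.1.ι ≫ V.hom)).left =>
          AlgSp.Points.ofPt φ (i.1.ι v) ∈ AlgSp.Points.map f.hom '' E) := by
      ext v
      simp only [Set.mem_preimage]
      rw [AlgSp.h5_ofPt_map_comp]
      rfl
    rw [h2] at h1
    exact h1

end Groth.Agent.S9982
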